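import Mathlib

/-!
# A degree bound from a shift inequality (request (E) of project SP, helper6)
-/

open Polynomial Filter

namespace Groth.Agent.Helper27.ShiftDeg

/-- a nonzero rational polynomial which is eventually nonnegative on the naturals has positive
leading coefficient -/
theorem leadingCoeff_pos_of_eventually_nonneg (S : ℚ[X]) (hS : S ≠ 0)
    (h : ∃ N : ℕ, ∀ m : ℕ, N ≤ m → 0 ≤ S.eval (m : ℚ)) : 0 < S.leadingCoeff := by
  by_contra hcon
  have hlc0 : S.leadingCoeff ≠ 0 := leadingCoeff_ne_zero.mpr hS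
  have hlc : S.leadingCoeff < 0 := lt_of_le_of_ne (not_lt.mp hcon) hlc0
  obtain ⟨N, hN⟩ := h
  by_cases hdeg : 0 < S.degree
  · have ht := S.tendsto_atBot_of_leadingCoeff_nonpos hdeg hlc.le
    have ht2 : Tendsto (fun m : ℕ => S.eval (m : ℚ)) atTop atBot :=
      ht.comp tendsto_natCast_atTop_atTop
    have hev := ht2.eventually (eventually_lt_atBot (0 : ℚ))
    obtain ⟨M, hM⟩ := eventually_atTop.mp hev
    have h1 := hM (max M N) (le_max_left _ _)
    have h2 := hN (max M N) (le_max_right _ _)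
    exact absurd h1 (not_lt.mpr h2)
  · have hdeg' : S.degree ≤ 0 := not_lt.mp hdeg
    have hC := eq_C_of_degree_le_zero hdeg'
    have h2 := hN N le_rfl
    rw [hC, eval_C] at h2
    have hlcC : S.leadingCoeff = S.coeff 0 := by
      conv_lhs => rw [hC, leadingCoeff_C]
    rw [hlcC] at hlc
    exact absurd hlc (not_lt.mpr h2)

/-- (E) L1: Mathlib-only. -/
theorem natDegree_lt_of_shift_le (P R : ℚ[X]) (n : ℕ) (hn : 1 ≤ n) (hR : R ≠ 0)
    (hR0 : ∃ N : ℕ, ∀ m : ℕ, N ≤ m → 0 ≤ R.eval (m : ℚ))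
    (h : ∃ N : ℕ, ∀ m : ℕ, N ≤ m →
      (R.comp (X + C (n : ℚ))).eval (m : ℚ) ≤ (P.comp (X + C (n : ℚ))).eval (m : ℚ) - P.eval (m : ℚ)) :
    R.natDegree < P.natDegree := by
  by_contra hcon
  have hle : P.natDegree ≤ R.natDegree := not_lt.mp hcon
  have hq1 : (X + C (n : ℚ) : ℚ[X]).natDegree = 1 := natDegree_X_add_C _
  have hq1' : (X + C (n : ℚ) : ℚ[X]).natDegree ≠ 0 := by rw [hq1]; exact one_ne_zero
  have hqlc : (X + C (n : ℚ) : ℚ[X]).leadingCoeff = 1 := leadingCoeff_X_add_C _
  -- the shifted `R`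
  have hR'nd : (R.comp (X + C (n : ℚ))).natDegree = R.natDegree := by
    rw [natDegree_comp, hq1, mul_one]
  have hR'lc : (R.comp (X + C (n : ℚ))).leadingCoeff = R.leadingCoeff := by
    rw [leadingCoeff_comp hq1', hqlc, one_pow, mul_one]
  have hR'ne : R.comp (X + C (n : ℚ)) ≠ 0 := by
    intro h0
    have : (R.comp (X + C (n : ℚ))).leadingCoeff = 0 := by rw [h0, leadingCoeff_zero]
    rw [hR'lc] at this
    exact hR (leadingCoeff_eq_zero.mp this)
  have hR'deg : (R.comp (X + C (n : ℚ))).degree = R.degree := by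
    rw [degree_eq_natDegree hR'ne, degree_eq_natDegree hR, hR'nd]
  -- the difference `Q`
  have hQdeg : (P.comp (X + C (n : ℚ)) - P).degree < (R.comp (X + C (n : ℚ))).degree := by
    by_cases hP0 : P.natDegree = 0
    · have hPC := eq_C_of_natDegree_eq_zero hP0
      have : P.comp (X + C (n : ℚ)) - P = 0 := by
        rw [hPC, C_comp, sub_self]
      rw [this, degree_zero]
      exact bot_lt_iff_ne_bot.mpr (degree_ne_bot.mpr hR'ne)
    · have hPne : P ≠ 0 := by
        intro h0
        exact hP0 (by rw [h0, natDegree_zero])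
      have hP'nd : (P.comp (X + C (n : ℚ))).natDegree = P.natDegree := by
        rw [natDegree_comp, hq1, mul_one]
      have hP'lc : (P.comp (X + C (n : ℚ))).leadingCoeff = P.leadingCoeff := by
        rw [leadingCoeff_comp hq1', hqlc, one_pow, mul_one]
      have hP'ne : P.comp (X + C (n : ℚ)) ≠ 0 := by
        intro h0
        have : (P.comp (X + C (n : ℚ))).leadingCoeff = 0 := by rw [h0, leadingCoeff_zero]
        rw [hP'lc] at this
        exact hPne (leadingCoeff_eq_zero.mp this)
      have hP'deg : (P.comp (X + C (n : ℚ))).degree = P.degree := by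
        rw [degree_eq_natDegree hP'ne, degree_eq_natDegree hPne, hP'nd]
      have h1 : (P.comp (X + C (n : ℚ)) - P).degree < P.degree :=
        degree_sub_lt_right hP'deg hPne hP'lc
      refine h1.trans_le ?_
      rw [hR'deg, degree_eq_natDegree hPne, degree_eq_natDegree hR]
      exact_mod_cast hle
  -- the polynomial `D = Q - R'`
  have hDlc : ((P.comp (X + C (n : ℚ)) - P) - R.comp (X + C (n : ℚ))).leadingCoeff =
      - R.leadingCoeff := by
    rw [leadingCoeff_sub_of_degree_lt' hQdeg, hR'lc]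
  have hDne : (P.comp (X + C (n : ℚ)) - P) - R.comp (X + C (n : ℚ)) ≠ 0 := by
    intro h0
    have : ((P.comp (X + C (n : ℚ)) - P) - R.comp (X + C (n : ℚ))).leadingCoeff = 0 := by
      rw [h0, leadingCoeff_zero]
    rw [hDlc, neg_eq_zero] at this
    exact hR (leadingCoeff_eq_zero.mp this)
  have hDpos : 0 < ((P.comp (X + C (n : ℚ)) - P) - R.comp (X + C (n : ℚ))).leadingCoeff := by
    apply leadingCoeff_pos_of_eventually_nonneg _ hDne
    obtain ⟨N, hN⟩ := h
    refine ⟨N, fun m hm => ?_⟩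
    have := hN m hm
    rw [eval_sub, eval_sub]
    linarith
  have hRpos : 0 < R.leadingCoeff := leadingCoeff_pos_of_eventually_nonneg R hR hR0
  rw [hDlc] at hDpos
  linarith

end Groth.Agent.Helper27.ShiftDeg
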