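import Mathlib

/-!
# A section of a formally unramified morphism locally of finite type is an open immersion
(request (U2), S5318)
-/

set_option autoImplicit false

universe u

open CategoryTheory CategoryTheory.Limits AlgebraicGeometry

namespace Groth.Agent.Helper27.SecOpen

theorem hasOfPostcomp_isOpenImmersion :
    MorphismProperty.HasOfPostcompProperty @IsOpenImmersion
      (@LocallyOfFiniteType ⊓ @FormallyUnramified) := by
  rw [MorphismProperty.hasOfPostcompProperty_iff_le_diagonal]
  intro X Y f ⟨hft, hfu⟩
  exact inferInstanceAs <| IsOpenImmersion (pullback.diagonal f)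

theorem section_isOpenImmersion {X S : Scheme.{u}} (f : X ⟶ S) [FormallyUnramified f]
    [LocallyOfFiniteType f] (σ : S ⟶ X) (hσ : σ ≫ f = 𝟙 S) : IsOpenImmersion σ := by
  haveI := hasOfPostcomp_isOpenImmersion.{u}
  refine MorphismProperty.of_postcomp (W := @IsOpenImmersion)
    (W' := @LocallyOfFiniteType ⊓ @FormallyUnramified) σ f ⟨‹_›, ‹_›⟩ ?_
  rw [hσ]
  exact inferInstanceAs <| IsOpenImmersion (𝟙 S)

end Groth.Agent.Helper27.SecOpen
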