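import Mathlib
import Groth.Prelude.Def_RegImm
import Groth.Agent.Lib.Helper7.SyntStage
import Groth.Agent.S9287
import Groth.Agent.S9699
import Groth.Agent.Lib.Helper2.LCIComp2

/-!
# Syntomic ring maps and localization away from an element (helper27, for helper2's S6826)
-/

set_option autoImplicit false
set_option linter.style.haveILetI false
universe u
open AlgebraicGeometry

namespace Groth.Agent.Helper27.SyntAway

/-- (S) smooth ring maps are local complete intersections. -/
theorem isLCI_of_smooth {R C : Type u} [CommRing R] [CommRing C] [Algebra R C]
    [Algebra.Smooth R C] : LCI.IsLCI R C := by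
  have h0 : (algebraMap R C).Smooth := RingHom.smooth_algebraMap.mpr inferInstance
  haveI h1 : Smooth (Spec.map (CommRingCat.ofHom (algebraMap R C))) := by
    rw [HasRingHomProperty.Spec_iff (P := @Smooth)]
    exact h0
  have h2 := Groth.Agent.S9699.result (Spec.map (CommRingCat.ofHom (algebraMap R C)))
  rw [Groth.Agent.Helper7.SyntStage.isSyntomicMor_Spec_iff] at h2
  exact ((Groth.Agent.S9287.result R C).mp h2).2

/-- a localization away from an element of a syntomic algebra is syntomic. -/
theorem isSyntomic_away {R S : Type u} [CommRing R] [CommRing S] [Algebra R S] (g : S)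
    (h : Synt.IsSyntomic R S) : Synt.IsSyntomic R (Localization.Away g) := by
  obtain ⟨hfl, hlci⟩ := (Groth.Agent.S9287.result R S).mp h
  haveI := hfl
  haveI : Algebra.Smooth S (Localization.Away g) := Algebra.Smooth.of_isLocalization_Away g
  exact (Groth.Agent.S9287.result R (Localization.Away g)).mpr
    ⟨Module.Flat.trans R S (Localization.Away g),
      Groth.Agent.Helper2.LCIComp.isLCI_trans R S (Localization.Away g) hlci isLCI_of_smooth⟩

/-- (F) -/
theorem isSyntomic_away_mk {R T : Type u} [CommRing R] [CommRing T] [Algebra R T] (J : Ideal T)
    (s : T)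
    (h : Synt.IsSyntomic R
      (Localization.Away s ⧸ J.map (algebraMap T (Localization.Away s)))) :
    Synt.IsSyntomic R (Localization.Away (Ideal.Quotient.mk J s)) := by
  have h0 : IsLocalization (Algebra.algebraMapSubmonoid (T ⧸ J) (Submonoid.powers s))
      (Localization.Away s ⧸ J.map (algebraMap T (Localization.Away s))) := inferInstance
  rw [Algebra.algebraMapSubmonoid_powers, Ideal.Quotient.algebraMap_eq] at h0
  haveI := h0
  haveI : IsScalarTower R (T ⧸ J)
      (Localization.Away s ⧸ J.map (algebraMap T (Localization.Away s))) :=
    IsScalarTower.of_algebraMap_eq fun r => by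
      rw [IsScalarTower.algebraMap_apply R T (T ⧸ J)]
      rfl
  let e : (Localization.Away s ⧸ J.map (algebraMap T (Localization.Away s))) ≃ₐ[T ⧸ J]
      Localization.Away (Ideal.Quotient.mk J s) :=
    IsLocalization.algEquiv (Submonoid.powers (Ideal.Quotient.mk J s)) _ _
  exact Groth.Agent.Helper7.SyntStage.isSyntomic_of_algEquiv (e.restrictScalars R) h

/-- (H) -/
theorem isSyntomic_away_of_away {R B : Type u} [CommRing R] [CommRing B] [Algebra R B] (x y : B)
    (h : Synt.IsSyntomic R (Localization.Away x)) :
    Synt.IsSyntomic R (Localization.Away (algebraMap B (Localization.Away y) x)) := by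
  have h1 : Synt.IsSyntomic R (Localization.Away (algebraMap B (Localization.Away x) y)) :=
    isSyntomic_away _ h
  haveI : IsScalarTower R B (Localization.Away (algebraMap B (Localization.Away x) y)) :=
    inferInstance
  haveI : IsScalarTower R B (Localization.Away (algebraMap B (Localization.Away y) x)) :=
    inferInstance
  haveI i1 : IsLocalization.Away (x * y)
      (Localization.Away (algebraMap B (Localization.Away x) y)) := inferInstance
  haveI i2 : IsLocalization.Away (x * y)
      (Localization.Away (algebraMap B (Localization.Away y) x)) := inferInstance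
  let e : Localization.Away (algebraMap B (Localization.Away x) y) ≃ₐ[B]
      Localization.Away (algebraMap B (Localization.Away y) x) :=
    IsLocalization.algEquiv (Submonoid.powers (x * y)) _ _
  exact Groth.Agent.Helper7.SyntStage.isSyntomic_of_algEquiv (e.restrictScalars R) h1

end Groth.Agent.Helper27.SyntAway
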