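import Mathlib

/-! The Segre product of two graded algebras of finite type over a field is Noetherian. -/

namespace Groth.Agent.Helper27.Segre
open TensorProduct DirectSum

variable {k : Type*} [Field k] {R : Type*} [CommRing R] [Algebra k R] (𝒜 : ℤ → Submodule k R)
  [GradedAlgebra 𝒜] {S : Type*} [CommRing S] [Algebra k S] (ℬ : ℤ → Submodule k S)
  [GradedAlgebra ℬ]

/-- the bilinear map `(a, b) ↦ Σ_n a_n ⊗ b_n` -/
noncomputable def Bil : R →ₗ[k] S →ₗ[k] R ⊗[k] S :=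
  (DirectSum.toModule k ℤ (S →ₗ[k] R ⊗[k] S) (fun n =>
    (LinearMap.lcomp k (R ⊗[k] S) (GradedAlgebra.proj ℬ n)) ∘ₗ (TensorProduct.mk k R S) ∘ₗ
      (𝒜 n).subtype)) ∘ₗ (DirectSum.decomposeLinearEquiv 𝒜).toLinearMap

/-- the projection onto the diagonal part -/
noncomputable def ρ : R ⊗[k] S →ₗ[k] R ⊗[k] S := TensorProduct.lift (Bil 𝒜 ℬ)

lemma ρ_tmul_of_mem {p : ℤ} {a : R} (ha : a ∈ 𝒜 p) (b : S) :
    ρ 𝒜 ℬ (a ⊗ₜ b) = a ⊗ₜ (GradedAlgebra.proj ℬ p b) := by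
  unfold ρ Bil
  rw [TensorProduct.lift.tmul]
  simp only [LinearMap.coe_comp, LinearEquiv.coe_coe, Function.comp_apply,
    DirectSum.decomposeLinearEquiv_apply]
  rw [DirectSum.decompose_of_mem 𝒜 ha]
  erw [DirectSum.toModule_lof]
  simp

lemma ρ_tmul_of_mem_mem {p q : ℤ} {a : R} (ha : a ∈ 𝒜 p) {b : S} (hb : b ∈ ℬ q) :
    ρ 𝒜 ℬ (a ⊗ₜ b) = if p = q then a ⊗ₜ b else 0 := by
  rw [ρ_tmul_of_mem 𝒜 ℬ ha, GradedAlgebra.proj_apply]
  split_ifs with h
  · subst h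
    rw [DirectSum.decompose_of_mem_same ℬ hb]
  · rw [DirectSum.decompose_of_mem_ne ℬ hb (Ne.symm h), TensorProduct.tmul_zero]

/-- the diagonal pieces -/
def Dg (n : ℤ) : Submodule k (R ⊗[k] S) :=
  Submodule.span k {x : R ⊗[k] S | ∃ a ∈ 𝒜 n, ∃ b ∈ ℬ n, x = a ⊗ₜ[k] b}

/-- reduction to homogeneous pure tensors -/
lemma tensor_hom_induction {motive : R ⊗[k] S → Prop} (zero : motive 0)
    (hom : ∀ (p q : ℤ) (a : R) (b : S), a ∈ 𝒜 p → b ∈ ℬ q → motive (a ⊗ₜ b))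
    (add : ∀ x y, motive x → motive y → motive (x + y)) : ∀ x, motive x := by
  intro x
  induction x using TensorProduct.induction_on with
  | zero => exact zero
  | add x y hx hy => exact add x y hx hy
  | tmul a b =>
    induction a using DirectSum.Decomposition.inductionOn 𝒜 with
    | zero => rw [TensorProduct.zero_tmul]; exact zero
    | add a a' ha ha' => rw [TensorProduct.add_tmul]; exact add _ _ ha ha'
    | @homogeneous p a =>
      induction b using DirectSum.Decomposition.inductionOn ℬ with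
      | zero => rw [TensorProduct.tmul_zero]; exact zero
      | add b b' hb hb' => rw [TensorProduct.tmul_add]; exact add _ _ hb hb'
      | @homogeneous q b => exact hom p q a b a.2 b.2

lemma ρ_mem (x : R ⊗[k] S) : ρ 𝒜 ℬ x ∈ ⨆ n, Dg 𝒜 ℬ n := by
  induction x using tensor_hom_induction 𝒜 ℬ with
  | zero => simp
  | add x y hx hy => rw [map_add]; exact Submodule.add_mem _ hx hy
  | hom p q a b ha hb =>
    rw [ρ_tmul_of_mem_mem 𝒜 ℬ ha hb]
    split_ifs with h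
    · subst h
      exact Submodule.mem_iSup_of_mem p (Submodule.subset_span ⟨a, ha, b, hb, rfl⟩)
    · exact Submodule.zero_mem _

lemma ρ_of_mem_Dg {n : ℤ} {y : R ⊗[k] S} (hy : y ∈ Dg 𝒜 ℬ n) : ρ 𝒜 ℬ y = y := by
  induction hy using Submodule.span_induction with
  | mem x hx =>
    obtain ⟨a, ha, b, hb, rfl⟩ := hx
    rw [ρ_tmul_of_mem_mem 𝒜 ℬ ha hb, if_pos rfl]
  | zero => simp
  | add x y _ _ hx hy => rw [map_add, hx, hy]
  | smul c x _ hx => rw [map_smul, hx]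

lemma ρ_mul_of_mem_Dg {n : ℤ} {y : R ⊗[k] S} (hy : y ∈ Dg 𝒜 ℬ n) (x : R ⊗[k] S) :
    ρ 𝒜 ℬ (y * x) = y * ρ 𝒜 ℬ x := by
  induction hy using Submodule.span_induction with
  | mem y hy =>
    obtain ⟨a', ha', b', hb', rfl⟩ := hy
    induction x using tensor_hom_induction 𝒜 ℬ with
    | zero => simp
    | add x y hx hy => rw [mul_add, map_add, hx, hy, map_add, mul_add]
    | hom p q a b ha hb =>
      rw [Algebra.TensorProduct.tmul_mul_tmul,
        ρ_tmul_of_mem_mem 𝒜 ℬ (SetLike.mul_mem_graded ha' ha) (SetLike.mul_mem_graded hb' hb),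
        ρ_tmul_of_mem_mem 𝒜 ℬ ha hb]
      by_cases h : p = q
      · subst h
        rw [if_pos rfl, if_pos rfl, Algebra.TensorProduct.tmul_mul_tmul]
      · rw [if_neg h, if_neg (by omega), mul_zero]
  | zero => simp
  | add y y' _ _ hy hy' => rw [add_mul, map_add, hy, hy', add_mul]
  | smul c y _ hy => rw [smul_mul_assoc, map_smul, hy, smul_mul_assoc]

section main
variable {T : Type*} [CommRing T] [Algebra k T] (𝒯 : ℤ → Submodule k T) [GradedAlgebra 𝒯]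
  (ψ : T →ₐ[k] R ⊗[k] S)
  (hdegT : ∀ n : ℤ, (𝒯 n).map ψ.toLinearMap = Dg 𝒜 ℬ n)
include hdegT

lemma ψ_mem_Dg {n : ℤ} {t : T} (ht : t ∈ 𝒯 n) : ψ t ∈ Dg 𝒜 ℬ n := by
  rw [← hdegT n]
  exact Submodule.mem_map_of_mem ht

lemma ρ_ψ (t : T) : ρ 𝒜 ℬ (ψ t) = ψ t := by
  induction t using DirectSum.Decomposition.inductionOn 𝒯 with
  | zero => simp
  | add a a' ha ha' => rw [map_add, map_add, ha, ha']
  | @homogeneous n t => exact ρ_of_mem_Dg 𝒜 ℬ (ψ_mem_Dg 𝒜 ℬ 𝒯 ψ hdegT t.2)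

lemma ρ_ψ_mul (t : T) (x : R ⊗[k] S) : ρ 𝒜 ℬ (ψ t * x) = ψ t * ρ 𝒜 ℬ x := by
  induction t using DirectSum.Decomposition.inductionOn 𝒯 with
  | zero => simp
  | add a a' ha ha' => rw [map_add, add_mul, map_add, ha, ha', add_mul]
  | @homogeneous n t => exact ρ_mul_of_mem_Dg 𝒜 ℬ (ψ_mem_Dg 𝒜 ℬ 𝒯 ψ hdegT t.2) x

lemma ρ_mem_range (x : R ⊗[k] S) : ρ 𝒜 ℬ x ∈ LinearMap.range ψ.toLinearMap := by
  have h := ρ_mem 𝒜 ℬ x
  have hle : (⨆ n, Dg 𝒜 ℬ n) ≤ LinearMap.range ψ.toLinearMap := by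
    apply iSup_le
    intro n
    rw [← hdegT n]
    exact LinearMap.map_le_range
  exact hle h

/-- contraction of the extension of an ideal -/
lemma comap_map (hψ : Function.Injective ψ) (I : Ideal T) :
    Ideal.comap ψ.toRingHom (Ideal.map ψ.toRingHom I) = I := by
  apply le_antisymm _ Ideal.le_comap_map
  intro t ht
  rw [Ideal.mem_comap] at ht
  have key : ∀ y ∈ Ideal.map ψ.toRingHom I, ∀ c : R ⊗[k] S, ∃ i ∈ I, ρ 𝒜 ℬ (c * y) = ψ i := by
    intro y hy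
    unfold Ideal.map at hy
    induction hy using Submodule.span_induction with
    | mem y hy =>
      obtain ⟨i, hi, rfl⟩ := hy
      intro c
      obtain ⟨t', ht'⟩ := ρ_mem_range 𝒜 ℬ 𝒯 ψ hdegT c
      refine ⟨i * t', I.mul_mem_right _ hi, ?_⟩
      have : (ψ.toRingHom i) = ψ i := rfl
      rw [this, mul_comm, ρ_ψ_mul 𝒜 ℬ 𝒯 ψ hdegT, map_mul, ← ht']
      rfl
    | zero => intro c; exact ⟨0, I.zero_mem, by simp⟩
    | add y y' _ _ hy hy' =>
      intro c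
      obtain ⟨i, hi, e⟩ := hy c
      obtain ⟨i', hi', e'⟩ := hy' c
      exact ⟨i + i', I.add_mem hi hi', by rw [mul_add, map_add, e, e', map_add]⟩
    | smul c' y _ hy =>
      intro c
      obtain ⟨i, hi, e⟩ := hy (c * c')
      exact ⟨i, hi, by rw [smul_eq_mul, ← mul_assoc, e]⟩
  obtain ⟨i, hi, e⟩ := key _ ht 1
  rw [one_mul] at e
  have : (ψ.toRingHom t) = ψ t := rfl
  rw [this, ρ_ψ 𝒜 ℬ 𝒯 ψ hdegT] at e
  rw [hψ e]
  exact hi

theorem isNoetherianRing [Algebra.FiniteType k R] [Algebra.FiniteType k S]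
    (hψ : Function.Injective ψ) : IsNoetherianRing T := by
  have hP : IsNoetherianRing (R ⊗[k] S) := by
    have h1 : Algebra.FiniteType R (R ⊗[k] S) := inferInstance
    have h0 : Algebra.FiniteType k R := inferInstance
    have h2 : Algebra.FiniteType k (R ⊗[k] S) := Algebra.FiniteType.trans h0 h1
    exact Algebra.FiniteType.isNoetherianRing k _
  rw [isNoetherianRing_iff_ideal_fg]
  intro I
  have hfg : (Ideal.map ψ.toRingHom I).FG := IsNoetherian.noetherian _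
  unfold Ideal.map at hfg
  classical
  obtain ⟨s', hs', hspan⟩ := (Submodule.fg_span_iff_fg_span_finset_subset _).mp hfg
  obtain ⟨I₀, hI₀, rfl⟩ := Finset.subset_set_image_iff.mp hs'
  refine ⟨I₀, ?_⟩
  have h1 : Ideal.map ψ.toRingHom (Ideal.span (I₀ : Set T)) = Ideal.map ψ.toRingHom I := by
    rw [Ideal.map_span]
    show Submodule.span _ _ = Submodule.span _ _
    rw [hspan]
    congr 1
    simp
  have h2 := comap_map 𝒜 ℬ 𝒯 ψ hdegT hψ (Ideal.span (I₀ : Set T))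
  rw [h1, comap_map 𝒜 ℬ 𝒯 ψ hdegT hψ I] at h2
  exact h2.symm

end main

end Groth.Agent.Helper27.Segre
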