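import Mathlib
import Groth.Prelude.Def_W4c6gradedringsgwSect
import Groth.Agent.Lib.Helper16.FF.AutA
import Groth.Agent.Lib.Helper16.FF.Gap2

set_option autoImplicit false

namespace Groth.Agent.Helper27.GrSect

open FunFld Polynomial W4c6gradedringsgw Groth.Agent.Helper16.FF
open scoped WithZero

variable {k K : Type*} [Field k] [Field K] [Algebra k K]

/-! ### residue constants at a place -/

open Classical in
/-- the residue constant of `x` at `P` (junk `0` when there is none) -/
noncomputable def res (P : Place k K) (x : K) : k :=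
  if h : ∃ c : k, P.1 (x - algebraMap k K c) < 1 then h.choose else 0

theorem res_eq_of_lt (P : Place k K) {x : K} {c : k} (h : P.1 (x - algebraMap k K c) < 1) :
    res P x = c := by
  have hex : ∃ c : k, P.1 (x - algebraMap k K c) < 1 := ⟨c, h⟩
  unfold res
  rw [dif_pos hex]
  have h' := hex.choose_spec
  set d := hex.choose with hd
  by_contra hne
  have hne' : d - c ≠ 0 := sub_ne_zero.2 hne
  have h1 := Place.val_algebraMap P hne'
  have h2 : algebraMap k K (d - c) = (x - algebraMap k K c) - (x - algebraMap k K d) := by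
    rw [map_sub]; ring
  rw [h2] at h1
  have h3 := P.1.map_sub (x - algebraMap k K c) (x - algebraMap k K d)
  rw [h1] at h3
  exact absurd h3 (not_le.2 (max_lt h h'))

theorem res_spec (hK : IsFunctionField k K) {P : Place k K} (hP : P.deg = 1) {x : K}
    (hx : P.1 x ≤ 1) : P.1 (x - algebraMap k K (res P x)) < 1 := by
  obtain ⟨c, hc⟩ := exists_const_sub_lt_one hK hP hx
  rw [res_eq_of_lt P hc]; exact hc

theorem res_zero (P : Place k K) : res P (0 : K) = 0 :=
  res_eq_of_lt P (by simp)

theorem res_algebraMap (P : Place k K) (c : k) : res P (algebraMap k K c) = c :=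
  res_eq_of_lt P (by simp)

theorem res_one (P : Place k K) : res P (1 : K) = 1 := by
  have := res_algebraMap P (1 : k)
  rwa [map_one] at this

theorem res_eq_zero_of_lt (P : Place k K) {x : K} (hx : P.1 x < 1) : res P x = 0 :=
  res_eq_of_lt P (by simpa using hx)

theorem res_eq_zero_iff (hK : IsFunctionField k K) {P : Place k K} (hP : P.deg = 1) {x : K}
    (hx : P.1 x ≤ 1) : res P x = 0 ↔ P.1 x < 1 := by
  constructor
  · intro h
    have := res_spec hK hP hx
    rwa [h, map_zero, sub_zero] at this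
  · exact res_eq_zero_of_lt P

theorem res_add (hK : IsFunctionField k K) {P : Place k K} (hP : P.deg = 1) {x y : K}
    (hx : P.1 x ≤ 1) (hy : P.1 y ≤ 1) : res P (x + y) = res P x + res P y := by
  apply res_eq_of_lt
  have h1 := res_spec hK hP hx
  have h2 := res_spec hK hP hy
  have : x + y - algebraMap k K (res P x + res P y) =
      (x - algebraMap k K (res P x)) + (y - algebraMap k K (res P y)) := by
    rw [map_add]; ring
  rw [this]
  exact lt_of_le_of_lt (P.1.map_add _ _) (max_lt h1 h2)

theorem res_mul (hK : IsFunctionField k K) {P : Place k K} (hP : P.deg = 1) {x y : K}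
    (hx : P.1 x ≤ 1) (hy : P.1 y ≤ 1) : res P (x * y) = res P x * res P y := by
  apply res_eq_of_lt
  have h1 := res_spec hK hP hx
  have h2 := res_spec hK hP hy
  have : x * y - algebraMap k K (res P x * res P y) =
      (x - algebraMap k K (res P x)) * y + algebraMap k K (res P x) * (y - algebraMap k K (res P y)) := by
    rw [map_mul]; ring
  rw [this]
  refine lt_of_le_of_lt (P.1.map_add _ _) (max_lt ?_ ?_)
  · rw [map_mul]
    calc P.1 (x - algebraMap k K (res P x)) * P.1 y ≤ P.1 (x - algebraMap k K (res P x)) * 1 :=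
          mul_le_mul' le_rfl hy
      _ < 1 := by rw [mul_one]; exact h1
  · rw [map_mul]
    calc P.1 (algebraMap k K (res P x)) * P.1 (y - algebraMap k K (res P y))
        ≤ 1 * P.1 (y - algebraMap k K (res P y)) := mul_le_mul' (P.2.1 _) le_rfl
      _ < 1 := by rw [one_mul]; exact h2

theorem res_smul (hK : IsFunctionField k K) {P : Place k K} (hP : P.deg = 1) (c : k) {x : K}
    (hx : P.1 x ≤ 1) : res P (c • x) = c * res P x := by
  rw [Algebra.smul_def, res_mul hK hP (P.2.1 c) hx, res_algebraMap]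

theorem res_sum (hK : IsFunctionField k K) {P : Place k K} (hP : P.deg = 1) {ι : Type*}
    (s : Finset ι) (f : ι → K) (hf : ∀ i ∈ s, P.1 (f i) ≤ 1) :
    P.1 (∑ i ∈ s, f i) ≤ 1 ∧ res P (∑ i ∈ s, f i) = ∑ i ∈ s, res P (f i) := by
  classical
  induction s using Finset.induction_on with
  | empty => simp [res_zero]
  | insert a s ha ih =>
    have h1 := hf a (Finset.mem_insert_self a s)
    obtain ⟨h2, h3⟩ := ih fun i hi => hf i (Finset.mem_insert_of_mem hi)
    rw [Finset.sum_insert ha, Finset.sum_insert ha]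
    exact ⟨(P.1.map_add _ _).trans (max_le h1 h2), by rw [res_add hK hP h1 h2, h3]⟩

/-! ### valuation arithmetic -/

theorem exp_mul_le_one_iff (n : ℤ) (a : ℤᵐ⁰) : WithZero.exp (-n) * a ≤ 1 ↔ a ≤ WithZero.exp n := by
  rcases eq_or_ne a 0 with rfl | ha
  · simp
  · obtain ⟨m, rfl⟩ : ∃ m, a = WithZero.exp m := ⟨WithZero.log a, (WithZero.exp_log ha).symm⟩
    rw [← WithZero.exp_add, ← WithZero.exp_zero, WithZero.exp_le_exp, WithZero.exp_le_exp]
    omega

theorem exp_mul_lt_one_iff (n : ℤ) (a : ℤᵐ⁰) : WithZero.exp (-n) * a < 1 ↔ a < WithZero.exp n := by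
  rcases eq_or_ne a 0 with rfl | ha
  · simp
  · obtain ⟨m, rfl⟩ : ∃ m, a = WithZero.exp m := ⟨WithZero.log a, (WithZero.exp_log ha).symm⟩
    rw [← WithZero.exp_add, ← WithZero.exp_zero, WithZero.exp_lt_exp, WithZero.exp_lt_exp]
    omega

theorem val_pow_mul (P : Place k K) {π : K} (hπ : P.1 π = WithZero.exp (-1 : ℤ)) (n : ℕ) (x : K) :
    P.1 (π ^ n * x) = WithZero.exp (-(n : ℤ)) * P.1 x := by
  rw [map_mul, map_pow, hπ, ← WithZero.exp_nsmul]
  congr 2
  simp

theorem val_pow_mul_le_one_iff (P : Place k K) {π : K} (hπ : P.1 π = WithZero.exp (-1 : ℤ)) (n : ℕ)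
    (x : K) : P.1 (π ^ n * x) ≤ 1 ↔ P.1 x ≤ WithZero.exp (n : ℤ) := by
  rw [val_pow_mul P hπ, exp_mul_le_one_iff]

theorem val_pow_mul_lt_one_iff (P : Place k K) {π : K} (hπ : P.1 π = WithZero.exp (-1 : ℤ)) (n : ℕ)
    (x : K) : P.1 (π ^ n * x) < 1 ↔ P.1 x < WithZero.exp (n : ℤ) := by
  rw [val_pow_mul P hπ, exp_mul_lt_one_iff]

theorem val_pow_mul_eq_one_iff (P : Place k K) {π : K} (hπ : P.1 π = WithZero.exp (-1 : ℤ)) (n : ℕ)
    (x : K) : P.1 (π ^ n * x) = 1 ↔ P.1 x = WithZero.exp (n : ℤ) := by
  constructor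
  · intro h
    refine le_antisymm ((val_pow_mul_le_one_iff P hπ n x).1 h.le) ?_
    by_contra hlt
    push Not at hlt
    exact absurd h ((val_pow_mul_lt_one_iff P hπ n x).2 hlt).ne
  · intro h
    refine le_antisymm ((val_pow_mul_le_one_iff P hπ n x).2 h.le) ?_
    by_contra hlt
    push Not at hlt
    exact absurd h ((val_pow_mul_lt_one_iff P hπ n x).1 hlt).ne

/-! ### spaces `L(nP)` -/

theorem smul_single_one (P : Place k K) (n : ℤ) :
    n • (Finsupp.single P 1 : Divisor k K) = Finsupp.single P n := by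
  rw [Finsupp.smul_single, smul_eq_mul, mul_one]

theorem mem_L_single_iff (P : Place k K) (n : ℤ) (x : K) :
    x ∈ L (Finsupp.single P n : Divisor k K) ↔
      P.1 x ≤ WithZero.exp n ∧ ∀ Q : Place k K, Q ≠ P → Q.1 x ≤ 1 := by
  rw [mem_L]
  constructor
  · intro h
    refine ⟨by simpa using h P, fun Q hQ => ?_⟩
    have := h Q
    rwa [single_apply_ne hQ, WithZero.exp_zero] at this
  · rintro ⟨h1, h2⟩ Q
    by_cases hQ : Q = P
    · subst hQ; simpa using h1
    · rw [single_apply_ne hQ, WithZero.exp_zero]; exact h2 Q hQ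

theorem mem_L_single_of_le (P : Place k K) {m n : ℤ} {x : K}
    (hx : x ∈ L (Finsupp.single P n : Divisor k K)) (h : P.1 x ≤ WithZero.exp m) :
    x ∈ L (Finsupp.single P m : Divisor k K) := by
  rw [mem_L_single_iff] at hx ⊢
  exact ⟨h, hx.2⟩

theorem L_single_mono (P : Place k K) {m n : ℤ} (h : m ≤ n) :
    L (Finsupp.single P m : Divisor k K) ≤ L (Finsupp.single P n) := by
  intro x hx
  rw [mem_L_single_iff] at hx ⊢
  exact ⟨hx.1.trans (WithZero.exp_le_exp.2 h), hx.2⟩

theorem mul_mem_L_single (P : Place k K) {m n : ℤ} {x y : K}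
    (hx : x ∈ L (Finsupp.single P m : Divisor k K)) (hy : y ∈ L (Finsupp.single P n : Divisor k K)) :
    x * y ∈ L (Finsupp.single P (m + n) : Divisor k K) := by
  have := mul_mem_L hx hy
  rwa [← Finsupp.single_add] at this

theorem L_single_neg (hK : IsFunctionField k K) (P : Place k K) {n : ℤ} (hn : n < 0) :
    L (Finsupp.single P n : Divisor k K) = ⊥ := by
  apply L_eq_bot_of_deg_neg hK
  rw [Divisor.deg_single]
  have := Place.deg_pos hK P
  have h2 : (0 : ℤ) < (P.deg : ℤ) := by exact_mod_cast this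
  exact mul_neg_of_neg_of_pos hn h2

theorem mem_L_zero_iff (hK : IsFunctionField k K) (x : K) :
    x ∈ L (0 : Divisor k K) ↔ ∃ c : k, algebraMap k K c = x := by
  rw [L_zero_eq_one hK, Submodule.mem_one]

theorem L_single_one_eq (hK : IsFunctionField k K) (hg : 0 < genus k K) {P : Place k K}
    (hP : P.deg = 1) : L (Finsupp.single P 1 : Divisor k K) = L (0 : Divisor k K) := by
  have hle : L (0 : Divisor k K) ≤ L (Finsupp.single P 1 : Divisor k K) := by
    have := L_single_mono P (show (0 : ℤ) ≤ 1 by norm_num)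
    rwa [Finsupp.single_zero] at this
  have := finiteDimensional_L hK (Finsupp.single P 1 : Divisor k K)
  symm
  apply Submodule.eq_of_le_of_finrank_eq hle
  have h1 := ell_single_one_of_genus_pos hK hg hP
  have h2 := ell_zero (k := k) (K := K) hK
  unfold ell at h1 h2
  rw [h1, h2]

/-! ### the Weierstrass semigroup -/

theorem mem_poleOrders_iff_not_isGap (hK : IsFunctionField k K) {P : Place k K} (hP : P.deg = 1)
    (n : ℕ) : n ∈ poleOrders P ↔ ¬ IsGap P n := by
  unfold poleOrders
  rw [Set.mem_ofPred_eq, smul_single_one, smul_single_one]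
  cases n with
  | zero =>
    have h1 : ell (Finsupp.single P ((0 : ℕ) : ℤ) : Divisor k K) = 1 := by
      rw [Nat.cast_zero, Finsupp.single_zero]; exact ell_zero hK
    have h2 : ell (Finsupp.single P (((0 : ℕ) : ℤ) - 1) : Divisor k K) = 0 := by
      unfold ell
      rw [L_single_neg hK P (by norm_num)]
      exact finrank_bot k K
    rw [h1, h2]
    simp only [zero_add, true_iff]
    intro hgap
    unfold IsGap at hgap
    rw [L_single_neg hK P (n := ((0 : ℕ) : ℤ) - 1) (by norm_num)] at hgap
    have h3 : ell (Finsupp.single P ((0 : ℕ) : ℤ) : Divisor k K) = 0 := by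
      unfold ell
      rw [hgap]; exact finrank_bot k K
    omega
  | succ m =>
    have h := ell_single_succ hK hP m
    have e : ((m + 1 : ℕ) : ℤ) - 1 = (m : ℤ) := by push_cast; ring
    rw [e]
    split_ifs at h with hgap
    · constructor
      · intro h'; omega
      · intro h'; exact absurd hgap h'
    · constructor
      · intro _; exact hgap
      · intro _; omega

theorem mem_poleOrders_iff (hK : IsFunctionField k K) {P : Place k K} (hP : P.deg = 1) (n : ℕ) :
    n ∈ poleOrders P ↔ ∃ x : K, x ∈ L (Finsupp.single P (n : ℤ) : Divisor k K) ∧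
      P.1 x = WithZero.exp (n : ℤ) := by
  rw [mem_poleOrders_iff_not_isGap hK hP, not_isGap_iff]

theorem zero_mem_poleOrders (hK : IsFunctionField k K) {P : Place k K} (hP : P.deg = 1) :
    0 ∈ poleOrders P := by
  rw [mem_poleOrders_iff hK hP]
  refine ⟨1, ?_, by simp⟩
  rw [Nat.cast_zero, Finsupp.single_zero, mem_L_zero_iff hK]
  exact ⟨1, map_one _⟩

theorem add_mem_poleOrders (hK : IsFunctionField k K) {P : Place k K} (hP : P.deg = 1) {m n : ℕ}
    (hm : m ∈ poleOrders P) (hn : n ∈ poleOrders P) : m + n ∈ poleOrders P := by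
  rw [mem_poleOrders_iff_not_isGap hK hP] at hm hn ⊢
  exact not_isGap_add P hm hn

theorem one_not_mem_poleOrders (hK : IsFunctionField k K) (hg : 0 < genus k K) {P : Place k K}
    (hP : P.deg = 1) : 1 ∉ poleOrders P := by
  rw [mem_poleOrders_iff hK hP]
  rintro ⟨x, hx, hv⟩
  rw [Nat.cast_one, L_single_one_eq hK hg hP, mem_L_zero_iff hK] at hx
  obtain ⟨c, rfl⟩ := hx
  have := P.2.1 c
  rw [hv, ← WithZero.exp_zero, WithZero.exp_le_exp] at this
  omega

theorem closure_poleOrders (hK : IsFunctionField k K) {P : Place k K} (hP : P.deg = 1) :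
    (AddSubmonoid.closure (poleOrders P) : Set ℕ) = poleOrders P := by
  let H : AddSubmonoid ℕ :=
    { carrier := poleOrders P
      add_mem' := fun ha hb => add_mem_poleOrders hK hP ha hb
      zero_mem' := zero_mem_poleOrders hK hP }
  have : AddSubmonoid.closure (H : Set ℕ) = H := AddSubmonoid.closure_eq H
  show (AddSubmonoid.closure (H : Set ℕ) : Set ℕ) = (H : Set ℕ)
  rw [this]

theorem mem_poleOrders_of_large (hK : IsFunctionField k K) {P : Place k K} (hP : P.deg = 1) {n : ℕ}
    (hn : 2 * genus k K ≤ n) (hn1 : 1 ≤ n) : n ∈ poleOrders P := by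
  unfold poleOrders
  rw [Set.mem_ofPred_eq, smul_single_one, smul_single_one]
  have h1 := ell_eq_of_large hK (D := (Finsupp.single P (n : ℤ) : Divisor k K))
    (by rw [Divisor.deg_single, hP]; push_cast; omega)
  have h2 := ell_eq_of_large hK (D := (Finsupp.single P ((n : ℤ) - 1) : Divisor k K))
    (by rw [Divisor.deg_single, hP]; push_cast; omega)
  rw [Divisor.deg_single, hP] at h1 h2
  push_cast at h1 h2
  have : (ell (Finsupp.single P (n : ℤ) : Divisor k K) : ℤ) =
      (ell (Finsupp.single P ((n : ℤ) - 1) : Divisor k K) : ℤ) + 1 := by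
    rw [h1, h2]; ring
  exact_mod_cast this

end Groth.Agent.Helper27.GrSect
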