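import Mathlib
import Groth.Agent.Lib.Helper27.GrSectA

set_option autoImplicit false

namespace Groth.Agent.Helper27.GrSect

open FunFld Polynomial W4c6gradedringsgw Groth.Agent.Helper16.FF
open scoped WithZero

variable {k K : Type*} [Field k] [Field K] [Algebra k K]

/-- the section ring of a point divisor -/
noncomputable abbrev RP (P : Place k K) : Subalgebra k K[X] := sectRing (Finsupp.single P 1 : Divisor k K)

theorem mem_RP (P : Place k K) (p : K[X]) :
    p ∈ RP P ↔ ∀ n : ℕ, p.coeff n ∈ L (Finsupp.single P (n : ℤ) : Divisor k K) := by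
  have : p ∈ RP P ↔ ∀ n : ℕ, p.coeff n ∈ L ((n : ℤ) • (Finsupp.single P 1 : Divisor k K)) := Iff.rfl
  rw [this]
  simp only [smul_single_one]

theorem coeff_mem (P : Place k K) (p : RP P) (n : ℕ) :
    (p : K[X]).coeff n ∈ L (Finsupp.single P (n : ℤ) : Divisor k K) :=
  (mem_RP P p.1).1 p.2 n

theorem coeff_val_le (P : Place k K) (p : RP P) (n : ℕ) :
    P.1 ((p : K[X]).coeff n) ≤ WithZero.exp (n : ℤ) :=
  ((mem_L_single_iff P n _).1 (coeff_mem P p n)).1

theorem twist_le_one (P : Place k K) {π : K} (hπ : P.1 π = WithZero.exp (-1 : ℤ)) (p : RP P) (n : ℕ) :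
    P.1 (π ^ n * (p : K[X]).coeff n) ≤ 1 :=
  (val_pow_mul_le_one_iff P hπ n _).2 (coeff_val_le P p n)

/-- the leading-coefficient map on polynomials -/
noncomputable def phiFun (P : Place k K) (π : K) (p : K[X]) : k[X] :=
  ∑ n ∈ p.support, monomial n (res P (π ^ n * p.coeff n))

theorem phiFun_coeff (P : Place k K) (π : K) (p : K[X]) (n : ℕ) :
    (phiFun P π p).coeff n = res P (π ^ n * p.coeff n) := by
  unfold phiFun
  rw [Polynomial.finsetSum_coeff]
  simp only [coeff_monomial]
  rw [Finset.sum_ite_eq']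
  split_ifs with h
  · rfl
  · rw [Polynomial.notMem_support_iff.1 h, mul_zero, res_zero]

/-- the leading-coefficient homomorphism `R_P → k[X]` -/
noncomputable def phi (hK : IsFunctionField k K) {P : Place k K} (hP : P.deg = 1) {π : K}
    (hπ : P.1 π = WithZero.exp (-1 : ℤ)) : RP P →ₐ[k] k[X] where
  toFun p := phiFun P π p.1
  map_one' := by
    ext n
    rw [phiFun_coeff]
    show res P (π ^ n * (1 : K[X]).coeff n) = (1 : k[X]).coeff n
    rw [coeff_one, coeff_one]
    split_ifs with h
    · subst h; simp [res_one]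
    · simp [res_zero]
  map_mul' p q := by
    ext n
    rw [phiFun_coeff, coeff_mul]
    show res P (π ^ n * ((p : K[X]) * (q : K[X])).coeff n) = _
    rw [coeff_mul, Finset.mul_sum]
    have hterm : ∀ x ∈ Finset.HasAntidiagonal.antidiagonal n,
        π ^ n * ((p : K[X]).coeff x.1 * (q : K[X]).coeff x.2) =
          (π ^ x.1 * (p : K[X]).coeff x.1) * (π ^ x.2 * (q : K[X]).coeff x.2) := by
      intro x hx
      rw [← Finset.HasAntidiagonal.mem_antidiagonal.1 hx, pow_add]; ring
    rw [Finset.sum_congr rfl hterm]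
    have hle : ∀ x ∈ Finset.HasAntidiagonal.antidiagonal n,
        P.1 ((π ^ x.1 * (p : K[X]).coeff x.1) * (π ^ x.2 * (q : K[X]).coeff x.2)) ≤ 1 := by
      intro x _
      rw [map_mul]
      exact mul_le_one' (twist_le_one P hπ p x.1) (twist_le_one P hπ q x.2)
    rw [(res_sum hK hP _ _ hle).2]
    refine Finset.sum_congr rfl fun x _ => ?_
    rw [res_mul hK hP (twist_le_one P hπ p x.1) (twist_le_one P hπ q x.2), phiFun_coeff,
      phiFun_coeff]
  map_zero' := by
    ext n
    rw [phiFun_coeff]
    show res P (π ^ n * (0 : K[X]).coeff n) = (0 : k[X]).coeff n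
    simp [res_zero]
  map_add' p q := by
    ext n
    rw [phiFun_coeff, coeff_add, phiFun_coeff, phiFun_coeff]
    show res P (π ^ n * ((p : K[X]) + (q : K[X])).coeff n) = _
    rw [coeff_add, mul_add, res_add hK hP (twist_le_one P hπ p n) (twist_le_one P hπ q n)]
  commutes' c := by
    ext n
    rw [phiFun_coeff]
    show res P (π ^ n * (algebraMap k K[X] c).coeff n) = (algebraMap k k[X] c).coeff n
    rw [Polynomial.algebraMap_apply, Polynomial.algebraMap_apply, coeff_C, coeff_C]
    split_ifs with h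
    · subst h; rw [pow_zero, one_mul, res_algebraMap]; rfl
    · rw [mul_zero, res_zero]

theorem phi_coeff (hK : IsFunctionField k K) {P : Place k K} (hP : P.deg = 1) {π : K}
    (hπ : P.1 π = WithZero.exp (-1 : ℤ)) (p : RP P) (n : ℕ) :
    (phi hK hP hπ p).coeff n = res P (π ^ n * (p : K[X]).coeff n) :=
  phiFun_coeff P π p.1 n

theorem phi_eq_zero_iff (hK : IsFunctionField k K) {P : Place k K} (hP : P.deg = 1) {π : K}
    (hπ : P.1 π = WithZero.exp (-1 : ℤ)) (p : RP P) :
    phi hK hP hπ p = 0 ↔ ∀ n : ℕ, P.1 ((p : K[X]).coeff n) < WithZero.exp (n : ℤ) := by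
  rw [Polynomial.ext_iff]
  refine forall_congr' fun n => ?_
  rw [phi_coeff, coeff_zero, res_eq_zero_iff hK hP (twist_le_one P hπ p n),
    val_pow_mul_lt_one_iff P hπ]

theorem coeff_zero_eq_zero_of_lt (hK : IsFunctionField k K) {P : Place k K} (p : RP P)
    (h : P.1 ((p : K[X]).coeff 0) < 1) : (p : K[X]).coeff 0 = 0 := by
  have hm := coeff_mem P p 0
  rw [Nat.cast_zero, Finsupp.single_zero, mem_L_zero_iff hK] at hm
  obtain ⟨d, hd⟩ := hm
  by_contra hne
  rw [← hd] at h hne
  have hd0 : d ≠ 0 := by rintro rfl; exact hne (map_zero _)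
  rw [Place.val_algebraMap P hd0] at h
  exact lt_irrefl _ h

theorem ker_phi (hK : IsFunctionField k K) (hg : 0 < genus k K) {P : Place k K} (hP : P.deg = 1)
    {π : K} (hπ : P.1 π = WithZero.exp (-1 : ℤ)) (t : RP P) (a : K) (ha : a ≠ 0)
    (ht : (t : K[X]) = C a * X) : RingHom.ker (phi hK hP hπ) = Ideal.span {t} := by
  obtain ⟨c, hc⟩ : ∃ c : k, algebraMap k K c = a := by
    have h1 := coeff_mem P t 1
    rw [ht, coeff_C_mul, coeff_X_one, mul_one, Nat.cast_one, L_single_one_eq hK hg hP,
      mem_L_zero_iff hK] at h1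
    exact h1
  have hc0 : c ≠ 0 := by rintro rfl; rw [map_zero] at hc; exact ha hc.symm
  have hac : algebraMap k K c ≠ 0 := by rw [hc]; exact ha
  apply le_antisymm
  · intro p hp
    rw [RingHom.mem_ker, phi_eq_zero_iff] at hp
    have hq : C (algebraMap k K c⁻¹) * divX (p : K[X]) ∈ RP P := by
      rw [mem_RP]; intro n
      rw [coeff_C_mul, coeff_divX, ← Algebra.smul_def]
      apply Submodule.smul_mem
      apply mem_L_single_of_le P (coeff_mem P p (n + 1))
      have := hp (n + 1)
      rwa [Nat.cast_succ, lt_exp_succ_iff] at this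
    rw [Ideal.mem_span_singleton']
    refine ⟨⟨_, hq⟩, Subtype.ext ?_⟩
    show C (algebraMap k K c⁻¹) * divX (p : K[X]) * (t : K[X]) = p
    rw [ht, ← hc]
    have h0 : (p : K[X]).coeff 0 = 0 := by
      apply coeff_zero_eq_zero_of_lt hK
      have := hp 0
      rwa [Nat.cast_zero, WithZero.exp_zero] at this
    conv_rhs => rw [← divX_mul_X_add (p : K[X]), h0, map_zero, add_zero]
    rw [map_inv₀, mul_comm (C _) (divX _), mul_assoc, ← mul_assoc (C _) (C _) X, ← C_mul,
      inv_mul_cancel₀ hac, C_1, one_mul]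
  · rw [Ideal.span_le, Set.singleton_subset_iff, SetLike.mem_coe, RingHom.mem_ker, phi_eq_zero_iff]
    intro n
    rw [ht, ← hc, coeff_C_mul, coeff_X]
    split_ifs with h
    · subst h
      rw [mul_one, Place.val_algebraMap P hc0, ← WithZero.exp_zero, WithZero.exp_lt_exp]
      norm_num
    · rw [mul_zero, map_zero]; exact WithZero.exp_pos

/-! ### the semigroup algebra inside `k[X]` -/

/-- the inclusion of the semigroup algebra of a submonoid of `ℕ` into `k[X]` -/
noncomputable def psi (k : Type*) [Field k] (S : AddSubmonoid ℕ) : AddMonoidAlgebra k S →ₐ[k] k[X] :=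
  ((Polynomial.toFinsuppIsoAlg k).symm : AddMonoidAlgebra k ℕ →ₐ[k] k[X]).comp
    (AddMonoidAlgebra.mapDomainAlgHom k k S.subtype)

theorem psi_single (S : AddSubmonoid ℕ) (h : S) (c : k) :
    psi k S (AddMonoidAlgebra.single h c) = monomial (h : ℕ) c := by
  unfold psi
  rw [AlgHom.comp_apply, AddMonoidAlgebra.mapDomainAlgHom_apply, AddMonoidAlgebra.mapDomain_single]
  show (Polynomial.toFinsuppIsoAlg k).symm (AddMonoidAlgebra.single (h : ℕ) c) = _
  rw [← Polynomial.ofFinsupp_single]
  rfl

theorem psi_injective (S : AddSubmonoid ℕ) : Function.Injective (psi k S) := by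
  unfold psi
  rw [AlgHom.coe_comp]
  refine Function.Injective.comp (AlgEquiv.injective _) ?_
  exact AddMonoidAlgebra.mapDomain_injective Subtype.val_injective

/-- a monomial of exact pole order in the section ring -/
noncomputable def mono (P : Place k K) (n : ℕ) (x : K) (hx : x ∈ L (Finsupp.single P (n : ℤ) : Divisor k K)) :
    RP P :=
  ⟨monomial n x, by
    rw [mem_RP]; intro m
    rw [coeff_monomial]
    split_ifs with h
    · subst h; exact hx
    · exact zero_mem _⟩

theorem mono_coe (P : Place k K) (n : ℕ) (x : K)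
    (hx : x ∈ L (Finsupp.single P (n : ℤ) : Divisor k K)) :
    ((mono P n x hx : RP P) : K[X]) = monomial n x := rfl

theorem phi_mono (hK : IsFunctionField k K) {P : Place k K} (hP : P.deg = 1) {π : K}
    (hπ : P.1 π = WithZero.exp (-1 : ℤ)) (n : ℕ) (x : K)
    (hx : x ∈ L (Finsupp.single P (n : ℤ) : Divisor k K)) :
    phi hK hP hπ (mono P n x hx) = monomial n (res P (π ^ n * x)) := by
  ext m
  rw [phi_coeff, mono_coe, coeff_monomial, coeff_monomial]
  split_ifs with h
  · subst h; rfl
  · rw [mul_zero, res_zero]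

theorem range_phi (hK : IsFunctionField k K) {P : Place k K} (hP : P.deg = 1) {π : K}
    (hπ : P.1 π = WithZero.exp (-1 : ℤ)) :
    (phi hK hP hπ).range = (psi k (AddSubmonoid.closure (poleOrders P))).range := by
  have hcl := closure_poleOrders hK hP
  apply le_antisymm
  · rintro _ ⟨p, rfl⟩
    change phi hK hP hπ p ∈ _
    rw [← Polynomial.sum_monomial_eq (phi hK hP hπ p)]
    refine Subalgebra.sum_mem _ fun n hn => ?_
    have hne : (phi hK hP hπ p).coeff n ≠ 0 := Polynomial.mem_support_iff.1 hn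
    have hnH : n ∈ AddSubmonoid.closure (poleOrders P) := by
      rw [← SetLike.mem_coe, hcl, mem_poleOrders_iff hK hP]
      refine ⟨(p : K[X]).coeff n, coeff_mem P p n, ?_⟩
      rw [← val_pow_mul_eq_one_iff P hπ]
      rw [phi_coeff, Ne, res_eq_zero_iff hK hP (twist_le_one P hπ p n)] at hne
      exact le_antisymm (twist_le_one P hπ p n) (not_lt.1 hne)
    exact ⟨AddMonoidAlgebra.single ⟨n, hnH⟩ ((phi hK hP hπ p).coeff n), psi_single _ _ _⟩
  · rintro _ ⟨f, rfl⟩
    change psi k (AddSubmonoid.closure (poleOrders P)) f ∈ _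
    induction f using AddMonoidAlgebra.induction_linear with
    | zero => rw [map_zero]; exact zero_mem _
    | add x y hx hy => rw [map_add]; exact add_mem hx hy
    | single h c =>
      rw [psi_single]
      have hh : (h : ℕ) ∈ poleOrders P := by
        have := h.2
        rwa [← SetLike.mem_coe, hcl] at this
      obtain ⟨x, hx, hv⟩ := (mem_poleOrders_iff hK hP _).1 hh
      have hv1 : P.1 (π ^ (h : ℕ) * x) = 1 := (val_pow_mul_eq_one_iff P hπ _ x).2 hv
      have hr : res P (π ^ (h : ℕ) * x) ≠ 0 := by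
        rw [Ne, res_eq_zero_iff hK hP hv1.le, hv1]; exact lt_irrefl _
      refine ⟨(c * (res P (π ^ (h : ℕ) * x))⁻¹) • mono P h x hx, ?_⟩
      change phi hK hP hπ ((c * (res P (π ^ (h : ℕ) * x))⁻¹) • mono P h x hx) = _
      rw [map_smul, phi_mono, Polynomial.smul_monomial, smul_eq_mul,
        inv_mul_cancel_right₀ hr]

theorem prime_and_iso (hK : IsFunctionField k K) (hg : 0 < genus k K) {P : Place k K}
    (hP : P.deg = 1) (t : RP P) (a : K) (ha : a ≠ 0) (ht : (t : K[X]) = C a * X) :
    Prime t ∧ Nonempty ((RP P ⧸ Ideal.span {t}) ≃ₐ[k]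
      AddMonoidAlgebra k ↥(AddSubmonoid.closure (poleOrders P))) := by
  obtain ⟨π, hπ⟩ := Place.exists_uniformizer P
  have hker := ker_phi hK hg hP hπ t a ha ht
  have ht0 : t ≠ 0 := by
    intro h
    have : (t : K[X]) = 0 := by rw [h]; rfl
    rw [ht] at this
    have h2 := congrArg (fun q => q.coeff 1) this
    simp at h2
    exact ha h2
  constructor
  · rw [← Ideal.span_singleton_prime ht0, ← hker]
    exact RingHom.ker_isPrime _
  · refine ⟨?_⟩
    exact ((Ideal.quotientEquivAlgOfEq k hker.symm).trans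
      (Ideal.quotientKerEquivRange (phi hK hP hπ))).trans
      ((Subalgebra.equivOfEq _ _ (range_phi hK hP hπ)).trans
        (AlgEquiv.ofInjective _ (psi_injective _)).symm)

end Groth.Agent.Helper27.GrSect
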