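import Mathlib
import Groth.Agent.Lib.Helper27.GrSectB

set_option autoImplicit false

namespace Groth.Agent.Helper27.GrSect

open FunFld Polynomial W4c6gradedringsgw Groth.Agent.Helper16.FF
open scoped WithZero

variable {k K : Type*} [Field k] [Field K] [Algebra k K]

/-! ### minimal generators -/

theorem exists_minGen_add (hK : IsFunctionField k K) {P : Place k K} (hP : P.deg = 1) :
    ∀ n : ℕ, n ∈ poleOrders P → n ≠ 0 →
      ∃ h ∈ minGens (poleOrders P), ∃ m ∈ poleOrders P, n = h + m := by
  intro n
  induction n using Nat.strong_induction_on with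
  | _ n ih =>
    intro hn hn0
    by_cases hmin : n ∈ minGens (poleOrders P)
    · exact ⟨n, hmin, 0, zero_mem_poleOrders hK hP, by simp⟩
    · have : ¬ ∀ a ∈ poleOrders P, ∀ b ∈ poleOrders P, a ≠ 0 → b ≠ 0 → a + b ≠ n := by
        intro hall
        exact hmin ⟨hn, hn0, hall⟩
      push Not at this
      obtain ⟨a, ha, b, hb, ha0, hb0, hab⟩ := this
      obtain ⟨h, hh, m, hm, e⟩ := ih a (by omega) ha ha0
      exact ⟨h, hh, m + b, add_mem_poleOrders hK hP hm hb, by omega⟩

theorem minGens_finite (hK : IsFunctionField k K) {P : Place k K} (hP : P.deg = 1) :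
    (minGens (poleOrders P)).Finite := by
  set N := max (2 * genus k K) 1 with hN
  apply Set.Finite.subset (Finset.finite_toSet (Finset.range (2 * N)))
  intro h hh
  rw [Finset.mem_coe, Finset.mem_range]
  by_contra hge
  push Not at hge
  obtain ⟨_, _, hall⟩ := hh
  have h1 : N ∈ poleOrders P :=
    mem_poleOrders_of_large hK hP (le_max_left _ _) (le_max_right _ _)
  have hN1 : 1 ≤ N := le_max_right _ _
  have hN2 : 2 * genus k K ≤ N := le_max_left _ _
  have h2 : h - N ∈ poleOrders P :=
    mem_poleOrders_of_large hK hP (by omega) (by omega)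
  exact hall N h1 (h - N) h2 (by omega) (by omega) (by omega)

theorem ne_one_of_mem_minGens (hK : IsFunctionField k K) (hg : 0 < genus k K) {P : Place k K}
    (hP : P.deg = 1) {h : ℕ} (hh : h ∈ minGens (poleOrders P)) : h ≠ 1 := by
  rintro rfl
  exact one_not_mem_poleOrders hK hg hP hh.1

/-! ### the irrelevant ideal -/

/-- the irrelevant ideal of the section ring -/
noncomputable abbrev irr (P : Place k K) : Ideal (RP P) :=
  RingHom.ker (Polynomial.constantCoeff.comp (RP P).val.toRingHom)

theorem mem_irr (P : Place k K) (p : RP P) : p ∈ irr P ↔ (p : K[X]).coeff 0 = 0 := by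
  rw [RingHom.mem_ker]
  rfl

/-- the degree-one element `T` of the section ring -/
noncomputable def Xel (P : Place k K) : RP P :=
  ⟨X, by
    rw [mem_RP]; intro n
    rw [coeff_X]
    split_ifs with h
    · subst h
      rw [mem_L_single_iff]
      refine ⟨by rw [map_one, ← WithZero.exp_zero, WithZero.exp_le_exp]; norm_num, fun Q _ => ?_⟩
      rw [map_one]
    · exact zero_mem _⟩

theorem Xel_coe (P : Place k K) : ((Xel P : RP P) : K[X]) = X := rfl

open Classical in
/-- chosen elements of exact pole order -/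
noncomputable def genF (hK : IsFunctionField k K) {P : Place k K} (hP : P.deg = 1) (h : ℕ) : RP P :=
  if hh : h ∈ poleOrders P then
    mono P h ((mem_poleOrders_iff hK hP h).1 hh).choose ((mem_poleOrders_iff hK hP h).1 hh).choose_spec.1
  else 0

theorem genF_spec (hK : IsFunctionField k K) {P : Place k K} (hP : P.deg = 1) {h : ℕ}
    (hh : h ∈ poleOrders P) : ∃ (x : K) (hx : x ∈ L (Finsupp.single P (h : ℤ) : Divisor k K)),
      P.1 x = WithZero.exp (h : ℤ) ∧ genF hK hP h = mono P h x hx := by
  unfold genF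
  rw [dif_pos hh]
  exact ⟨_, _, ((mem_poleOrders_iff hK hP h).1 hh).choose_spec.2, rfl⟩

/-- the generating set of the irrelevant ideal -/
noncomputable def genSet (hK : IsFunctionField k K) {P : Place k K} (hP : P.deg = 1) : Set (RP P) :=
  insert (Xel P) (genF hK hP '' minGens (poleOrders P))

theorem mono_mem_of_lt (hK : IsFunctionField k K) {P : Place k K} (hP : P.deg = 1) (n : ℕ) (x : K)
    (hx : x ∈ L (Finsupp.single P ((n + 1 : ℕ) : ℤ) : Divisor k K))
    (hv : P.1 x < WithZero.exp ((n + 1 : ℕ) : ℤ)) :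
    mono P (n + 1) x hx ∈ Ideal.span (genSet hK hP) := by
  have hx' : x ∈ L (Finsupp.single P (n : ℤ) : Divisor k K) := by
    apply mem_L_single_of_le P hx
    rwa [Nat.cast_succ, lt_exp_succ_iff] at hv
  have : mono P (n + 1) x hx = Xel P * mono P n x hx' := by
    apply Subtype.ext
    show monomial (n + 1) x = X * monomial n x
    rw [X_mul_monomial]
  rw [this]
  exact Ideal.mul_mem_right _ _ (Ideal.subset_span (Set.mem_insert _ _))

theorem mono_mem_span (hK : IsFunctionField k K) {P : Place k K} (hP : P.deg = 1) (n : ℕ) (x : K)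
    (hx : x ∈ L (Finsupp.single P ((n + 1 : ℕ) : ℤ) : Divisor k K)) :
    mono P (n + 1) x hx ∈ Ideal.span (genSet hK hP) := by
  have hle := ((mem_L_single_iff P _ x).1 hx).1
  rcases lt_or_eq_of_le hle with hlt | heq
  · exact mono_mem_of_lt hK hP n x hx hlt
  · have hnH : n + 1 ∈ poleOrders P := (mem_poleOrders_iff hK hP _).2 ⟨x, hx, heq⟩
    obtain ⟨h, hh, m, hm, e⟩ := exists_minGen_add hK hP (n + 1) hnH (by omega)
    obtain ⟨f, hf, hfv, hgen⟩ := genF_spec hK hP hh.1
    obtain ⟨y, hy, hyv⟩ := (mem_poleOrders_iff hK hP m).1 hm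
    have hfy : f * y ∈ L (Finsupp.single P ((n + 1 : ℕ) : ℤ) : Divisor k K) := by
      have := mul_mem_L_single P hf hy
      rwa [← Nat.cast_add, ← e] at this
    have hfyv : P.1 (f * y) = WithZero.exp ((n + 1 : ℕ) : ℤ) := by
      rw [map_mul, hfv, hyv, ← WithZero.exp_add, ← Nat.cast_add, ← e]
    have hfy0 : f * y ≠ 0 := by
      intro h0
      rw [h0, map_zero] at hfyv
      exact WithZero.exp_ne_zero hfyv.symm
    have hz : P.1 (x / (f * y)) ≤ 1 := by
      rw [map_div₀, heq, hfyv, div_self WithZero.exp_ne_zero]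
    obtain ⟨c, hc⟩ := exists_const_sub_lt_one hK hP hz
    have hlt : P.1 (x - c • (f * y)) < WithZero.exp ((n + 1 : ℕ) : ℤ) := by
      have e2 : x - c • (f * y) = (x / (f * y) - algebraMap k K c) * (f * y) := by
        rw [Algebra.smul_def, sub_mul, div_mul_cancel₀ _ hfy0]
      rw [e2, map_mul, hfyv]
      calc P.1 (x / (f * y) - algebraMap k K c) * WithZero.exp ((n + 1 : ℕ) : ℤ)
          < 1 * WithZero.exp ((n + 1 : ℕ) : ℤ) :=
            mul_lt_mul_of_pos_right hc WithZero.exp_pos
        _ = _ := one_mul _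
    have hmem : x - c • (f * y) ∈ L (Finsupp.single P ((n + 1 : ℕ) : ℤ) : Divisor k K) :=
      sub_mem hx (Submodule.smul_mem _ _ hfy)
    have hdecomp : mono P (n + 1) x hx =
        c • (genF hK hP h * mono P m y hy) + mono P (n + 1) (x - c • (f * y)) hmem := by
      apply Subtype.ext
      show monomial (n + 1) x = c • (((genF hK hP h : RP P) : K[X]) * monomial m y) +
        monomial (n + 1) (x - c • (f * y))
      rw [hgen, mono_coe, monomial_mul_monomial, smul_monomial, ← e, ← map_add]
      congr 1
      ring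
    rw [hdecomp]
    refine Ideal.add_mem _ ?_ (mono_mem_of_lt hK hP n _ hmem hlt)
    rw [Algebra.smul_def]
    apply Ideal.mul_mem_left
    apply Ideal.mul_mem_right
    exact Ideal.subset_span (Set.mem_insert_of_mem _ (Set.mem_image_of_mem _ hh))

theorem irr_eq_span (hK : IsFunctionField k K) {P : Place k K} (hP : P.deg = 1) :
    irr P = Ideal.span (genSet hK hP) := by
  apply le_antisymm
  · intro p hp
    rw [mem_irr] at hp
    have hsum : p = ∑ n ∈ (p : K[X]).support, mono P n ((p : K[X]).coeff n) (coeff_mem P p n) := by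
      apply Subtype.ext
      rw [AddSubmonoidClass.coe_finsetSum]
      simp only [mono_coe]
      conv_lhs => rw [← sum_monomial_eq (p : K[X]), Polynomial.sum_def]
    rw [hsum]
    refine Ideal.sum_mem _ fun n hn => ?_
    have hn0 : n ≠ 0 := by
      rintro rfl
      exact (Polynomial.mem_support_iff.1 hn) hp
    obtain ⟨m, rfl⟩ := Nat.exists_eq_succ_of_ne_zero hn0
    exact mono_mem_span hK hP m _ _
  · rw [Ideal.span_le]
    intro q hq
    rw [SetLike.mem_coe, mem_irr]
    rcases hq with rfl | ⟨h, hh, rfl⟩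
    · rw [Xel_coe, coeff_X_zero]
    · obtain ⟨f, hf, _, hgen⟩ := genF_spec hK hP hh.1
      rw [hgen, mono_coe, coeff_monomial, if_neg hh.2.1]

theorem genSet_finite (hK : IsFunctionField k K) {P : Place k K} (hP : P.deg = 1) :
    (genSet hK hP).Finite :=
  Set.Finite.insert _ ((minGens_finite hK hP).image _)

theorem ncard_genSet_le (hK : IsFunctionField k K) {P : Place k K} (hP : P.deg = 1) :
    (genSet hK hP).ncard ≤ (minGens (poleOrders P)).ncard + 1 := by
  unfold genSet
  refine (Set.ncard_insert_le _ _).trans ?_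
  exact Nat.add_le_add_right (Set.ncard_image_le (minGens_finite hK hP)) 1

/-! ### the lower bound -/

/-- the linear form detecting the minimal generators -/
noncomputable def lam (P : Place k K) (π : K) (p : K[X]) (m : ℕ) : k :=
  if m = 1 then res P (p.coeff 1) else res P (π ^ m * p.coeff m)

theorem coeff_one_le (hK : IsFunctionField k K) (hg : 0 < genus k K) {P : Place k K}
    (hP : P.deg = 1) (p : RP P) : P.1 ((p : K[X]).coeff 1) ≤ 1 := by
  have h1 := coeff_mem P p 1
  rw [Nat.cast_one, L_single_one_eq hK hg hP, mem_L_zero_iff hK] at h1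
  obtain ⟨c, hc⟩ := h1
  rw [← hc]; exact P.2.1 c

theorem coeff_zero_le (P : Place k K) (p : RP P) : P.1 ((p : K[X]).coeff 0) ≤ 1 := by
  have := coeff_val_le P p 0
  rwa [Nat.cast_zero, WithZero.exp_zero] at this

theorem lam_zero (P : Place k K) (π : K) (m : ℕ) : lam P π 0 m = 0 := by
  unfold lam
  split_ifs <;> simp [res_zero]

theorem lam_add (hK : IsFunctionField k K) (hg : 0 < genus k K) {P : Place k K} (hP : P.deg = 1)
    {π : K} (hπ : P.1 π = WithZero.exp (-1 : ℤ)) (p q : RP P) (m : ℕ) :
    lam P π ((p + q : RP P) : K[X]) m = lam P π p m + lam P π q m := by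
  unfold lam
  show (if m = 1 then res P (((p : K[X]) + (q : K[X])).coeff 1)
    else res P (π ^ m * ((p : K[X]) + (q : K[X])).coeff m)) = _
  split_ifs with h
  · rw [coeff_add, res_add hK hP (coeff_one_le hK hg hP p) (coeff_one_le hK hg hP q)]
  · rw [coeff_add, mul_add, res_add hK hP (twist_le_one P hπ p m) (twist_le_one P hπ q m)]

theorem lam_mul (hK : IsFunctionField k K) (hg : 0 < genus k K) {P : Place k K} (hP : P.deg = 1)
    {π : K} (hπ : P.1 π = WithZero.exp (-1 : ℤ)) (r p : RP P) (hp : p ∈ irr P) (m : ℕ)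
    (hm : m = 1 ∨ m ∈ minGens (poleOrders P)) :
    lam P π ((r * p : RP P) : K[X]) m = res P ((r : K[X]).coeff 0) * lam P π p m := by
  rw [mem_irr] at hp
  unfold lam
  show (if m = 1 then res P (((r : K[X]) * (p : K[X])).coeff 1)
    else res P (π ^ m * ((r : K[X]) * (p : K[X])).coeff m)) = _
  split_ifs with h
  · rw [mul_coeff_one, hp, mul_zero, add_zero]
    exact res_mul hK hP (coeff_zero_le P r) (coeff_one_le hK hg hP p)
  · have hmin : m ∈ minGens (poleOrders P) := hm.resolve_left h
    rw [coeff_mul, Finset.mul_sum]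
    have hterm : ∀ x ∈ Finset.HasAntidiagonal.antidiagonal m,
        π ^ m * ((r : K[X]).coeff x.1 * (p : K[X]).coeff x.2) =
          (π ^ x.1 * (r : K[X]).coeff x.1) * (π ^ x.2 * (p : K[X]).coeff x.2) := by
      intro x hx
      rw [← Finset.HasAntidiagonal.mem_antidiagonal.1 hx, pow_add]; ring
    rw [Finset.sum_congr rfl hterm]
    have hle : ∀ x ∈ Finset.HasAntidiagonal.antidiagonal m,
        P.1 ((π ^ x.1 * (r : K[X]).coeff x.1) * (π ^ x.2 * (p : K[X]).coeff x.2)) ≤ 1 := by
      intro x _
      rw [map_mul]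
      exact mul_le_one' (twist_le_one P hπ r x.1) (twist_le_one P hπ p x.2)
    rw [(res_sum hK hP _ _ hle).2]
    rw [Finset.sum_eq_single (0, m)]
    · rw [res_mul hK hP (twist_le_one P hπ r 0) (twist_le_one P hπ p m), pow_zero, one_mul]
    · rintro ⟨i, j⟩ hij hne
      rw [Finset.HasAntidiagonal.mem_antidiagonal] at hij
      simp only at hij
      rw [res_mul hK hP (twist_le_one P hπ r i) (twist_le_one P hπ p j)]
      by_contra hprod
      have hi := left_ne_zero_of_mul hprod
      have hj := right_ne_zero_of_mul hprod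
      rw [Ne, res_eq_zero_iff hK hP (twist_le_one P hπ r i)] at hi
      rw [Ne, res_eq_zero_iff hK hP (twist_le_one P hπ p j)] at hj
      have hi1 : P.1 (π ^ i * (r : K[X]).coeff i) = 1 :=
        le_antisymm (twist_le_one P hπ r i) (not_lt.1 hi)
      have hj1 : P.1 (π ^ j * (p : K[X]).coeff j) = 1 :=
        le_antisymm (twist_le_one P hπ p j) (not_lt.1 hj)
      have hiH : i ∈ poleOrders P := (mem_poleOrders_iff hK hP i).2
        ⟨_, coeff_mem P r i, (val_pow_mul_eq_one_iff P hπ i _).1 hi1⟩
      have hjH : j ∈ poleOrders P := (mem_poleOrders_iff hK hP j).2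
        ⟨_, coeff_mem P p j, (val_pow_mul_eq_one_iff P hπ j _).1 hj1⟩
      have hj0 : j ≠ 0 := by
        rintro rfl
        rw [hp, mul_zero, map_zero] at hj1
        exact zero_ne_one hj1
      have hi0 : i ≠ 0 := by
        rintro rfl
        apply hne
        rw [Prod.mk.injEq]
        exact ⟨rfl, by omega⟩
      exact hmin.2.2 i hiH j hjH hi0 hj0 hij
    · intro hnot
      exact absurd (Finset.HasAntidiagonal.mem_antidiagonal.2 (by simp)) hnot

theorem lam_Xel (P : Place k K) (π : K) (m : ℕ) :
    lam P π ((Xel P : RP P) : K[X]) m = if m = 1 then 1 else 0 := by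
  unfold lam
  rw [Xel_coe]
  split_ifs with h
  · rw [coeff_X_one, res_one]
  · rw [coeff_X, if_neg (Ne.symm h), mul_zero, res_zero]

theorem lam_mono (P : Place k K) (π : K) (h : ℕ) (hne : h ≠ 1) (x : K)
    (hx : x ∈ L (Finsupp.single P (h : ℤ) : Divisor k K)) (m : ℕ) :
    lam P π ((mono P h x hx : RP P) : K[X]) m = if m = h then res P (π ^ h * x) else 0 := by
  unfold lam
  rw [mono_coe]
  by_cases hm1 : m = 1
  · subst hm1
    rw [if_pos rfl, coeff_monomial, if_neg hne, res_zero, if_neg (Ne.symm hne)]
  · rw [if_neg hm1, coeff_monomial]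
    by_cases hmh : m = h
    · subst hmh; rw [if_pos rfl, if_pos rfl]
    · rw [if_neg (Ne.symm hmh), if_neg hmh, mul_zero, res_zero]

theorem card_le_of_span (hK : IsFunctionField k K) (hg : 0 < genus k K) {P : Place k K}
    (hP : P.deg = 1) (S : Finset (RP P)) (hS : Ideal.span (S : Set (RP P)) = irr P) :
    (minGens (poleOrders P)).ncard + 1 ≤ S.card := by
  classical
  obtain ⟨π, hπ⟩ := Place.exists_uniformizer P
  have hfin := minGens_finite hK hP
  set Mf : Finset ℕ := insert 1 hfin.toFinset with hMf
  have hMfcard : Mf.card = (minGens (poleOrders P)).ncard + 1 := by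
    rw [hMf, Finset.card_insert_of_notMem, Set.ncard_eq_toFinset_card _ hfin]
    rw [Set.Finite.mem_toFinset]
    exact fun h1 => one_not_mem_poleOrders hK hg hP h1.1
  have hMfmem : ∀ m ∈ Mf, m = 1 ∨ m ∈ minGens (poleOrders P) := by
    intro m hm
    rw [hMf, Finset.mem_insert, Set.Finite.mem_toFinset] at hm
    exact hm
  let Λ : RP P → (↥Mf → k) := fun p m => lam P π (p : K[X]) m
  set W : Submodule k (↥Mf → k) := Submodule.span k (Λ '' (S : Set (RP P))) with hW
  have hQ : ∀ p ∈ Ideal.span (S : Set (RP P)), Λ p ∈ W := by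
    intro p hp
    induction hp using Submodule.span_induction with
    | mem x hx => exact Submodule.subset_span (Set.mem_image_of_mem _ hx)
    | zero =>
      have : Λ 0 = 0 := by
        funext m
        exact lam_zero P π m
      rw [this]; exact zero_mem _
    | add x y _ _ hx hy =>
      have : Λ (x + y) = Λ x + Λ y := by
        funext m
        exact lam_add hK hg hP hπ x y m
      rw [this]; exact add_mem hx hy
    | smul a x hx hxW =>
      have hxi : x ∈ irr P := by rw [← hS]; exact hx
      have : Λ (a • x) = res P ((a : K[X]).coeff 0) • Λ x := by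
        funext m
        show lam P π ((a * x : RP P) : K[X]) m = _
        rw [lam_mul hK hg hP hπ a x hxi m (hMfmem m m.2)]
        rfl
      rw [this]; exact Submodule.smul_mem _ _ hxW
  have hsingle : ∀ m : ↥Mf, (Pi.single m 1 : ↥Mf → k) ∈ W := by
    intro m
    rcases hMfmem m m.2 with h1 | hmin
    · have hmem : Λ (Xel P) ∈ W := by
        apply hQ
        rw [hS, mem_irr, Xel_coe, coeff_X_zero]
      have : Λ (Xel P) = Pi.single m 1 := by
        funext m'
        show lam P π ((Xel P : RP P) : K[X]) m' = _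
        rw [lam_Xel, Pi.single_apply]
        have : (m' = m) ↔ ((m' : ℕ) = 1) := by
          rw [← h1]; exact Subtype.ext_iff
        simp only [this]
      rwa [this] at hmem
    · obtain ⟨f, hf, hfv, hgen⟩ := genF_spec hK hP hmin.1
      have hne1 := ne_one_of_mem_minGens hK hg hP hmin
      have hmem : Λ (genF hK hP m) ∈ W := by
        apply hQ
        rw [hS, irr_eq_span hK hP]
        exact Ideal.subset_span (Set.mem_insert_of_mem _ (Set.mem_image_of_mem _ hmin))
      have hv1 : P.1 (π ^ (m : ℕ) * f) = 1 := (val_pow_mul_eq_one_iff P hπ _ f).2 hfv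
      have hr : res P (π ^ (m : ℕ) * f) ≠ 0 := by
        rw [Ne, res_eq_zero_iff hK hP hv1.le, hv1]; exact lt_irrefl _
      have : Λ (genF hK hP m) = res P (π ^ (m : ℕ) * f) • Pi.single m 1 := by
        funext m'
        show lam P π ((genF hK hP m : RP P) : K[X]) m' = _
        rw [hgen, lam_mono P π m hne1 f hf, Pi.smul_apply, Pi.single_apply, smul_eq_mul]
        have : (m' = m) ↔ ((m' : ℕ) = (m : ℕ)) := Subtype.ext_iff
        simp only [this]
        split_ifs <;> simp
      rw [this] at hmem
      have := Submodule.smul_mem W (res P (π ^ (m : ℕ) * f))⁻¹ hmem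
      rwa [smul_smul, inv_mul_cancel₀ hr, one_smul] at this
  have htop : W = ⊤ := by
    rw [eq_top_iff]
    intro v _
    have : v = ∑ m, v m • (Pi.single m 1 : ↥Mf → k) := by
      funext m'
      rw [Finset.sum_apply]
      simp [Pi.single_apply]
    rw [this]
    exact Submodule.sum_mem _ fun m _ => Submodule.smul_mem _ _ (hsingle m)
  have h1 : Module.finrank k W = Mf.card := by
    rw [htop, finrank_top, Module.finrank_fintype_fun_eq_card, Fintype.card_coe]
  have h2 : Module.finrank k W ≤ (S.image Λ).card := by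
    have := finrank_span_finset_le_card (R := k) (S.image Λ)
    rwa [Finset.coe_image] at this
  have h3 := Finset.card_image_le (s := S) (f := Λ)
  omega

theorem spanFinrank_irr (hK : IsFunctionField k K) (hg : 0 < genus k K) {P : Place k K}
    (hP : P.deg = 1) :
    (irr P).spanFinrank = (minGens (poleOrders P)).ncard + 1 := by
  apply le_antisymm
  · rw [irr_eq_span hK hP]
    exact (Submodule.spanFinrank_span_le_ncard_of_finite (genSet_finite hK hP)).trans
      (ncard_genSet_le hK hP)
  · have hfg : (irr P).FG := by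
      rw [irr_eq_span hK hP]
      exact Submodule.fg_span (genSet_finite hK hP)
    obtain ⟨S, hS1, hS2⟩ := Submodule.FG.exists_span_finset_card_eq_spanFinrank hfg
    rw [← hS1]
    exact card_le_of_span hK hg hP S hS2

end Groth.Agent.Helper27.GrSect
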