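import Mathlib
set_option autoImplicit false
set_option linter.unusedSectionVars false
set_option linter.unusedVariables false
universe u
open MvPolynomial Module

namespace Groth.Agent.Helper27.CB

variable {k : Type u} [Field k]

abbrev V (k : Type u) [Field k] := Fin 4 → k

/-- the linear polynomial attached to a functional -/
noncomputable def lin (φ : Dual k (V k)) : MvPolynomial (Fin 4) k :=
  ∑ i, C (φ (Pi.single i 1)) * X i

lemma lin_homog (φ : Dual k (V k)) : (lin φ).IsHomogeneous 1 := by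
  unfold lin
  apply IsHomogeneous.sum
  intro i _
  exact isHomogeneous_C_mul_X _ _

lemma eval_lin (φ : Dual k (V k)) (v : V k) : eval v (lin φ) = φ v := by
  unfold lin
  rw [map_sum]
  simp only [map_mul, eval_C, eval_X]
  conv_rhs => rw [LinearMap.pi_apply_eq_sum_univ φ v]
  apply Finset.sum_congr rfl
  intro i _
  rw [smul_eq_mul, mul_comm]
  congr 2
  funext j
  simp [Pi.single_apply, eq_comm]

/-- Cayley–Bacharach property -/
def CBp (Z : Finset (Projectivization k (V k))) (n : ℕ) : Prop :=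
  ∀ z ∈ Z, ∀ p : MvPolynomial (Fin 4) k, p.IsHomogeneous n →
    (∀ z' ∈ Z, z' ≠ z → eval z'.rep p = 0) → eval z.rep p = 0

open Classical in
lemma residual {Z : Finset (Projectivization k (V k))} {n : ℕ} (h : CBp Z (n + 1))
    (φ : Dual k (V k)) : CBp (Z.filter (fun z => φ z.rep ≠ 0)) n := by
  intro z hz p hp hvan
  rw [Finset.mem_filter] at hz
  have hq : (p * lin φ).IsHomogeneous (n + 1) := hp.mul (lin_homog φ)
  have := h z hz.1 (p * lin φ) hq (by
    intro z' hz' hne
    rw [map_mul, eval_lin]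
    by_cases h0 : φ z'.rep = 0
    · rw [h0, mul_zero]
    · rw [hvan z' (Finset.mem_filter.2 ⟨hz', h0⟩) hne, zero_mul])
  rw [map_mul, eval_lin] at this
  rcases mul_eq_zero.1 this with h1 | h1
  · exact h1
  · exact absurd h1 hz.2

lemma rep_notMem_of_ne {z z' : Projectivization k (V k)} (h : z ≠ z') :
    z.rep ∉ Submodule.span k {z'.rep} := by
  intro hmem
  rw [Submodule.mem_span_singleton] at hmem
  obtain ⟨c, hc⟩ := hmem
  apply h
  rw [← Projectivization.mk_rep z, ← Projectivization.mk_rep z', Projectivization.mk_eq_mk_iff']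
  exact ⟨c, hc⟩

lemma exists_sep (W : Submodule k (V k)) {x : V k} (hx : x ∉ W) :
    ∃ φ : Dual k (V k), φ x ≠ 0 ∧ ∀ w ∈ W, φ w = 0 := by
  obtain ⟨f, hf, hf'⟩ := Submodule.exists_dual_map_eq_bot_of_notMem hx inferInstance
  refine ⟨f, hf, fun w hw => ?_⟩
  have : f w ∈ W.map f := Submodule.mem_map_of_mem hw
  rw [hf'] at this
  simpa using this

open Classical in
lemma card_ge {n : ℕ} : ∀ {Z : Finset (Projectivization k (V k))}, CBp Z n → Z.Nonempty →
    n + 2 ≤ Z.card := by
  induction n with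
  | zero =>
    intro Z h hne
    obtain ⟨z, hz⟩ := hne
    by_contra hcard
    have hall : ∀ z' ∈ Z, z' = z := by
      intro z' hz'
      have : Z.card ≤ 1 := by omega
      exact Finset.card_le_one.1 this z' hz' z hz
    have := h z hz 1 (isHomogeneous_one _ _) (fun z' hz' hne => absurd (hall z' hz') hne)
    simp at this
  | succ n ih =>
    intro Z h hne
    obtain ⟨z, hz⟩ := hne
    have hex : ∃ z' ∈ Z, z' ≠ z := by
      by_contra hcon
      push Not at hcon
      obtain ⟨φ, hφ, -⟩ := exists_sep (⊥ : Submodule k (V k)) (x := z.rep)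
        (by simpa using z.rep_nonzero)
      have := h z hz ((lin φ) ^ (n + 1)) (by simpa using (lin_homog φ).pow (n + 1))
        (fun z' hz' hne => absurd (hcon z' hz') hne)
      rw [map_pow, eval_lin] at this
      exact hφ (pow_eq_zero_iff (by omega) |>.1 this)
    obtain ⟨z', hz', hne⟩ := hex
    obtain ⟨φ, hφ, hφ0⟩ := exists_sep (Submodule.span k {z'.rep}) (rep_notMem_of_ne hne.symm)
    have hres := residual h φ
    have hzmem : z ∈ Z.filter (fun z => φ z.rep ≠ 0) := Finset.mem_filter.2 ⟨hz, hφ⟩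
    have h1 := ih hres ⟨z, hzmem⟩
    have h2 : (Z.filter (fun z => φ z.rep ≠ 0)).card < Z.card := by
      apply Finset.card_lt_card
      rw [Finset.filter_ssubset]
      exact ⟨z', hz', by simpa using hφ0 _ (Submodule.mem_span_singleton_self _)⟩
    omega


lemma exists_two_dim : ∃ W : Submodule k (V k), finrank k W = 2 := by
  have hLI : LinearIndependent k ![(Pi.single 0 1 : V k), (Pi.single 1 1 : V k)] := by
    rw [LinearIndependent.pair_iff]
    intro s t h
    have h0 := congrFun h 0
    have h1 := congrFun h 1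
    simp at h0 h1
    exact ⟨h0, h1⟩
  exact ⟨_, by rw [finrank_span_eq_card hLI]; simp⟩

lemma finrank_span_pair {z1 z2 : Projectivization k (V k)} (h : z1 ≠ z2) :
    finrank k (Submodule.span k (Set.range ![z1.rep, z2.rep])) = 2 := by
  rw [finrank_span_eq_card (Projectivization.linearIndependent_pair_iff_ne.2 h)]; simp

open Classical in
lemma collinear [Infinite k] {n : ℕ} : ∀ {Z : Finset (Projectivization k (V k))}, CBp Z n →
    Z.card ≤ 2 * n + 1 → ∃ W : Submodule k (V k), finrank k W = 2 ∧ ∀ z ∈ Z, z.rep ∈ W := by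
  induction n with
  | zero =>
    intro Z h hcard
    have hemp : Z = ∅ := by
      by_contra hne
      have := card_ge h (Finset.nonempty_iff_ne_empty.2 hne)
      omega
    obtain ⟨W, hW⟩ := exists_two_dim (k := k)
    exact ⟨W, hW, by simp [hemp]⟩
  | succ n ih =>
    intro Z h hcard
    by_contra hcon
    push Not at hcon
    -- Z is nonempty
    have hne : Z.Nonempty := by
      by_contra hne
      rw [Finset.not_nonempty_iff_eq_empty] at hne
      obtain ⟨W, hW⟩ := exists_two_dim (k := k)
      obtain ⟨z, hz, -⟩ := hcon W hW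
      simp [hne] at hz
    have hc := card_ge h hne
    obtain ⟨z1, hz1⟩ := hne
    obtain ⟨z2, hz2, h12⟩ : ∃ z2 ∈ Z, z2 ≠ z1 := by
      by_contra hh; push Not at hh
      have : Z.card ≤ 1 := Finset.card_le_one.2 (fun a ha b hb => (hh a ha).trans (hh b hb).symm)
      omega
    obtain ⟨z3, hz3, h3⟩ := hcon _ (finrank_span_pair h12.symm)
    obtain ⟨φ, hφ, hφ0⟩ := exists_sep _ h3
    have hres := residual h φ
    set Z' := Z.filter (fun z => φ z.rep ≠ 0) with hZ'
    have hz3' : z3 ∈ Z' := Finset.mem_filter.2 ⟨hz3, hφ⟩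
    have hφ1 : φ z1.rep = 0 := hφ0 _ (Submodule.subset_span ⟨0, rfl⟩)
    have hφ2 : φ z2.rep = 0 := hφ0 _ (Submodule.subset_span ⟨1, rfl⟩)
    have hsub : Z' ⊆ (Z.erase z1).erase z2 := by
      intro z hz
      rw [hZ', Finset.mem_filter] at hz
      rw [Finset.mem_erase, Finset.mem_erase]
      refine ⟨?_, ?_, hz.1⟩
      · rintro rfl; exact hz.2 hφ2
      · rintro rfl; exact hz.2 hφ1
    have hcard' : Z'.card + 2 ≤ Z.card := by
      have := Finset.card_le_card hsub
      rw [Finset.card_erase_of_mem (Finset.mem_erase.2 ⟨h12, hz2⟩),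
        Finset.card_erase_of_mem hz1] at this
      omega
    obtain ⟨W', hW', hZW'⟩ := ih hres (by omega)
    have hc' := card_ge hres ⟨z3, hz3'⟩
    -- avoid the points outside W'
    set S := Z.filter (fun z => z.rep ∉ W') with hS
    have hex : ∀ i : S, ∃ ψ ∈ W'.dualAnnihilator, (Dual.eval k (V k) i.1.rep) ψ ≠ 0 := by
      intro i
      have hi := (Finset.mem_filter.1 i.2).2
      obtain ⟨ψ, hψ, hψ0⟩ := exists_sep W' hi
      refine ⟨ψ, ?_, hψ⟩
      rw [Submodule.mem_dualAnnihilator]
      exact hψ0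
    obtain ⟨ψ, hψmem, hψ⟩ := Module.Dual.exists_forall_mem_ne_zero_of_forall_exists
      W'.dualAnnihilator (fun i : S => Dual.eval k (V k) i.1.rep) hex
    rw [Submodule.mem_dualAnnihilator] at hψmem
    have hres2 := residual h ψ
    set Z'' := Z.filter (fun z => ψ z.rep ≠ 0) with hZ''
    have hdisj : Disjoint Z' Z'' := by
      rw [Finset.disjoint_left]
      intro z hz hz2
      exact (Finset.mem_filter.1 hz2).2 (hψmem _ (hZW' z hz))
    have hunion : (Z' ∪ Z'').card ≤ Z.card := by
      apply Finset.card_le_card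
      apply Finset.union_subset <;> exact Finset.filter_subset _ _
    rw [Finset.card_union_of_disjoint hdisj] at hunion
    have hemp : Z'' = ∅ := by
      by_contra hne
      have := card_ge hres2 (Finset.nonempty_iff_ne_empty.2 hne)
      omega
    obtain ⟨z, hz, hzW⟩ := hcon W' hW'
    have hzS : z ∈ S := Finset.mem_filter.2 ⟨hz, hzW⟩
    have : z ∈ Z'' := Finset.mem_filter.2 ⟨hz, hψ ⟨z, hzS⟩⟩
    rw [hemp] at this
    simp at this

theorem main (k : Type u) [Field k] [IsAlgClosed k] [CharZero k]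
    (Z : Finset (Projectivization k (Fin 4 → k))) (hZ : Z.Nonempty) (n : ℕ) (hn : 1 ≤ n)
    (hCB : (∀ z ∈ Z, ∀ p : MvPolynomial (Fin 4) k, p.IsHomogeneous n →
      (∀ z' ∈ Z, z' ≠ z → MvPolynomial.eval z'.rep p = 0) → MvPolynomial.eval z.rep p = 0)) :
    n + 2 ≤ Z.card ∧
      (Z.card ≤ 2 * n + 1 → ∃ W : Submodule k (Fin 4 → k), Module.finrank k ↥W = 2 ∧ ∀ z ∈ Z, z.submodule ≤ W) := by
  refine ⟨card_ge hCB hZ, fun hcard => ?_⟩
  obtain ⟨W, hW, hZW⟩ := collinear hCB hcard
  refine ⟨W, hW, fun z hz => ?_⟩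
  rw [Projectivization.submodule_eq, Submodule.span_singleton_le_iff_mem]
  exact hZW z hz

end Groth.Agent.Helper27.CB
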