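import Mathlib
import Groth.Agent.Lib.Helper16.FFW.Ext7
import Groth.Agent.Lib.Helper16.FFW.Ext4
import Groth.Agent.Lib.Helper16.FFW.Hyper2
import Groth.Agent.Lib.Helper16.FFW.Unram4

set_option autoImplicit false

namespace Groth.Agent.Helper27.FFExt

open FunFld IntermediateField Polynomial Groth.Agent.Helper16.FFW
open scoped WithZero

section Rat

variable {k : Type*} [Field k] (P₀ : Place k (RatFunc k))

theorem exists_irreducible_factor_val_lt_one :
    ∀ (n : ℕ) (f : k[X]), f.natDegree = n → f ≠ 0 → P₀.1 (algebraMap k[X] (RatFunc k) f) < 1 →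
    ∃ p : k[X], Irreducible p ∧ p ∣ f ∧ P₀.1 (algebraMap k[X] (RatFunc k) p) < 1 := by
  intro n
  induction n using Nat.strong_induction_on with
  | _ n ih =>
    intro f hn hf0 hf
    have hX := val_X_le_one_of_val_lt_one P₀ hf0 hf
    have hfu : ¬ IsUnit f := by
      intro hu
      obtain ⟨c, hc, rfl⟩ := Polynomial.isUnit_iff.1 hu
      have : algebraMap k[X] (RatFunc k) (C c) = algebraMap k (RatFunc k) c := by
        rw [RatFunc.algebraMap_C, RatFunc.algebraMap_eq_C]
      rw [this, Place.val_algebraMap P₀ hc.ne_zero] at hf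
      exact lt_irrefl _ hf
    obtain ⟨p, hp, g, rfl⟩ := WfDvdMonoid.exists_irreducible_factor hfu hf0
    by_cases hpv : P₀.1 (algebraMap k[X] (RatFunc k) p) < 1
    · exact ⟨p, hp, dvd_mul_right _ _, hpv⟩
    · have hp1 : P₀.1 (algebraMap k[X] (RatFunc k) p) = 1 :=
        le_antisymm (val_poly_le_one P₀ hX p) (not_lt.1 hpv)
      have hg0 : g ≠ 0 := by rintro rfl; simp at hf0
      have hgv : P₀.1 (algebraMap k[X] (RatFunc k) g) < 1 := by
        rw [map_mul, map_mul, hp1, one_mul] at hf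
        exact hf
      have hdeg : g.natDegree < n := by
        rw [← hn, natDegree_mul hp.ne_zero hg0]
        have := hp.natDegree_pos
        omega
      obtain ⟨q, hq, hqg, hqv⟩ := ih _ hdeg g rfl hg0 hgv
      exact ⟨q, hq, hqg.mul_left _, hqv⟩

theorem ord_poly_inf (hX : P₀.ord (RatFunc.X : RatFunc k) < 0) {q : k[X]} (hq : q ≠ 0) :
    P₀.ord (algebraMap k[X] (RatFunc k) q) = q.natDegree * P₀.ord (RatFunc.X : RatFunc k) := by
  have hX0 : (RatFunc.X : RatFunc k) ≠ 0 := RatFunc.X_ne_zero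
  have h1 : 1 < P₀.1 (RatFunc.X : RatFunc k) := (one_lt_val_iff' P₀ hX0).2 hX
  have := val_aeval_of_one_lt P₀ h1 q.natDegree q rfl hq
  rw [← algebraMap_eq_aeval_X] at this
  unfold Place.ord
  rw [this, WithZero.log_pow]
  simp

theorem ord_X_inf (hX : P₀.ord (RatFunc.X : RatFunc k) < 0) :
    P₀.ord (RatFunc.X : RatFunc k) = -1 := by
  obtain ⟨z, hz⟩ := P₀.2.2 (WithZero.exp (1 : ℤ))
  have hz0 : z ≠ 0 := by
    rintro rfl; rw [map_zero] at hz; exact WithZero.exp_ne_zero.symm hz
  have hordz : P₀.ord z = -1 := by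
    unfold Place.ord; rw [hz, WithZero.log_exp]
  have hnd := RatFunc.num_div_denom z
  have hd0 : z.denom ≠ 0 := RatFunc.denom_ne_zero z
  have hn0 : z.num ≠ 0 := RatFunc.num_ne_zero hz0
  have hd0' : algebraMap k[X] (RatFunc k) z.denom ≠ 0 := by simpa using hd0
  have hn0' : algebraMap k[X] (RatFunc k) z.num ≠ 0 := by simpa using hn0
  rw [← hnd, div_eq_mul_inv, Place.ord_mul P₀ hn0' (inv_ne_zero hd0'), Place.ord_inv,
    ord_poly_inf P₀ hX hn0, ord_poly_inf P₀ hX hd0] at hordz
  have hdvd : P₀.ord (RatFunc.X : RatFunc k) ∣ -1 := by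
    refine ⟨(z.num.natDegree : ℤ) - z.denom.natDegree, ?_⟩
    rw [← hordz]; ring
  have := Int.isUnit_iff.1 (isUnit_of_dvd_unit hdvd (by decide : IsUnit (-1 : ℤ)))
  omega

theorem deg_inf (hX : P₀.ord (RatFunc.X : RatFunc k) < 0) : P₀.deg = 1 := by
  classical
  have hK := (isFunctionField_ratFunc (k := k))
  have hKw : IsWeakFF k (RatFunc k) := hK.1
  have h1 := deg_poleDiv hKw (RatFunc.transcendental_X (K := k))
  rw [RatFunc.adjoin_X, IntermediateField.finrank_top] at h1
  have hle : (Finsupp.single P₀ 1 : Divisor k (RatFunc k)) ≤ poleDiv (RatFunc.X : RatFunc k) := by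
    intro Q
    by_cases hQ : Q = P₀
    · subst hQ
      rw [Finsupp.single_eq_same, poleDiv_apply hKw, ord_X_inf Q hX]
      simp
    · rw [Finsupp.single_eq_of_ne hQ]
      exact poleDiv_nonneg _ Q
  have h2 := Divisor.deg_mono hle
  rw [Divisor.deg_single, h1] at h2
  have h3 := Place.deg_pos hKw P₀
  push_cast at h2
  omega

end Rat

end Groth.Agent.Helper27.FFExt
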