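import Mathlib
import Groth.Agent.Lib.Helper16.FFW.Ext7
import Groth.Agent.Lib.Helper16.FFW.Ext4

set_option autoImplicit false

namespace Groth.Agent.Helper27.FFExt

open FunFld IntermediateField Groth.Agent.Helper16.FFW
open scoped WithZero

variable {k K K' : Type*} [Field k] [Field K] [Field K'] [Algebra k K] [Algebra K K'] [Algebra k K']
  [IsScalarTower k K K']

/-- `conorm_apply` with a finiteness hypothesis instead of `IsFunctionField`. -/
theorem conorm_apply' (hfin : ∀ P' : Place k K, {Q : Place k K' | IsOver Q P'}.Finite)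
    (D : Divisor k K)
    {Q : Place k K'} {P : Place k K} {e : ℕ} (h : IsOverWith Q P e) :
    conorm K' D Q = D P * e := by
  classical
  unfold conorm
  rw [Finsupp.sum_apply]
  have hterm : ∀ (P' : Place k K) (n : ℤ),
      (n • if h : {Q : Place k K' | IsOver Q P'}.Finite then
        h.toFinset.sum (fun Q => (ramIdx Q P' : ℤ) • (Finsupp.single Q 1 : Divisor k K')) else 0) Q =
      if P' = P then n * e else 0 := by
    intro P' n
    have hfin := hfin P'
    rw [dif_pos hfin, Finsupp.smul_apply, Finsupp.finsetSum_apply]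
    split_ifs with hP
    · subst hP
      have hQ : Q ∈ hfin.toFinset := by
        rw [Set.Finite.mem_toFinset]; exact ⟨e, h⟩
      rw [Finset.sum_eq_single_of_mem Q hQ (fun Q' _ hne => by
        rw [Finsupp.smul_apply, Finsupp.single_eq_of_ne hne.symm, smul_zero])]
      rw [Finsupp.smul_apply, Finsupp.single_eq_same, ramIdx_eq h]
      simp
    · rw [Finset.sum_eq_zero, smul_zero]
      intro Q' hQ'
      rw [Set.Finite.mem_toFinset] at hQ'
      obtain ⟨e', he'⟩ := hQ'
      have hne : Q' ≠ Q := by
        rintro rfl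
        exact hP (isOverWith_unique he' h).1
      rw [Finsupp.smul_apply, Finsupp.single_eq_of_ne hne.symm, smul_zero]
  simp_rw [hterm]
  rw [Finsupp.sum_eq_single P (fun b _ hb => by rw [if_neg hb]) (by simp), if_pos rfl]

theorem isOverWith_trans {K'' : Type*} [Field K''] [Algebra k K''] [Algebra K' K''] [Algebra K K'']
    [IsScalarTower K K' K''] {Q'' : Place k K''} {Q' : Place k K'} {P : Place k K} {e e' : ℕ}
    (h' : IsOverWith Q'' Q' e') (h : IsOverWith Q' P e) : IsOverWith Q'' P (e * e') := by
  intro x
  rw [IsScalarTower.algebraMap_apply K K' K'', h', h, pow_mul]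

theorem main12514 (k K K' K'' : Type*) [Field k] [Field K] [Field K'] [Field K'']
    [Algebra k K] [Algebra k K'] [Algebra k K''] [Algebra K K'] [Algebra K' K''] [Algebra K K'']
    [IsScalarTower k K K'] [IsScalarTower k K' K''] [IsScalarTower k K K''] [IsScalarTower K K' K'']
    [FiniteDimensional K K'] [FiniteDimensional K' K'']
    (hK : FunFld.IsFunctionField k K) (D : FunFld.Divisor k K) :
    FunFld.conorm K'' (FunFld.conorm K' D) = FunFld.conorm K'' D := by
  have hKw : IsWeakFF k K := hK.1
  have hK'w : IsWeakFF k K' := isWeakFF_of_finite hKw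
  haveI : FiniteDimensional K K'' := FiniteDimensional.trans K K' K''
  have hfin'' : ∀ P' : Place k K', {Q : Place k K'' | IsOver Q P'}.Finite := by
    intro P'
    obtain ⟨P, e, he⟩ := exists_isOverWith hKw P'
    refine ((sum_ramIdx_mul_deg (K' := K'') hK P).1).subset ?_
    rintro Q ⟨e', he'⟩
    exact ⟨e * e', isOverWith_trans he' he⟩
  ext Q''
  obtain ⟨Q', e', he'⟩ := exists_isOverWith hK'w Q''
  obtain ⟨P, e, he⟩ := exists_isOverWith hKw Q'
  rw [conorm_apply' hfin'' _ he', conorm_apply hK _ he, conorm_apply hK _ (isOverWith_trans he' he)]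
  push_cast
  ring

end Groth.Agent.Helper27.FFExt
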