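import Mathlib
import Groth.Agent.Lib.Helper16.FFW.Ext7
import Groth.Agent.Lib.Helper16.FFW.Ext4
import Groth.Agent.Lib.Helper16.FFW.Hyper2
import Groth.Agent.Lib.Helper16.FFW.Unram4

set_option autoImplicit false

namespace Groth.Agent.Helper27.FFExt

open FunFld IntermediateField Polynomial Groth.Agent.Helper16.FFW
open scoped WithZero

section general

variable {k K K' : Type*} [Field k] [Field K] [Field K'] [Algebra k K] [Algebra K K'] [Algebra k K']
  [IsScalarTower k K K']

theorem ramIdx_mul_deg_le [FiniteDimensional K K'] (hK : IsFunctionField k K)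
    {Q : Place k K'} {P : Place k K} {e : ℕ} (h : IsOverWith Q P e) :
    e * Q.deg ≤ Module.finrank K K' * P.deg := by
  classical
  obtain ⟨hfin, hsum⟩ := sum_ramIdx_mul_deg (K' := K') hK P
  have := hsum hfin.toFinset (fun Q => by rw [Set.Finite.mem_toFinset]; rfl)
  rw [← this]
  have hQ : Q ∈ hfin.toFinset := by rw [Set.Finite.mem_toFinset]; exact ⟨e, h⟩
  calc e * Q.deg = ramIdx Q P * Q.deg := by rw [ramIdx_eq h]
    _ ≤ _ := Finset.single_le_sum (f := fun Q => ramIdx Q P * Q.deg) (fun _ _ => Nat.zero_le _) hQ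

theorem ramIdx_le_finrank [FiniteDimensional K K'] (hK : IsFunctionField k K)
    {Q : Place k K'} {P : Place k K} {e : ℕ} (h : IsOverWith Q P e) :
    e ≤ Module.finrank K K' := by
  have hK' : IsWeakFF k K' := isWeakFF_of_finite hK.1
  have h1 := ramIdx_mul_deg_le hK h
  have h2 := deg_le_of_isOverWith hK' h
  have h3 : 0 < P.deg := Place.deg_pos hK.1 P
  by_contra hlt
  push Not at hlt
  have : Module.finrank K K' * P.deg < e * Q.deg := by
    calc Module.finrank K K' * P.deg < e * P.deg := Nat.mul_lt_mul_of_pos_right hlt h3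
      _ ≤ e * Q.deg := Nat.mul_le_mul_left _ h2
  omega

theorem exists_isOver [FiniteDimensional K K'] (hK : IsFunctionField k K) (P : Place k K) :
    ∃ Q : Place k K', IsOver Q P := by
  classical
  obtain ⟨hfin, hsum⟩ := sum_ramIdx_mul_deg (K' := K') hK P
  have := hsum hfin.toFinset (fun Q => by rw [Set.Finite.mem_toFinset]; rfl)
  have hpos : 0 < Module.finrank K K' * P.deg :=
    Nat.mul_pos Module.finrank_pos (Place.deg_pos hK.1 P)
  rw [← this] at hpos
  obtain ⟨Q, hQ, -⟩ := Finset.exists_ne_zero_of_sum_ne_zero hpos.ne'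
  rw [Set.Finite.mem_toFinset] at hQ
  exact ⟨Q, hQ⟩

/-- total ramification: if `e = n` then `Q` is the only place over `P` and `deg Q = deg P` -/
theorem totally_ramified [FiniteDimensional K K'] (hK : IsFunctionField k K)
    {Q : Place k K'} {P : Place k K} (h : IsOverWith Q P (Module.finrank K K')) :
    Q.deg = P.deg ∧ ∀ Q' : Place k K', IsOver Q' P → Q' = Q := by
  classical
  have hK' : IsWeakFF k K' := isWeakFF_of_finite hK.1
  have hn : 0 < Module.finrank K K' := Module.finrank_pos
  have h1 := ramIdx_mul_deg_le hK h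
  have h2 := deg_le_of_isOverWith hK' h
  have hdeg : Q.deg = P.deg := le_antisymm (Nat.le_of_mul_le_mul_left h1 hn) h2
  refine ⟨hdeg, fun Q' hQ' => ?_⟩
  by_contra hne
  obtain ⟨hfin, hsum⟩ := sum_ramIdx_mul_deg (K' := K') hK P
  have hs := hsum hfin.toFinset (fun Q => by rw [Set.Finite.mem_toFinset]; rfl)
  have hQ : Q ∈ hfin.toFinset := by rw [Set.Finite.mem_toFinset]; exact ⟨_, h⟩
  have hQ'm : Q' ∈ hfin.toFinset := by rw [Set.Finite.mem_toFinset]; exact hQ'
  have hsub : ({Q, Q'} : Finset (Place k K')) ⊆ hfin.toFinset := by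
    intro x hx
    rw [Finset.mem_insert, Finset.mem_singleton] at hx
    rcases hx with rfl | rfl
    · exact hQ
    · exact hQ'm
  have hle := Finset.sum_le_sum_of_subset (f := fun Q => ramIdx Q P * Q.deg) hsub
  rw [hs, Finset.sum_pair (Ne.symm hne), ramIdx_eq h, hdeg] at hle
  have hpos : 0 < ramIdx Q' P * Q'.deg :=
    Nat.mul_pos (isOverWith_pos (isOverWith_ramIdx hQ')) (Place.deg_pos hK' Q')
  omega

end general

end Groth.Agent.Helper27.FFExt
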