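import Mathlib
import Groth.Agent.Lib.Helper27.FFExtA
import Groth.Agent.Lib.Helper27.FFExtB
import Groth.Agent.Lib.Helper27.FFExtC

set_option autoImplicit false

namespace Groth.Agent.Helper27.FFExt

open FunFld IntermediateField Polynomial Groth.Agent.Helper16.FFW
open scoped WithZero

section Quad

variable {F K : Type*} [Field F] [Field K] [Algebra F K]

theorem adjoin_eq_top_of_finrank_two (hdeg : Module.finrank F K = 2) {z : K}
    (hz : z ∉ Set.range (algebraMap F K)) : F⟮z⟯ = ⊤ := by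
  haveI : FiniteDimensional F K := Module.finite_of_finrank_pos (by omega)
  have h1 := Module.finrank_mul_finrank F F⟮z⟯ K
  have hne : Module.finrank F F⟮z⟯ ≠ 1 := by
    rw [Ne, IntermediateField.finrank_adjoin_simple_eq_one_iff, IntermediateField.mem_bot]
    exact hz
  have hdvd : Module.finrank F F⟮z⟯ ∣ 2 := ⟨_, by rw [h1, hdeg]⟩
  have h2 : Module.finrank F F⟮z⟯ = 2 := by
    have := (Nat.dvd_prime Nat.prime_two).1 hdvd
    tauto
  apply IntermediateField.eq_of_le_of_finrank_le le_top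
  rw [IntermediateField.finrank_top', hdeg, h2]

theorem minpoly_quadratic {z : K} (hz : z ∉ Set.range (algebraMap F K)) (a b : F)
    (hroot : z ^ 2 + algebraMap F K a * z + algebraMap F K b = 0) :
    minpoly F z = X ^ 2 + C a * X + C b := by
  set h : F[X] := X ^ 2 + C a * X + C b with hh
  have hr : aeval z h = 0 := by
    rw [hh]; simp only [map_add, map_mul, map_pow, aeval_X, aeval_C]; exact hroot
  have hdegh : h.natDegree = 2 := by rw [hh]; compute_degree!
  have hmonic : h.Monic := by rw [hh]; monicity!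
  have hint : IsIntegral F z := ⟨h, hmonic, hr⟩
  symm
  apply eq_of_monic_of_dvd_of_natDegree_le (minpoly.monic hint) hmonic (minpoly.dvd _ _ hr)
  rw [hdegh]
  exact (minpoly.two_le_natDegree_iff hint).2 hz

end Quad

section Hyper

variable {k K : Type*} [Field k] [Field K] [Algebra k K]
    [Algebra (RatFunc k) K] [IsScalarTower k (RatFunc k) K]

theorem two_mul_ord_eq {y : K} {φ : RatFunc k} (heq : y ^ 2 = algebraMap (RatFunc k) K φ)
    {P : Place k K} {P₀ : Place k (RatFunc k)} {e : ℕ} (he : IsOverWith P P₀ e) :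
    2 * P.ord y = e * P₀.ord φ := by
  rw [← ord_of_isOverWith he, ← heq, Place.ord_pow]; norm_num

theorem ord_pos_imp (P₀ : Place k (RatFunc k)) {f : k[X]} (hf : Squarefree f)
    (h : 0 < P₀.ord (algebraMap k[X] (RatFunc k) f)) :
    P₀.ord (algebraMap k[X] (RatFunc k) f) = 1 ∧ 0 ≤ P₀.ord (RatFunc.X : RatFunc k) := by
  have hf0 : f ≠ 0 := hf.ne_zero
  have hf0' : algebraMap k[X] (RatFunc k) f ≠ 0 := by simpa using hf0
  have hv : P₀.1 (algebraMap k[X] (RatFunc k) f) < 1 := (Place.val_lt_one_iff P₀ hf0').2 h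
  have hX := val_X_le_one_of_val_lt_one P₀ hf0 hv
  obtain ⟨p, hp, hpf, hpv⟩ := exists_irreducible_factor_val_lt_one P₀ _ f rfl hf0 hv
  exact ⟨ord_poly_eq_one_of_squarefree P₀ hp hpv hf hpf,
    (Place.val_le_one_iff P₀ RatFunc.X_ne_zero).1 hX⟩

theorem main12535 (k K : Type*) [Field k] [Field K] [Algebra k K]
    [Algebra (RatFunc k) K] [IsScalarTower k (RatFunc k) K]
    (hdeg : Module.finrank (RatFunc k) K = 2) (y : K) (f : Polynomial k) (hf : Squarefree f)
    (heq : y ^ 2 = algebraMap (RatFunc k) K (algebraMap (Polynomial k) (RatFunc k) f)) (P : FunFld.Place k K) :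
    (0 < P.ord y → P.ord y = 1) ∧
    (0 < P.ord y ↔ ∃ P₀ : FunFld.Place k (RatFunc k), FunFld.IsOver P P₀ ∧ 0 ≤ P₀.ord (RatFunc.X : RatFunc k) ∧
      0 < P₀.ord (algebraMap (Polynomial k) (RatFunc k) f)) := by
  haveI : FiniteDimensional (RatFunc k) K := Module.finite_of_finrank_pos (by omega)
  have hK := (isFunctionField_ratFunc (k := k))
  obtain ⟨P₀, e, he⟩ := exists_isOverWith hK.1 P
  have hepos := isOverWith_pos he
  have h2 := two_mul_ord_eq heq he
  have hele := ramIdx_le_finrank hK he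
  rw [hdeg] at hele
  have key : 0 < P.ord y → 0 < P₀.ord (algebraMap (Polynomial k) (RatFunc k) f) := by
    intro hpos
    by_contra hcon
    push Not at hcon
    have : (e : ℤ) * P₀.ord (algebraMap (Polynomial k) (RatFunc k) f) ≤ 0 :=
      mul_nonpos_of_nonneg_of_nonpos (by positivity) hcon
    omega
  refine ⟨fun hpos => ?_, ⟨fun hpos => ?_, ?_⟩⟩
  · obtain ⟨h1, -⟩ := ord_pos_imp P₀ hf (key hpos)
    rw [h1, mul_one] at h2
    omega
  · obtain ⟨h1, hX⟩ := ord_pos_imp P₀ hf (key hpos)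
    exact ⟨P₀, ⟨e, he⟩, hX, key hpos⟩
  · rintro ⟨P₀', ⟨e', he'⟩, -, hpos⟩
    have h2' := two_mul_ord_eq heq he'
    have hepos' := isOverWith_pos he'
    have : 0 < (e' : ℤ) * P₀'.ord (algebraMap (Polynomial k) (RatFunc k) f) :=
      mul_pos (by exact_mod_cast hepos') hpos
    omega

end Hyper

end Groth.Agent.Helper27.FFExt
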