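import Mathlib
import Groth.Agent.Lib.Helper27.FFExtD

set_option autoImplicit false

namespace Groth.Agent.Helper27.FFExt

open IntermediateField Polynomial

section Quad

variable {F K : Type*} [Field F] [Field K] [Algebra F K]

theorem exists_not_mem_range_of_finrank_two (hdeg : Module.finrank F K = 2) :
    ∃ z : K, z ∉ Set.range (algebraMap F K) := by
  by_contra hcon
  push Not at hcon
  have hsurj : Function.Surjective (algebraMap F K) := hcon
  have e : F ≃ₗ[F] K := LinearEquiv.ofBijective (Algebra.linearMap F K)
    ⟨(algebraMap F K).injective, hsurj⟩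
  have := e.finrank_eq
  rw [Module.finrank_self, hdeg] at this
  omega

/-- a quadratic relation for an element outside the base field -/
theorem exists_quadratic (hdeg : Module.finrank F K = 2) (z : K) :
    ∃ a b : F, z ^ 2 + algebraMap F K a * z + algebraMap F K b = 0 := by
  haveI : FiniteDimensional F K := Module.finite_of_finrank_pos (by omega)
  have hint : IsIntegral F z := IsIntegral.of_finite F z
  by_cases hz : z ∈ Set.range (algebraMap F K)
  · obtain ⟨c, rfl⟩ := hz
    refine ⟨-c, 0, ?_⟩
    rw [map_neg, map_zero]; ring
  · have htop := adjoin_eq_top_of_finrank_two hdeg hz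
    have hnd : (minpoly F z).natDegree = 2 := by
      rw [← IntermediateField.adjoin.finrank hint, htop, IntermediateField.finrank_top', hdeg]
    have hmonic := minpoly.monic hint
    refine ⟨(minpoly F z).coeff 1, (minpoly F z).coeff 0, ?_⟩
    have h := minpoly.aeval F z
    rw [Polynomial.aeval_eq_sum_range, hnd, Finset.sum_range_succ, Finset.sum_range_succ,
      Finset.sum_range_one] at h
    have hlead : (minpoly F z).coeff 2 = 1 := by
      have := hmonic.coeff_natDegree
      rwa [hnd] at this
    rw [hlead, one_smul, pow_zero, pow_one, Algebra.smul_def, Algebra.smul_def, mul_one] at h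
    rw [← h]; ring

end Quad

theorem main12517 (k K : Type*) [Field k] [Field K]
    (h2 : ringChar k = 2) [Algebra (RatFunc k) K] (hdeg : Module.finrank (RatFunc k) K = 2)
    [Algebra.IsSeparable (RatFunc k) K] :
    ∃ (y : K) (f : RatFunc k), y ^ 2 + y = algebraMap (RatFunc k) K f ∧
      IntermediateField.adjoin (RatFunc k) ({y} : Set K) = ⊤ := by
  obtain ⟨z, hz⟩ := exists_not_mem_range_of_finrank_two hdeg
  obtain ⟨a, b, hab⟩ := exists_quadratic hdeg z
  have h2k : (2 : k) = 0 := by
    haveI := ringChar.charP k
    have := CharP.cast_eq_zero k (ringChar k)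
    rw [h2] at this
    exact_mod_cast this
  have h2F : (2 : RatFunc k) = 0 := by
    have : (2 : RatFunc k) = algebraMap k (RatFunc k) 2 := (map_ofNat _ 2).symm
    rw [this, h2k, map_zero]
  have h2K : (2 : K) = 0 := by
    have : (2 : K) = algebraMap (RatFunc k) K 2 := (map_ofNat _ 2).symm
    rw [this, h2F, map_zero]
  have hmin := minpoly_quadratic hz a b hab
  have ha : a ≠ 0 := by
    rintro rfl
    have hsep : (minpoly (RatFunc k) z).Separable := Algebra.IsSeparable.isSeparable (RatFunc k) z
    rw [hmin, Polynomial.separable_def] at hsep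
    have hder : derivative (X ^ 2 + C (0 : RatFunc k) * X + C b) = 0 := by
      rw [derivative_add, derivative_add, derivative_X_pow, derivative_C, map_zero, zero_mul,
        derivative_zero]
      have : ((2 : ℕ) : RatFunc k) = 0 := by exact_mod_cast h2F
      rw [this, map_zero, zero_mul, add_zero, add_zero]
    rw [hder, isCoprime_zero_right] at hsep
    have := Polynomial.natDegree_eq_zero_of_isUnit hsep
    have hd : (X ^ 2 + C (0 : RatFunc k) * X + C b).natDegree = 2 := by compute_degree!
    omega
  have ha' : algebraMap (RatFunc k) K a ≠ 0 := by simpa using ha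
  refine ⟨z / algebraMap (RatFunc k) K a, b / a ^ 2, ?_, ?_⟩
  · rw [map_div₀, map_pow]
    have hb : algebraMap (RatFunc k) K b = -(z ^ 2 + algebraMap (RatFunc k) K a * z) := by
      linear_combination hab
    have hneg : ∀ w : K, -w = w := by
      intro w
      have : w + w = 0 := by rw [← two_mul, h2K, zero_mul]
      linear_combination -this
    rw [hb, hneg]
    field_simp
  · apply adjoin_eq_top_of_finrank_two hdeg
    rintro ⟨w, hw⟩
    apply hz
    refine ⟨w * a, ?_⟩
    rw [map_mul, hw]
    field_simp

end Groth.Agent.Helper27.FFExt
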