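import Mathlib
import Groth.Agent.Lib.Helper27.QuadA

set_option autoImplicit false

namespace Groth.Agent.Helper27.FFExt

open IntermediateField Polynomial

theorem exists_sq_mul_squarefree {k : Type*} [Field k] :
    ∀ (n : ℕ) (g : k[X]), g.natDegree = n → g ≠ 0 → ∃ s f : k[X], g = s ^ 2 * f ∧ Squarefree f := by
  intro n
  induction n using Nat.strong_induction_on with
  | _ n ih =>
    intro g hn hg
    by_cases hsq : Squarefree g
    · exact ⟨1, g, by ring, hsq⟩
    · unfold Squarefree at hsq
      push Not at hsq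
      obtain ⟨p, ⟨g', hg'⟩, hpu⟩ := hsq
      have hp0 : p ≠ 0 := by rintro rfl; simp at hg'; exact hg hg'
      have hg'0 : g' ≠ 0 := by rintro rfl; simp at hg'; exact hg hg'
      have hpd : 0 < p.natDegree := by
        rw [Polynomial.natDegree_pos_iff_degree_pos]
        by_contra hcon
        push Not at hcon
        apply hpu
        rw [Polynomial.isUnit_iff_degree_eq_zero]
        have h0 : 0 ≤ p.degree := Polynomial.zero_le_degree_iff.2 hp0
        exact le_antisymm hcon h0
      have hdeg : g'.natDegree < n := by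
        rw [← hn, hg', Polynomial.natDegree_mul (mul_ne_zero hp0 hp0) hg'0,
          Polynomial.natDegree_mul hp0 hp0]
        omega
      obtain ⟨s', f', hs', hf'⟩ := ih _ hdeg g' rfl hg'0
      exact ⟨p * s', f', by rw [hg', hs']; ring, hf'⟩

theorem main12515 (k K : Type*) [Field k] [Field K] (h2 : ringChar k ≠ 2)
    [Algebra (RatFunc k) K] (hdeg : Module.finrank (RatFunc k) K = 2) :
    ∃ (y : K) (f : Polynomial k), Squarefree f ∧
      y ^ 2 = algebraMap (RatFunc k) K (algebraMap (Polynomial k) (RatFunc k) f) ∧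
      IntermediateField.adjoin (RatFunc k) ({y} : Set K) = ⊤ := by
  obtain ⟨z, hz⟩ := exists_not_mem_range_of_finrank_two hdeg
  obtain ⟨a, b, hab⟩ := exists_quadratic hdeg z
  have h2k : (2 : k) ≠ 0 := Ring.two_ne_zero h2
  have h2F : (2 : RatFunc k) ≠ 0 := by
    have : (2 : RatFunc k) = algebraMap k (RatFunc k) 2 := (map_ofNat _ 2).symm
    rw [this]
    exact (_root_.map_ne_zero _).2 h2k
  have h2K : (2 : K) ≠ 0 := by
    have : (2 : K) = algebraMap (RatFunc k) K 2 := (map_ofNat _ 2).symm
    rw [this]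
    exact (_root_.map_ne_zero _).2 h2F
  set w : K := z + algebraMap (RatFunc k) K (a / 2) with hw
  set r : RatFunc k := a ^ 2 / 4 - b with hr
  have hwr : w ^ 2 = algebraMap (RatFunc k) K r := by
    rw [hw, hr, map_sub, map_div₀, map_div₀, map_pow]
    have h4 : (algebraMap (RatFunc k) K) 4 = 4 := map_ofNat _ 4
    have h2' : (algebraMap (RatFunc k) K) 2 = 2 := map_ofNat _ 2
    rw [h4, h2']
    have hb : algebraMap (RatFunc k) K b = -(z ^ 2 + algebraMap (RatFunc k) K a * z) := by
      linear_combination hab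
    rw [hb]
    have h4K : (4 : K) ≠ 0 := by
      have : (4 : K) = 2 * 2 := by norm_num
      rw [this]; exact mul_ne_zero h2K h2K
    field_simp
    ring
  have hwF : w ∉ Set.range (algebraMap (RatFunc k) K) := by
    rintro ⟨c, hc⟩
    apply hz
    refine ⟨c - a / 2, ?_⟩
    rw [map_sub, hc, hw]; ring
  have hw0 : w ≠ 0 := by
    intro h; exact hwF ⟨0, by rw [map_zero, h]⟩
  have hr0 : r ≠ 0 := by
    intro h
    rw [h, map_zero] at hwr
    exact hw0 (pow_eq_zero_iff (by norm_num) |>.1 hwr)
  have hnd := RatFunc.num_div_denom r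
  have hd0 : r.denom ≠ 0 := RatFunc.denom_ne_zero r
  have hn0 : r.num ≠ 0 := RatFunc.num_ne_zero hr0
  have hd0' : algebraMap k[X] (RatFunc k) r.denom ≠ 0 := by simpa using hd0
  obtain ⟨s, f, hsf, hfsq⟩ := exists_sq_mul_squarefree _ (r.num * r.denom) rfl (mul_ne_zero hn0 hd0)
  have hs0 : s ≠ 0 := by
    rintro rfl
    rw [zero_pow (by norm_num), zero_mul] at hsf
    exact mul_ne_zero hn0 hd0 hsf
  have hs0' : algebraMap k[X] (RatFunc k) s ≠ 0 := by simpa using hs0
  set ι := algebraMap (RatFunc k) K with hι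
  have hιd : ι (algebraMap k[X] (RatFunc k) r.denom) ≠ 0 := by simpa using hd0'
  have hιs : ι (algebraMap k[X] (RatFunc k) s) ≠ 0 := by simpa using hs0'
  set y : K := w * ι (algebraMap k[X] (RatFunc k) r.denom) / ι (algebraMap k[X] (RatFunc k) s) with hy
  refine ⟨y, f, hfsq, ?_, ?_⟩
  · have h1 : r * (algebraMap k[X] (RatFunc k) r.denom) ^ 2 =
        (algebraMap k[X] (RatFunc k) s) ^ 2 * algebraMap k[X] (RatFunc k) f := by
      calc r * (algebraMap k[X] (RatFunc k) r.denom) ^ 2
          = (algebraMap k[X] (RatFunc k) r.num / algebraMap k[X] (RatFunc k) r.denom) *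
              (algebraMap k[X] (RatFunc k) r.denom) ^ 2 := by rw [hnd]
        _ = algebraMap k[X] (RatFunc k) r.num * algebraMap k[X] (RatFunc k) r.denom := by
            field_simp
        _ = algebraMap k[X] (RatFunc k) (r.num * r.denom) := (map_mul _ _ _).symm
        _ = algebraMap k[X] (RatFunc k) (s ^ 2 * f) := by rw [hsf]
        _ = _ := by rw [map_mul, map_pow]
    have h2' := congrArg ι h1
    rw [map_mul, map_mul, map_pow, map_pow] at h2'
    rw [hy, _root_.div_pow, mul_pow, hwr, h2']
    field_simp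
  · apply adjoin_eq_top_of_finrank_two hdeg
    rintro ⟨c, hc⟩
    apply hwF
    refine ⟨c * algebraMap k[X] (RatFunc k) s / algebraMap k[X] (RatFunc k) r.denom, ?_⟩
    rw [map_div₀, map_mul, hc, hy]
    field_simp

end Groth.Agent.Helper27.FFExt
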