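import Mathlib
import Groth.Agent.Lib.Helper27.QuadB
import Groth.Agent.Lib.Helper27.FFExtC
import Groth.Agent.Lib.Helper16.FF.StrongApprox
import Groth.Agent.Lib.Helper16.FF.Rational

set_option autoImplicit false

namespace Groth.Agent.Helper27.FFExt

open FunFld IntermediateField Groth.Agent.Helper16.FFW
open scoped WithZero

section Approx

variable {k K : Type*} [Field k] [Field K] [Algebra k K]

/-- approximation at a single place without introducing other poles, in genus `0` -/
theorem approx_genus_zero (hK : IsFunctionField k K) (hg : genus k K = 0) (P : Place k K) (n : ℕ)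
    (h : K) : ∃ g : K, P.1 (g - h) ≤ WithZero.exp (n : ℤ) ∧ ∀ Q : Place k K, Q ≠ P → Q.1 g ≤ 1 := by
  classical
  set D : Divisor k K := n • (Finsupp.single P 1 : Divisor k K) with hD
  have hdeg : D.deg = n * P.deg := by
    rw [hD, Groth.Agent.Helper16.FF.Divisor.deg_nsmul, Groth.Agent.Helper16.FF.Divisor.deg_single,
      one_mul]
  have h0 : (0 : ℤ) ≤ (n : ℤ) * (P.deg : ℤ) := by positivity
  have hell := Groth.Agent.Helper16.FF.ell_eq_of_large hK (D := D) (by
    rw [hg, hdeg]; push_cast; linarith)
  have hA := Groth.Agent.Helper16.FF.AD_sup_eq_adele hK (D := D) (by rw [hell, hg]; ring)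
  let α : Place k K → K := fun Q => if Q = P then h else 0
  have hα : α ∈ adele k K := by
    rw [Groth.Agent.Helper16.FF.mem_adele]
    refine (Set.finite_singleton P).subset ?_
    intro Q hQ
    by_contra hQ'
    apply hQ
    have : α Q = 0 := if_neg hQ'
    rw [this, map_zero]
    exact zero_le
  rw [← hA] at hα
  obtain ⟨a, ha, c, ⟨g, rfl⟩, hac⟩ := Submodule.mem_sup.1 hα
  refine ⟨g, ?_, ?_⟩
  · have h1 := ha P
    have h2 : a P = h - g := by
      have := congrFun hac P
      rw [Pi.add_apply, Groth.Agent.Helper16.FF.diag_apply] at this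
      have hαP : α P = h := if_pos rfl
      rw [hαP] at this
      rw [← this]; ring
    rw [h2, hD, Finsupp.smul_apply, Finsupp.single_eq_same] at h1
    rw [← Valuation.map_neg, neg_sub]
    simpa using h1
  · intro Q hQ
    have h1 := ha Q
    have h2 : a Q = -g := by
      have := congrFun hac Q
      rw [Pi.add_apply, Groth.Agent.Helper16.FF.diag_apply] at this
      have hαQ : α Q = 0 := if_neg hQ
      rw [hαQ] at this
      rw [eq_neg_iff_add_eq_zero]; exact this
    rw [h2, hD, Finsupp.smul_apply, Finsupp.single_eq_of_ne hQ, smul_zero, Valuation.map_neg,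
      WithZero.exp_zero] at h1
    exact h1

theorem genus_ratFunc (k : Type*) [Field k] : genus k (RatFunc k) = 0 := by
  apply Groth.Agent.Helper16.FF.genus_eq_zero_of_finrank_eq_one isFunctionField_ratFunc
    (RatFunc.transcendental_X (K := k))
  rw [RatFunc.adjoin_X, IntermediateField.finrank_top]

/-- the pole part is monotone under `v x' ≤ max (v x) 1` -/
theorem polePart_le (Q : Place k K) {x x' : K} (h : Q.1 x' ≤ max (Q.1 x) 1) :
    max (-Q.ord x') 0 ≤ max (-Q.ord x) 0 := by
  by_cases hx' : x' = 0
  · rw [hx', Place.ord_zero]; simp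
  apply max_le _ (le_max_right _ _)
  by_cases hx : x = 0
  · rw [hx, map_zero, max_eq_right zero_le] at h
    have := (Place.val_le_one_iff Q hx').1 h
    rw [hx, Place.ord_zero]; simp; omega
  · rcases le_max_iff.1 h with h1 | h1
    · rw [Place.val_eq_exp_neg_ord Q hx, Place.val_le_exp_iff Q hx'] at h1
      exact le_max_of_le_left (by omega)
    · have := (Place.val_le_one_iff Q hx').1 h1
      exact le_max_of_le_right (by omega)

end Approx

end Groth.Agent.Helper27.FFExt
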