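import Mathlib
import Groth.Agent.Lib.Helper27.ASA

set_option autoImplicit false

namespace Groth.Agent.Helper27.FFExt

open FunFld IntermediateField Groth.Agent.Helper16.FFW
open scoped WithZero

section Step

variable {k : Type*} [Field k] [PerfectField k]

theorem two_eq_zero_of_ringChar {R : Type*} [Ring R] (h2 : ringChar R = 2) : (2 : R) = 0 := by
  haveI := ringChar.charP R
  have := CharP.cast_eq_zero R (ringChar R)
  rw [h2] at this
  exact_mod_cast this

theorem two_eq_zero_ratFunc (h2 : ringChar k = 2) : (2 : RatFunc k) = 0 := by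
  have : (2 : RatFunc k) = algebraMap k (RatFunc k) 2 := (map_ofNat _ 2).symm
  rw [this, two_eq_zero_of_ringChar h2, map_zero]

/-- square roots in the residue field -/
theorem exists_sq_residue (h2 : ringChar k = 2) (P : Place k (RatFunc k))
    (a : IsLocalRing.ResidueField P.O) : ∃ c : IsLocalRing.ResidueField P.O, c ^ 2 = a := by
  have hKw : IsWeakFF k (RatFunc k) := (isFunctionField_ratFunc (k := k)).1
  haveI hfd : @Module.Finite k (IsLocalRing.ResidueField P.O) _ _ (Algebra.toModule) :=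
    Place.finiteDimensional_residueField hKw P
  haveI : Algebra.IsAlgebraic k (IsLocalRing.ResidueField P.O) := Algebra.IsAlgebraic.of_finite _ _
  haveI : PerfectField (IsLocalRing.ResidueField P.O) := Algebra.IsAlgebraic.perfectField k
  haveI : CharP k 2 := by have := ringChar.charP k; rwa [h2] at this
  haveI : CharP (IsLocalRing.ResidueField P.O) 2 :=
    charP_of_injective_algebraMap (algebraMap k (IsLocalRing.ResidueField P.O)).injective 2
  haveI : ExpChar (IsLocalRing.ResidueField P.O) 2 := ExpChar.prime Nat.prime_two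
  obtain ⟨c, hc⟩ := surjective_frobenius (IsLocalRing.ResidueField P.O) 2 a
  exact ⟨c, hc⟩

theorem as_step (h2 : ringChar k = 2) (f : RatFunc k) (P : Place k (RatFunc k)) (m : ℕ)
    (hm : 1 ≤ m) (hP : P.ord f = -(2 * m : ℤ)) :
    ∃ g : RatFunc k, (poleDiv (f + g ^ 2 + g) : Divisor k (RatFunc k)) + Finsupp.single P 1 ≤
      poleDiv f := by
  have hK := isFunctionField_ratFunc (k := k)
  have hKw : IsWeakFF k (RatFunc k) := hK.1
  have h2F := two_eq_zero_ratFunc h2
  have hneg : ∀ w : RatFunc k, -w = w := by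
    intro w
    have : w + w = 0 := by rw [← two_mul, h2F, zero_mul]
    linear_combination -this
  have hf0 : f ≠ 0 := by
    rintro rfl; rw [Place.ord_zero] at hP; omega
  obtain ⟨t, ht⟩ := Place.exists_uniformizer P
  have ht0 : t ≠ 0 := by
    rintro rfl; rw [map_zero] at ht; exact WithZero.exp_ne_zero.symm ht
  have hfv : P.1 f = WithZero.exp (2 * m : ℤ) := by
    rw [Place.val_eq_exp_neg_ord P hf0, hP]; simp
  have htpow : ∀ n : ℕ, P.1 (t ^ n) = WithZero.exp (-(n : ℤ)) := by
    intro n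
    rw [map_pow, ht, ← WithZero.exp_nsmul]; simp
  set u := f * t ^ (2 * m) with hu
  have huv : P.1 u = 1 := by
    rw [hu, map_mul, hfv, htpow, ← WithZero.exp_add, ← WithZero.exp_zero]
    congr 1; push_cast; ring
  let U : P.O := ⟨u, (Place.mem_O_iff P _).2 huv.le⟩
  obtain ⟨c, hc⟩ := exists_sq_residue h2 P (IsLocalRing.residue P.O U)
  obtain ⟨c₀, rfl⟩ := IsLocalRing.residue_surjective c
  have hc₀v : P.1 (c₀ : RatFunc k) ≤ 1 := (Place.mem_O_iff P _).1 c₀.2
  set h : RatFunc k := (c₀ : RatFunc k) / t ^ m with hh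
  obtain ⟨g, hgP, hgQ⟩ := approx_genus_zero hK (genus_ratFunc k) P (m - 1) h
  refine ⟨g, ?_⟩
  -- valuation at `P`
  have hres : IsLocalRing.residue P.O (U + c₀ ^ 2) = 0 := by
    rw [map_add, map_pow, hc, ← two_mul]
    have : (2 : IsLocalRing.ResidueField P.O) = 0 := by
      have h' : (2 : IsLocalRing.ResidueField P.O) = algebraMap k _ 2 := (map_ofNat _ 2).symm
      rw [h', two_eq_zero_of_ringChar h2, map_zero]
    rw [this, zero_mul]
  have hUc : P.1 (u + (c₀ : RatFunc k) ^ 2) ≤ WithZero.exp (-1 : ℤ) :=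
    lt_one_iff_le_exp_neg_one.1 ((Place.residue_eq_zero_iff P _).1 hres)
  have hfh : P.1 (f + h ^ 2) ≤ WithZero.exp (2 * m - 1 : ℤ) := by
    have : f + h ^ 2 = (u + (c₀ : RatFunc k) ^ 2) / t ^ (2 * m) := by
      rw [hu, hh]; field_simp; ring
    rw [this, map_div₀, htpow, div_le_iff₀ WithZero.exp_pos]
    refine hUc.trans (le_of_eq ?_)
    rw [← WithZero.exp_add]; congr 1; push_cast; ring
  have hgh2 : P.1 ((g - h) ^ 2) ≤ WithZero.exp (2 * m - 1 : ℤ) := by
    rw [map_pow]
    calc P.1 (g - h) ^ 2 ≤ (WithZero.exp ((m - 1 : ℕ) : ℤ)) ^ 2 := by gcongr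
      _ = WithZero.exp (2 * ((m - 1 : ℕ) : ℤ)) := by
          rw [← WithZero.exp_nsmul]; congr 1
      _ ≤ _ := WithZero.exp_le_exp.2 (by omega)
  have hhv : P.1 h ≤ WithZero.exp (2 * m - 1 : ℤ) := by
    rw [hh, map_div₀, htpow, div_le_iff₀ WithZero.exp_pos]
    refine hc₀v.trans ?_
    rw [← WithZero.exp_add, ← WithZero.exp_zero]
    exact WithZero.exp_le_exp.2 (by omega)
  have hgv : P.1 g ≤ WithZero.exp (2 * m - 1 : ℤ) := by
    have : g = (g - h) + h := by ring
    rw [this]
    refine (P.1.map_add _ _).trans (max_le (hgP.trans ?_) hhv)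
    exact WithZero.exp_le_exp.2 (by omega)
  have hf'P : P.1 (f + g ^ 2 + g) ≤ WithZero.exp (2 * m - 1 : ℤ) := by
    have : f + g ^ 2 + g = (f + h ^ 2) + (g - h) ^ 2 + g := by
      linear_combination (-(h ^ 2 - g * h)) * h2F
    rw [this]
    exact (P.1.map_add _ _).trans (max_le ((P.1.map_add _ _).trans (max_le hfh hgh2)) hgv)
  have hf'Q : ∀ Q : Place k (RatFunc k), Q ≠ P → Q.1 (f + g ^ 2 + g) ≤ max (Q.1 f) 1 := by
    intro Q hQ
    have hg1 := hgQ Q hQ
    have hg2 : Q.1 (g ^ 2) ≤ 1 := by rw [map_pow]; exact pow_le_one' hg1 2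
    refine (Q.1.map_add _ _).trans (max_le ((Q.1.map_add _ _).trans (max_le (le_max_left _ _)
      (hg2.trans (le_max_right _ _)))) (hg1.trans (le_max_right _ _)))
  intro Q
  rw [Finsupp.add_apply, poleDiv_apply hKw, poleDiv_apply hKw]
  by_cases hQ : Q = P
  · subst hQ
    rw [Finsupp.single_eq_same, hP]
    have h1 : max (-Q.ord (f + g ^ 2 + g)) 0 ≤ 2 * m - 1 := by
      apply max_le _ (by omega)
      by_cases h0 : f + g ^ 2 + g = 0
      · rw [h0, Place.ord_zero]; omega
      · have := (Place.val_le_exp_iff Q h0 _).1 hf'P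
        omega
    have h3 : max (-(-(2 * (m : ℤ)))) 0 = 2 * m := by
      rw [neg_neg]; exact max_eq_left (by positivity)
    rw [h3]; omega
  · rw [Finsupp.single_eq_of_ne hQ, add_zero]
    exact polePart_le Q (hf'Q Q hQ)

end Step

end Groth.Agent.Helper27.FFExt
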