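import Mathlib
import Groth.Agent.Lib.Helper27.ASB

set_option autoImplicit false

namespace Groth.Agent.Helper27.FFExt

open FunFld IntermediateField Groth.Agent.Helper16.FFW
open scoped WithZero

section Main

variable {k : Type*} [Field k] [PerfectField k]

theorem as_reduce (h2 : ringChar k = 2) :
    ∀ (n : ℕ) (f : RatFunc k), (poleDiv f : Divisor k (RatFunc k)).deg.toNat = n →
      ∃ g : RatFunc k, ∀ P : Place k (RatFunc k),
        P.ord (f + g ^ 2 + g) < 0 → Odd (P.ord (f + g ^ 2 + g)) := by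
  have hK := isFunctionField_ratFunc (k := k)
  have hKw : IsWeakFF k (RatFunc k) := hK.1
  have h2F := two_eq_zero_ratFunc h2
  intro n
  induction n using Nat.strong_induction_on with
  | _ n ih =>
    intro f hn
    by_cases hall : ∀ P : Place k (RatFunc k), P.ord f < 0 → Odd (P.ord f)
    · exact ⟨0, by simpa using hall⟩
    push Not at hall
    obtain ⟨P, hPneg, hPodd⟩ := hall
    rw [Int.not_odd_iff_even] at hPodd
    obtain ⟨r, hr⟩ := hPodd
    have hm : 1 ≤ (-r).toNat := by omega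
    have hP : P.ord f = -(2 * ((-r).toNat : ℕ) : ℤ) := by
      rw [Int.toNat_of_nonneg (by omega)]; omega
    obtain ⟨g₁, hg₁⟩ := as_step h2 f P _ hm hP
    set f₁ := f + g₁ ^ 2 + g₁ with hf₁
    have hd1 := Divisor.deg_mono hg₁
    rw [Divisor.deg_add, Divisor.deg_single] at hd1
    have hdegP : (1 : ℤ) ≤ P.deg := by exact_mod_cast Place.deg_pos hKw P
    have hnn : (0 : ℤ) ≤ (poleDiv f₁ : Divisor k (RatFunc k)).deg := by
      have := Divisor.deg_mono (poleDiv_nonneg (k := k) f₁)
      rwa [Divisor.deg_zero] at this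
    have hlt : (poleDiv f₁ : Divisor k (RatFunc k)).deg.toNat < n := by
      rw [← hn]
      omega
    obtain ⟨g₂, hg₂⟩ := ih _ hlt f₁ rfl
    refine ⟨g₁ + g₂, ?_⟩
    have : f + (g₁ + g₂) ^ 2 + (g₁ + g₂) = f₁ + g₂ ^ 2 + g₂ := by
      rw [hf₁]
      linear_combination (g₁ * g₂) * h2F
    rw [this]
    exact hg₂

end Main

section Quad

variable {F K : Type*} [Field F] [Field K] [Algebra F K]

theorem not_mem_range_of_adjoin_eq_top (hdeg : Module.finrank F K = 2) {y : K}
    (h : F⟮y⟯ = ⊤) : y ∉ Set.range (algebraMap F K) := by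
  rintro ⟨c, rfl⟩
  have hbot : F⟮algebraMap F K c⟯ = ⊥ :=
    IntermediateField.adjoin_simple_eq_bot_iff.2 (IntermediateField.algebraMap_mem ⊥ c)
  rw [hbot] at h
  have := IntermediateField.finrank_bot (F := F) (E := K)
  rw [h, IntermediateField.finrank_top'] at this
  omega

end Quad

theorem main12518 (k K : Type*) [Field k] [Field K] [PerfectField k] (h2 : ringChar k = 2)
    [Algebra k K] [Algebra (RatFunc k) K] [IsScalarTower k (RatFunc k) K]
    (hdeg : Module.finrank (RatFunc k) K = 2) [Algebra.IsSeparable (RatFunc k) K] :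
    ∃ (y : K) (f : RatFunc k), y ^ 2 + y = algebraMap (RatFunc k) K f ∧
      IntermediateField.adjoin (RatFunc k) ({y} : Set K) = ⊤ ∧
      ∀ P : FunFld.Place k (RatFunc k), P.ord f < 0 → Odd (P.ord f) := by
  obtain ⟨y₀, f₀, heq, htop⟩ := main12517 k K h2 hdeg
  have hy₀ := not_mem_range_of_adjoin_eq_top hdeg htop
  obtain ⟨g, hg⟩ := as_reduce h2 _ f₀ rfl
  have h2F := two_eq_zero_ratFunc h2
  have h2K : (2 : K) = 0 := by
    have : (2 : K) = algebraMap (RatFunc k) K 2 := (map_ofNat _ 2).symm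
    rw [this, h2F, map_zero]
  refine ⟨y₀ + algebraMap (RatFunc k) K g, f₀ + g ^ 2 + g, ?_, ?_, hg⟩
  · rw [map_add, map_add, map_pow, ← heq]
    linear_combination (y₀ * algebraMap (RatFunc k) K g) * h2K
  · apply adjoin_eq_top_of_finrank_two hdeg
    rintro ⟨c, hc⟩
    apply hy₀
    refine ⟨c - g, ?_⟩
    rw [map_sub, hc]; ring

end Groth.Agent.Helper27.FFExt
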