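import Groth.Agent.Lib.Helper27.HypB
import Groth.Agent.Lib.Helper16.FFW.Ext4

/-! Artin–Schreier extensions `y² + y = f` in characteristic two: setting. -/

set_option autoImplicit false

namespace Groth.Agent.Helper27.AS

open FunFld Polynomial Groth.Agent.Helper16.FF
open scoped WithZero

variable {k K : Type*} [Field k] [Field K] [Algebra k K] [Algebra (RatFunc k) K]
  [IsScalarTower k (RatFunc k) K]

variable {y : K} {f : RatFunc k}

theorem two_eq_zero (h2 : ringChar k = 2) : (2 : K) = 0 := by
  have h : (2 : k) = 0 := by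
    have := CharP.cast_eq_zero k (ringChar k)
    rw [h2] at this
    exact_mod_cast this
  rw [← map_ofNat (algebraMap k K) 2, h, map_zero]

theorem minpoly_eq (hy : y ∉ Set.range (algebraMap (RatFunc k) K))
    (heq : y ^ 2 + y = algebraMap (RatFunc k) K f) :
    minpoly (RatFunc k) y = X ^ 2 + X - C f := by
  have hmonic : (X ^ 2 + X - C f : (RatFunc k)[X]).Monic := by monicity!
  have hroot : aeval y (X ^ 2 + X - C f : (RatFunc k)[X]) = 0 := by
    simp [heq]
  have hint : IsIntegral (RatFunc k) y := ⟨_, hmonic, hroot⟩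
  have hdeg : (X ^ 2 + X - C f : (RatFunc k)[X]).natDegree = 2 := by compute_degree!
  symm
  apply eq_of_monic_of_dvd_of_natDegree_le (minpoly.monic hint) hmonic (minpoly.dvd _ _ hroot)
  rw [hdeg]
  exact (minpoly.two_le_natDegree_iff hint).2 hy

theorem isIntegral_y (heq : y ^ 2 + y = algebraMap (RatFunc k) K f) :
    IsIntegral (RatFunc k) y := by
  have hmonic : (X ^ 2 + X - C f : (RatFunc k)[X]).Monic := by monicity!
  have hroot : aeval y (X ^ 2 + X - C f : (RatFunc k)[X]) = 0 := by
    simp [heq]
  exact ⟨_, hmonic, hroot⟩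

theorem exists_sigma (h2 : ringChar k = 2) (hdeg : Module.finrank (RatFunc k) K = 2)
    (hy : y ∉ Set.range (algebraMap (RatFunc k) K))
    (heq : y ^ 2 + y = algebraMap (RatFunc k) K f) :
    ∃ σ : K ≃ₐ[RatFunc k] K, σ y = y + 1 := by
  haveI : Algebra.IsQuadraticExtension (RatFunc k) K :=
    { toFree := inferInstance, finrank_eq_two' := hdeg }
  apply minpoly.exists_algEquiv_of_root' (isIntegral_y heq).isAlgebraic
  rw [minpoly_eq hy heq]
  simp only [map_sub, map_add, map_pow, aeval_X, aeval_C]
  have h20 : (2 : K) = 0 := two_eq_zero h2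
  linear_combination heq + (y + 1) * h20

theorem exists_decomp (hdeg : Module.finrank (RatFunc k) K = 2)
    (hy : y ∉ Set.range (algebraMap (RatFunc k) K)) (z : K) :
    ∃ a b : RatFunc k, z = algebraMap (RatFunc k) K a + algebraMap (RatFunc k) K b * y := by
  have hy0 : y ≠ 0 := fun h => hy ⟨0, by rw [map_zero, h]⟩
  have hli : LinearIndependent (RatFunc k) ![(1 : K), y] := by
    rw [LinearIndependent.pair_iff]
    intro s t hst
    have ht : t = 0 := by
      by_contra ht
      apply hy
      refine ⟨-s / t, ?_⟩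
      have h1 : algebraMap (RatFunc k) K s + algebraMap (RatFunc k) K t * y = 0 := by
        rw [Algebra.smul_def, Algebra.smul_def, mul_one] at hst
        exact hst
      have ht0 : algebraMap (RatFunc k) K t ≠ 0 := by simpa using ht
      rw [map_div₀, map_neg]
      field_simp
      linear_combination -h1
    subst ht
    rw [zero_smul, add_zero, Algebra.smul_def, mul_one] at hst
    exact ⟨(algebraMap (RatFunc k) K).injective (by rw [hst, map_zero]), rfl⟩
  haveI : FiniteDimensional (RatFunc k) K := Module.finite_of_finrank_pos (by omega)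
  have hspan := hli.span_eq_top_of_card_eq_finrank' (by rw [hdeg]; rfl)
  have hz : z ∈ Submodule.span (RatFunc k) (Set.range ![(1 : K), y]) := by
    rw [hspan]; trivial
  have hr : Set.range ![(1 : K), y] = {1, y} := by
    ext w
    simp only [Set.mem_range, Set.mem_insert_iff, Set.mem_singleton_iff]
    constructor
    · rintro ⟨i, rfl⟩
      fin_cases i
      · left; rfl
      · right; rfl
    · rintro (rfl | rfl)
      · exact ⟨0, rfl⟩
      · exact ⟨1, rfl⟩
  rw [hr, Submodule.mem_span_pair] at hz
  obtain ⟨a, b, hab⟩ := hz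
  refine ⟨a, b, ?_⟩
  rw [← hab, Algebra.smul_def, Algebra.smul_def, mul_one]

theorem decomp_unique (hy : y ∉ Set.range (algebraMap (RatFunc k) K)) (a b : RatFunc k)
    (h : algebraMap (RatFunc k) K a + algebraMap (RatFunc k) K b * y = 0) : a = 0 ∧ b = 0 := by
  have hinj : Function.Injective (algebraMap (RatFunc k) K) := (algebraMap (RatFunc k) K).injective
  have hb : b = 0 := by
    by_contra hb
    apply hy
    refine ⟨-a / b, ?_⟩
    have hB0 : algebraMap (RatFunc k) K b ≠ 0 := by simpa using hb
    rw [map_div₀, map_neg]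
    field_simp
    linear_combination -h
  subst hb
  rw [map_zero, zero_mul, add_zero] at h
  exact ⟨hinj (by rw [h, map_zero]), rfl⟩

/-- at a place where `f` is regular, `y` is regular -/
theorem val_y_le_one (heq : y ^ 2 + y = algebraMap (RatFunc k) K f) (Q : Place k K)
    (hQ : Q.1 (algebraMap (RatFunc k) K f) ≤ 1) : Q.1 y ≤ 1 := by
  by_contra h
  push Not at h
  have h1 : Q.1 y < Q.1 (y ^ 2) := by
    rw [map_pow, sq]
    calc Q.1 y = 1 * Q.1 y := (one_mul _).symm
      _ < Q.1 y * Q.1 y := by
        have hpos : 0 < Q.1 y := lt_trans zero_lt_one h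
        exact mul_lt_mul_of_pos_right h hpos
  have h2 := Valuation.map_add_eq_of_lt_left Q.1 h1
  rw [heq] at h2
  rw [h2] at hQ
  exact absurd (lt_trans h h1) (not_lt.2 hQ)

/-- at a pole of `f`, `y` has half the order -/
theorem val_y_sq (heq : y ^ 2 + y = algebraMap (RatFunc k) K f) (Q : Place k K)
    (hQ : 1 < Q.1 (algebraMap (RatFunc k) K f)) :
    1 < Q.1 y ∧ Q.1 y ^ 2 = Q.1 (algebraMap (RatFunc k) K f) := by
  have hy1 : 1 < Q.1 y := by
    by_contra h
    push Not at h
    have : Q.1 (y ^ 2 + y) ≤ 1 := by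
      refine (Q.1.map_add _ _).trans (max_le ?_ h)
      rw [map_pow]; exact pow_le_one₀ zero_le h
    rw [heq] at this
    exact absurd hQ (not_lt.2 this)
  refine ⟨hy1, ?_⟩
  have h1 : Q.1 y < Q.1 (y ^ 2) := by
    rw [map_pow, sq]
    calc Q.1 y = 1 * Q.1 y := (one_mul _).symm
      _ < Q.1 y * Q.1 y := by
        have hpos : 0 < Q.1 y := lt_trans zero_lt_one hy1
        exact mul_lt_mul_of_pos_right hy1 hpos
  have h2 := Valuation.map_add_eq_of_lt_left Q.1 h1
  rw [heq, map_pow] at h2
  exact h2.symm

end Groth.Agent.Helper27.AS
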