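import Groth.Agent.Lib.Helper27.ASa

/-! Artin–Schreier extensions in characteristic two: `L(conorm B) = L(B) ⊕ L(B - A) y`. -/

set_option autoImplicit false

namespace Groth.Agent.Helper27.AS

open FunFld Polynomial Groth.Agent.Helper16.FF
open scoped WithZero

variable {k K : Type*} [Field k] [Field K] [Algebra k K] [Algebra (RatFunc k) K]
  [IsScalarTower k (RatFunc k) K]

variable {y : K} {f : RatFunc k}

/-- the divisor `A = ∑ d_P P` over the poles of `f` -/
noncomputable def divA (f : RatFunc k) : Divisor k (RatFunc k) :=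
  (div k f).mapRange (fun n => if n < 0 then (1 - n) / 2 else 0) (by simp)

theorem divA_apply (f : RatFunc k) (P : Place k (RatFunc k)) :
    divA f P = if div k f P < 0 then (1 - div k f P) / 2 else 0 := by
  unfold divA
  rw [Finsupp.mapRange_apply]

theorem deg_divA (f : RatFunc k) :
    (divA f).deg = ∑ P ∈ (div k f).support with div k f P < 0,
      (1 - div k f P) / 2 * (P.deg : ℤ) := by
  unfold divA Divisor.deg
  rw [Finsupp.sum_mapRange_index (fun _ => by simp), Finsupp.sum, Finset.sum_filter]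
  refine Finset.sum_congr rfl fun P _ => ?_
  split_ifs <;> simp

theorem hF : IsFunctionField k (RatFunc k) := Groth.Agent.Helper16.FFW.isFunctionField_ratFunc

theorem exp_mul_nat (a : ℤ) (e : ℕ) : WithZero.exp (a * e) = WithZero.exp a ^ e := by
  rw [← WithZero.exp_nsmul, nsmul_eq_mul, mul_comm]

/-- the bound on `y` in terms of `A` -/
theorem val_y_le (hy : y ∉ Set.range (algebraMap (RatFunc k) K))
    (heq : y ^ 2 + y = algebraMap (RatFunc k) K f)
    (hodd : ∀ P : Place k (RatFunc k), div k f P < 0 → Odd (div k f P))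
    {Q : Place k K} {P : Place k (RatFunc k)} {e : ℕ} (he : IsOverWith Q P e) :
    Q.1 y ≤ WithZero.exp (divA f P) ^ e := by
  have hf0 : f ≠ 0 := by
    rintro rfl
    rw [map_zero] at heq
    have : y * (y + 1) = 0 := by linear_combination heq
    rcases mul_eq_zero.1 this with h | h
    · exact hy ⟨0, by rw [map_zero, h]⟩
    · exact hy ⟨-1, by rw [map_neg, map_one]; linear_combination -h⟩
  have hQf : Q.1 (algebraMap (RatFunc k) K f) = P.1 f ^ e := he f
  rw [divA_apply, div_apply hF]
  by_cases hn : P.ord f < 0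
  · rw [if_pos hn]
    have hPf : P.1 f = WithZero.exp (-(P.ord f)) := Place.val_eq_exp_neg_ord P hf0
    have hepos : 0 < e := Groth.Agent.Helper16.FFW.isOverWith_pos he
    have h1 : 1 < Q.1 (algebraMap (RatFunc k) K f) := by
      rw [hQf, hPf]
      apply one_lt_pow₀ _ hepos.ne'
      rw [← WithZero.exp_zero, WithZero.exp_lt_exp]; omega
    obtain ⟨-, hsq⟩ := val_y_sq heq Q h1
    have hoddn := hodd P (by rw [div_apply hF]; exact hn)
    rw [div_apply hF] at hoddn
    obtain ⟨j, hj⟩ := hoddn
    have hsq' : Q.1 y ^ 2 ≤ (WithZero.exp ((1 - P.ord f) / 2) ^ e) ^ 2 := by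
      have h5 : (WithZero.exp ((1 - P.ord f) / 2) ^ e) ^ 2 =
          WithZero.exp (2 * ((1 - P.ord f) / 2)) ^ e := by
        rw [← pow_mul, mul_comm e 2, pow_mul, ← WithZero.exp_nsmul]
        simp only [nsmul_eq_mul, Nat.cast_ofNat]
      rw [hsq, hQf, hPf, h5]
      apply pow_le_pow_left₀ zero_le
      rw [WithZero.exp_le_exp]
      omega
    exact (pow_le_pow_iff_left₀ zero_le zero_le (by norm_num)).1 hsq'
  · rw [if_neg hn, WithZero.exp_zero, one_pow]
    apply val_y_le_one heq Q
    rw [hQf]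
    apply pow_le_one₀ zero_le
    exact (Place.val_le_one_iff P hf0).2 (by omega)

theorem mem_L_conorm_of (hy : y ∉ Set.range (algebraMap (RatFunc k) K))
    (hdeg : Module.finrank (RatFunc k) K = 2)
    (heq : y ^ 2 + y = algebraMap (RatFunc k) K f)
    (hodd : ∀ P : Place k (RatFunc k), div k f P < 0 → Odd (div k f P))
    (B : Divisor k (RatFunc k)) (a b : RatFunc k) (ha : a ∈ L B) (hb : b ∈ L (B - divA f)) :
    algebraMap (RatFunc k) K a + algebraMap (RatFunc k) K b * y ∈ L (conorm K B) := by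
  haveI : FiniteDimensional (RatFunc k) K := Module.finite_of_finrank_pos (by omega)
  intro Q
  obtain ⟨P, e, he⟩ := Groth.Agent.Helper16.FFW.exists_isOverWith (K' := K) hF.1 Q
  rw [Groth.Agent.Helper16.FFW.conorm_apply hF B he, exp_mul_nat]
  refine (Q.1.map_add _ _).trans (max_le ?_ ?_)
  · rw [he a]
    exact pow_le_pow_left₀ zero_le (ha P) e
  · rw [map_mul, he b]
    have h1 : P.1 b ≤ WithZero.exp (B P - divA f P) := by
      have := hb P
      rwa [Finsupp.sub_apply] at this
    calc P.1 b ^ e * Q.1 y ≤ WithZero.exp (B P - divA f P) ^ e * WithZero.exp (divA f P) ^ e :=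
          mul_le_mul' (pow_le_pow_left₀ zero_le h1 e) (val_y_le hy heq hodd he)
      _ = WithZero.exp (B P) ^ e := by
          rw [← mul_pow, ← WithZero.exp_add, sub_add_cancel]

theorem exists_over (hdeg : Module.finrank (RatFunc k) K = 2) (P : Place k (RatFunc k)) :
    ∃ (Q : Place k K) (e : ℕ), IsOverWith Q P e := by
  classical
  haveI : FiniteDimensional (RatFunc k) K := Module.finite_of_finrank_pos (by omega)
  obtain ⟨hfin, hsum⟩ := Groth.Agent.Helper16.FFW.sum_ramIdx_mul_deg (K' := K) hF P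
  have h := hsum hfin.toFinset (fun Q => by rw [Set.Finite.mem_toFinset]; rfl)
  have hne : hfin.toFinset.Nonempty := by
    by_contra hemp
    rw [Finset.not_nonempty_iff_eq_empty] at hemp
    rw [hemp, Finset.sum_empty, hdeg] at h
    have := Place.deg_pos hF P
    omega
  obtain ⟨Q, hQ⟩ := hne
  rw [Set.Finite.mem_toFinset] at hQ
  obtain ⟨e, he⟩ := hQ
  exact ⟨Q, e, he⟩

theorem pow_le_pow_cancel {a b : ℤᵐ⁰} {e : ℕ} (he : 0 < e) (h : a ^ e ≤ b ^ e) : a ≤ b :=
  (pow_le_pow_iff_left₀ zero_le zero_le he.ne').1 h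

theorem mem_L_of_mem_conorm (h2 : ringChar k = 2)
    (hy : y ∉ Set.range (algebraMap (RatFunc k) K))
    (hdeg : Module.finrank (RatFunc k) K = 2)
    (heq : y ^ 2 + y = algebraMap (RatFunc k) K f)
    (hodd : ∀ P : Place k (RatFunc k), div k f P < 0 → Odd (div k f P))
    (B : Divisor k (RatFunc k)) (a b : RatFunc k)
    (hz : algebraMap (RatFunc k) K a + algebraMap (RatFunc k) K b * y ∈ L (conorm K B)) :
    a ∈ L B ∧ b ∈ L (B - divA f) := by
  classical
  haveI : FiniteDimensional (RatFunc k) K := Module.finite_of_finrank_pos (by omega)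
  set ia := algebraMap (RatFunc k) K a with hia
  set ib := algebraMap (RatFunc k) K b with hib
  have hf0 : f ≠ 0 := by
    rintro rfl
    rw [map_zero] at heq
    have : y * (y + 1) = 0 := by linear_combination heq
    rcases mul_eq_zero.1 this with h | h
    · exact hy ⟨0, by rw [map_zero, h]⟩
    · exact hy ⟨-1, by rw [map_neg, map_one]; linear_combination -h⟩
  have hy0 : y ≠ 0 := fun h => hy ⟨0, by rw [map_zero, h]⟩
  obtain ⟨σ, hσ⟩ := exists_sigma h2 hdeg hy heq
  have h20 : (2 : K) = 0 := two_eq_zero h2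
  have hσz : σ (ia + ib * y) = (ia + ib * y) + ib := by
    rw [map_add, map_mul, hσ, hia, hib, σ.commutes, σ.commutes]; ring
  have hσmem : σ (ia + ib * y) ∈ L (conorm K B) := by
    intro Q
    obtain ⟨P, e, he⟩ := Groth.Agent.Helper16.FFW.exists_isOverWith (K' := K) hF.1 Q
    have he' : IsOverWith (Place.comapAutK σ Q) P e := by
      intro u
      rw [Place.comapAutK_apply, σ.commutes]
      exact he u
    have := hz (Place.comapAutK σ Q)
    rw [Place.comapAutK_apply, Groth.Agent.Helper16.FFW.conorm_apply hF B he'] at this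
    rw [Groth.Agent.Helper16.FFW.conorm_apply hF B he]
    exact this
  have hib_mem : ib ∈ L (conorm K B) := by
    have : ib = σ (ia + ib * y) - (ia + ib * y) := by rw [hσz]; ring
    rw [this]
    exact (L (conorm K B)).sub_mem hσmem hz
  suffices hP : ∀ P : Place k (RatFunc k),
      P.1 a ≤ WithZero.exp (B P) ∧ P.1 b ≤ WithZero.exp (B P - divA f P) by
    refine ⟨fun P => (hP P).1, fun P => ?_⟩
    rw [Finsupp.sub_apply]; exact (hP P).2
  intro P
  obtain ⟨Q, e, he⟩ := exists_over (K := K) hdeg P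
  have hepos : 0 < e := Groth.Agent.Helper16.FFW.isOverWith_pos he
  have hcon : conorm K B Q = B P * e := Groth.Agent.Helper16.FFW.conorm_apply hF B he
  have hzQ := hz Q
  rw [hcon, exp_mul_nat] at hzQ
  have hibQ := hib_mem Q
  rw [hcon, exp_mul_nat, hib, he b] at hibQ
  rw [divA_apply, div_apply hF]
  by_cases hn : P.ord f < 0
  · -- a pole of `f`: parity
    rw [if_pos hn]
    have hoddn := hodd P (by rw [div_apply hF]; exact hn)
    rw [div_apply hF] at hoddn
    obtain ⟨j, hj⟩ := hoddn
    have hPf : P.1 f = WithZero.exp (-(P.ord f)) := Place.val_eq_exp_neg_ord P hf0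
    have h1 : 1 < Q.1 (algebraMap (RatFunc k) K f) := by
      rw [he f, hPf]
      apply one_lt_pow₀ _ hepos.ne'
      rw [← WithZero.exp_zero, WithZero.exp_lt_exp]; omega
    obtain ⟨-, hsq⟩ := val_y_sq heq Q h1
    rw [he f, hPf] at hsq
    have hyη : Q.1 y = WithZero.exp (-(Q.ord y)) := Place.val_eq_exp_neg_ord Q hy0
    have hη : 2 * Q.ord y = e * P.ord f := by
      rw [hyη, ← WithZero.exp_nsmul, ← WithZero.exp_nsmul, WithZero.exp_inj] at hsq
      simp only [nsmul_eq_mul] at hsq
      push_cast at hsq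
      linarith
    have hva : Q.1 ia = P.1 a ^ e := he a
    have hvb : Q.1 (ib * y) = P.1 b ^ e * Q.1 y := by rw [map_mul, hib, he b]
    -- distinct valuations unless both vanish
    by_cases hab : a = 0 ∧ b = 0
    · obtain ⟨rfl, rfl⟩ := hab
      simp
    have hne : Q.1 ia ≠ Q.1 (ib * y) := by
      intro heqv
      rw [hva, hvb] at heqv
      have ha0 : a ≠ 0 := by
        rintro rfl
        rw [map_zero, zero_pow hepos.ne'] at heqv
        have hb0 : b = 0 := by
          by_contra hb0
          have : P.1 b ^ e * Q.1 y ≠ 0 :=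
            mul_ne_zero (pow_ne_zero _ ((Valuation.ne_zero_iff _).2 hb0))
              ((Valuation.ne_zero_iff _).2 hy0)
          exact this heqv.symm
        exact hab ⟨rfl, hb0⟩
      have hb0 : b ≠ 0 := by
        rintro rfl
        rw [map_zero, zero_pow hepos.ne', zero_mul] at heqv
        exact pow_ne_zero _ ((Valuation.ne_zero_iff _).2 ha0) heqv
      rw [Place.val_eq_exp_neg_ord P ha0, Place.val_eq_exp_neg_ord P hb0, hyη,
        ← WithZero.exp_nsmul, ← WithZero.exp_nsmul, ← WithZero.exp_add, WithZero.exp_inj] at heqv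
      simp only [nsmul_eq_mul] at heqv
      have h3 : (e : ℤ) * (2 * P.ord a) = e * (2 * P.ord b + P.ord f) := by
        have : 2 * ((e : ℤ) * -P.ord a) = 2 * (e * -P.ord b + -Q.ord y) := by rw [heqv]
        linarith
      have h4 := mul_left_cancel₀ (by exact_mod_cast hepos.ne' : (e : ℤ) ≠ 0) h3
      omega
    have hmax := Valuation.map_add_of_distinct_val Q.1 hne
    rw [hmax] at hzQ
    have hA := (le_max_left _ _).trans hzQ
    have hB := (le_max_right _ _).trans hzQ
    rw [hva] at hA
    refine ⟨pow_le_pow_cancel hepos hA, ?_⟩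
    by_cases hb0 : b = 0
    · rw [hb0, map_zero]; exact zero_le
    rw [hvb] at hB
    have hB2 : (P.1 b ^ e * Q.1 y) ^ 2 ≤ (WithZero.exp (B P) ^ e) ^ 2 :=
      pow_le_pow_left₀ zero_le hB 2
    rw [mul_pow, hsq, ← pow_mul, mul_comm e 2, pow_mul, ← mul_pow, ← pow_mul, mul_comm e 2,
      pow_mul] at hB2
    have hB3 := pow_le_pow_cancel hepos hB2
    rw [Place.val_eq_exp_neg_ord P hb0, ← WithZero.exp_nsmul, ← WithZero.exp_add,
      ← WithZero.exp_nsmul, WithZero.exp_le_exp] at hB3
    simp only [nsmul_eq_mul] at hB3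
    push_cast at hB3
    rw [Place.val_eq_exp_neg_ord P hb0, WithZero.exp_le_exp]
    omega
  · -- `f` regular at `P`
    rw [if_neg hn, sub_zero]
    have hQf : Q.1 (algebraMap (RatFunc k) K f) ≤ 1 := by
      rw [he f]
      apply pow_le_one₀ zero_le
      exact (Place.val_le_one_iff P hf0).2 (by omega)
    have hy1 : Q.1 y ≤ 1 := val_y_le_one heq Q hQf
    have hb' : P.1 b ≤ WithZero.exp (B P) := pow_le_pow_cancel hepos hibQ
    refine ⟨?_, hb'⟩
    have hia_eq : ia = (ia + ib * y) - ib * y := by ring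
    have hva : Q.1 ia = P.1 a ^ e := he a
    have h3 : Q.1 ia ≤ WithZero.exp (B P) ^ e := by
      rw [hia_eq]
      refine (Valuation.map_sub Q.1 _ _).trans (max_le hzQ ?_)
      rw [map_mul, hib, he b]
      calc P.1 b ^ e * Q.1 y ≤ P.1 b ^ e * 1 := mul_le_mul' le_rfl hy1
        _ = P.1 b ^ e := mul_one _
        _ ≤ WithZero.exp (B P) ^ e := hibQ
    rw [hva] at h3
    exact pow_le_pow_cancel hepos h3

end Groth.Agent.Helper27.AS
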