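import Groth.Agent.Lib.Helper27.ASb

/-! Artin–Schreier extensions in characteristic two: the genus. -/

set_option autoImplicit false

namespace Groth.Agent.Helper27.AS

open FunFld Polynomial Groth.Agent.Helper16.FF
open scoped WithZero

variable {k K : Type*} [Field k] [Field K] [Algebra k K] [Algebra (RatFunc k) K]
  [IsScalarTower k (RatFunc k) K]

variable {y : K} {f : RatFunc k}

theorem genus_ratFunc : genus k (RatFunc k) = 0 :=
  genus_eq_zero_of_finrank_eq_one hF (RatFunc.transcendental_X (K := k))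
    (by rw [RatFunc.adjoin_X, IntermediateField.finrank_top])

theorem ell_conorm (h2 : ringChar k = 2)
    (hK : IsFunctionField k K)
    (hy : y ∉ Set.range (algebraMap (RatFunc k) K))
    (hdeg : Module.finrank (RatFunc k) K = 2)
    (heq : y ^ 2 + y = algebraMap (RatFunc k) K f)
    (hodd : ∀ P : Place k (RatFunc k), div k f P < 0 → Odd (div k f P))
    (B : Divisor k (RatFunc k)) :
    ell (conorm K B) = ell B + ell (B - divA f) := by
  classical
  haveI := finiteDimensional_L hF B
  haveI := finiteDimensional_L hF (B - divA f)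
  haveI := finiteDimensional_L hK (conorm K B)
  let ιk : RatFunc k →ₐ[k] K := IsScalarTower.toAlgHom k (RatFunc k) K
  let Ψ : (L B) × (L (B - divA f)) →ₗ[k] K :=
    (ιk.toLinearMap ∘ₗ (L B).subtype) ∘ₗ LinearMap.fst k _ _ +
      (LinearMap.mulRight k y ∘ₗ ιk.toLinearMap ∘ₗ (L (B - divA f)).subtype) ∘ₗ
        LinearMap.snd k _ _
  have hΨ : ∀ p, Ψ p = algebraMap (RatFunc k) K (p.1 : RatFunc k) +
      algebraMap (RatFunc k) K (p.2 : RatFunc k) * y := fun p => rfl
  let Φ : (L B) × (L (B - divA f)) →ₗ[k] L (conorm K B) :=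
    Ψ.codRestrict (L (conorm K B)) (fun p => by
      rw [hΨ]; exact mem_L_conorm_of hy hdeg heq hodd B _ _ p.1.2 p.2.2)
  have hinj : Function.Injective Φ := by
    rw [← LinearMap.ker_eq_bot, LinearMap.ker_eq_bot']
    intro p hp
    have h0 : Ψ p = 0 := congrArg Subtype.val hp
    rw [hΨ] at h0
    obtain ⟨ha, hb⟩ := decomp_unique hy _ _ h0
    exact Prod.ext (Subtype.ext ha) (Subtype.ext hb)
  have hsurj : Function.Surjective Φ := by
    rintro ⟨z, hz⟩
    obtain ⟨a, b, rfl⟩ := exists_decomp hdeg hy z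
    obtain ⟨ha, hb⟩ := mem_L_of_mem_conorm h2 hy hdeg heq hodd B a b hz
    exact ⟨(⟨a, ha⟩, ⟨b, hb⟩), Subtype.ext rfl⟩
  have e := (LinearEquiv.ofBijective Φ ⟨hinj, hsurj⟩).finrank_eq
  rw [Module.finrank_prod] at e
  exact e.symm

theorem main11028 (hK : IsFunctionField k K) (h2 : ringChar k = 2)
    (hdeg : Module.finrank (RatFunc k) K = 2)
    (y : K) (hy : y ∉ Set.range (algebraMap (RatFunc k) K))
    (f : RatFunc k) (heq : y ^ 2 + y = algebraMap (RatFunc k) K f)
    (hodd : ∀ P : Place k (RatFunc k), div k f P < 0 → Odd (div k f P)) :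
    (genus k K : ℤ) = -1 + ∑ P ∈ (div k f).support with div k f P < 0,
      (1 - div k f P) / 2 * (P.deg : ℤ) := by
  classical
  haveI : FiniteDimensional (RatFunc k) K := Module.finite_of_finrank_pos (by omega)
  rw [← deg_divA]
  set δ := (divA f).deg with hδ
  obtain ⟨P₁⟩ := exists_place (hF (k := k))
  set N : ℕ := genus k K + δ.toNat + 1 with hN
  set B : Divisor k (RatFunc k) := Finsupp.single P₁ (N : ℤ) with hB
  have hP₁ : 0 < P₁.deg := Place.deg_pos hF P₁
  have hBdeg : B.deg = N * P₁.deg := by rw [hB, Divisor.deg_single]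
  have hBN : (N : ℤ) ≤ B.deg := by
    rw [hBdeg]
    have : (1 : ℤ) ≤ P₁.deg := by exact_mod_cast hP₁
    nlinarith
  have hgF : genus k (RatFunc k) = 0 := genus_ratFunc
  have h1 := ell_eq_of_large hF (D := B) (by rw [hgF]; push_cast; omega)
  have h2' := ell_eq_of_large hF (D := B - divA f) (by
    rw [hgF, Divisor.deg_sub]; push_cast; omega)
  have hcdeg : (conorm K B).deg = 2 * B.deg := by
    rw [Groth.Agent.Helper16.FFW.deg_conorm hF B, hdeg]; rfl
  have h3 := ell_eq_of_large hK (D := conorm K B) (by rw [hcdeg]; omega)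
  have h4 := ell_conorm h2 hK hy hdeg heq hodd B
  rw [hgF, Divisor.deg_sub] at h2'
  rw [hgF] at h1
  rw [hcdeg] at h3
  have h5 : (ell (conorm K B) : ℤ) = ell B + ell (B - divA f) := by exact_mod_cast h4
  push_cast at h1 h2'
  omega

end Groth.Agent.Helper27.AS
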