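import Groth.Agent.Lib.Helper27.ASc
import Groth.Agent.Lib.Helper16.FFW.RatPlace

/-! Places of `k(X)`: polynomials, the infinite place, derivatives. -/

set_option autoImplicit false

namespace Groth.Agent.Helper27.AS

open FunFld Polynomial Groth.Agent.Helper16.FF
open scoped WithZero

section Rat

variable {k : Type*} [Field k]

theorem transcendental_poly {p : k[X]} (hp : Irreducible p) :
    Transcendental k (algebraMap k[X] (RatFunc k) p) := by
  apply RatFunc.transcendental_of_ne_C
  rintro ⟨c', hc'⟩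
  have : p = Polynomial.C c' := by
    apply RatFunc.algebraMap_injective k
    rw [hc', RatFunc.algebraMap_C]
  rw [this] at hp
  by_cases hc0 : c' = 0
  · rw [hc0, map_zero] at hp; exact hp.ne_zero rfl
  · exact hp.not_isUnit (Polynomial.isUnit_C.2 (Ne.isUnit hc0))

/-- a rational function regular at all finite places is a polynomial -/
theorem exists_poly_of_finite_le_one (r : RatFunc k)
    (h : ∀ p : Place k (RatFunc k), p.1 (RatFunc.X : RatFunc k) ≤ 1 → p.1 r ≤ 1) :
    ∃ w : k[X], r = algebraMap k[X] (RatFunc k) w := by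
  classical
  have hd0 : r.denom ≠ 0 := r.denom_ne_zero
  have hr : r = algebraMap k[X] (RatFunc k) r.num / algebraMap k[X] (RatFunc k) r.denom :=
    (RatFunc.num_div_denom r).symm
  have hdu : IsUnit r.denom := by
    by_contra hnu
    obtain ⟨p, hp, hpd⟩ := WfDvdMonoid.exists_irreducible_factor hnu hd0
    obtain ⟨Q, hQ⟩ := exists_zero hF (transcendental_poly hp)
    have hQx := Groth.Agent.Helper16.FFW.val_X_le_one_of_val_lt_one Q hp.ne_zero hQ
    have h1 := h Q hQx
    have hdlt : Q.1 (algebraMap k[X] (RatFunc k) r.denom) < 1 :=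
      (Groth.Agent.Helper16.FFW.val_poly_lt_one_iff_dvd Q hp hQ _).2 hpd
    have hpn : ¬ p ∣ r.num := fun hpn =>
      hp.not_isUnit (r.isCoprime_num_denom.isUnit_of_dvd' hpn hpd)
    have hn1 := Groth.Agent.Helper16.FFW.val_poly_eq_one_of_not_dvd Q hp hQ hpn
    have hdpos : 0 < Q.1 (algebraMap k[X] (RatFunc k) r.denom) := by
      rw [Valuation.pos_iff]; simpa using hd0
    rw [hr, map_div₀, hn1, div_le_iff₀ hdpos, one_mul] at h1
    exact absurd hdlt (not_lt.2 h1)
  have hd1 : r.denom = 1 := (RatFunc.monic_denom r).eq_one_of_isUnit hdu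
  refine ⟨r.num, ?_⟩
  conv_lhs => rw [hr]
  rw [hd1, map_one, div_one]

theorem deg_poleDiv_X :
    (poleDiv (RatFunc.X : RatFunc k) : Divisor k (RatFunc k)).deg = 1 := by
  rw [deg_poleDiv hF (RatFunc.transcendental_X (K := k)), RatFunc.adjoin_X,
    IntermediateField.finrank_top]
  rfl

theorem infty_aux (p : Place k (RatFunc k)) (hp : 1 < p.1 (RatFunc.X : RatFunc k)) :
    p.ord (RatFunc.X : RatFunc k) = -1 ∧ p.deg = 1 := by
  classical
  have hX0 : (RatFunc.X : RatFunc k) ≠ 0 := RatFunc.X_ne_zero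
  have hneg : p.ord (RatFunc.X : RatFunc k) < 0 :=
    (Groth.Agent.Helper16.FFW.one_lt_val_iff' p hX0).1 hp
  have hle : (Finsupp.single p (-p.ord (RatFunc.X : RatFunc k)) : Divisor k (RatFunc k)) ≤
      poleDiv (RatFunc.X : RatFunc k) := by
    intro P
    rw [Finsupp.single_apply, poleDiv_apply hF]
    split_ifs with h1
    · subst h1; exact le_max_left _ _
    · exact le_max_right _ _
  have h3 := Divisor.deg_mono hle
  rw [Divisor.deg_single, deg_poleDiv_X] at h3
  have hd : 0 < p.deg := Place.deg_pos hF p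
  have hd' : (1 : ℤ) ≤ p.deg := by exact_mod_cast hd
  have h4 : -p.ord (RatFunc.X : RatFunc k) + (p.deg : ℤ) ≤ 2 := by nlinarith
  constructor <;> omega

theorem infty_unique (p p' : Place k (RatFunc k)) (hp : 1 < p.1 (RatFunc.X : RatFunc k))
    (hp' : 1 < p'.1 (RatFunc.X : RatFunc k)) : p = p' := by
  classical
  by_contra hne
  have h1 := (infty_aux p hp).1
  have h2 := (infty_aux p' hp').1
  have hle : (Finsupp.single p 1 + Finsupp.single p' 1 : Divisor k (RatFunc k)) ≤
      poleDiv (RatFunc.X : RatFunc k) := by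
    intro P
    rw [Finsupp.add_apply, Finsupp.single_apply, Finsupp.single_apply, poleDiv_apply hF]
    split_ifs with ha hb hb
    · exact absurd (ha.trans hb.symm) hne
    · subst ha; rw [h1]; simp
    · subst hb; rw [h2]; simp
    · simp
  have h3 := Divisor.deg_mono hle
  rw [Divisor.deg_add, Divisor.deg_single, Divisor.deg_single, deg_poleDiv_X,
    (infty_aux p hp).2, (infty_aux p' hp').2] at h3
  norm_num at h3

theorem ord_poly_infty (p : Place k (RatFunc k)) (hp : 1 < p.1 (RatFunc.X : RatFunc k))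
    {a : k[X]} (ha : a ≠ 0) :
    p.ord (algebraMap k[X] (RatFunc k) a) = -(a.natDegree : ℤ) := by
  have hX0 : (RatFunc.X : RatFunc k) ≠ 0 := RatFunc.X_ne_zero
  have ha0 : algebraMap k[X] (RatFunc k) a ≠ 0 := by simpa using ha
  have h1 := Groth.Agent.Helper16.FFW.val_aeval_of_one_lt p hp _ a rfl ha
  rw [← Groth.Agent.Helper16.FFW.algebraMap_eq_aeval_X, Place.val_eq_exp_neg_ord p ha0,
    Place.val_eq_exp_neg_ord p hX0, (infty_aux p hp).1, ← WithZero.exp_nsmul,
    WithZero.exp_inj] at h1
  simp only [nsmul_eq_mul] at h1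
  linarith

/-- the degree of a divisor that agrees with `div q` at the finite places -/
theorem deg_eq_of_finite_eq (A : Divisor k (RatFunc k)) (q : k[X]) (hq0 : q ≠ 0)
    (hq : ∀ p : Place k (RatFunc k), p.1 (RatFunc.X : RatFunc k) ≤ 1 →
      A p = p.ord (algebraMap k[X] (RatFunc k) q))
    (pinf : Place k (RatFunc k)) (hpinf : 1 < pinf.1 (RatFunc.X : RatFunc k)) :
    A.deg = q.natDegree + A pinf := by
  classical
  have hX0 : (RatFunc.X : RatFunc k) ≠ 0 := RatFunc.X_ne_zero
  have hE : A - div k (algebraMap k[X] (RatFunc k) q) -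
      q.natDegree • (poleDiv (RatFunc.X : RatFunc k) : Divisor k (RatFunc k)) =
      Finsupp.single pinf (A pinf) := by
    ext P
    rw [Finsupp.sub_apply, Finsupp.sub_apply, Finsupp.smul_apply, div_apply hF,
      poleDiv_apply hF, Finsupp.single_apply]
    by_cases hP : P.1 (RatFunc.X : RatFunc k) ≤ 1
    · have hne : pinf ≠ P := by rintro rfl; exact absurd hpinf (not_lt.2 hP)
      have h0 : 0 ≤ P.ord (RatFunc.X : RatFunc k) := (Place.val_le_one_iff P hX0).1 hP
      rw [if_neg hne, hq P hP, max_eq_right (by omega)]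
      simp
    · push Not at hP
      have := infty_unique P pinf hP hpinf
      subst this
      rw [if_pos rfl, ord_poly_infty P hP hq0, (infty_aux P hP).1]
      simp
  have h3 := congrArg Divisor.deg hE
  rw [Divisor.deg_sub, Divisor.deg_sub, Divisor.deg_nsmul, deg_div hF, deg_poleDiv_X,
    Divisor.deg_single, (infty_aux pinf hpinf).2] at h3
  push_cast at h3
  linarith

/-- at a simple zero (over a perfect field) the derivative is a unit -/
theorem val_derivative_eq_one [PerfectField k] (p : Place k (RatFunc k)) {π w : k[X]}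
    (hπ : Irreducible π) (hp : p.1 (algebraMap k[X] (RatFunc k) π) < 1)
    (hw : p.ord (algebraMap k[X] (RatFunc k) w) = 1) :
    p.1 (algebraMap k[X] (RatFunc k) (derivative w)) = 1 := by
  have hw0 : w ≠ 0 := by
    rintro rfl
    rw [map_zero, Place.ord_zero] at hw
    omega
  have hw0' : algebraMap k[X] (RatFunc k) w ≠ 0 := by simpa using hw0
  have hwlt : p.1 (algebraMap k[X] (RatFunc k) w) < 1 :=
    (Place.val_lt_one_iff p hw0').2 (by omega)
  obtain ⟨h, rfl⟩ := (Groth.Agent.Helper16.FFW.val_poly_lt_one_iff_dvd p hπ hp w).1 hwlt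
  have hh0 : h ≠ 0 := by rintro rfl; exact hw0 (mul_zero _)
  have hπ0' : algebraMap k[X] (RatFunc k) π ≠ 0 := by simpa using hπ.ne_zero
  have hh0' : algebraMap k[X] (RatFunc k) h ≠ 0 := by simpa using hh0
  have hordh : p.ord (algebraMap k[X] (RatFunc k) h) = 0 := by
    rw [map_mul, Place.ord_mul p hπ0' hh0',
      Groth.Agent.Helper16.FFW.ord_poly_eq_one p hπ hp] at hw
    omega
  have hh1 : p.1 (algebraMap k[X] (RatFunc k) h) = 1 := by
    rw [Place.val_eq_exp_neg_ord p hh0', hordh]; simp
  have hsep : π.Separable := PerfectField.separable_of_irreducible hπ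
  have hπ' : ¬ π ∣ derivative π := fun hd =>
    hπ.not_isUnit (hsep.isUnit_of_dvd' (dvd_refl π) hd)
  have hπ'1 := Groth.Agent.Helper16.FFW.val_poly_eq_one_of_not_dvd p hπ hp hπ'
  have hX := Groth.Agent.Helper16.FFW.val_X_le_one_of_val_lt_one p hπ.ne_zero hp
  rw [derivative_mul, map_add, map_mul, map_mul]
  have hlt : p.1 (algebraMap k[X] (RatFunc k) π * algebraMap k[X] (RatFunc k) (derivative h)) <
      p.1 (algebraMap k[X] (RatFunc k) (derivative π) * algebraMap k[X] (RatFunc k) h) := by
    rw [map_mul, map_mul, hπ'1, hh1, one_mul]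
    calc p.1 (algebraMap k[X] (RatFunc k) π) * p.1 (algebraMap k[X] (RatFunc k) (derivative h))
        ≤ p.1 (algebraMap k[X] (RatFunc k) π) * 1 :=
          mul_le_mul' le_rfl (Groth.Agent.Helper16.FFW.val_poly_le_one p hX _)
      _ < 1 := by rw [mul_one]; exact hp
  rw [Valuation.map_add_eq_of_lt_left _ hlt, map_mul, hπ'1, hh1, one_mul]

end Rat

end Groth.Agent.Helper27.AS
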