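import Groth.Agent.Lib.Helper27.HypF

/-! Hyperelliptic function fields: the basis of regular differentials. -/

set_option autoImplicit false

namespace Groth.Agent.Helper27.Hyp

open FunFld Polynomial Groth.Agent.Helper16.FF Groth.Agent.Helper27.DExp
  Groth.Agent.Helper27.Tate
open scoped WithZero LaurentSeries

universe u v w

variable {k : Type u} {K : Type v} [Field k] [Field K] [Algebra k K] [Algebra (RatFunc k) K]
  [IsScalarTower k (RatFunc k) K]

theorem main12584 (hK : IsFunctionField k K) (hdeg : Module.finrank (RatFunc k) K = 2)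
    (h2 : ringChar k ≠ 2)
    (y : K) (f : Polynomial k) (hf : Squarefree f) (hd : 1 ≤ f.natDegree)
    (heq : y ^ 2 = algebraMap (RatFunc k) K (algebraMap (Polynomial k) (RatFunc k) f))
    (F : Place k K → Type w) [∀ P, Field (F P)] [∀ P, Algebra k (F P)]
    [∀ P, FiniteDimensional k (F P)]
    (φ : ∀ P, K →ₐ[k] LaurentSeries (F P)) (hφ : ∀ P, LocRes.IsExpansionAt P.1 (φ P)) :
    (∀ i : ℕ, i < genus k K → ∀ P,
      LocRes.vDiff (φ P) (algebraMap (RatFunc k) K RatFunc.X ^ i / y)
        (algebraMap (RatFunc k) K RatFunc.X) ≤ 1) ∧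
    ∀ z : K, (∀ P, LocRes.vDiff (φ P) z (algebraMap (RatFunc k) K RatFunc.X) ≤ 1) →
      ∃ a : Polynomial k, a.degree < (genus k K : WithBot ℕ) ∧
        z = algebraMap (RatFunc k) K (algebraMap (Polynomial k) (RatFunc k) a) / y := by
  classical
  have hgen : genus k K = (f.natDegree - 1) / 2 := genus_hyper hK h2 hdeg hf hd heq
  set g₀ := (f.natDegree - 1) / 2 with hg₀
  have hx : algebraMap (RatFunc k) K RatFunc.X = xK k K := rfl
  rw [hx]
  set x := xK k K with hxdef
  have h2k : (2 : k) ≠ 0 := Ring.two_ne_zero h2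
  have h2F : (2 : RatFunc k) ≠ 0 := by
    have : (2 : RatFunc k) = algebraMap k (RatFunc k) 2 :=
      (map_ofNat (algebraMap k (RatFunc k)) 2).symm
    rw [this]
    exact (_root_.map_ne_zero _).2 h2k
  haveI : Algebra.IsSeparable (RatFunc k) K := isSeparable_of_finrank_two _ _ h2F hdeg
  obtain ⟨h1, hDx⟩ := kaehler_hyper (k := k) (K := K)
  have hy0 : y ≠ 0 := y_ne_zero hf heq
  have hLL := fun P => local_bound h1 h2 hf hd heq P (φ P) (hφ P)
  -- regularity of `a(x) dx / y`
  have key : ∀ a : k[X], a ∈ degreeLT k g₀ → ∀ P,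
      LocRes.vDiff (φ P) (aeval x a * y⁻¹) x ≤ 1 := by
    intro a ha P
    by_cases ha0 : a = 0
    · unfold LocRes.vDiff
      rw [ha0, map_zero, zero_mul, map_zero, zero_mul, map_zero]
      exact zero_le
    have hg1 : 1 ≤ g₀ := by
      by_contra h
      have h0 : g₀ = 0 := by omega
      rw [h0, mem_degreeLT] at ha
      have : a.degree < 0 := by exact_mod_cast ha
      exact ha0 (degree_eq_bot.1 (by
        rcases hdeg' : a.degree with _ | n
        · rfl
        · rw [hdeg'] at this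
          exact absurd this (by simp)))
    have hnd : a.natDegree ≤ g₀ - 1 := by
      have : a ∈ degreeLT k ((g₀ - 1) + 1) := by
        rw [show g₀ - 1 + 1 = g₀ by omega]; exact ha
      exact natDegree_le_of_mem_degreeLT this
    rw [vDiff_mul P (φ P) (hφ P)]
    have hb1 : 1 ≤ bd x P := one_le_bd x P
    have hbpos : 0 < bd x P ^ g₀ := pow_pos (lt_of_lt_of_le zero_lt_one hb1) _
    apply le_of_mul_le_mul_right _ hbpos
    calc P.1 (aeval x a) * LocRes.vDiff (φ P) y⁻¹ x * bd x P ^ g₀
        = P.1 (aeval x a) * (LocRes.vDiff (φ P) y⁻¹ x * bd x P ^ g₀) := mul_assoc _ _ _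
      _ ≤ bd x P ^ a.natDegree * bd x P := mul_le_mul' (val_aeval_le_bd x P a) (hLL P)
      _ = bd x P ^ (a.natDegree + 1) := (pow_succ _ _).symm
      _ ≤ bd x P ^ g₀ := pow_le_pow_right₀ hb1 (by omega)
      _ = 1 * bd x P ^ g₀ := (one_mul _).symm
  refine ⟨?_, ?_⟩
  · intro i hi P
    rw [hgen] at hi
    have := key (X ^ i) (by
      rw [mem_degreeLT, degree_X_pow]
      exact_mod_cast hi) P
    rwa [aeval_X_pow, ← div_eq_mul_inv] at this
  · -- the canonical divisor of `dx`
    obtain ⟨W, hW, hcan, -⟩ := Groth.Agent.Helper27.RH.exists_canonical_ordDiff hK h1 φ hφ 1 x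
      one_ne_zero hDx
    have hell : ell W = g₀ := by rw [(canonical_ell_deg hK hcan).1, hgen]
    have hiff : ∀ z : K, (∀ P, LocRes.vDiff (φ P) z x ≤ 1) ↔ z ∈ L W := by
      intro z
      refine forall_congr' fun P => ?_
      have h3 := vDiff_mul P (φ P) (hφ P) z 1 x
      rw [mul_one] at h3
      rw [h3, vDiff_eq_exp h1 P (φ P) (hφ P) 1 x one_ne_zero hDx, ← hW P, WithZero.exp_neg,
        mul_inv_le_iff₀ (WithZero.exp_pos), one_mul]
    haveI := finiteDimensional_L hK W
    let A : k[X] →ₗ[k] K := (Polynomial.aeval x).toLinearMap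
    let Θ₀ : degreeLT k g₀ →ₗ[k] K :=
      LinearMap.mulRight k y⁻¹ ∘ₗ A ∘ₗ (degreeLT k g₀).subtype
    have hΘ₀ : ∀ a, Θ₀ a = aeval x (a : k[X]) * y⁻¹ := fun a => rfl
    let Θ : degreeLT k g₀ →ₗ[k] L W := Θ₀.codRestrict (L W) (fun a => by
      rw [← hiff, hΘ₀]; exact key a a.2)
    have hinj : Function.Injective Θ := by
      rw [← LinearMap.ker_eq_bot, LinearMap.ker_eq_bot']
      intro a ha
      have h0 : Θ₀ a = 0 := congrArg Subtype.val ha
      rw [hΘ₀, mul_eq_zero] at h0
      rcases h0 with h0 | h0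
      · exact Subtype.ext (aeval_xK_injective (K := K) (by rw [h0, Submodule.coe_zero, map_zero]))
      · exact absurd h0 (inv_ne_zero hy0)
    have hfr : Module.finrank k (degreeLT k g₀) = Module.finrank k (L W) := by
      rw [finrank_degreeLT]; exact hell.symm
    have hsurj : Function.Surjective Θ :=
      (LinearMap.injective_iff_surjective_of_finrank_eq_finrank hfr).1 hinj
    intro z hz
    obtain ⟨a, ha⟩ := hsurj ⟨z, (hiff z).1 hz⟩
    refine ⟨a, ?_, ?_⟩
    · rw [hgen]; exact mem_degreeLT.1 a.2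
    · have h0 : Θ₀ a = z := congrArg Subtype.val ha
      rw [← h0, hΘ₀, map_poly, div_eq_mul_inv]

end Groth.Agent.Helper27.Hyp
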