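import Groth.Agent.Lib.Helper27.ASd
import Groth.Agent.Lib.Helper27.HypG

/-! Artin–Schreier extensions in characteristic two: the local order of `dx / q(x)`. -/

set_option autoImplicit false

namespace Groth.Agent.Helper27.AS

open FunFld Polynomial Groth.Agent.Helper16.FF Groth.Agent.Helper27.DExp
  Groth.Agent.Helper27.Tate Groth.Agent.Helper27.Hyp
open scoped WithZero LaurentSeries

universe u v w

variable {k : Type u} {K : Type v} [Field k] [Field K] [Algebra k K] [Algebra (RatFunc k) K]
  [IsScalarTower k (RatFunc k) K] {F : Type w} [Field F] [Algebra k F]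

variable {s : K} {q w : k[X]}

/-- `q(x) ds = (w'(x) + s q'(x)) dx` through an expansion, in characteristic two -/
theorem deriv_relation (h2 : ringChar k = 2) (φ : K →ₐ[k] F⸨X⸩)
    (hrel : s ^ 2 + aeval (xK k K) q * s = aeval (xK k K) w) :
    φ (aeval (xK k K) q) * LocRes.D F (φ s) =
      φ (aeval (xK k K) (derivative w) + s * aeval (xK k K) (derivative q)) *
        LocRes.D F (φ (xK k K)) := by
  letI := φ.toRingHom.toAlgebra
  haveI : IsScalarTower k K F⸨X⸩ := LocRes.isScalarTower_exp φ
  have e1 : LocRes.dExp φ (s ^ 2 + aeval (xK k K) q * s) = LocRes.dExp φ (aeval (xK k K) w) := by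
    rw [hrel]
  rw [map_add, Derivation.leibniz_pow, Derivation.leibniz, Derivation.map_aeval,
    Derivation.map_aeval] at e1
  have e2 : (2 : ℕ) • (φ (s ^ (2 - 1)) * LocRes.D F (φ s)) +
      (φ (aeval (xK k K) q) * LocRes.D F (φ s) +
        φ s * (φ (aeval (xK k K) (derivative q)) * LocRes.D F (φ (xK k K)))) =
      φ (aeval (xK k K) (derivative w)) * LocRes.D F (φ (xK k K)) := e1
  have h2L : (2 : F⸨X⸩) = 0 := by
    rw [← map_ofNat φ 2, two_eq_zero h2, map_zero]
  rw [nsmul_eq_mul, Nat.cast_ofNat, h2L, zero_mul, zero_add] at e2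
  rw [map_add, map_mul]
  linear_combination e2 - (φ s * φ (aeval (xK k K) (derivative q)) *
    LocRes.D F (φ (xK k K))) * h2L

theorem natDegree_derivative_of_odd (h2 : ringChar k = 2) {w : k[X]} (hodd : Odd w.natDegree) :
    (derivative w).natDegree = w.natDegree - 1 ∧ derivative w ≠ 0 := by
  have h20 : (2 : k) = 0 := by
    have := CharP.cast_eq_zero k (ringChar k)
    rw [h2] at this
    exact_mod_cast this
  obtain ⟨j, hj⟩ := hodd
  have hw0 : w ≠ 0 := by
    rintro rfl
    rw [natDegree_zero] at hj
    omega
  have hc : (derivative w).coeff (w.natDegree - 1) ≠ 0 := by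
    rw [coeff_derivative, show w.natDegree - 1 + 1 = w.natDegree by omega, coeff_natDegree]
    have : ((w.natDegree - 1 : ℕ) : k) + 1 = 1 := by
      rw [hj]
      simp only [Nat.add_sub_cancel, Nat.cast_mul, Nat.cast_ofNat, h20, zero_mul, zero_add]
    rw [this, mul_one]
    exact leadingCoeff_ne_zero.2 hw0
  refine ⟨le_antisymm (natDegree_derivative_le w) (le_natDegree_of_ne_zero hc), ?_⟩
  intro h0
  rw [h0, coeff_zero] at hc
  exact hc rfl

/-- the order of `dx / q(x)` at a place -/
theorem local_bound (h2 : ringChar k = 2) (hq0 : q ≠ 0) (hw0 : w ≠ 0)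
    (hrel : s ^ 2 + aeval (xK k K) q * s = aeval (xK k K) w)
    (Q : Place k K) [FiniteDimensional k F] (φ : K →ₐ[k] F⸨X⸩)
    (hφ : LocRes.IsExpansionAt Q.1 φ) (g : ℕ)
    (hA : Q.1 (xK k K) ≤ 1 → Q.1 (aeval (xK k K) q) < 1 →
      Q.1 s < 1 ∧ Q.1 (aeval (xK k K) (derivative w)) = 1)
    (hB : (w.natDegree ≤ 2 * q.natDegree ∧ (g : ℤ) = q.natDegree - 1) ∨
      (2 * q.natDegree < w.natDegree ∧ Odd w.natDegree ∧ 2 * g + 1 = w.natDegree)) :
    LocRes.vDiff φ (aeval (xK k K) q)⁻¹ (xK k K) * bd (xK k K) Q ^ g ≤ bd (xK k K) Q := by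
  classical
  set x := xK k K with hxdef
  have hval := hφ.1
  have hqx0 : aeval x q ≠ 0 := fun h0 =>
    hq0 (aeval_xK_injective (K := K) (by rw [h0, map_zero]))
  have hwx0 : aeval x w ≠ 0 := fun h0 =>
    hw0 (aeval_xK_injective (K := K) (by rw [h0, map_zero]))
  have hqpos : 0 < Q.1 (aeval x q) := by rw [Valuation.pos_iff]; exact hqx0
  have hvd : LocRes.vDiff φ (aeval x q)⁻¹ x =
      (Q.1 (aeval x q))⁻¹ * Valued.v (LocRes.D F (φ x)) := by
    have := vDiff_mul Q φ hφ (aeval x q)⁻¹ 1 x
    rw [mul_one] at this
    rw [this, map_inv₀]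
    unfold LocRes.vDiff
    rw [map_one, one_mul]
  rw [hvd]
  have hrelD := deriv_relation h2 φ hrel
  have hrelv : Q.1 (aeval x q) * Valued.v (LocRes.D F (φ s)) =
      Q.1 (aeval x (derivative w) + s * aeval x (derivative q)) *
        Valued.v (LocRes.D F (φ x)) := by
    have := congrArg Valued.v hrelD
    rwa [Valuation.map_mul, Valuation.map_mul, hval, hval] at this
  by_cases hx : Q.1 x ≤ 1
  · -- finite place
    have hbd : bd x Q = 1 := max_eq_left hx
    rw [hbd, one_pow, mul_one]
    have hDx1 : Valued.v (LocRes.D F (φ x)) ≤ 1 := val_D_le_one _ (by rw [hval]; exact hx)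
    rw [inv_mul_le_iff₀ hqpos, mul_one]
    have hq1 : Q.1 (aeval x q) ≤ 1 := Groth.Agent.Helper16.FFW.val_aeval_le_one Q hx q
    rcases lt_or_eq_of_le hq1 with hlt | heq1
    · obtain ⟨hs, hw'⟩ := hA hx hlt
      have hsum : Q.1 (aeval x (derivative w) + s * aeval x (derivative q)) = 1 := by
        have hlt2 : Q.1 (s * aeval x (derivative q)) < Q.1 (aeval x (derivative w)) := by
          rw [hw', map_mul]
          calc Q.1 s * Q.1 (aeval x (derivative q)) ≤ Q.1 s * 1 :=
                mul_le_mul' le_rfl (Groth.Agent.Helper16.FFW.val_aeval_le_one Q hx _)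
            _ < 1 := by rw [mul_one]; exact hs
        rw [Valuation.map_add_eq_of_lt_left _ hlt2, hw']
      rw [hsum, one_mul] at hrelv
      rw [← hrelv]
      have hDs1 : Valued.v (LocRes.D F (φ s)) ≤ 1 :=
        val_D_le_one _ (by rw [hval]; exact hs.le)
      calc Q.1 (aeval x q) * Valued.v (LocRes.D F (φ s)) ≤ Q.1 (aeval x q) * 1 :=
            mul_le_mul' le_rfl hDs1
        _ = Q.1 (aeval x q) := mul_one _
    · rw [heq1]; exact hDx1
  · -- pole of `x`
    push Not at hx
    have hx0 : x ≠ 0 := xK_ne_zero
    have hbd : bd x Q = Q.1 x := max_eq_right hx.le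
    set m : ℤ := -Q.ord x with hm
    have hxm : Q.1 x = WithZero.exp m := Place.val_eq_exp_neg_ord Q hx0
    have hm1 : 1 ≤ m := by
      rw [hxm, ← WithZero.exp_zero, WithZero.exp_lt_exp] at hx
      omega
    have hpoly : ∀ a : k[X], a ≠ 0 → Q.1 (aeval x a) = WithZero.exp (m * a.natDegree) := by
      intro a ha
      rw [Groth.Agent.Helper16.FFW.val_aeval_of_one_lt Q hx _ a rfl ha, hxm, exp_mul_nat]
    have hDx : Valued.v (LocRes.D F (φ x)) ≤ WithZero.exp (m + 1) := by
      have := val_D_le (φ x) (-m) (by rw [hval, hxm, neg_neg])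
      rwa [show -(-m - 1) = m + 1 by ring] at this
    rw [hbd, hxm, hpoly q hq0, ← WithZero.exp_neg, exp_mul_nat m g |>.symm]
    rcases hB with ⟨-, hg⟩ | ⟨hMN, hodd, hg⟩
    · calc WithZero.exp (-(m * q.natDegree)) * Valued.v (LocRes.D F (φ x)) * WithZero.exp (m * g)
          ≤ WithZero.exp (-(m * q.natDegree)) * WithZero.exp (m + 1) * WithZero.exp (m * g) :=
            mul_le_mul' (mul_le_mul' le_rfl hDx) le_rfl
        _ = WithZero.exp (-(m * q.natDegree) + (m + 1) + m * g) := by
            rw [← WithZero.exp_add, ← WithZero.exp_add]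
        _ ≤ WithZero.exp m := by
            rw [WithZero.exp_le_exp, hg]
            nlinarith
    · -- the pole of `f` at infinity
      have hs0 : s ≠ 0 := by
        rintro rfl
        rw [zero_pow (by norm_num), mul_zero, add_zero] at hrel
        exact hwx0 hrel.symm
      set t : ℤ := -Q.ord s with ht
      have hst : Q.1 s = WithZero.exp t := Place.val_eq_exp_neg_ord Q hs0
      have hMN' : (2 : ℤ) * q.natDegree < w.natDegree := by exact_mod_cast hMN
      have hqs : Q.1 (aeval x q) < Q.1 s := by
        by_contra hle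
        push Not at hle
        have h5 : Q.1 (s ^ 2 + aeval x q * s) ≤ Q.1 (aeval x q) ^ 2 := by
          refine (Q.1.map_add _ _).trans (max_le ?_ ?_)
          · rw [map_pow]; exact pow_le_pow_left₀ zero_le hle 2
          · rw [map_mul, sq]; exact mul_le_mul' le_rfl hle
        rw [hrel, hpoly w hw0, hpoly q hq0, ← WithZero.exp_nsmul, WithZero.exp_le_exp] at h5
        simp only [nsmul_eq_mul, Nat.cast_ofNat] at h5
        nlinarith
      have hs2 : Q.1 s ^ 2 = Q.1 (aeval x w) := by
        have hlt : Q.1 (aeval x q * s) < Q.1 (s ^ 2) := by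
          rw [map_mul, map_pow, sq]
          exact mul_lt_mul_of_pos_right hqs (by rw [Valuation.pos_iff]; exact hs0)
        rw [← hrel, Valuation.map_add_eq_of_lt_left _ hlt, map_pow]
      have h2t : 2 * t = m * w.natDegree := by
        rw [hst, hpoly w hw0, ← WithZero.exp_nsmul, WithZero.exp_inj] at hs2
        simpa using hs2
      obtain ⟨hnd, hw'0⟩ := natDegree_derivative_of_odd h2 hodd
      have hM1 : 1 ≤ w.natDegree := by
        obtain ⟨j, hj⟩ := hodd
        omega
      have hA' : Q.1 (aeval x (derivative w)) = WithZero.exp (m * (w.natDegree - 1)) := by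
        rw [hpoly _ hw'0, hnd]
        push_cast [hM1]
        rfl
      have hmeven : 2 ≤ m := by
        obtain ⟨j, hj⟩ := hodd
        rw [hj] at h2t
        push_cast at h2t
        have h5 : 2 * t = 2 * (m * j) + m := by linarith
        generalize m * (j : ℤ) = u at h5
        omega
      have hsum : Q.1 (aeval x (derivative w)) ≤
          Q.1 (aeval x (derivative w) + s * aeval x (derivative q)) := by
        by_cases hq' : derivative q = 0
        · rw [hq', map_zero, mul_zero, add_zero]
        have hB' : Q.1 (s * aeval x (derivative q)) =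
            WithZero.exp (t + m * (derivative q).natDegree) := by
          rw [map_mul, hst, hpoly _ hq', ← WithZero.exp_add]
        have hne : Q.1 (aeval x (derivative w)) ≠ Q.1 (s * aeval x (derivative q)) := by
          rw [hA', hB']
          intro he
          rw [WithZero.exp_inj] at he
          obtain ⟨j, hj⟩ := hodd
          have h6 : m * (2 * ((w.natDegree : ℤ) - 1)) =
              m * (w.natDegree + 2 * (derivative q).natDegree) := by
            have : 2 * (m * ((w.natDegree : ℤ) - 1)) =
                2 * t + 2 * (m * (derivative q).natDegree) := by rw [he]; ring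
            rw [h2t] at this
            linarith
          have h7 := mul_left_cancel₀ (by omega : m ≠ 0) h6
          rw [hj] at h7
          push_cast at h7
          omega
        rw [Valuation.map_add_of_distinct_val _ hne]
        exact le_max_left _ _
      have hDs : Valued.v (LocRes.D F (φ s)) ≤ WithZero.exp (t + 1) := by
        have := val_D_le (φ s) (-t) (by rw [hval, hst, neg_neg])
        rwa [show -(-t - 1) = t + 1 by ring] at this
      have hVa : WithZero.exp (m * (w.natDegree - 1)) * Valued.v (LocRes.D F (φ x)) ≤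
          WithZero.exp (m * q.natDegree + (t + 1)) := by
        calc WithZero.exp (m * (w.natDegree - 1)) * Valued.v (LocRes.D F (φ x))
            ≤ Q.1 (aeval x (derivative w) + s * aeval x (derivative q)) *
                Valued.v (LocRes.D F (φ x)) := by
              rw [← hA']; exact mul_le_mul' hsum le_rfl
          _ = Q.1 (aeval x q) * Valued.v (LocRes.D F (φ s)) := hrelv.symm
          _ ≤ WithZero.exp (m * q.natDegree) * WithZero.exp (t + 1) := by
              rw [hpoly q hq0]; exact mul_le_mul' le_rfl hDs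
          _ = WithZero.exp (m * q.natDegree + (t + 1)) := (WithZero.exp_add _ _).symm
      have hV : Valued.v (LocRes.D F (φ x)) ≤
          WithZero.exp (m * q.natDegree + (t + 1) - m * (w.natDegree - 1)) := by
        have h8 := mul_le_mul' (le_refl (WithZero.exp (-(m * ((w.natDegree : ℤ) - 1))))) hVa
        rw [← mul_assoc, ← WithZero.exp_add, neg_add_cancel, WithZero.exp_zero, one_mul,
          ← WithZero.exp_add] at h8
        rwa [show m * (q.natDegree : ℤ) + (t + 1) - m * ((w.natDegree : ℤ) - 1) =
          -(m * ((w.natDegree : ℤ) - 1)) + (m * q.natDegree + (t + 1)) by ring]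
      have hg' : (2 : ℤ) * g + 1 = w.natDegree := by exact_mod_cast hg
      calc WithZero.exp (-(m * q.natDegree)) * Valued.v (LocRes.D F (φ x)) * WithZero.exp (m * g)
          ≤ WithZero.exp (-(m * q.natDegree)) *
              WithZero.exp (m * q.natDegree + (t + 1) - m * (w.natDegree - 1)) *
                WithZero.exp (m * g) :=
            mul_le_mul' (mul_le_mul' le_rfl hV) le_rfl
        _ = WithZero.exp (-(m * q.natDegree) +
              (m * q.natDegree + (t + 1) - m * (w.natDegree - 1)) + m * g) := by
            rw [← WithZero.exp_add, ← WithZero.exp_add]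
        _ ≤ WithZero.exp m := by
            rw [WithZero.exp_le_exp]
            have e1 : 2 * (m * (g : ℤ)) = m * w.natDegree - m := by
              rw [← hg']; ring
            nlinarith

end Groth.Agent.Helper27.AS
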