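import Groth.Agent.Lib.Helper27.ASe

/-! Artin–Schreier extensions in characteristic two: the basis of regular differentials. -/

set_option autoImplicit false

namespace Groth.Agent.Helper27.AS

open FunFld Polynomial Groth.Agent.Helper16.FF Groth.Agent.Helper27.DExp
  Groth.Agent.Helper27.Tate Groth.Agent.Helper27.Hyp
open scoped WithZero LaurentSeries

universe u v w

variable {k : Type u} {K : Type v} [Field k] [Field K] [Algebra k K] [Algebra (RatFunc k) K]
  [IsScalarTower k (RatFunc k) K]

theorem main12587 (hK : IsFunctionField k K) (hdeg : Module.finrank (RatFunc k) K = 2)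
    [PerfectField k] (h2 : ringChar k = 2) [Algebra.IsSeparable (RatFunc k) K]
    (y : K) (hy : y ∉ Set.range (algebraMap (RatFunc k) K)) (f : RatFunc k)
    (heq : y ^ 2 + y = algebraMap (RatFunc k) K f)
    (hodd : ∀ p : Place k (RatFunc k), 1 < p.1 f → Odd (p.ord f))
    (q : k[X]) (hq0 : q ≠ 0)
    (hq : ∀ p : Place k (RatFunc k), p.1 (RatFunc.X : RatFunc k) ≤ 1 →
      p.ord (algebraMap k[X] (RatFunc k) q) = if 1 < p.1 f then (1 - p.ord f) / 2 else 0)
    (F : Place k K → Type w) [∀ P, Field (F P)] [∀ P, Algebra k (F P)]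
    [∀ P, FiniteDimensional k (F P)]
    (φ : ∀ P, K →ₐ[k] LaurentSeries (F P)) (hφ : ∀ P, LocRes.IsExpansionAt P.1 (φ P)) :
    (∀ i : ℕ, i < genus k K → ∀ P,
      LocRes.vDiff (φ P) (algebraMap (RatFunc k) K
        (RatFunc.X ^ i / algebraMap k[X] (RatFunc k) q))
        (algebraMap (RatFunc k) K RatFunc.X) ≤ 1) ∧
    ∀ z : K, (∀ P, LocRes.vDiff (φ P) z (algebraMap (RatFunc k) K RatFunc.X) ≤ 1) →
      ∃ a : k[X], a.degree < (genus k K : WithBot ℕ) ∧
        z = algebraMap (RatFunc k) K
          (algebraMap k[X] (RatFunc k) a / algebraMap k[X] (RatFunc k) q) := by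
  classical
  haveI : FiniteDimensional (RatFunc k) K := Module.finite_of_finrank_pos (by omega)
  have hx : algebraMap (RatFunc k) K RatFunc.X = xK k K := rfl
  rw [hx]
  set x := xK k K with hxdef
  set g := genus k K with hgdef
  have hf0 : f ≠ 0 := by
    rintro rfl
    rw [map_zero] at heq
    have : y * (y + 1) = 0 := by linear_combination heq
    rcases mul_eq_zero.1 this with h | h
    · exact hy ⟨0, by rw [map_zero, h]⟩
    · exact hy ⟨-1, by rw [map_neg, map_one]; linear_combination -h⟩
  have hpole : ∀ p : Place k (RatFunc k), 1 < p.1 f ↔ p.ord f < 0 := fun p =>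
    Groth.Agent.Helper16.FFW.one_lt_val_iff' p hf0
  have hodd' : ∀ P : Place k (RatFunc k), div k f P < 0 → Odd (div k f P) := by
    intro P hP
    rw [div_apply hF] at hP ⊢
    exact hodd P ((hpole P).2 hP)
  have hgen : (g : ℤ) = -1 + (divA f).deg := by
    rw [deg_divA]
    exact main11028 hK h2 hdeg y hy f heq hodd'
  obtain ⟨pinf, hpinf⟩ := exists_pole hF (RatFunc.transcendental_X (K := k))
  have hqA : ∀ p : Place k (RatFunc k), p.1 (RatFunc.X : RatFunc k) ≤ 1 →
      divA f p = p.ord (algebraMap k[X] (RatFunc k) q) := by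
    intro p hp
    rw [divA_apply, div_apply hF, hq p hp]
    by_cases h : 1 < p.1 f
    · rw [if_pos h, if_pos ((hpole p).1 h)]
    · rw [if_neg h, if_neg (fun h' => h ((hpole p).2 h'))]
  have hdegA := deg_eq_of_finite_eq (divA f) q hq0 hqA pinf hpinf
  have hq0' : algebraMap k[X] (RatFunc k) q ≠ 0 := by simpa using hq0
  -- the polynomial `w = q² f`
  have hordqf : ∀ p : Place k (RatFunc k),
      p.ord (algebraMap k[X] (RatFunc k) q ^ 2 * f) =
        2 * p.ord (algebraMap k[X] (RatFunc k) q) + p.ord f := by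
    intro p
    rw [Place.ord_mul p (pow_ne_zero _ hq0') hf0, Place.ord_pow]
    push_cast
    ring
  obtain ⟨w, hw⟩ := exists_poly_of_finite_le_one (algebraMap k[X] (RatFunc k) q ^ 2 * f) (by
    intro p hp
    rw [Place.val_le_one_iff p (mul_ne_zero (pow_ne_zero _ hq0') hf0), hordqf p, hq p hp]
    by_cases h : 1 < p.1 f
    · rw [if_pos h]
      obtain ⟨j, hj⟩ := hodd p h
      omega
    · rw [if_neg h]
      have : ¬ p.ord f < 0 := fun h' => h ((hpole p).2 h')
      omega)
  have hw0 : w ≠ 0 := by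
    rintro rfl
    rw [map_zero] at hw
    exact mul_ne_zero (pow_ne_zero _ hq0') hf0 hw
  have hordw : ∀ p : Place k (RatFunc k), p.ord (algebraMap k[X] (RatFunc k) w) =
      2 * p.ord (algebraMap k[X] (RatFunc k) q) + p.ord f := by
    intro p
    rw [← hw]; exact hordqf p
  -- the genus in terms of the degrees
  have hB : (w.natDegree ≤ 2 * q.natDegree ∧ (g : ℤ) = q.natDegree - 1) ∨
      (2 * q.natDegree < w.natDegree ∧ Odd w.natDegree ∧ 2 * g + 1 = w.natDegree) := by
    have h5 := hordw pinf
    rw [ord_poly_infty pinf hpinf hw0, ord_poly_infty pinf hpinf hq0] at h5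
    have h6 : divA f pinf = if pinf.ord f < 0 then (1 - pinf.ord f) / 2 else 0 := by
      rw [divA_apply, div_apply hF]
    by_cases hc : w.natDegree ≤ 2 * q.natDegree
    · left
      refine ⟨hc, ?_⟩
      rw [if_neg (by omega)] at h6
      rw [hgen, hdegA, h6]
      ring
    · right
      push Not at hc
      have hneg : pinf.ord f < 0 := by omega
      obtain ⟨j, hj⟩ := hodd pinf ((hpole pinf).2 hneg)
      rw [if_pos hneg] at h6
      refine ⟨hc, ?_, ?_⟩
      · rw [Nat.odd_iff]
        omega
      · have : (2 : ℤ) * g + 1 = w.natDegree := by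
          rw [hgen, hdegA, h6]
          omega
        exact_mod_cast this
  -- the model `s² + q s = w`
  set s : K := aeval x q * y with hsdef
  have hιw : algebraMap (RatFunc k) K (algebraMap k[X] (RatFunc k) q ^ 2 * f) = aeval x w := by
    rw [hw, map_poly]
  have hrel : s ^ 2 + aeval x q * s = aeval x w := by
    rw [← hιw, map_mul, map_pow, map_poly, ← heq, hsdef]
    ring
  obtain ⟨h1, hDx⟩ := kaehler_hyper (k := k) (K := K)
  have hLL : ∀ P, LocRes.vDiff (φ P) (aeval x q)⁻¹ x * bd x P ^ g ≤ bd x P := by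
    intro Q
    refine local_bound h2 hq0 hw0 hrel Q (φ Q) (hφ Q) g ?_ hB
    intro hxQ hlt
    have hval := (hφ Q).1
    obtain ⟨p, e, he⟩ := Groth.Agent.Helper16.FFW.exists_isOverWith (K' := K) hF.1 Q
    have hepos : 0 < e := Groth.Agent.Helper16.FFW.isOverWith_pos he
    have hpX : p.1 (RatFunc.X : RatFunc k) ≤ 1 :=
      (Groth.Agent.Helper16.FFW.isOverWith_le_one_iff he _).1 hxQ
    have hpq : p.1 (algebraMap k[X] (RatFunc k) q) < 1 :=
      (Groth.Agent.Helper16.FFW.isOverWith_lt_one_iff he _).1 (by rw [map_poly]; exact hlt)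
    have hordq := hq p hpX
    have hpf : 1 < p.1 f := by
      by_contra hpf
      rw [if_neg hpf] at hordq
      have : p.1 (algebraMap k[X] (RatFunc k) q) = 1 := by
        rw [Place.val_eq_exp_neg_ord p hq0', hordq]; simp
      rw [this] at hpq
      exact lt_irrefl _ hpq
    rw [if_pos hpf] at hordq
    have hordw1 : p.ord (algebraMap k[X] (RatFunc k) w) = 1 := by
      rw [hordw p, hordq]
      obtain ⟨j, hj⟩ := hodd p hpf
      omega
    have hw0' : algebraMap k[X] (RatFunc k) w ≠ 0 := by simpa using hw0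
    have hQf : 1 < Q.1 (algebraMap (RatFunc k) K f) := by
      rw [he f]; exact one_lt_pow₀ hpf hepos.ne'
    have hs2 : Q.1 s ^ 2 = Q.1 (aeval x w) := by
      have e1 : s ^ 2 = aeval x q ^ 2 * y ^ 2 := by rw [hsdef]; ring
      have e2 : Q.1 (aeval x w) =
          Q.1 (aeval x q) ^ 2 * Q.1 (algebraMap (RatFunc k) K f) := by
        rw [← hιw, map_mul, map_pow, map_poly, Valuation.map_mul, Valuation.map_pow]
      rw [← Valuation.map_pow, e1, Valuation.map_mul, Valuation.map_pow, Valuation.map_pow,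
        (val_y_sq heq Q hQf).2, e2]
    have hwlt : Q.1 (aeval x w) < 1 := by
      rw [← map_poly]
      exact (Groth.Agent.Helper16.FFW.isOverWith_lt_one_iff he _).2
        ((Place.val_lt_one_iff p hw0').2 (by omega))
    have hs : Q.1 s < 1 := by
      by_contra hge
      push Not at hge
      have : 1 ≤ Q.1 s ^ 2 := one_le_pow₀ hge
      rw [hs2] at this
      exact absurd hwlt (not_lt.2 this)
    refine ⟨hs, ?_⟩
    -- an irreducible polynomial for the place below
    set x₀ : F Q := (φ Q x).coeff 0 with hx₀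
    have hint : IsIntegral k x₀ := Algebra.IsIntegral.isIntegral x₀
    have hπ : Irreducible (minpoly k x₀) := minpoly.irreducible hint
    have hQπ : Q.1 (aeval x (minpoly k x₀)) < 1 := by
      rw [← hval]
      refine (val_lt_one_iff_coeff_zero _ (by
        rw [hval]; exact Groth.Agent.Helper16.FFW.val_aeval_le_one Q hxQ _)).2 ?_
      rw [coeff_zero_aeval Q (φ Q) hval x hxQ]
      exact minpoly.aeval k x₀
    have hpπ : p.1 (algebraMap k[X] (RatFunc k) (minpoly k x₀)) < 1 :=
      (Groth.Agent.Helper16.FFW.isOverWith_lt_one_iff he _).1 (by rw [map_poly]; exact hQπ)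
    have hw' := val_derivative_eq_one p hπ hpπ hordw1
    rw [← map_poly, he, hw', one_pow]
  have hqx0 : aeval x q ≠ 0 := fun h0 =>
    hq0 (aeval_xK_injective (K := K) (by rw [h0, map_zero]))
  -- regularity of `a(x) dx / q(x)`
  have key : ∀ a : k[X], a ∈ degreeLT k g → ∀ P,
      LocRes.vDiff (φ P) (aeval x a * (aeval x q)⁻¹) x ≤ 1 := by
    intro a ha P
    by_cases ha0 : a = 0
    · unfold LocRes.vDiff
      rw [ha0, map_zero, zero_mul, map_zero, zero_mul, map_zero]
      exact zero_le
    have hg1 : 1 ≤ g := by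
      by_contra h
      have h0 : g = 0 := by omega
      rw [h0, mem_degreeLT] at ha
      have : a.degree < 0 := by exact_mod_cast ha
      exact ha0 (degree_eq_bot.1 (by
        rcases hdeg' : a.degree with _ | n
        · rfl
        · rw [hdeg'] at this
          exact absurd this (by simp)))
    have hnd : a.natDegree ≤ g - 1 := by
      have : a ∈ degreeLT k ((g - 1) + 1) := by
        rw [show g - 1 + 1 = g by omega]; exact ha
      exact natDegree_le_of_mem_degreeLT this
    rw [vDiff_mul P (φ P) (hφ P)]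
    have hb1 : 1 ≤ bd x P := one_le_bd x P
    have hbpos : 0 < bd x P ^ g := pow_pos (lt_of_lt_of_le zero_lt_one hb1) _
    apply le_of_mul_le_mul_right _ hbpos
    calc P.1 (aeval x a) * LocRes.vDiff (φ P) (aeval x q)⁻¹ x * bd x P ^ g
        = P.1 (aeval x a) * (LocRes.vDiff (φ P) (aeval x q)⁻¹ x * bd x P ^ g) := mul_assoc _ _ _
      _ ≤ bd x P ^ a.natDegree * bd x P := mul_le_mul' (val_aeval_le_bd x P a) (hLL P)
      _ = bd x P ^ (a.natDegree + 1) := (pow_succ _ _).symm
      _ ≤ bd x P ^ g := pow_le_pow_right₀ hb1 (by omega)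
      _ = 1 * bd x P ^ g := (one_mul _).symm
  refine ⟨?_, ?_⟩
  · intro i hi P
    have := key (X ^ i) (by
      rw [mem_degreeLT, degree_X_pow]
      exact_mod_cast hi) P
    rwa [aeval_X_pow, ← div_eq_mul_inv, ← map_poly, hxdef, xK, ← map_pow, ← map_div₀] at this
  · obtain ⟨W, hW, hcan, -⟩ := Groth.Agent.Helper27.RH.exists_canonical_ordDiff hK h1 φ hφ 1 x
      one_ne_zero hDx
    have hell : ell W = g := (canonical_ell_deg hK hcan).1
    have hiff : ∀ z : K, (∀ P, LocRes.vDiff (φ P) z x ≤ 1) ↔ z ∈ L W := by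
      intro z
      refine forall_congr' fun P => ?_
      have h3 := vDiff_mul P (φ P) (hφ P) z 1 x
      rw [mul_one] at h3
      rw [h3, vDiff_eq_exp h1 P (φ P) (hφ P) 1 x one_ne_zero hDx, ← hW P, WithZero.exp_neg,
        mul_inv_le_iff₀ (WithZero.exp_pos), one_mul]
    haveI := finiteDimensional_L hK W
    let A : k[X] →ₗ[k] K := (Polynomial.aeval x).toLinearMap
    let Θ₀ : degreeLT k g →ₗ[k] K :=
      LinearMap.mulRight k (aeval x q)⁻¹ ∘ₗ A ∘ₗ (degreeLT k g).subtype
    have hΘ₀ : ∀ a, Θ₀ a = aeval x (a : k[X]) * (aeval x q)⁻¹ := fun a => rfl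
    let Θ : degreeLT k g →ₗ[k] L W := Θ₀.codRestrict (L W) (fun a => by
      rw [← hiff, hΘ₀]; exact key a a.2)
    have hinj : Function.Injective Θ := by
      rw [← LinearMap.ker_eq_bot, LinearMap.ker_eq_bot']
      intro a ha
      have h0 : Θ₀ a = 0 := congrArg Subtype.val ha
      rw [hΘ₀, mul_eq_zero] at h0
      rcases h0 with h0 | h0
      · exact Subtype.ext (aeval_xK_injective (K := K) (by rw [h0, Submodule.coe_zero, map_zero]))
      · exact absurd h0 (inv_ne_zero hqx0)
    have hfr : Module.finrank k (degreeLT k g) = Module.finrank k (L W) := by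
      rw [finrank_degreeLT]; exact hell.symm
    have hsurj : Function.Surjective Θ :=
      (LinearMap.injective_iff_surjective_of_finrank_eq_finrank hfr).1 hinj
    intro z hz
    obtain ⟨a, ha⟩ := hsurj ⟨z, (hiff z).1 hz⟩
    refine ⟨a, mem_degreeLT.1 a.2, ?_⟩
    have h0 : Θ₀ a = z := congrArg Subtype.val ha
    rw [← h0, hΘ₀, map_div₀, map_poly, map_poly, div_eq_mul_inv]

end Groth.Agent.Helper27.AS
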