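import Groth.Agent.Lib.Helper27.ASf
import Groth.Agent.Lib.Helper16.FF.AlgClosed

/-! Char-2 hyperelliptic fields with all branch points rational: rational-function-field facts. -/

set_option autoImplicit false

namespace Groth.Agent.Helper27.AS

open FunFld Polynomial Groth.Agent.Helper16.FF
open scoped WithZero

section Rat

variable {k : Type*} [Field k]

theorem map_X_sub_C (α : k) :
    algebraMap k[X] (RatFunc k) (X - C α) = (RatFunc.X : RatFunc k) - RatFunc.C α := by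
  rw [map_sub, RatFunc.algebraMap_X, RatFunc.algebraMap_C]

theorem val_C (p : Place k (RatFunc k)) {c : k} (hc : c ≠ 0) : p.1 (RatFunc.C c) = 1 := by
  rw [← RatFunc.algebraMap_eq_C]; exact Place.val_algebraMap p hc

theorem val_C_le (p : Place k (RatFunc k)) (c : k) : p.1 (RatFunc.C c) ≤ 1 := by
  rw [← RatFunc.algebraMap_eq_C]; exact p.2.1 c

theorem val_X_sub_C_of_ne (p : Place k (RatFunc k)) {α β : k} (hne : α ≠ β)
    (h : p.1 ((RatFunc.X : RatFunc k) - RatFunc.C α) < 1) :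
    p.1 ((RatFunc.X : RatFunc k) - RatFunc.C β) = 1 := by
  have e : (RatFunc.X : RatFunc k) - RatFunc.C β =
      RatFunc.C (α - β) + ((RatFunc.X : RatFunc k) - RatFunc.C α) := by
    rw [map_sub]; ring
  have h1 : p.1 (RatFunc.C (α - β)) = 1 := val_C p (sub_ne_zero.2 hne)
  rw [e, Valuation.map_add_eq_of_lt_left _ (by rw [h1]; exact h), h1]

theorem ord_X_sub_C (p : Place k (RatFunc k)) {α : k}
    (h : p.1 ((RatFunc.X : RatFunc k) - RatFunc.C α) < 1) :
    p.ord ((RatFunc.X : RatFunc k) - RatFunc.C α) = 1 := by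
  rw [← map_X_sub_C] at h ⊢
  exact Groth.Agent.Helper16.FFW.ord_poly_eq_one p (irreducible_X_sub_C α) h

theorem val_X_sub_C_le_one (p : Place k (RatFunc k)) (hX : p.1 (RatFunc.X : RatFunc k) ≤ 1)
    (α : k) : p.1 ((RatFunc.X : RatFunc k) - RatFunc.C α) ≤ 1 :=
  (Valuation.map_sub _ _ _).trans (max_le hX (val_C_le p α))

theorem val_X_sub_C_infty (p : Place k (RatFunc k)) (hX : 1 < p.1 (RatFunc.X : RatFunc k))
    (α : k) : p.1 ((RatFunc.X : RatFunc k) - RatFunc.C α) = p.1 (RatFunc.X : RatFunc k) :=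
  Valuation.map_sub_eq_of_lt_left _ (lt_of_le_of_lt (val_C_le p α) hX)

theorem ratX_sub_C_ne_zero (α : k) : (RatFunc.X : RatFunc k) - RatFunc.C α ≠ 0 := by
  rw [← map_X_sub_C]
  exact (map_ne_zero_iff _ (RatFunc.algebraMap_injective k)).2 (Polynomial.X_sub_C_ne_zero α)

theorem exists_place_at (α : k) :
    ∃ p : Place k (RatFunc k), p.1 ((RatFunc.X : RatFunc k) - RatFunc.C α) < 1 := by
  obtain ⟨p, hp⟩ := exists_zero hF (transcendental_poly (irreducible_X_sub_C α))
  exact ⟨p, by rwa [map_X_sub_C] at hp⟩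

theorem val_X_le_one_of_lt (p : Place k (RatFunc k)) {α : k}
    (h : p.1 ((RatFunc.X : RatFunc k) - RatFunc.C α) < 1) : p.1 (RatFunc.X : RatFunc k) ≤ 1 := by
  have e : (RatFunc.X : RatFunc k) = ((RatFunc.X : RatFunc k) - RatFunc.C α) + RatFunc.C α := by
    ring
  rw [e]
  exact (p.1.map_add _ _).trans (max_le h.le (val_C_le p α))

theorem ord_prod {ι : Type*} (p : Place k (RatFunc k)) (s : Finset ι) (a : ι → RatFunc k)
    (ha : ∀ i ∈ s, a i ≠ 0) : p.ord (∏ i ∈ s, a i) = ∑ i ∈ s, p.ord (a i) := by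
  classical
  induction s using Finset.induction_on with
  | empty => simp [Place.ord_one]
  | insert i s hi ih =>
    rw [Finset.prod_insert hi, Finset.sum_insert hi,
      Place.ord_mul p (ha i (Finset.mem_insert_self i s))
        (Finset.prod_ne_zero_iff.2 fun j hj => ha j (Finset.mem_insert_of_mem hj)),
      ih fun j hj => ha j (Finset.mem_insert_of_mem hj)]

/-- the polynomial `q = ∏ (X - β)^{(d_β + 1)/2}` -/
noncomputable def qB (B : Finset k) (d : k → ℕ) : k[X] := ∏ β ∈ B, (X - C β) ^ ((d β + 1) / 2)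

theorem qB_ne_zero (B : Finset k) (d : k → ℕ) : qB B d ≠ 0 :=
  Finset.prod_ne_zero_iff.2 fun β _ => pow_ne_zero _ (Polynomial.X_sub_C_ne_zero β)

theorem natDegree_qB (B : Finset k) (d : k → ℕ) :
    (qB B d).natDegree = ∑ β ∈ B, (d β + 1) / 2 := by
  unfold qB
  rw [natDegree_prod _ _ fun β _ => pow_ne_zero _ (Polynomial.X_sub_C_ne_zero β)]
  refine Finset.sum_congr rfl fun β _ => ?_
  rw [natDegree_pow, natDegree_X_sub_C, mul_one]

theorem map_qB (B : Finset k) (d : k → ℕ) :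
    algebraMap k[X] (RatFunc k) (qB B d) =
      ∏ β ∈ B, ((RatFunc.X : RatFunc k) - RatFunc.C β) ^ ((d β + 1) / 2) := by
  unfold qB
  rw [map_prod]
  refine Finset.prod_congr rfl fun β _ => ?_
  rw [map_pow, map_X_sub_C]

theorem ord_qB (B : Finset k) (d : k → ℕ) (p : Place k (RatFunc k)) :
    p.ord (algebraMap k[X] (RatFunc k) (qB B d)) =
      ∑ β ∈ B, ((d β + 1) / 2 : ℕ) * p.ord ((RatFunc.X : RatFunc k) - RatFunc.C β) := by
  rw [map_qB, ord_prod p B _ fun β _ => pow_ne_zero _ (ratX_sub_C_ne_zero β)]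
  refine Finset.sum_congr rfl fun β _ => ?_
  rw [Place.ord_pow]

variable {f : RatFunc k} {B : Finset k} {d : k → ℕ}

theorem ord_qB_at (p : Place k (RatFunc k)) {α : k} (hα : α ∈ B)
    (h : p.1 ((RatFunc.X : RatFunc k) - RatFunc.C α) < 1) :
    p.ord (algebraMap k[X] (RatFunc k) (qB B d)) = ((d α + 1) / 2 : ℕ) := by
  rw [ord_qB, Finset.sum_eq_single α, ord_X_sub_C p h, mul_one]
  · intro β _ hne
    have h1 := val_X_sub_C_of_ne p (Ne.symm hne) h
    have : p.ord ((RatFunc.X : RatFunc k) - RatFunc.C β) = 0 := by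
      unfold Place.ord; rw [h1]; simp
    rw [this, mul_zero]
  · intro h'; exact absurd hα h'

theorem ord_qB_away (p : Place k (RatFunc k)) (hX : p.1 (RatFunc.X : RatFunc k) ≤ 1)
    (h : ∀ β ∈ B, 1 ≤ p.1 ((RatFunc.X : RatFunc k) - RatFunc.C β)) :
    p.ord (algebraMap k[X] (RatFunc k) (qB B d)) = 0 := by
  rw [ord_qB]
  refine Finset.sum_eq_zero fun β hβ => ?_
  have h1 : p.1 ((RatFunc.X : RatFunc k) - RatFunc.C β) = 1 :=
    le_antisymm (val_X_sub_C_le_one p hX β) (h β hβ)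
  have : p.ord ((RatFunc.X : RatFunc k) - RatFunc.C β) = 0 := by
    unfold Place.ord; rw [h1]; simp
  rw [this, mul_zero]

section Data

variable (hd : ∀ β ∈ B, Odd (d β))
  (hpole : ∀ (p : Place k (RatFunc k)) (β : k), β ∈ B →
    p.1 ((RatFunc.X : RatFunc k) - RatFunc.C β) < 1 → p.ord f = -(d β : ℤ))
  (hint : ∀ p : Place k (RatFunc k),
    (∀ β ∈ B, 1 ≤ p.1 ((RatFunc.X : RatFunc k) - RatFunc.C β)) → p.1 f ≤ 1)

include hd hpole hint

omit hd hpole in
theorem exists_of_pole (p : Place k (RatFunc k)) (hp : 1 < p.1 f) :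
    ∃ α ∈ B, p.1 ((RatFunc.X : RatFunc k) - RatFunc.C α) < 1 := by
  by_contra hcon
  push Not at hcon
  exact absurd hp (not_lt.2 (hint p hcon))

theorem hodd_of_data (p : Place k (RatFunc k)) (hp : 1 < p.1 f) :
    Odd (p.ord f) ∧ ∃ α ∈ B, p.1 ((RatFunc.X : RatFunc k) - RatFunc.C α) < 1 := by
  obtain ⟨α, hα, h⟩ := exists_of_pole hint p hp
  refine ⟨?_, α, hα, h⟩
  rw [hpole p α hα h]
  exact (hd α hα).natCast.neg

theorem hq_of_data (hf0 : f ≠ 0) (p : Place k (RatFunc k))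
    (hX : p.1 (RatFunc.X : RatFunc k) ≤ 1) :
    p.ord (algebraMap k[X] (RatFunc k) (qB B d)) =
      if 1 < p.1 f then (1 - p.ord f) / 2 else 0 := by
  by_cases hex : ∃ α ∈ B, p.1 ((RatFunc.X : RatFunc k) - RatFunc.C α) < 1
  · obtain ⟨α, hα, h⟩ := hex
    have hord := hpole p α hα h
    have hpos : 0 < d α := (hd α hα).pos
    have h1 : 1 < p.1 f := by
      rw [Groth.Agent.Helper16.FFW.one_lt_val_iff' p hf0, hord]
      omega
    rw [if_pos h1, ord_qB_at p hα h, hord]
    omega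
  · push Not at hex
    rw [if_neg (not_lt.2 (hint p hex)), ord_qB_away p hX hex]

omit hd hpole in
theorem val_f_infty (p : Place k (RatFunc k)) (hX : 1 < p.1 (RatFunc.X : RatFunc k)) :
    p.1 f ≤ 1 :=
  hint p fun β _ => by rw [val_X_sub_C_infty p hX β]; exact hX.le

end Data

end Rat

end Groth.Agent.Helper27.AS
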