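import Groth.Agent.Lib.Helper27.ASh

/-! Char-2 hyperelliptic fields with rational branch points: the family of partial fractions. -/

set_option autoImplicit false

namespace Groth.Agent.Helper27.AS

open FunFld Polynomial Groth.Agent.Helper16.FF
open scoped WithZero

section Rat

variable {k : Type*} [Field k]

abbrev IdxI (B : Finset k) (d : k → ℕ) : Type _ :=
  {a : ↥B × ℕ // 1 ≤ a.2 ∧ 2 * a.2 + 1 ≤ d (a.1 : k)}

abbrev IdxJ (B : Finset k) : Type _ := {b : ↥B // (b : k) ≠ 0}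

def equivI (B : Finset k) (d : k → ℕ) : IdxI B d ≃ Σ α : ↥B, Fin ((d α - 1) / 2) where
  toFun a := ⟨a.1.1, ⟨a.1.2 - 1, by have := a.2; omega⟩⟩
  invFun s := ⟨(s.1, s.2.1 + 1), by have := s.2.2; refine ⟨?_, ?_⟩ <;> dsimp only <;> omega⟩
  left_inv := by
    rintro ⟨⟨α, j⟩, h1, h2⟩
    apply Subtype.ext
    simp only [Prod.mk.injEq, true_and]
    omega
  right_inv := by
    rintro ⟨α, ⟨i, hi⟩⟩
    simp

instance finite_IdxI (B : Finset k) (d : k → ℕ) : Finite (IdxI B d) :=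
  Finite.of_equiv _ (equivI B d).symm

theorem card_IdxI (B : Finset k) (d : k → ℕ) :
    Nat.card (IdxI B d) = ∑ α ∈ B, (d α - 1) / 2 := by
  rw [Nat.card_congr (equivI B d), Nat.card_sigma]
  simp only [Nat.card_eq_fintype_card, Fintype.card_fin]
  exact Finset.sum_coe_sort B fun α => (d α - 1) / 2

open scoped Classical in
noncomputable def equivJ (B : Finset k) : IdxJ B ≃ ↥(B.erase 0) where
  toFun b := ⟨b.1.1, Finset.mem_erase.2 ⟨b.2, b.1.2⟩⟩
  invFun b := ⟨⟨b.1, (Finset.mem_erase.1 b.2).2⟩, (Finset.mem_erase.1 b.2).1⟩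
  left_inv := by rintro ⟨⟨b, hb⟩, hne⟩; rfl
  right_inv := by rintro ⟨b, hb⟩; rfl

open scoped Classical in
instance finite_IdxJ (B : Finset k) : Finite (IdxJ B) :=
  Finite.of_equiv _ (equivJ B).symm

theorem card_IdxJ (B : Finset k) (h0 : (0 : k) ∈ B) : Nat.card (IdxJ B) = B.card - 1 := by
  classical
  rw [Nat.card_congr (equivJ B), Nat.card_eq_fintype_card, Fintype.card_coe,
    Finset.card_erase_of_mem h0]

theorem card_Idx (B : Finset k) (d : k → ℕ) (h0 : (0 : k) ∈ B) (hd : ∀ β ∈ B, Odd (d β)) :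
    Nat.card (IdxI B d ⊕ IdxJ B) + 1 = (qB B d).natDegree := by
  rw [Nat.card_sum, card_IdxI, card_IdxJ B h0, natDegree_qB]
  have h1 : ∑ β ∈ B, (d β + 1) / 2 = ∑ β ∈ B, ((d β - 1) / 2 + 1) := by
    refine Finset.sum_congr rfl fun β hβ => ?_
    obtain ⟨j, hj⟩ := hd β hβ
    omega
  rw [h1, Finset.sum_add_distrib, Finset.sum_const, smul_eq_mul, mul_one]
  have : 0 < B.card := Finset.card_pos.2 ⟨0, h0⟩
  omega

/-- the family of rational functions -/
noncomputable def famR (B : Finset k) (d : k → ℕ) : IdxI B d ⊕ IdxJ B → RatFunc k :=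
  Sum.elim
    (fun a => ((RatFunc.X : RatFunc k) - RatFunc.C (a.1.1 : k))⁻¹ ^ (a.1.2 + 1))
    (fun b => RatFunc.C (b.1 : k) /
      ((RatFunc.X : RatFunc k) * ((RatFunc.X : RatFunc k) - RatFunc.C (b.1 : k))))

theorem aux_mem {a b q : k[X]} (hq0 : q ≠ 0) (h : a * b = q) (hb : 2 ≤ b.natDegree) :
    a ∈ degreeLT k (q.natDegree - 1) ∧
      algebraMap k[X] (RatFunc k) a / algebraMap k[X] (RatFunc k) q =
        (algebraMap k[X] (RatFunc k) b)⁻¹ := by
  have ha0 : a ≠ 0 := by rintro rfl; exact hq0 (by rw [← h, zero_mul])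
  have hb0 : b ≠ 0 := by rintro rfl; exact hq0 (by rw [← h, mul_zero])
  have hdeg : a.natDegree + b.natDegree = q.natDegree := by rw [← h, natDegree_mul ha0 hb0]
  refine ⟨?_, ?_⟩
  · rw [mem_degreeLT]
    exact (natDegree_lt_iff_degree_lt ha0).1 (by omega)
  · have ha0' : algebraMap k[X] (RatFunc k) a ≠ 0 := by simpa using ha0
    have hb0' : algebraMap k[X] (RatFunc k) b ≠ 0 := by simpa using hb0
    rw [← h, map_mul]
    field_simp

variable {B : Finset k} {d : k → ℕ}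

theorem famR_mem (h0 : (0 : k) ∈ B) (hd : ∀ β ∈ B, Odd (d β)) (i : IdxI B d ⊕ IdxJ B) :
    ∃ a ∈ degreeLT k ((qB B d).natDegree - 1),
      famR B d i = algebraMap k[X] (RatFunc k) a / algebraMap k[X] (RatFunc k) (qB B d) := by
  classical
  rcases i with ⟨⟨⟨α, hα⟩, j⟩, h1, h2⟩ | ⟨⟨α, hα⟩, hne⟩
  · -- `(x - α)^{-(j+1)}`
    have hsplit : (X - C α) ^ ((d α + 1) / 2) * ∏ β ∈ B.erase α, (X - C β) ^ ((d β + 1) / 2) =
        qB B d := Finset.mul_prod_erase B (fun β => (X - C β) ^ ((d β + 1) / 2)) hα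
    simp only at h1 h2
    obtain ⟨m, hm⟩ : ∃ m, (d α + 1) / 2 = m + (j + 1) := ⟨(d α + 1) / 2 - (j + 1), by omega⟩
    have hab : ((X - C α) ^ m * ∏ β ∈ B.erase α, (X - C β) ^ ((d β + 1) / 2)) *
        (X - C α) ^ (j + 1) = qB B d := by
      rw [← hsplit, hm, pow_add]; ring
    obtain ⟨hmem, heq⟩ := aux_mem (qB_ne_zero B d) hab (by
      rw [natDegree_pow, natDegree_X_sub_C]; omega)
    refine ⟨_, hmem, ?_⟩
    rw [heq, map_pow, map_X_sub_C, ← inv_pow]
    rfl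
  · -- `α / (x (x - α))`
    simp only at hne
    have hsplit0 : (X - C (0 : k)) ^ ((d 0 + 1) / 2) *
        ∏ β ∈ B.erase 0, (X - C β) ^ ((d β + 1) / 2) = qB B d :=
      Finset.mul_prod_erase B (fun β => (X - C β) ^ ((d β + 1) / 2)) h0
    have hα' : α ∈ B.erase 0 := Finset.mem_erase.2 ⟨hne, hα⟩
    have hsplit1 : (X - C α) ^ ((d α + 1) / 2) *
        ∏ β ∈ (B.erase 0).erase α, (X - C β) ^ ((d β + 1) / 2) =
        ∏ β ∈ B.erase 0, (X - C β) ^ ((d β + 1) / 2) :=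
      Finset.mul_prod_erase (B.erase 0) (fun β => (X - C β) ^ ((d β + 1) / 2)) hα'
    obtain ⟨m0, hm0⟩ : ∃ m, (d 0 + 1) / 2 = m + 1 := by
      obtain ⟨j, hj⟩ := hd 0 h0
      exact ⟨(d 0 + 1) / 2 - 1, by omega⟩
    obtain ⟨m1, hm1⟩ : ∃ m, (d α + 1) / 2 = m + 1 := by
      obtain ⟨j, hj⟩ := hd α hα
      exact ⟨(d α + 1) / 2 - 1, by omega⟩
    have hab : ((X - C (0 : k)) ^ m0 * ((X - C α) ^ m1 *
        ∏ β ∈ (B.erase 0).erase α, (X - C β) ^ ((d β + 1) / 2))) * (X * (X - C α)) =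
        qB B d := by
      rw [← hsplit0, ← hsplit1, hm0, hm1, pow_succ, pow_succ, map_zero, sub_zero]; ring
    obtain ⟨hmem, heq⟩ := aux_mem (qB_ne_zero B d) hab (by
      rw [natDegree_mul X_ne_zero (Polynomial.X_sub_C_ne_zero α), natDegree_X,
        natDegree_X_sub_C])
    refine ⟨C α * ((X - C (0 : k)) ^ m0 * ((X - C α) ^ m1 *
      ∏ β ∈ (B.erase 0).erase α, (X - C β) ^ ((d β + 1) / 2))), ?_, ?_⟩
    · rw [← smul_eq_C_mul]
      exact (degreeLT k _).smul_mem α hmem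
    · rw [map_mul, mul_div_assoc, heq, map_mul, map_X_sub_C, RatFunc.algebraMap_X,
        RatFunc.algebraMap_C, ← div_eq_mul_inv]
      rfl

end Rat

end Groth.Agent.Helper27.AS
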