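import Groth.Agent.Lib.Helper27.ASi

/-! Linear independence of the partial fractions. -/

set_option autoImplicit false

namespace Groth.Agent.Helper27.AS

open FunFld Polynomial Groth.Agent.Helper16.FF
open scoped WithZero

section Rat

variable {k : Type*} [Field k] {B : Finset k} {d : k → ℕ}

theorem val_X_sub_C_eq (p : Place k (RatFunc k)) {α : k}
    (h : p.1 ((RatFunc.X : RatFunc k) - RatFunc.C α) < 1) :
    p.1 ((RatFunc.X : RatFunc k) - RatFunc.C α) = WithZero.exp (-1 : ℤ) := by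
  rw [Place.val_eq_exp_neg_ord p (ratX_sub_C_ne_zero α), ord_X_sub_C p h]

theorem one_lt_exp_one : (1 : ℤᵐ⁰) < WithZero.exp (1 : ℤ) := by
  rw [← WithZero.exp_zero, WithZero.exp_lt_exp]; norm_num

open scoped Classical in
theorem val_famR_inl (p : Place k (RatFunc k)) {α₀ : k}
    (h : p.1 ((RatFunc.X : RatFunc k) - RatFunc.C α₀) < 1) (a : IdxI B d) :
    p.1 (famR B d (Sum.inl a)) =
      if (a.1.1 : k) = α₀ then WithZero.exp (1 : ℤ) ^ (a.1.2 + 1) else 1 := by
  show p.1 (((RatFunc.X : RatFunc k) - RatFunc.C (a.1.1 : k))⁻¹ ^ (a.1.2 + 1)) = _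
  rw [map_pow, map_inv₀]
  split_ifs with h1
  · rw [h1, val_X_sub_C_eq p h, ← WithZero.exp_neg, neg_neg]
  · rw [val_X_sub_C_of_ne p (Ne.symm h1) h, inv_one, one_pow]

theorem val_famR_inr_le (p : Place k (RatFunc k)) {α₀ : k}
    (h : p.1 ((RatFunc.X : RatFunc k) - RatFunc.C α₀) < 1) (b : IdxJ B) :
    p.1 (famR B d (Sum.inr b)) ≤ WithZero.exp (1 : ℤ) := by
  show p.1 (RatFunc.C (b.1 : k) /
    ((RatFunc.X : RatFunc k) * ((RatFunc.X : RatFunc k) - RatFunc.C (b.1 : k)))) ≤ _
  have hX : (RatFunc.X : RatFunc k) = (RatFunc.X : RatFunc k) - RatFunc.C 0 := by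
    rw [map_zero, sub_zero]
  rw [map_div₀, map_mul, val_C p b.2]
  have hge : ∀ γ : k, WithZero.exp (-1 : ℤ) ≤ p.1 ((RatFunc.X : RatFunc k) - RatFunc.C γ) := by
    intro γ
    by_cases hγ : γ = α₀
    · rw [hγ, val_X_sub_C_eq p h]
    · rw [val_X_sub_C_of_ne p (Ne.symm hγ) h, ← WithZero.exp_zero, WithZero.exp_le_exp]
      norm_num
  have hprod : WithZero.exp (-1 : ℤ) ≤ p.1 (RatFunc.X : RatFunc k) *
      p.1 ((RatFunc.X : RatFunc k) - RatFunc.C (b.1 : k)) := by
    by_cases hb : (b.1 : k) = α₀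
    · have h0 : (0 : k) ≠ α₀ := fun h0 => b.2 (hb.trans h0.symm)
      have : p.1 (RatFunc.X : RatFunc k) = 1 := by
        rw [hX]; exact val_X_sub_C_of_ne p (Ne.symm h0) h
      rw [this, one_mul]; exact hge _
    · rw [val_X_sub_C_of_ne p (Ne.symm hb) h, mul_one, hX]; exact hge _
  have hpos : 0 < p.1 (RatFunc.X : RatFunc k) *
      p.1 ((RatFunc.X : RatFunc k) - RatFunc.C (b.1 : k)) :=
    lt_of_lt_of_le WithZero.exp_pos hprod
  rw [div_le_iff₀ hpos]
  calc (1 : ℤᵐ⁰) = WithZero.exp (1 : ℤ) * WithZero.exp (-1 : ℤ) := by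
        rw [← WithZero.exp_add]; simp
    _ ≤ _ := mul_le_mul' le_rfl hprod

theorem val_famR_inr_self (p : Place k (RatFunc k)) (b : IdxJ B)
    (h : p.1 ((RatFunc.X : RatFunc k) - RatFunc.C (b.1 : k)) < 1) :
    p.1 (famR B d (Sum.inr b)) = WithZero.exp (1 : ℤ) := by
  show p.1 (RatFunc.C (b.1 : k) /
    ((RatFunc.X : RatFunc k) * ((RatFunc.X : RatFunc k) - RatFunc.C (b.1 : k)))) = _
  have hX : (RatFunc.X : RatFunc k) = (RatFunc.X : RatFunc k) - RatFunc.C 0 := by
    rw [map_zero, sub_zero]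
  have h1 : p.1 (RatFunc.X : RatFunc k) = 1 := by
    rw [hX]; exact val_X_sub_C_of_ne p b.2 h
  rw [map_div₀, map_mul, val_C p b.2, h1, one_mul, val_X_sub_C_eq p h, one_div,
    ← WithZero.exp_neg, neg_neg]

theorem val_famR_inr_other (p : Place k (RatFunc k)) {α₀ : k} (hα₀ : α₀ ≠ 0)
    (h : p.1 ((RatFunc.X : RatFunc k) - RatFunc.C α₀) < 1) (b : IdxJ B)
    (hb : (b.1 : k) ≠ α₀) :
    p.1 (famR B d (Sum.inr b)) = 1 := by
  show p.1 (RatFunc.C (b.1 : k) /
    ((RatFunc.X : RatFunc k) * ((RatFunc.X : RatFunc k) - RatFunc.C (b.1 : k)))) = _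
  have hX : (RatFunc.X : RatFunc k) = (RatFunc.X : RatFunc k) - RatFunc.C 0 := by
    rw [map_zero, sub_zero]
  have h1 : p.1 (RatFunc.X : RatFunc k) = 1 := by
    rw [hX]; exact val_X_sub_C_of_ne p hα₀ h
  rw [map_div₀, map_mul, val_C p b.2, h1, one_mul, val_X_sub_C_of_ne p (Ne.symm hb) h, div_one]

theorem famR_linearIndependent (B : Finset k) (d : k → ℕ) :
    LinearIndependent k (famR B d) := by
  classical
  haveI : Fintype (IdxI B d ⊕ IdxJ B) := Fintype.ofFinite _
  rw [Fintype.linearIndependent_iff]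
  intro c hsum
  have hexp1 : (1 : ℤᵐ⁰) < WithZero.exp (1 : ℤ) := one_lt_exp_one
  -- the coefficients on the left vanish
  have hA : ∀ a : IdxI B d, c (Sum.inl a) = 0 := by
    by_contra hcon
    push Not at hcon
    obtain ⟨a₁, ha₁⟩ := hcon
    haveI : Fintype (IdxI B d) := Fintype.ofFinite _
    let S : Finset (IdxI B d) := Finset.univ.filter (fun a => c (Sum.inl a) ≠ 0)
    have hS : S.Nonempty := ⟨a₁, by simp [S, ha₁]⟩
    obtain ⟨a₀, ha₀S, ha₀max⟩ := Finset.exists_max_image S (fun a => a.1.2) hS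
    have hc₀ : c (Sum.inl a₀) ≠ 0 := (Finset.mem_filter.1 ha₀S).2
    obtain ⟨p, hp⟩ := exists_place_at (a₀.1.1 : k)
    have hv₀ : p.1 (c (Sum.inl a₀) • famR B d (Sum.inl a₀)) =
        WithZero.exp (1 : ℤ) ^ (a₀.1.2 + 1) := by
      rw [Place.val_smul p hc₀, val_famR_inl p hp, if_pos rfl]
    have hval := Valuation.map_sum_eq_of_lt p.1 (s := Finset.univ)
      (f := fun i => c i • famR B d i) (j := Sum.inl a₀) (Finset.mem_univ _) (by
        intro i hi
        have hne : i ≠ Sum.inl a₀ := by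
          intro h; rw [h] at hi; simp at hi
        show p.1 (c i • famR B d i) < p.1 (c (Sum.inl a₀) • famR B d (Sum.inl a₀))
        rw [hv₀]
        have hj1 : 1 ≤ a₀.1.2 := a₀.2.1
        rcases i with a | b
        · by_cases hca : c (Sum.inl a) = 0
          · rw [hca, zero_smul, map_zero]
            exact pow_pos (lt_trans zero_lt_one hexp1) _
          rw [Place.val_smul p hca, val_famR_inl p hp]
          split_ifs with h1
          · have hle : a.1.2 ≤ a₀.1.2 := ha₀max a (by simp [S, hca])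
            have hlt : a.1.2 < a₀.1.2 := by
              refine lt_of_le_of_ne hle fun h2 => hne ?_
              congr 1
              exact Subtype.ext (Prod.ext (Subtype.ext h1) h2)
            exact pow_lt_pow_right₀ hexp1 (by omega)
          · exact one_lt_pow₀ hexp1 (by omega)
        · refine lt_of_le_of_lt (Place.val_smul_le p _ _) ?_
          refine lt_of_le_of_lt (val_famR_inr_le p hp b) ?_
          calc WithZero.exp (1 : ℤ) = WithZero.exp (1 : ℤ) ^ 1 := (pow_one _).symm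
            _ < WithZero.exp (1 : ℤ) ^ (a₀.1.2 + 1) := pow_lt_pow_right₀ hexp1 (by omega))
    have hsum' : ∑ i, (fun i => c i • famR B d i) i = 0 := hsum
    rw [hsum', map_zero] at hval
    have : (0 : ℤᵐ⁰) < p.1 (c (Sum.inl a₀) • famR B d (Sum.inl a₀)) := by
      rw [hv₀]; exact pow_pos (lt_trans zero_lt_one hexp1) _
    rw [← hval] at this
    exact lt_irrefl _ this
  intro i
  rcases i with a | b₀
  · exact hA a
  by_contra hc₀
  obtain ⟨p, hp⟩ := exists_place_at (b₀.1 : k)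
  have hv₀ : p.1 (c (Sum.inr b₀) • famR B d (Sum.inr b₀)) = WithZero.exp (1 : ℤ) := by
    rw [Place.val_smul p hc₀, val_famR_inr_self p b₀ hp]
  have hval := Valuation.map_sum_eq_of_lt p.1 (s := Finset.univ)
    (f := fun i => c i • famR B d i) (j := Sum.inr b₀) (Finset.mem_univ _) (by
      intro i hi
      have hne : i ≠ Sum.inr b₀ := by
        intro h; rw [h] at hi; simp at hi
      show p.1 (c i • famR B d i) < p.1 (c (Sum.inr b₀) • famR B d (Sum.inr b₀))
      rw [hv₀]
      rcases i with a | b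
      · rw [hA a, zero_smul, map_zero]; exact WithZero.exp_pos
      · refine lt_of_le_of_lt (Place.val_smul_le p _ _) ?_
        have hb : (b.1 : k) ≠ (b₀.1 : k) := fun h =>
          hne (congrArg Sum.inr (Subtype.ext (Subtype.ext h)))
        rw [val_famR_inr_other p b₀.2 hp b hb]
        exact hexp1)
  have hsum' : ∑ i, (fun i => c i • famR B d i) i = 0 := hsum
  rw [hsum', map_zero, hv₀] at hval
  exact WithZero.exp_ne_zero hval.symm

end Rat

end Groth.Agent.Helper27.AS
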