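import Groth.Agent.Lib.Helper27.ASj

/-! Char-2 hyperelliptic fields with rational branch points: the partial-fraction basis of the
regular differentials. -/

set_option autoImplicit false

namespace Groth.Agent.Helper27.AS

open FunFld Polynomial Groth.Agent.Helper16.FF Groth.Agent.Helper27.DExp
  Groth.Agent.Helper27.Tate Groth.Agent.Helper27.Hyp
open scoped WithZero LaurentSeries

universe u v w

variable {k : Type u} {K : Type v} [Field k] [Field K] [Algebra k K] [Algebra (RatFunc k) K]
  [IsScalarTower k (RatFunc k) K]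

theorem f_ne_zero {y : K} {f : RatFunc k} (hy : y ∉ Set.range (algebraMap (RatFunc k) K))
    (heq : y ^ 2 + y = algebraMap (RatFunc k) K f) : f ≠ 0 := by
  rintro rfl
  rw [map_zero] at heq
  have : y * (y + 1) = 0 := by linear_combination heq
  rcases mul_eq_zero.1 this with h | h
  · exact hy ⟨0, by rw [map_zero, h]⟩
  · exact hy ⟨-1, by rw [map_neg, map_one]; linear_combination -h⟩

theorem main19044 [IsAlgClosed k] [CharP k 2]
    (hK : IsFunctionField k K) (hdeg : Module.finrank (RatFunc k) K = 2)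
    [Algebra.IsSeparable (RatFunc k) K]
    (y : K) (hy : y ∉ Set.range (algebraMap (RatFunc k) K)) (f : RatFunc k)
    (heq : y ^ 2 + y = algebraMap (RatFunc k) K f)
    (B : Finset k) (h0 : (0 : k) ∈ B) (d : k → ℕ) (hd : ∀ α ∈ B, Odd (d α))
    (hpole : ∀ (p : Place k (RatFunc k)) (α : k), α ∈ B →
      p.1 ((RatFunc.X : RatFunc k) - RatFunc.C α) < 1 → p.ord f = -(d α : ℤ))
    (hint : ∀ p : Place k (RatFunc k),
      (∀ α ∈ B, 1 ≤ p.1 ((RatFunc.X : RatFunc k) - RatFunc.C α)) → p.1 f ≤ 1)
    (F : Place k K → Type w) [∀ P, Field (F P)] [∀ P, Algebra k (F P)]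
    [∀ P, FiniteDimensional k (F P)]
    (φ : ∀ P, K →ₐ[k] LaurentSeries (F P)) (hφ : ∀ P, LocRes.IsExpansionAt P.1 (φ P))
    (v : IdxI B d ⊕ IdxJ B → K) (hv : ∀ i, v i = algebraMap (RatFunc k) K (famR B d i)) :
    (∀ i P, LocRes.vDiff (φ P) (v i) (algebraMap (RatFunc k) K RatFunc.X) ≤ 1) ∧
    LinearIndependent k v ∧
    ∀ z : K, (∀ P, LocRes.vDiff (φ P) z (algebraMap (RatFunc k) K RatFunc.X) ≤ 1) →
      z ∈ Submodule.span k (Set.range v) := by
  classical
  have hx : algebraMap (RatFunc k) K RatFunc.X = xK k K := rfl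
  rw [hx]
  have h2 : ringChar k = 2 := ringChar.eq k 2
  have hf0 : f ≠ 0 := f_ne_zero hy heq
  set q := qB B d with hqdef
  have hq0 : q ≠ 0 := qB_ne_zero B d
  have hodd : ∀ p : Place k (RatFunc k), 1 < p.1 f → Odd (p.ord f) := fun p hp =>
    (hodd_of_data hd hpole hint p hp).1
  have hq := hq_of_data hd hpole hint hf0
  obtain ⟨W, hell, hiff, hmem, hgen⟩ :=
    exists_divisor_dx hK hdeg h2 y hy f heq hodd q hq0 hq F φ hφ
  obtain ⟨pinf, hpinf⟩ := exists_pole hF (RatFunc.transcendental_X (K := k))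
  have hA0 : divA f pinf = 0 := by
    rw [divA_apply, div_apply hF, if_neg]
    have := (Place.val_le_one_iff pinf hf0).1 (val_f_infty hint pinf hpinf)
    omega
  have hg : genus k K = q.natDegree - 1 := by
    have := hgen pinf hpinf
    rw [hA0] at this
    omega
  have hvmem : ∀ i, v i ∈ L W := by
    intro i
    obtain ⟨a, ha, hfa⟩ := famR_mem h0 hd i
    rw [hv i, hfa, map_div₀, map_poly, map_poly, div_eq_mul_inv]
    exact hmem a (by rw [hg]; exact ha)
  let ιk : RatFunc k →ₗ[k] K := (IsScalarTower.toAlgHom k (RatFunc k) K).toLinearMap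
  have hli : LinearIndependent k v := by
    have h1 : v = ιk ∘ famR B d := funext hv
    rw [h1]
    exact (famR_linearIndependent B d).map' ιk
      (LinearMap.ker_eq_bot.2 (algebraMap (RatFunc k) K).injective)
  refine ⟨fun i P => (hiff (v i)).2 (hvmem i) P, hli, ?_⟩
  intro z hz
  haveI := finiteDimensional_L hK W
  haveI : Fintype (IdxI B d ⊕ IdxJ B) := Fintype.ofFinite _
  have hle : Submodule.span k (Set.range v) ≤ L W := by
    rw [Submodule.span_le]
    rintro _ ⟨i, rfl⟩
    exact hvmem i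
  have hcard : Module.finrank k (Submodule.span k (Set.range v)) = Module.finrank k (L W) := by
    rw [finrank_span_eq_card hli, ← Nat.card_eq_fintype_card]
    have h3 := card_Idx B d h0 hd
    rw [← hqdef] at h3
    have h4 : Module.finrank k (L W) = genus k K := hell
    rw [h4, hg]
    omega
  rw [Submodule.eq_of_le_of_finrank_eq hle hcard]
  exact (hiff z).1 hz

end Groth.Agent.Helper27.AS
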