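import Groth.Agent.Lib.Helper27.ASk
import Groth.Agent.Lib.Helper16.FF.Galois
import Groth.Agent.Lib.Helper16.FF.AutA

/-! Char-2 hyperelliptic fields with rational branch points: places of `K`. -/

set_option autoImplicit false

namespace Groth.Agent.Helper27.AS

open FunFld Polynomial Groth.Agent.Helper16.FF
open scoped WithZero

universe u v

variable {k : Type u} {K : Type v} [Field k] [Field K] [Algebra k K] [Algebra (RatFunc k) K]
  [IsScalarTower k (RatFunc k) K]

/-- `x - α` as an element of `K` -/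
theorem xsub_eq (α : k) :
    algebraMap (RatFunc k) K RatFunc.X - algebraMap k K α =
      algebraMap (RatFunc k) K ((RatFunc.X : RatFunc k) - RatFunc.C α) := by
  rw [map_sub, IsScalarTower.algebraMap_apply k (RatFunc k) K α, RatFunc.algebraMap_eq_C]

theorem ram_le [IsAlgClosed k] (hK : IsFunctionField k K)
    (hdeg : Module.finrank (RatFunc k) K = 2)
    {p : Place k (RatFunc k)} {Q : Place k K} {e : ℕ} (he : IsOverWith Q p e) : e ≤ 2 := by
  classical
  haveI : FiniteDimensional (RatFunc k) K := Module.finite_of_finrank_pos (by omega)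
  obtain ⟨hfin, hsum⟩ := Groth.Agent.Helper16.FFW.sum_ramIdx_mul_deg (K' := K) hF p
  have h := hsum hfin.toFinset (fun Q => by rw [Set.Finite.mem_toFinset]; rfl)
  have hQ : Q ∈ hfin.toFinset := by rw [Set.Finite.mem_toFinset]; exact ⟨e, he⟩
  have h1 : ramIdx Q p * Q.deg ≤ ∑ Q ∈ hfin.toFinset, ramIdx Q p * Q.deg :=
    Finset.single_le_sum (f := fun Q => ramIdx Q p * Q.deg) (fun _ _ => Nat.zero_le _) hQ
  rw [h, hdeg, Groth.Agent.Helper16.FFW.ramIdx_eq he, Place.deg_eq_one hK Q,
    Place.deg_eq_one hF p] at h1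
  omega

theorem ram_add_le [IsAlgClosed k] (hK : IsFunctionField k K)
    (hdeg : Module.finrank (RatFunc k) K = 2)
    {p : Place k (RatFunc k)} {Q Q' : Place k K} {e e' : ℕ} (he : IsOverWith Q p e)
    (he' : IsOverWith Q' p e') (hne : Q ≠ Q') : e + e' ≤ 2 := by
  classical
  haveI : FiniteDimensional (RatFunc k) K := Module.finite_of_finrank_pos (by omega)
  obtain ⟨hfin, hsum⟩ := Groth.Agent.Helper16.FFW.sum_ramIdx_mul_deg (K' := K) hF p
  have h := hsum hfin.toFinset (fun Q => by rw [Set.Finite.mem_toFinset]; rfl)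
  have hQ : Q ∈ hfin.toFinset := by rw [Set.Finite.mem_toFinset]; exact ⟨e, he⟩
  have hQ' : Q' ∈ hfin.toFinset := by rw [Set.Finite.mem_toFinset]; exact ⟨e', he'⟩
  have hsub : ({Q, Q'} : Finset (Place k K)) ⊆ hfin.toFinset := by
    intro R hR
    rw [Finset.mem_insert, Finset.mem_singleton] at hR
    rcases hR with rfl | rfl
    · exact hQ
    · exact hQ'
  have h1 := Finset.sum_le_sum_of_subset (f := fun Q => ramIdx Q p * Q.deg) hsub
  rw [Finset.sum_pair hne, h, hdeg, Groth.Agent.Helper16.FFW.ramIdx_eq he,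
    Groth.Agent.Helper16.FFW.ramIdx_eq he', Place.deg_eq_one hK Q, Place.deg_eq_one hK Q',
    Place.deg_eq_one hF p] at h1
  omega

variable {y : K} {f : RatFunc k} {B : Finset k} {d : k → ℕ}

section Data

variable [IsAlgClosed k] (hK : IsFunctionField k K) (hdeg : Module.finrank (RatFunc k) K = 2)
  (hy : y ∉ Set.range (algebraMap (RatFunc k) K))
  (heq : y ^ 2 + y = algebraMap (RatFunc k) K f)
  (hd : ∀ β ∈ B, Odd (d β))
  (hpole : ∀ (p : Place k (RatFunc k)) (β : k), β ∈ B →
    p.1 ((RatFunc.X : RatFunc k) - RatFunc.C β) < 1 → p.ord f = -(d β : ℤ))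
  (hint : ∀ p : Place k (RatFunc k),
    (∀ β ∈ B, 1 ≤ p.1 ((RatFunc.X : RatFunc k) - RatFunc.C β)) → p.1 f ≤ 1)

include hK hdeg hy heq hd hpole in
/-- at the place over a branch point `β`: ramification index two, `ord y = -d_β` -/
theorem at_branch {β : k} (hβ : β ∈ B) (Q : Place k K)
    (hQ : Q.1 (algebraMap (RatFunc k) K ((RatFunc.X : RatFunc k) - RatFunc.C β)) < 1) :
    ∃ p : Place k (RatFunc k), IsOverWith Q p 2 ∧
      p.1 ((RatFunc.X : RatFunc k) - RatFunc.C β) < 1 ∧ Q.ord y = -(d β : ℤ) ∧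
      Q.ord (algebraMap (RatFunc k) K ((RatFunc.X : RatFunc k) - RatFunc.C β)) = 2 := by
  haveI : FiniteDimensional (RatFunc k) K := Module.finite_of_finrank_pos (by omega)
  obtain ⟨p, e, he⟩ := Groth.Agent.Helper16.FFW.exists_isOverWith (K' := K) hF.1 Q
  have hepos : 0 < e := Groth.Agent.Helper16.FFW.isOverWith_pos he
  have hp : p.1 ((RatFunc.X : RatFunc k) - RatFunc.C β) < 1 :=
    (Groth.Agent.Helper16.FFW.isOverWith_lt_one_iff he _).1 hQ
  have hord := hpole p β hβ hp
  have hf0 : f ≠ 0 := f_ne_zero hy heq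
  have hy0 : y ≠ 0 := fun h => hy ⟨0, by rw [map_zero, h]⟩
  have hdpos : 0 < d β := (hd β hβ).pos
  have hpf : 1 < p.1 f := by
    rw [Groth.Agent.Helper16.FFW.one_lt_val_iff' p hf0, hord]; omega
  have hQf : 1 < Q.1 (algebraMap (RatFunc k) K f) := by
    rw [he f]; exact one_lt_pow₀ hpf hepos.ne'
  have hsq := (val_y_sq heq Q hQf).2
  rw [he f, Place.val_eq_exp_neg_ord p hf0, hord, Place.val_eq_exp_neg_ord Q hy0,
    ← WithZero.exp_nsmul, ← WithZero.exp_nsmul, WithZero.exp_inj] at hsq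
  simp only [nsmul_eq_mul, neg_neg] at hsq
  push_cast at hsq
  have hle : e ≤ 2 := ram_le hK hdeg he
  have he2 : e = 2 := by
    obtain ⟨j, hj⟩ := hd β hβ
    rcases (show e = 1 ∨ e = 2 by omega) with h1 | h2
    · rw [h1, hj] at hsq
      push_cast at hsq
      omega
    · exact h2
  subst he2
  refine ⟨p, he, hp, ?_, ?_⟩
  · push_cast at hsq
    omega
  · rw [Groth.Agent.Helper16.FFW.ord_of_isOverWith he, ord_X_sub_C p hp]
    norm_num

include hK hdeg hy heq hint in
/-- at a place over infinity: unramified, `y` integral -/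
theorem at_infty (h2 : ringChar k = 2) (Q : Place k K)
    (hQ : 1 < Q.1 (algebraMap (RatFunc k) K RatFunc.X)) :
    ∃ p : Place k (RatFunc k), IsOverWith Q p 1 ∧ 1 < p.1 (RatFunc.X : RatFunc k) ∧
      Q.1 y ≤ 1 := by
  haveI : FiniteDimensional (RatFunc k) K := Module.finite_of_finrank_pos (by omega)
  obtain ⟨p, e, he⟩ := Groth.Agent.Helper16.FFW.exists_isOverWith (K' := K) hF.1 Q
  have hepos : 0 < e := Groth.Agent.Helper16.FFW.isOverWith_pos he
  have hp : 1 < p.1 (RatFunc.X : RatFunc k) := by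
    by_contra hle
    push Not at hle
    have := (Groth.Agent.Helper16.FFW.isOverWith_le_one_iff he _).2 hle
    exact absurd hQ (not_lt.2 this)
  have hpf : p.1 f ≤ 1 := val_f_infty hint p hp
  have hQf : Q.1 (algebraMap (RatFunc k) K f) ≤ 1 :=
    (Groth.Agent.Helper16.FFW.isOverWith_le_one_iff he _).2 hpf
  have hy1 : Q.1 y ≤ 1 := val_y_le_one heq Q hQf
  obtain ⟨c, hc⟩ := exists_const_sub_lt_one hK (Place.deg_eq_one hK Q) hy1
  obtain ⟨σ, hσ⟩ := exists_sigma h2 hdeg hy heq
  have he' : IsOverWith (Place.comapAutK σ Q) p e := by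
    intro u
    rw [Place.comapAutK_apply, σ.commutes]
    exact he u
  have hne : Q ≠ Place.comapAutK σ Q := by
    intro hQQ
    have h1 : (Place.comapAutK σ Q).1 (y - algebraMap k K c) < 1 := by rw [← hQQ]; exact hc
    rw [Place.comapAutK_apply, map_sub, hσ, IsScalarTower.algebraMap_apply k (RatFunc k) K c,
      σ.commutes, ← IsScalarTower.algebraMap_apply] at h1
    have h3 : (1 : K) = (y + 1 - algebraMap k K c) - (y - algebraMap k K c) := by ring
    have h4 := Q.1.map_sub (y + 1 - algebraMap k K c) (y - algebraMap k K c)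
    rw [← h3, map_one] at h4
    exact absurd h4 (not_le.2 (max_lt h1 hc))
  have hsum := ram_add_le hK hdeg he he' hne
  have he1 : e = 1 := by omega
  subst he1
  exact ⟨p, he, hp, hy1⟩

end Data

end Groth.Agent.Helper27.AS
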