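import Groth.Agent.Lib.Helper27.ASl

/-! Char-2 hyperelliptic fields with rational branch points: pole divisors of `y (x - α)^j`. -/

set_option autoImplicit false

namespace Groth.Agent.Helper27.AS

open FunFld Polynomial Groth.Agent.Helper16.FF
open scoped WithZero

universe u v

variable {k : Type u} {K : Type v} [Field k] [Field K] [Algebra k K] [Algebra (RatFunc k) K]
  [IsScalarTower k (RatFunc k) K]

theorem ord_eq_zero_of_val_eq_one (P : Place k K) {z : K} (h : P.1 z = 1) : P.ord z = 0 := by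
  unfold Place.ord; rw [h]; simp

theorem ord_y_mul_zpow (P : Place k K) {y u : K} (hy0 : y ≠ 0) (hu0 : u ≠ 0) (j : ℤ) :
    P.ord (y * u ^ j) = P.ord y + j * P.ord u := by
  rw [Place.ord_mul P hy0 (zpow_ne_zero j hu0), Groth.Agent.Helper16.FFW.Place.ord_zpow]

theorem iota_ne_zero (α : k) :
    algebraMap (RatFunc k) K ((RatFunc.X : RatFunc k) - RatFunc.C α) ≠ 0 :=
  (map_ne_zero_iff _ (algebraMap (RatFunc k) K).injective).2 (ratX_sub_C_ne_zero α)

theorem main19045 [IsAlgClosed k] [CharP k 2]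
    (hK : IsFunctionField k K) (hdeg : Module.finrank (RatFunc k) K = 2)
    (y : K) (hy : y ∉ Set.range (algebraMap (RatFunc k) K)) (f : RatFunc k)
    (heq : y ^ 2 + y = algebraMap (RatFunc k) K f)
    (B : Finset k) (d : k → ℕ) (hd : ∀ β ∈ B, Odd (d β))
    (hpole : ∀ (p : Place k (RatFunc k)) (β : k), β ∈ B →
      p.1 ((RatFunc.X : RatFunc k) - RatFunc.C β) < 1 → p.ord f = -(d β : ℤ))
    (hint : ∀ p : Place k (RatFunc k),
      (∀ β ∈ B, 1 ≤ p.1 ((RatFunc.X : RatFunc k) - RatFunc.C β)) → p.1 f ≤ 1) :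
    (∀ P : Place k K, 1 < P.1 (algebraMap (RatFunc k) K RatFunc.X) → 0 ≤ P.ord y) ∧
    (∃ P : Place k K, 1 < P.1 (algebraMap (RatFunc k) K RatFunc.X) ∧ P.ord y = 0) ∧
    ∀ (α : k), α ∈ B → ∀ (j : ℤ) (P : Place k K),
      (P.1 ((algebraMap (RatFunc k) K RatFunc.X) - (algebraMap k K α)) < 1 →
        max (-(P.ord (y * ((algebraMap (RatFunc k) K RatFunc.X) - (algebraMap k K α)) ^ j))) 0 =
          max ((d α : ℤ) - 2 * j) 0) ∧
      (∀ β : k, β ∈ B → β ≠ α →
        P.1 ((algebraMap (RatFunc k) K RatFunc.X) - (algebraMap k K β)) < 1 →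
        P.ord (y * ((algebraMap (RatFunc k) K RatFunc.X) - (algebraMap k K α)) ^ j) =
          -(d β : ℤ)) ∧
      (1 < P.1 (algebraMap (RatFunc k) K RatFunc.X) →
        max (-(P.ord (y * ((algebraMap (RatFunc k) K RatFunc.X) - (algebraMap k K α)) ^ j))) 0 =
          max (j - P.ord y) 0) ∧
      (P.1 (algebraMap (RatFunc k) K RatFunc.X) ≤ 1 →
        (∀ β : k, β ∈ B →
          1 ≤ P.1 ((algebraMap (RatFunc k) K RatFunc.X) - (algebraMap k K β))) →
        0 ≤ P.ord (y * ((algebraMap (RatFunc k) K RatFunc.X) - (algebraMap k K α)) ^ j)) := by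
  classical
  haveI : FiniteDimensional (RatFunc k) K := Module.finite_of_finrank_pos (by omega)
  have h2 : ringChar k = 2 := ringChar.eq k 2
  have hf0 : f ≠ 0 := f_ne_zero hy heq
  have hy0 : y ≠ 0 := fun h => hy ⟨0, by rw [map_zero, h]⟩
  refine ⟨?_, ?_, ?_⟩
  · intro P hP
    obtain ⟨p, -, -, hy1⟩ := at_infty hK hdeg hy heq hint h2 P hP
    exact (Place.val_le_one_iff P hy0).1 hy1
  · obtain ⟨pinf, hpinf⟩ := exists_pole hF (RatFunc.transcendental_X (K := k))
    obtain ⟨Q, e, he⟩ := exists_over (K := K) hdeg pinf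
    have hepos : 0 < e := Groth.Agent.Helper16.FFW.isOverWith_pos he
    have hQ : 1 < Q.1 (algebraMap (RatFunc k) K RatFunc.X) := by
      rw [he]; exact one_lt_pow₀ hpinf hepos.ne'
    obtain ⟨p, -, -, hy1⟩ := at_infty hK hdeg hy heq hint h2 Q hQ
    rcases lt_or_eq_of_le hy1 with hlt | heq1
    · obtain ⟨σ, hσ⟩ := exists_sigma h2 hdeg hy heq
      refine ⟨Place.comapAutK σ Q, ?_, ?_⟩
      · rw [Place.comapAutK_apply, σ.commutes]; exact hQ
      · apply ord_eq_zero_of_val_eq_one
        rw [Place.comapAutK_apply, hσ, add_comm]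
        have h1 : Q.1 y < Q.1 (1 : K) := by rw [map_one]; exact hlt
        rw [Valuation.map_add_eq_of_lt_left _ h1, map_one]
    · exact ⟨Q, hQ, ord_eq_zero_of_val_eq_one Q heq1⟩
  · intro α hα j P
    rw [xsub_eq α]
    set u := algebraMap (RatFunc k) K ((RatFunc.X : RatFunc k) - RatFunc.C α) with hu
    have hu0 : u ≠ 0 := iota_ne_zero α
    rw [ord_y_mul_zpow P hy0 hu0 j]
    refine ⟨?_, ?_, ?_, ?_⟩
    · intro hP
      obtain ⟨p, -, -, hordy, hordu⟩ := at_branch hK hdeg hy heq hd hpole hα P hP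
      rw [hordy, hordu]
      congr 1
      ring
    · intro β hβ hne hP
      rw [xsub_eq β] at hP
      obtain ⟨p, he, hp, hordy, -⟩ := at_branch hK hdeg hy heq hd hpole hβ P hP
      have h1 : P.1 u = 1 := by
        rw [hu, he, val_X_sub_C_of_ne p hne hp, one_pow]
      rw [hordy, ord_eq_zero_of_val_eq_one P h1, mul_zero, add_zero]
    · intro hP
      obtain ⟨p, he, hp, -⟩ := at_infty hK hdeg hy heq hint h2 P hP
      have hordu : P.ord u = -1 := by
        rw [hu, Groth.Agent.Helper16.FFW.ord_of_isOverWith he]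
        have h3 : p.ord ((RatFunc.X : RatFunc k) - RatFunc.C α) = -1 := by
          unfold Place.ord
          rw [val_X_sub_C_infty p hp α]
          exact (infty_aux p hp).1
        rw [h3]; norm_num
      rw [hordu]
      congr 1
      ring
    · intro hP hall
      obtain ⟨p, e, he⟩ := Groth.Agent.Helper16.FFW.exists_isOverWith (K' := K) hF.1 P
      have hepos : 0 < e := Groth.Agent.Helper16.FFW.isOverWith_pos he
      have hpall : ∀ β ∈ B, 1 ≤ p.1 ((RatFunc.X : RatFunc k) - RatFunc.C β) := by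
        intro β hβ
        by_contra hlt
        push Not at hlt
        have := (Groth.Agent.Helper16.FFW.isOverWith_lt_one_iff he _).2 hlt
        have h5 := hall β hβ
        rw [xsub_eq β] at h5
        exact absurd this (not_lt.2 h5)
      have hQf : P.1 (algebraMap (RatFunc k) K f) ≤ 1 :=
        (Groth.Agent.Helper16.FFW.isOverWith_le_one_iff he _).2 (hint p hpall)
      have hy1 : P.1 y ≤ 1 := val_y_le_one heq P hQf
      have hpX : p.1 (RatFunc.X : RatFunc k) ≤ 1 :=
        (Groth.Agent.Helper16.FFW.isOverWith_le_one_iff he _).1 hP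
      have hu1 : P.1 u = 1 := by
        have h5 := hall α hα
        rw [xsub_eq α] at h5
        refine le_antisymm ?_ h5
        rw [hu]
        exact (Groth.Agent.Helper16.FFW.isOverWith_le_one_iff he _).2
          (val_X_sub_C_le_one p hpX α)
      rw [ord_eq_zero_of_val_eq_one P hu1, mul_zero, add_zero]
      exact (Place.val_le_one_iff P hy0).1 hy1

end Groth.Agent.Helper27.AS
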