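import Groth.Agent.Lib.Helper27.ASm
import Groth.Agent.Lib.Helper16.FF.AdeleSpace

/-! Char-2 hyperelliptic fields with rational branch points: repartitions supported at a branch
place with values in `k(x)`; the Frobenius on `H¹`. -/

set_option autoImplicit false

namespace Groth.Agent.Helper27.AS

open FunFld Polynomial Groth.Agent.Helper16.FF
open scoped WithZero
open Classical

universe u v

section Rat

variable {k : Type u} [Field k]

theorem AD_sup_ratFunc :
    AD (0 : Divisor k (RatFunc k)) ⊔ LinearMap.range (diag k (RatFunc k)) =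
      adele k (RatFunc k) := by
  apply AD_sup_eq_adele hF
  rw [Divisor.deg_zero, ell_zero hF, genus_ratFunc]
  norm_num

theorem single_mem_adele {K : Type*} [Field K] [Algebra k K] (P : Place k K) (h : K) :
    (Pi.single P h : Place k K → K) ∈ adele k K := by
  classical
  rw [mem_adele]
  refine (Set.finite_singleton P).subset ?_
  intro Q hQ
  rw [Set.mem_ofPred_eq] at hQ
  by_contra hne
  rw [Set.mem_singleton_iff] at hne
  rw [Pi.single_eq_of_ne hne, map_zero] at hQ
  exact hQ zero_le

/-- approximation of a single principal part in `k(x)` -/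
theorem exists_approx_single (p : Place k (RatFunc k)) (h : RatFunc k) :
    ∃ u : RatFunc k, p.1 (h - u) ≤ 1 ∧ ∀ p' : Place k (RatFunc k), p' ≠ p → p'.1 u ≤ 1 := by
  classical
  have hmem : (Pi.single p h : Place k (RatFunc k) → RatFunc k) ∈
      AD (0 : Divisor k (RatFunc k)) ⊔ LinearMap.range (diag k (RatFunc k)) := by
    rw [AD_sup_ratFunc]; exact single_mem_adele p h
  obtain ⟨b, hb, _, ⟨u, rfl⟩, hsum⟩ := Submodule.mem_sup.1 hmem
  refine ⟨u, ?_, ?_⟩
  · have h1 := congrFun hsum p
    rw [Pi.add_apply, Pi.single_eq_same] at h1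
    have h2 : h - u = b p := by
      rw [← h1]; show b p + u - u = b p; ring
    rw [h2]
    have := hb p
    simpa using this
  · intro p' hne
    have h1 := congrFun hsum p'
    rw [Pi.add_apply, Pi.single_eq_of_ne hne] at h1
    have h2 : u = -b p' := by
      have : b p' + u = 0 := h1
      linear_combination this
    rw [h2, Valuation.map_neg]
    have := hb p'
    simpa using this

/-- the place of `k(x)` at `x = β` is unique -/
theorem place_at_unique {β : k} (p p' : Place k (RatFunc k))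
    (hp : p.1 ((RatFunc.X : RatFunc k) - RatFunc.C β) < 1)
    (hp' : p'.1 ((RatFunc.X : RatFunc k) - RatFunc.C β) < 1) : p = p' := by
  apply Groth.Agent.Helper16.FFW.Place.eq_of_le_one_imp
  intro r hr
  have hπ : Irreducible (X - C β : k[X]) := irreducible_X_sub_C β
  rw [← map_X_sub_C] at hp hp'
  have hr' : r = algebraMap k[X] (RatFunc k) r.num / algebraMap k[X] (RatFunc k) r.denom :=
    (RatFunc.num_div_denom r).symm
  have hd0 : r.denom ≠ 0 := r.denom_ne_zero
  have hnd : ¬ (X - C β : k[X]) ∣ r.denom := by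
    intro hdvd
    have hpn : ¬ (X - C β : k[X]) ∣ r.num := fun hpn =>
      hπ.not_isUnit (r.isCoprime_num_denom.isUnit_of_dvd' hpn hdvd)
    have hn1 := Groth.Agent.Helper16.FFW.val_poly_eq_one_of_not_dvd p hπ hp hpn
    have hdlt := (Groth.Agent.Helper16.FFW.val_poly_lt_one_iff_dvd p hπ hp _).2 hdvd
    have hdpos : 0 < p.1 (algebraMap k[X] (RatFunc k) r.denom) := by
      rw [Valuation.pos_iff]; simpa using hd0
    rw [hr', map_div₀, hn1, div_le_iff₀ hdpos, one_mul] at hr
    exact absurd hdlt (not_lt.2 hr)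
  have hd1 := Groth.Agent.Helper16.FFW.val_poly_eq_one_of_not_dvd p' hπ hp' hnd
  have hX := Groth.Agent.Helper16.FFW.val_X_le_one_of_val_lt_one p' hπ.ne_zero hp'
  rw [hr', map_div₀, hd1, div_one]
  exact Groth.Agent.Helper16.FFW.val_poly_le_one p' hX _

end Rat

variable {k : Type u} {K : Type v} [Field k] [Field K] [Algebra k K] [Algebra (RatFunc k) K]
  [IsScalarTower k (RatFunc k) K]

variable {y : K} {f : RatFunc k} {B : Finset k} {d : k → ℕ}

section Data

variable [IsAlgClosed k] (hK : IsFunctionField k K) (hdeg : Module.finrank (RatFunc k) K = 2)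
  (hy : y ∉ Set.range (algebraMap (RatFunc k) K))
  (heq : y ^ 2 + y = algebraMap (RatFunc k) K f)
  (hd : ∀ β ∈ B, Odd (d β))
  (hpole : ∀ (p : Place k (RatFunc k)) (β : k), β ∈ B →
    p.1 ((RatFunc.X : RatFunc k) - RatFunc.C β) < 1 → p.ord f = -(d β : ℤ))

include hK hdeg hy heq hd hpole

/-- the place of `K` over a branch point is unique -/
theorem unique_at_branch {β : k} (hβ : β ∈ B) (Q Q' : Place k K)
    (hQ : Q.1 (algebraMap (RatFunc k) K ((RatFunc.X : RatFunc k) - RatFunc.C β)) < 1)
    (hQ' : Q'.1 (algebraMap (RatFunc k) K ((RatFunc.X : RatFunc k) - RatFunc.C β)) < 1) :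
    Q = Q' := by
  obtain ⟨p, he, hp, -⟩ := at_branch hK hdeg hy heq hd hpole hβ Q hQ
  obtain ⟨p', he', hp', -⟩ := at_branch hK hdeg hy heq hd hpole hβ Q' hQ'
  have := place_at_unique p p' hp hp'
  subst this
  by_contra hne
  have := ram_add_le hK hdeg he he' hne
  omega

/-- a repartition supported at a branch place with value in `k(x)` lies in `A(0) + K` -/
theorem single_iota_mem {β : k} (hβ : β ∈ B) (Q₀ : Place k K)
    (hQ₀ : Q₀.1 (algebraMap (RatFunc k) K ((RatFunc.X : RatFunc k) - RatFunc.C β)) < 1)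
    (h : RatFunc k) :
    (Pi.single Q₀ (algebraMap (RatFunc k) K h) : Place k K → K) ∈
      AD (0 : Divisor k K) ⊔ LinearMap.range (diag k K) := by
  classical
  haveI : FiniteDimensional (RatFunc k) K := Module.finite_of_finrank_pos (by omega)
  obtain ⟨p, he, hp, -⟩ := at_branch hK hdeg hy heq hd hpole hβ Q₀ hQ₀
  obtain ⟨u, hu1, hu2⟩ := exists_approx_single p h
  have hsplit : (Pi.single Q₀ (algebraMap (RatFunc k) K h) : Place k K → K) =
      ((Pi.single Q₀ (algebraMap (RatFunc k) K h) : Place k K → K) -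
        diag k K (algebraMap (RatFunc k) K u)) + diag k K (algebraMap (RatFunc k) K u) := by
    rw [sub_add_cancel]
  rw [hsplit]
  refine Submodule.add_mem _ (Submodule.mem_sup_left ?_)
    (Submodule.mem_sup_right (LinearMap.mem_range_self _ _))
  intro Q
  rw [Finsupp.coe_zero, Pi.zero_apply, WithZero.exp_zero, Pi.sub_apply]
  show Q.1 ((Pi.single Q₀ (algebraMap (RatFunc k) K h) : Place k K → K) Q -
    algebraMap (RatFunc k) K u) ≤ 1
  by_cases hQ : Q = Q₀
  · subst hQ
    rw [Pi.single_eq_same, ← map_sub]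
    exact (Groth.Agent.Helper16.FFW.isOverWith_le_one_iff he _).2 hu1
  · rw [Pi.single_eq_of_ne hQ, zero_sub, Valuation.map_neg]
    obtain ⟨p', e', he'⟩ := Groth.Agent.Helper16.FFW.exists_isOverWith (K' := K) hF.1 Q
    have hpp : p' ≠ p := by
      rintro rfl
      have := ram_add_le hK hdeg he he' (Ne.symm hQ)
      have := Groth.Agent.Helper16.FFW.isOverWith_pos he'
      omega
    exact (Groth.Agent.Helper16.FFW.isOverWith_le_one_iff he' _).2 (hu2 p' hpp)

end Data

theorem main19047 [IsAlgClosed k] [CharP k 2]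
    (hK : IsFunctionField k K) (hdeg : Module.finrank (RatFunc k) K = 2)
    (y : K) (hy : y ∉ Set.range (algebraMap (RatFunc k) K)) (f : RatFunc k)
    (heq : y ^ 2 + y = algebraMap (RatFunc k) K f)
    (B : Finset k) (d : k → ℕ) (hd : ∀ β ∈ B, Odd (d β))
    (hpole : ∀ (p : Place k (RatFunc k)) (β : k), β ∈ B →
      p.1 ((RatFunc.X : RatFunc k) - RatFunc.C β) < 1 → p.ord f = -(d β : ℤ))
    (Pl : k → Place k K)
    (hPl : ∀ β ∈ B, (Pl β).1 ((algebraMap (RatFunc k) K RatFunc.X) - (algebraMap k K β)) < 1)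
    (α : k) (hα : α ∈ B) (j : ℕ) :
    (4 * j + 1 ≤ d α →
      (Pi.single (Pl α) ((y * ((algebraMap (RatFunc k) K RatFunc.X) -
        (algebraMap k K α)) ^ j) ^ 2) : Place k K → K) -
      (Pi.single (Pl α) (y * ((algebraMap (RatFunc k) K RatFunc.X) -
        (algebraMap k K α)) ^ (2 * j)) : Place k K → K) ∈
        (AD (0 : Divisor k K) ⊔ LinearMap.range (diag k K))) ∧
    (d α < 4 * j + 1 →
      (Pi.single (Pl α) ((y * ((algebraMap (RatFunc k) K RatFunc.X) -
        (algebraMap k K α)) ^ j) ^ 2) : Place k K → K) ∈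
        (AD (0 : Divisor k K) ⊔ LinearMap.range (diag k K))) := by
  classical
  have h2 : ringChar k = 2 := ringChar.eq k 2
  have h20 : (2 : K) = 0 := two_eq_zero h2
  have hy0 : y ≠ 0 := fun h => hy ⟨0, by rw [map_zero, h]⟩
  have hQ₀ := hPl α hα
  rw [xsub_eq α] at hQ₀ ⊢
  set u := algebraMap (RatFunc k) K ((RatFunc.X : RatFunc k) - RatFunc.C α) with hu
  have hu0 : u ≠ 0 := iota_ne_zero α
  have hkey : (y * u ^ j) ^ 2 - y * u ^ (2 * j) =
      algebraMap (RatFunc k) K (f * ((RatFunc.X : RatFunc k) - RatFunc.C α) ^ (2 * j)) := by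
    rw [map_mul, map_pow, ← heq, ← hu]
    linear_combination (-(y * u ^ (2 * j))) * h20
  have hmem := single_iota_mem hK hdeg hy heq hd hpole hα (Pl α) hQ₀
    (f * ((RatFunc.X : RatFunc k) - RatFunc.C α) ^ (2 * j))
  rw [← hkey] at hmem
  refine ⟨fun _ => ?_, fun hlt => ?_⟩
  · rw [← Pi.single_sub]; exact hmem
  · have hsplit : (Pi.single (Pl α) ((y * u ^ j) ^ 2) : Place k K → K) =
        Pi.single (Pl α) (y * u ^ (2 * j)) +
          Pi.single (Pl α) ((y * u ^ j) ^ 2 - y * u ^ (2 * j)) := by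
      rw [← Pi.single_add]; congr 1; ring
    rw [hsplit]
    refine Submodule.add_mem _ (Submodule.mem_sup_left ?_) hmem
    intro Q
    rw [Finsupp.coe_zero, Pi.zero_apply, WithZero.exp_zero]
    by_cases hQ : Q = Pl α
    · subst hQ
      rw [Pi.single_eq_same]
      obtain ⟨p, -, -, hordy, hordu⟩ := at_branch hK hdeg hy heq hd hpole hα (Pl α) hQ₀
      rw [Place.val_le_one_iff _ (mul_ne_zero hy0 (pow_ne_zero _ hu0)),
        Place.ord_mul _ hy0 (pow_ne_zero _ hu0), Place.ord_pow, hordy, hordu]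
      push_cast
      omega
    · rw [Pi.single_eq_of_ne hQ, map_zero]; exact zero_le

end Groth.Agent.Helper27.AS
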