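import Groth.Agent.Lib.Helper27.ASn

/-! Char-2 hyperelliptic fields with rational branch points: the repartitions spanning `H¹`. -/

set_option autoImplicit false

namespace Groth.Agent.Helper27.AS

open FunFld Polynomial Groth.Agent.Helper16.FF Groth.Agent.Helper27.Hyp
open scoped WithZero
open Classical

universe u v

section Idx

variable {k : Type u} [Field k] {B : Finset k} {d : k → ℕ}

/-- the branch point of an index -/
def αidx : IdxI B d ⊕ IdxJ B → k := Sum.elim (fun a => (a.1.1 : k)) (fun b => (b.1 : k))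

/-- the exponent of an index -/
def degidx : IdxI B d ⊕ IdxJ B → ℕ := Sum.elim (fun a => a.1.2) (fun _ => 0)

/-- the polynomial multiplier of an index -/
noncomputable def mpoly (i : IdxI B d ⊕ IdxJ B) : k[X] := (X - C (αidx i)) ^ degidx i

theorem αidx_mem (i : IdxI B d ⊕ IdxJ B) : αidx i ∈ B := by
  rcases i with a | b
  · exact a.1.1.2
  · exact b.1.2

theorem degidx_le (hd : ∀ β ∈ B, Odd (d β)) (i : IdxI B d ⊕ IdxJ B) :
    2 * degidx i + 1 ≤ d (αidx i) := by
  rcases i with a | b
  · exact a.2.2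
  · show 2 * 0 + 1 ≤ d (b.1 : k)
    have := (hd _ b.1.2).pos
    omega

theorem idx_ext {i i' : IdxI B d ⊕ IdxJ B} (h1 : αidx i = αidx i') (h2 : degidx i = degidx i') :
    i = i' := by
  rcases i with a | b <;> rcases i' with a' | b'
  · congr 1
    exact Subtype.ext (Prod.ext (Subtype.ext h1) h2)
  · exfalso
    have := a.2.1
    have h3 : a.1.2 = 0 := h2
    omega
  · exfalso
    have := a'.2.1
    have h3 : 0 = a'.1.2 := h2
    omega
  · congr 1
    exact Subtype.ext (Subtype.ext h1)

theorem mpoly_comp (i : IdxI B d ⊕ IdxJ B) :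
    (mpoly i).comp (X + C (αidx i)) = X ^ degidx i := by
  unfold mpoly
  rw [pow_comp, sub_comp, X_comp, C_comp, add_sub_cancel_right]

theorem natDegree_mpoly (i : IdxI B d ⊕ IdxJ B) : (mpoly i).natDegree = degidx i := by
  unfold mpoly
  rw [natDegree_pow, natDegree_X_sub_C, mul_one]

end Idx

variable {k : Type u} {K : Type v} [Field k] [Field K] [Algebra k K] [Algebra (RatFunc k) K]
  [IsScalarTower k (RatFunc k) K] {B : Finset k} {d : k → ℕ}

noncomputable instance fintypeIdx : Fintype (IdxI B d ⊕ IdxJ B) := Fintype.ofFinite _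

/-- the spanning repartitions -/
noncomputable def famA (y : K) (Pl : k → Place k K) :
    IdxI B d ⊕ IdxJ B → (Place k K → K) :=
  Sum.elim
    (fun a => (Pi.single (Pl (a.1.1 : k))
      (y * ((algebraMap (RatFunc k) K RatFunc.X) - (algebraMap k K (a.1.1 : k))) ^ a.1.2) :
        Place k K → K))
    (fun b => (Pi.single (Pl (b.1 : k)) y : Place k K → K))

theorem famA_eq (y : K) (Pl : k → Place k K) (i : IdxI B d ⊕ IdxJ B) :
    famA y Pl i = Pi.single (Pl (αidx i)) (aeval (xK k K) (mpoly i) * y) := by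
  rcases i with a | b
  · show (Pi.single (Pl (a.1.1 : k))
      (y * ((algebraMap (RatFunc k) K RatFunc.X) - (algebraMap k K (a.1.1 : k))) ^ a.1.2) :
        Place k K → K) = Pi.single (Pl (a.1.1 : k))
          (aeval (xK k K) ((X - C (a.1.1 : k)) ^ a.1.2) * y)
    rw [map_pow, aeval_sub, aeval_X, aeval_C, mul_comm]
    rfl
  · show (Pi.single (Pl (b.1 : k)) y : Place k K → K) =
      Pi.single (Pl (b.1 : k)) (aeval (xK k K) ((X - C (b.1 : k)) ^ 0) * y)
    rw [pow_zero, map_one, one_mul]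

/-- the polynomial whose product with `y` is the component at `Q` of a combination -/
noncomputable def ρpoly (Pl : k → Place k K) (c : IdxI B d ⊕ IdxJ B → k) (Q : Place k K) : k[X] :=
  ∑ i, if Q = Pl (αidx i) then c i • mpoly i else 0

theorem sum_famA_apply (y : K) (Pl : k → Place k K) (c : IdxI B d ⊕ IdxJ B → k)
    (Q : Place k K) :
    (∑ i, c i • famA y Pl i) Q = aeval (xK k K) (ρpoly Pl c Q) * y := by
  rw [Finset.sum_apply, ρpoly, map_sum, Finset.sum_mul]
  refine Finset.sum_congr rfl fun i _ => ?_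
  rw [Pi.smul_apply, famA_eq, Pi.single_apply]
  split_ifs with h
  · rw [map_smul, smul_mul_assoc]
  · rw [smul_zero, map_zero, zero_mul]

theorem ρpoly_comp_coeff (Pl : k → Place k K) (c : IdxI B d ⊕ IdxJ B → k) {α₀ : k}
    (hinj : ∀ i : IdxI B d ⊕ IdxJ B, Pl α₀ = Pl (αidx i) ↔ αidx i = α₀) (n : ℕ) :
    ((ρpoly Pl c (Pl α₀)).comp (X + C α₀)).coeff n =
      ∑ i, if αidx i = α₀ ∧ degidx i = n then c i else 0 := by
  unfold ρpoly
  rw [← coe_compRingHom_apply, map_sum, finset_sum_coeff]
  refine Finset.sum_congr rfl fun i _ => ?_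
  rw [coe_compRingHom_apply]
  by_cases h : αidx i = α₀
  · rw [if_pos ((hinj i).2 h), smul_comp, ← h, mpoly_comp, coeff_smul, coeff_X_pow, smul_eq_mul]
    by_cases h2 : degidx i = n
    · rw [if_pos h2.symm, if_pos ⟨rfl, h2⟩, mul_one]
    · rw [if_neg (Ne.symm h2), if_neg (fun h3 => h2 h3.2), mul_zero]
  · rw [if_neg (fun h3 => h ((hinj i).1 h3)), if_neg (fun h3 => h h3.1), zero_comp, coeff_zero]

theorem natDegree_ρpoly_le (hd : ∀ β ∈ B, Odd (d β)) (Pl : k → Place k K)
    (c : IdxI B d ⊕ IdxJ B → k) {α₀ : k}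
    (hinj : ∀ i : IdxI B d ⊕ IdxJ B, Pl α₀ = Pl (αidx i) ↔ αidx i = α₀) :
    2 * (ρpoly Pl c (Pl α₀)).natDegree + 1 ≤ d α₀ ∨ ρpoly Pl c (Pl α₀) = 0 := by
  by_cases hex : ∃ i : IdxI B d ⊕ IdxJ B, αidx i = α₀
  · left
    obtain ⟨i₀, hi₀⟩ := hex
    have hle : (ρpoly Pl c (Pl α₀)).natDegree ≤ (d α₀ - 1) / 2 := by
      unfold ρpoly
      refine natDegree_sum_le_of_forall_le _ _ fun i _ => ?_
      split_ifs with h
      · refine (natDegree_smul_le _ _).trans ?_
        rw [natDegree_mpoly]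
        have := degidx_le hd i
        rw [(hinj i).1 h] at this
        omega
      · rw [natDegree_zero]; exact Nat.zero_le _
    have := degidx_le hd i₀
    rw [hi₀] at this
    omega
  · right
    push Not at hex
    unfold ρpoly
    refine Finset.sum_eq_zero fun i _ => ?_
    rw [if_neg (fun h3 => hex i ((hinj i).1 h3))]

end Groth.Agent.Helper27.AS
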