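import Groth.Agent.Lib.Helper27.ASo
import Groth.Agent.Lib.Helper16.FF.AdeleSpace

/-! Char-2 hyperelliptic fields with rational branch points: a basis of `H¹` by repartitions. -/

set_option autoImplicit false

namespace Groth.Agent.Helper27.AS

open FunFld Polynomial Groth.Agent.Helper16.FF Groth.Agent.Helper27.Hyp
open scoped WithZero
open Classical

universe u v

section LinAlg

variable {k V : Type*} [Field k] [AddCommGroup V] [Module k V]

theorem le_sup_span_of_indep (W A : Submodule k V) {ι : Type*} [Fintype ι] (v : ι → V)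
    (hvA : ∀ i, v i ∈ A) (hli : LinearIndependent k (fun i => W.mkQ (v i))) (g : ℕ)
    (hdim : HasRelDim W A g) (hcard : Fintype.card ι = g) :
    A ≤ W ⊔ Submodule.span k (Set.range v) := by
  haveI := hdim.1
  set W' := W.comap A.subtype with hW'
  let v' : ι → ↥A ⧸ W' := fun i => W'.mkQ ⟨v i, hvA i⟩
  let ψ : (↥A ⧸ W') →ₗ[k] V ⧸ W := W'.mapQ W A.subtype (le_refl _)
  have hψ : ψ ∘ v' = fun i => W.mkQ (v i) := by
    funext i; rfl
  have hli' : LinearIndependent k v' := LinearIndependent.of_comp ψ (by rw [hψ]; exact hli)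
  have htop := hli'.span_eq_top_of_card_eq_finrank' (hcard.trans hdim.2.symm)
  intro a ha
  have hmem : W'.mkQ ⟨a, ha⟩ ∈ Submodule.span k (Set.range v') := by rw [htop]; trivial
  obtain ⟨c, hc⟩ := (Submodule.mem_span_range_iff_exists_fun k).1 hmem
  have h1 : W'.mkQ (⟨a, ha⟩ - ∑ i, c i • (⟨v i, hvA i⟩ : ↥A)) = 0 := by
    rw [map_sub, map_sum, ← hc, sub_eq_zero]
    refine Finset.sum_congr rfl fun i _ => ?_
    rw [map_smul]
  rw [Submodule.mkQ_apply, Submodule.Quotient.mk_eq_zero, hW', Submodule.mem_comap] at h1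
  have h2 : a - ∑ i, c i • v i ∈ W := by
    convert h1 using 1
    simp
  have h3 : a = (a - ∑ i, c i • v i) + ∑ i, c i • v i := by rw [sub_add_cancel]
  rw [h3]
  refine Submodule.add_mem _ (Submodule.mem_sup_left h2) (Submodule.mem_sup_right ?_)
  exact Submodule.sum_mem _ fun i _ =>
    Submodule.smul_mem _ _ (Submodule.subset_span ⟨i, rfl⟩)

end LinAlg

section Rat

variable {k : Type u} [Field k]

theorem ord_poly_le_natDegree (p : Place k (RatFunc k)) {α₀ : k}
    (hp : p.1 ((RatFunc.X : RatFunc k) - RatFunc.C α₀) < 1) {R : k[X]} (hR : R ≠ 0) :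
    0 ≤ p.ord (algebraMap k[X] (RatFunc k) R) ∧
      p.ord (algebraMap k[X] (RatFunc k) R) ≤ R.natDegree := by
  have hπ : Irreducible (X - C α₀ : k[X]) := irreducible_X_sub_C α₀
  have hp' : p.1 (algebraMap k[X] (RatFunc k) (X - C α₀)) < 1 := by rwa [map_X_sub_C]
  obtain ⟨n, R', hR', rfl⟩ := WfDvdMonoid.max_power_factor hR hπ
  have hπ0 : algebraMap k[X] (RatFunc k) (X - C α₀) ≠ 0 := by
    rw [map_X_sub_C]; exact ratX_sub_C_ne_zero α₀
  have hR'0 : R' ≠ 0 := by rintro rfl; exact hR (mul_zero _)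
  have hR'0' : algebraMap k[X] (RatFunc k) R' ≠ 0 := by simpa using hR'0
  have h1 : p.ord (algebraMap k[X] (RatFunc k) R') = 0 := by
    unfold Place.ord
    rw [Groth.Agent.Helper16.FFW.val_poly_eq_one_of_not_dvd p hπ hp' hR']
    simp
  have hord : p.ord (algebraMap k[X] (RatFunc k) ((X - C α₀) ^ n * R')) = n := by
    rw [map_mul, map_pow, Place.ord_mul p (pow_ne_zero _ hπ0) hR'0', Place.ord_pow,
      Groth.Agent.Helper16.FFW.ord_poly_eq_one p hπ hp', h1]
    ring
  rw [hord]
  refine ⟨Int.natCast_nonneg _, ?_⟩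
  rw [natDegree_mul (pow_ne_zero _ (Polynomial.X_sub_C_ne_zero α₀)) hR'0, natDegree_pow,
    natDegree_X_sub_C]
  push_cast
  omega

end Rat

variable {k : Type u} {K : Type v} [Field k] [Field K] [Algebra k K] [Algebra (RatFunc k) K]
  [IsScalarTower k (RatFunc k) K]

theorem genus_of_data [IsAlgClosed k] [CharP k 2]
    (hK : IsFunctionField k K) (hdeg : Module.finrank (RatFunc k) K = 2)
    (y : K) (hy : y ∉ Set.range (algebraMap (RatFunc k) K)) (f : RatFunc k)
    (heq : y ^ 2 + y = algebraMap (RatFunc k) K f)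
    (B : Finset k) (d : k → ℕ) (hd : ∀ β ∈ B, Odd (d β))
    (hpole : ∀ (p : Place k (RatFunc k)) (β : k), β ∈ B →
      p.1 ((RatFunc.X : RatFunc k) - RatFunc.C β) < 1 → p.ord f = -(d β : ℤ))
    (hint : ∀ p : Place k (RatFunc k),
      (∀ β ∈ B, 1 ≤ p.1 ((RatFunc.X : RatFunc k) - RatFunc.C β)) → p.1 f ≤ 1) :
    (genus k K : ℤ) = -1 + (qB B d).natDegree := by
  have h2 : ringChar k = 2 := ringChar.eq k 2
  have hf0 : f ≠ 0 := f_ne_zero hy heq
  have hpoleiff : ∀ p : Place k (RatFunc k), 1 < p.1 f ↔ p.ord f < 0 := fun p =>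
    Groth.Agent.Helper16.FFW.one_lt_val_iff' p hf0
  have hodd' : ∀ P : Place k (RatFunc k), div k f P < 0 → Odd (div k f P) := by
    intro P hP
    rw [div_apply hF] at hP ⊢
    exact (hodd_of_data hd hpole hint P ((hpoleiff P).2 hP)).1
  have hgen : (genus k K : ℤ) = -1 + (divA f).deg := by
    rw [deg_divA]
    exact main11028 hK h2 hdeg y hy f heq hodd'
  obtain ⟨pinf, hpinf⟩ := exists_pole hF (RatFunc.transcendental_X (K := k))
  have hqA : ∀ p : Place k (RatFunc k), p.1 (RatFunc.X : RatFunc k) ≤ 1 →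
      divA f p = p.ord (algebraMap k[X] (RatFunc k) (qB B d)) := by
    intro p hp
    rw [divA_apply, div_apply hF, hq_of_data hd hpole hint hf0 p hp]
    by_cases h : 1 < p.1 f
    · rw [if_pos h, if_pos ((hpoleiff p).1 h)]
    · rw [if_neg h, if_neg (fun h' => h ((hpoleiff p).2 h'))]
  have hdegA := deg_eq_of_finite_eq (divA f) (qB B d) (qB_ne_zero B d) hqA pinf hpinf
  have hA0 : divA f pinf = 0 := by
    rw [divA_apply, div_apply hF, if_neg]
    have := (Place.val_le_one_iff pinf hf0).1 (val_f_infty hint pinf hpinf)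
    omega
  rw [hgen, hdegA, hA0, add_zero]

theorem main19046 [IsAlgClosed k] [CharP k 2]
    (hK : IsFunctionField k K) (hdeg : Module.finrank (RatFunc k) K = 2)
    (y : K) (hy : y ∉ Set.range (algebraMap (RatFunc k) K)) (f : RatFunc k)
    (heq : y ^ 2 + y = algebraMap (RatFunc k) K f)
    (B : Finset k) (h0 : (0 : k) ∈ B) (d : k → ℕ) (hd : ∀ β ∈ B, Odd (d β))
    (hpole : ∀ (p : Place k (RatFunc k)) (β : k), β ∈ B →
      p.1 ((RatFunc.X : RatFunc k) - RatFunc.C β) < 1 → p.ord f = -(d β : ℤ))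
    (hint : ∀ p : Place k (RatFunc k),
      (∀ β ∈ B, 1 ≤ p.1 ((RatFunc.X : RatFunc k) - RatFunc.C β)) → p.1 f ≤ 1)
    (Pl : k → Place k K)
    (hPl : ∀ β ∈ B, (Pl β).1 ((algebraMap (RatFunc k) K RatFunc.X) - (algebraMap k K β)) < 1)
    (v : IdxI B d ⊕ IdxJ B → (Place k K → K)) (hv : ∀ i, v i = famA y Pl i) :
    (∀ i, v i ∈ adele k K) ∧
    LinearIndependent k (fun i =>
      Submodule.mkQ (AD (0 : Divisor k K) ⊔ LinearMap.range (diag k K)) (v i)) ∧
    ∀ a : Place k K → K, a ∈ adele k K →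
      a ∈ (AD (0 : Divisor k K) ⊔ LinearMap.range (diag k K)) ⊔
        Submodule.span k (Set.range v) := by
  haveI : FiniteDimensional (RatFunc k) K := Module.finite_of_finrank_pos (by omega)
  have hvv : v = famA y Pl := funext hv
  subst hvv
  have h2 : ringChar k = 2 := ringChar.eq k 2
  have hy0 : y ≠ 0 := fun h => hy ⟨0, by rw [map_zero, h]⟩
  set x := xK k K with hxdef
  set W := AD (0 : Divisor k K) ⊔ LinearMap.range (diag k K) with hW
  have hadele : ∀ i : IdxI B d ⊕ IdxJ B, famA y Pl i ∈ adele k K := by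
    intro i
    rw [famA_eq]
    exact single_mem_adele _ _
  have hPl' : ∀ β ∈ B, (Pl β).1
      (algebraMap (RatFunc k) K ((RatFunc.X : RatFunc k) - RatFunc.C β)) < 1 := by
    intro β hβ
    rw [← xsub_eq]; exact hPl β hβ
  have hPlx : ∀ β ∈ B, (Pl β).1 x ≤ 1 := by
    intro β hβ
    have e : x = (algebraMap (RatFunc k) K RatFunc.X - algebraMap k K β) + algebraMap k K β := by
      rw [sub_add_cancel]; rfl
    rw [e]
    exact ((Pl β).1.map_add _ _).trans (max_le (hPl β hβ).le ((Pl β).2.1 β))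
  have hPlinj : ∀ α ∈ B, ∀ α' ∈ B, Pl α = Pl α' → α = α' := by
    intro α hα α' hα' hEq
    by_contra hne
    obtain ⟨p, he, hp, -⟩ := at_branch hK hdeg hy heq hd hpole hα (Pl α) (hPl' α hα)
    have h1 := hPl' α' hα'
    rw [← hEq] at h1
    have h3 := (Groth.Agent.Helper16.FFW.isOverWith_lt_one_iff he _).1 h1
    rw [val_X_sub_C_of_ne p hne hp] at h3
    exact lt_irrefl _ h3
  have hinj : ∀ α₀ ∈ B, ∀ i : IdxI B d ⊕ IdxJ B, Pl α₀ = Pl (αidx i) ↔ αidx i = α₀ := by
    intro α₀ hα₀ i
    constructor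
    · intro h; exact (hPlinj α₀ hα₀ _ (αidx_mem i) h).symm
    · intro h; rw [h]
  have hli : LinearIndependent k (fun i : IdxI B d ⊕ IdxJ B => W.mkQ (famA y Pl i)) := by
    rw [Fintype.linearIndependent_iff]
    intro c hsum
    have hr : ∑ i, c i • famA y Pl i ∈ W := by
      rw [← Submodule.Quotient.mk_eq_zero, ← Submodule.mkQ_apply, map_sum, ← hsum]
      refine Finset.sum_congr rfl fun i _ => ?_
      rw [map_smul]
    obtain ⟨b, hb, _, ⟨u, rfl⟩, hbu⟩ := Submodule.mem_sup.1 hr
    have hE : ∀ Q, b Q + u = aeval x (ρpoly Pl c Q) * y := by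
      intro Q
      have := congrFun hbu Q
      rw [sum_famA_apply] at this
      exact this
    have hbQ : ∀ Q : Place k K, Q.1 (b Q) ≤ 1 := by
      intro Q
      have := hb Q
      simpa using this
    obtain ⟨σ, hσ⟩ := exists_sigma h2 hdeg hy heq
    obtain ⟨a, b', hab⟩ := exists_decomp hdeg hy u
    have hσu : σ u = u + algebraMap (RatFunc k) K b' := by
      rw [hab, map_add, map_mul, hσ, σ.commutes, σ.commutes]; ring
    have hσpoly : ∀ P : k[X], σ (aeval x P) = aeval x P := fun P => by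
      rw [hxdef, ← map_poly, σ.commutes]
    have hρσ : ∀ Q, ρpoly Pl c (Place.comapAutK σ Q) = ρpoly Pl c Q := by
      intro Q
      unfold ρpoly
      refine Finset.sum_congr rfl fun i _ => ?_
      have hiff : Place.comapAutK σ Q = Pl (αidx i) ↔ Q = Pl (αidx i) := by
        have hmem := αidx_mem i
        constructor
        · intro h
          refine unique_at_branch hK hdeg hy heq hd hpole hmem _ _ ?_ (hPl' _ hmem)
          have h1 := hPl' _ hmem
          rw [← h, Place.comapAutK_apply, σ.commutes] at h1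
          exact h1
        · intro h
          refine unique_at_branch hK hdeg hy heq hd hpole hmem _ _ ?_ (hPl' _ hmem)
          rw [Place.comapAutK_apply, σ.commutes, h]
          exact hPl' _ hmem
      by_cases h : Q = Pl (αidx i)
      · rw [if_pos h, if_pos (hiff.2 h)]
      · rw [if_neg h, if_neg (fun h' => h (hiff.1 h'))]
    have hfin : ∀ Q : Place k K, Q.1 (aeval x (ρpoly Pl c Q)) ≤ 1 := by
      intro Q
      by_cases hx : Q.1 x ≤ 1
      · exact Groth.Agent.Helper16.FFW.val_aeval_le_one Q hx _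
      · have : ρpoly Pl c Q = 0 := by
          unfold ρpoly
          refine Finset.sum_eq_zero fun i _ => ?_
          rw [if_neg]
          rintro rfl
          exact hx (hPlx _ (αidx_mem i))
        rw [this, map_zero, map_zero]; exact zero_le
    have hb'int : ∀ Q : Place k K, Q.1 (algebraMap (RatFunc k) K b') ≤ 1 := by
      intro Q
      have e1 := hE Q
      have e2 := hE (Place.comapAutK σ Q)
      rw [hρσ] at e2
      have e3 : σ (b (Place.comapAutK σ Q)) + σ u = aeval x (ρpoly Pl c Q) * (y + 1) := by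
        rw [← map_add, e2, map_mul, hσpoly, hσ]
      have e4 : algebraMap (RatFunc k) K b' =
          aeval x (ρpoly Pl c Q) - σ (b (Place.comapAutK σ Q)) + b Q := by
        rw [hσu] at e3; linear_combination e3 - e1
      rw [e4]
      refine (Q.1.map_add _ _).trans
        (max_le ((Valuation.map_sub _ _ _).trans (max_le (hfin Q) ?_)) (hbQ Q))
      exact hbQ (Place.comapAutK σ Q)
    have hb'L : b' ∈ L (0 : Divisor k (RatFunc k)) := by
      intro p
      rw [Finsupp.coe_zero, Pi.zero_apply, WithZero.exp_zero]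
      obtain ⟨Q, e, he⟩ := exists_over (K := K) hdeg p
      exact (Groth.Agent.Helper16.FFW.isOverWith_le_one_iff he _).1 (hb'int Q)
    rw [L_zero_eq_one hF, Submodule.mem_one] at hb'L
    obtain ⟨β₀, hβ₀⟩ := hb'L
    have hιb' : algebraMap (RatFunc k) K b' = aeval x (C β₀) := by
      rw [aeval_C, ← hβ₀, ← IsScalarTower.algebraMap_apply]
    have hE' : ∀ Q, algebraMap (RatFunc k) K a =
        aeval x (ρpoly Pl c Q - C β₀) * y - b Q := by
      intro Q
      have e1 := hE Q
      rw [hab, hιb'] at e1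
      rw [map_sub]
      linear_combination e1
    have hkey : ∀ α₀ ∈ B, ρpoly Pl c (Pl α₀) = C β₀ := by
      intro α₀ hα₀
      by_contra hne
      set R := ρpoly Pl c (Pl α₀) - C β₀ with hR
      have hR0 : R ≠ 0 := sub_ne_zero.2 hne
      obtain ⟨p, he, hp, hordy, -⟩ :=
        at_branch hK hdeg hy heq hd hpole hα₀ (Pl α₀) (hPl' α₀ hα₀)
      obtain ⟨hn0, hnle⟩ := ord_poly_le_natDegree p hp hR0
      have hdpos := (hd α₀ hα₀).pos
      have hdegR : 2 * R.natDegree + 1 ≤ d α₀ := by
        rcases natDegree_ρpoly_le hd Pl c (hinj α₀ hα₀) with h | h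
        · have h5 := natDegree_sub_le (ρpoly Pl c (Pl α₀)) (C β₀)
          rw [natDegree_C, max_eq_left (Nat.zero_le _), ← hR] at h5
          omega
        · rw [hR, h, zero_sub, natDegree_neg, natDegree_C]; omega
      have hRx0 : aeval x R ≠ 0 := fun h0 =>
        hR0 (aeval_xK_injective (K := K) (by rw [h0, map_zero]))
      have hordR : (Pl α₀).ord (aeval x R) = 2 * p.ord (algebraMap k[X] (RatFunc k) R) := by
        rw [hxdef, ← map_poly, Groth.Agent.Helper16.FFW.ord_of_isOverWith he]; norm_num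
      have hord : (Pl α₀).ord (aeval x R * y) < 0 := by
        rw [Place.ord_mul _ hRx0 hy0, hordR, hordy]; omega
      have hgt : 1 < (Pl α₀).1 (aeval x R * y) :=
        (Groth.Agent.Helper16.FFW.one_lt_val_iff' _ (mul_ne_zero hRx0 hy0)).2 hord
      have hva : (Pl α₀).1 (algebraMap (RatFunc k) K a) = (Pl α₀).1 (aeval x R * y) := by
        rw [hE' (Pl α₀)]
        exact Valuation.map_sub_eq_of_lt_left _ (lt_of_le_of_lt (hbQ _) hgt)
      have h5 : (Pl α₀).ord (algebraMap (RatFunc k) K a) = (Pl α₀).ord (aeval x R * y) := by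
        unfold Place.ord; rw [hva]
      rw [Groth.Agent.Helper16.FFW.ord_of_isOverWith he, Place.ord_mul _ hRx0 hy0, hordR,
        hordy] at h5
      obtain ⟨j, hj⟩ := hd α₀ hα₀
      push_cast at h5
      omega
    have hcoef : ∀ α₀ ∈ B, ∀ n : ℕ,
        (∑ i, if αidx i = α₀ ∧ degidx i = n then c i else 0) = if n = 0 then β₀ else 0 := by
      intro α₀ hα₀ n
      rw [← ρpoly_comp_coeff Pl c (hinj α₀ hα₀), hkey α₀ hα₀, C_comp, coeff_C]
    have hβ₀0 : β₀ = 0 := by
      have h5 := hcoef 0 h0 0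
      rw [if_pos rfl] at h5
      rw [← h5]
      refine Finset.sum_eq_zero fun i _ => ?_
      rw [if_neg]
      rintro ⟨h1, h2'⟩
      rcases i with a | b
      · have := a.2.1
        have h3 : a.1.2 = 0 := h2'
        omega
      · exact b.2 h1
    intro i₀
    have h5 := hcoef (αidx i₀) (αidx_mem i₀) (degidx i₀)
    rw [Finset.sum_eq_single i₀ (fun i _ hne => by
      rw [if_neg]
      rintro ⟨h1, h2'⟩
      exact hne (idx_ext h1 h2')) (fun h => absurd (Finset.mem_univ _) h),
      if_pos ⟨rfl, rfl⟩, hβ₀0] at h5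
    rw [h5]; split_ifs <;> rfl
  refine ⟨hadele, hli, ?_⟩
  intro a ha
  have hgen := genus_of_data hK hdeg y hy f heq B d hd hpole hint
  have hcard : Fintype.card (IdxI B d ⊕ IdxJ B) = genus k K := by
    have h3 := card_Idx B d h0 hd
    rw [Nat.card_eq_fintype_card] at h3
    omega
  have hdim := hasRelDim_adele hK (0 : Divisor k K)
  rw [Divisor.deg_zero, ell_zero hK] at hdim
  have hg' : ((genus k K : ℤ) - (0 + 1 - ((1 : ℕ) : ℤ))).toNat = genus k K := by
    norm_num
  rw [hg'] at hdim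
  exact le_sup_span_of_indep W (adele k K) (famA y Pl) hadele hli _ hdim hcard ha

end Groth.Agent.Helper27.AS
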