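import Mathlib

/-!
# The one-step "absolute splitting" ring of a commutative ring (helper27; for S16573)

For a commutative ring `A`, `Cl A` is the `A`-algebra obtained by formally splitting every monic
polynomial over `A`. It is integral over `A`, every monic polynomial over `A` splits into linear
factors over `Cl A`, and every prime of `A` is the contraction of a prime of `Cl A`.
-/

namespace Groth.Agent.Helper27.Acx

open Polynomial

universe u

noncomputable section

variable (A : Type u) [CommRing A]

/-- The subtype of monic polynomials. -/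
def Monics : Type u := {f : A[X] // f.Monic}

/-- `n` variables for each monic polynomial of degree `n`. -/
def Vars : Type u := Σ f : Monics A, Fin f.1.natDegree

variable {A} in
/-- `f - ∏ (X - X_{f,i})`. -/
def subProdXSubC (f : Monics A) : (MvPolynomial (Vars A) A)[X] :=
  f.1.map (algebraMap _ _) - ∏ i : Fin f.1.natDegree, (X - C (MvPolynomial.X ⟨f, i⟩))

/-- The span of all coefficients of `subProdXSubC f`. -/
def spanCoeffs : Ideal (MvPolynomial (Vars A) A) :=
  Ideal.span <| Set.range fun fn : Monics A × ℕ ↦ (subProdXSubC fn.1).coeff fn.2

/-- The universal ring over which every monic polynomial over `A` splits. -/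
abbrev Cl : Type u := MvPolynomial (Vars A) A ⧸ spanCoeffs A

variable {A}

theorem map_eq_prod (f : Monics A) :
    f.1.map (algebraMap A (Cl A)) =
      ∏ i : Fin f.1.natDegree,
        (X - C (Ideal.Quotient.mk (spanCoeffs A) (MvPolynomial.X ⟨f, i⟩))) := by
  have h : (subProdXSubC f).map (Ideal.Quotient.mk (spanCoeffs A)) = 0 := by
    ext n
    rw [coeff_map, coeff_zero, Ideal.Quotient.eq_zero_iff_mem]
    exact Ideal.subset_span ⟨⟨f, n⟩, rfl⟩
  rw [subProdXSubC, Polynomial.map_sub, sub_eq_zero, Polynomial.map_map, Polynomial.map_prod] at h
  rw [show algebraMap A (Cl A) = (Ideal.Quotient.mk (spanCoeffs A)).comp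
    (algebraMap A (MvPolynomial (Vars A) A)) from rfl, h]
  simp

variable (A) in
theorem isIntegral : Algebra.IsIntegral A (Cl A) := ⟨fun z => by
  obtain ⟨p, rfl⟩ := Ideal.Quotient.mk_surjective z
  induction p using MvPolynomial.induction_on with
  | C a => exact isIntegral_algebraMap
  | add p q hp hq => rw [map_add]; exact hp.add hq
  | mul_X p fi ih =>
    rw [map_mul]
    refine ih.mul ⟨fi.1.1, fi.1.2, ?_⟩
    rw [← eval_map, map_eq_prod, eval_prod]
    apply Finset.prod_eq_zero (Finset.mem_univ fi.2)
    simp⟩

/-- If a monic polynomial `f : A[X]` splits in `K`,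
then it has as many roots (counting multiplicity) as its degree. -/
def finEquivRoots {K : Type*} [Field K] [DecidableEq K] {i : A →+* K} {f : Monics A}
    (hf : (f.1.map i).Splits) : Fin f.1.natDegree ≃ (f.1.map i).roots.toEnumFinset :=
  .symm <| Finset.equivFinOfCardEq <| by
    rwa [splits_iff_card_roots, ← Multiset.card_toEnumFinset, f.2.natDegree_map] at hf

end

end Groth.Agent.Helper27.Acx
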