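import Mathlib
import Groth.Agent.Lib.Helper27.AcxA

/-!
# Lying over for `A → Cl A` (helper27; for S16573)
-/

namespace Groth.Agent.Helper27.Acx

open Polynomial

universe u

noncomputable section

variable {A : Type u} [CommRing A]

open scoped Classical in
/-- The evaluation of the universal variables at roots in an algebraically closed field. -/
def toAlgClosed {Ω : Type*} [Field Ω] [IsAlgClosed Ω] [Algebra A Ω] :
    MvPolynomial (Vars A) A →ₐ[A] Ω :=
  MvPolynomial.aeval fun fi ↦
    (finEquivRoots (i := algebraMap A Ω) (f := fi.1) (IsAlgClosed.splits _) fi.2).1.1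

theorem toAlgClosed_coeff {Ω : Type*} [Field Ω] [IsAlgClosed Ω] [Algebra A Ω] (f : Monics A)
    (n : ℕ) : toAlgClosed (Ω := Ω) ((subProdXSubC f).coeff n) = 0 := by
  classical
  simp_rw [← AlgHom.coe_toRingHom, ← coeff_map, subProdXSubC, Polynomial.map_sub,
    Polynomial.map_prod, Polynomial.map_sub, map_X, map_C, toAlgClosed,
    AlgHom.coe_toRingHom, MvPolynomial.aeval_X,
    ← (finEquivRoots (i := algebraMap A Ω) (f := f) (IsAlgClosed.splits _)).symm.prod_comp,
    Equiv.apply_symm_apply]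
  rw [Finset.prod_coe_sort (f := fun x : _ × ℕ ↦ X - C x.1), (Multiset.toEnumFinset _)
    |>.prod_eq_multiset_prod, ← Function.comp_def (X - C ·) Prod.fst, ← Multiset.map_map,
    Multiset.map_toEnumFinset_fst, map_map, AlgHom.comp_algebraMap]
  conv in map _ _ => rw [Splits.eq_prod_roots (IsAlgClosed.splits (f.1.map (algebraMap A Ω)))]
  rw [(f.2.map (algebraMap A Ω)).leadingCoeff, C_1, one_mul, sub_self, coeff_zero]

theorem spanCoeffs_le_ker {Ω : Type*} [Field Ω] [IsAlgClosed Ω] [Algebra A Ω] :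
    spanCoeffs A ≤ RingHom.ker (toAlgClosed (A := A) (Ω := Ω)).toRingHom := by
  rw [spanCoeffs, Ideal.span_le]
  rintro _ ⟨⟨f, n⟩, rfl⟩
  exact toAlgClosed_coeff f n

theorem exists_prime (p : Ideal A) [p.IsPrime] :
    ∃ P : Ideal (Cl A), P.IsPrime ∧ P.comap (algebraMap A (Cl A)) = p := by
  let Ω := AlgebraicClosure p.ResidueField
  let ψ : Cl A →ₐ[A] Ω := Ideal.Quotient.liftₐ (spanCoeffs A) (toAlgClosed (Ω := Ω))
    (fun a ha => spanCoeffs_le_ker (Ω := Ω) ha)
  refine ⟨RingHom.ker ψ.toRingHom, RingHom.ker_isPrime _, ?_⟩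
  rw [RingHom.comap_ker]
  have h1 : ψ.toRingHom.comp (algebraMap A (Cl A)) = algebraMap A Ω := ψ.comp_algebraMap
  rw [h1, IsScalarTower.algebraMap_eq A p.ResidueField Ω, ← RingHom.comap_ker,
    (RingHom.injective_iff_ker_eq_bot _).mp (algebraMap p.ResidueField Ω).injective,
    ← RingHom.ker_eq_comap_bot, Ideal.ker_algebraMap_residueField]

end

end Groth.Agent.Helper27.Acx
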