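import Mathlib

/-!
# Algebraically closed fraction-type fields from splitting of monic polynomials
(helper27; for S16573)
-/

namespace Groth.Agent.Helper27.Acx

open Polynomial

/-- Abstract criterion. Given a commutative square `ρ ∘ e = e' ∘ φ` where `K₀`, `K` are fields
generated by fractions of the images of `A`, `A'`, `φ` integral and every monic polynomial over `A`
splits over `A'`: then `ρ` is integral and `K` is algebraically closed. -/
theorem integral_and_algClosed_of_square {A A' K₀ K : Type*} [CommRing A] [CommRing A']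
    [Field K₀] [Field K]
    (φ : A →+* A') (e : A →+* K₀) (e' : A' →+* K) (ρ : K₀ →+* K)
    (hsq : ρ.comp e = e'.comp φ)
    (H1 : ∀ k : K₀, ∃ a s : A, e s ≠ 0 ∧ k = e a / e s)
    (H2 : ∀ k : K, ∃ a s : A', e' s ≠ 0 ∧ k = e' a / e' s)
    (H3 : φ.IsIntegral)
    (H4 : ∀ F : A[X], F.Monic → (F.map φ).Splits) :
    ρ.IsIntegral ∧ IsAlgClosed K := by
  letI := ρ.toAlgebra
  have key : ∀ a' : A', IsIntegral K₀ (e' a') := by
    intro a'
    obtain ⟨P, hP, hPa⟩ := H3 a'
    refine ⟨P.map e, hP.map e, ?_⟩
    show eval₂ ρ (e' a') (P.map e) = 0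
    rw [eval₂_map, hsq, ← hom_eval₂, hPa, map_zero]
  have hint : ∀ k : K, IsIntegral K₀ k := by
    intro k
    obtain ⟨a, s, hs, rfl⟩ := H2 k
    rw [div_eq_mul_inv]
    exact (key a).mul (key s).inv
  haveI : Algebra.IsIntegral K₀ K := ⟨hint⟩
  refine ⟨hint, ?_⟩
  have hcl : IsAlgClosure K₀ K := by
    apply IsAlgClosure.of_splits
    intro q hq _
    classical
    -- common denominator
    have hc : ∀ i : ℕ, ∃ a s : A, e s ≠ 0 ∧ q.coeff i = e a / e s := fun i => H1 _
    choose a s hs hq' using hc
    set d : A := ∏ i ∈ Finset.range q.natDegree, s i with hd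
    have hd0 : e d ≠ 0 := by
      rw [hd, map_prod]
      exact Finset.prod_ne_zero_iff.mpr (fun i _ => hs i)
    have hlift : q.scaleRoots (e d) ∈ lifts e := by
      rw [lifts_iff_coeff_lifts]
      intro n
      rw [coeff_scaleRoots]
      rcases lt_trichotomy n q.natDegree with hn | hn | hn
      · -- n < natDegree
        have hdvd : s n ∣ d := Finset.dvd_prod_of_mem _ (Finset.mem_range.mpr hn)
        obtain ⟨t, ht⟩ := hdvd
        obtain ⟨m, hm⟩ : ∃ m, q.natDegree - n = m + 1 := ⟨q.natDegree - n - 1, by omega⟩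
        refine ⟨a n * t * d ^ m, ?_⟩
        rw [hm, pow_succ, hq' n, map_mul, map_mul, map_pow]
        have h5 : e (a n) / e (s n) * e d = e (a n) * e t := by
          rw [ht, map_mul]
          field_simp [hs n]
        rw [← h5]
        ring
      · subst hn
        refine ⟨1, ?_⟩
        rw [coeff_natDegree, hq.leadingCoeff, Nat.sub_self, pow_zero, mul_one, map_one]
      · refine ⟨0, ?_⟩
        rw [coeff_eq_zero_of_natDegree_lt hn, zero_mul, map_zero]
    obtain ⟨F, hF, -, hFm⟩ := lifts_and_natDegree_eq_and_monic hlift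
      ((monic_scaleRoots_iff _).mpr hq)
    have h1 : ((F.map φ).map e').Splits := (H4 F hFm).map e'
    have h2 : (F.map φ).map e' = (q.map ρ).scaleRoots (ρ (e d)) := by
      rw [Polynomial.map_map, ← hsq, ← Polynomial.map_map, hF, map_scaleRoots]
      rw [hq.leadingCoeff, map_one]
      exact one_ne_zero
    rw [h2] at h1
    have h3 : q.map ρ = ((q.map ρ).scaleRoots (ρ (e d))).scaleRoots (ρ (e d))⁻¹ := by
      rw [← scaleRoots_mul, mul_inv_cancel₀, scaleRoots_one]
      exact (map_ne_zero ρ).mpr hd0
    show (q.map ρ).Splits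
    rw [h3]
    exact h1.scaleRoots _
  exact hcl.isAlgClosed

end Groth.Agent.Helper27.Acx
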