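import Mathlib
import Groth.Agent.Lib.Helper27.AcxB
import Groth.Agent.Lib.Helper27.AcxC

/-!
# Residue fields of `Spec (Cl A) → Spec A` (helper27; for S16573)
-/

universe u

open AlgebraicGeometry CategoryTheory Opposite TopologicalSpace Polynomial

namespace Groth.Agent.Helper27.Acx

/-- Every element of the residue field at a point of an affine open is a fraction of evaluations
of sections. -/
theorem evaluation_fraction {X : Scheme.{u}} {U : X.Opens} (hU : IsAffineOpen U) (x : X)
    (hx : x ∈ U) (k : X.residueField x) :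
    ∃ a s : Γ(X, U), (X.evaluation U x hx).hom s ≠ 0 ∧
      k = (X.evaluation U x hx).hom a / (X.evaluation U x hx).hom s := by
  obtain ⟨t, rfl⟩ := X.residue_surjective x k
  letI := X.presheaf.algebra_section_stalk ⟨x, hx⟩
  haveI := hU.isLocalization_stalk ⟨x, hx⟩
  obtain ⟨⟨a, s⟩, h⟩ := IsLocalization.surj (hU.primeIdealOf ⟨x, hx⟩).asIdeal.primeCompl t
  have hunit : IsUnit (algebraMap Γ(X, U) (X.presheaf.stalk x) s) :=
    IsLocalization.map_units _ s
  have hne : (X.evaluation U x hx).hom s ≠ 0 := by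
    have h1 : IsUnit ((X.residue x).hom (algebraMap Γ(X, U) (X.presheaf.stalk x) s)) :=
      hunit.map _
    exact h1.ne_zero
  refine ⟨a, s, hne, ?_⟩
  rw [eq_div_iff hne]
  have h2 := congrArg (X.residue x).hom h
  rw [map_mul] at h2
  exact h2

theorem affine_case (A : Type u) [CommRing A]
    (z : Spec (CommRingCat.of (Cl A))) :
    IsAlgClosed ((Spec (CommRingCat.of (Cl A))).residueField z) ∧
      ((Spec.map (CommRingCat.ofHom (algebraMap A (Cl A)))).residueFieldMap z).hom.IsIntegral := by
  let R : CommRingCat.{u} := CommRingCat.of A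
  let R' : CommRingCat.{u} := CommRingCat.of (Cl A)
  let ψ : R ⟶ R' := CommRingCat.ofHom (algebraMap A (Cl A))
  let g := Spec.map ψ
  let e : A →+* (Spec R).residueField (g z) :=
    ((Scheme.ΓSpecIso R).inv ≫ (Spec R).Γevaluation (g z)).hom
  let e' : Cl A →+* (Spec R').residueField z :=
    ((Scheme.ΓSpecIso R').inv ≫ (Spec R').Γevaluation z).hom
  have hsq : (g.residueFieldMap z).hom.comp e = e'.comp (algebraMap A (Cl A)) := by
    have h1 : ((Scheme.ΓSpecIso R).inv ≫ (Spec R).Γevaluation (g z)) ≫ g.residueFieldMap z =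
        ψ ≫ ((Scheme.ΓSpecIso R').inv ≫ (Spec R').Γevaluation z) := by
      rw [Category.assoc, Scheme.Γevaluation_naturality, ← Category.assoc,
        ← Scheme.ΓSpecIso_inv_naturality, Category.assoc]
    exact congrArg CommRingCat.Hom.hom h1
  have hfrac : ∀ (S : CommRingCat.{u}) (w : Spec S) (k : (Spec S).residueField w),
      ∃ a s : S, ((Scheme.ΓSpecIso S).inv ≫ (Spec S).Γevaluation w).hom s ≠ 0 ∧
        k = ((Scheme.ΓSpecIso S).inv ≫ (Spec S).Γevaluation w).hom a /
          ((Scheme.ΓSpecIso S).inv ≫ (Spec S).Γevaluation w).hom s := by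
    intro S w k
    obtain ⟨a, s, hs, hk⟩ := evaluation_fraction (isAffineOpen_top (Spec S)) w trivial k
    refine ⟨(Scheme.ΓSpecIso S).hom.hom a, (Scheme.ΓSpecIso S).hom.hom s, ?_, ?_⟩
    · simpa using hs
    · simpa using hk
  have H := integral_and_algClosed_of_square (algebraMap A (Cl A)) e e'
    (g.residueFieldMap z).hom hsq (hfrac R (g z)) (hfrac R' z)
    (algebraMap_isIntegral_iff.mpr (isIntegral A))
    (fun F hF => by
      have := map_eq_prod (⟨F, hF⟩ : Monics A)
      show (F.map (algebraMap A (Cl A))).Splits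
      rw [this]
      exact Splits.prod (fun i _ => Splits.X_sub_C _))
  exact ⟨H.2, H.1⟩

end Groth.Agent.Helper27.Acx
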