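import Mathlib
import Groth.Agent.Lib.Helper27.AcxD

/-!
# Affine covers with algebraically closed residue fields (helper27; S16573)
-/

universe u

open AlgebraicGeometry CategoryTheory Opposite TopologicalSpace Polynomial Limits

namespace Groth.Agent.Helper27.Acx

/-- Integrality of a morphism of commutative rings in `CommRingCat`. -/
def IsInt {R S : CommRingCat.{u}} (h : R ⟶ S) : Prop := h.hom.IsIntegral

theorem IsInt.comp {R S T : CommRingCat.{u}} {h : R ⟶ S} {k : S ⟶ T} (hh : IsInt h)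
    (hk : IsInt k) : IsInt (h ≫ k) :=
  RingHom.IsIntegral.trans h.hom k.hom hh hk

theorem IsInt.of_isIso {R S : CommRingCat.{u}} (h : R ⟶ S) [IsIso h] : IsInt h := by
  apply RingHom.isIntegral_of_surjective
  exact ((ConcreteCategory.isIso_iff_bijective h).mp inferInstance).2

/-- The structure map `Γ(X, U) ⟶ Cl Γ(X, U)` in `CommRingCat`. -/
noncomputable def clMap {X : Scheme.{u}} (U : X.affineOpens) :
    Γ(X, U.1) ⟶ CommRingCat.of (Cl Γ(X, U.1)) :=
  CommRingCat.ofHom (algebraMap Γ(X, U.1) (Cl Γ(X, U.1)))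

/-- The chart `Spec (Cl Γ(X, U)) ⟶ X` attached to an affine open `U`. -/
noncomputable def chart {X : Scheme.{u}} (U : X.affineOpens) :
    Spec (CommRingCat.of (Cl Γ(X, U.1))) ⟶ X :=
  Spec.map (clMap U) ≫ U.2.fromSpec

theorem chart_residue {X : Scheme.{u}} (U : X.affineOpens)
    (z : Spec (CommRingCat.of (Cl Γ(X, U.1)))) :
    IsInt ((chart U).residueFieldMap z) := by
  have h : (chart U).residueFieldMap z =
      U.2.fromSpec.residueFieldMap ((Spec.map (clMap U)).base z) ≫
        (Spec.map (clMap U)).residueFieldMap z := Scheme.residueFieldMap_comp _ _ _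
  rw [h]
  haveI : IsOpenImmersion U.2.fromSpec := U.2.isOpenImmersion_fromSpec
  have hiso : IsIso (U.2.fromSpec.residueFieldMap ((Spec.map (clMap U)).base z)) := inferInstance
  have h1 : IsInt (U.2.fromSpec.residueFieldMap ((Spec.map (clMap U)).base z)) :=
    IsInt.of_isIso _
  have h2 : IsInt ((Spec.map (clMap U)).residueFieldMap z) := (affine_case Γ(X, U.1) z).2
  exact h1.comp h2

theorem chart_surj {X : Scheme.{u}} (U : X.affineOpens) (x : X) (hx : x ∈ U.1) :
    ∃ z, (chart U).base z = x := by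
  obtain ⟨P, hP, hPp⟩ := exists_prime (U.2.primeIdealOf ⟨x, hx⟩).asIdeal
  refine ⟨⟨P, hP⟩, ?_⟩
  have h1 : (Spec.map (clMap U)).base ⟨P, hP⟩ = U.2.primeIdealOf ⟨x, hx⟩ := by
    apply PrimeSpectrum.ext
    exact hPp
  have h2 : (chart U).base ⟨P, hP⟩ = U.2.fromSpec.base ((Spec.map (clMap U)).base ⟨P, hP⟩) := by
    simp [chart]
  rw [h2, h1]
  exact U.2.fromSpec_primeIdealOf ⟨x, hx⟩

theorem main (X : Scheme.{u}) [CompactSpace X] [QuasiSeparatedSpace X] :
    ∃ (X' : Scheme.{u}) (f : X' ⟶ X), IsAffine X' ∧ QuasiCompact f ∧ Surjective f ∧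
      ∀ x' : X', IsAlgClosed (X'.residueField x') ∧ (f.residueFieldMap x').hom.IsIntegral := by
  obtain ⟨s, hs, hcov⟩ := (isCompact_iff_finite_and_eq_biUnion_affineOpens (U := (⊤ : X.Opens))).mp
    (by simpa using isCompact_univ)
  haveI : Finite s := hs.to_subtype
  let Z : s → Scheme.{u} := fun i => Spec (CommRingCat.of (Cl Γ(X, i.1.1)))
  let f : (∐ Z) ⟶ X := Sigma.desc (fun i => chart i.1)
  haveI : IsAffine (∐ Z) := inferInstance
  refine ⟨∐ Z, f, inferInstance, inferInstance, ⟨?_⟩, ?_⟩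
  · intro x
    have hx : x ∈ (⊤ : X.Opens) := trivial
    rw [hcov] at hx
    simp only [Opens.mem_iSup] at hx
    obtain ⟨U, hU, hxU⟩ := hx
    obtain ⟨z, hz⟩ := chart_surj U x hxU
    refine ⟨(Sigma.ι Z ⟨U, hU⟩).base z, ?_⟩
    have : (Sigma.ι Z ⟨U, hU⟩ ≫ f).base z = x := by
      rw [Sigma.ι_desc]
      exact hz
    simpa using this
  · intro x'
    obtain ⟨i, z, rfl⟩ : ∃ (i : s) (z : Z i), (Sigma.ι Z i).base z = x' :=
      (sigmaOpenCover Z).exists_eq x'
    have hι : IsIso ((Sigma.ι Z i).residueFieldMap z) := inferInstance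
    constructor
    · haveI := (affine_case Γ(X, i.1.1) z).1
      exact IsAlgClosed.of_ringEquiv ((Z i).residueField z) _
        (asIso ((Sigma.ι Z i).residueFieldMap z)).commRingCatIsoToRingEquiv.symm
    · have h1 : (Sigma.ι Z i ≫ f).residueFieldMap z =
          f.residueFieldMap ((Sigma.ι Z i).base z) ≫ (Sigma.ι Z i).residueFieldMap z :=
        Scheme.residueFieldMap_comp _ _ _
      have h2 : IsInt ((Sigma.ι Z i ≫ f).residueFieldMap z) := by
        rw [Scheme.Hom.residueFieldMap_congr (Sigma.ι_desc _ i) z]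
        exact (IsInt.of_isIso _).comp (chart_residue i.1 z)
      rw [h1] at h2
      have h3 : f.residueFieldMap ((Sigma.ι Z i).base z) =
          (f.residueFieldMap ((Sigma.ι Z i).base z) ≫ (Sigma.ι Z i).residueFieldMap z) ≫
            inv ((Sigma.ι Z i).residueFieldMap z) := by
        rw [Category.assoc, IsIso.hom_inv_id, Category.comp_id]
      change IsInt (f.residueFieldMap ((Sigma.ι Z i).base z))
      rw [h3]
      exact h2.comp (IsInt.of_isIso _)

end Groth.Agent.Helper27.Acx
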