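import Mathlib
import Groth.Agent.Lib.Helper21.Acyc

set_option autoImplicit false
universe u v w
open CategoryTheory CategoryTheory.Limits RingTheory.Sequence LocCoh IsLocalRing

namespace Groth.Agent.Helper27.AcycCM

open Groth.Agent.Lead.Depth Groth.Agent.Helper21.AC

variable {R : Type u} [CommRing R] [IsLocalRing R] [IsNoetherianRing R]
  (M : CochainComplex (ModuleCat.{u} R) ℕ)

/-- The acyclicity lemma: depth of the opcycles (depth version). -/
theorem depth_opcycles (g : ℕ) (hg : LocCoh.depth R R = g)
    (hfree : ∀ i, Module.Free R (M.X i) ∧ Module.Finite R (M.X i))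
    (hfl : ∀ i, IsFiniteLength R (M.homology i)) :
    ∀ i, i ≤ g → ((g - i : ℕ) : ℕ∞) ≤ LocCoh.depth R (M.opcycles i) := by
  have hfin : ∀ i, Module.Finite R (M.opcycles i) := by
    intro i
    have := (hfree i).2
    exact Module.Finite.of_surjective (M.pOpcycles i).hom (pOpcycles_surjective M i)
  have hX : ∀ j, (g : ℕ∞) ≤ LocCoh.depth R (M.X j) := by
    intro j
    have := (hfree j).1
    have := (hfree j).2
    rcases subsingleton_or_nontrivial (M.X j) with hs | hnt
    · rw [depth_eq_top_of_subsingleton]
      exact le_top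
    · rw [depth_free, hg]
  have hzero : ∀ i, (1 : ℕ∞) ≤ LocCoh.depth R (M.opcycles i) → IsZero (M.homology i) := by
    intro i h1
    have := hfin i
    have : Subsingleton (M.homology i) :=
      subsingleton_of_isFiniteLength_of_depth_pos _ (hfl i) (M.opcycles i) (M.homologyι i).hom
        (homologyι_injective M i) h1
    exact ModuleCat.isZero_of_subsingleton _
  intro i
  induction i with
  | zero =>
    intro _
    have hiso : IsIso (M.pOpcycles 0) :=
      M.isIso_pOpcycles 0 0 (by simp) (M.shape _ _ (by simp))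
    have e : M.X 0 ≃ₗ[R] M.opcycles 0 := (asIso (M.pOpcycles 0)).toLinearEquiv
    rw [← depth_congr e, Nat.sub_zero]
    exact hX 0
  | succ i ih =>
    intro hi1
    have ih' := ih (by omega)
    have h1 : (1 : ℕ∞) ≤ LocCoh.depth R (M.opcycles i) := by
      refine le_trans ?_ ih'
      exact_mod_cast (by omega : 1 ≤ g - i)
    have hz := hzero i h1
    have := hfin i
    have := hfin (i + 1)
    have := (hfree (i + 1)).2
    have hdl := (idealDepth_shortExact (maximalIdeal R) (M.opcycles i) (M.X (i + 1))
      (M.opcycles (i + 1)) (M.fromOpcycles i (i + 1)).hom (M.pOpcycles (i + 1)).hom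
      (fromOpcycles_injective_of_isZero M i hz) (pOpcycles_surjective M (i + 1))
      (exact_fromOpcycles_pOpcycles M i)).2.1
    refine le_trans (le_min ?_ ?_) hdl
    · refine le_trans ?_ (hX (i + 1))
      exact_mod_cast (by omega : g - (i + 1) ≤ g)
    · have hc : ((g - (i + 1) : ℕ) : ℕ∞) = ((g - i : ℕ) : ℕ∞) - 1 := by
        rw [show g - (i + 1) = (g - i) - 1 by omega, ENat.natCast_sub, Nat.cast_one]
      rw [hc]
      exact tsub_le_tsub_right ih' 1

theorem acyclicity (g : ℕ) (hg : LocCoh.depth R R = g)
    (hfree : ∀ i, Module.Free R (M.X i) ∧ Module.Finite R (M.X i))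
    (hfl : ∀ i, IsFiniteLength R (M.homology i)) (i : ℕ) (hi : i < g) :
    IsZero (M.homology i) := by
  have hfin : Module.Finite R (M.opcycles i) := by
    have := (hfree i).2
    exact Module.Finite.of_surjective (M.pOpcycles i).hom (pOpcycles_surjective M i)
  have h1 : (1 : ℕ∞) ≤ LocCoh.depth R (M.opcycles i) := by
    refine le_trans ?_ (depth_opcycles M g hg hfree hfl i hi.le)
    exact_mod_cast (by omega : 1 ≤ g - i)
  have : Subsingleton (M.homology i) :=
    subsingleton_of_isFiniteLength_of_depth_pos _ (hfl i) (M.opcycles i) (M.homologyι i).hom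
      (homologyι_injective M i) h1
  exact ModuleCat.isZero_of_subsingleton _

theorem main18367 (R : Type u) [CommRing R]
    [LocCoh.IsCohenMacaulayLocalRing R] (g : ℕ) (hg : ringKrullDim R = g)
    (K : CochainComplex (ModuleCat.{u} R) ℕ)
    (hfree : ∀ i, Module.Free R (K.X i) ∧ Module.Finite R (K.X i))
    (hfl : ∀ i, IsFiniteLength R (K.homology i)) (i : ℕ) (hi : i < g) :
    IsZero (K.homology i) := by
  have h := IsCohenMacaulayLocalRing.supportDim_eq_depth (R := R)
  rw [Module.supportDim_self_eq_ringKrullDim, hg] at h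
  have hd : LocCoh.depth R R = g := by
    have h' : ((g : ℕ∞) : WithBot ℕ∞) = ((LocCoh.depth R R : ℕ∞) : WithBot ℕ∞) := by
      rw [← h]; rfl
    exact (WithBot.coe_injective h').symm
  exact acyclicity K g hd hfree hfl i hi

end Groth.Agent.Helper27.AcycCM
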