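import Mathlib

/-! Adjoint divisor (S12613): polynomial conversions. -/

set_option autoImplicit false

namespace Groth.Agent.Helper27.Ad

open scoped Polynomial

variable {k : Type*} [Field k]

/-- dehomogenisation into `k[X][Y]`: `X₀ ↦ 1`, `X₁ ↦ X`, `X₂ ↦ Y` -/
noncomputable def rho : MvPolynomial (Fin 3) k →ₐ[k] k[X][X] :=
  MvPolynomial.aeval ![1, Polynomial.C Polynomial.X, Polynomial.X]

/-- `X₀ ↦ X`, `X₁ ↦ Y` -/
noncomputable def psi : MvPolynomial (Fin 2) k →ₐ[k] k[X][X] :=
  MvPolynomial.aeval ![Polynomial.C Polynomial.X, Polynomial.X]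

/-- dehomogenisation `X₀ ↦ 1`, `X₁ ↦ X₀`, `X₂ ↦ X₁` -/
noncomputable def dehom : MvPolynomial (Fin 3) k →ₐ[k] MvPolynomial (Fin 2) k :=
  MvPolynomial.aeval ![1, MvPolynomial.X 0, MvPolynomial.X 1]

theorem rho_eq (H : MvPolynomial (Fin 3) k) : rho H = psi (dehom H) := by
  have h : (rho (k := k)) = (psi (k := k)).comp dehom := by
    apply MvPolynomial.algHom_ext
    intro i
    fin_cases i <;> simp [rho, psi, dehom]
  rw [h]; rfl

section evals

variable {K : Type*} [CommRing K] [Algebra k K]

theorem eval₂_psi (x y : K) (p : MvPolynomial (Fin 2) k) :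
    (psi p).eval₂ (Polynomial.aeval x : k[X] →ₐ[k] K).toRingHom y =
      MvPolynomial.aeval ![x, y] p := by
  have h : ((Polynomial.eval₂RingHom (Polynomial.aeval x : k[X] →ₐ[k] K).toRingHom y).comp
      (psi (k := k)).toRingHom) =
      (MvPolynomial.aeval ![x, y] : MvPolynomial (Fin 2) k →ₐ[k] K).toRingHom := by
    apply MvPolynomial.ringHom_ext
    · intro c
      simp [psi, Polynomial.algebraMap_apply]
    · intro i
      fin_cases i <;> simp [psi]
  exact RingHom.congr_fun h p

theorem aeval_dehom (x y : K) (H : MvPolynomial (Fin 3) k) :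
    MvPolynomial.aeval ![x, y] (dehom H) = MvPolynomial.aeval ![1, x, y] H := by
  have h : (MvPolynomial.aeval ![x, y] : MvPolynomial (Fin 2) k →ₐ[k] K).comp dehom =
      MvPolynomial.aeval ![1, x, y] := by
    apply MvPolynomial.algHom_ext
    intro i
    fin_cases i <;> simp [dehom]
  rw [← h]; rfl

theorem eval₂_rho (x y : K) (H : MvPolynomial (Fin 3) k) :
    (rho H).eval₂ (Polynomial.aeval x : k[X] →ₐ[k] K).toRingHom y =
      MvPolynomial.aeval ![1, x, y] H := by
  rw [rho_eq, eval₂_psi, aeval_dehom]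

end evals

theorem derivative_rho (H : MvPolynomial (Fin 3) k) :
    Polynomial.derivative (rho H) = rho (MvPolynomial.pderiv 2 H) := by
  induction H using MvPolynomial.induction_on with
  | C a =>
    simp [rho, Polynomial.algebraMap_apply]
  | add p q hp hq => simp [hp, hq]
  | mul_X p i hp =>
    rw [map_mul, Polynomial.derivative_mul, hp, Derivation.leibniz, map_add, smul_eq_mul,
      smul_eq_mul, map_mul, map_mul]
    fin_cases i
    · have h1 : rho (MvPolynomial.X (R := k) (0 : Fin 3)) = 1 := by simp [rho]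
      have h2 : MvPolynomial.pderiv (2 : Fin 3) (MvPolynomial.X (R := k) (0 : Fin 3)) = 0 :=
        MvPolynomial.pderiv_X_of_ne (by decide)
      simp only [Fin.zero_eta, h1, h2, map_zero, mul_zero, zero_add, Polynomial.derivative_one,
        add_zero, mul_one]
      ring
    · have h1 : rho (MvPolynomial.X (R := k) (1 : Fin 3)) = Polynomial.C Polynomial.X := by
        simp [rho]
      have h2 : MvPolynomial.pderiv (2 : Fin 3) (MvPolynomial.X (R := k) (1 : Fin 3)) = 0 :=
        MvPolynomial.pderiv_X_of_ne (by decide)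
      simp only [Fin.mk_one, h1, h2, map_zero, mul_zero, zero_add, Polynomial.derivative_C,
        add_zero]
      ring
    · have h1 : rho (MvPolynomial.X (R := k) (2 : Fin 3)) = Polynomial.X := by
        simp [rho]
      have h2 : MvPolynomial.pderiv (2 : Fin 3) (MvPolynomial.X (R := k) (2 : Fin 3)) = 1 :=
        MvPolynomial.pderiv_X_self _
      simp only [Fin.reduceFinMk, h1, h2, map_one, mul_one, Polynomial.derivative_X]
      ring

theorem rho_monomial (m : Fin 3 →₀ ℕ) (c : k) :
    rho (MvPolynomial.monomial m c) =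
      Polynomial.C (Polynomial.C c * Polynomial.X ^ m 1) * Polynomial.X ^ m 2 := by
  unfold rho
  rw [MvPolynomial.aeval_monomial, Finsupp.prod_fintype _ _ (fun i => pow_zero _),
    Fin.prod_univ_three]
  simp [Polynomial.algebraMap_apply]
  ring

theorem eval_monomial' (m : Fin 3 →₀ ℕ) (c : k) :
    MvPolynomial.eval ![0, 0, 1] (MvPolynomial.monomial m c) =
      c * (0 ^ m 0 * 0 ^ m 1) := by
  rw [MvPolynomial.eval_monomial, Finsupp.prod_fintype _ _ (fun i => pow_zero _),
    Fin.prod_univ_three]
  simp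

theorem rho_sum_aux (e : ℕ) (s : Finset (Fin 3 →₀ ℕ)) (c : (Fin 3 →₀ ℕ) → k)
    (hdeg : ∀ m ∈ s, m 0 + m 1 + m 2 = e) :
    (rho (∑ m ∈ s, MvPolynomial.monomial m (c m))).natDegree ≤ e ∧
      (rho (∑ m ∈ s, MvPolynomial.monomial m (c m))).coeff e =
        Polynomial.C (MvPolynomial.eval ![0, 0, 1] (∑ m ∈ s, MvPolynomial.monomial m (c m))) := by
  constructor
  · rw [map_sum]
    refine Polynomial.natDegree_sum_le_of_forall_le _ _ fun m hm => ?_
    rw [rho_monomial]
    refine (Polynomial.natDegree_C_mul_X_pow_le _ _).trans ?_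
    have := hdeg m hm
    omega
  · rw [map_sum, map_sum, Polynomial.finsetSum_coeff, map_sum]
    refine Finset.sum_congr rfl fun m hm => ?_
    rw [rho_monomial, eval_monomial', Polynomial.coeff_C_mul_X_pow]
    have := hdeg m hm
    split_ifs with h
    · have h0 : m 0 = 0 := by omega
      have h1 : m 1 = 0 := by omega
      rw [h0, h1]
      simp
    · have h01 : m 0 ≠ 0 ∨ m 1 ≠ 0 := by omega
      rcases h01 with h0 | h1
      · rw [zero_pow h0]; simp
      · rw [zero_pow h1]; simp

/-- for a homogeneous `H` of degree `e`, the `Y`-degree of `rho H` is at most `e` and the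
coefficient of `Y ^ e` is the constant `H(0, 0, 1)` -/
theorem rho_homogeneous (H : MvPolynomial (Fin 3) k) (e : ℕ) (hH : H.IsHomogeneous e) :
    (rho H).natDegree ≤ e ∧
      (rho H).coeff e = Polynomial.C (MvPolynomial.eval ![0, 0, 1] H) := by
  have hdeg : ∀ m ∈ H.support, m 0 + m 1 + m 2 = e := by
    intro m hm
    have := hH (MvPolynomial.mem_support_iff.1 hm)
    rw [← this, Finsupp.weight_apply, Finsupp.sum_fintype _ _ (fun i => by simp),
      Fin.sum_univ_three]
    simp
  have h := rho_sum_aux e H.support (fun m => MvPolynomial.coeff m H) hdeg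
  rwa [MvPolynomial.support_sum_monomial_coeff H] at h

end Groth.Agent.Helper27.Ad
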