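import Groth.Agent.Lib.Helper27.AdA

/-! Adjoint divisor (S12613): homogenisation and linear substitutions. -/

set_option autoImplicit false

namespace Groth.Agent.Helper27.Ad

open scoped Polynomial

variable {k : Type*} [Field k]

/-- homogenisation of a polynomial in two variables -/
noncomputable def hom (f : MvPolynomial (Fin 2) k) : MvPolynomial (Fin 3) k :=
  ∑ j ∈ Finset.range (f.totalDegree + 1),
    MvPolynomial.X 0 ^ (f.totalDegree - j) *
      MvPolynomial.rename Fin.succ (MvPolynomial.homogeneousComponent j f)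

theorem hom_isHomogeneous (f : MvPolynomial (Fin 2) k) : (hom f).IsHomogeneous f.totalDegree := by
  unfold hom
  refine MvPolynomial.IsHomogeneous.sum _ _ _ fun j hj => ?_
  have hj' : j ≤ f.totalDegree := by
    have := Finset.mem_range.1 hj; omega
  have h := (MvPolynomial.isHomogeneous_X_pow (R := k) (0 : Fin 3) (f.totalDegree - j)).mul
    ((MvPolynomial.homogeneousComponent_isHomogeneous j f).rename_isHomogeneous (f := Fin.succ))
  have e : f.totalDegree - j + j = f.totalDegree := by omega
  rwa [e] at h

section evals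

variable {K : Type*} [CommRing K] [Algebra k K]

theorem comp_succ (x y : K) : (![1, x, y] : Fin 3 → K) ∘ Fin.succ = ![x, y] := by
  funext i
  fin_cases i <;> rfl

theorem aeval_hom (x y : K) (f : MvPolynomial (Fin 2) k) :
    MvPolynomial.aeval ![1, x, y] (hom f) = MvPolynomial.aeval ![x, y] f := by
  unfold hom
  rw [map_sum]
  conv_rhs => rw [← MvPolynomial.sum_homogeneousComponent f, map_sum]
  refine Finset.sum_congr rfl fun j _ => ?_
  rw [map_mul, map_pow, MvPolynomial.aeval_X, MvPolynomial.aeval_rename, comp_succ]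
  simp

theorem pderiv_hom (f : MvPolynomial (Fin 2) k) :
    MvPolynomial.pderiv 2 (hom f) = ∑ j ∈ Finset.range (f.totalDegree + 1),
      MvPolynomial.X 0 ^ (f.totalDegree - j) *
        MvPolynomial.rename Fin.succ
          (MvPolynomial.pderiv 1 (MvPolynomial.homogeneousComponent j f)) := by
  unfold hom
  rw [map_sum]
  refine Finset.sum_congr rfl fun j _ => ?_
  have h2 : MvPolynomial.pderiv (2 : Fin 3) (MvPolynomial.X (R := k) (0 : Fin 3)) = 0 :=
    MvPolynomial.pderiv_X_of_ne (by decide)
  have h3 := MvPolynomial.pderiv_rename (R := k) (Fin.succ_injective 2) (1 : Fin 2)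
    (MvPolynomial.homogeneousComponent j f)
  have h4 : Fin.succ (1 : Fin 2) = (2 : Fin 3) := rfl
  rw [h4] at h3
  rw [Derivation.leibniz, Derivation.leibniz_pow, h2, h3]
  simp

theorem aeval_pderiv_hom (x y : K) (f : MvPolynomial (Fin 2) k) :
    MvPolynomial.aeval ![1, x, y] (MvPolynomial.pderiv 2 (hom f)) =
      MvPolynomial.aeval ![x, y] (MvPolynomial.pderiv 1 f) := by
  rw [pderiv_hom, map_sum]
  conv_rhs => rw [← MvPolynomial.sum_homogeneousComponent f, map_sum, map_sum]
  refine Finset.sum_congr rfl fun j _ => ?_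
  rw [map_mul, map_pow, MvPolynomial.aeval_X, MvPolynomial.aeval_rename, comp_succ]
  simp

end evals

theorem dehom_hom (f : MvPolynomial (Fin 2) k) : dehom (hom f) = f := by
  have h := aeval_hom (K := MvPolynomial (Fin 2) k) (MvPolynomial.X 0) (MvPolynomial.X 1) f
  have h2 : (![MvPolynomial.X 0, MvPolynomial.X 1] : Fin 2 → MvPolynomial (Fin 2) k) =
      MvPolynomial.X := by
    funext i; fin_cases i <;> rfl
  show MvPolynomial.aeval ![1, MvPolynomial.X 0, MvPolynomial.X 1] (hom f) = f
  rw [h, h2, MvPolynomial.aeval_X_left, AlgHom.id_apply]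

theorem eval_hom_zero (a b : k) (f : MvPolynomial (Fin 2) k) :
    MvPolynomial.eval ![0, a, b] (hom f) =
      MvPolynomial.eval ![a, b] (MvPolynomial.homogeneousComponent f.totalDegree f) := by
  unfold hom
  rw [map_sum, Finset.sum_eq_single f.totalDegree]
  · rw [map_mul, map_pow, MvPolynomial.eval_X, MvPolynomial.eval_rename, Nat.sub_self, pow_zero,
      one_mul]
    rfl
  · intro j hj hne
    have hj' : j < f.totalDegree := by
      have := Finset.mem_range.1 hj; omega
    rw [map_mul, map_pow, MvPolynomial.eval_X]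
    have : (![0, a, b] : Fin 3 → k) 0 = 0 := rfl
    rw [this, zero_pow (by omega), zero_mul]
  · intro h
    exact absurd (Finset.mem_range.2 (Nat.lt_succ_self _)) h

/-- the top homogeneous component of a nonzero polynomial is nonzero -/
theorem top_component_ne_zero (f : MvPolynomial (Fin 2) k) (hf : f ≠ 0) :
    MvPolynomial.homogeneousComponent f.totalDegree f ≠ 0 := by
  classical
  have hne : f.support.Nonempty := by
    rw [Finset.nonempty_iff_ne_empty, Ne, MvPolynomial.support_eq_empty]
    exact hf
  obtain ⟨m, hm, hmax⟩ := Finset.exists_mem_eq_sup f.support hne (fun s => s.sum fun _ e => e)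
  intro h0
  have h1 := congrArg (MvPolynomial.coeff m) h0
  rw [MvPolynomial.coeff_homogeneousComponent, MvPolynomial.coeff_zero] at h1
  have hdeg : m.degree = f.totalDegree := by
    rw [MvPolynomial.totalDegree, hmax]
    rfl
  rw [if_pos hdeg] at h1
  exact (MvPolynomial.mem_support_iff.1 hm) h1

/-! ### linear substitutions -/

/-- the substitution `Xᵢ ↦ ∑ⱼ Aᵢⱼ Xⱼ` -/
noncomputable def sub {n : ℕ} (A : Matrix (Fin n) (Fin n) k) :
    MvPolynomial (Fin n) k →ₐ[k] MvPolynomial (Fin n) k :=
  MvPolynomial.aeval (fun i => ∑ j, MvPolynomial.C (A i j) * MvPolynomial.X j)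

theorem sub_comp {n : ℕ} (A B : Matrix (Fin n) (Fin n) k) :
    (sub A).comp (sub B) = sub (B * A) := by
  apply MvPolynomial.algHom_ext
  intro i
  simp only [sub, AlgHom.comp_apply, MvPolynomial.aeval_X, map_sum, map_mul,
    MvPolynomial.aeval_C, MvPolynomial.algebraMap_eq, Matrix.mul_apply, Finset.mul_sum,
    Finset.sum_mul]
  rw [Finset.sum_comm]
  refine Finset.sum_congr rfl fun j _ => Finset.sum_congr rfl fun l _ => ?_
  ring

theorem sub_one {n : ℕ} : sub (1 : Matrix (Fin n) (Fin n) k) = AlgHom.id k _ := by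
  apply MvPolynomial.algHom_ext
  intro i
  simp [sub, Matrix.one_apply]

theorem irreducible_sub {n : ℕ} (A : Matrix (Fin n) (Fin n) k) (hA : A.det ≠ 0)
    (f : MvPolynomial (Fin n) k) (hf : Irreducible f) : Irreducible (sub A f) := by
  have hu : IsUnit A.det := isUnit_iff_ne_zero.2 hA
  let e : MvPolynomial (Fin n) k ≃ₐ[k] MvPolynomial (Fin n) k :=
    AlgEquiv.ofAlgHom (sub A) (sub A⁻¹)
      (by rw [sub_comp, Matrix.nonsing_inv_mul A hu, sub_one])
      (by rw [sub_comp, Matrix.mul_nonsing_inv A hu, sub_one])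
  exact (MulEquiv.irreducible_iff e).2 hf

theorem sub_isHomogeneous {n : ℕ} (A : Matrix (Fin n) (Fin n) k) (H : MvPolynomial (Fin n) k)
    (e : ℕ) (hH : H.IsHomogeneous e) : (sub A H).IsHomogeneous e := by
  have h := hH.aeval (S := k) (n := 1)
    (fun i => ∑ j, MvPolynomial.C (A i j) * MvPolynomial.X j) (fun i => by
      refine MvPolynomial.IsHomogeneous.sum _ _ _ fun j _ => ?_
      exact (MvPolynomial.isHomogeneous_X k j).C_mul _)
  rw [one_mul] at h
  exact h

theorem eval_sub {n : ℕ} (A : Matrix (Fin n) (Fin n) k) (v : Fin n → k)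
    (H : MvPolynomial (Fin n) k) :
    MvPolynomial.eval v (sub A H) = MvPolynomial.eval (fun i => ∑ j, A i j * v j) H := by
  have h : (MvPolynomial.eval v).comp (sub A).toRingHom =
      MvPolynomial.eval (fun i => ∑ j, A i j * v j) := by
    apply MvPolynomial.ringHom_ext
    · intro c; simp [sub]
    · intro i; simp [sub]
  exact RingHom.congr_fun h H

theorem aeval_sub {n : ℕ} {K : Type*} [CommRing K] [Algebra k K]
    (A : Matrix (Fin n) (Fin n) k) (v : Fin n → K) (H : MvPolynomial (Fin n) k) :
    MvPolynomial.aeval v (sub A H) =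
      MvPolynomial.aeval (fun i => ∑ j, algebraMap k K (A i j) * v j) H := by
  unfold sub
  rw [MvPolynomial.comp_aeval_apply]
  have h : (fun i => MvPolynomial.aeval v (∑ j, MvPolynomial.C (A i j) * MvPolynomial.X j)) =
      fun i => ∑ j, algebraMap k K (A i j) * v j := by
    funext i
    simp
  rw [h]

/-- compatibility of dehomogenisation with an affine substitution -/
theorem dehom_sub (B : Matrix (Fin 2) (Fin 2) k) (H : MvPolynomial (Fin 3) k) :
    dehom (sub !![1, 0, 0; 0, B 0 0, B 0 1; 0, B 1 0, B 1 1] H) = sub B (dehom H) := by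
  have h : (dehom (k := k)).comp (sub !![1, 0, 0; 0, B 0 0, B 0 1; 0, B 1 0, B 1 1]) =
      (sub B).comp dehom := by
    apply MvPolynomial.algHom_ext
    intro i
    fin_cases i <;> simp [dehom, sub, Fin.sum_univ_three, Fin.sum_univ_two]
  exact AlgHom.congr_fun h H

/-! ### `psi` is an isomorphism -/

/-- the inverse of `psi` -/
noncomputable def theta : k[X][X] →+* MvPolynomial (Fin 2) k :=
  Polynomial.eval₂RingHom
    (Polynomial.aeval (MvPolynomial.X 0) : k[X] →ₐ[k] MvPolynomial (Fin 2) k).toRingHom
    (MvPolynomial.X 1)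

theorem theta_comp_psi :
    (theta (k := k)).comp (psi (k := k)).toRingHom = RingHom.id _ := by
  apply MvPolynomial.ringHom_ext
  · intro c; simp [theta, psi, Polynomial.algebraMap_apply]
  · intro i; fin_cases i <;> simp [theta, psi]

theorem psi_comp_theta :
    (psi (k := k)).toRingHom.comp (theta (k := k)) = RingHom.id _ := by
  apply Polynomial.ringHom_ext
  · intro p
    have h : ((psi (k := k)).toRingHom.comp (theta (k := k))).comp Polynomial.C =
        (RingHom.id _).comp Polynomial.C := by
      apply Polynomial.ringHom_ext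
      · intro c; simp [theta, psi, Polynomial.algebraMap_apply]
      · simp [theta, psi]
    exact RingHom.congr_fun h p
  · simp [theta, psi]

theorem irreducible_psi (p : MvPolynomial (Fin 2) k) (hp : Irreducible p) :
    Irreducible (psi p) := by
  let e : MvPolynomial (Fin 2) k ≃+* k[X][X] :=
    RingEquiv.ofRingHom (psi (k := k)).toRingHom theta psi_comp_theta theta_comp_psi
  exact (MulEquiv.irreducible_iff e).2 hp

end Groth.Agent.Helper27.Ad
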