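import Groth.Agent.Lib.Helper27.PlnG

/-! Plane models: the genus formula `2g = (d-1)(d-2)` iff nonsingular. -/

set_option autoImplicit false

namespace Groth.Agent.Helper27.Pln

open FunFld IntermediateField Polynomial Groth.Agent.Helper16.FF
open scoped WithZero

variable {k K : Type*} [Field k] [Field K] [Algebra k K]

theorem pow_le_L_nsmul {V : Submodule k K} {D : Divisor k K} (hVD : V ≤ L D) (m : ℕ) :
    V ^ m ≤ L (m • D) := by
  induction m with
  | zero =>
    rw [pow_zero, Submodule.one_eq_span, Submodule.span_le, zero_smul]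
    intro w hw
    rw [Set.mem_singleton_iff] at hw
    rw [hw]
    exact one_mem_L_zero
  | succ m ih =>
    rw [pow_succ', Submodule.mul_le]
    intro v hv w hw
    have := mul_mem_L_add (hVD hv) (ih hw)
    rwa [← succ_nsmul'] at this

/-- the common part: `T m ≤ L(mD)`, with dimensions -/
theorem plane_data [IsAlgClosed k] (hK : IsFunctionField k K) (x y : K)
    (hxy : IntermediateField.adjoin k ({x, y} : Set K) = ⊤) :
    ∃ (d : ℕ) (Tm : ℕ → Submodule k K), 0 < d ∧ (mapDiv k ![(1 : K), x, y]).deg = d ∧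
      (∀ m, Tm m ≤ L (m • mapDiv k ![(1 : K), x, y])) ∧
      (∀ m, (Submodule.span k (Set.range ![(1 : K), x, y])) ^ m = Tm m) ∧
      (∀ m, Module.finrank k (Tm m) = ∑ j : Fin d, (m + 1 - (j : ℕ))) := by
  classical
  obtain ⟨ℓ, y', hℓtr, hpd, hgen, hVeq, hVD⟩ := exists_generic_coords hK x y hxy
  set φ : Fin 3 → K := ![(1 : K), x, y] with hφ
  set D := mapDiv k φ with hD
  set V := Submodule.span k (Set.range φ) with hV
  set d := (minpoly (IntermediateField.adjoin k ({ℓ} : Set K)) y').natDegree with hd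
  have hdeq : d = Module.finrank (IntermediateField.adjoin k ({ℓ} : Set K)) K :=
    natDegree_minpoly_eq hK hℓtr hgen
  have hd0 : 0 < d := by rw [hdeq]; exact finrank_adjoin_pos hK hℓtr
  have hy'V : y' ∈ V := by rw [hVeq]; exact Submodule.subset_span (by simp)
  have hy'L : y' ∈ L (poleDiv ℓ : Divisor k K) := by rw [hpd]; exact hVD hy'V
  have hVT : ∀ m, V ^ m = T k ℓ y' d m := by
    intro m
    rw [hVeq]
    exact le_antisymm (V_pow_le_T hK hℓtr hy'L d rfl hd0 m) (T_le_V_pow d m)
  refine ⟨d, fun m => T k ℓ y' d m, hd0, ?_, ?_, hVT, ?_⟩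
  · rw [← hpd, deg_poleDiv hK hℓtr, hdeq]
  · intro m
    show T k ℓ y' d m ≤ L (m • D)
    rw [← hVT]
    exact pow_le_L_nsmul hVD m
  · intro m
    exact finrank_T hK hℓtr d rfl m

/-- arithmetic: from `ℓ(mD) = dim T m` for one large `m` to the genus formula, and back -/
theorem genus_arith {g d m : ℕ} {e s : ℕ} (hd0 : 0 < d) (hdm : d ≤ m + 1)
    (hs : 2 * s + d * (d - 1) = 2 * d * (m + 1))
    (he : (e : ℤ) = m * d + 1 - g) :
    e = s ↔ 2 * (g : ℤ) = ((d : ℤ) - 1) * ((d : ℤ) - 2) := by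
  obtain ⟨d', rfl⟩ : ∃ d', d = d' + 1 := ⟨d - 1, by omega⟩
  have h1 : d' + 1 - 1 = d' := by omega
  rw [h1] at hs
  have hs' : (2 * s + (d' + 1) * d' : ℤ) = 2 * (d' + 1) * (m + 1) := by exact_mod_cast hs
  push_cast at he ⊢
  constructor
  · intro h
    have : (e : ℤ) = s := by exact_mod_cast h
    nlinarith
  · intro h
    have : (e : ℤ) = s := by nlinarith
    exact_mod_cast this

theorem genus_eq_of_nonsingular [IsAlgClosed k] (hK : IsFunctionField k K) (x y : K)
    (hxy : IntermediateField.adjoin k ({x, y} : Set K) = ⊤)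
    (hns : ∀ P : Place k K, IsNonsingularAt ![(1 : K), x, y] P) :
    2 * (genus k K : ℤ) = ((mapDiv k ![(1 : K), x, y]).deg - 1) *
      ((mapDiv k ![(1 : K), x, y]).deg - 2) := by
  classical
  obtain ⟨d, Tm, hd0, hdeg, hTL, hVT, hfr⟩ := plane_data hK x y hxy
  obtain ⟨m₀, hm₀⟩ := L_le_V_pow_of_nonsingular hK x y hxy hns
  set D := mapDiv k ![(1 : K), x, y] with hD
  set m := max m₀ (2 * genus k K + d) with hm
  have hLT : L (m • D) = Tm m :=
    le_antisymm ((hm₀ m (le_max_left _ _)).trans (hVT m).le) (hTL m)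
  have hlarge : 2 * (genus k K : ℤ) - 1 ≤ (m • D).deg := by
    rw [Divisor.deg_nsmul, hdeg]
    have h1 : (1 : ℤ) ≤ d := by exact_mod_cast hd0
    have h2 : (2 * genus k K + d : ℤ) ≤ m := by exact_mod_cast le_max_right m₀ (2 * genus k K + d)
    nlinarith
  have hell := ell_eq_of_large hK hlarge
  rw [Divisor.deg_nsmul, hdeg] at hell
  have hes : ell (m • D) = ∑ j : Fin d, (m + 1 - (j : ℕ)) := by
    unfold ell
    rw [hLT]
    exact hfr m
  have hdm : d ≤ m + 1 := by
    have := le_max_right m₀ (2 * genus k K + d)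
    omega
  rw [hdeg]
  exact (genus_arith hd0 hdm (sum_trapezoid d m hdm) hell).1 hes

theorem div_pow_mem_affRing {ι : Type*} (φ : ι → K) (j : ι) (m : ℕ) {v : K}
    (hv : v ∈ (Submodule.span k (Set.range φ)) ^ m) : v / φ j ^ m ∈ affRing (k := k) φ j := by
  induction m generalizing v with
  | zero =>
    rw [pow_zero, Submodule.mem_one] at hv
    obtain ⟨c, rfl⟩ := hv
    rw [pow_zero, div_one]
    exact Subalgebra.algebraMap_mem _ c
  | succ m ih =>
    rw [pow_succ'] at hv
    refine Submodule.mul_induction_on hv ?_ ?_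
    · intro a ha b hb
      have e : a * b / φ j ^ (m + 1) = (a / φ j) * (b / φ j ^ m) := by
        rw [pow_succ]
        by_cases h0 : φ j = 0
        · simp [h0]
        · field_simp
      rw [e]
      exact Subalgebra.mul_mem _ (div_mem_adjoin_of_mem_span φ j ha) (ih hb)
    · intro a b ha hb
      rw [add_div]
      exact Subalgebra.add_mem _ ha hb

theorem nonsingular_of_genus_eq [IsAlgClosed k] (hK : IsFunctionField k K) (x y : K)
    (hxy : IntermediateField.adjoin k ({x, y} : Set K) = ⊤)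
    (hg : 2 * (genus k K : ℤ) = ((mapDiv k ![(1 : K), x, y]).deg - 1) *
      ((mapDiv k ![(1 : K), x, y]).deg - 2)) (P : Place k K) :
    IsNonsingularAt ![(1 : K), x, y] P := by
  classical
  obtain ⟨d, Tm, hd0, hdeg, hTL, hVT, hfr⟩ := plane_data hK x y hxy
  set φ : Fin 3 → K := ![(1 : K), x, y] with hφ
  set D := mapDiv k φ with hD
  set V := Submodule.span k (Set.range φ) with hV
  rw [hdeg] at hg
  have hD0 : (0 : Divisor k K) ≤ D := fun Q => (mapDiv_of_one hK φ (i₀ := 0) rfl Q).1
  -- `L(mD) = V^m` for large `m`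
  have hLV : ∀ m, 2 * genus k K + d ≤ m → L (m • D) ≤ V ^ m := by
    intro m hm
    have hlarge : 2 * (genus k K : ℤ) - 1 ≤ (m • D).deg := by
      rw [Divisor.deg_nsmul, hdeg]
      have h1 : (1 : ℤ) ≤ d := by exact_mod_cast hd0
      have h2 : (2 * genus k K + d : ℤ) ≤ m := by exact_mod_cast hm
      nlinarith
    have hell := ell_eq_of_large hK hlarge
    rw [Divisor.deg_nsmul, hdeg] at hell
    have hdm : d ≤ m + 1 := by omega
    have hes : ell (m • D) = ∑ j : Fin d, (m + 1 - (j : ℕ)) :=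
      (genus_arith hd0 hdm (sum_trapezoid d m hdm) hell).2 hg
    have hfd := finiteDimensional_L hK (m • D)
    have heq : Tm m = L (m • D) := by
      apply Submodule.eq_of_le_of_finrank_eq (hTL m)
      rw [hfr m, ← hes]
      rfl
    rw [hVT m, heq]
  intro z hz
  obtain ⟨j, hj0, hj⟩ := exists_max_index φ P ⟨0, one_ne_zero⟩
  have hjD : P.1 (φ j) = WithZero.exp (D P) := by
    obtain ⟨-, j', hj'⟩ := mapDiv_of_one hK φ (i₀ := 0) rfl P
    exact le_antisymm (val_le_exp_mapDiv' hK φ P j) (hj' ▸ hj j')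
  -- the divisor `E`
  set Z : Divisor k K := poleDiv z with hZ
  have hZ0 : (0 : Divisor k K) ≤ Z := poleDiv_nonneg z
  have hZP : Z P = 0 := poleDiv_eq_zero_of_le hK hz
  set m : ℕ := 2 * genus k K + d + (Z.deg).toNat + 1 with hm
  set E : Divisor k K := m • D - Z with hE
  have hZdeg : 0 ≤ Z.deg := by
    have := Divisor.deg_mono hZ0
    rwa [Divisor.deg_zero] at this
  have hEdeg : 2 * (genus k K : ℤ) + 1 ≤ E.deg := by
    rw [hE, Divisor.deg_sub, Divisor.deg_nsmul, hdeg, hm]
    have h1 : (1 : ℤ) ≤ d := by exact_mod_cast hd0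
    have h2 : Z.deg = ((Z.deg).toNat : ℤ) := (Int.toNat_of_nonneg hZdeg).symm
    push_cast
    nlinarith
  have hlt : ell (E - Finsupp.single P 1) < ell E := by
    have h1 := ell_eq_of_large hK (D := E) (by omega)
    have h2 := ell_eq_of_large hK (D := E - Finsupp.single P 1) (by
      rw [Divisor.deg_sub, Divisor.deg_single, Place.deg_eq_one hK P]; push_cast; omega)
    rw [Divisor.deg_sub, Divisor.deg_single, Place.deg_eq_one hK P] at h2
    push_cast at h2
    omega
  obtain ⟨b, hbE, hbE'⟩ := exists_mem_L_not_mem_sub_single hK hlt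
  have hbP : P.1 b = WithZero.exp (E P) := val_eq_exp_of_not_mem_sub_single hbE hbE'
  have hEP : E P = m • D P := by
    rw [hE, Finsupp.sub_apply, Finsupp.smul_apply, hZP, sub_zero]
  have hbL : b ∈ L (m • D) := by
    refine L_mono ?_ hbE
    intro Q
    rw [hE, Finsupp.sub_apply]
    have := hZ0 Q
    simp only [Finsupp.coe_zero, Pi.zero_apply] at this
    omega
  have hzbL : z * b ∈ L (m • D) := by
    intro Q
    have h1 := mem_L_poleDiv hK z Q
    have h2 := hbE Q
    rw [map_mul]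
    calc Q.1 z * Q.1 b ≤ WithZero.exp (Z Q) * WithZero.exp (E Q) := mul_le_mul' h1 h2
      _ = WithZero.exp ((m • D) Q) := by
        rw [← WithZero.exp_add, hE, Finsupp.sub_apply]
        congr 1; ring
  have hmle : 2 * genus k K + d ≤ m := by omega
  have hbV := hLV m hmle hbL
  have hzbV := hLV m hmle hzbL
  refine ⟨j, hj0, hj, z * b / φ j ^ m, div_pow_mem_affRing φ j m hzbV, b / φ j ^ m,
    div_pow_mem_affRing φ j m hbV, ?_, ?_⟩
  · rw [map_div₀, map_pow, hbP, hjD, hEP, ← WithZero.exp_nsmul]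
    exact div_self WithZero.exp_ne_zero
  · rw [mul_div_assoc]

theorem main11060 [IsAlgClosed k] (hK : IsFunctionField k K)
    (h : ∃ x y : K, IntermediateField.adjoin k ({x, y} : Set K) = ⊤ ∧
      ∀ P : Place k K, IsNonsingularAt ![(1 : K), x, y] P) :
    ∃ m : ℕ, 2 * genus k K = m * (m + 1) := by
  obtain ⟨x, y, hxy, hns⟩ := h
  have h1 := genus_eq_of_nonsingular hK x y hxy hns
  obtain ⟨d, _, hd0, hdeg, -⟩ := plane_data hK x y hxy
  rw [hdeg] at h1
  obtain ⟨d', rfl⟩ : ∃ d', d = d' + 1 := ⟨d - 1, by omega⟩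
  cases d' with
  | zero =>
    refine ⟨0, ?_⟩
    push_cast at h1
    have : (2 * genus k K : ℤ) = 0 := by linarith
    omega
  | succ e =>
    refine ⟨e, ?_⟩
    push_cast at h1
    have : (2 * genus k K : ℤ) = e * (e + 1) := by linarith
    exact_mod_cast this

end Groth.Agent.Helper27.Pln
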