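import Mathlib
import Groth.Agent.Lib.Helper16.FFW.RelDim2

set_option autoImplicit false

namespace Groth.Agent.Helper27.Ic

open Groth.Agent.Helper16.FFW
open scoped WithZero

section dim
variable {k V : Type*} [Field k] [AddCommGroup V] [Module k V]

/-- If `R ≤ T ⊔ span w` with `w` a finite family in `R`, then `dim R/T ≤ card`. -/
theorem relDim_le_card {T R : Submodule k V} {d : ℕ} (h : HasRelDim T R d)
    {ι : Type*} [Fintype ι] (w : ι → V) (hw : ∀ i, w i ∈ R)
    (hle : R ≤ T ⊔ Submodule.span k (Set.range w)) : d ≤ Fintype.card ι := by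
  classical
  obtain ⟨hfd, hd⟩ := h
  let q : ↥R →ₗ[k] (↥R ⧸ T.comap R.subtype) := Submodule.mkQ _
  let L : (ι → k) →ₗ[k] (↥R ⧸ T.comap R.subtype) :=
    q.comp (Fintype.linearCombination k (fun i => (⟨w i, hw i⟩ : ↥R)))
  have hsurj : Function.Surjective L := by
    intro x
    obtain ⟨r, rfl⟩ := Submodule.mkQ_surjective _ x
    obtain ⟨τ, hτ, ω, hω, hsum⟩ := Submodule.mem_sup.1 (hle r.2)
    obtain ⟨c, hc⟩ := (Submodule.mem_span_range_iff_exists_fun k).1 hω
    refine ⟨c, ?_⟩
    show q _ = q r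
    rw [← sub_eq_zero, ← map_sub]
    show Submodule.Quotient.mk _ = 0
    rw [Submodule.Quotient.mk_eq_zero, Submodule.mem_comap]
    have : ((Fintype.linearCombination k (fun i => (⟨w i, hw i⟩ : ↥R)) c - r : ↥R) : V) = -τ := by
      rw [Fintype.linearCombination_apply]
      simp only [Submodule.subtype_apply, Submodule.coe_sub, Submodule.coe_sum, Submodule.coe_smul]
      rw [hc, ← hsum]; abel
    rw [Submodule.subtype_apply, this]
    exact T.neg_mem hτ
  have := LinearMap.finrank_le_finrank_of_surjective hsurj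
  rw [hd] at this
  simpa using this

end dim

section lattice
variable {k K V : Type*} [Field k] [Field K] [Algebra k K] [AddCommGroup V] [Module K V]
  [Module k V] [IsScalarTower k K V]
variable (v : Valuation K ℤᵐ⁰) (T R : Submodule k V)

/-- independence modulo `T` over the valuation ring -/
def Ind {j : ℕ} (y : Fin j → V) : Prop :=
  ∀ a : Fin j → K, (∀ i, v (a i) ≤ 1) → (∑ i, a i • y i) ∈ T → ∀ i, v (a i) < 1

variable {v T R}

theorem linearIndependent_of_ind {j : ℕ} {y : Fin j → V} (h : Ind v T y) :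
    LinearIndependent K y := by
  classical
  rw [Fintype.linearIndependent_iff]
  intro g hg
  by_contra hne
  push Not at hne
  obtain ⟨i, hi⟩ := hne
  obtain ⟨i₀, -, hmax⟩ := Finset.exists_max_image Finset.univ (fun i => v (g i))
    ⟨i, Finset.mem_univ i⟩
  have hpos : 0 < v (g i₀) := lt_of_lt_of_le (by rw [Valuation.pos_iff]; exact hi)
    (hmax i (Finset.mem_univ i))
  have hg0 : g i₀ ≠ 0 := (Valuation.pos_iff v).1 hpos
  have h1 := h (fun i => (g i₀)⁻¹ * g i) (fun i => by
    rw [map_mul, map_inv₀]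
    exact (inv_mul_le_one₀ hpos).2 (hmax i (Finset.mem_univ i))) (by
    have : (∑ i, ((g i₀)⁻¹ * g i) • y i) = (g i₀)⁻¹ • ∑ i, g i • y i := by
      rw [Finset.smul_sum]; exact Finset.sum_congr rfl fun i _ => mul_smul _ _ _
    rw [this, hg, smul_zero]; exact T.zero_mem) i₀
  rw [inv_mul_cancel₀ hg0, map_one] at h1
  exact lt_irrefl _ h1

variable (hR : ∀ a : K, v a ≤ 1 → ∀ r ∈ R, a • r ∈ R)
  (hT : ∀ a : K, v a ≤ 1 → ∀ r ∈ T, a • r ∈ T)
  (hRT : ∀ a : K, v a < 1 → ∀ r ∈ R, a • r ∈ T)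
  (hTR : T ≤ R) {n f : ℕ} (hf : 0 < f) (hdim : HasRelDim T R (n * f))
  (u : Fin f → K) (hu : ∀ l, v (u l) ≤ 1)
  (hspan : ∀ a : K, v a ≤ 1 → ∃ c : Fin f → k, v (a - ∑ l, c l • u l) < 1)

include hR hT hRT hTR hf hdim hu hspan in
theorem exists_step {j : ℕ} (hj : j < n) (y : Fin j → V) (hy : ∀ i, y i ∈ R) (hind : Ind v T y) :
    ∃ y₀ ∈ R, Ind v T (Fin.cons y₀ y : Fin (j + 1) → V) := by
  classical
  let w : Fin f × Fin j → V := fun p => u p.1 • y p.2
  have hw : ∀ p, w p ∈ R := fun p => hR _ (hu p.1) _ (hy p.2)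
  have hnot : ¬ R ≤ T ⊔ Submodule.span k (Set.range w) := by
    intro hle
    have := relDim_le_card hdim w hw hle
    rw [Fintype.card_prod, Fintype.card_fin, Fintype.card_fin] at this
    have h2 : j * f < n * f := Nat.mul_lt_mul_of_pos_right hj hf
    rw [mul_comm f j] at this
    omega
  obtain ⟨y₀, hy₀R, hy₀⟩ := Set.not_subset.1 hnot
  refine ⟨y₀, hy₀R, ?_⟩
  -- key: `d • y i ∈ T ⊔ span` for integral `d`
  have hkey : ∀ (d : K) (i : Fin j), v d ≤ 1 → d • y i ∈ T ⊔ Submodule.span k (Set.range w) := by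
    intro d i hd
    obtain ⟨c, hc⟩ := hspan d hd
    have e : d • y i = (d - ∑ l, c l • u l) • y i + ∑ l, c l • w (l, i) := by
      rw [sub_smul, Finset.sum_smul]
      have : ∀ l, (c l • u l) • y i = c l • w (l, i) := fun l => smul_assoc _ _ _
      simp only [this]; abel
    rw [e]
    refine Submodule.add_mem_sup (hRT _ hc _ (hy i)) ?_
    exact Submodule.sum_mem _ fun l _ => Submodule.smul_mem _ _ (Submodule.subset_span ⟨(l, i), rfl⟩)
  intro a ha hsum
  rw [Fin.sum_univ_succ] at hsum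
  simp only [Fin.cons_zero, Fin.cons_succ] at hsum
  by_cases h0 : v (a 0) < 1
  · have h1 : (∑ i : Fin j, a i.succ • y i) ∈ T := by
      have := T.sub_mem hsum (hRT _ h0 _ hy₀R)
      simpa using this
    have h2 := hind (fun i => a i.succ) (fun i => ha _) h1
    intro i
    refine Fin.cases h0 (fun i => h2 i) i
  · exfalso
    have h1 : v (a 0) = 1 := le_antisymm (ha 0) (not_lt.1 h0)
    have ha0 : a 0 ≠ 0 := by
      intro h; rw [h, map_zero] at h1; exact zero_ne_one h1
    have hb : v (a 0)⁻¹ ≤ 1 := by rw [map_inv₀, h1, inv_one]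
    apply hy₀
    set τ := a 0 • y₀ + ∑ i : Fin j, a i.succ • y i with hτ
    have e : y₀ = (a 0)⁻¹ • τ - ∑ i : Fin j, ((a 0)⁻¹ * a i.succ) • y i := by
      rw [hτ, smul_add, smul_smul, inv_mul_cancel₀ ha0, one_smul, Finset.smul_sum]
      simp only [smul_smul]; abel
    rw [e]
    refine Submodule.sub_mem _ (Submodule.mem_sup_left (hT _ hb _ hsum)) ?_
    refine Submodule.sum_mem _ fun i _ => hkey _ i ?_
    rw [map_mul]
    exact mul_le_one' hb (ha _)

include hR hT hRT hTR hf hdim hu hspan in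
theorem exists_ind : ∀ j : ℕ, j ≤ n → ∃ y : Fin j → V, (∀ i, y i ∈ R) ∧ Ind v T y := by
  intro j
  induction j with
  | zero =>
    intro _
    exact ⟨fun i => i.elim0, fun i => i.elim0, fun a _ _ i => i.elim0⟩
  | succ j ih =>
    intro hj
    obtain ⟨y, hy, hind⟩ := ih (by omega)
    obtain ⟨y₀, hy₀, h⟩ := exists_step hR hT hRT hTR hf hdim u hu hspan (by omega) y hy hind
    exact ⟨Fin.cons y₀ y, fun i => Fin.cases hy₀ (fun i => hy i) i, h⟩

end lattice

section final
variable {k K V : Type*} [Field k] [Field K] [Algebra k K] [AddCommGroup V] [Module K V]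
  [Module k V] [IsScalarTower k K V] [FiniteDimensional K V]
variable {v : Valuation K ℤᵐ⁰} {T R : Submodule k V}

theorem coords_of_ind (hRT : ∀ a : K, v a < 1 → ∀ r ∈ R, a • r ∈ T)
    (y : Fin (Module.finrank K V) → V) (hind : Ind v T y) (z : V) (hz : z ∈ R) :
    ∃ a : Fin (Module.finrank K V) → K, (∀ i, v (a i) ≤ 1) ∧ z = ∑ i, a i • y i := by
  classical
  have hli := linearIndependent_of_ind hind
  have hsp : Submodule.span K (Set.range y) = ⊤ :=
    hli.span_eq_top_of_card_eq_finrank' (by simp)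
  obtain ⟨c, hc⟩ := (Submodule.mem_span_range_iff_exists_fun K).1
    (hsp ▸ Submodule.mem_top : z ∈ Submodule.span K (Set.range y))
  refine ⟨c, ?_, hc.symm⟩
  by_contra hne
  push Not at hne
  obtain ⟨i, hi⟩ := hne
  obtain ⟨i₀, -, hmax⟩ := Finset.exists_max_image Finset.univ (fun i => v (c i))
    ⟨i, Finset.mem_univ i⟩
  have hgt : 1 < v (c i₀) := lt_of_lt_of_le hi (hmax i (Finset.mem_univ i))
  have hpos : 0 < v (c i₀) := lt_trans zero_lt_one hgt
  have hg0 : c i₀ ≠ 0 := (Valuation.pos_iff v).1 hpos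
  have hs : v (c i₀)⁻¹ < 1 := by
    rw [map_inv₀]; exact inv_lt_one_of_one_lt₀ hgt
  have h1 := hind (fun i => (c i₀)⁻¹ * c i) (fun i => by
    rw [map_mul, map_inv₀]
    exact (inv_mul_le_one₀ hpos).2 (hmax i (Finset.mem_univ i))) (by
    have : (∑ i, ((c i₀)⁻¹ * c i) • y i) = (c i₀)⁻¹ • z := by
      rw [← hc, Finset.smul_sum]
      refine Finset.sum_congr rfl fun i _ => ?_
      rw [mul_smul]
    rw [this]; exact hRT _ hs _ hz) i₀
  rw [inv_mul_cancel₀ hg0, map_one] at h1
  exact lt_irrefl _ h1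

end final

end Groth.Agent.Helper27.Ic
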