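import Mathlib
import Groth.Agent.Lib.Helper27.IcA
import Groth.Agent.Lib.Helper16.FFW.Ext3

set_option autoImplicit false

namespace Groth.Agent.Helper27.Ic

open FunFld Groth.Agent.Helper16.FFW
open scoped WithZero

section res
variable {k K : Type*} [Field k] [Field K] [Algebra k K]

/-- lifts of a `k`-basis of the residue field -/
theorem exists_residue_lifts (hK : IsWeakFF k K) (P : Place k K) :
    ∃ u : Fin P.deg → K, (∀ l, P.1 (u l) ≤ 1) ∧
      ∀ a : K, P.1 a ≤ 1 → ∃ c : Fin P.deg → k, P.1 (a - ∑ l, c l • u l) < 1 := by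
  classical
  have := Place.finiteDimensional_residueField hK P
  let b : Module.Basis (Fin P.deg) k (IsLocalRing.ResidueField P.O) :=
    Module.finBasis k (IsLocalRing.ResidueField P.O)
  have hlift : ∀ l, ∃ z : P.O, IsLocalRing.residue P.O z = b l := fun l =>
    IsLocalRing.residue_surjective _
  choose u' hu' using hlift
  refine ⟨fun l => (u' l : K), fun l => (Place.mem_O_iff P _).1 (u' l).2, ?_⟩
  intro a ha
  let a' : P.O := ⟨a, (Place.mem_O_iff P a).2 ha⟩
  obtain ⟨c, hc⟩ : ∃ c : Fin P.deg → k, c = fun l => b.repr (IsLocalRing.residue P.O a') l := ⟨_, rfl⟩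
  refine ⟨c, ?_⟩
  have h0 : IsLocalRing.residue P.O (a' - ∑ l, c l • u' l) = 0 := by
    rw [map_sub, map_sum]
    simp only [Place.residue_smul, hu']
    rw [hc]
    exact sub_eq_zero.2 (b.sum_repr _).symm
  rw [Place.residue_eq_zero_iff] at h0
  have e : P.O.subtype (a' - ∑ l, c l • u' l) = a - ∑ l, c l • (u' l : K) := by
    rw [map_sub, map_sum]
    exact congrArg₂ _ rfl (Finset.sum_congr rfl fun l _ => Place.coe_smul_O P _ _)
  have h1 : P.1 (P.O.subtype (a' - ∑ l, c l • u' l)) < 1 := h0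
  rw [e] at h1; exact h1

end res

variable {k K K' : Type*} [Field k] [Field K] [Field K'] [Algebra k K] [Algebra K K'] [Algebra k K']
  [IsScalarTower k K K']

theorem val_smul_of_isOver {Q : Place k K'} {P : Place k K} (h : IsOver Q P) (a : K) (r : K') :
    Q.1 (a • r) = P.1 a ^ ramIdx Q P * Q.1 r := by
  rw [Algebra.smul_def, map_mul, isOverWith_ramIdx h a]

theorem exists_basis [FiniteDimensional K K'] (hK : IsFunctionField k K) (P : Place k K) :
    ∃ y : Fin (Module.finrank K K') → K', LinearIndependent K y ∧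
      (∀ i, ∀ Q : Place k K', IsOver Q P → Q.1 (y i) ≤ 1) ∧
      ∀ z : K', (∀ Q : Place k K', IsOver Q P → Q.1 z ≤ 1) →
        ∃ a : Fin (Module.finrank K K') → K, (∀ i, P.1 (a i) ≤ 1) ∧ z = ∑ i, a i • y i := by
  classical
  have hK' : IsWeakFF k K' := isWeakFF_of_finite hK.1
  obtain ⟨hfin, hsum⟩ := sum_ramIdx_mul_deg (K' := K') hK P
  obtain ⟨Qs, hQs⟩ : ∃ Qs : Finset (Place k K'), Qs = hfin.toFinset := ⟨_, rfl⟩
  have hmemQs : ∀ Q, Q ∈ Qs ↔ IsOver Q P := fun Q => by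
    rw [hQs, Set.Finite.mem_toFinset]; rfl
  let R : Submodule k K' := ⨅ Q : ↥Qs, Vloc Q.1 0
  let T : Submodule k K' := ⨅ Q : ↥Qs, Vloc Q.1 (-(ramIdx Q.1 P : ℤ))
  have hmemR : ∀ z, z ∈ R ↔ ∀ Q : Place k K', IsOver Q P → Q.1 z ≤ 1 := by
    intro z
    simp only [R, Submodule.mem_iInf, mem_Vloc, WithZero.exp_zero]
    constructor
    · intro h Q hQ; exact h ⟨Q, (hmemQs Q).2 hQ⟩
    · intro h Q; exact h Q.1 ((hmemQs _).1 Q.2)
  have hmemT : ∀ z, z ∈ T ↔ ∀ Q : Place k K', IsOver Q P →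
      Q.1 z ≤ WithZero.exp (-(ramIdx Q P : ℤ)) := by
    intro z
    simp only [T, Submodule.mem_iInf, mem_Vloc]
    constructor
    · intro h Q hQ; exact h ⟨Q, (hmemQs Q).2 hQ⟩
    · intro h Q; exact h Q.1 ((hmemQs _).1 Q.2)
  have hdim : HasRelDim T R (Module.finrank K K' * P.deg) := by
    have := hasRelDim_iInf_Vloc hK' (fun Q : ↥Qs => Q.1) Subtype.val_injective
      (fun Q => -(ramIdx Q.1 P : ℤ)) (fun _ => 0) (fun Q => by simp)
    convert this using 1
    rw [← hsum Qs hmemQs, ← Finset.sum_coe_sort Qs]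
    refine Finset.sum_congr rfl fun Q _ => ?_
    simp
  have hexp : ∀ e : ℕ, (WithZero.exp (-1 : ℤ)) ^ e = WithZero.exp (-(e : ℤ)) := by
    intro e
    rw [← WithZero.exp_nsmul]; simp
  have hR : ∀ a : K, P.1 a ≤ 1 → ∀ r ∈ R, a • r ∈ R := by
    intro a ha r hr
    rw [hmemR] at hr ⊢
    intro Q hQ
    rw [val_smul_of_isOver hQ]
    exact mul_le_one' (pow_le_one' ha _) (hr Q hQ)
  have hT : ∀ a : K, P.1 a ≤ 1 → ∀ r ∈ T, a • r ∈ T := by
    intro a ha r hr
    rw [hmemT] at hr ⊢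
    intro Q hQ
    rw [val_smul_of_isOver hQ]
    calc P.1 a ^ ramIdx Q P * Q.1 r ≤ 1 * WithZero.exp (-(ramIdx Q P : ℤ)) :=
          mul_le_mul' (pow_le_one' ha _) (hr Q hQ)
      _ = _ := one_mul _
  have hRT : ∀ a : K, P.1 a < 1 → ∀ r ∈ R, a • r ∈ T := by
    intro a ha r hr
    rw [hmemR] at hr
    rw [hmemT]
    intro Q hQ
    rw [val_smul_of_isOver hQ]
    have h1 : P.1 a ≤ WithZero.exp (-1 : ℤ) := lt_one_iff_le_exp_neg_one.1 ha
    calc P.1 a ^ ramIdx Q P * Q.1 r ≤ (WithZero.exp (-1 : ℤ)) ^ ramIdx Q P * 1 :=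
          mul_le_mul' (pow_le_pow_left' h1 _) (hr Q hQ)
      _ = _ := by rw [mul_one, hexp]
  have hTR : T ≤ R := by
    intro z hz
    rw [hmemT] at hz
    rw [hmemR]
    intro Q hQ
    refine (hz Q hQ).trans ?_
    rw [← WithZero.exp_zero, WithZero.exp_le_exp]
    simp
  obtain ⟨u, hu, hspan⟩ := exists_residue_lifts hK.1 P
  obtain ⟨y, hy, hind⟩ := exists_ind (v := P.1) hR hT hRT hTR (Place.deg_pos hK.1 P) hdim u hu hspan
    (Module.finrank K K') le_rfl
  refine ⟨y, linearIndependent_of_ind hind, fun i => (hmemR _).1 (hy i), fun z hz => ?_⟩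
  exact coords_of_ind hRT y hind z ((hmemR z).2 hz)

end Groth.Agent.Helper27.Ic
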