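import Mathlib
import Groth.Agent.Lib.Helper27.IcB

set_option autoImplicit false

namespace Groth.Agent.Helper27.Ic

open FunFld Groth.Agent.Helper16.FFW
open scoped WithZero

theorem val_le_one_of_isIntegral {O R Γ₀ : Type*} [CommRing O] [CommRing R] [Nontrivial R]
    [LinearOrderedCommGroupWithZero Γ₀] [Algebra O R] (v : Valuation R Γ₀)
    (h : ∀ a : O, v (algebraMap O R a) ≤ 1) {x : R} (hx : IsIntegral O x) : v x ≤ 1 := by
  obtain ⟨f, hm, hf⟩ := hx
  by_cases hn : f.natDegree = 0
  · rw [Polynomial.natDegree_eq_zero] at hn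
    obtain ⟨c, rfl⟩ := hn
    have hc : c = 1 := by
      have := hm.leadingCoeff
      simpa using this
    simp [hc] at hf
  simp only [Polynomial.eval₂_eq_sum_range, Finset.sum_range_succ, hm.coeff_natDegree, map_one,
    one_mul, add_eq_zero_iff_eq_neg] at hf
  apply_fun v at hf
  simp only [Valuation.map_neg, map_pow] at hf
  contrapose! hf
  refine ne_of_lt (v.map_sum_lt ?_ ?_)
  · simp [hn, (hf.trans' (zero_lt_one)).ne']
  · simp only [Finset.mem_range, map_mul, map_pow]
    intro _ hi
    exact mul_lt_of_le_one_of_lt (h _) <| pow_lt_pow_right₀ hf hi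

variable {k K K' : Type*} [Field k] [Field K] [Field K'] [Algebra k K] [Algebra K K'] [Algebra k K']
  [IsScalarTower k K K']

/-- the subalgebra of elements integral at all places above `P` -/
def RA (P : Place k K) [Algebra P.O K'] [IsScalarTower P.O K K'] : Subalgebra P.O K' where
  carrier := {z | ∀ Q : Place k K', IsOver Q P → Q.1 z ≤ 1}
  mul_mem' {a b} ha hb Q hQ := by
    rw [map_mul]; exact mul_le_one' (ha Q hQ) (hb Q hQ)
  add_mem' {a b} ha hb Q hQ := (Q.1.map_add a b).trans (max_le (ha Q hQ) (hb Q hQ))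
  algebraMap_mem' a Q hQ := by
    rw [IsScalarTower.algebraMap_apply P.O K K']
    obtain ⟨e, he⟩ := hQ
    rw [he]
    exact pow_le_one' ((Place.mem_O_iff P _).1 a.2) _

theorem mem_RA (P : Place k K) [Algebra P.O K'] [IsScalarTower P.O K K'] (z : K') :
    z ∈ RA (K' := K') P ↔ ∀ Q : Place k K', IsOver Q P → Q.1 z ≤ 1 := Iff.rfl

theorem RA_fg [FiniteDimensional K K'] (hK : IsFunctionField k K) (P : Place k K)
    [Algebra P.O K'] [IsScalarTower P.O K K'] :
    (Subalgebra.toSubmodule (RA (K' := K') P)).FG := by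
  classical
  obtain ⟨y, -, hy, hcoord⟩ := exists_basis (K' := K') hK P
  refine ⟨Finset.univ.image y, le_antisymm ?_ ?_⟩
  · rw [Submodule.span_le]
    intro z hz
    rw [Finset.coe_image, Finset.coe_univ, Set.image_univ] at hz
    obtain ⟨i, rfl⟩ := hz
    exact hy i
  · intro z hz
    obtain ⟨a, ha, rfl⟩ := hcoord z hz
    refine Submodule.sum_mem _ fun i _ => ?_
    have : a i • y i = (⟨a i, (Place.mem_O_iff P _).2 (ha i)⟩ : P.O) • y i := by
      rw [← IsScalarTower.algebraMap_smul K (⟨a i, (Place.mem_O_iff P _).2 (ha i)⟩ : P.O) (y i)]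
      rfl
    rw [this]
    refine Submodule.smul_mem _ _ (Submodule.subset_span ?_)
    rw [Finset.coe_image, Finset.coe_univ, Set.image_univ]
    exact ⟨i, rfl⟩

theorem integralClosure_eq_RA [FiniteDimensional K K'] (hK : IsFunctionField k K) (P : Place k K)
    [Algebra P.O K'] [IsScalarTower P.O K K'] :
    integralClosure P.O K' = RA (K' := K') P := by
  refine le_antisymm ?_ ?_
  · intro z hz Q hQ
    refine val_le_one_of_isIntegral Q.1 ?_ hz
    intro a
    exact (RA (K' := K') P).algebraMap_mem a Q hQ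
  · intro z hz
    exact IsIntegral.of_mem_of_fg _ (RA_fg hK P) z hz

end Groth.Agent.Helper27.Ic
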