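import Mathlib
import Groth.Agent.Lib.Helper27.IcC

set_option autoImplicit false

namespace Groth.Agent.Helper27.Nrm

open FunFld Groth.Agent.Helper16.FFW
open scoped WithZero

section gen
variable {k A V : Type*} [Field k] [CommRing A] [Algebra k A] [AddCommGroup V] [Module k V]

/-- transfer a relative dimension to an ideal quotient -/
theorem finrank_quot_of_hasRelDim (ι : A →ₗ[k] V) (I : Ideal A) (T R : Submodule k V)
    (hR : ∀ v, v ∈ R ↔ ∃ z, ι z = v) (hT : ∀ z : A, z ∈ I ↔ ι z ∈ T) {d : ℕ}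
    (h : HasRelDim T R d) : Module.Finite k (A ⧸ I) ∧ Module.finrank k (A ⧸ I) = d := by
  let ψ : A →ₗ[k] (↥R ⧸ T.comap R.subtype) :=
    (Submodule.mkQ _).comp (ι.codRestrict R (fun z => (hR _).2 ⟨z, rfl⟩))
  have hsurj : Function.Surjective ψ := by
    intro q
    obtain ⟨r, rfl⟩ := Submodule.mkQ_surjective _ q
    obtain ⟨z, hz⟩ := (hR _).1 r.2
    refine ⟨z, ?_⟩
    show Submodule.mkQ _ _ = _
    congr 1
    exact Subtype.ext hz
  have hker : LinearMap.ker ψ = I.restrictScalars k := by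
    ext z
    rw [LinearMap.mem_ker, Submodule.restrictScalars_mem, hT]
    show Submodule.Quotient.mk _ = 0 ↔ _
    rw [Submodule.Quotient.mk_eq_zero, Submodule.mem_comap]
    rfl
  let e : (A ⧸ I) ≃ₗ[k] (↥R ⧸ T.comap R.subtype) :=
    (Submodule.Quotient.restrictScalarsEquiv k I).symm.trans
      ((Submodule.quotEquivOfEq _ _ hker.symm).trans (ψ.quotKerEquivOfSurjective hsurj))
  obtain ⟨hfd, hd⟩ := h
  exact ⟨LinearEquiv.finiteDimensional e.symm, by rw [e.finrank_eq, hd]⟩

end gen

section place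
variable {k K : Type*} [Field k] [Field K] [Algebra k K]

theorem exp_neg_one_lt_one : (WithZero.exp (-1 : ℤ) : ℤᵐ⁰) < 1 :=
  lt_one_iff_le_exp_neg_one.2 le_rfl

theorem isDVR (P : Place k K) : IsDiscreteValuationRing P.O := by
  obtain ⟨t, ht⟩ := Place.exists_uniformizer P
  have hint := Valuation.valuationSubring.integers P.1
  have htO : t ∈ P.O := (Place.mem_O_iff P t).2 (by rw [ht]; exact exp_neg_one_lt_one.le)
  have ht0 : t ≠ 0 := by
    rintro rfl
    rw [map_zero] at ht
    exact WithZero.exp_ne_zero ht.symm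
  apply IsDiscreteValuationRing.ofHasUnitMulPowIrreducibleFactorization
  refine ⟨⟨t, htO⟩, ?_, ?_⟩
  · rw [irreducible_iff]
    constructor
    · rw [hint.isUnit_iff_valuation_eq_one]
      show P.1 t ≠ 1
      rw [ht]; exact exp_neg_one_lt_one.ne
    · intro a b hab
      by_contra hne
      push Not at hne
      obtain ⟨ha, hb⟩ := hne
      rw [hint.isUnit_iff_valuation_eq_one] at ha hb
      have ha1 : P.1 (a : K) ≤ WithZero.exp (-1 : ℤ) :=
        lt_one_iff_le_exp_neg_one.1 (lt_of_le_of_ne ((Place.mem_O_iff P _).1 a.2) ha)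
      have hb1 : P.1 (b : K) ≤ WithZero.exp (-1 : ℤ) :=
        lt_one_iff_le_exp_neg_one.1 (lt_of_le_of_ne ((Place.mem_O_iff P _).1 b.2) hb)
      have hab' : t = (a : K) * (b : K) := congrArg Subtype.val hab
      have h1 : P.1 t ≤ WithZero.exp (-1 : ℤ) * WithZero.exp (-1 : ℤ) := by
        rw [hab', map_mul]; exact mul_le_mul' ha1 hb1
      rw [ht, ← WithZero.exp_add, WithZero.exp_le_exp] at h1
      omega
  · intro y hy0
    have hy0' : (y : K) ≠ 0 := fun h => hy0 (Subtype.ext h)
    have hval := Place.val_eq_exp_neg_ord P hy0'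
    have hm : 0 ≤ P.ord (y : K) := (Place.val_le_one_iff P hy0').1 ((Place.mem_O_iff P _).1 y.2)
    refine ⟨(P.ord (y : K)).toNat, ?_⟩
    have hu1 : P.1 ((y : K) / t ^ (P.ord (y : K)).toNat) = 1 := by
      rw [map_div₀, map_pow, ht, hval, ← WithZero.exp_nsmul, nsmul_eq_mul,
        Int.toNat_of_nonneg hm, mul_neg, mul_one]
      exact div_self WithZero.exp_ne_zero
    have huO : (y : K) / t ^ (P.ord (y : K)).toNat ∈ P.O := (Place.mem_O_iff P _).2 hu1.le
    have hu : IsUnit (⟨_, huO⟩ : P.O) := by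
      rw [hint.isUnit_iff_valuation_eq_one]; exact hu1
    refine ⟨hu.unit, Subtype.ext ?_⟩
    show t ^ (P.ord (y : K)).toNat * ((y : K) / t ^ (P.ord (y : K)).toNat) = y
    field_simp

theorem ord_prod (P : Place k K) {ι : Type*} (s : Finset ι) (f : ι → K) (hf : ∀ i ∈ s, f i ≠ 0) :
    P.ord (∏ i ∈ s, f i) = ∑ i ∈ s, P.ord (f i) := by
  classical
  induction s using Finset.induction_on with
  | empty => simp [Place.ord_one]
  | insert a s ha ih =>
    rw [Finset.prod_insert ha, Finset.sum_insert ha,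
      Place.ord_mul P (hf a (Finset.mem_insert_self a s))
        (Finset.prod_ne_zero_iff.2 fun i hi => hf i (Finset.mem_insert_of_mem hi)),
      ih fun i hi => hf i (Finset.mem_insert_of_mem hi)]

/-- the inclusion of `O_P` as a `k`-linear map -/
def incl (P : Place k K) : P.O →ₗ[k] K where
  toFun z := (z : K)
  map_add' _ _ := rfl
  map_smul' c z := Place.coe_smul_O P c z

theorem finrank_quot_span (hK : IsWeakFF k K) (P : Place k K) (a : P.O) (ha : a ≠ 0) :
    Module.Finite k (P.O ⧸ Ideal.span ({a} : Set P.O)) ∧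
      Module.finrank k (P.O ⧸ Ideal.span ({a} : Set P.O)) = (P.ord (a : K)).toNat * P.deg := by
  have ha0 : (a : K) ≠ 0 := fun h => ha (Subtype.ext h)
  have hval := Place.val_eq_exp_neg_ord P ha0
  have hm : 0 ≤ P.ord (a : K) := (Place.val_le_one_iff P ha0).1 ((Place.mem_O_iff P _).1 a.2)
  have hdim := hasRelDim_Vloc hK P (m := -P.ord (a : K)) (m' := 0) (by omega)
  rw [show (0 - -P.ord (a : K)) = P.ord (a : K) by ring] at hdim
  refine finrank_quot_of_hasRelDim (incl P) _ (Vloc P (-P.ord (a : K))) (Vloc P 0) ?_ ?_ hdim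
  · intro v
    rw [mem_Vloc, WithZero.exp_zero]
    constructor
    · intro hv; exact ⟨⟨v, (Place.mem_O_iff P v).2 hv⟩, rfl⟩
    · rintro ⟨z, rfl⟩; exact (Place.mem_O_iff P _).1 z.2
  · intro z
    rw [Ideal.mem_span_singleton, mem_Vloc, ← hval]
    show _ ↔ P.1 (z : K) ≤ _
    constructor
    · rintro ⟨c, rfl⟩
      show P.1 ((a : K) * (c : K)) ≤ _
      rw [map_mul]
      exact mul_le_of_le_one_right' ((Place.mem_O_iff P _).1 c.2)
    · intro hz
      have hc : (z : K) / (a : K) ∈ P.O := by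
        rw [Place.mem_O_iff, map_div₀]
        exact (div_le_one₀ ((Valuation.pos_iff _).2 ha0)).2 hz
      refine ⟨⟨_, hc⟩, Subtype.ext ?_⟩
      show (z : K) = (a : K) * ((z : K) / (a : K))
      field_simp

end place

end Groth.Agent.Helper27.Nrm
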