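import Mathlib
import Groth.Agent.Lib.Helper27.NrmA

set_option autoImplicit false

namespace Groth.Agent.Helper27.Nrm

open FunFld Groth.Agent.Helper16.FFW
open scoped WithZero nonZeroDivisors

variable {k K K' : Type*} [Field k] [Field K] [Field K'] [Algebra k K] [Algebra K K'] [Algebra k K']
  [IsScalarTower k K K'] (P : Place k K) [Algebra P.O K'] [IsScalarTower P.O K K']

theorem mem_S_iff [FiniteDimensional K K'] (hK : IsFunctionField k K) (z : K') :
    z ∈ integralClosure P.O K' ↔ ∀ Q : Place k K', IsOver Q P → Q.1 z ≤ 1 := by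
  rw [Ic.integralClosure_eq_RA (K' := K') hK P]; rfl

/-- the `k`-algebra structure on the integral closure -/
noncomputable def algkS : Algebra k (integralClosure P.O K') :=
  ((algebraMap P.O (integralClosure P.O K')).comp (algebraMap k P.O)).toAlgebra

attribute [local instance] algkS

instance : IsScalarTower k P.O (integralClosure P.O K') :=
  IsScalarTower.of_algebraMap_eq (fun _ => rfl)

theorem coe_algebraMap_S (c : k) :
    ((algebraMap k (integralClosure P.O K') c : integralClosure P.O K') : K') = algebraMap k K' c := by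
  show algebraMap P.O K' (algebraMap k P.O c) = _
  rw [IsScalarTower.algebraMap_apply P.O K K', IsScalarTower.algebraMap_apply k K K']
  rfl

/-- inclusion of the integral closure as a `k`-linear map -/
noncomputable def inclS : integralClosure P.O K' →ₗ[k] K' where
  toFun z := (z : K')
  map_add' _ _ := rfl
  map_smul' c z := by
    show ((c • z : integralClosure P.O K') : K') = c • (z : K')
    rw [Algebra.smul_def, Algebra.smul_def]
    show ((algebraMap k (integralClosure P.O K') c : integralClosure P.O K') : K') * (z : K') = _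
    rw [coe_algebraMap_S]

theorem finrank_quot_span_S [FiniteDimensional K K'] (hK : IsFunctionField k K)
    (Qs : Finset (Place k K')) (hQs : ∀ Q, Q ∈ Qs ↔ IsOver Q P)
    (x : integralClosure P.O K') (hx : x ≠ 0) :
    Module.Finite k (integralClosure P.O K' ⧸ Ideal.span ({x} : Set (integralClosure P.O K'))) ∧
      Module.finrank k (integralClosure P.O K' ⧸ Ideal.span ({x} : Set (integralClosure P.O K'))) =
        ∑ Q ∈ Qs, (Q.ord (x : K')).toNat * Q.deg := by
  classical
  have hK' : IsWeakFF k K' := isWeakFF_of_finite hK.1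
  have hx0 : (x : K') ≠ 0 := fun h => hx (Subtype.ext h)
  have hxS := (mem_S_iff P hK _).1 x.2
  have hord : ∀ Q : Place k K', IsOver Q P → 0 ≤ Q.ord (x : K') := fun Q hQ =>
    (Place.val_le_one_iff Q hx0).1 (hxS Q hQ)
  have hdim := hasRelDim_iInf_Vloc hK' (fun Q : ↥Qs => Q.1) Subtype.val_injective
    (fun Q => -Q.1.ord (x : K')) (fun _ => 0) (fun Q => by
      have := hord Q.1 ((hQs _).1 Q.2); omega)
  have hsum : (∑ Q : ↥Qs, ((0 : ℤ) - -Q.1.ord (x : K')).toNat * Q.1.deg) =
      ∑ Q ∈ Qs, (Q.ord (x : K')).toNat * Q.deg := by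
    rw [← Finset.sum_coe_sort Qs]
    refine Finset.sum_congr rfl fun Q _ => ?_
    rw [show ((0 : ℤ) - -Q.1.ord (x : K')) = Q.1.ord (x : K') by ring]
  rw [hsum] at hdim
  refine finrank_quot_of_hasRelDim (inclS P) _ _ _ ?_ ?_ hdim
  · intro v
    simp only [Submodule.mem_iInf, mem_Vloc, WithZero.exp_zero]
    constructor
    · intro hv
      refine ⟨⟨v, (mem_S_iff P hK v).2 fun Q hQ => hv ⟨Q, (hQs Q).2 hQ⟩⟩, rfl⟩
    · rintro ⟨z, rfl⟩ Q
      exact (mem_S_iff P hK _).1 z.2 Q.1 ((hQs _).1 Q.2)
  · intro z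
    rw [Ideal.mem_span_singleton]
    simp only [Submodule.mem_iInf, mem_Vloc]
    constructor
    · rintro ⟨c, rfl⟩ Q
      show Q.1.1 ((x : K') * (c : K')) ≤ _
      rw [map_mul, ← Place.val_eq_exp_neg_ord Q.1 hx0]
      exact mul_le_of_le_one_right' ((mem_S_iff P hK _).1 c.2 Q.1 ((hQs _).1 Q.2))
    · intro hz
      have hc : (z : K') / (x : K') ∈ integralClosure P.O K' := by
        rw [mem_S_iff P hK]
        intro Q hQ
        have := hz ⟨Q, (hQs Q).2 hQ⟩
        rw [← Place.val_eq_exp_neg_ord Q hx0] at this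
        rw [map_div₀]
        exact (div_le_one₀ ((Valuation.pos_iff _).2 hx0)).2 this
      refine ⟨⟨_, hc⟩, Subtype.ext ?_⟩
      show (z : K') = (x : K') * ((z : K') / (x : K'))
      field_simp

end Groth.Agent.Helper27.Nrm
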