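import Mathlib
import Groth.Agent.Lib.Helper27.NrmB

set_option autoImplicit false

namespace Groth.Agent.Helper27.Nrm

open FunFld Groth.Agent.Helper16.FFW
open scoped WithZero nonZeroDivisors

variable {k K K' : Type*} [Field k] [Field K] [Field K'] [Algebra k K] [Algebra K K'] [Algebra k K']
  [IsScalarTower k K K'] (P : Place k K) [Algebra P.O K'] [IsScalarTower P.O K K']

attribute [local instance] algkS

theorem finite_S [FiniteDimensional K K'] (hK : IsFunctionField k K) :
    Module.Finite P.O (integralClosure P.O K') := by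
  rw [Ic.integralClosure_eq_RA (K' := K') hK P]
  exact Module.Finite.iff_fg.2 (Ic.RA_fg (K' := K') hK P)

theorem ord_unit (u : (P.O)ˣ) : P.ord ((u : P.O) : K) = 0 := by
  have hint := Valuation.valuationSubring.integers P.1
  have h1 : P.1 ((u : P.O) : K) = 1 := (hint.isUnit_iff_valuation_eq_one).1 u.isUnit
  unfold Place.ord
  rw [h1]; simp

theorem main_S [FiniteDimensional K K'] (hK : IsFunctionField k K)
    (Qs : Finset (Place k K')) (hQs : ∀ Q, Q ∈ Qs ↔ IsOver Q P)
    (x : integralClosure P.O K') (hx : x ≠ 0) :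
    (P.deg : ℤ) * P.ord (Algebra.norm K (x : K')) = ∑ Q ∈ Qs, (Q.deg : ℤ) * Q.ord (x : K') := by
  classical
  haveI := isDVR P
  haveI := finite_S (K' := K') P hK
  haveI : Module.IsTorsionFree P.O K' := .trans_faithfulSMul P.O K K'
  haveI : Module.IsTorsionFree P.O (integralClosure P.O K') :=
    IsIntegralClosure.isTorsionFree P.O K'
  haveI : Module.Free P.O (integralClosure P.O K') := Module.free_of_finite_type_torsion_free'
  haveI := IsIntegralClosure.isLocalization P.O K K' (integralClosure P.O K')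
  let b := Module.Free.chooseBasis P.O (integralClosure P.O K')
  have hI : Ideal.span ({x} : Set (integralClosure P.O K')) ≠ ⊥ :=
    Ideal.span_singleton_eq_bot.not.2 hx
  have hx0 : (x : K') ≠ 0 := fun h => hx (Subtype.ext h)
  have hxS := (mem_S_iff P hK _).1 x.2
  have hordQ : ∀ Q : Place k K', IsOver Q P → 0 ≤ Q.ord (x : K') := fun Q hQ =>
    (Place.val_le_one_iff Q hx0).1 (hxS Q hQ)
  have hane : ∀ i, Ideal.smithCoeffs b _ hI i ≠ 0 := fun i => Ideal.smithCoeffs_ne_zero b _ hI i
  have hane' : ∀ i, ((Ideal.smithCoeffs b _ hI i : P.O) : K) ≠ 0 := fun i h =>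
    hane i (Subtype.ext h)
  have horda : ∀ i, 0 ≤ P.ord ((Ideal.smithCoeffs b _ hI i : P.O) : K) := fun i =>
    (Place.val_le_one_iff P (hane' i)).1 ((Place.mem_O_iff P _).1 (Ideal.smithCoeffs b _ hI i).2)
  haveI : ∀ i, Module.Finite k (P.O ⧸ Ideal.span ({Ideal.smithCoeffs b _ hI i} : Set P.O)) :=
    fun i => (finrank_quot_span hK.1 P _ (hane i)).1
  have h2 := Ideal.finrank_quotient_eq_sum k hI b
  rw [(finrank_quot_span_S P hK Qs hQs x hx).2] at h2
  simp only [fun i => (finrank_quot_span hK.1 P _ (hane i)).2] at h2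
  -- the norm
  have hN : Algebra.norm K (x : K') = ((Algebra.norm P.O x : P.O) : K) :=
    Algebra.norm_localization P.O (P.O)⁰ (Rₘ := K) (Sₘ := K') x
  obtain ⟨u, hu⟩ := associated_norm_prod_smith b hx
  have hu' : ((Algebra.norm P.O x : P.O) : K) * ((u : P.O) : K) =
      ∏ i, ((Ideal.smithCoeffs b _ hI i : P.O) : K) := by
    have := congrArg (P.O.subtype) hu
    rw [map_mul, map_prod] at this
    exact this
  have hn0 : ((Algebra.norm P.O x : P.O) : K) ≠ 0 := by
    intro h
    rw [h, zero_mul] at hu'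
    exact Finset.prod_ne_zero_iff.2 (fun i _ => hane' i) hu'.symm
  have hu0 : ((u : P.O) : K) ≠ 0 := by
    intro h
    rw [h, mul_zero] at hu'
    exact Finset.prod_ne_zero_iff.2 (fun i _ => hane' i) hu'.symm
  have hordN : P.ord (Algebra.norm K (x : K')) =
      ∑ i, P.ord ((Ideal.smithCoeffs b _ hI i : P.O) : K) := by
    rw [hN, ← ord_prod P _ _ (fun i _ => hane' i), ← hu', Place.ord_mul P hn0 hu0, ord_unit,
      add_zero]
  rw [hordN, Finset.mul_sum]
  have h3 : ((∑ Q ∈ Qs, (Q.ord (x : K')).toNat * Q.deg : ℕ) : ℤ) =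
      ∑ Q ∈ Qs, (Q.deg : ℤ) * Q.ord (x : K') := by
    push_cast
    refine Finset.sum_congr rfl fun Q hQ => ?_
    rw [Int.toNat_of_nonneg (hordQ Q ((hQs Q).1 hQ)), mul_comm]
  rw [← h3, h2]
  push_cast
  refine Finset.sum_congr rfl fun i _ => ?_
  rw [Int.toNat_of_nonneg (horda i), mul_comm]

theorem main [FiniteDimensional K K'] (hK : IsFunctionField k K)
    (Qs : Finset (Place k K')) (hQs : ∀ Q, Q ∈ Qs ↔ IsOver Q P) (x : K') :
    (P.deg : ℤ) * P.ord (Algebra.norm K x) = ∑ Q ∈ Qs, (Q.deg : ℤ) * Q.ord x := by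
  classical
  by_cases hx : x = 0
  · subst hx
    simp [Place.ord_zero, Algebra.norm_zero]
  haveI := IsIntegralClosure.isLocalization P.O K K' (integralClosure P.O K')
  obtain ⟨⟨z, m⟩, hzm⟩ :=
    IsLocalization.surj (Algebra.algebraMapSubmonoid (integralClosure P.O K') (P.O)⁰) x
  have hzm' : x * ((m : integralClosure P.O K') : K') = (z : K') := hzm
  have hm0 : (m : integralClosure P.O K') ≠ 0 := by
    obtain ⟨a, ha, ham⟩ := m.2
    intro h
    rw [h] at ham
    have : a = 0 := by
      have h1 : ((algebraMap P.O (integralClosure P.O K') a : integralClosure P.O K') : K') = 0 := by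
        rw [ham]; rfl
      have h2 : algebraMap P.O K' a = 0 := h1
      rw [IsScalarTower.algebraMap_apply P.O K K', map_eq_zero] at h2
      exact Subtype.ext h2
    exact (mem_nonZeroDivisors_iff_ne_zero.1 ha) this
  have hm0' : ((m : integralClosure P.O K') : K') ≠ 0 := fun h => hm0 (Subtype.ext h)
  have hz0 : z ≠ 0 := by
    intro h
    rw [h] at hzm'
    exact mul_ne_zero hx hm0' hzm'
  have hz0' : (z : K') ≠ 0 := fun h => hz0 (Subtype.ext h)
  have e1 := main_S P hK Qs hQs z hz0
  have e2 := main_S P hK Qs hQs (m : integralClosure P.O K') hm0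
  have hNx : Algebra.norm K x ≠ 0 := Algebra.norm_ne_zero_iff.2 hx
  have hNm : Algebra.norm K ((m : integralClosure P.O K') : K') ≠ 0 :=
    Algebra.norm_ne_zero_iff.2 hm0'
  rw [← hzm', map_mul, Place.ord_mul P hNx hNm] at e1
  have e3 : ∀ Q : Place k K', Q.ord (x * ((m : integralClosure P.O K') : K')) =
      Q.ord x + Q.ord ((m : integralClosure P.O K') : K') := fun Q => Place.ord_mul Q hx hm0'
  simp only [e3, mul_add, Finset.sum_add_distrib] at e1
  linarith

end Groth.Agent.Helper27.Nrm
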