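import Mathlib
import Groth.Agent.Lib.Helper27.NrmC
import Groth.Agent.Lib.Helper16.FF.GeomE

set_option autoImplicit false

namespace Groth.Agent.Helper27.Cg

open FunFld Groth.Agent.Helper16.FFW TensorProduct
open scoped WithZero

universe u u' v v'

variable {k : Type u} {k' : Type u'} {K : Type v} {K' : Type v'} [Field k] [Field k'] [Field K] [Field K']
  [Algebra k k'] [Algebra k K] [Algebra K K'] [Algebra k' K'] [Algebra k K']
  [IsScalarTower k k' K'] [IsScalarTower k K K']

theorem finite_scalarExt'
    (h : Function.Bijective (Algebra.TensorProduct.productMap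
      (IsScalarTower.toAlgHom k k' K') (IsScalarTower.toAlgHom k K K')))
    [FiniteDimensional k k'] : FiniteDimensional K K' := by
  let f : K ⊗[k] k' →ₐ[K] K' :=
    Algebra.TensorProduct.productLeftAlgHom (Algebra.ofId K K') (IsScalarTower.toAlgHom k k' K')
  have hsurj : Function.Surjective f := by
    intro z
    obtain ⟨t, rfl⟩ := h.2 z
    induction t using TensorProduct.induction_on with
    | zero => exact ⟨0, by simp⟩
    | tmul a b =>
      refine ⟨b ⊗ₜ a, ?_⟩
      show algebraMap K K' b * algebraMap k' K' a = algebraMap k' K' a * algebraMap K K' b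
      exact mul_comm _ _
    | add t₁ t₂ h₁ h₂ =>
      obtain ⟨s₁, hs₁⟩ := h₁
      obtain ⟨s₂, hs₂⟩ := h₂
      exact ⟨s₁ + s₂, by rw [map_add, hs₁, hs₂, map_add]⟩
  exact Module.Finite.of_surjective f.toLinearMap hsurj

/-- the `K`-algebra map `K ⊗ k' → K'` -/
noncomputable def prodK : K ⊗[k] k' →ₐ[K] K' :=
  Algebra.TensorProduct.productLeftAlgHom (Algebra.ofId K K') (IsScalarTower.toAlgHom k k' K')

theorem prodK_tmul (a : K) (c : k') :
    prodK (k := k) (k' := k') (K := K) (K' := K') (a ⊗ₜ c) =
      algebraMap K K' a * algebraMap k' K' c := rfl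

theorem prodK_bijective
    (h : Function.Bijective (Algebra.TensorProduct.productMap
      (IsScalarTower.toAlgHom k k' K') (IsScalarTower.toAlgHom k K K'))) :
    Function.Bijective (prodK (k := k) (k' := k') (K := K) (K' := K')) := by
  have hfun : ∀ t : K ⊗[k] k', prodK (k := k) (k' := k') (K := K) (K' := K') t =
      Algebra.TensorProduct.productMap
        (IsScalarTower.toAlgHom k k' K') (IsScalarTower.toAlgHom k K K')
        (Algebra.TensorProduct.comm k K k' t) := by
    intro t
    induction t using TensorProduct.induction_on with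
    | zero => simp
    | tmul a c =>
      rw [prodK_tmul, Algebra.TensorProduct.comm_tmul, Algebra.TensorProduct.productMap_apply_tmul]
      exact mul_comm _ _
    | add t₁ t₂ h₁ h₂ => rw [map_add, h₁, h₂, map_add, map_add]
  have : ⇑(prodK (k := k) (k' := k') (K := K) (K' := K')) =
      ⇑(Algebra.TensorProduct.productMap
        (IsScalarTower.toAlgHom k k' K') (IsScalarTower.toAlgHom k K K')) ∘
      ⇑(Algebra.TensorProduct.comm k K k') := funext hfun
  rw [this]
  exact h.comp (Algebra.TensorProduct.comm k K k').bijective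

/-- the `K`-basis of `K'` induced by a `k`-basis of `k'` -/
noncomputable def basisK
    (h : Function.Bijective (Algebra.TensorProduct.productMap
      (IsScalarTower.toAlgHom k k' K') (IsScalarTower.toAlgHom k K K')))
    {ι : Type*} (b : Module.Basis ι k k') : Module.Basis ι K K' :=
  (Algebra.TensorProduct.basis K b).map
    (LinearEquiv.ofBijective (prodK (k := k) (k' := k') (K := K) (K' := K')).toLinearMap
      (prodK_bijective h))

theorem basisK_apply
    (h : Function.Bijective (Algebra.TensorProduct.productMap
      (IsScalarTower.toAlgHom k k' K') (IsScalarTower.toAlgHom k K K')))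
    {ι : Type*} (b : Module.Basis ι k k') (i : ι) :
    basisK h b i = algebraMap k' K' (b i) := by
  unfold basisK
  rw [Module.Basis.map_apply, Algebra.TensorProduct.basis_apply]
  show prodK (k := k) (k' := k') (K := K) (K' := K') (1 ⊗ₜ b i) = _
  rw [prodK_tmul, map_one, one_mul]

variable (P : Place k K) [Algebra P.O K'] [IsScalarTower P.O K K']

theorem algebraMap_O_eq (a : P.O) : algebraMap P.O K' a = algebraMap K K' (a : K) := by
  rw [IsScalarTower.algebraMap_apply P.O K K']; rfl

theorem smul_O_eq (a : P.O) (z : K') : a • z = (a : K) • z := by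
  rw [Algebra.smul_def, Algebra.smul_def, algebraMap_O_eq]

/-- `O_P[k']` is the `O_P`-span of the basis -/
theorem adjoin_eq_span
    (h : Function.Bijective (Algebra.TensorProduct.productMap
      (IsScalarTower.toAlgHom k k' K') (IsScalarTower.toAlgHom k K K')))
    {ι : Type*} [Fintype ι] (b : Module.Basis ι k k') :
    Subalgebra.toSubmodule (Algebra.adjoin P.O (Set.range (algebraMap k' K'))) =
      Submodule.span P.O (Set.range (basisK h b)) := by
  classical
  set M := Submodule.span P.O (Set.range (basisK h b)) with hM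
  have hkM : ∀ c : k', algebraMap k' K' c ∈ M := by
    intro c
    have : algebraMap k' K' c = ∑ i, (algebraMap k P.O (b.repr c i)) • basisK h b i := by
      conv_lhs => rw [← b.sum_repr c]
      rw [map_sum]
      refine Finset.sum_congr rfl fun i _ => ?_
      rw [basisK_apply, Algebra.smul_def, map_mul, ← IsScalarTower.algebraMap_apply k k' K',
        Algebra.smul_def, algebraMap_O_eq]
      congr 1
      rw [IsScalarTower.algebraMap_apply k K K']
      rfl
    rw [this]
    exact Submodule.sum_mem _ fun i _ => Submodule.smul_mem _ _ (Submodule.subset_span ⟨i, rfl⟩)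
  have h1 : (1 : K') ∈ M := by
    have := hkM 1
    rwa [map_one] at this
  have hmul : ∀ x y, x ∈ M → y ∈ M → x * y ∈ M := by
    intro x y hx hy
    have hle : M * M ≤ M := by
      rw [hM, Submodule.span_mul_span, Submodule.span_le]
      rintro _ ⟨_, ⟨i, rfl⟩, _, ⟨j, rfl⟩, rfl⟩
      show basisK h b i * basisK h b j ∈ M
      rw [basisK_apply, basisK_apply, ← map_mul]
      exact hkM _
    exact hle (Submodule.mul_mem_mul hx hy)
  apply le_antisymm
  · have : Algebra.adjoin P.O (Set.range (algebraMap k' K')) ≤ M.toSubalgebra h1 hmul := by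
      apply Algebra.adjoin_le
      rintro _ ⟨c, rfl⟩
      exact hkM c
    exact this
  · rw [hM, Submodule.span_le]
    rintro _ ⟨i, rfl⟩
    rw [basisK_apply]
    exact Algebra.subset_adjoin ⟨_, rfl⟩

theorem mem_adjoin_iff
    (h : Function.Bijective (Algebra.TensorProduct.productMap
      (IsScalarTower.toAlgHom k k' K') (IsScalarTower.toAlgHom k K K')))
    {ι : Type*} [Fintype ι] (b : Module.Basis ι k k') (z : K') :
    z ∈ Algebra.adjoin P.O (Set.range (algebraMap k' K')) ↔
      ∀ i, P.1 ((basisK h b).repr z i) ≤ 1 := by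
  rw [← Subalgebra.mem_toSubmodule, adjoin_eq_span P h b, Module.Basis.mem_span_iff_repr_mem]
  refine forall_congr' fun i => ?_
  constructor
  · rintro ⟨a, ha⟩
    rw [← ha]
    exact (Place.mem_O_iff P _).1 a.2
  · intro hi
    exact ⟨⟨_, (Place.mem_O_iff P _).2 hi⟩, rfl⟩

end Groth.Agent.Helper27.Cg
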