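import Mathlib
import Groth.Agent.Lib.Helper27.CgA

set_option autoImplicit false

namespace Groth.Agent.Helper27.Cg

open FunFld Groth.Agent.Helper16.FFW TensorProduct
open scoped WithZero

universe u u' v v'

section gen
variable {k V : Type*} [Field k] [AddCommGroup V] [Module k V]

theorem exists_complement {T S : Submodule k V} {d : ℕ} (h : HasRelDim T S d) :
    ∃ W : Submodule k V, FiniteDimensional k W ∧ ∀ r ∈ S, ∃ w ∈ W, r - w ∈ T := by
  classical
  obtain ⟨hfd, -⟩ := h
  obtain ⟨s, hs⟩ := Module.finite_def.1 hfd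
  have hlift : ∀ q : ↥S ⧸ T.comap S.subtype, ∃ r : ↥S, Submodule.Quotient.mk r = q := fun q =>
    Submodule.Quotient.mk_surjective _ q
  choose lift hl using hlift
  refine ⟨Submodule.span k ((s.image fun q => ((lift q : ↥S) : V)) : Set V),
    FiniteDimensional.span_finset k _, ?_⟩
  intro r hr
  have hmem : (Submodule.Quotient.mk (⟨r, hr⟩ : ↥S) : ↥S ⧸ T.comap S.subtype) ∈
      Submodule.span k (s : Set (↥S ⧸ T.comap S.subtype)) := by rw [hs]; trivial
  obtain ⟨f, hf⟩ := Submodule.mem_span_finset.1 hmem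
  refine ⟨∑ q ∈ s, f q • ((lift q : ↥S) : V), ?_, ?_⟩
  · refine Submodule.sum_mem _ fun q hq => Submodule.smul_mem _ _ (Submodule.subset_span ?_)
    rw [Finset.coe_image]
    exact ⟨q, hq, rfl⟩
  · have h0 : (Submodule.Quotient.mk ((⟨r, hr⟩ : ↥S) - ∑ q ∈ s, f q • lift q) :
        ↥S ⧸ T.comap S.subtype) = 0 := by
      rw [Submodule.Quotient.mk_sub, ← Submodule.mkQ_apply, ← Submodule.mkQ_apply, map_sum]
      simp only [map_smul, Submodule.mkQ_apply, hl]
      rw [← hf.2, sub_self]
    rw [Submodule.Quotient.mk_eq_zero, Submodule.mem_comap] at h0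
    simpa using h0

end gen

section pl
variable {k K : Type*} [Field k] [Field K] [Algebra k K]

theorem exists_pow_clear (P : Place k K) {t : K} (ht : P.1 t = WithZero.exp (-1 : ℤ))
    (s : Finset K) : ∃ N : ℕ, ∀ a ∈ s, P.1 (t ^ N * a) ≤ 1 := by
  classical
  induction s using Finset.induction_on with
  | empty => exact ⟨0, fun a ha => absurd ha (Finset.notMem_empty a)⟩
  | insert a s ha ih =>
    obtain ⟨N, hN⟩ := ih
    have ht1 : P.1 t ≤ 1 := by rw [ht]; exact Nrm.exp_neg_one_lt_one.le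
    have hmono : ∀ (M : ℕ) (x : K), P.1 (t ^ M * x) ≤ 1 → ∀ M', M ≤ M' → P.1 (t ^ M' * x) ≤ 1 := by
      intro M x hx M' hMM'
      obtain ⟨d, rfl⟩ := Nat.exists_eq_add_of_le hMM'
      rw [pow_add, mul_assoc, mul_comm (t ^ d), ← mul_assoc, map_mul, map_pow]
      exact mul_le_one' hx (pow_le_one' ht1 _)
    obtain ⟨M, hM⟩ : ∃ M : ℕ, P.1 (t ^ M * a) ≤ 1 := by
      by_cases ha0 : a = 0
      · exact ⟨0, by simp [ha0]⟩
      refine ⟨(-P.ord a).toNat, ?_⟩
      rw [map_mul, map_pow, ht, Place.val_eq_exp_neg_ord P ha0, ← WithZero.exp_nsmul,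
        ← WithZero.exp_add, ← WithZero.exp_zero, WithZero.exp_le_exp, nsmul_eq_mul]
      have := Int.self_le_toNat (-P.ord a)
      linarith
    refine ⟨max N M, fun x hx => ?_⟩
    rcases Finset.mem_insert.1 hx with rfl | hx
    · exact hmono M _ hM _ (le_max_right _ _)
    · exact hmono N _ (hN x hx) _ (le_max_left _ _)

end pl

variable {k : Type u} {k' : Type u'} {K : Type v} {K' : Type v'} [Field k] [Field k'] [Field K] [Field K']
  [Algebra k k'] [Algebra k K] [Algebra K K'] [Algebra k' K'] [Algebra k K']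
  [IsScalarTower k k' K'] [IsScalarTower k K K']

/-- a power of the uniformizer is in the conductor of `O_P[k']` -/
theorem exists_conductor [FiniteDimensional k k']
    (h : Function.Bijective (Algebra.TensorProduct.productMap
      (IsScalarTower.toAlgHom k k' K') (IsScalarTower.toAlgHom k K K')))
    (hK : IsFunctionField k K) (P : Place k K) [Algebra P.O K'] [IsScalarTower P.O K K']
    {t : K} (ht : P.1 t = WithZero.exp (-1 : ℤ)) :
    ∃ N : ℕ, ∀ r ∈ integralClosure P.O K',
      (t ^ N) • r ∈ Algebra.adjoin P.O (Set.range (algebraMap k' K')) := by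
  classical
  haveI : FiniteDimensional K K' := finite_scalarExt' h
  let b := Module.finBasis k k'
  obtain ⟨y, -, hy, hcoord⟩ := Ic.exists_basis (K' := K') hK P
  obtain ⟨N, hN⟩ := exists_pow_clear P ht
    (Finset.univ.image fun p : Fin (Module.finrank K K') × Fin (Module.finrank k k') =>
      (basisK h b).repr (y p.1) p.2)
  refine ⟨N, fun r hr => ?_⟩
  obtain ⟨a, ha, rfl⟩ := hcoord r ((Nrm.mem_S_iff P hK r).1 hr)
  rw [mem_adjoin_iff P h b]
  intro i
  rw [map_smul, Finsupp.smul_apply, map_sum, Finsupp.coe_finset_sum, Finset.sum_apply,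
    smul_eq_mul, Finset.mul_sum]
  refine Valuation.map_sum_le _ fun j _ => ?_
  rw [map_smul, Finsupp.smul_apply, smul_eq_mul, mul_left_comm, map_mul]
  refine mul_le_one' (ha j) (hN _ ?_)
  exact Finset.mem_image.2 ⟨(j, i), Finset.mem_univ _, rfl⟩

theorem main12526 [FiniteDimensional k k']
    (h : Function.Bijective (Algebra.TensorProduct.productMap
      (IsScalarTower.toAlgHom k k' K') (IsScalarTower.toAlgHom k K K')))
    (hK : IsFunctionField k K) (P : Place k K) [Algebra P.O K'] [IsScalarTower P.O K K'] :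
    (∃ V : Submodule k K', FiniteDimensional k V ∧ ∀ r ∈ integralClosure P.O K',
        ∃ s ∈ Algebra.adjoin P.O (Set.range (algebraMap k' K')), r - s ∈ V) ∧
    (∃ c ∈ integralClosure P.O K', c ≠ 0 ∧ ∀ r ∈ integralClosure P.O K',
        c * r ∈ Algebra.adjoin P.O (Set.range (algebraMap k' K'))) := by
  classical
  haveI : FiniteDimensional K K' := finite_scalarExt' h
  obtain ⟨t, ht⟩ := Place.exists_uniformizer P
  have ht0 : t ≠ 0 := by
    rintro rfl
    rw [map_zero] at ht
    exact WithZero.exp_ne_zero ht.symm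
  obtain ⟨N, hN⟩ := exists_conductor h hK P ht
  have htN : P.1 (t ^ N) ≤ 1 := by
    rw [map_pow, ht]; exact pow_le_one' Nrm.exp_neg_one_lt_one.le _
  have hcR : algebraMap K K' (t ^ N) ∈ integralClosure P.O K' := by
    have : algebraMap K K' (t ^ N) = algebraMap P.O K' ⟨t ^ N, (Place.mem_O_iff P _).2 htN⟩ :=
      (algebraMap_O_eq (K' := K') P ⟨t ^ N, (Place.mem_O_iff P _).2 htN⟩).symm
    rw [this]
    exact Subalgebra.algebraMap_mem _ _
  constructor
  · -- the finite-dimensional complement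
    obtain ⟨y, -, hy, hcoord⟩ := Ic.exists_basis (K' := K') hK P
    have hdim := hasRelDim_Vloc hK.1 P (m := -(N : ℤ)) (m' := 0) (by omega)
    obtain ⟨W, hWfd, hW⟩ := exists_complement hdim
    let L : Fin (Module.finrank K K') → K →ₗ[k] K' := fun j =>
      (LinearMap.toSpanSingleton K K' (y j)).restrictScalars k
    refine ⟨⨆ j, W.map (L j), inferInstance, fun r hr => ?_⟩
    obtain ⟨a, ha, rfl⟩ := hcoord r ((Nrm.mem_S_iff P hK r).1 hr)
    have hdec : ∀ j, ∃ w ∈ W, P.1 (a j - w) ≤ WithZero.exp (-(N : ℤ)) := fun j =>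
      hW (a j) (by rw [mem_Vloc, WithZero.exp_zero]; exact ha j)
    choose w hwW hw using hdec
    -- β j = (a j - w j) / t^N
    have hβ : ∀ j, P.1 ((a j - w j) / t ^ N) ≤ 1 := by
      intro j
      rw [map_div₀, map_pow, ht, ← WithZero.exp_nsmul, nsmul_eq_mul, mul_neg, mul_one]
      exact (div_le_one₀ WithZero.exp_pos).2 (hw j)
    have hr' : (∑ j, ((a j - w j) / t ^ N) • y j) ∈ integralClosure P.O K' := by
      rw [Nrm.mem_S_iff P hK]
      intro Q hQ
      refine Valuation.map_sum_le _ fun j _ => ?_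
      rw [Ic.val_smul_of_isOver hQ]
      exact mul_le_one' (pow_le_one' (hβ j) _) (hy j Q hQ)
    refine ⟨(t ^ N) • ∑ j, ((a j - w j) / t ^ N) • y j, hN _ hr', ?_⟩
    have hdiff : (∑ j, a j • y j) - (t ^ N) • ∑ j, ((a j - w j) / t ^ N) • y j =
        ∑ j, L j (w j) := by
      rw [Finset.smul_sum, ← Finset.sum_sub_distrib]
      refine Finset.sum_congr rfl fun j _ => ?_
      show _ = (w j) • y j
      rw [smul_smul, mul_div_cancel₀ _ (pow_ne_zero N ht0), sub_smul]
      abel
    rw [hdiff]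
    refine Submodule.sum_mem _ fun j _ => ?_
    exact Submodule.mem_iSup_of_mem j (Submodule.mem_map_of_mem (hwW j))
  · refine ⟨algebraMap K K' (t ^ N), hcR, ?_, fun r hr => ?_⟩
    · rw [Ne, map_eq_zero]; exact pow_ne_zero N ht0
    · rw [← Algebra.smul_def]; exact hN r hr

end Groth.Agent.Helper27.Cg
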