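import Groth.Agent.Lib.Helper27.IntA

/-! The affine Jacobian criterion for a plane curve, via valuations (towards S11072). -/

set_option autoImplicit false

namespace Groth.Agent.Helper27.Jc

open FunFld MvPolynomial Groth.Agent.Helper16.FF Groth.Agent.Helper17
open scoped WithZero

variable {k K : Type*} [Field k] [Field K] [Algebra k K]

section

variable {n : ℕ} (P : Place k K) (r : Fin n → K) (c : Fin n → k)
  (hc : ∀ i, P.1 (r i - algebraMap k K (c i)) < 1)

theorem aeval_mem (p : MvPolynomial (Fin n) k) :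
    aeval r p ∈ Algebra.adjoin k (Set.range r) := by
  rw [Algebra.adjoin_range_eq_range_aeval]
  exact ⟨p, rfl⟩

theorem exists_aeval_eq {u : K} (hu : u ∈ Algebra.adjoin k (Set.range r)) :
    ∃ p : MvPolynomial (Fin n) k, aeval r p = u := by
  rw [Algebra.adjoin_range_eq_range_aeval] at hu
  exact hu

theorem aeval_u (i : Fin n) : aeval r (JC.u c i) = r i - algebraMap k K (c i) := by
  simp [JC.u]

include hc in
theorem val_aeval_lt_one {p : MvPolynomial (Fin n) k} (hp : eval c p = 0) :
    P.1 (aeval r p) < 1 := by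
  have h := Int.val_aeval_sub_eval_lt_one P r c hc p
  rwa [hp, map_zero, sub_zero] at h

include hc in
theorem val_aeval_eq_one {p : MvPolynomial (Fin n) k} (hp : eval c p ≠ 0) :
    P.1 (aeval r p) = 1 := by
  have h1 := Int.val_aeval_sub_eval_lt_one P r c hc p
  have h2 : P.1 (algebraMap k K (eval c p)) = 1 :=
    Groth.Agent.Helper16.FFW.Place.val_algebraMap P hp
  have e : aeval r p = algebraMap k K (eval c p) + (aeval r p - algebraMap k K (eval c p)) := by
    ring
  rw [e, Valuation.map_add_eq_of_lt_left P.1 (by rw [h2]; exact h1), h2]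

include hc in
theorem val_aeval_le_one' (p : MvPolynomial (Fin n) k) : P.1 (aeval r p) ≤ 1 := by
  by_cases hp : eval c p = 0
  · exact (val_aeval_lt_one P r c hc hp).le
  · exact (val_aeval_eq_one P r c hc hp).le

include hc in
theorem eval_eq_zero_of_val_lt {p : MvPolynomial (Fin n) k} (hp : P.1 (aeval r p) < 1) :
    eval c p = 0 := by
  by_contra h
  rw [val_aeval_eq_one P r c hc h] at hp
  exact lt_irrefl _ hp

include hc in
theorem val_le_one_of_mem_loc {z : K} (hz : z ∈ locRing (Algebra.adjoin k (Set.range r)) P) :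
    P.1 z ≤ 1 := by
  refine val_le_one_of_mem_locRing (fun a ha => ?_) hz
  obtain ⟨p, rfl⟩ := exists_aeval_eq r ha
  exact val_aeval_le_one' P r c hc p

theorem exists_decomp {p : MvPolynomial (Fin n) k} (hp : eval c p = 0) :
    ∃ q : Fin n → MvPolynomial (Fin n) k, ∑ i, q i * JC.u c i = p := by
  have h1 : p ∈ Ideal.span (Set.range (JC.u c)) := by
    rw [← JC.ker_eval_eq_span, RingHom.mem_ker]
    exact hp
  exact (Ideal.mem_span_range_iff_exists_fun).1 h1

include hc in
/-- the maximal ideal of the local ring is generated by the two shifted coordinates -/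
theorem exists_gens {z : K} (hz : z ∈ locRing (Algebra.adjoin k (Set.range r)) P)
    (hz1 : P.1 z < 1) :
    ∃ s : Fin n → K, (∀ i, s i ∈ locRing (Algebra.adjoin k (Set.range r)) P) ∧
      z = ∑ i, s i * (r i - algebraMap k K (c i)) := by
  obtain ⟨u, hu, w, hw, hw1, hzw⟩ := hz
  obtain ⟨p, rfl⟩ := exists_aeval_eq r hu
  have hw0 : w ≠ 0 := by
    rintro rfl
    rw [map_zero] at hw1
    exact zero_ne_one hw1
  have hp1 : P.1 (aeval r p) < 1 := by
    rw [← hzw, map_mul, hw1, mul_one]
    exact hz1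
  obtain ⟨q, hq⟩ := exists_decomp c (eval_eq_zero_of_val_lt P r c hc hp1)
  have hwinv : w⁻¹ ∈ locRing (Algebra.adjoin k (Set.range r)) P :=
    inv_mem_locRing (le_locRing _ P hw) hw1
  refine ⟨fun i => aeval r (q i) * w⁻¹, fun i => ?_, ?_⟩
  · exact Subalgebra.mul_mem _ (le_locRing _ P (aeval_mem r (q i))) hwinv
  · have h1 : z = aeval r p * w⁻¹ := by
      rw [← hzw]
      field_simp
    rw [h1, ← hq, map_sum, Finset.sum_mul]
    refine Finset.sum_congr rfl fun i _ => ?_
    rw [map_mul, aeval_u]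
    ring

end

section

variable (P : Place k K) (r : Fin 2 → K) (c : Fin 2 → k)
  (hc : ∀ i, P.1 (r i - algebraMap k K (c i)) < 1)

theorem sum_two (i i' : Fin 2) (h : i ≠ i') (F : Fin 2 → K) : ∑ l, F l = F i + F i' := by
  rw [Fin.sum_univ_two]
  fin_cases i <;> fin_cases i' <;> simp at h ⊢
  exact add_comm _ _

include hc in
/-- a nonvanishing partial derivative makes the other shifted coordinate a generator -/
theorem smooth_principal (i i' : Fin 2) (hii' : i ≠ i') (g : MvPolynomial (Fin 2) k)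
    (hg : aeval r g = 0) (hd : eval c (pderiv i' g) ≠ 0) :
    ∃ s ∈ locRing (Algebra.adjoin k (Set.range r)) P,
      r i' - algebraMap k K (c i') = s * (r i - algebraMap k K (c i)) := by
  have hg0 : eval c g = 0 := by
    apply eval_eq_zero_of_val_lt P r c hc
    rw [hg, map_zero]
    exact zero_lt_one
  have hT : JC.T c g ∈ RingHom.ker (eval c) • Ideal.span (Set.range (JC.u c)) := by
    rw [smul_eq_mul, ← JC.ker_eval_eq_span, ← pow_two]
    exact JC.T_mem_sq c g
  rw [Ideal.span, Submodule.mem_ideal_smul_span_iff_exists_sum] at hT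
  obtain ⟨a, ha, hsum⟩ := hT
  rw [Finsupp.sum_fintype a (fun i c_1 => c_1 • JC.u c i) (fun i => zero_smul _ _)] at hsum
  have hgT : g = JC.Lc c (JC.dA c g) + JC.T c g := by
    rw [JC.T, hg0, map_zero]
    ring
  have h1 : (0 : K) = ∑ l, (algebraMap k K (eval c (pderiv l g)) + aeval r (a l)) *
      (r l - algebraMap k K (c l)) := by
    rw [← hg]
    conv_lhs => rw [hgT, ← hsum]
    rw [map_add, JC.Lc_apply, map_sum, map_sum, ← Finset.sum_add_distrib]
    refine Finset.sum_congr rfl fun l _ => ?_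
    rw [map_smul, smul_eq_mul, map_mul, aeval_u, JC.dA_apply, Algebra.smul_def]
    ring
  rw [sum_two i i' hii'] at h1
  set w := algebraMap k K (eval c (pderiv i' g)) + aeval r (a i') with hw
  have hwA : w ∈ Algebra.adjoin k (Set.range r) :=
    Subalgebra.add_mem _ (Subalgebra.algebraMap_mem _ _) (aeval_mem r _)
  have hw1 : P.1 w = 1 := by
    have h2 : P.1 (algebraMap k K (eval c (pderiv i' g))) = 1 :=
      Groth.Agent.Helper16.FFW.Place.val_algebraMap P hd
    have h3 : P.1 (aeval r (a i')) < 1 :=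
      val_aeval_lt_one P r c hc (RingHom.mem_ker.1 (ha i'))
    rw [hw, Valuation.map_add_eq_of_lt_left P.1 (by rw [h2]; exact h3), h2]
  have hw0 : w ≠ 0 := by
    intro h0
    rw [h0, map_zero] at hw1
    exact zero_ne_one hw1
  refine ⟨-(algebraMap k K (eval c (pderiv i g)) + aeval r (a i)) * w⁻¹, ?_, ?_⟩
  · refine Subalgebra.mul_mem _ (le_locRing _ P ?_) (inv_mem_locRing (le_locRing _ P hwA) hw1)
    exact Subalgebra.neg_mem _
      (Subalgebra.add_mem _ (Subalgebra.algebraMap_mem _ _) (aeval_mem r _))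
  · have h4 : w * (r i' - algebraMap k K (c i')) =
        -(algebraMap k K (eval c (pderiv i g)) + aeval r (a i)) *
          (r i - algebraMap k K (c i)) := by
      linear_combination -h1
    field_simp
    linear_combination h4

/-- if the maximal ideal of the local ring is principal, every element is a power of the
generator times a unit -/
theorem factor_pow (A : Subalgebra k K) (hA : ∀ a ∈ locRing A P, P.1 a ≤ 1) (t : K)
    (ht1 : P.1 t < 1)
    (hprin : ∀ z ∈ locRing A P, P.1 z < 1 → ∃ s ∈ locRing A P, z = t * s) :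
    ∀ N : ℕ, ∀ q ∈ locRing A P, WithZero.exp (-(N : ℤ)) ≤ P.1 q →
      ∃ m : ℕ, ∃ v ∈ locRing A P, P.1 v = 1 ∧ q = t ^ m * v := by
  intro N
  induction N with
  | zero =>
    intro q hq hle
    rw [Nat.cast_zero, neg_zero, WithZero.exp_zero] at hle
    exact ⟨0, q, hq, le_antisymm (hA q hq) hle, by rw [pow_zero, one_mul]⟩
  | succ N ih =>
    intro q hq hle
    rcases (hA q hq).eq_or_lt with h1 | h1
    · exact ⟨0, q, hq, h1, by rw [pow_zero, one_mul]⟩
    · obtain ⟨s, hs, rfl⟩ := hprin q hq h1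
      have ht' : P.1 t ≤ WithZero.exp (-1 : ℤ) := lt_one_iff_le_exp_neg_one.mp ht1
      have h4 : WithZero.exp (-(N : ℤ)) ≤ P.1 s := by
        rw [map_mul] at hle
        have h2 : WithZero.exp (-((N + 1 : ℕ) : ℤ)) ≤ WithZero.exp (-1 : ℤ) * P.1 s :=
          hle.trans (mul_le_mul' ht' le_rfl)
        have h3 : WithZero.exp (-((N + 1 : ℕ) : ℤ)) =
            WithZero.exp (-1 : ℤ) * WithZero.exp (-(N : ℤ)) := by
          rw [← WithZero.exp_add]
          congr 1
          push_cast
          ring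
        rw [h3] at h2
        exact le_of_mul_le_mul_left h2 WithZero.exp_pos
      obtain ⟨m, v, hv, hv1, rfl⟩ := ih s hs h4
      exact ⟨m + 1, v, hv, hv1, by ring⟩

theorem exists_exp_le' (x : ℤᵐ⁰) (h0 : x ≠ 0) (h1 : x ≤ 1) :
    ∃ N : ℕ, WithZero.exp (-(N : ℤ)) ≤ x := by
  obtain ⟨n, rfl⟩ : ∃ n : ℤ, x = WithZero.exp n := ⟨WithZero.log x, (WithZero.exp_log h0).symm⟩
  rw [← WithZero.exp_zero, WithZero.exp_le_exp] at h1
  refine ⟨(-n).toNat, ?_⟩
  rw [WithZero.exp_le_exp, Int.toNat_of_nonneg (by omega)]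
  omega

theorem exists_exp_le {q : K} (hq : q ≠ 0) (hq1 : P.1 q ≤ 1) :
    ∃ N : ℕ, WithZero.exp (-(N : ℤ)) ≤ P.1 q :=
  exists_exp_le' _ (by rwa [Ne, map_eq_zero]) hq1

/-- a local ring with principal maximal ideal and fraction field `K` is the valuation ring -/
theorem eq_O_of_principal (A : Subalgebra k K) (hA : ∀ a ∈ locRing A P, P.1 a ≤ 1)
    (hfrac : IntermediateField.adjoin k (A : Set K) = ⊤) (t : K)
    (ht1 : P.1 t < 1)
    (hprin : ∀ z ∈ locRing A P, P.1 z < 1 → ∃ s ∈ locRing A P, z = t * s)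
    (ht : t ∈ locRing A P)
    (z : K) (hz : P.1 z ≤ 1) : z ∈ locRing A P := by
  by_cases hz0 : z = 0
  · rw [hz0]; exact Subalgebra.zero_mem _
  have hzmem : z ∈ IntermediateField.adjoin k (A : Set K) := by
    rw [hfrac]; exact IntermediateField.mem_top
  obtain ⟨p, hp, q, hq, hzpq⟩ := IntermediateField.mem_adjoin_iff_div.1 hzmem
  rw [Algebra.adjoin_eq] at hp hq
  have hq0 : q ≠ 0 := by
    rintro rfl
    rw [_root_.div_zero] at hzpq
    exact hz0 hzpq
  have hp0 : p ≠ 0 := by
    rintro rfl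
    rw [zero_div] at hzpq
    exact hz0 hzpq
  have hpL := le_locRing A P hp
  have hqL := le_locRing A P hq
  obtain ⟨N, hN⟩ := exists_exp_le P hp0 (hA p hpL)
  obtain ⟨N', hN'⟩ := exists_exp_le P hq0 (hA q hqL)
  obtain ⟨m, v, hv, hv1, hpv⟩ := factor_pow P A hA t ht1 hprin N p hpL hN
  obtain ⟨m', v', hv', hv1', hqv⟩ := factor_pow P A hA t ht1 hprin N' q hqL hN'
  have hv0 : v ≠ 0 := by
    rintro rfl; rw [map_zero] at hv1; exact zero_ne_one hv1
  have hv0' : v' ≠ 0 := by
    rintro rfl; rw [map_zero] at hv1'; exact zero_ne_one hv1'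
  have ht0 : t ≠ 0 := by
    rintro rfl
    obtain ⟨π, hπ⟩ := P.2.2 (WithZero.exp (-1 : ℤ))
    have hπ0 : π ≠ 0 := by
      rintro rfl
      rw [map_zero] at hπ
      exact WithZero.exp_ne_zero hπ.symm
    have hπmem : π ∈ IntermediateField.adjoin k (A : Set K) := by
      rw [hfrac]; exact IntermediateField.mem_top
    obtain ⟨p₁, hp₁, q₁, hq₁, hπpq⟩ := IntermediateField.mem_adjoin_iff_div.1 hπmem
    rw [Algebra.adjoin_eq] at hp₁ hq₁
    have hq₁0 : q₁ ≠ 0 := by
      rintro rfl
      rw [_root_.div_zero] at hπpq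
      exact hπ0 hπpq
    have hp1 : P.1 p₁ < 1 := by
      have h5 : p₁ = π * q₁ := by rw [hπpq]; field_simp
      rw [h5, map_mul, hπ]
      calc WithZero.exp (-1 : ℤ) * P.1 q₁ ≤ WithZero.exp (-1 : ℤ) * 1 :=
            mul_le_mul' le_rfl (hA q₁ (le_locRing A P hq₁))
        _ < 1 := by rw [mul_one]; exact lt_one_iff_le_exp_neg_one.mpr le_rfl
    obtain ⟨s, _, hs⟩ := hprin p₁ (le_locRing A P hp₁) hp1
    rw [zero_mul] at hs
    rw [hs, zero_div] at hπpq
    exact hπ0 hπpq
  have key : z * t ^ m' * v' = t ^ m * v := by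
    rw [hzpq, hpv]
    have : q = t ^ m' * v' := hqv
    rw [this]
    field_simp
  have hmm : m' ≤ m := by
    by_contra hlt
    push Not at hlt
    have h6 : z * t ^ (m' - m) * v' = v := by
      have h7 : t ^ m' = t ^ m * t ^ (m' - m) := by
        rw [← pow_add]; congr 1; omega
      rw [h7] at key
      have h8 : t ^ m ≠ 0 := pow_ne_zero _ ht0
      apply mul_left_cancel₀ h8
      linear_combination key
    have h9 : P.1 (z * t ^ (m' - m) * v') < 1 := by
      rw [map_mul, map_mul, map_pow, hv1', mul_one]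
      calc P.1 z * P.1 t ^ (m' - m) ≤ 1 * P.1 t ^ (m' - m) := mul_le_mul' hz le_rfl
        _ = P.1 t ^ (m' - m) := one_mul _
        _ < 1 := pow_lt_one₀ zero_le ht1 (by omega)
    rw [h6, hv1] at h9
    exact lt_irrefl _ h9
  have hfin : z = t ^ (m - m') * v * v'⁻¹ := by
    have h7 : t ^ m = t ^ m' * t ^ (m - m') := by
      rw [← pow_add]; congr 1; omega
    rw [h7] at key
    have h8 : t ^ m' ≠ 0 := pow_ne_zero _ ht0
    field_simp
    apply mul_left_cancel₀ h8
    linear_combination key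
  rw [hfin]
  exact Subalgebra.mul_mem _ (Subalgebra.mul_mem _ (Subalgebra.pow_mem _ ht _) hv)
    (inv_mem_locRing hv' hv1')

end

end Groth.Agent.Helper27.Jc
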