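import Mathlib
import Groth.Agent.Lib.Helper27.NrmC
import Groth.Agent.Lib.Helper27.JcA
import Groth.Agent.Lib.Helper16.FFW.UnifB

set_option autoImplicit false

namespace Groth.Agent.Helper27.Dual

open FunFld Polynomial Groth.Agent.Helper16.FFW IntermediateField
open scoped WithZero

variable {k K K' : Type*} [Field k] [Field K] [Field K'] [Algebra k K] [Algebra K K'] [Algebra k K']
  [IsScalarTower k K K']

/-- a uniformizer at `Q` that is a unit at the other places over `P` -/
theorem exists_special_unif [FiniteDimensional K K'] (hK : IsFunctionField k K) (P : Place k K)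
    (Q : Place k K') (hQ : IsOver Q P) :
    ∃ s : K', Q.1 s = WithZero.exp (-1) ∧
      ∀ Q' : Place k K', IsOver Q' P → Q' ≠ Q → Q'.1 s = 1 := by
  classical
  obtain ⟨hfin, -⟩ := sum_ramIdx_mul_deg (K' := K') hK P
  obtain ⟨Qs, hQsdef⟩ : ∃ Qs : Finset (Place k K'), Qs = hfin.toFinset := ⟨_, rfl⟩
  have hQs : ∀ Q', Q' ∈ Qs ↔ IsOver Q' P := fun Q' => by
    rw [hQsdef, Set.Finite.mem_toFinset]; rfl
  obtain ⟨s₀, hs₀⟩ := Place.exists_uniformizer Q
  obtain ⟨z, hz⟩ := weak_approx (fun i : ↥Qs => i.1) Subtype.val_injective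
    (fun i => if i.1 = Q then s₀ else 1) (fun i => if i.1 = Q then -2 else -1)
  refine ⟨z, ?_, ?_⟩
  · have := hz ⟨Q, (hQs Q).2 hQ⟩
    simp only [if_true] at this
    exact val_eq_of_sub_le Q hs₀ this
  · intro Q' hQ' hne
    have := hz ⟨Q', (hQs Q').2 hQ'⟩
    simp only [if_neg hne] at this
    have h1 : Q'.1 (z - 1) < Q'.1 1 := by
      rw [map_one]; exact lt_one_iff_le_exp_neg_one.2 this
    rw [Valuation.map_eq_of_sub_lt Q'.1 h1, map_one]

variable (P : Place k K) [Algebra P.O K'] [IsScalarTower P.O K K']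

theorem algebraMap_k_eq (c : k) : algebraMap k K' c = algebraMap P.O K' (algebraMap k P.O c) := by
  rw [IsScalarTower.algebraMap_apply P.O K K', IsScalarTower.algebraMap_apply k K K']; rfl

/-- `O_P[s]` as a `k`-subalgebra -/
def Ak (s : K') : Subalgebra k K' where
  carrier := (Algebra.adjoin P.O ({s} : Set K') : Set K')
  mul_mem' := (Algebra.adjoin P.O ({s} : Set K')).mul_mem
  add_mem' := (Algebra.adjoin P.O ({s} : Set K')).add_mem
  algebraMap_mem' c := by
    rw [algebraMap_k_eq P c]; exact Subalgebra.algebraMap_mem _ _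

theorem mem_Ak (s z : K') : z ∈ Ak P s ↔ z ∈ Algebra.adjoin P.O ({s} : Set K') := Iff.rfl

theorem algebraMap_mem_Ak (s : K') {a : K} (ha : P.1 a ≤ 1) : algebraMap K K' a ∈ Ak P s := by
  rw [mem_Ak]
  have : algebraMap K K' a = algebraMap P.O K' ⟨a, (Place.mem_O_iff P a).2 ha⟩ := by
    rw [IsScalarTower.algebraMap_apply P.O K K']; rfl
  rw [this]; exact Subalgebra.algebraMap_mem _ _

/-- constants of positive order are multiples of `s` in `O_P[s]` -/
theorem algebraMap_mem_smul (s : K') (hsint : IsIntegral P.O s)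
    (h0 : P.1 (algebraMap P.O K ((minpoly P.O s).coeff 0)) = WithZero.exp (-1))
    {c : K} (hc : P.1 c < 1) : ∃ h ∈ Ak P s, algebraMap K K' c = s * h := by
  set m := minpoly P.O s with hm
  set a₀ : K := algebraMap P.O K (m.coeff 0) with ha₀
  have hrel : algebraMap K K' a₀ = s * (-(aeval s m.divX)) := by
    have h1 : aeval s m = 0 := minpoly.aeval P.O s
    have h2 : m = m.divX * X + C (m.coeff 0) := (divX_mul_X_add m).symm
    rw [h2, map_add, map_mul, aeval_X, aeval_C] at h1
    rw [ha₀, ← IsScalarTower.algebraMap_apply P.O K K']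
    linear_combination h1
  have ha₀ne : a₀ ≠ 0 := by
    intro h
    rw [h, map_zero] at h0
    exact WithZero.exp_ne_zero h0.symm
  have hc' : P.1 (c / a₀) ≤ 1 := by
    rw [map_div₀, h0]
    exact (div_le_one₀ WithZero.exp_pos).2 (lt_one_iff_le_exp_neg_one.1 hc)
  refine ⟨-(aeval s m.divX) * algebraMap K K' (c / a₀), ?_, ?_⟩
  · refine (Ak P s).mul_mem ((Ak P s).neg_mem ?_) (algebraMap_mem_Ak P s hc')
    rw [mem_Ak, Algebra.adjoin_singleton_eq_range_aeval]
    exact ⟨m.divX, rfl⟩
  · rw [← mul_assoc, ← hrel, ← map_mul]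
    congr 1
    field_simp

theorem val_le_one_of_mem_Ak [FiniteDimensional K K'] (hK : IsFunctionField k K)
    (Q : Place k K') (hQ : IsOver Q P) (s : K') (hsint : IsIntegral P.O s)
    {a : K'} (ha : a ∈ Ak P s) : Q.1 a ≤ 1 := by
  have h1 : a ∈ integralClosure P.O K' := by
    have : Algebra.adjoin P.O ({s} : Set K') ≤ integralClosure P.O K' :=
      Algebra.adjoin_le (by rintro _ rfl; exact hsint)
    exact this ha
  exact (Nrm.mem_S_iff P hK a).1 h1 Q hQ

/-- `O_Q` is the localisation of `O_P[s]` at `Q` -/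
theorem mem_locRing_Ak [FiniteDimensional K K'] (hK : IsFunctionField k K)
    (Q : Place k K') (hQ : IsOver Q P) (s : K') (hs : Q.1 s < 1) (hsint : IsIntegral P.O s)
    (hgen : IntermediateField.adjoin K ({s} : Set K') = ⊤)
    (h0 : P.1 (algebraMap P.O K ((minpoly P.O s).coeff 0)) = WithZero.exp (-1))
    (z : K') (hz : Q.1 z ≤ 1) : z ∈ Groth.Agent.Helper16.FF.locRing (Ak P s) Q := by
  have hA : ∀ a ∈ Ak P s, Q.1 a ≤ 1 := fun a ha => val_le_one_of_mem_Ak P hK Q hQ s hsint ha
  have hsA : s ∈ Ak P s := Algebra.subset_adjoin (Set.mem_singleton s)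
  refine Jc.eq_O_of_principal Q (Ak P s)
    (fun a ha => Groth.Agent.Helper16.FF.val_le_one_of_mem_locRing hA ha) ?_ s hs ?_ (Groth.Agent.Helper16.FF.le_locRing _ _ hsA) z hz
  · -- fraction field
    rw [eq_top_iff]
    intro w _
    have hw : w ∈ IntermediateField.adjoin K ({s} : Set K') := by rw [hgen]; trivial
    set M := IntermediateField.adjoin k ((Ak P s : Subalgebra k K') : Set K') with hM
    have hsub : ∀ a : K, algebraMap K K' a ∈ M := by
      intro a
      by_cases ha : P.1 a ≤ 1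
      · exact IntermediateField.subset_adjoin k _ (algebraMap_mem_Ak P s ha)
      · have ha0 : a ≠ 0 := by rintro rfl; simp at ha
        have ha' : P.1 a⁻¹ ≤ 1 := by
          rw [map_inv₀]
          exact inv_le_one_of_one_le₀ (not_le.1 ha).le
        have := M.inv_mem (IntermediateField.subset_adjoin k _ (algebraMap_mem_Ak P s ha'))
        rwa [map_inv₀, inv_inv] at this
    have hle : (IntermediateField.adjoin K ({s} : Set K')).toSubfield ≤ M.toSubfield := by
      show Subfield.closure _ ≤ _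
      rw [Subfield.closure_le]
      rintro x (⟨a, rfl⟩ | hx)
      · exact hsub a
      · rw [Set.mem_singleton_iff] at hx
        rw [hx]
        exact IntermediateField.subset_adjoin k _ hsA
    exact hle hw
  · -- principal maximal ideal
    rintro w ⟨u, hu, w₀, hw₀, hw₀1, hwu⟩ hw1
    have hu1 : Q.1 u < 1 := by rw [← hwu, map_mul, hw₀1, mul_one]; exact hw1
    rw [mem_Ak, Algebra.adjoin_singleton_eq_range_aeval] at hu
    obtain ⟨p, rfl⟩ := hu
    have h2 : p = p.divX * X + C (p.coeff 0) := (divX_mul_X_add p).symm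
    have h3 : aeval s p = aeval s p.divX * s + algebraMap P.O K' (p.coeff 0) := by
      conv_lhs => rw [h2]
      rw [map_add, map_mul, aeval_X, aeval_C]
    have hdiv : aeval s p.divX ∈ Ak P s := by
      rw [mem_Ak, Algebra.adjoin_singleton_eq_range_aeval]; exact ⟨_, rfl⟩
    have h4 : Q.1 (algebraMap P.O K' (p.coeff 0)) < 1 := by
      have : algebraMap P.O K' (p.coeff 0) = aeval s p - aeval s p.divX * s := by
        rw [h3]; ring
      rw [this]
      refine lt_of_le_of_lt (Valuation.map_sub _ _ _) (max_lt hu1 ?_)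
      rw [map_mul]
      exact lt_of_le_of_lt (mul_le_mul' (hA _ hdiv) le_rfl) (by rw [one_mul]; exact hs)
    have h5 : P.1 ((p.coeff 0 : P.O) : K) < 1 := by
      obtain ⟨e, he⟩ := hQ
      rw [IsScalarTower.algebraMap_apply P.O K K'] at h4
      have h6 : Q.1 (algebraMap K K' ((p.coeff 0 : P.O) : K)) = P.1 ((p.coeff 0 : P.O) : K) ^ e :=
        he _
      by_contra hcon
      have h7 : P.1 ((p.coeff 0 : P.O) : K) = 1 :=
        le_antisymm ((Place.mem_O_iff P _).1 (p.coeff 0).2) (not_lt.1 hcon)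
      rw [h7, one_pow] at h6
      have h8 : Q.1 (algebraMap K K' ((p.coeff 0 : P.O) : K)) < 1 := h4
      rw [h6] at h8
      exact lt_irrefl _ h8
    obtain ⟨h, hh, hch⟩ := algebraMap_mem_smul P s hsint h0 h5
    have hw₀ne : w₀ ≠ 0 := by
      rintro rfl; rw [map_zero] at hw₀1; exact zero_ne_one hw₀1
    refine ⟨(aeval s p.divX + h) / w₀, ?_, ?_⟩
    · refine ⟨aeval s p.divX + h, (Ak P s).add_mem hdiv hh, w₀, hw₀, hw₀1, ?_⟩
      field_simp
    · have h9 : algebraMap P.O K' (p.coeff 0) = s * h := by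
        rw [IsScalarTower.algebraMap_apply P.O K K']; exact hch
      have hwu' : w * w₀ = aeval s p := hwu
      have : w = aeval s p / w₀ := by rw [← hwu']; field_simp
      rw [this, h3, h9]
      field_simp

end Groth.Agent.Helper27.Dual
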