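import Mathlib
import Groth.Agent.Lib.Helper27.CgB
import Groth.Agent.Lib.Helper27.DualA

set_option autoImplicit false

namespace Groth.Agent.Helper27.Cg

open FunFld Groth.Agent.Helper16.FFW TensorProduct
open scoped WithZero

universe u u' v v'

variable {k : Type u} {k' : Type u'} {K : Type v} {K' : Type v'} [Field k] [Field k'] [Field K] [Field K']
  [Algebra k k'] [Algebra k K] [Algebra K K'] [Algebra k' K'] [Algebra k K']
  [IsScalarTower k k' K'] [IsScalarTower k K K']
  (P : Place k K) [Algebra P.O K'] [IsScalarTower P.O K K']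

theorem towerkOK' : IsScalarTower k P.O K' :=
  IsScalarTower.of_algebraMap_eq (fun c => Dual.algebraMap_k_eq P c)

/-- the residue field, with only the Prelude `k`-algebra structure visible -/
def FPt (P : Place k K) : Type _ := IsLocalRing.ResidueField P.O

noncomputable instance : Field (FPt P) := inferInstanceAs (Field (IsLocalRing.ResidueField P.O))

noncomputable instance : Algebra k (FPt P) := Place.algRes P

/-- the residue map as a `k`-algebra map -/
noncomputable def resAlg : P.O →ₐ[k] FPt P :=
  { IsLocalRing.residue P.O with commutes' := fun _ => rfl }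

theorem resAlg_apply (a : P.O) : resAlg P a = (IsLocalRing.residue P.O a : FPt P) := rfl

theorem resAlg_eq_zero_iff (a : P.O) : resAlg P a = 0 ↔ P.1 (a : K) < 1 :=
  Place.residue_eq_zero_iff P a

/-- `O_P ⊗ k' → K'` -/
noncomputable def phi : P.O ⊗[k] k' →ₐ[P.O] K' :=
  haveI := towerkOK' (K' := K') P
  Algebra.TensorProduct.productLeftAlgHom (Algebra.ofId P.O K') (IsScalarTower.toAlgHom k k' K')

theorem phi_tmul (a : P.O) (c : k') :
    phi (k' := k') (K' := K') P (a ⊗ₜ c) = algebraMap P.O K' a * algebraMap k' K' c := rfl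

/-- `O_P ⊗ k' → F_P ⊗ k'` -/
noncomputable def piRes : P.O ⊗[k] k' →ₐ[k] FPt P ⊗[k] k' :=
  Algebra.TensorProduct.map (resAlg P) (AlgHom.id k k')

theorem piRes_tmul (a : P.O) (c : k') :
    piRes (k' := k') P (a ⊗ₜ c) = resAlg P a ⊗ₜ c := rfl

variable (h : Function.Bijective (Algebra.TensorProduct.productMap
      (IsScalarTower.toAlgHom k k' K') (IsScalarTower.toAlgHom k K K')))
  {ι : Type*} [Fintype ι] [DecidableEq ι] (b : Module.Basis ι k k')

theorem basisK_repr_algebraMap (c : k') (i : ι) :
    (basisK h b).repr (algebraMap k' K' c) i = algebraMap k K (b.repr c i) := by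
  have h1 : algebraMap k' K' c =
      (LinearEquiv.ofBijective (prodK (k := k) (k' := k') (K := K) (K' := K')).toLinearMap
        (prodK_bijective h)) ((1 : K) ⊗ₜ[k] c) := by
    show _ = prodK (k := k) (k' := k') (K := K) (K' := K') (1 ⊗ₜ c)
    rw [prodK_tmul, map_one, one_mul]
  unfold basisK
  rw [h1, Module.Basis.map_repr, LinearEquiv.trans_apply, LinearEquiv.symm_apply_apply,
    Algebra.TensorProduct.basis_repr_tmul, one_smul, Finsupp.mapRange_apply]

theorem repr_phi (ω : P.O ⊗[k] k') (i : ι) :
    (basisK h b).repr (phi (k' := k') (K' := K') P ω) i =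
      (((Algebra.TensorProduct.basis P.O b).repr ω i : P.O) : K) := by
  induction ω using TensorProduct.induction_on with
  | zero => simp
  | tmul a c =>
    rw [phi_tmul, algebraMap_O_eq, ← Algebra.smul_def, map_smul, Finsupp.smul_apply,
      basisK_repr_algebraMap, Algebra.TensorProduct.basis_repr_tmul, Finsupp.smul_apply,
      Finsupp.mapRange_apply, smul_eq_mul, smul_eq_mul]
    rfl
  | add x y hx hy =>
    rw [map_add, map_add, Finsupp.add_apply, hx, hy, map_add, Finsupp.add_apply]
    rfl

theorem repr_piRes (ω : P.O ⊗[k] k') (i : ι) :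
    (Algebra.TensorProduct.basis (FPt P) b).repr (piRes (k' := k') P ω) i =
      resAlg P ((Algebra.TensorProduct.basis P.O b).repr ω i) := by
  induction ω using TensorProduct.induction_on with
  | zero => simp
  | tmul a c =>
    rw [piRes_tmul, Algebra.TensorProduct.basis_repr_tmul, Finsupp.smul_apply,
      Finsupp.mapRange_apply, Algebra.TensorProduct.basis_repr_tmul, Finsupp.smul_apply,
      Finsupp.mapRange_apply, smul_eq_mul, smul_eq_mul, map_mul]
    rfl
  | add x y hx hy =>
    rw [map_add, map_add, Finsupp.add_apply, hx, hy, map_add, Finsupp.add_apply, map_add]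

/-- the coordinates of `x` all lie in the maximal ideal of `O_P` -/
def InM (x : K') : Prop := ∀ i, P.1 ((basisK h b).repr x i) < 1

include h b in
theorem exists_phi_eq {w : K'} (hw : w ∈ Algebra.adjoin P.O (Set.range (algebraMap k' K'))) :
    ∃ ω : P.O ⊗[k] k', phi (k' := k') (K' := K') P ω = w := by
  rw [mem_adjoin_iff P h b] at hw
  refine ⟨∑ i, (⟨_, (Place.mem_O_iff P _).2 (hw i)⟩ : P.O) •
    Algebra.TensorProduct.basis P.O b i, ?_⟩
  apply (basisK h b).repr.injective
  ext i
  rw [repr_phi, Module.Basis.repr_sum_self]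

/-- **reducedness**: a nilpotent modulo `t` element of `O_P[k']` is `0` modulo `t` -/
theorem inM_of_pow [IsReduced (FPt P ⊗[k] k')] {w : K'}
    (hw : w ∈ Algebra.adjoin P.O (Set.range (algebraMap k' K'))) (M : ℕ)
    (hM : InM P h b (w ^ M)) : InM P h b w := by
  obtain ⟨ω, rfl⟩ := exists_phi_eq P h b hw
  have h1 : piRes (k' := k') P (ω ^ M) = 0 := by
    apply (Algebra.TensorProduct.basis (FPt P) b).repr.injective
    ext i
    rw [repr_piRes, map_zero, Finsupp.zero_apply, resAlg_eq_zero_iff, ← repr_phi P h b,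
      map_pow]
    exact hM i
  rw [map_pow] at h1
  have h2 : piRes (k' := k') P ω = 0 := IsReduced.eq_zero _ ⟨M, h1⟩
  intro i
  rw [repr_phi, ← resAlg_eq_zero_iff, ← repr_piRes, h2, map_zero, Finsupp.zero_apply]

end Groth.Agent.Helper27.Cg
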