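import Mathlib

set_option autoImplicit false

namespace Groth.Agent.Helper27.Sn

open Polynomial

variable {A F L : Type*} [CommRing A] [IsDomain A] [IsIntegrallyClosed A] [Field F] [Field L]
  [Algebra A F] [IsFractionRing A F] [Algebra F L] [Algebra A L] [IsScalarTower A F L]
  [FiniteDimensional F L] [Algebra.IsSeparable F L]

/-- Euler/Dedekind: integral elements lie in `g'(y)⁻¹ A[y]`, for any monic `g` over `A` killing a
primitive element `y` -/
theorem mul_derivative_mem_adjoin {y : L} (hy : Algebra.adjoin F ({y} : Set L) = ⊤)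
    (g : A[X]) (hg : g.Monic) (hgy : aeval y g = 0) (u : L) (hu : IsIntegral A u) :
    u * aeval y (derivative g) ∈ Algebra.adjoin A ({y} : Set L) := by
  have hAy : IsIntegral A y := ⟨g, hg, by rw [← aeval_def]; exact hgy⟩
  set m := minpoly F y with hm
  have hmm : m.Monic := minpoly.monic (Algebra.IsIntegral.isIntegral y)
  have hdvd : m ∣ g.map (algebraMap A F) := by
    apply minpoly.dvd
    rw [aeval_map_algebraMap]
    exact hgy
  obtain ⟨h, hh⟩ := hdvd
  have hhm : h.Monic := by
    have : (m * h).Monic := by rw [← hh]; exact hg.map _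
    exact hmm.of_mul_monic_left this
  obtain ⟨h₀, hh₀⟩ := IsIntegrallyClosed.eq_map_mul_C_of_dvd F hg (g := h) ⟨m, by rw [hh, mul_comm]⟩
  rw [hhm.leadingCoeff, C_1, mul_one] at hh₀
  -- the derivative
  have hder : aeval y (derivative g) = aeval y (derivative m) * aeval y h₀ := by
    have h1 : aeval y (derivative (g.map (algebraMap A F))) = aeval y (derivative g) := by
      rw [derivative_map, aeval_map_algebraMap]
    rw [← h1, hh, derivative_mul, map_add, map_mul, map_mul, minpoly.aeval, zero_mul, add_zero,
      ← hh₀, aeval_map_algebraMap]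
  -- the trace dual
  have hdual := traceForm_dualSubmodule_adjoin A F hy hAy
  have hmem : u ∈ (Algebra.traceForm F L).dualSubmodule
      (Subalgebra.toSubmodule (Algebra.adjoin A ({y} : Set L))) := by
    rw [LinearMap.BilinForm.mem_dualSubmodule]
    intro w hw
    rw [Subalgebra.mem_toSubmodule] at hw
    have hw' : IsIntegral A w := by
      have hle : Algebra.adjoin A ({y} : Set L) ≤ integralClosure A L := by
        apply Algebra.adjoin_le
        intro t ht
        rw [Set.mem_singleton_iff] at ht
        rw [ht]
        exact hAy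
      exact hle hw
    have h2 : IsIntegral A (Algebra.trace F L (u * w)) := Algebra.isIntegral_trace (hu.mul hw')
    rw [Algebra.traceForm_apply]
    obtain ⟨a, ha⟩ := IsIntegrallyClosed.isIntegral_iff.1 h2
    rw [Submodule.mem_one]
    exact ⟨a, ha⟩
  rw [hdual, Submodule.mem_smul_pointwise_iff_exists] at hmem
  obtain ⟨a, ha, rfl⟩ := hmem
  have hne : aeval y (derivative m) ≠ 0 :=
    (Algebra.IsSeparable.isSeparable F y).aeval_derivative_ne_zero (minpoly.aeval F y)
  rw [hder, smul_eq_mul, ← mul_assoc, mul_comm _ a, mul_assoc a, inv_mul_cancel₀ hne, mul_one]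
  rw [Subalgebra.mem_toSubmodule] at ha
  refine mul_mem ha ?_
  exact aeval_mem_adjoin_singleton A y

end Groth.Agent.Helper27.Sn
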