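import Mathlib
import Groth.Agent.Lib.Helper27.SnA

set_option autoImplicit false

namespace Groth.Agent.Helper27.Sn

open Polynomial IntermediateField

section fr

variable {k K : Type*} [Field k] [Field K] [Algebra k K] (x : K)

/-- `k[X] → k(x)` -/
noncomputable def toF : k[X] →ₐ[k] adjoin k ({x} : Set K) := aeval (AdjoinSimple.gen k x)

theorem coe_toF (p : k[X]) : ((toF x p : adjoin k ({x} : Set K)) : K) = aeval x p := by
  unfold toF
  rw [← IntermediateField.aeval_coe, AdjoinSimple.coe_gen]

/-- the `k[X]`-algebra structure of `k(x)` -/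
noncomputable abbrev algF : Algebra k[X] (adjoin k ({x} : Set K)) := (toF x).toRingHom.toAlgebra

attribute [local instance] algF

variable {x}

theorem toF_injective (hx : Transcendental k x) : Function.Injective (toF (k := k) x) := by
  rw [injective_iff_map_eq_zero]
  intro p hp
  have h1 : aeval x p = 0 := by rw [← coe_toF, hp]; rfl
  exact (transcendental_iff_injective (R := k)).1 hx (by rw [h1, map_zero])

theorem isFractionRing (hx : Transcendental k x) : IsFractionRing k[X] (adjoin k ({x} : Set K)) := by
  haveI : FaithfulSMul k[X] (adjoin k ({x} : Set K)) :=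
    (faithfulSMul_iff_algebraMap_injective _ _).2 (toF_injective hx)
  refine IsFractionRing.of_field _ _ (fun z => ?_)
  obtain ⟨r, s, hrs⟩ := (mem_adjoin_simple_iff k z.1).1 z.2
  refine ⟨r, s, Subtype.ext ?_⟩
  rw [IntermediateField.coe_div]
  show (z : K) = ((toF x r : adjoin k ({x} : Set K)) : K) / ((toF x s : adjoin k ({x} : Set K)) : K)
  rw [coe_toF, coe_toF]
  exact hrs

end fr

section main

variable {k K : Type*} [Field k] [Field K] [Algebra k K]

attribute [local instance] algF

/-- the key inclusion: integral elements of `K` over `k[x]` lie in `θ⁻¹ k[x,y]` -/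
theorem mul_theta_mem (x y : K) (hx : Transcendental k x)
    (hgen : adjoin k ({x, y} : Set K) = ⊤) (G : k[X][X]) (hGm : G.Monic)
    (hG : G.eval₂ (aeval x : k[X] →ₐ[k] K).toRingHom y = 0)
    (hθ : (derivative G).eval₂ (aeval x : k[X] →ₐ[k] K).toRingHom y ≠ 0)
    (u : K) (q : k[X][X]) (hq : q.Monic)
    (hqu : q.eval₂ (aeval x : k[X] →ₐ[k] K).toRingHom u = 0) :
    u * (derivative G).eval₂ (aeval x : k[X] →ₐ[k] K).toRingHom y ∈
      Algebra.adjoin k ({x, y} : Set K) := by
  letI : Algebra k[X] K := (aeval x : k[X] →ₐ[k] K).toRingHom.toAlgebra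
  haveI : IsScalarTower k[X] (adjoin k ({x} : Set K)) K :=
    IsScalarTower.of_algebraMap_eq (fun p => (coe_toF x p).symm)
  haveI := isFractionRing hx
  set F := adjoin k ({x} : Set K) with hF
  -- `y` is integral over `F`
  have hyA : IsIntegral k[X] y := ⟨G, hGm, hG⟩
  have hyF : IsIntegral F y := hyA.tower_top
  -- `F(y) = K`
  have htop : adjoin F ({y} : Set K) = ⊤ := by
    apply IntermediateField.restrictScalars_injective k
    rw [adjoin_adjoin_left, restrictScalars_top]
    have : ({x} : Set K) ∪ {y} = {x, y} := by
      ext t; simp [or_comm]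
    rw [this, hgen]
  haveI hfin : FiniteDimensional F K := by
    haveI : FiniteDimensional F (adjoin F ({y} : Set K)) := adjoin.finiteDimensional hyF
    rw [htop] at this
    exact Module.Finite.equiv (IntermediateField.topEquiv (F := F) (E := K)).toLinearEquiv
  -- separability
  set m := minpoly F y with hm
  have hdvd : m ∣ G.map (algebraMap k[X] F) := by
    apply minpoly.dvd
    rw [aeval_map_algebraMap]
    exact hG
  obtain ⟨h, hh⟩ := hdvd
  have hθ' : aeval y (derivative G) = aeval y (derivative m) * aeval y h := by
    have h1 : aeval y (derivative (G.map (algebraMap k[X] F))) = aeval y (derivative G) := by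
      rw [derivative_map, aeval_map_algebraMap]
    rw [← h1, hh, derivative_mul, map_add, map_mul, map_mul, minpoly.aeval, zero_mul, add_zero]
  have hm' : derivative m ≠ 0 := by
    intro h0
    apply hθ
    have : aeval y (derivative G) = 0 := by rw [hθ', h0, map_zero, zero_mul]
    exact this
  have hsepm : m.Separable :=
    (separable_iff_derivative_ne_zero (minpoly.irreducible hyF)).2 hm'
  have hsepy : IsSeparable F y := hsepm
  haveI hsepK : Algebra.IsSeparable F K := by
    haveI : Algebra.IsSeparable F (adjoin F ({y} : Set K)) :=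
      (isSeparable_adjoin_simple_iff_isSeparable F K).2 hsepy
    rw [htop] at this
    exact AlgEquiv.Algebra.isSeparable (IntermediateField.topEquiv (F := F) (E := K))
  have hAtop : Algebra.adjoin F ({y} : Set K) = ⊤ := by
    rw [← IntermediateField.adjoin_simple_toSubalgebra_of_isAlgebraic hyF.isAlgebraic, htop,
      IntermediateField.top_toSubalgebra]
  have key := mul_derivative_mem_adjoin (A := k[X]) (F := F) (L := K) hAtop G hGm hG u
    ⟨q, hq, hqu⟩
  -- transfer
  have hle : ∀ w ∈ Algebra.adjoin k[X] ({y} : Set K), w ∈ Algebra.adjoin k ({x, y} : Set K) := by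
    intro w hw
    induction hw using Algebra.adjoin_induction with
    | mem t ht =>
      rw [Set.mem_singleton_iff] at ht
      rw [ht]
      exact Algebra.subset_adjoin (by simp)
    | algebraMap p =>
      have h1 : aeval x p ∈ Algebra.adjoin k ({x} : Set K) := aeval_mem_adjoin_singleton k x
      exact Algebra.adjoin_mono (by simp) h1
    | add a b _ _ ha hb => exact add_mem ha hb
    | mul a b _ _ ha hb => exact mul_mem ha hb
  exact hle _ key

end main

end Groth.Agent.Helper27.Sn
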