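import Mathlib
import Groth.Agent.Lib.Helper27.NrmB
import Groth.Agent.Lib.Helper16.FFW.RatPlace
import Groth.Agent.Lib.Helper16.FF.Rational

set_option autoImplicit false

namespace Groth.Agent.Helper27.Sn

open FunFld Polynomial IntermediateField Groth.Agent.Helper16.FFW
open scoped WithZero

section rat

variable {k F : Type*} [Field k] [Field F] [Algebra k F]

/-- an element of `k(x)` without finite poles is a polynomial -/
theorem mem_adjoin_of_forall_le (hF : IsFunctionField k F) (x : F)
    (hx : adjoin k ({x} : Set F) = ⊤) (c : F)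
    (hc : ∀ p : Place k F, p.1 x ≤ 1 → p.1 c ≤ 1) : c ∈ Algebra.adjoin k ({x} : Set F) := by
  classical
  have hxt : Transcendental k x := Groth.Agent.Helper16.FF.transcendental_of_adjoin_eq_top hF hx
  have hcm : c ∈ adjoin k ({x} : Set F) := by rw [hx]; trivial
  obtain ⟨r, s, hrs⟩ := (mem_adjoin_simple_iff k c).1 hcm
  by_cases hs0 : aeval x s = 0
  · rw [hrs, hs0, _root_.div_zero]; exact zero_mem _
  have hsne : s ≠ 0 := by rintro rfl; exact hs0 (map_zero _)
  obtain ⟨d, hd⟩ : ∃ d, d = EuclideanDomain.gcd r s := ⟨_, rfl⟩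
  have hdr : d ∣ r := hd ▸ EuclideanDomain.gcd_dvd_left r s
  have hds : d ∣ s := hd ▸ EuclideanDomain.gcd_dvd_right r s
  obtain ⟨r', hr'⟩ := hdr
  obtain ⟨s', hs'⟩ := hds
  have hd0 : d ≠ 0 := by
    intro h; rw [h, zero_mul] at hs'; exact hsne hs'
  have hcop : IsCoprime r' s' := by
    refine ⟨EuclideanDomain.gcdA r s, EuclideanDomain.gcdB r s, ?_⟩
    have h1 := EuclideanDomain.gcd_eq_gcd_ab r s
    rw [← hd] at h1
    apply mul_left_cancel₀ hd0
    calc d * (EuclideanDomain.gcdA r s * r' + EuclideanDomain.gcdB r s * s')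
        = (d * r') * EuclideanDomain.gcdA r s + (d * s') * EuclideanDomain.gcdB r s := by ring
      _ = d * 1 := by rw [← hr', ← hs', ← h1, mul_one]
  have hdx : aeval x d ≠ 0 := by
    intro h; apply hs0; rw [hs', map_mul, h, zero_mul]
  have hs'x : aeval x s' ≠ 0 := by
    intro h; apply hs0; rw [hs', map_mul, h, mul_zero]
  have hs'0 : s' ≠ 0 := by rintro h; rw [h, map_zero] at hs'x; exact hs'x rfl
  have hc' : c = aeval x r' / aeval x s' := by
    rw [hrs]
    conv_lhs => rw [hr', hs', map_mul, map_mul, mul_div_mul_left _ _ hdx]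
  by_cases hdeg : s'.natDegree = 0
  · rw [eq_C_of_natDegree_eq_zero hdeg, aeval_C] at hc' hs'x
    have hc0 : s'.coeff 0 ≠ 0 := by
      intro h; rw [h, map_zero] at hs'x; exact hs'x rfl
    have : c = aeval x (C (s'.coeff 0)⁻¹ * r') := by
      rw [hc', map_mul, aeval_C, div_eq_inv_mul, ← map_inv₀]
    rw [this]
    exact aeval_mem_adjoin_singleton k x
  · exfalso
    have htr : Transcendental k (aeval x s') :=
      hxt.aeval s' hdeg (mem_nonZeroDivisors_of_ne_zero (leadingCoeff_ne_zero.2 hs'0))
    obtain ⟨p, hp⟩ := exists_zero hF.1 htr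
    have hpx : p.1 x ≤ 1 := by
      by_contra hlt
      push_neg at hlt
      have := val_aeval_of_one_lt p hlt s'.natDegree s' rfl hs'0
      rw [this] at hp
      exact absurd hp (not_lt.2 (one_le_pow₀ hlt.le))
    obtain ⟨a, b, hab⟩ := hcop
    have h1 : aeval x a * aeval x r' + aeval x b * aeval x s' = 1 := by
      rw [← map_mul, ← map_mul, ← map_add, hab, map_one]
    have hr1 : p.1 (aeval x r') = 1 := by
      have hle := val_aeval_le_one p hpx r'
      rcases hle.lt_or_eq with hlt | heq
      · exfalso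
        have h2 : p.1 (1 : F) < 1 := by
          rw [← h1]
          refine lt_of_le_of_lt (Valuation.map_add _ _ _) (max_lt ?_ ?_)
          · rw [map_mul]
            calc p.1 (aeval x a) * p.1 (aeval x r') ≤ 1 * p.1 (aeval x r') :=
                  mul_le_mul' (val_aeval_le_one p hpx a) le_rfl
              _ < 1 := by rw [one_mul]; exact hlt
          · rw [map_mul]
            calc p.1 (aeval x b) * p.1 (aeval x s') ≤ 1 * p.1 (aeval x s') :=
                  mul_le_mul' (val_aeval_le_one p hpx b) le_rfl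
              _ < 1 := by rw [one_mul]; exact hp
        rw [map_one] at h2
        exact lt_irrefl _ h2
      · exact heq
    have hcv := hc p hpx
    rw [hc', map_div₀, hr1] at hcv
    have hpos : 0 < p.1 (aeval x s') := by rw [Valuation.pos_iff]; exact hs'x
    rw [div_le_iff₀ hpos, one_mul] at hcv
    exact absurd hp (not_lt.2 hcv)

end rat

section hol

variable {k F L : Type*} [Field k] [Field F] [Field L] [Algebra k F] [Algebra F L] [Algebra k L]
  [IsScalarTower k F L]

/-- the holomorphy ring: elements without finite poles are integral over `k[x]` -/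
theorem isIntegral_of_forall_le [FiniteDimensional F L] (hF : IsFunctionField k F) (x : F)
    (hx : adjoin k ({x} : Set F) = ⊤) (u : L)
    (hu : ∀ Q : Place k L, Q.1 (algebraMap F L x) ≤ 1 → Q.1 u ≤ 1) :
    IsIntegral (Algebra.adjoin k ({x} : Set F)) u := by
  have hintF : IsIntegral F u := Algebra.IsIntegral.isIntegral u
  have hcoef : ∀ i, (minpoly F u).coeff i ∈ Algebra.adjoin k ({x} : Set F) := by
    intro i
    apply mem_adjoin_of_forall_le hF x hx
    intro p hp
    letI : Algebra p.O L := ((algebraMap F L).comp p.O.subtype).toAlgebra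
    haveI : IsScalarTower p.O F L := IsScalarTower.of_algebraMap_eq (fun _ => rfl)
    have hint : IsIntegral p.O u := by
      have := (Nrm.mem_S_iff p hF u).2 (fun Q hQ => hu Q (by
        obtain ⟨e, he⟩ := hQ
        exact (isOverWith_le_one_iff he x).2 hp))
      exact this
    have := minpoly.isIntegrallyClosed_eq_field_fractions' F hint
    rw [this, coeff_map]
    exact (Place.mem_O_iff p _).1 ((minpoly p.O u).coeff i).2
  have hlift : minpoly F u ∈ lifts (algebraMap (Algebra.adjoin k ({x} : Set F)) F) :=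
    (lifts_iff_coeff_lifts _).2 (fun i => ⟨⟨_, hcoef i⟩, rfl⟩)
  obtain ⟨q, hq, -, hqm⟩ := lifts_and_degree_eq_and_monic hlift (minpoly.monic hintF)
  refine ⟨q, hqm, ?_⟩
  rw [← aeval_def, ← aeval_map_algebraMap F, hq, minpoly.aeval]

end hol

end Groth.Agent.Helper27.Sn
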