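import Mathlib
import Groth.Agent.Lib.Helper27.SnB
import Groth.Agent.Lib.Helper16.FF.NSH
import Groth.Agent.Lib.Helper16.FFW.Zeros

set_option autoImplicit false

namespace Groth.Agent.Helper27.Sn

open FunFld Polynomial IntermediateField Groth.Agent.Helper16.FFW
open scoped WithZero

section hol

variable {k F L : Type*} [Field k] [Field F] [Field L] [Algebra k F] [Algebra F L] [Algebra k L]
  [IsScalarTower k F L]

/-- the holomorphy ring, in terms of polynomials over `k[X]` -/
theorem exists_monic_of_forall_le [FiniteDimensional F L] (hF : IsFunctionField k F) (x : F)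
    (hx : adjoin k ({x} : Set F) = ⊤) (u : L)
    (hu : ∀ Q : Place k L, Q.1 (algebraMap F L x) ≤ 1 → Q.1 u ≤ 1) :
    ∃ q : k[X][X], q.Monic ∧
      q.eval₂ ((algebraMap F L).comp (aeval x : k[X] →ₐ[k] F).toRingHom) u = 0 := by
  have hintF : IsIntegral F u := Algebra.IsIntegral.isIntegral u
  have hcoef : ∀ i, (minpoly F u).coeff i ∈ Algebra.adjoin k ({x} : Set F) := by
    intro i
    apply mem_adjoin_of_forall_le hF x hx
    intro p hp
    letI : Algebra p.O L := ((algebraMap F L).comp p.O.subtype).toAlgebra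
    haveI : IsScalarTower p.O F L := IsScalarTower.of_algebraMap_eq (fun _ => rfl)
    have hint : IsIntegral p.O u := by
      have := (Nrm.mem_S_iff p hF u).2 (fun Q hQ => hu Q (by
        obtain ⟨e, he⟩ := hQ
        exact (isOverWith_le_one_iff he x).2 hp))
      exact this
    have := minpoly.isIntegrallyClosed_eq_field_fractions' F hint
    rw [this, coeff_map]
    exact (Place.mem_O_iff p _).1 ((minpoly p.O u).coeff i).2
  have hlift : minpoly F u ∈ lifts (aeval x : k[X] →ₐ[k] F).toRingHom := by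
    rw [lifts_iff_coeff_lifts]
    intro i
    have := hcoef i
    rw [Algebra.adjoin_singleton_eq_range_aeval] at this
    obtain ⟨r, hr⟩ := this
    exact ⟨r, hr⟩
  obtain ⟨q, hq, -, hqm⟩ := lifts_and_degree_eq_and_monic hlift (minpoly.monic hintF)
  refine ⟨q, hqm, ?_⟩
  rw [← eval₂_map, hq, ← aeval_def, minpoly.aeval]

end hol

section clear

variable {k K K' : Type*} [Field k] [Field K] [Field K'] [Algebra k K] [Algebra K K'] [Algebra k K']
  [IsScalarTower k K K']

/-- a function of `K`, a unit at `P`, clearing all finite poles of an element integral at `P` -/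
theorem exists_clearing_global [FiniteDimensional K K'] (hK : IsFunctionField k K) (x : K)
    (hxt : Transcendental k x) (P : Place k K) (hPx : P.1 x ≤ 1)
    [Algebra P.O K'] [IsScalarTower P.O K K'] (z : K') (hz : IsIntegral P.O z) :
    ∃ s : K, P.1 s = 1 ∧
      ∀ Q : Place k K', Q.1 (algebraMap K K' x) ≤ 1 → Q.1 (algebraMap K K' s * z) ≤ 1 := by
  classical
  have hK' : IsWeakFF k K' := isWeakFF_of_finite hK.1
  have hfin := finite_support_ord hK' z
  obtain ⟨T, hT⟩ : ∃ T : Finset (Place k K'), ∀ Q, Q ∈ T ↔ Q.ord z ≠ 0 :=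
    ⟨hfin.toFinset, fun Q => by rw [Set.Finite.mem_toFinset]; rfl⟩
  have hbelow : ∀ Q : Place k K', ∃ (P' : Place k K) (e : ℕ), IsOverWith Q P' e :=
    fun Q => exists_isOverWith hK.1 Q
  choose below eb hbe using hbelow
  obtain ⟨Pinf, hPinf⟩ := exists_pole hK.1 hxt
  have hPne : Pinf ≠ P := by
    rintro rfl
    exact absurd hPx (not_le.2 hPinf)
  set S₀ : Finset (Place k K) := (T.image below).filter (fun P' => P' ≠ Pinf ∧ P' ≠ P) with hS₀
  set S : Finset (Place k K) := insert P S₀ with hS
  have hinf : Pinf ∉ S := by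
    rw [hS, Finset.mem_insert, not_or]
    refine ⟨hPne, ?_⟩
    rw [hS₀, Finset.mem_filter]
    rintro ⟨-, h, -⟩
    exact h rfl
  set N : ℕ := ∑ Q ∈ T, (Q.ord z).natAbs with hN
  obtain ⟨s, hs1, hs2⟩ := Groth.Agent.Helper16.FF.strong_approx_finset hK Pinf S hinf
    (fun P' => if P' = P then 1 else 0) (fun P' => if P' = P then 1 else (N : ℤ))
  have hsP : P.1 s = 1 := by
    have := hs1 P (Finset.mem_insert_self _ _)
    simp only [if_true] at this
    have h1 : P.1 (s - 1) < P.1 1 := by
      rw [map_one, this]; exact Nrm.exp_neg_one_lt_one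
    rw [Valuation.map_eq_of_sub_lt P.1 h1, map_one]
  have hsS₀ : ∀ P' ∈ S₀, P'.1 s = WithZero.exp (-(N : ℤ)) := by
    intro P' hP'
    have hne : P' ≠ P := by
      rw [hS₀, Finset.mem_filter] at hP'
      exact hP'.2.2
    have := hs1 P' (Finset.mem_insert_of_mem hP')
    simp only [if_neg hne, sub_zero] at this
    exact this
  have hsle : ∀ P' : Place k K, P' ≠ Pinf → P'.1 s ≤ 1 := by
    intro P' hne
    by_cases hP'S : P' ∈ S
    · rw [hS, Finset.mem_insert] at hP'S
      rcases hP'S with rfl | h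
      · exact hsP.le
      · rw [hsS₀ P' h, ← WithZero.exp_zero, WithZero.exp_le_exp]
        omega
    · exact hs2 P' hne hP'S
  refine ⟨s, hsP, fun Q hQx => ?_⟩
  have he := hbe Q
  have hepos : 0 < eb Q := isOverWith_pos he
  have hbx : (below Q).1 x ≤ 1 := (isOverWith_le_one_iff he x).1 hQx
  have hbne : below Q ≠ Pinf := by
    intro h
    rw [h] at hbx
    exact absurd hbx (not_le.2 hPinf)
  have hQs : Q.1 (algebraMap K K' s) = (below Q).1 s ^ eb Q := he s
  rw [map_mul, hQs]
  by_cases hbP : below Q = P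
  · rw [hbP, hsP, one_pow, one_mul]
    exact (Nrm.mem_S_iff P hK z).1 hz Q ⟨eb Q, hbP ▸ he⟩
  · by_cases hQT : Q ∈ T
    · have hz0 : z ≠ 0 := by
        rintro rfl
        exact (hT Q).1 hQT (Place.ord_zero Q)
      have hmem : below Q ∈ S₀ := by
        rw [hS₀, Finset.mem_filter]
        exact ⟨Finset.mem_image_of_mem _ hQT, hbne, hbP⟩
      rw [hsS₀ _ hmem, Place.val_eq_exp_neg_ord Q hz0, ← WithZero.exp_nsmul, ← WithZero.exp_add,
        ← WithZero.exp_zero, WithZero.exp_le_exp]
      have h1 : (Q.ord z).natAbs ≤ N := by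
        rw [hN]
        exact Finset.single_le_sum (f := fun Q => (Q.ord z).natAbs) (fun _ _ => Nat.zero_le _) hQT
      have h2 : -(Q.ord z) ≤ (N : ℤ) := by
        have h3 : ((Q.ord z).natAbs : ℤ) ≤ (N : ℤ) := by exact_mod_cast h1
        omega
      have h4 : (N : ℤ) ≤ (eb Q : ℤ) * N := by
        have : (1 : ℤ) ≤ (eb Q : ℤ) := by exact_mod_cast hepos
        nlinarith [Int.natCast_nonneg N]
      rw [nsmul_eq_mul]
      nlinarith
    · have hzle : Q.1 z ≤ 1 := by
        by_cases hz0 : z = 0
        · rw [hz0, map_zero]; exact zero_le_one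
        · rw [Place.val_le_one_iff Q hz0]
          have : Q.ord z = 0 := by
            by_contra h
            exact hQT ((hT Q).2 h)
          omega
      exact mul_le_one' (pow_le_one' (hsle _ hbne) _) hzle

end clear

end Groth.Agent.Helper27.Sn
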