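import Mathlib

set_option autoImplicit false

namespace Groth.Agent.Helper27.Wl

open IntermediateField

/-- base change of a finite Galois extension: `E_r` is generated over `F₀` by `E₀` and a finite
set `S` of algebraic elements; then `E_r / F₀(S)` is Galois of degree at most `[E₀ : F₀]` -/
theorem isGalois_adjoin {F₀ E₀ Er : Type*} [Field F₀] [Field E₀] [Field Er]
    [Algebra F₀ E₀] [Algebra E₀ Er] [Algebra F₀ Er] [IsScalarTower F₀ E₀ Er]
    [FiniteDimensional F₀ E₀] [IsGalois F₀ E₀]
    (S : Set Er) [Finite S] (hS : ∀ x ∈ S, IsIntegral F₀ x)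
    (hgen : Algebra.adjoin F₀ (Set.range (algebraMap E₀ Er) ∪ S) = ⊤) :
    IsGalois (adjoin F₀ S) Er ∧
      Module.finrank (adjoin F₀ S) Er ≤ Module.finrank F₀ E₀ ∧
      FiniteDimensional (adjoin F₀ S) Er := by
  let f : E₀ →ₐ[F₀] Er := IsScalarTower.toAlgHom F₀ E₀ Er
  let EE : IntermediateField F₀ Er := f.fieldRange
  let e : E₀ ≃ₐ[F₀] EE := AlgEquiv.ofInjectiveField f
  haveI : IsGalois F₀ EE := IsGalois.of_algEquiv e
  haveI : FiniteDimensional F₀ EE := Module.Finite.equiv e.toLinearEquiv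
  have hrank : Module.finrank F₀ EE = Module.finrank F₀ E₀ := e.toLinearEquiv.finrank_eq.symm
  set LL : IntermediateField F₀ Er := adjoin F₀ S with hLL
  have hsup : EE ⊔ LL = ⊤ := by
    rw [eq_top_iff]
    intro w _
    have hw : w ∈ Algebra.adjoin F₀ (Set.range (algebraMap E₀ Er) ∪ S) := by
      rw [hgen]; trivial
    have hle : Algebra.adjoin F₀ (Set.range (algebraMap E₀ Er) ∪ S) ≤ (EE ⊔ LL).toSubalgebra := by
      apply Algebra.adjoin_le
      rintro x (⟨z, rfl⟩ | hx)
      · exact (le_sup_left : EE ≤ EE ⊔ LL) ⟨z, rfl⟩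
      · exact (le_sup_right : LL ≤ EE ⊔ LL) (subset_adjoin F₀ S hx)
    exact hle hw
  have hgal : IsGalois LL Er := IsGalois.sup_right EE LL hsup
  haveI : FiniteDimensional F₀ LL := finiteDimensional_adjoin hS
  have h1 := finrank_sup_le (E1 := EE) (E2 := LL)
  rw [hsup, finrank_top', hrank] at h1
  have h2 := Module.finrank_mul_finrank F₀ LL Er
  rw [← h2] at h1
  have hpos : 0 < Module.finrank F₀ LL := Module.finrank_pos
  have h3 : Module.finrank LL Er ≤ Module.finrank F₀ E₀ := by
    rw [mul_comm] at h1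
    exact Nat.le_of_mul_le_mul_right h1 hpos
  refine ⟨hgal, h3, ?_⟩
  -- finite dimensionality
  haveI : FiniteDimensional F₀ (EE ⊔ LL : IntermediateField F₀ Er) :=
    IntermediateField.finiteDimensional_sup EE LL
  have hfin : FiniteDimensional F₀ Er := by
    rw [hsup] at this
    exact Module.Finite.equiv (IntermediateField.topEquiv (F := F₀) (E := Er)).toLinearEquiv
  exact FiniteDimensional.right F₀ LL Er

end Groth.Agent.Helper27.Wl
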