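import Mathlib

set_option autoImplicit false

namespace Groth.Agent.Helper27.Wl

/-- orbit counting for a transitive right action on a finite set, twisted by a commuting map -/
theorem sum_card_twisted {Γ X : Type*} [Group Γ] [Fintype Γ] [DecidableEq X]
    (act : Γ → X → X) (hone : ∀ x, act 1 x = x)
    (hmul : ∀ σ τ x, act (σ * τ) x = act τ (act σ x))
    (π : X → X) (S : Finset X) (hne : S.Nonempty)
    (hS : ∀ σ, ∀ x ∈ S, act σ x ∈ S) (hπ : ∀ x ∈ S, π x ∈ S)
    (htrans : ∀ x ∈ S, ∀ y ∈ S, ∃ σ, act σ x = y) :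
    ∑ σ : Γ, (S.filter (fun x => π x = act σ x)).card = Fintype.card Γ := by
  classical
  -- swap the order of summation
  have h1 : ∑ σ : Γ, (S.filter (fun x => π x = act σ x)).card =
      ∑ x ∈ S, (Finset.univ.filter (fun σ : Γ => π x = act σ x)).card := by
    simp only [Finset.card_filter]
    rw [Finset.sum_comm]
  rw [h1]
  -- stabilisers
  let stab : X → Finset Γ := fun x => Finset.univ.filter (fun σ : Γ => act σ x = x)
  have h2 : ∀ x ∈ S, (Finset.univ.filter (fun σ : Γ => π x = act σ x)).card = (stab x).card := by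
    intro x hx
    obtain ⟨σ₀, hσ₀⟩ := htrans x hx (π x) (hπ x hx)
    apply Finset.card_bij (fun σ _ => σ * σ₀⁻¹)
    · intro σ hσ
      rw [Finset.mem_filter] at hσ ⊢
      refine ⟨Finset.mem_univ _, ?_⟩
      rw [hmul, ← hσ.2, ← hσ₀, ← hmul, mul_inv_cancel, hone]
    · intro σ _ τ _ h
      exact mul_right_cancel h
    · intro τ hτ
      rw [Finset.mem_filter] at hτ
      refine ⟨τ * σ₀, ?_, by rw [mul_assoc, mul_inv_cancel, mul_one]⟩
      rw [Finset.mem_filter]
      refine ⟨Finset.mem_univ _, ?_⟩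
      rw [hmul, hτ.2, hσ₀]
  rw [Finset.sum_congr rfl h2]
  -- all stabilisers have the same size, and `|S| * |stab| = |Γ|`
  obtain ⟨x₀, hx₀⟩ := hne
  have h3 : ∀ x ∈ S, (stab x).card = (stab x₀).card := by
    intro x hx
    obtain ⟨ρ, rfl⟩ := htrans x₀ hx₀ x hx
    apply Finset.card_bij (fun σ _ => ρ * σ * ρ⁻¹)
    · intro σ hσ
      rw [Finset.mem_filter] at hσ ⊢
      refine ⟨Finset.mem_univ _, ?_⟩
      rw [hmul, hmul, hσ.2, ← hmul, mul_inv_cancel, hone]
    · intro σ _ τ _ h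
      exact mul_left_cancel (mul_right_cancel h)
    · intro τ hτ
      rw [Finset.mem_filter] at hτ
      refine ⟨ρ⁻¹ * τ * ρ, ?_, by group⟩
      rw [Finset.mem_filter]
      refine ⟨Finset.mem_univ _, ?_⟩
      rw [hmul, hmul, ← hmul ρ ρ⁻¹, mul_inv_cancel, hone, hτ.2]
  rw [Finset.sum_congr rfl h3, Finset.sum_const, smul_eq_mul]
  -- `Γ → S`, `σ ↦ act σ x₀` has fibres of size `|stab x₀|`
  have h4 : Fintype.card Γ = ∑ x ∈ S, (Finset.univ.filter (fun σ : Γ => act σ x₀ = x)).card := by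
    rw [← Finset.card_univ]
    exact Finset.card_eq_sum_card_fiberwise (fun σ _ => hS σ x₀ hx₀)
  have h5 : ∀ x ∈ S, (Finset.univ.filter (fun σ : Γ => act σ x₀ = x)).card = (stab x₀).card := by
    intro x hx
    obtain ⟨ρ, rfl⟩ := htrans x₀ hx₀ x hx
    apply Finset.card_bij (fun σ _ => σ * ρ⁻¹)
    · intro σ hσ
      rw [Finset.mem_filter] at hσ ⊢
      refine ⟨Finset.mem_univ _, ?_⟩
      rw [hmul, hσ.2, ← hmul, mul_inv_cancel, hone]
    · intro σ _ τ _ h
      exact mul_right_cancel h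
    · intro τ hτ
      rw [Finset.mem_filter] at hτ
      refine ⟨τ * ρ, ?_, by rw [mul_assoc, mul_inv_cancel, mul_one]⟩
      rw [Finset.mem_filter]
      refine ⟨Finset.mem_univ _, ?_⟩
      rw [hmul, hτ.2]
  rw [h4, Finset.sum_congr rfl h5, Finset.sum_const, smul_eq_mul]

end Groth.Agent.Helper27.Wl
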