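import Mathlib
import Groth.Agent.Lib.Helper16.FFW.Ext2
import Groth.Agent.Lib.Helper16.FF.AutA

set_option autoImplicit false

namespace Groth.Agent.Helper27.Frob

open FunFld Groth.Agent.Helper16.FFW Polynomial
open scoped WithZero

variable {k K kb Kb : Type*} [Field k] [Field K] [Algebra k K] [Field kb] [Algebra k kb]
  [Field Kb] [Algebra K Kb] [Algebra kb Kb]

theorem val_const (Q : Place kb Kb) {c : kb} (hc : c ≠ 0) : Q.1 (algebraMap kb Kb c) = 1 :=
  val_algebraMap_of_le Q.1 Q.2.1 hc

theorem lt_iff_of_le_iff (Q : Place kb Kb) {P : Place k K}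
    (hle : ∀ x : K, Q.1 (algebraMap K Kb x) ≤ 1 ↔ P.1 x ≤ 1) (x : K) :
    Q.1 (algebraMap K Kb x) < 1 ↔ P.1 x < 1 := by
  by_cases hx : x = 0
  · subst hx; simp
  have hx' : algebraMap K Kb x ≠ 0 := (_root_.map_ne_zero _).2 hx
  have h1 := hle x⁻¹
  rw [map_inv₀ (algebraMap K Kb), map_inv₀ Q.1, map_inv₀ P.1] at h1
  have hq : 0 < Q.1 (algebraMap K Kb x) := by rw [Valuation.pos_iff]; exact hx'
  have hp : 0 < P.1 x := by rw [Valuation.pos_iff]; exact hx
  rw [inv_le_one₀ hq, inv_le_one₀ hp] at h1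
  rw [← not_le, ← not_le, h1]

theorem deg_eq_one_of_forall (P : Place k K)
    (h : ∀ f : K, P.1 f ≤ 1 → ∃ c : k, P.1 (f - algebraMap k K c) < 1) : P.deg = 1 := by
  have hsurj : Function.Surjective (algebraMap k (IsLocalRing.ResidueField P.O)) := by
    intro y
    obtain ⟨f, rfl⟩ := IsLocalRing.residue_surjective y
    obtain ⟨c, hc⟩ := h f.1 ((Valuation.mem_valuationSubring_iff _ _).1 f.2)
    refine ⟨c, ?_⟩
    show IsLocalRing.residue P.O (algebraMap k P.O c) = IsLocalRing.residue P.O f
    rw [eq_comm, ← sub_eq_zero, ← map_sub, Place.residue_eq_zero_iff]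
    exact hc
  have hinj : Function.Injective (algebraMap k (IsLocalRing.ResidueField P.O)) :=
    (algebraMap k (IsLocalRing.ResidueField P.O)).injective
  let e : k ≃ₗ[k] IsLocalRing.ResidueField P.O :=
    LinearEquiv.ofBijective (Algebra.linearMap k (IsLocalRing.ResidueField P.O)) ⟨hinj, hsurj⟩
  have h1 := e.finrank_eq
  rw [Module.finrank_self] at h1
  exact h1.symm

/-- key valuation computation at a place of degree one -/
theorem val_sum_eq (Q : Place kb Kb) {ι : Type*} (B : Module.Basis ι k kb)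
    (hc : ∀ c : k, algebraMap K Kb (algebraMap k K c) = algebraMap kb Kb (algebraMap k kb c))
    (hK : IsFunctionField k K) {P : Place k K} (hP : P.deg = 1)
    (hle : ∀ x : K, Q.1 (algebraMap K Kb x) ≤ 1 ↔ P.1 x ≤ 1)
    (s : Finset ι) (x : ι → K) (j : ι) (hj : j ∈ s) (hmax : ∀ i ∈ s, P.1 (x i) ≤ P.1 (x j)) :
    Q.1 (∑ i ∈ s, algebraMap K Kb (x i) * algebraMap kb Kb (B i)) =
      Q.1 (algebraMap K Kb (x j)) := by
  classical
  by_cases hxj : x j = 0
  · have h0 : ∀ i ∈ s, x i = 0 := by
      intro i hi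
      have := hmax i hi
      rw [hxj, map_zero] at this
      exact (map_eq_zero P.1).1 (le_antisymm this zero_le')
    rw [Finset.sum_eq_zero (fun i hi => by rw [h0 i hi, map_zero, zero_mul]), hxj]
    simp
  have hlt := lt_iff_of_le_iff Q hle
  have hpj : 0 < P.1 (x j) := by rw [Valuation.pos_iff]; exact hxj
  have hu : ∀ i ∈ s, P.1 (x i / x j) ≤ 1 := by
    intro i hi
    rw [map_div₀]
    exact (div_le_one₀ hpj).2 (hmax i hi)
  have hex : ∀ i, ∃ a : k, i ∈ s → P.1 (x i / x j - algebraMap k K a) < 1 := by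
    intro i
    by_cases hi : i ∈ s
    · obtain ⟨a, ha⟩ := Groth.Agent.Helper16.FF.exists_const_sub_lt_one hK hP (hu i hi)
      exact ⟨a, fun _ => ha⟩
    · exact ⟨0, fun h => absurd h hi⟩
  choose a ha using hex
  have haj : a j ≠ 0 := by
    intro h0
    have := ha j hj
    rw [h0, map_zero, sub_zero, div_self hxj, map_one] at this
    exact lt_irrefl _ this
  set c : kb := ∑ i ∈ s, a i • B i with hcdef
  have hc0 : c ≠ 0 := by
    intro h0
    exact haj ((linearIndependent_iff'.1 B.linearIndependent) s a h0 j hj)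
  have hxj' : algebraMap K Kb (x j) ≠ 0 := (_root_.map_ne_zero _).2 hxj
  have hsplit : ∑ i ∈ s, algebraMap K Kb (x i) * algebraMap kb Kb (B i) =
      algebraMap K Kb (x j) * (algebraMap kb Kb c +
        ∑ i ∈ s, algebraMap K Kb (x i / x j - algebraMap k K (a i)) * algebraMap kb Kb (B i)) := by
    rw [hcdef, map_sum, ← Finset.sum_add_distrib, Finset.mul_sum]
    refine Finset.sum_congr rfl (fun i _ => ?_)
    rw [Algebra.smul_def, map_mul, ← hc, map_sub, map_div₀]
    field_simp
    ring
  rw [hsplit, map_mul]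
  have h1 : Q.1 (algebraMap kb Kb c) = 1 := val_const Q hc0
  have h2 : Q.1 (∑ i ∈ s, algebraMap K Kb (x i / x j - algebraMap k K (a i)) *
      algebraMap kb Kb (B i)) < 1 := by
    refine Valuation.map_sum_lt Q.1 one_ne_zero (fun i hi => ?_)
    rw [map_mul]
    exact lt_of_le_of_lt (mul_le_of_le_one_right' (Q.2.1 (B i))) ((hlt _).2 (ha i hi))
  have h3 := Valuation.map_add_eq_of_lt_left Q.1 (x := algebraMap kb Kb c)
    (y := ∑ i ∈ s, algebraMap K Kb (x i / x j - algebraMap k K (a i)) * algebraMap kb Kb (B i))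
    (by rw [h1]; exact h2)
  rw [h3, h1, mul_one]

theorem span_basis_eq_top {ι : Type*} (B : Module.Basis ι k kb)
    (hc : ∀ c : k, algebraMap K Kb (algebraMap k K c) = algebraMap kb Kb (algebraMap k kb c))
    (hgen : Algebra.adjoin K (Set.range (algebraMap kb Kb)) = ⊤) :
    Submodule.span K (Set.range fun i => algebraMap kb Kb (B i)) = ⊤ := by
  classical
  have h1 : (Algebra.adjoin K (Set.range (algebraMap kb Kb))).toSubmodule =
      Submodule.span K (Set.range (algebraMap kb Kb)) := by
    rw [Algebra.adjoin_eq_span]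
    congr 1
    have : Set.range (algebraMap kb Kb) =
        ((MonoidHom.mrange ((algebraMap kb Kb).toMonoidHom) : Submonoid Kb) : Set Kb) := rfl
    rw [this, Submonoid.closure_eq]
  have h2 : Submodule.span K (Set.range (algebraMap kb Kb)) ≤
      Submodule.span K (Set.range fun i => algebraMap kb Kb (B i)) := by
    apply Submodule.span_le.2
    rintro _ ⟨d, rfl⟩
    have hd : d = ∑ i ∈ (B.repr d).support, (B.repr d i) • B i := by
      conv_lhs => rw [← B.linearCombination_repr d]
      rw [Finsupp.linearCombination_apply, Finsupp.sum]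
    rw [hd, map_sum]
    refine Submodule.sum_mem _ (fun i _ => ?_)
    rw [Algebra.smul_def, map_mul, ← hc]
    have : algebraMap K Kb (algebraMap k K (B.repr d i)) * algebraMap kb Kb (B i) =
        (algebraMap k K (B.repr d i)) • algebraMap kb Kb (B i) := by
      rw [Algebra.smul_def]
    rw [this]
    exact Submodule.smul_mem _ _ (Submodule.subset_span ⟨i, rfl⟩)
  rw [eq_top_iff]
  intro z _
  apply h2
  rw [← h1, hgen]
  trivial

/-- `v_Q (F z) = v_Q(z) ^ q` at a place over a place of degree one -/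
theorem val_frob [Finite k]
    (hc : ∀ c : k, algebraMap K Kb (algebraMap k K c) = algebraMap kb Kb (algebraMap k kb c))
    (hgen : Algebra.adjoin K (Set.range (algebraMap kb Kb)) = ⊤)
    (hK : IsFunctionField k K)
    (F : Kb →+* Kb) (hF1 : ∀ c : kb, F (algebraMap kb Kb c) = algebraMap kb Kb c)
    (hF2 : ∀ x : K, F (algebraMap K Kb x) = algebraMap K Kb x ^ Nat.card k)
    (Q : Place kb Kb) {P : Place k K} (hP : P.deg = 1)
    (hle : ∀ x : K, Q.1 (algebraMap K Kb x) ≤ 1 ↔ P.1 x ≤ 1) (z : Kb) :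
    Q.1 (F z) = Q.1 z ^ Nat.card k := by
  classical
  have hq : 0 < Nat.card k := Nat.card_pos
  let B := Module.Basis.ofVectorSpace k kb
  have hz : z ∈ Submodule.span K (Set.range fun i => algebraMap kb Kb (B i)) := by
    rw [span_basis_eq_top B hc hgen]; trivial
  obtain ⟨c, hcz⟩ := Finsupp.mem_span_range_iff_exists_finsupp.1 hz
  have hz' : z = ∑ i ∈ c.support, algebraMap K Kb (c i) * algebraMap kb Kb (B i) := by
    rw [← hcz, Finsupp.sum]
    refine Finset.sum_congr rfl (fun i _ => ?_)
    rw [Algebra.smul_def]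
  by_cases hne : c.support.Nonempty
  · obtain ⟨j, hj, hmax⟩ := Finset.exists_max_image c.support (fun i => P.1 (c i)) hne
    have hFz : F z = ∑ i ∈ c.support,
        algebraMap K Kb ((fun i => c i ^ Nat.card k) i) * algebraMap kb Kb (B i) := by
      rw [hz', map_sum]
      refine Finset.sum_congr rfl (fun i _ => ?_)
      rw [map_mul, hF1, hF2, map_pow]
    rw [hFz, val_sum_eq Q B hc hK hP hle c.support (fun i => c i ^ Nat.card k) j hj
      (fun i hi => by
        show P.1 (c i ^ Nat.card k) ≤ P.1 (c j ^ Nat.card k)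
        rw [map_pow, map_pow]
        exact pow_le_pow_left' (hmax i hi) _)]
    rw [hz', val_sum_eq Q B hc hK hP hle c.support (fun i => c i) j hj hmax]
    show Q.1 (algebraMap K Kb (c j ^ Nat.card k)) = _
    rw [map_pow, map_pow]
  · rw [Finset.not_nonempty_iff_eq_empty] at hne
    rw [hne, Finset.sum_empty] at hz'
    rw [hz', map_zero, map_zero, zero_pow hq.ne']

end Groth.Agent.Helper27.Frob
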