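import Mathlib
import Groth.Agent.Lib.Helper27.FrobA

set_option autoImplicit false

namespace Groth.Agent.Helper27.Frob

open FunFld Groth.Agent.Helper16.FFW Polynomial
open scoped WithZero

variable {k K kb Kb : Type*} [Field k] [Field K] [Algebra k K] [Field kb] [Algebra k kb]
  [Field Kb] [Algebra K Kb] [Algebra kb Kb]

theorem comp_eq
    (hc : ∀ c : k, algebraMap K Kb (algebraMap k K c) = algebraMap kb Kb (algebraMap k kb c)) :
    (algebraMap K Kb).comp (algebraMap k K) = (algebraMap kb Kb).comp (algebraMap k kb) :=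
  RingHom.ext hc

theorem isIntegral_all [Algebra.IsAlgebraic k kb]
    (hc : ∀ c : k, algebraMap K Kb (algebraMap k K c) = algebraMap kb Kb (algebraMap k kb c))
    (hgen : Algebra.adjoin K (Set.range (algebraMap kb Kb)) = ⊤) (z : Kb) : IsIntegral K z := by
  have hz : z ∈ Algebra.adjoin K (Set.range (algebraMap kb Kb)) := by rw [hgen]; trivial
  have hle : Algebra.adjoin K (Set.range (algebraMap kb Kb)) ≤ integralClosure K Kb := by
    apply Algebra.adjoin_le
    rintro _ ⟨d, rfl⟩
    have hd : IsIntegral k d := (Algebra.IsAlgebraic.isAlgebraic d).isIntegral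
    obtain ⟨p, hpm, hp⟩ := hd
    refine ⟨p.map (algebraMap k K), hpm.map _, ?_⟩
    rw [Polynomial.eval₂_map, comp_eq hc, ← Polynomial.hom_eval₂, hp, map_zero]
  exact hle hz

theorem exists_below (hK : IsFunctionField k K) [Algebra.IsAlgebraic k kb]
    (hc : ∀ c : k, algebraMap K Kb (algebraMap k K c) = algebraMap kb Kb (algebraMap k kb c))
    (hgen : Algebra.adjoin K (Set.range (algebraMap kb Kb)) = ⊤) (Q : Place kb Kb) :
    ∃ P : Place k K, (∀ y, P.1 y ≤ 1 ↔ Q.1 (algebraMap K Kb y) ≤ 1) ∧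
      (∀ y, P.1 y < 1 ↔ Q.1 (algebraMap K Kb y) < 1) := by
  classical
  set w : Valuation K ℤᵐ⁰ := Q.1.comap (algebraMap K Kb) with hw
  have hwk : ∀ c : k, w (algebraMap k K c) ≤ 1 := by
    intro c
    show Q.1 (algebraMap K Kb (algebraMap k K c)) ≤ 1
    rw [hc]; exact Q.2.1 _
  obtain ⟨c, hc1⟩ : ∃ c : K, 1 < w c := by
    by_contra hcon
    push Not at hcon
    obtain ⟨z, hz⟩ := Q.2.2 (WithZero.exp (-1 : ℤ))
    have hz0 : z ≠ 0 := by
      rintro rfl; rw [map_zero] at hz; exact WithZero.exp_ne_zero.symm hz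
    have halg : IsAlgebraic K z := (isIntegral_all hc hgen z).isAlgebraic
    have := val_eq_one_of_isAlgebraic' (k := K) Q.1 hcon hz0 halg
    rw [this, ← WithZero.exp_zero, WithZero.exp_inj] at hz
    omega
  have hc0 : c ≠ 0 := by
    rintro rfl; rw [map_zero] at hc1; exact absurd hc1 (by simp)
  have hx1 : w c⁻¹ < 1 := by
    rw [map_inv₀]
    exact inv_lt_one_of_one_lt₀ hc1
  have hxtr : Transcendental k c⁻¹ := by
    intro halg
    have := val_eq_one_of_isAlgebraic' w hwk (inv_ne_zero hc0) halg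
    rw [this] at hx1
    exact lt_irrefl _ hx1
  set B := w.valuationSubring with hB
  have hBk : ∀ c : k, algebraMap k K c ∈ B := fun c => hwk c
  have hBw : ∀ y : K, B.valuation y < 1 ↔ w y < 1 := fun y =>
    ((Valuation.isEquiv_valuation_valuationSubring w).lt_one_iff_lt_one).symm
  obtain ⟨P, hP1, hP2⟩ := exists_place_of_valuationSubring hK.1 B hBk hxtr ((hBw _).2 hx1)
  exact ⟨P, fun y => hP1 y, fun y => (hP2 y).trans (hBw y)⟩

theorem mem_range_of_pow_card [Finite k] {c : kb} (h : c ^ Nat.card k = c) :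
    c ∈ Set.range (algebraMap k kb) := by
  classical
  haveI : Fintype k := Fintype.ofFinite k
  have hq1 : 1 < Nat.card k := Finite.one_lt_card
  set p : kb[X] := X ^ Nat.card k - X with hp
  have hp0 : p ≠ 0 := FiniteField.X_pow_card_sub_X_ne_zero kb hq1
  have hdeg : p.natDegree = Nat.card k := FiniteField.X_pow_card_sub_X_natDegree_eq kb hq1
  set T : Finset kb := Finset.univ.image (algebraMap k kb) with hT
  have hTS : T ⊆ p.roots.toFinset := by
    intro x hx
    obtain ⟨a, _, rfl⟩ := Finset.mem_image.1 hx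
    rw [Multiset.mem_toFinset, mem_roots hp0, IsRoot.def, hp, eval_sub, eval_pow, eval_X,
      ← map_pow, Nat.card_eq_fintype_card, FiniteField.pow_card, sub_self]
  have hcardT : T.card = Nat.card k := by
    rw [hT, Finset.card_image_of_injective _ (algebraMap k kb).injective, Finset.card_univ,
      Nat.card_eq_fintype_card]
  have hcardS : p.roots.toFinset.card ≤ Nat.card k := by
    calc p.roots.toFinset.card ≤ p.roots.card := Multiset.toFinset_card_le _
      _ ≤ p.natDegree := card_roots' p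
      _ = _ := hdeg
  have hEq : T = p.roots.toFinset :=
    Finset.eq_of_subset_of_card_le hTS (by rw [hcardT]; exact hcardS)
  have hcS : c ∈ p.roots.toFinset := by
    rw [Multiset.mem_toFinset, mem_roots hp0, IsRoot.def, hp, eval_sub, eval_pow, eval_X, h,
      sub_self]
  rw [← hEq] at hcS
  obtain ⟨a, _, ha⟩ := Finset.mem_image.1 hcS
  exact ⟨a, ha⟩

/-- a constant congruent to `f` modulo `Q` -/
theorem exists_const_congr [IsAlgClosed kb] (hK : IsFunctionField k K)
    (hc : ∀ c : k, algebraMap K Kb (algebraMap k K c) = algebraMap kb Kb (algebraMap k kb c))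
    (Q : Place kb Kb) {P : Place k K}
    (hP1 : ∀ y, P.1 y ≤ 1 ↔ Q.1 (algebraMap K Kb y) ≤ 1)
    (hP2 : ∀ y, P.1 y < 1 ↔ Q.1 (algebraMap K Kb y) < 1) {f : K} (hf : P.1 f ≤ 1) :
    ∃ c : kb, Q.1 (algebraMap K Kb f - algebraMap kb Kb c) < 1 := by
  have hfd := Groth.Agent.Helper16.FF.Place.finiteDimensional_residueField hK P
  haveI : Algebra.IsIntegral k (IsLocalRing.ResidueField P.O) :=
    @Algebra.IsIntegral.of_finite k (IsLocalRing.ResidueField P.O) _ _ (Place.algRes P) hfd
  set fO : P.O := ⟨f, (Valuation.mem_valuationSubring_iff _ _).2 hf⟩ with hfO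
  have hr : IsIntegral k (IsLocalRing.residue P.O fO) := Algebra.IsIntegral.isIntegral _
  obtain ⟨m, hmm, hm⟩ := hr
  -- `P (m(f)) < 1`
  have hg : P.1 (m.eval₂ (algebraMap k K) f) < 1 := by
    have h1 : IsLocalRing.residue P.O (m.eval₂ (algebraMap k P.O) fO) = 0 := by
      rw [Polynomial.hom_eval₂]
      exact hm
    rw [Place.residue_eq_zero_iff] at h1
    have h2 : ((m.eval₂ (algebraMap k P.O) fO : P.O) : K) = m.eval₂ (algebraMap k K) f := by
      have := Polynomial.hom_eval₂ m (algebraMap k P.O) P.O.subtype fO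
      exact this
    rw [h2] at h1
    exact h1
  have hg' : Q.1 (m.eval₂ ((algebraMap kb Kb).comp (algebraMap k kb)) (algebraMap K Kb f)) < 1 := by
    have := (hP2 _).1 hg
    rw [Polynomial.hom_eval₂, comp_eq hc] at this
    exact this
  have hfQ : Q.1 (algebraMap K Kb f) ≤ 1 := (hP1 f).1 hf
  set fQ : Q.O := ⟨algebraMap K Kb f, (Valuation.mem_valuationSubring_iff _ _).2 hfQ⟩ with hfQdef
  have hint : IsIntegral kb (IsLocalRing.residue Q.O fQ) := by
    refine ⟨m.map (algebraMap k kb), hmm.map _, ?_⟩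
    rw [Polynomial.eval₂_map]
    have h1 : IsLocalRing.residue Q.O
        (m.eval₂ ((algebraMap kb Q.O).comp (algebraMap k kb)) fQ) = 0 := by
      rw [Place.residue_eq_zero_iff]
      have h2 : ((m.eval₂ ((algebraMap kb Q.O).comp (algebraMap k kb)) fQ : Q.O) : Kb) =
          m.eval₂ ((algebraMap kb Kb).comp (algebraMap k kb)) (algebraMap K Kb f) := by
        have := Polynomial.hom_eval₂ m ((algebraMap kb Q.O).comp (algebraMap k kb)) Q.O.subtype fQ
        exact this
      rw [h2]
      exact hg'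
    rw [Polynomial.hom_eval₂] at h1
    exact h1
  have hdeg := IsAlgClosed.degree_eq_one_of_irreducible kb (minpoly.irreducible hint)
  obtain ⟨c, hcc⟩ := minpoly.mem_range_of_degree_eq_one kb _ hdeg
  refine ⟨c, ?_⟩
  have h3 : IsLocalRing.residue Q.O (fQ - algebraMap kb Q.O c) = 0 := by
    rw [map_sub, sub_eq_zero]
    exact hcc.symm
  rw [Place.residue_eq_zero_iff] at h3
  exact h3

theorem main11068 [Finite k] [IsAlgClosure k kb]
    (hK : IsFunctionField k K)
    (hc : ∀ c : k, algebraMap K Kb (algebraMap k K c) = algebraMap kb Kb (algebraMap k kb c))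
    (hgen : Algebra.adjoin K (Set.range (algebraMap kb Kb)) = ⊤)
    (F : Kb →+* Kb) (hF1 : ∀ c : kb, F (algebraMap kb Kb c) = algebraMap kb Kb c)
    (hF2 : ∀ x : K, F (algebraMap K Kb x) = algebraMap K Kb x ^ Nat.card k)
    (Q : Place kb Kb) :
    (∀ z : Kb, Q.1 (F z) < 1 ↔ Q.1 z < 1) ↔
      ∃ P : Place k K, (∀ x : K, Q.1 (algebraMap K Kb x) ≤ 1 ↔ P.1 x ≤ 1) ∧ P.deg = 1 := by
  constructor
  · intro hfix
    haveI : Algebra.IsAlgebraic k kb := IsAlgClosure.isAlgebraic
    haveI : IsAlgClosed kb := IsAlgClosure.isAlgClosed k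
    obtain ⟨P, hP1, hP2⟩ := exists_below hK hc hgen Q
    refine ⟨P, fun x => (hP1 x).symm, ?_⟩
    apply deg_eq_one_of_forall
    intro f hf
    obtain ⟨c, hcf⟩ := exists_const_congr hK hc Q hP1 hP2 hf
    have hfQ : Q.1 (algebraMap K Kb f) ≤ 1 := (hP1 f).1 hf
    have h1 : Q.1 (algebraMap K Kb f ^ Nat.card k - algebraMap kb Kb c) < 1 := by
      have := (hfix _).2 hcf
      rw [map_sub, hF2, hF1] at this
      exact this
    have h2 : Q.1 (algebraMap K Kb f ^ Nat.card k - algebraMap kb Kb c ^ Nat.card k) < 1 := by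
      rw [← geom_sum₂_mul, map_mul]
      refine lt_of_le_of_lt (mul_le_of_le_one_left' ?_) hcf
      refine Valuation.map_sum_le Q.1 (fun i _ => ?_)
      rw [map_mul, map_pow, map_pow]
      exact mul_le_one' (pow_le_one' hfQ _) (pow_le_one' (Q.2.1 c) _)
    have h3 : Q.1 (algebraMap kb Kb (c ^ Nat.card k - c)) < 1 := by
      have : algebraMap kb Kb (c ^ Nat.card k - c) =
          (algebraMap K Kb f ^ Nat.card k - algebraMap kb Kb c) -
            (algebraMap K Kb f ^ Nat.card k - algebraMap kb Kb c ^ Nat.card k) := by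
        rw [map_sub, map_pow]; ring
      rw [this]
      exact Valuation.map_sub_lt Q.1 h1 h2
    have hcq : c ^ Nat.card k = c := by
      by_contra hne
      have := val_const Q (sub_ne_zero.2 hne)
      rw [this] at h3
      exact lt_irrefl _ h3
    obtain ⟨a, ha⟩ := mem_range_of_pow_card (k := k) hcq
    refine ⟨a, ?_⟩
    rw [hP2, map_sub, hc, ha]
    exact hcf
  · rintro ⟨P, hle, hP⟩ z
    rw [val_frob hc hgen hK F hF1 hF2 Q hP hle z]
    exact pow_lt_one_iff (Nat.card_pos.ne')

end Groth.Agent.Helper27.Frob
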