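import Mathlib
import Groth.Agent.Lib.Helper16.FFW.RatPlace
import Groth.Agent.Lib.Helper16.FF.AutA

set_option autoImplicit false

namespace Groth.Agent.Helper27.Sep

open FunFld Polynomial
open scoped WithZero

variable {k K : Type*} [Field k] [Field K] [Algebra k K]

/-- at a finite place of `x`, some monic polynomial in `x` has positive order -/
theorem exists_monic_val_lt_one (hK : IsFunctionField k K) (P : Place k K) {f : K} (hf : P.1 f ≤ 1) :
    ∃ m : k[X], m.Monic ∧ P.1 (aeval f m) < 1 := by
  have hfd := Groth.Agent.Helper16.FF.Place.finiteDimensional_residueField hK P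
  haveI : Algebra.IsIntegral k (IsLocalRing.ResidueField P.O) :=
    @Algebra.IsIntegral.of_finite k (IsLocalRing.ResidueField P.O) _ _ (Place.algRes P) hfd
  set fO : P.O := ⟨f, (Valuation.mem_valuationSubring_iff _ _).2 hf⟩ with hfO
  have hr : IsIntegral k (IsLocalRing.residue P.O fO) := Algebra.IsIntegral.isIntegral _
  obtain ⟨m, hmm, hm⟩ := hr
  refine ⟨m, hmm, ?_⟩
  have h1 : IsLocalRing.residue P.O (m.eval₂ (algebraMap k P.O) fO) = 0 := by
    rw [Polynomial.hom_eval₂]
    exact hm
  rw [Groth.Agent.Helper16.FFW.Place.residue_eq_zero_iff] at h1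
  have h2 : ((m.eval₂ (algebraMap k P.O) fO : P.O) : K) = m.eval₂ (algebraMap k K) f := by
    have := Polynomial.hom_eval₂ m (algebraMap k P.O) P.O.subtype fO
    exact this
  rw [h2] at h1
  exact h1

/-- a function field of one variable has infinitely many places -/
theorem infinite_places (hK : IsFunctionField k K) : Infinite (Place k K) := by
  classical
  by_contra hfin
  rw [not_infinite_iff_finite] at hfin
  haveI : Fintype (Place k K) := Fintype.ofFinite _
  obtain ⟨x, hx, -⟩ := hK.1
  have hex : ∀ P : Place k K, ∃ m : k[X], m.Monic ∧ (P.1 x ≤ 1 → P.1 (aeval x m) < 1) := by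
    intro P
    by_cases hP : P.1 x ≤ 1
    · obtain ⟨m, hm, hm'⟩ := exists_monic_val_lt_one hK P hP
      exact ⟨m, hm, fun _ => hm'⟩
    · exact ⟨1, monic_one, fun h => absurd h hP⟩
  choose p hpm hp using hex
  set Pi0 : k[X] := ∏ P : Place k K, p P with hPi0
  have hPi0m : Pi0.Monic := monic_prod_of_monic _ _ (fun P _ => hpm P)
  set q : k[X] := X * Pi0 + 1 with hq
  have hXPi0 : (X * Pi0).Monic := monic_X.mul hPi0m
  have hdeg1 : (X * Pi0).natDegree = 1 + Pi0.natDegree := by
    rw [Monic.natDegree_mul monic_X hPi0m, natDegree_X]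
  have hqdeg : q.natDegree = 1 + Pi0.natDegree := by
    rw [hq, natDegree_add_eq_left_of_natDegree_lt, hdeg1]
    rw [natDegree_one, hdeg1]; omega
  have hq0 : q ≠ 0 := by
    intro h0
    rw [h0, natDegree_zero] at hqdeg
    omega
  have htr : Transcendental k (aeval x q) :=
    hx.aeval q (by rw [hqdeg]; omega)
      (mem_nonZeroDivisors_of_ne_zero (leadingCoeff_ne_zero.2 hq0))
  obtain ⟨P, hP⟩ := Groth.Agent.Helper16.FF.exists_zero hK htr
  have hPx : P.1 x ≤ 1 := by
    by_contra hcon
    push Not at hcon
    have := Groth.Agent.Helper16.FFW.val_aeval_of_one_lt P hcon _ q rfl hq0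
    rw [this] at hP
    exact absurd hP (not_lt.2 (one_le_pow₀ hcon.le))
  have h1 : P.1 (aeval x (X * Pi0)) < 1 := by
    rw [map_mul, aeval_X, map_mul, hPi0, map_prod, map_prod,
      ← Finset.mul_prod_erase Finset.univ _ (Finset.mem_univ P), ← mul_assoc, mul_comm (P.1 x),
      mul_assoc]
    refine lt_of_le_of_lt (mul_le_of_le_one_right' ?_) (hp P hPx)
    refine mul_le_one' hPx (Finset.prod_le_one' fun P' _ => ?_)
    exact Groth.Agent.Helper16.FFW.val_aeval_le_one P hPx _
  have h2 : P.1 (1 : K) < 1 := by
    have : (1 : K) = aeval x q - aeval x (X * Pi0) := by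
      rw [hq, map_add, map_one]; ring
    rw [this]
    exact Valuation.map_sub_lt P.1 hP h1
  rw [map_one] at h2
  exact lt_irrefl _ h2

theorem main11004_perfect [PerfectField k] (hK : IsFunctionField k K) :
    {P : Place k K | Algebra.IsSeparable k (IsLocalRing.ResidueField P.O)}.Infinite := by
  haveI := infinite_places hK
  have : {P : Place k K | Algebra.IsSeparable k (IsLocalRing.ResidueField P.O)} = Set.univ := by
    ext P
    simp only [Set.mem_setOf_eq, Set.mem_univ, iff_true]
    have hfd := Groth.Agent.Helper16.FF.Place.finiteDimensional_residueField hK P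
    haveI : Algebra.IsIntegral k (IsLocalRing.ResidueField P.O) :=
      @Algebra.IsIntegral.of_finite k (IsLocalRing.ResidueField P.O) _ _ (Place.algRes P) hfd
    haveI : Algebra.IsAlgebraic k (IsLocalRing.ResidueField P.O) := Algebra.IsIntegral.isAlgebraic
    exact Algebra.IsAlgebraic.isSeparable_of_perfectField
  rw [this]
  exact Set.infinite_univ

end Groth.Agent.Helper27.Sep
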