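import Groth.Agent.Lib.Helper27.RHa
import Groth.Agent.Lib.Helper16.FFW.Ext3

/-! Riemann–Hurwitz, part B: places over a bigger constant field, the fundamental identity. -/

set_option autoImplicit false

namespace Groth.Agent.Helper27.RH

open FunFld
open scoped WithZero

universe u v w

section toK

variable {k : Type u} {k' : Type u} {K' : Type v} [Field k] [Field k'] [Field K']
  [Algebra k k'] [Algebra k' K'] [Algebra k K'] [IsScalarTower k k' K']

/-- restriction of the constant field -/
def toK (Q : Place k' K') : Place k K' :=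
  ⟨Q.1, fun c => by rw [IsScalarTower.algebraMap_apply k k' K']; exact Q.2.1 _, Q.2.2⟩

theorem toK_val (Q : Place k' K') : (toK Q : Place k K').1 = Q.1 := rfl

theorem toK_injective : Function.Injective (toK : Place k' K' → Place k K') := by
  intro Q Q' h
  apply Subtype.ext
  exact congrArg (fun R : Place k K' => R.1) h

theorem toK_surjective [Algebra.IsAlgebraic k k'] :
    Function.Surjective (toK : Place k' K' → Place k K') := by
  intro Q'
  refine ⟨⟨Q'.1, fun c => ?_, Q'.2.2⟩, rfl⟩
  have hc : IsIntegral k (algebraMap k' K' c) :=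
    ((Algebra.IsAlgebraic.isAlgebraic (R := k) c).isIntegral).map
      (IsScalarTower.toAlgHom k k' K')
  exact Groth.Agent.Helper16.FFW.Place.val_le_one_of_isIntegral Q' hc

theorem deg_toK (Q : Place k' K') :
    (toK Q : Place k K').deg = Module.finrank k k' * Q.deg := by
  letI : Algebra k Q.O := Place.algO (toK Q : Place k K')
  haveI : IsScalarTower k k' Q.O :=
    IsScalarTower.of_algebraMap_eq (fun c =>
      Subtype.ext (IsScalarTower.algebraMap_apply k k' K' c))
  exact (Module.finrank_mul_finrank k k' (IsLocalRing.ResidueField Q.O)).symm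

end toK

section fiber

variable {k : Type u} {k' : Type u} {K : Type v} {K' : Type v} [Field k] [Field k'] [Field K]
  [Field K'] [Algebra k k'] [Algebra k K] [Algebra K K'] [Algebra k' K'] [Algebra k K']
  [IsScalarTower k k' K'] [IsScalarTower k K K'] [FiniteDimensional k k'] [FiniteDimensional K K']

/-- the fundamental identity `∑ e f = n`, with degrees over the bigger constant field -/
theorem fiber_sum (hK : IsFunctionField k K)
    (below : Place k' K' → Place k K) (e : Place k' K' → ℕ)
    (he : ∀ Q (z : K), Q.1 (algebraMap K K' z) = (below Q).1 z ^ e Q) (P : Place k K) :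
    {Q : Place k' K' | below Q = P}.Finite ∧
    ∀ Qs : Finset (Place k' K'), (∀ Q, Q ∈ Qs ↔ below Q = P) →
      (Module.finrank k k' : ℤ) * ∑ Q ∈ Qs, (e Q : ℤ) * (Q.deg : ℤ) =
        (Module.finrank K K' : ℤ) * (P.deg : ℤ) := by
  classical
  obtain ⟨hfin, hsum⟩ := Groth.Agent.Helper16.FFW.sum_ramIdx_mul_deg (K' := K') hK P
  have hov : ∀ Q : Place k' K', IsOverWith (toK Q : Place k K') (below Q) (e Q) := fun Q => he Q
  have hfib : {Q : Place k' K' | below Q = P}.Finite := by
    refine (hfin.preimage (Set.injOn_of_injective toK_injective)).subset ?_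
    intro Q hQ
    show IsOver (toK Q : Place k K') P
    rw [← (hQ : below Q = P)]
    exact ⟨e Q, hov Q⟩
  refine ⟨hfib, fun Qs hQs => ?_⟩
  have h := hsum (Qs.map ⟨toK, toK_injective⟩) (by
    intro Q'
    rw [Finset.mem_map]
    constructor
    · rintro ⟨Q, hQ, rfl⟩
      rw [hQs] at hQ
      rw [← hQ]
      exact ⟨e Q, hov Q⟩
    · rintro ⟨e', he'⟩
      obtain ⟨Q, rfl⟩ := toK_surjective (k := k) (k' := k') Q'
      refine ⟨Q, ?_, rfl⟩
      rw [hQs]
      exact (Groth.Agent.Helper16.FFW.isOverWith_unique (hov Q) he').1)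
  rw [Finset.sum_map] at h
  have h' : ∑ Q ∈ Qs, e Q * (Module.finrank k k' * Q.deg) = Module.finrank K K' * P.deg := by
    rw [← h]
    refine Finset.sum_congr rfl fun Q hQ => ?_
    have hQP : below Q = P := (hQs Q).1 hQ
    show _ = ramIdx (toK Q : Place k K') P * (toK Q : Place k K').deg
    rw [deg_toK, ← hQP, Groth.Agent.Helper16.FFW.ramIdx_eq (hov Q)]
  have h'' := congrArg (fun n : ℕ => (n : ℤ)) h'
  simp only [Nat.cast_sum, Nat.cast_mul] at h''
  rw [← h'', Finset.mul_sum]
  refine Finset.sum_congr rfl fun Q _ => ?_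
  ring

end fiber

end Groth.Agent.Helper27.RH
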