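import Groth.Agent.Lib.Helper27.ZetB

/-! Finiteness of the class number and the count of effective divisors (S11037). -/

set_option autoImplicit false

namespace Groth.Agent.Helper27.Zet

open FunFld Groth.Agent.Helper16.FF
open scoped WithZero

variable {k K : Type*} [Field k] [Field K] [Algebra k K]

theorem cls_surjective [Finite k] (hK : IsFunctionField k K) (n : ℕ)
    (hn : 2 * genus k K ≤ n + 1) (D₀ : Divisor k K) (hD₀ : D₀.deg = n) :
    Function.Surjective (cls hD₀) := by
  intro c
  have h1 := fibre_count hK n hn D₀ hD₀ c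
  have hq2 : 2 ≤ Nat.card k := by
    have := Finite.one_lt_card (α := k)
    omega
  have hpos : 0 < n + 1 - genus k K := by omega
  have h2 : 2 ≤ Nat.card k ^ (n + 1 - genus k K) := by
    calc 2 ≤ Nat.card k := hq2
      _ = Nat.card k ^ 1 := (pow_one _).symm
      _ ≤ Nat.card k ^ (n + 1 - genus k K) := Nat.pow_le_pow_right (by omega) hpos
  have h3 : Nat.card {E : {D : Divisor k K // 0 ≤ D ∧ D.deg = n} // cls hD₀ E = c} ≠ 0 := by
    intro h0
    rw [h0, zero_mul] at h1
    omega
  have : Nonempty {E : {D : Divisor k K // 0 ≤ D ∧ D.deg = n} // cls hD₀ E = c} := by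
    by_contra hne
    rw [not_nonempty_iff] at hne
    exact h3 Nat.card_of_isEmpty
  obtain ⟨E, hE⟩ := this
  exact ⟨E, hE⟩

theorem finite_pic0 [Finite k] (hK : IsFunctionField k K) : Finite (Pic0 k K) := by
  classical
  obtain ⟨P₀⟩ := exists_place hK
  have hd := Place.deg_pos hK P₀
  set m := 2 * genus k K with hm
  set n₀ := m * P₀.deg with hn₀
  set D₀ : Divisor k K := Finsupp.single P₀ (m : ℤ) with hD₀
  have hdeg : D₀.deg = n₀ := by
    rw [hD₀, Groth.Agent.Helper16.FFW.Divisor.deg_single, hn₀]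
    push_cast
    ring
  have hn : 2 * genus k K ≤ n₀ + 1 := by
    have : m ≤ m * P₀.deg := Nat.le_mul_of_pos_right m hd
    omega
  haveI := finite_effDiv hK n₀
  exact Finite.of_surjective _ (cls_surjective hK n₀ hn D₀ hdeg)

theorem main11037 [Finite k] (hK : IsFunctionField k K) :
    Finite ((degHom k K).ker ⧸ (prinDivs k K).addSubgroupOf (degHom k K).ker) ∧
    ∀ n : ℕ, 2 * genus k K ≤ n + 1 →
      ((∃ D : Divisor k K, D.deg = n) →
        ((Nat.card k : ℤ) - 1) * (effDivCount k K n : ℤ) =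
          (classNum k K : ℤ) * ((Nat.card k : ℤ) ^ (n + 1 - genus k K) - 1)) ∧
      ((¬ ∃ D : Divisor k K, D.deg = n) → effDivCount k K n = 0) := by
  classical
  have hfin : Finite (Pic0 k K) := finite_pic0 hK
  refine ⟨hfin, fun n hn => ⟨?_, ?_⟩⟩
  · rintro ⟨D₀, hD₀⟩
    haveI := hfin
    haveI : Fintype (Pic0 k K) := Fintype.ofFinite _
    haveI := finite_effDiv hK n
    have h1 : Nat.card {D : Divisor k K // 0 ≤ D ∧ D.deg = n} =
        ∑ c : Pic0 k K,
          Nat.card {E : {D : Divisor k K // 0 ≤ D ∧ D.deg = n} // cls hD₀ E = c} := by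
      rw [← Nat.card_congr (Equiv.sigmaFiberEquiv (cls hD₀)), Nat.card_sigma]
    have h2 : effDivCount k K n * (Nat.card k - 1) =
        classNum k K * (Nat.card k ^ (n + 1 - genus k K) - 1) := by
      unfold effDivCount classNum
      rw [h1, Finset.sum_mul]
      simp_rw [fibre_count hK n hn D₀ hD₀]
      rw [Finset.sum_const, Finset.card_univ, smul_eq_mul, ← Nat.card_eq_fintype_card]
    have hq1 : 1 ≤ Nat.card k := Nat.card_pos
    have hq2 : 1 ≤ Nat.card k ^ (n + 1 - genus k K) := Nat.one_le_pow _ _ hq1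
    have h3 := congrArg (fun a : ℕ => (a : ℤ)) h2
    simp only [Nat.cast_mul] at h3
    rw [Nat.cast_sub hq1, Nat.cast_sub hq2] at h3
    push_cast at h3
    linarith
  · intro hne
    unfold effDivCount
    have : IsEmpty {D : Divisor k K // 0 ≤ D ∧ D.deg = n} := by
      constructor
      rintro ⟨D, -, hD⟩
      exact hne ⟨D, hD⟩
    exact Nat.card_of_isEmpty

end Groth.Agent.Helper27.Zet
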