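import Mathlib
import Groth.Agent.Lib.Helper27.CfC

set_option autoImplicit false

namespace Groth.Agent.Helper27.Cf

open FunFld Groth.Agent.Helper16.FFW TensorProduct
open scoped WithZero

universe u v

variable {k k' : Type u} {K K' : Type v} [Field k] [Field k'] [Field K] [Field K']
  [Algebra k k'] [Algebra k K] [Algebra K K'] [Algebra k' K'] [Algebra k K']
  [IsScalarTower k k' K'] [IsScalarTower k K K']
  (P : Place k K) [Algebra P.O K'] [IsScalarTower P.O K K']

theorem adjoin_le_integralClosure [FiniteDimensional k k'] :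
    Algebra.adjoin P.O (Set.range (algebraMap k' K')) ≤ integralClosure P.O K' := by
  haveI := towerkOK' (K' := K') P
  apply Algebra.adjoin_le
  rintro _ ⟨c, rfl⟩
  have h1 : IsIntegral k c := Algebra.IsIntegral.isIntegral c
  have h2 : IsIntegral k (algebraMap k' K' c) := h1.map (IsScalarTower.toAlgHom k k' K')
  exact h2.tower_top

variable (h : Function.Bijective (Algebra.TensorProduct.productMap
      (IsScalarTower.toAlgHom k k' K') (IsScalarTower.toAlgHom k K K')))
  {ι : Type*} [Fintype ι] [DecidableEq ι] (b : Module.Basis ι k k')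

theorem inM_smul {t : K} (ht : P.1 t < 1) {x : K'}
    (hx : x ∈ Algebra.adjoin P.O (Set.range (algebraMap k' K'))) : InM P h b (t • x) := by
  rw [mem_adjoin_iff P h b] at hx
  intro i
  rw [map_smul, Finsupp.smul_apply, smul_eq_mul, map_mul]
  exact lt_of_le_of_lt (mul_le_mul' le_rfl (hx i)) (by rw [mul_one]; exact ht)

theorem mem_of_inM {t : K} (ht : P.1 t = WithZero.exp (-1 : ℤ)) {w : K'} (hw : InM P h b w) :
    t⁻¹ • w ∈ Algebra.adjoin P.O (Set.range (algebraMap k' K')) := by
  rw [mem_adjoin_iff P h b]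
  intro i
  rw [map_smul, Finsupp.smul_apply, smul_eq_mul, map_mul, map_inv₀, ht]
  have := lt_one_iff_le_exp_neg_one.1 (hw i)
  rw [inv_mul_le_iff₀ WithZero.exp_pos, mul_one]
  exact this

theorem smul_mem_adjoin {a : K} (ha : P.1 a ≤ 1) {x : K'}
    (hx : x ∈ Algebra.adjoin P.O (Set.range (algebraMap k' K'))) :
    a • x ∈ Algebra.adjoin P.O (Set.range (algebraMap k' K')) := by
  have : a • x = (⟨a, (Place.mem_O_iff P a).2 ha⟩ : P.O) • x :=
    (smul_O_eq P (⟨a, (Place.mem_O_iff P a).2 ha⟩ : P.O) x).symm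
  rw [this]
  exact Subalgebra.smul_mem _ hx _

include h b in
/-- **nonsingularity from reducedness** -/
theorem integralClosure_le_adjoin [FiniteDimensional k k'] (hK : IsFunctionField k K)
    [IsReduced (FPt P ⊗[k] k')] :
    integralClosure P.O K' ≤ Algebra.adjoin P.O (Set.range (algebraMap k' K')) := by
  obtain ⟨t, ht⟩ := Place.exists_uniformizer P
  have ht0 : t ≠ 0 := by
    rintro rfl
    rw [map_zero] at ht
    exact WithZero.exp_ne_zero ht.symm
  have ht1 : P.1 t < 1 := by rw [ht]; exact Nrm.exp_neg_one_lt_one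
  obtain ⟨N, hN⟩ := exists_conductor h hK P ht
  intro z hz
  have key : ∀ c : ℕ, (t ^ c) • z ∈ Algebra.adjoin P.O (Set.range (algebraMap k' K')) →
      z ∈ Algebra.adjoin P.O (Set.range (algebraMap k' K')) := by
    intro c
    induction c with
    | zero => intro h0; simpa using h0
    | succ c ih =>
      intro hw
      apply ih
      have hM : InM P h b (((t ^ (c + 1)) • z) ^ (N + 1)) := by
        have e1 : ((t ^ (c + 1)) • z) ^ (N + 1) =
            t • ((t ^ ((c + 1) * (N + 1) - 1 - N)) • ((t ^ N) • z ^ (N + 1))) := by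
          rw [smul_pow, ← pow_mul, smul_smul, smul_smul]
          congr 1
          have : N + 1 ≤ (c + 1) * (N + 1) := Nat.le_mul_of_pos_left _ (Nat.succ_pos c)
          have e2 : (c + 1) * (N + 1) = 1 + ((c + 1) * (N + 1) - 1 - N) + N := by omega
          conv_lhs => rw [e2]
          rw [pow_add, pow_add, pow_one]
        rw [e1]
        refine inM_smul P h b ht1 (smul_mem_adjoin P ?_ (hN _ (Subalgebra.pow_mem _ hz _)))
        rw [map_pow]
        exact pow_le_one' ht1.le _
      have hInM := inM_of_pow P h b hw (N + 1) hM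
      have := mem_of_inM P h b ht hInM
      rwa [pow_succ', smul_smul, ← mul_assoc, inv_mul_cancel₀ ht0, one_mul] at this
  exact key N (hN z hz)

include h b in
theorem integralClosure_eq_adjoin [FiniteDimensional k k'] (hK : IsFunctionField k K)
    [IsReduced (FPt P ⊗[k] k')] :
    integralClosure P.O K' = Algebra.adjoin P.O (Set.range (algebraMap k' K')) :=
  le_antisymm (integralClosure_le_adjoin P h b hK) (adjoin_le_integralClosure P)

include h b in
/-- **unramifiedness from reducedness** -/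
theorem isOverWith_one [FiniteDimensional k k'] (hK : IsFunctionField k K)
    [IsReduced (FPt P ⊗[k] k')] (Q : Place k K') (hQ : IsOver Q P) : IsOverWith Q P 1 := by
  classical
  haveI : FiniteDimensional K K' := Groth.Agent.Helper16.FF.finite_scalarExt h
  have he := isOverWith_ramIdx hQ
  set e := ramIdx Q P with hedef
  have hepos : 0 < e := isOverWith_pos he
  by_contra hne
  have he2 : 2 ≤ e := by
    rcases Nat.lt_or_ge e 2 with hlt | hge
    · exfalso
      have : e = 1 := by omega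
      rw [this] at he
      exact hne he
    · exact hge
  obtain ⟨t, ht⟩ := Place.exists_uniformizer P
  have ht0 : t ≠ 0 := by
    rintro rfl
    rw [map_zero] at ht
    exact WithZero.exp_ne_zero ht.symm
  have ht1 : P.1 t < 1 := by rw [ht]; exact Nrm.exp_neg_one_lt_one
  obtain ⟨hfin, -⟩ := sum_ramIdx_mul_deg (K' := K') hK P
  obtain ⟨Qs, hQsdef⟩ : ∃ Qs : Finset (Place k K'), Qs = hfin.toFinset := ⟨_, rfl⟩
  have hQs : ∀ Q', Q' ∈ Qs ↔ IsOver Q' P := fun Q' => by
    rw [hQsdef, Set.Finite.mem_toFinset]; rfl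
  obtain ⟨s₀, hs₀⟩ := Place.exists_uniformizer Q
  obtain ⟨z, hz⟩ := weak_approx (fun i : ↥Qs => i.1) Subtype.val_injective
    (fun i => if i.1 = Q then s₀ ^ (e - 1) else 0)
    (fun i => if i.1 = Q then -(e : ℤ) else -(ramIdx i.1 P : ℤ))
  have hexp : ∀ n : ℕ, (WithZero.exp (-1 : ℤ) : ℤᵐ⁰) ^ n = WithZero.exp (-(n : ℤ)) := by
    intro n
    rw [← WithZero.exp_nsmul]; simp
  have hzQ : Q.1 z = WithZero.exp (-((e - 1 : ℕ) : ℤ)) := by
    have h1 := hz ⟨Q, (hQs Q).2 hQ⟩
    simp only [if_true] at h1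
    have h2 : Q.1 (s₀ ^ (e - 1)) = WithZero.exp (-((e - 1 : ℕ) : ℤ)) := by
      rw [map_pow, hs₀, hexp]
    have h3 : Q.1 (z - s₀ ^ (e - 1)) < Q.1 (s₀ ^ (e - 1)) := by
      rw [h2]
      refine lt_of_le_of_lt h1 ?_
      rw [WithZero.exp_lt_exp]
      have : ((e - 1 : ℕ) : ℤ) = (e : ℤ) - 1 := by
        rw [Nat.cast_sub hepos]; simp
      omega
    rw [Valuation.map_eq_of_sub_lt Q.1 h3, h2]
  have hzQ' : ∀ Q' : Place k K', IsOver Q' P → Q' ≠ Q →
      Q'.1 z ≤ WithZero.exp (-(ramIdx Q' P : ℤ)) := by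
    intro Q' hQ' hne'
    have h1 := hz ⟨Q', (hQs Q').2 hQ'⟩
    simp only [if_neg hne', sub_zero] at h1
    exact h1
  have hvt : ∀ Q' : Place k K', IsOver Q' P →
      Q'.1 (algebraMap K K' t) = WithZero.exp (-(ramIdx Q' P : ℤ)) := by
    intro Q' hQ'
    rw [isOverWith_ramIdx hQ' t, ht, hexp]
  have hcast : ((e - 1 : ℕ) : ℤ) = (e : ℤ) - 1 := by
    rw [Nat.cast_sub hepos]; simp
  -- z² / t is integral
  have hw : t⁻¹ • (z ^ 2) ∈ integralClosure P.O K' := by
    rw [Nrm.mem_S_iff P hK]
    intro Q' hQ'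
    rw [Algebra.smul_def, map_mul, map_inv₀, map_inv₀, hvt Q' hQ', map_pow,
      inv_mul_le_iff₀ WithZero.exp_pos, mul_one]
    by_cases hQQ : Q' = Q
    · rw [hQQ, hzQ, ← WithZero.exp_nsmul, WithZero.exp_le_exp, ← hedef, hcast]
      simp only [nsmul_eq_mul, Nat.cast_ofNat]
      have : (2 : ℤ) ≤ e := by exact_mod_cast he2
      linarith
    · calc Q'.1 z ^ 2 ≤ WithZero.exp (-(ramIdx Q' P : ℤ)) ^ 2 :=
            pow_le_pow_left' (hzQ' Q' hQ' hQQ) 2
        _ ≤ WithZero.exp (-(ramIdx Q' P : ℤ)) := by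
            rw [← WithZero.exp_nsmul, WithZero.exp_le_exp]
            simp only [nsmul_eq_mul, Nat.cast_ofNat]
            have : (0 : ℤ) ≤ ramIdx Q' P := Int.natCast_nonneg _
            linarith
  have hzR : z ∈ integralClosure P.O K' := by
    rw [Nrm.mem_S_iff P hK]
    intro Q' hQ'
    by_cases hQQ : Q' = Q
    · rw [hQQ, hzQ, ← WithZero.exp_zero, WithZero.exp_le_exp]
      omega
    · refine (hzQ' Q' hQ' hQQ).trans ?_
      rw [← WithZero.exp_zero, WithZero.exp_le_exp]
      have : (0 : ℤ) ≤ ramIdx Q' P := Int.natCast_nonneg _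
      linarith
  have hle := integralClosure_le_adjoin P h b hK
  have hM : InM P h b (z ^ 2) := by
    have : z ^ 2 = t • (t⁻¹ • z ^ 2) := by
      rw [smul_smul, mul_inv_cancel₀ ht0, one_smul]
    rw [this]
    exact inM_smul P h b ht1 (hle hw)
  have hInM := inM_of_pow P h b (hle hzR) 2 hM
  have h5 := adjoin_le_integralClosure P (mem_of_inM P h b ht hInM)
  rw [Nrm.mem_S_iff P hK] at h5
  have h6 := h5 Q hQ
  rw [Algebra.smul_def, map_mul, map_inv₀, map_inv₀, hvt Q hQ, hzQ, ← hedef,
    inv_mul_le_iff₀ WithZero.exp_pos, mul_one, WithZero.exp_le_exp, hcast] at h6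
  omega

end Groth.Agent.Helper27.Cf
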