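import Mathlib
import Groth.Agent.Lib.Helper27.CfD

set_option autoImplicit false

namespace Groth.Agent.Helper27.Cf

open FunFld Groth.Agent.Helper16.FFW TensorProduct
open scoped WithZero

universe u v

section red
variable {k : Type u} {k' : Type u} {K : Type v} [Field k] [Field k'] [Field K]
  [Algebra k k'] [Algebra k K] (P : Place k K)

theorem isReduced_of_sep_left [FiniteDimensional k k'] [Algebra.IsSeparable k k'] :
    IsReduced (FPt P ⊗[k] k') := by
  haveI := Algebra.FormallyUnramified.of_isSeparable k k'
  exact Algebra.FormallyUnramified.isReduced_of_field (FPt P) (FPt P ⊗[k] k')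

theorem finite_FPt (hK : IsWeakFF k K) : Module.Finite k (FPt P) := by
  have h1 := Place.finiteDimensional_residueField hK P
  let L : IsLocalRing.ResidueField P.O →ₗ[k] FPt P :=
    { toFun := fun x => x
      map_add' := fun _ _ => rfl
      map_smul' := fun c x => by
        show (c • x : IsLocalRing.ResidueField P.O) = (c • (x : FPt P) : FPt P)
        rw [Algebra.smul_def] }
  exact Module.Finite.of_surjective L (fun x => ⟨x, rfl⟩)

theorem isReduced_of_sep_right (hK : IsWeakFF k K)
    [hs : Algebra.IsSeparable k (IsLocalRing.ResidueField P.O)] :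
    IsReduced (FPt P ⊗[k] k') := by
  haveI : Algebra.IsSeparable k (FPt P) := hs
  haveI := finite_FPt P hK
  haveI := Algebra.FormallyUnramified.of_isSeparable k (FPt P)
  have h1 : IsReduced (k' ⊗[k] FPt P) :=
    Algebra.FormallyUnramified.isReduced_of_field k' (k' ⊗[k] FPt P)
  exact isReduced_of_injective (Algebra.TensorProduct.comm k (FPt P) k').toAlgHom
    (Algebra.TensorProduct.comm k (FPt P) k').injective

end red

variable {k k' : Type u} {K K' : Type v} [Field k] [Field k'] [Field K] [Field K']
  [Algebra k k'] [Algebra k K] [Algebra K K'] [Algebra k' K'] [Algebra k K']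
  [IsScalarTower k k' K'] [IsScalarTower k K K']

theorem main11012 [FiniteDimensional k k']
    (h : Function.Bijective (Algebra.TensorProduct.productMap
      (IsScalarTower.toAlgHom k k' K') (IsScalarTower.toAlgHom k K K')))
    (hK : IsFunctionField k K) [Algebra.IsSeparable k k']
    (P : Place k K) [Algebra P.O K'] [IsScalarTower P.O K K']
    (Q : Place k K') (hQ : IsOver Q P) :
    (integralClosure P.O K').toSubring =
      (Algebra.adjoin P.O (Set.range (algebraMap k' K'))).toSubring ∧
    IsOverWith Q P 1 := by
  classical
  haveI := isReduced_of_sep_left (k' := k') P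
  let b := Module.finBasis k k'
  exact ⟨congrArg Subalgebra.toSubring (integralClosure_eq_adjoin P h b hK),
    isOverWith_one P h b hK Q hQ⟩

theorem main11018 [FiniteDimensional k k']
    (h : Function.Bijective (Algebra.TensorProduct.productMap
      (IsScalarTower.toAlgHom k k' K') (IsScalarTower.toAlgHom k K K')))
    (hK : IsFunctionField k K)
    (P : Place k K) [Algebra.IsSeparable k (IsLocalRing.ResidueField P.O)]
    [Algebra P.O K'] [IsScalarTower P.O K K'] :
    (integralClosure P.O K').toSubring =
      (Algebra.adjoin P.O (Set.range (algebraMap k' K'))).toSubring := by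
  classical
  haveI := isReduced_of_sep_right (k' := k') P hK.1
  let b := Module.finBasis k k'
  exact congrArg Subalgebra.toSubring (integralClosure_eq_adjoin P h b hK)

end Groth.Agent.Helper27.Cf
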