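import Mathlib
import Groth.Prelude.Def_LocRes
import Groth.Agent.Lib.Helper16.FF.GeomB

set_option autoImplicit false

namespace Groth.Agent.Helper27.DExp

open FunFld LaurentSeries
open scoped WithZero

universe u v w

section Laurent

variable {F : Type w} [Field F]

theorem lt_exp_succ_iff' {a : ℤᵐ⁰} (m : ℤ) : a < WithZero.exp (m + 1) ↔ a ≤ WithZero.exp m := by
  rcases eq_or_ne a 0 with rfl | ha
  · simp
  · obtain ⟨n, rfl⟩ : ∃ n : ℤ, a = WithZero.exp n := ⟨WithZero.log a, (WithZero.exp_log ha).symm⟩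
    rw [WithZero.exp_lt_exp, WithZero.exp_le_exp]; omega

theorem val_eq_exp_iff (f : F⸨X⸩) (m : ℤ) :
    Valued.v f = WithZero.exp (-m) ↔ (∀ n : ℤ, n < m → f.coeff n = 0) ∧ f.coeff m ≠ 0 := by
  constructor
  · intro h
    refine ⟨(valuation_le_iff_coeff_lt_eq_zero F).1 h.le, fun h0 => ?_⟩
    have : Valued.v f ≤ WithZero.exp (-(m + 1)) := by
      rw [valuation_le_iff_coeff_lt_eq_zero F]
      intro n hn
      rcases (show n < m ∨ n = m by omega) with h1 | rfl
      · exact (valuation_le_iff_coeff_lt_eq_zero F).1 h.le n h1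
      · exact h0
    rw [h, WithZero.exp_le_exp] at this
    omega
  · rintro ⟨h1, h2⟩
    have hle : Valued.v f ≤ WithZero.exp (-m) := (valuation_le_iff_coeff_lt_eq_zero F).2 h1
    refine le_antisymm hle ?_
    by_contra hlt
    rw [not_le] at hlt
    have : Valued.v f ≤ WithZero.exp (-(m + 1)) := by
      rw [← lt_exp_succ_iff']
      convert hlt using 2
      ring
    exact h2 ((valuation_le_iff_coeff_lt_eq_zero F).1 this m (by omega))

/-- derivative lowers order by at most one -/
theorem val_D_le (f : F⸨X⸩) (m : ℤ) (h : Valued.v f ≤ WithZero.exp (-m)) :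
    Valued.v (LocRes.D F f) ≤ WithZero.exp (-(m - 1)) := by
  rw [valuation_le_iff_coeff_lt_eq_zero F] at h ⊢
  intro n hn
  rw [LocRes.D_coeff, h (n + 1) (by omega), smul_zero]

theorem val_D_eq (f : F⸨X⸩) (m : ℤ) (h : Valued.v f = WithZero.exp (-m)) (hm : (m : F) ≠ 0) :
    Valued.v (LocRes.D F f) = WithZero.exp (-(m - 1)) := by
  rw [val_eq_exp_iff] at h ⊢
  refine ⟨fun n hn => ?_, ?_⟩
  · rw [LocRes.D_coeff, h.1 (n + 1) (by omega), smul_zero]
  · rw [LocRes.D_coeff, sub_add_cancel, zsmul_eq_mul]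
    exact mul_ne_zero hm h.2

theorem val_D_le_of_cast_eq_zero (f : F⸨X⸩) (m : ℤ) (h : Valued.v f ≤ WithZero.exp (-m))
    (hm : (m : F) = 0) :
    Valued.v (LocRes.D F f) ≤ WithZero.exp (-m) := by
  rw [valuation_le_iff_coeff_lt_eq_zero F] at h ⊢
  intro n hn
  rw [LocRes.D_coeff]
  rcases (show n + 1 < m ∨ n + 1 = m by omega) with h1 | h1
  · rw [h (n + 1) h1, smul_zero]
  · rw [h1, zsmul_eq_mul, hm, zero_mul]

end Laurent

section Chain

variable {k : Type u} {K : Type v} {F : Type w} [Field k] [Field K] [Field F] [Algebra k K]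
  [Algebra k F]

/-- chain rule through any `k`-algebra hom into Laurent series when `Ω` is one-dimensional -/
theorem chain (h1 : Module.finrank K (Ω[K⁄k]) = 1) (t : K)
    (ht : KaehlerDifferential.D k K t ≠ 0) (y : K) :
    ∃ c : K, KaehlerDifferential.D k K y = c • KaehlerDifferential.D k K t ∧
      ∀ (F : Type w) [Field F] [Algebra k F] (φ : K →ₐ[k] F⸨X⸩),
        LocRes.D F (φ y) = φ c * LocRes.D F (φ t) := by
  obtain ⟨c, hc⟩ := (finrank_eq_one_iff_of_nonzero' (KaehlerDifferential.D k K t) ht).1 h1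
    (KaehlerDifferential.D k K y)
  refine ⟨c, hc.symm, ?_⟩
  intro F _ _ φ
  letI := φ.toRingHom.toAlgebra
  haveI : IsScalarTower k K F⸨X⸩ := LocRes.isScalarTower_exp φ
  have h := congrArg ((LocRes.dExp φ).liftKaehlerDifferential) hc
  rw [map_smul, Derivation.liftKaehlerDifferential_comp_D,
    Derivation.liftKaehlerDifferential_comp_D] at h
  exact h.symm

theorem D_ne_zero_of_exp (φ : K →ₐ[k] F⸨X⸩) (t : K) (h : LocRes.D F (φ t) ≠ 0) :
    KaehlerDifferential.D k K t ≠ 0 := by
  intro h0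
  letI := φ.toRingHom.toAlgebra
  haveI : IsScalarTower k K F⸨X⸩ := LocRes.isScalarTower_exp φ
  have := congrArg ((LocRes.dExp φ).liftKaehlerDifferential) h0
  rw [Derivation.liftKaehlerDifferential_comp_D, map_zero] at this
  exact h this

end Chain

end Groth.Agent.Helper27.DExp
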