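import Mathlib
import Groth.Prelude.Def_LocRes
import Groth.Prelude.Def_W4bk4goldsch23Ext
import Groth.Agent.Lib.Helper27.DExpA

set_option autoImplicit false

namespace Groth.Agent.Helper27.DExp

open FunFld LaurentSeries Groth.Agent.Helper16.FF
open scoped WithZero

universe u v v' w

variable {k : Type u} {K : Type v} {K' : Type v'} [Field k] [Field K] [Field K'] [Algebra k K] [Algebra K K']
  [Algebra k K'] [IsScalarTower k K K']
  {F F' : Type w} [Field F] [Algebra k F] [Field F'] [Algebra k F']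

theorem exists_log {a : ℤᵐ⁰} (ha : a ≠ 0) : ∃ n : ℤ, a = WithZero.exp n :=
  ⟨WithZero.log a, (WithZero.exp_log ha).symm⟩

/-- the different exponent is the order of `d(ψ t)` for a uniformizer `t` of `P`. -/
theorem diffExp_eq' (h1 : Module.finrank K (Ω[K⁄k]) = 1)
    (P : Place k K) (Q : Place k K') (e : ℕ) (he : IsOverWith Q P e)
    (φ : K →ₐ[k] F⸨X⸩) (hφ : LocRes.IsExpansionAt P.1 φ)
    (ψ : K' →ₐ[k] F'⸨X⸩) (hψ : LocRes.IsExpansionAt Q.1 ψ)
    (x : K) (hx : LocRes.vDiff φ 1 x ≠ 0) (hx' : LocRes.vDiff ψ 1 (algebraMap K K' x) ≠ 0)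
    (t : K) (ht : P.1 t = WithZero.exp (-1)) :
    LocRes.D F' (ψ (algebraMap K K' t)) ≠ 0 ∧
    LocRes.diffExp φ ψ e x = - WithZero.log (Valued.v (LocRes.D F' (ψ (algebraMap K K' t)))) := by
  have hvt : Valued.v (φ t) = WithZero.exp (-(1 : ℤ)) := by rw [hφ.1, ht]
  have hDt : Valued.v (LocRes.D F (φ t)) = 1 := by
    have := val_D_eq (φ t) 1 hvt (by simp)
    simpa using this
  have hDt0 : LocRes.D F (φ t) ≠ 0 := by
    intro h0; rw [h0, map_zero] at hDt; exact zero_ne_one hDt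
  have hdt := D_ne_zero_of_exp φ t hDt0
  obtain ⟨c, -, hc⟩ := chain.{u, v, w} h1 t hdt x
  set ψ' : K →ₐ[k] F'⸨X⸩ := ψ.comp (IsScalarTower.toAlgHom k K K') with hψ'
  have hψ'a : ∀ y : K, ψ' y = ψ (algebraMap K K' y) := fun y => rfl
  have hc1 := hc F φ
  have hc2 := hc F' ψ'
  rw [hψ'a, hψ'a, hψ'a] at hc2
  have hx1 : Valued.v (LocRes.D F (φ x)) ≠ 0 := by
    simpa [LocRes.vDiff] using hx
  have hx2 : Valued.v (LocRes.D F' (ψ (algebraMap K K' x))) ≠ 0 := by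
    simpa [LocRes.vDiff] using hx'
  rw [hc1, map_mul, hφ.1] at hx1
  rw [hc2, map_mul, hψ.1] at hx2
  have hPc : P.1 c ≠ 0 := left_ne_zero_of_mul hx1
  have hQc : Q.1 (algebraMap K K' c) ≠ 0 := left_ne_zero_of_mul hx2
  have hDψ : Valued.v (LocRes.D F' (ψ (algebraMap K K' t))) ≠ 0 := right_ne_zero_of_mul hx2
  refine ⟨fun h0 => hDψ (by rw [h0, map_zero]), ?_⟩
  have e1 : LocRes.ordDiff φ 1 x = - WithZero.log (P.1 c) := by
    simp only [LocRes.ordDiff, LocRes.vDiff, map_one, one_mul]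
    rw [hc1, map_mul, hφ.1, hDt, mul_one]
  have e2 : LocRes.ordDiff ψ 1 (algebraMap K K' x) =
      - ((e : ℤ) * WithZero.log (P.1 c)) -
        WithZero.log (Valued.v (LocRes.D F' (ψ (algebraMap K K' t)))) := by
    simp only [LocRes.ordDiff, LocRes.vDiff, map_one, one_mul]
    rw [hc2, map_mul, hψ.1, WithZero.log_mul hQc hDψ, he c, WithZero.log_pow]
    simp only [nsmul_eq_mul]
    ring
  rw [LocRes.diffExp, e1, e2]
  ring

theorem diffExp_eq (hK : IsFunctionField k K) (hg : IsGeometric k K)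
    (P : Place k K) (Q : Place k K') (e : ℕ) (he : IsOverWith Q P e)
    (φ : K →ₐ[k] F⸨X⸩) (hφ : LocRes.IsExpansionAt P.1 φ)
    (ψ : K' →ₐ[k] F'⸨X⸩) (hψ : LocRes.IsExpansionAt Q.1 ψ)
    (x : K) (hx : LocRes.vDiff φ 1 x ≠ 0) (hx' : LocRes.vDiff ψ 1 (algebraMap K K' x) ≠ 0)
    (t : K) (ht : P.1 t = WithZero.exp (-1)) :
    LocRes.D F' (ψ (algebraMap K K' t)) ≠ 0 ∧
    LocRes.diffExp φ ψ e x = - WithZero.log (Valued.v (LocRes.D F' (ψ (algebraMap K K' t)))) :=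
  diffExp_eq' (finrank_kaehler_of_isGeometric hK hg) P Q e he φ hφ ψ hψ x hx hx' t ht

end Groth.Agent.Helper27.DExp
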