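import Mathlib
import Groth.Agent.Lib.Helper27.DExpB

set_option autoImplicit false

namespace Groth.Agent.Helper27.DExp

open FunFld LaurentSeries Groth.Agent.Helper16.FF
open scoped WithZero

universe u v v' w

variable {k : Type u} {K : Type v} {K' : Type v'} [Field k] [Field K] [Field K'] [Algebra k K] [Algebra K K']
  [Algebra k K'] [IsScalarTower k K K']
  {F F' : Type w} [Field F] [Algebra k F] [Field F'] [Algebra k F']

theorem main12571 (hK : IsFunctionField k K) (hg : IsGeometric k K)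
    (P : Place k K) (Q : Place k K') (e : ℕ) (he : IsOverWith Q P e)
    (φ : K →ₐ[k] F⸨X⸩) (hφ : LocRes.IsExpansionAt P.1 φ)
    (ψ : K' →ₐ[k] F'⸨X⸩) (hψ : LocRes.IsExpansionAt Q.1 ψ)
    (x : K) (hx : LocRes.vDiff φ 1 x ≠ 0) (hx' : LocRes.vDiff ψ 1 (algebraMap K K' x) ≠ 0)
    (x' : K) (hx2 : LocRes.vDiff φ 1 x' ≠ 0) (hx2' : LocRes.vDiff ψ 1 (algebraMap K K' x') ≠ 0) :
    LocRes.diffExp φ ψ e x = LocRes.diffExp φ ψ e x' := by
  obtain ⟨t, ht⟩ := hφ.2.2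
  rw [(diffExp_eq hK hg P Q e he φ hφ ψ hψ x hx hx' t ht).2,
    (diffExp_eq hK hg P Q e he φ hφ ψ hψ x' hx2 hx2' t ht).2]

theorem main12570 (hK : IsFunctionField k K) (hg : IsGeometric k K)
    (P : Place k K) (Q : Place k K') (e : ℕ) (he : IsOverWith Q P e)
    (φ : K →ₐ[k] F⸨X⸩) (hφ : LocRes.IsExpansionAt P.1 φ)
    (ψ : K' →ₐ[k] F'⸨X⸩) (hψ : LocRes.IsExpansionAt Q.1 ψ)
    (x : K) (hx : LocRes.vDiff φ 1 x ≠ 0) (hx' : LocRes.vDiff ψ 1 (algebraMap K K' x) ≠ 0) :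
    (¬ (ringChar K ∣ e) → LocRes.diffExp φ ψ e x = (e : ℤ) - 1) ∧
    (ringChar K ∣ e → (e : ℤ) ≤ LocRes.diffExp φ ψ e x) := by
  obtain ⟨t, ht⟩ := hφ.2.2
  obtain ⟨h0, hd⟩ := diffExp_eq hK hg P Q e he φ hφ ψ hψ x hx hx' t ht
  have hchar : ringChar K = ringChar F' := by
    rw [← Algebra.ringChar_eq k K, ← Algebra.ringChar_eq k F']
  have hvt : Valued.v (ψ (algebraMap K K' t)) = WithZero.exp (-((e : ℕ) : ℤ)) := by
    rw [hψ.1, he t, ht, ← WithZero.exp_nsmul]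
    simp
  have hcast : ((e : ℤ) : F') = 0 ↔ ringChar K ∣ e := by
    rw [hchar, Int.cast_natCast]
    exact ringChar.spec F' e
  constructor
  · intro hnd
    have := val_D_eq _ (e : ℤ) hvt (fun h => hnd (hcast.1 h))
    rw [hd, this, WithZero.log_exp]
    ring
  · intro hdvd
    have hle := val_D_le_of_cast_eq_zero _ (e : ℤ) hvt.le (hcast.2 hdvd)
    have hne : Valued.v (LocRes.D F' (ψ (algebraMap K K' t))) ≠ 0 := by
      simpa using h0
    obtain ⟨n, hn⟩ := exists_log hne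
    rw [hd, hn, WithZero.log_exp]
    rw [hn, WithZero.exp_le_exp] at hle
    omega

end Groth.Agent.Helper27.DExp
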