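import Mathlib
import Groth.Agent.Lib.Helper27.DExpC
import Groth.Agent.Lib.Helper16.FFW.Basic

set_option autoImplicit false

namespace Groth.Agent.Helper27.DExp

open FunFld LaurentSeries Polynomial
open scoped WithZero

universe u v w

section General

variable {R Γ₀ : Type*} [Ring R] [LinearOrderedCommGroupWithZero Γ₀]

theorem two_max (v : Valuation R Γ₀) {ι : Type*} [DecidableEq ι] (S : Finset ι) (x : ι → R)
    (hsum : ∑ i ∈ S, x i = 0) (j : ι) (hjS : j ∈ S) (hj : v (x j) ≠ 0) :
    ∃ i ∈ S, ∃ i' ∈ S, i ≠ i' ∧ v (x i) = v (x i') ∧ v (x i) ≠ 0 ∧ ∀ l ∈ S, v (x l) ≤ v (x i) := by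
  obtain ⟨i, hiS, hmax⟩ := S.exists_max_image (fun l => v (x l)) ⟨j, hjS⟩
  have hi0 : v (x i) ≠ 0 := fun h => hj (le_antisymm (h ▸ hmax j hjS) zero_le)
  by_contra hcon
  push Not at hcon
  have hlt : ∀ l ∈ S.erase i, v (x l) < v (x i) := by
    intro l hl
    have hl' := Finset.mem_erase.1 hl
    refine lt_of_le_of_ne (hmax l hl'.2) (fun h => ?_)
    obtain ⟨l', hl'S, hl'lt⟩ := hcon i hiS l hl'.2 (Ne.symm hl'.1) h.symm hi0
    exact absurd (hmax l' hl'S) (not_le.2 hl'lt)
  have h1 : v (∑ l ∈ S.erase i, x l) < v (x i) := Valuation.map_sum_lt v hi0 hlt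
  have h2 : v (x i + ∑ l ∈ S.erase i, x l) = v (x i) := Valuation.map_add_eq_of_lt_left v h1
  rw [Finset.add_sum_erase S x hiS, hsum, map_zero] at h2
  exact hi0 h2.symm

end General

section DAeval

variable {R K K' : Type*} [CommRing R] [CommRing K] [CommRing K'] [Algebra K K']

theorem D_pow' (D : R → R) (hadd : ∀ a b, D (a + b) = D a + D b)
    (hmul : ∀ a b, D (a * b) = a * D b + b * D a) (x : R) (n : ℕ) :
    D (x ^ n) = n * x ^ (n - 1) * D x := by
  have h1 : D 1 = 0 := by
    have := hmul 1 1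
    simp only [mul_one, one_mul] at this
    exact left_eq_add.1 this
  induction n with
  | zero => simp [h1]
  | succ n ih =>
    rw [pow_succ, hmul, ih]
    rcases n with _ | n
    · simp
    · simp only [Nat.add_sub_cancel, Nat.cast_add, Nat.cast_one]
      ring

theorem D_aeval (D : R → R) (hadd : ∀ a b, D (a + b) = D a + D b)
    (hmul : ∀ a b, D (a * b) = a * D b + b * D a) (ψ₁ : K →+* R) (ψ₂ : K' →+* R)
    (hψ : ∀ a, ψ₂ (algebraMap K K' a) = ψ₁ a) (s : K') (p : K[X]) :
    D (ψ₂ (aeval s p)) = p.sum (fun i a => D (ψ₁ a) * ψ₂ s ^ i) +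
      ψ₂ (aeval s (derivative p)) * D (ψ₂ s) := by
  have h0 : D 0 = 0 := by
    have := hadd 0 0
    simp only [add_zero] at this
    exact left_eq_add.1 this
  induction p using Polynomial.induction_on' with
  | add p q hp hq =>
    rw [map_add, map_add, hadd, hp, hq, Polynomial.sum_add_index, derivative_add, map_add,
      map_add, add_mul]
    · ring
    · intro i; simp [h0]
    · intro i a b; simp [add_mul, hadd]
  | monomial n a =>
    rw [Polynomial.sum_monomial_index _ _ (by simp [h0]), aeval_monomial, map_mul, map_pow, hψ,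
      hmul, D_pow' D hadd hmul, derivative_monomial, aeval_monomial, map_mul,
      hψ, map_mul, map_pow, map_natCast]
    ring

end DAeval

end Groth.Agent.Helper27.DExp
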