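import Mathlib
import Groth.Agent.Lib.Helper27.DExpD

set_option autoImplicit false

namespace Groth.Agent.Helper27.DExp

open FunFld LaurentSeries Polynomial
open scoped WithZero

universe u v v' w

variable {k : Type u} {K : Type v} {K' : Type v'} [Field k] [Field K] [Field K'] [Algebra k K] [Algebra K K']
  [Algebra k K'] [IsScalarTower k K K']

theorem ord_algebraMap (P : Place k K) (Q : Place k K') (e : ℕ) (he : IsOverWith Q P e) (a : K) :
    Q.ord (algebraMap K K' a) = e * P.ord a := by
  simp only [Place.ord, he a, WithZero.log_pow, nsmul_eq_mul]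
  ring

theorem ord_term (P : Place k K) (Q : Place k K') (e : ℕ) (he : IsOverWith Q P e)
    (s : K') (hs : Q.1 s = WithZero.exp (-1)) (a : K) (ha : a ≠ 0) (l : ℕ) :
    Q.1 (algebraMap K K' a * s ^ l) = WithZero.exp (-((e : ℤ) * P.ord a + l)) := by
  rw [map_mul, map_pow, hs, he a, Groth.Agent.Helper16.FFW.Place.val_eq_exp_neg_ord P ha,
    ← WithZero.exp_nsmul, ← WithZero.exp_nsmul, ← WithZero.exp_add]
  congr 1
  simp only [nsmul_eq_mul]
  ring

/-- Eisenstein shape of the minimal polynomial of a uniformizer at a totally ramified place. -/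
theorem eisenstein (P : Place k K) (Q : Place k K') (e : ℕ) (he : IsOverWith Q P e)
    (s : K') (hs : Q.1 s = WithZero.exp (-1)) (hint : IsIntegral K s)
    (hdeg : (minpoly K s).natDegree ≤ e) :
    (minpoly K s).natDegree = e ∧ P.1 ((minpoly K s).coeff 0) = WithZero.exp (-1) ∧
      ∀ i, P.1 ((minpoly K s).coeff i) ≤ 1 := by
  set g := minpoly K s with hg
  set m := g.natDegree with hm
  have hmonic : g.Monic := minpoly.monic hint
  have hsum : ∑ i ∈ Finset.range (m + 1), algebraMap K K' (g.coeff i) * s ^ i = 0 := by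
    have := minpoly.aeval K s
    rw [aeval_eq_sum_range] at this
    simpa [Algebra.smul_def] using this
  have hs0 : s ≠ 0 := by
    intro h; rw [h, map_zero] at hs; exact WithZero.exp_ne_zero.symm hs
  have hlead : g.coeff m = 1 := hmonic.coeff_natDegree
  have hxm : Q.1 (algebraMap K K' (g.coeff m) * s ^ m) ≠ 0 := by
    rw [hlead, map_one, one_mul, map_pow]
    exact pow_ne_zero _ ((Valuation.ne_zero_iff _).2 hs0)
  obtain ⟨i, hiS, i', hi'S, hne, heq, hi0, hmax⟩ := two_max Q.1 (Finset.range (m + 1))
    (fun i => algebraMap K K' (g.coeff i) * s ^ i) hsum m (by simp) hxm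
  simp only [Finset.mem_range] at hiS hi'S hmax
  have hnz : ∀ l, Q.1 (algebraMap K K' (g.coeff l) * s ^ l) ≠ 0 → g.coeff l ≠ 0 := by
    intro l h h0; rw [h0, map_zero, zero_mul, map_zero] at h; exact h rfl
  have hai := hnz i hi0
  have hai' := hnz i' (heq ▸ hi0)
  have heq' := heq
  rw [ord_term P Q e he s hs _ hai, ord_term P Q e he s hs _ hai', WithZero.exp_inj] at heq'
  -- key arithmetic
  have key : ∀ (a b : ℕ) (oa ob : ℤ), a < b → b ≤ m → (e : ℤ) * oa + a = e * ob + b →
      a = 0 ∧ b = e ∧ m = e := by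
    intro a b oa ob hab hbm h
    have h1 : (e : ℤ) * (oa - ob) = b - a := by linarith
    have hpos : 0 < (oa - ob) := by
      by_contra hn
      push Not at hn
      have : (e : ℤ) * (oa - ob) ≤ 0 := mul_nonpos_of_nonneg_of_nonpos (by positivity) hn
      omega
    have : (e : ℤ) ≤ e * (oa - ob) := by nlinarith
    omega
  have hcases : (i = 0 ∧ i' = e ∧ m = e) ∨ (i' = 0 ∧ i = e ∧ m = e) := by
    rcases lt_or_gt_of_ne hne with h | h
    · exact Or.inl (key i i' (P.ord (g.coeff i)) (P.ord (g.coeff i')) h (by omega) (by linarith))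
    · exact Or.inr (key i' i (P.ord (g.coeff i')) (P.ord (g.coeff i)) h (by omega) (by linarith))
  have hme : m = e := by rcases hcases with h | h <;> exact h.2.2
  -- the maximal value is exp (-e)
  have hval : Q.1 (algebraMap K K' (g.coeff i) * s ^ i) = WithZero.exp (-(e : ℤ)) ∧
      P.1 (g.coeff 0) = WithZero.exp (-1) := by
    have hm_val : Q.1 (algebraMap K K' (g.coeff m) * s ^ m) = WithZero.exp (-(e : ℤ)) := by
      rw [hlead, map_one, one_mul, map_pow, hs, ← WithZero.exp_nsmul, hme]; simp
    have h0_val : ∀ (h0 : g.coeff 0 ≠ 0), Q.1 (algebraMap K K' (g.coeff 0) * s ^ 0) =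
        WithZero.exp (-(e : ℤ)) → P.1 (g.coeff 0) = WithZero.exp (-1) := by
      intro h0 h
      rw [ord_term P Q e he s hs _ h0, WithZero.exp_inj] at h
      rw [Groth.Agent.Helper16.FFW.Place.val_eq_exp_neg_ord P h0]
      have he0 : (0 : ℤ) < e := by
        have : 0 < m := by
          rw [hm]; exact minpoly.natDegree_pos hint
        omega
      have : P.ord (g.coeff 0) = 1 := by
        have : (e : ℤ) * P.ord (g.coeff 0) = e * 1 := by push_cast at h; linarith
        exact mul_left_cancel₀ (ne_of_gt he0) this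
      rw [this]
    rcases hcases with ⟨h1, h2, -⟩ | ⟨h1, h2, -⟩
    · subst h1
      have hi'm : i' = m := by omega
      refine ⟨by rw [heq, hi'm]; exact hm_val, h0_val hai ?_⟩
      rw [heq, hi'm]; exact hm_val
    · subst h1
      have him : i = m := by omega
      refine ⟨by rw [him]; exact hm_val, h0_val hai' ?_⟩
      rw [← heq, him]; exact hm_val
  refine ⟨hme, hval.2, fun l => ?_⟩
  by_cases hl : l < m + 1
  · by_cases hl0 : g.coeff l = 0
    · rw [hl0, map_zero]; exact zero_le_one
    · have := hmax l hl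
      rw [hval.1, ord_term P Q e he s hs _ hl0, WithZero.exp_le_exp] at this
      rw [Groth.Agent.Helper16.FFW.Place.val_le_one_iff P hl0]
      by_contra hneg
      push Not at hneg
      have : (e : ℤ) * P.ord (g.coeff l) ≤ -e := by nlinarith
      omega
  · rw [coeff_eq_zero_of_natDegree_lt (by omega), map_zero]; exact zero_le_one

end Groth.Agent.Helper27.DExp
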