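import Mathlib
import Groth.Agent.Lib.Helper27.DExpE

set_option autoImplicit false

namespace Groth.Agent.Helper27.DExp

open FunFld LaurentSeries Polynomial Groth.Agent.Helper16.FF
open scoped WithZero

universe u v v' w

variable {k : Type u} {K : Type v} {K' : Type v'} [Field k] [Field K] [Field K'] [Algebra k K] [Algebra K K']
  [Algebra k K'] [IsScalarTower k K K']
  {F F' : Type w} [Field F] [Algebra k F] [Field F'] [Algebra k F']

theorem val_D_unif (f : F⸨X⸩) (h : Valued.v f = WithZero.exp (-1)) :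
    Valued.v (LocRes.D F f) = 1 := by
  have := val_D_eq f 1 h (by simp)
  simpa using this

theorem val_D_le_one (f : F⸨X⸩) (h : Valued.v f ≤ 1) : Valued.v (LocRes.D F f) ≤ 1 := by
  have := val_D_le_of_cast_eq_zero f 0 (by simpa using h) (by simp)
  simpa using this

/-- Given the Eisenstein shape, `ord_Q f'(s)` is the different exponent. -/
theorem ord_deriv_of_shape' (h1 : Module.finrank K (Ω[K⁄k]) = 1)
    (P : Place k K) (Q : Place k K') (e : ℕ) (he : IsOverWith Q P e)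
    (φ : K →ₐ[k] F⸨X⸩) (hφ : LocRes.IsExpansionAt P.1 φ)
    (ψ : K' →ₐ[k] F'⸨X⸩) (hψ : LocRes.IsExpansionAt Q.1 ψ)
    (x : K) (hx : LocRes.vDiff φ 1 x ≠ 0) (hx' : LocRes.vDiff ψ 1 (algebraMap K K' x) ≠ 0)
    (s : K') (hs : Q.1 s = WithZero.exp (-1)) (g : K[X]) (hgs : aeval s g = 0)
    (h0 : P.1 (g.coeff 0) = WithZero.exp (-1)) (hall : ∀ i, P.1 (g.coeff i) ≤ 1) :
    Q.ord (aeval s (derivative g)) = LocRes.diffExp φ ψ e x := by
  set a0 := g.coeff 0 with ha0
  obtain ⟨hD0, hd⟩ := diffExp_eq' h1 P Q e he φ hφ ψ hψ x hx hx' a0 h0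
  have hvt : Valued.v (φ a0) = WithZero.exp (-(1 : ℤ)) := by rw [hφ.1, h0]
  have hDt : Valued.v (LocRes.D F (φ a0)) = 1 := val_D_unif _ hvt
  have hDt0 : LocRes.D F (φ a0) ≠ 0 := by
    intro h; rw [h, map_zero] at hDt; exact zero_ne_one hDt
  have hdt := D_ne_zero_of_exp φ a0 hDt0
  choose c hc using fun y => chain.{u, v, w} h1 a0 hdt y
  set ψ' : K →ₐ[k] F'⸨X⸩ := ψ.comp (IsScalarTower.toAlgHom k K K') with hψ'
  have hψ'a : ∀ y : K, ψ' y = ψ (algebraMap K K' y) := fun y => rfl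
  have hcP : ∀ y : K, P.1 y ≤ 1 → P.1 (c y) ≤ 1 := by
    intro y hy
    have h2 := (hc y).2 F φ
    have h3 : Valued.v (LocRes.D F (φ y)) ≤ 1 := val_D_le_one _ (by rw [hφ.1]; exact hy)
    rw [h2, map_mul, hDt, mul_one, hφ.1] at h3
    exact h3
  have hc0 : P.1 (c a0) = 1 := by
    have h2 := (hc a0).2 F φ
    have h3 := congrArg Valued.v h2
    rw [map_mul, hDt, mul_one, hφ.1] at h3
    exact h3.symm
  -- differentiate the relation
  have hrel := D_aeval (fun f => LocRes.D F' f) (fun a b => map_add _ a b)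
    (fun a b => by rw [Derivation.leibniz]; rfl) (ψ' : K →+* F'⸨X⸩) (ψ : K' →+* F'⸨X⸩)
    (fun a => rfl) s g
  rw [hgs] at hrel
  simp only [RingHom.coe_coe, map_zero] at hrel
  set z : K' := ∑ i ∈ g.support, algebraMap K K' (c (g.coeff i)) * s ^ i with hz
  have hsum : (g.sum fun i a => LocRes.D F' (ψ' a) * ψ s ^ i) =
      LocRes.D F' (ψ (algebraMap K K' a0)) * ψ z := by
    rw [Polynomial.sum_def, hz, map_sum, Finset.mul_sum]
    refine Finset.sum_congr rfl fun i _ => ?_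
    rw [(hc (g.coeff i)).2 F' ψ', hψ'a, hψ'a, map_mul, map_pow]
    ring
  rw [hsum] at hrel
  -- valuation of z
  have ha0ne : a0 ≠ 0 := by
    intro h; rw [h, map_zero] at h0; exact WithZero.exp_ne_zero.symm h0
  have h0mem : 0 ∈ g.support := Polynomial.mem_support_iff.2 ha0ne
  have hzval : Q.1 z = 1 := by
    rw [hz, ← Finset.add_sum_erase _ _ h0mem]
    have hT0 : Q.1 (algebraMap K K' (c (g.coeff 0)) * s ^ 0) = 1 := by
      rw [pow_zero, mul_one, he, ← ha0, hc0, one_pow]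
    have hlt : Q.1 (∑ i ∈ g.support.erase 0, algebraMap K K' (c (g.coeff i)) * s ^ i) < 1 := by
      refine Valuation.map_sum_lt Q.1 one_ne_zero fun i hi => ?_
      have hi0 : i ≠ 0 := (Finset.mem_erase.1 hi).1
      rw [map_mul, map_pow, he, hs]
      have h2 : P.1 (c (g.coeff i)) ^ e ≤ 1 := pow_le_one' (hcP _ (hall i)) e
      have h3 : (WithZero.exp (-1) : ℤᵐ⁰) ^ i < 1 := by
        rw [← WithZero.exp_nsmul, ← WithZero.exp_zero, WithZero.exp_lt_exp]
        have : 0 < i := Nat.pos_of_ne_zero hi0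
        simp only [nsmul_eq_mul]
        have : (0 : ℤ) < i := by exact_mod_cast this
        linarith
      calc P.1 (c (g.coeff i)) ^ e * WithZero.exp (-1) ^ i
          ≤ 1 * WithZero.exp (-1) ^ i := mul_le_mul' h2 le_rfl
        _ < 1 := by rw [one_mul]; exact h3
    have hlt' : Q.1 (∑ i ∈ g.support.erase 0, algebraMap K K' (c (g.coeff i)) * s ^ i) <
        Q.1 (algebraMap K K' (c (g.coeff 0)) * s ^ 0) := by rw [hT0]; exact hlt
    rw [Valuation.map_add_eq_of_lt_left Q.1 hlt', hT0]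
  have hDs : Valued.v (LocRes.D F' (ψ s)) = 1 := val_D_unif _ (by rw [hψ.1, hs])
  have hfin : Valued.v (ψ (aeval s (derivative g))) =
      Valued.v (LocRes.D F' (ψ (algebraMap K K' a0))) := by
    have h4 : ψ (aeval s (derivative g)) * LocRes.D F' (ψ s) =
        -(LocRes.D F' (ψ (algebraMap K K' a0)) * ψ z) := by
      have := hrel
      linear_combination -this
    have h5 := congrArg Valued.v h4
    rw [map_mul, hDs, mul_one, Valuation.map_neg, map_mul, hψ.1 z, hzval, mul_one] at h5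
    exact h5
  rw [hd, Place.ord, ← hψ.1, hfin]

theorem ord_deriv_of_shape (hK : IsFunctionField k K) (hg : IsGeometric k K)
    (P : Place k K) (Q : Place k K') (e : ℕ) (he : IsOverWith Q P e)
    (φ : K →ₐ[k] F⸨X⸩) (hφ : LocRes.IsExpansionAt P.1 φ)
    (ψ : K' →ₐ[k] F'⸨X⸩) (hψ : LocRes.IsExpansionAt Q.1 ψ)
    (x : K) (hx : LocRes.vDiff φ 1 x ≠ 0) (hx' : LocRes.vDiff ψ 1 (algebraMap K K' x) ≠ 0)
    (s : K') (hs : Q.1 s = WithZero.exp (-1)) (g : K[X]) (hgs : aeval s g = 0)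
    (h0 : P.1 (g.coeff 0) = WithZero.exp (-1)) (hall : ∀ i, P.1 (g.coeff i) ≤ 1) :
    Q.ord (aeval s (derivative g)) = LocRes.diffExp φ ψ e x :=
  ord_deriv_of_shape' (finrank_kaehler_of_isGeometric hK hg) P Q e he φ hφ ψ hψ x hx hx' s hs g
    hgs h0 hall

theorem main12573 [FiniteDimensional K K'] (hK : IsFunctionField k K) (hg : IsGeometric k K)
    (P : Place k K) (Q : Place k K') (e : ℕ) (he : IsOverWith Q P e)
    (φ : K →ₐ[k] F⸨X⸩) (hφ : LocRes.IsExpansionAt P.1 φ)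
    (ψ : K' →ₐ[k] F'⸨X⸩) (hψ : LocRes.IsExpansionAt Q.1 ψ)
    (x : K) (hx : LocRes.vDiff φ 1 x ≠ 0) (hx' : LocRes.vDiff ψ 1 (algebraMap K K' x) ≠ 0)
    (hn : e = Module.finrank K K') (s : K') (hs : Q.1 s = WithZero.exp (-1)) :
    Q.ord (aeval s (derivative (minpoly K s))) = LocRes.diffExp φ ψ e x := by
  have hint : IsIntegral K s := Algebra.IsIntegral.isIntegral s
  have hdeg : (minpoly K s).natDegree ≤ e := hn ▸ minpoly.natDegree_le s
  obtain ⟨-, h0, hall⟩ := eisenstein P Q e he s hs hint hdeg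
  exact ord_deriv_of_shape hK hg P Q e he φ hφ ψ hψ x hx hx' s hs _ (minpoly.aeval K s) h0 hall

end Groth.Agent.Helper27.DExp
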