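import Mathlib
import Groth.Agent.Lib.Helper27.NrmC
import Groth.Agent.Lib.Helper27.DExpF

set_option autoImplicit false

namespace Groth.Agent.Helper27.Dfs

open FunFld LaurentSeries Polynomial Groth.Agent.Helper16.FFW IntermediateField
open scoped WithZero

universe u v w

section deg
variable {k K K' : Type*} [Field k] [Field K] [Field K'] [Algebra k K] [Algebra K K'] [Algebra k K']
  [IsScalarTower k K K']

theorem deg_eq_of_surjective (P : Place k K) (Q : Place k K') [P.1.HasExtension Q.1]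
    (hf : Function.Surjective
      (algebraMap (IsLocalRing.ResidueField P.O) (IsLocalRing.ResidueField Q.O))) :
    Q.deg = P.deg := by
  let ρ := algebraMap (IsLocalRing.ResidueField P.O) (IsLocalRing.ResidueField Q.O)
  have hρ : ∀ c : k, ρ (algebraMap k (IsLocalRing.ResidueField P.O) c) =
      algebraMap k (IsLocalRing.ResidueField Q.O) c := by
    intro c
    show IsLocalRing.residue Q.O (algebraMap P.O Q.O (algebraMap k P.O c)) =
      IsLocalRing.residue Q.O (algebraMap k Q.O c)
    congr 1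
    apply Subtype.ext
    show algebraMap K K' (algebraMap k K c) = algebraMap k K' c
    exact (IsScalarTower.algebraMap_apply k K K' c).symm
  let L : IsLocalRing.ResidueField P.O →ₗ[k] IsLocalRing.ResidueField Q.O :=
    { toFun := ρ
      map_add' := map_add ρ
      map_smul' := fun c r => by
        show ρ (c • r) = c • ρ r
        rw [Algebra.smul_def, Algebra.smul_def, map_mul, hρ] }
  have hbij : Function.Bijective L := ⟨ρ.injective, hf⟩
  exact (LinearEquiv.ofBijective L hbij).finrank_eq.symm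

end deg

variable {k : Type u} {K K' : Type v} [Field k] [Field K] [Field K'] [Algebra k K] [Algebra K K']
  [Algebra k K'] [IsScalarTower k K K']
  {F F' : Type w} [Field F] [Algebra k F] [Field F'] [Algebra k F']

theorem ord_of_val_eq_one (Q : Place k K') {s : K'} (h : Q.1 s = 1) : Q.ord s = 0 := by
  unfold Place.ord; rw [h]; simp

theorem ord_of_val_eq_exp (Q : Place k K') {s : K'} {m : ℤ} (h : Q.1 s = WithZero.exp m) :
    Q.ord s = -m := by
  unfold Place.ord; rw [h]; simp

theorem main12572 [FiniteDimensional K K'] (hK : IsFunctionField k K) (hg : IsGeometric k K)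
    (P : Place k K) (Q : Place k K') (e : ℕ) (he : IsOverWith Q P e)
    (φ : K →ₐ[k] F⸨X⸩) (hφ : LocRes.IsExpansionAt P.1 φ)
    (ψ : K' →ₐ[k] F'⸨X⸩) (hψ : LocRes.IsExpansionAt Q.1 ψ)
    (x : K) (hx : LocRes.vDiff φ 1 x ≠ 0) (hx' : LocRes.vDiff ψ 1 (algebraMap K K' x) ≠ 0)
    [P.1.HasExtension Q.1]
    (hf : Function.Surjective
      (algebraMap (IsLocalRing.ResidueField P.O) (IsLocalRing.ResidueField Q.O)))
    (s : K') (hs : Q.1 s = WithZero.exp (-1))
    (hs' : ∀ Q' : Place k K', IsOver Q' P → Q' ≠ Q → Q'.1 s = 1) :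
    IntermediateField.adjoin K ({s} : Set K') = ⊤ ∧
      Q.ord (aeval s (derivative (minpoly K s))) = LocRes.diffExp φ ψ e x := by
  classical
  letI : Algebra P.O K' := ((algebraMap K K').comp (algebraMap P.O K)).toAlgebra
  haveI : IsScalarTower P.O K K' := IsScalarTower.of_algebraMap_eq (fun _ => rfl)
  obtain ⟨hfin, -⟩ := sum_ramIdx_mul_deg (K' := K') hK P
  obtain ⟨Qs, hQsdef⟩ : ∃ Qs : Finset (Place k K'), Qs = hfin.toFinset := ⟨_, rfl⟩
  have hQs : ∀ Q', Q' ∈ Qs ↔ IsOver Q' P := fun Q' => by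
    rw [hQsdef, Set.Finite.mem_toFinset]; rfl
  have hQP : IsOver Q P := ⟨e, he⟩
  have hs0 : s ≠ 0 := by
    rintro rfl
    rw [map_zero] at hs
    exact WithZero.exp_ne_zero hs.symm
  -- the norm formula
  have hN := Nrm.main P hK Qs hQs s
  rw [Finset.sum_eq_single Q (fun Q' hQ' hne => by
      rw [ord_of_val_eq_one Q' (hs' Q' ((hQs Q').1 hQ') hne), mul_zero])
    (fun h => absurd ((hQs Q).2 hQP) h), ord_of_val_eq_exp Q hs,
    deg_eq_of_surjective P Q hf] at hN
  have hdegpos : (0 : ℤ) < P.deg := by exact_mod_cast Place.deg_pos hK.1 P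
  have hordN : P.ord (Algebra.norm K s) = 1 := by
    have : (P.deg : ℤ) * P.ord (Algebra.norm K s) = (P.deg : ℤ) * 1 := by rw [hN]; ring
    exact mul_left_cancel₀ hdegpos.ne' this
  -- integrality
  have hsint : IsIntegral P.O s := by
    show s ∈ integralClosure P.O K'
    rw [Nrm.mem_S_iff P hK]
    intro Q' hQ'
    by_cases h : Q' = Q
    · rw [h, hs]; exact Nrm.exp_neg_one_lt_one.le
    · exact (hs' Q' hQ' h).le
  haveI := Nrm.isDVR P
  have hmin : minpoly K s = (minpoly P.O s).map (algebraMap P.O K) :=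
    minpoly.isIntegrallyClosed_eq_field_fractions' K hsint
  have hall : ∀ i, P.1 ((minpoly K s).coeff i) ≤ 1 := by
    intro i
    rw [hmin, coeff_map]
    exact (Place.mem_O_iff P _).1 ((minpoly P.O s).coeff i).2
  -- the norm via the minimal polynomial
  have hsK : IsIntegral K s := Algebra.IsIntegral.isIntegral s
  have hnorm : Algebra.norm K s =
      ((-1) ^ (adjoin.powerBasis hsK).dim * (minpoly K s).coeff 0) ^ Module.finrank K⟮s⟯ K' := by
    rw [Algebra.norm_eq_norm_adjoin K s, ← adjoin.powerBasis_gen hsK,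
      Algebra.PowerBasis.norm_gen_eq_coeff_zero_minpoly, adjoin.powerBasis_gen hsK,
      IntermediateField.minpoly_gen]
  have hNne : Algebra.norm K s ≠ 0 := Algebra.norm_ne_zero_iff.2 hs0
  have hc0 : (minpoly K s).coeff 0 ≠ 0 := by
    intro h
    rw [h, mul_zero, zero_pow (Module.finrank_pos).ne'] at hnorm
    exact hNne hnorm
  have hordc : P.ord ((-1) ^ (adjoin.powerBasis hsK).dim * (minpoly K s).coeff 0) =
      P.ord ((minpoly K s).coeff 0) := by
    unfold Place.ord
    rw [map_mul, map_pow, Valuation.map_neg, map_one, one_pow, one_mul]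
  have hprod : (Module.finrank K⟮s⟯ K' : ℤ) * P.ord ((minpoly K s).coeff 0) = 1 := by
    rw [← hordN, hnorm, Place.ord_pow, hordc]
  have hr : Module.finrank K⟮s⟯ K' = 1 ∧ P.ord ((minpoly K s).coeff 0) = 1 := by
    rcases Int.eq_one_or_neg_one_of_mul_eq_one' hprod with ⟨h1, h2⟩ | ⟨h1, h2⟩
    · exact ⟨by exact_mod_cast h1, h2⟩
    · exfalso
      have : (0 : ℤ) ≤ (Module.finrank K⟮s⟯ K' : ℤ) := Int.natCast_nonneg _
      omega
  have h0 : P.1 ((minpoly K s).coeff 0) = WithZero.exp (-1) := by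
    rw [Place.val_eq_exp_neg_ord P hc0, hr.2]
  refine ⟨IntermediateField.finrank_eq_one_iff_eq_top.1 hr.1, ?_⟩
  exact DExp.ord_deriv_of_shape hK hg P Q e he φ hφ ψ hψ x hx hx' s hs _ (minpoly.aeval K s) h0 hall

end Groth.Agent.Helper27.Dfs
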