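import Mathlib
import Groth.Agent.Lib.Helper27.CfF
import Groth.Agent.Lib.Helper16.FFW.Ext6

set_option autoImplicit false

namespace Groth.Agent.Helper27.Inr

open FunFld Groth.Agent.Helper16.FFW Polynomial
open scoped WithZero Pointwise

variable {k K K' : Type*} [Field k] [Field K] [Field K'] [Algebra k K] [Algebra K K'] [Algebra k K']
  [IsScalarTower k K K']

attribute [local instance] galAction

theorem exists_approx_strict (P : Place k K) (hfin : {Q' : Place k K' | IsOver Q' P}.Finite)
    (Q : Place k K') (hQ : IsOver Q P) (z : K') :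
    ∃ r : K', Q.1 (r - z) < 1 ∧ ∀ Q' : Place k K', IsOver Q' P → Q' ≠ Q → Q'.1 r < 1 := by
  classical
  obtain ⟨Qs, hQsdef⟩ : ∃ Qs : Finset (Place k K'), Qs = hfin.toFinset := ⟨_, rfl⟩
  have hQs : ∀ Q', Q' ∈ Qs ↔ IsOver Q' P := fun Q' => by
    rw [hQsdef, Set.Finite.mem_toFinset]; rfl
  obtain ⟨r, hr⟩ := weak_approx (fun i : ↥Qs => i.1) Subtype.val_injective
    (fun i => if i.1 = Q then z else 0) (fun _ => -1)
  refine ⟨r, ?_, fun Q' hQ' hne => ?_⟩
  · have := hr ⟨Q, (hQs Q).2 hQ⟩
    simp only [if_true] at this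
    exact lt_one_iff_le_exp_neg_one.2 this
  · have := hr ⟨Q', (hQs Q').2 hQ'⟩
    simp only [if_neg hne, sub_zero] at this
    exact lt_one_iff_le_exp_neg_one.2 this

theorem fiber_finite [FiniteDimensional K K'] [IsGalois K K'] {Q : Place k K'} {P : Place k K}
    {e : ℕ} (he : IsOverWith Q P e) : {Q' : Place k K' | IsOver Q' P}.Finite := by
  rw [← orbit_eq_fiber he]
  exact Set.finite_range _

theorem val_apply_eq (σ : K' ≃ₐ[K] K') (Q : Place k K') (x : K') :
    Q.1 (σ x) = (σ⁻¹ • Q).1 x := by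
  rw [galAction_apply, inv_inv]

/-- a residue class fixed by the decomposition group and separable over `F_P` lies in `F_P` -/
theorem fixed_mem_range [FiniteDimensional K K'] [IsGalois K K'] {Q : Place k K'} {P : Place k K}
    {e : ℕ} (he : IsOverWith Q P e) [P.1.HasExtension Q.1]
    (α : IsLocalRing.ResidueField Q.O)
    (hfix : ∀ σ : Q.O.decompositionSubgroup K, σ • α = α)
    (hsep : IsSeparable (IsLocalRing.ResidueField P.O) α) :
    α ∈ (algebraMap (IsLocalRing.ResidueField P.O) (IsLocalRing.ResidueField Q.O)).range := by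
  classical
  haveI : Fintype (K' ≃ₐ[K] K') := Fintype.ofFinite _
  have hQP : IsOver Q P := ⟨e, he⟩
  by_cases hα0 : α = 0
  · rw [hα0]; exact Subring.zero_mem _
  obtain ⟨a₀, rfl⟩ := IsLocalRing.residue_surjective α
  obtain ⟨a, haz, haQ'⟩ := exists_approx_strict P (fiber_finite he) Q hQP (a₀ : K')
  have haQ : Q.1 a ≤ 1 := by
    have : a = (a - a₀) + a₀ := by ring
    rw [this]
    exact (Q.1.map_add _ _).trans (max_le haz.le ((Place.mem_O_iff Q _).1 a₀.2))
  -- all conjugates are integral at `Q`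
  have hconj : ∀ σ : K' ≃ₐ[K] K', Q.1 (σ a) ≤ 1 := by
    intro σ
    rw [val_apply_eq]
    by_cases h : σ⁻¹ • Q = Q
    · rw [h]; exact haQ
    · exact (haQ' _ ⟨e, galAction_isOverWith σ⁻¹ he⟩ h).le
  let aσ : (K' ≃ₐ[K] K') → Q.O := fun σ => ⟨σ a, (Place.mem_O_iff Q _).2 (hconj σ)⟩
  set χQ : Q.O[X] := ∏ σ : K' ≃ₐ[K] K', (X - C (aσ σ)) with hχQ
  -- coefficients come from `O_P`
  let ιP : P.O →+* K' := (algebraMap K K').comp P.O.subtype
  have hι : ιP = Q.O.subtype.comp (algebraMap P.O Q.O) := rfl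
  have hχ : χQ.map Q.O.subtype = MulSemiringAction.charpoly (K' ≃ₐ[K] K') a := by
    rw [hχQ, Polynomial.map_prod, MulSemiringAction.charpoly_eq]
    refine Finset.prod_congr rfl fun σ _ => ?_
    rw [Polynomial.map_sub, Polynomial.map_X, Polynomial.map_C]
    rfl
  have hlift : χQ.map Q.O.subtype ∈ Polynomial.lifts ιP := by
    rw [Polynomial.lifts_iff_coeff_lifts]
    intro n
    have hfixed : ∀ σ : K' ≃ₐ[K] K', σ ((χQ.map Q.O.subtype).coeff n) =
        (χQ.map Q.O.subtype).coeff n := by
      intro σ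
      rw [hχ]
      exact MulSemiringAction.smul_coeff_charpoly a n σ
    have hbot : (χQ.map Q.O.subtype).coeff n ∈ (⊥ : IntermediateField K K') := by
      have hG : IntermediateField.fixedField (⊤ : Subgroup (K' ≃ₐ[K] K')) = ⊥ :=
        ((IsGalois.tfae (F := K) (E := K')).out 0 1).mp (inferInstance : IsGalois K K')
      rw [← hG]
      rintro ⟨σ, -⟩
      exact hfixed σ
    obtain ⟨d, hd⟩ := IntermediateField.mem_bot.1 hbot
    have hdO : P.1 d ≤ 1 := by
      rw [← isOverWith_le_one_iff he, hd, Polynomial.coeff_map]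
      exact (Place.mem_O_iff Q _).1 (χQ.coeff n).2
    exact ⟨⟨d, (Place.mem_O_iff P d).2 hdO⟩, hd⟩
  obtain ⟨χP, hχP⟩ := (Polynomial.mem_lifts _).1 hlift
  have hPQ : χP.map (algebraMap P.O Q.O) = χQ := by
    apply Polynomial.map_injective Q.O.subtype Subtype.val_injective
    rw [Polynomial.map_map, ← hι, hχP]
  -- reduce modulo `Q`
  set h := χP.map (IsLocalRing.residue P.O) with hh
  have hres : (IsLocalRing.residue Q.O).comp (algebraMap P.O Q.O) =
      (algebraMap (IsLocalRing.ResidueField P.O) (IsLocalRing.ResidueField Q.O)).comp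
        (IsLocalRing.residue P.O) := rfl
  have hmap : h.map (algebraMap (IsLocalRing.ResidueField P.O) (IsLocalRing.ResidueField Q.O)) =
      χQ.map (IsLocalRing.residue Q.O) := by
    rw [hh, Polynomial.map_map, ← hres, ← Polynomial.map_map, hPQ]
  have hresσ : ∀ σ : K' ≃ₐ[K] K', IsLocalRing.residue Q.O (aσ σ) =
      if σ ∈ Q.O.decompositionSubgroup K then IsLocalRing.residue Q.O a₀ else 0 := by
    intro σ
    split_ifs with hσ
    · have h1 : aσ σ = (⟨σ, hσ⟩ : Q.O.decompositionSubgroup K) •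
          (⟨a, (Place.mem_O_iff Q _).2 haQ⟩ : Q.O) := Subtype.ext rfl
      have h2 : IsLocalRing.residue Q.O (⟨a, (Place.mem_O_iff Q _).2 haQ⟩ : Q.O) =
          IsLocalRing.residue Q.O a₀ := by
        rw [← sub_eq_zero, ← map_sub, Place.residue_eq_zero_iff]
        exact haz
      rw [h1, IsLocalRing.ResidueField.residue_smul, h2]
      exact hfix _
    · rw [Place.residue_eq_zero_iff]
      show Q.1 (σ a) < 1
      rw [val_apply_eq]
      refine haQ' _ ⟨e, galAction_isOverWith σ⁻¹ he⟩ ?_
      intro hstab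
      apply hσ
      have h3 : σ⁻¹ ∈ MulAction.stabilizer (K' ≃ₐ[K] K') Q := hstab
      rw [stabilizer_eq_decomposition] at h3
      have := (Q.O.decompositionSubgroup K).inv_mem h3
      rwa [inv_inv] at this
  set ᾱ := IsLocalRing.residue Q.O a₀ with hᾱ
  have hprod : χQ.map (IsLocalRing.residue Q.O) =
      (X - C ᾱ) ^ (Finset.univ.filter fun σ : K' ≃ₐ[K] K' =>
        σ ∈ Q.O.decompositionSubgroup K).card *
      X ^ (Finset.univ.filter fun σ : K' ≃ₐ[K] K' =>
        ¬ σ ∈ Q.O.decompositionSubgroup K).card := by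
    rw [hχQ, Polynomial.map_prod]
    have : ∀ σ : K' ≃ₐ[K] K', (X - C (aσ σ)).map (IsLocalRing.residue Q.O) =
        if σ ∈ Q.O.decompositionSubgroup K then X - C ᾱ else X := by
      intro σ
      rw [Polynomial.map_sub, Polynomial.map_X, Polynomial.map_C, hresσ σ]
      split_ifs
      · rfl
      · rw [map_zero, sub_zero]
    simp only [this, Finset.prod_ite, Finset.prod_const]
  set m := (Finset.univ.filter fun σ : K' ≃ₐ[K] K' =>
        σ ∈ Q.O.decompositionSubgroup K).card with hm
  set m' := (Finset.univ.filter fun σ : K' ≃ₐ[K] K' =>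
        ¬ σ ∈ Q.O.decompositionSubgroup K).card with hm'
  have hmpos : 0 < m := Finset.card_pos.2
    ⟨1, Finset.mem_filter.2 ⟨Finset.mem_univ _, (Q.O.decompositionSubgroup K).one_mem⟩⟩
  -- the minimal polynomial
  have hint : IsIntegral (IsLocalRing.ResidueField P.O) ᾱ := hsep.isIntegral
  set μ := minpoly (IsLocalRing.ResidueField P.O) ᾱ with hμ
  have hroot : Polynomial.aeval ᾱ h = 0 := by
    rw [Polynomial.aeval_def, ← Polynomial.eval_map, hmap, hprod, Polynomial.eval_mul,
      Polynomial.eval_pow, Polynomial.eval_sub, Polynomial.eval_X, Polynomial.eval_C, sub_self,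
      zero_pow hmpos.ne', zero_mul]
  have hdvd : μ.map (algebraMap (IsLocalRing.ResidueField P.O) (IsLocalRing.ResidueField Q.O)) ∣
      (X - C ᾱ) ^ m * X ^ m' := by
    rw [← hprod, ← hmap]
    exact Polynomial.map_dvd _ (minpoly.dvd _ _ hroot)
  have hinj : Function.Injective
      (algebraMap (IsLocalRing.ResidueField P.O) (IsLocalRing.ResidueField Q.O)) :=
    (algebraMap (IsLocalRing.ResidueField P.O) (IsLocalRing.ResidueField Q.O)).injective
  have hXndvd : ¬ (X : (IsLocalRing.ResidueField Q.O)[X]) ∣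
      μ.map (algebraMap (IsLocalRing.ResidueField P.O) (IsLocalRing.ResidueField Q.O)) := by
    rw [Polynomial.X_dvd_iff, Polynomial.coeff_map]
    intro h0
    rw [map_eq_zero] at h0
    exact minpoly.coeff_zero_ne_zero hint hα0 h0
  have hcop : IsCoprime
      (μ.map (algebraMap (IsLocalRing.ResidueField P.O) (IsLocalRing.ResidueField Q.O))) (X ^ m') :=
    IsCoprime.pow_right ((Polynomial.irreducible_X.coprime_iff_not_dvd.2 hXndvd).symm)
  have hdvd' : μ.map (algebraMap (IsLocalRing.ResidueField P.O) (IsLocalRing.ResidueField Q.O)) ∣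
      (X - C ᾱ) ^ m := hcop.dvd_of_dvd_mul_right hdvd
  obtain ⟨j, -, hassoc⟩ := (dvd_prime_pow (Polynomial.prime_X_sub_C ᾱ) m).1 hdvd'
  have hsepmap : (μ.map
      (algebraMap (IsLocalRing.ResidueField P.O) (IsLocalRing.ResidueField Q.O))).Separable :=
    Polynomial.Separable.map hsep
  have hj1 : j ≤ 1 := by
    by_contra hj2
    push Not at hj2
    have h1 : (X - C ᾱ) * (X - C ᾱ) ∣
        μ.map (algebraMap (IsLocalRing.ResidueField P.O) (IsLocalRing.ResidueField Q.O)) := by
      refine dvd_trans ?_ hassoc.symm.dvd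
      rw [← pow_two]
      exact pow_dvd_pow _ hj2
    exact Polynomial.not_isUnit_X_sub_C ᾱ (hsepmap.squarefree _ h1)
  have hdeg : μ.natDegree = j := by
    have h1 := Polynomial.natDegree_eq_of_degree_eq (Polynomial.degree_eq_degree_of_associated hassoc)
    rw [Polynomial.natDegree_map, Polynomial.natDegree_pow, Polynomial.natDegree_X_sub_C,
      mul_one] at h1
    exact h1
  have hpos : 0 < μ.natDegree := minpoly.natDegree_pos hint
  have : μ.natDegree = 1 := by omega
  exact minpoly.natDegree_eq_one_iff.1 this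

end Groth.Agent.Helper27.Inr
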