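import Mathlib
import Groth.Agent.Lib.Helper27.InrA
import Groth.Agent.Lib.Helper27.DfsA

set_option autoImplicit false

namespace Groth.Agent.Helper27.Inr

open FunFld Groth.Agent.Helper16.FFW Polynomial
open scoped WithZero Pointwise

variable {k K K' : Type*} [Field k] [Field K] [Field K'] [Algebra k K] [Algebra K K'] [Algebra k K']
  [IsScalarTower k K K']

theorem hasExtension_of_isOverWith {Q : Place k K'} {P : Place k K} {e : ℕ}
    (he : IsOverWith Q P e) : P.1.HasExtension Q.1 := by
  have hpos := isOverWith_pos he
  refine ⟨fun x y => ?_⟩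
  show P.1 x ≤ P.1 y ↔ Q.1 (algebraMap K K' x) ≤ Q.1 (algebraMap K K' y)
  rw [he x, he y, pow_le_pow_iff_left₀ zero_le zero_le hpos.ne']

section tower
variable (P : Place k K) (Q : Place k K') [P.1.HasExtension Q.1]

theorem algebraMap_res_comp (c : k) :
    algebraMap (IsLocalRing.ResidueField P.O) (IsLocalRing.ResidueField Q.O)
      (algebraMap k (IsLocalRing.ResidueField P.O) c) =
      algebraMap k (IsLocalRing.ResidueField Q.O) c := by
  show IsLocalRing.residue Q.O (algebraMap P.O Q.O (algebraMap k P.O c)) =
    IsLocalRing.residue Q.O (algebraMap k Q.O c)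
  congr 1
  apply Subtype.ext
  show algebraMap K K' (algebraMap k K c) = algebraMap k K' c
  exact (IsScalarTower.algebraMap_apply k K K' c).symm

theorem isScalarTower_res :
    IsScalarTower k (IsLocalRing.ResidueField P.O) (IsLocalRing.ResidueField Q.O) :=
  IsScalarTower.of_algebraMap_eq (fun c => (algebraMap_res_comp P Q c).symm)

/-- `deg Q = [F_Q : F_P] · deg P` -/
theorem deg_eq_finrank_mul (hK : IsWeakFF k K) (hK' : IsWeakFF k K') :
    Q.deg = Module.finrank (IsLocalRing.ResidueField P.O) (IsLocalRing.ResidueField Q.O) * P.deg := by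
  classical
  haveI := Place.finiteDimensional_residueField hK P
  haveI := Place.finiteDimensional_residueField hK' Q
  -- `F_Q` is finite over `F_P`
  haveI : Module.Finite (IsLocalRing.ResidueField P.O) (IsLocalRing.ResidueField Q.O) := by
    haveI := isScalarTower_res P Q
    exact @Module.Finite.of_restrictScalars_finite k (IsLocalRing.ResidueField P.O)
      (IsLocalRing.ResidueField Q.O) _ _ _ Algebra.toModule Algebra.toModule Algebra.toSMul
      (isScalarTower_res P Q) (Place.finiteDimensional_residueField hK' Q)
  let b := Module.finBasis (IsLocalRing.ResidueField P.O) (IsLocalRing.ResidueField Q.O)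
  let E : IsLocalRing.ResidueField Q.O ≃ₗ[k]
      (Fin (Module.finrank (IsLocalRing.ResidueField P.O) (IsLocalRing.ResidueField Q.O)) →
        IsLocalRing.ResidueField P.O) :=
    { toFun := fun x i => b.repr x i
      invFun := fun g => ∑ i, g i • b i
      map_add' := fun x y => by funext i; simp
      map_smul' := fun c x => by
        funext i
        have : c • x = (algebraMap k (IsLocalRing.ResidueField P.O) c) • x := by
          rw [Algebra.smul_def, Algebra.smul_def, algebraMap_res_comp]
        show b.repr (c • x) i = c • b.repr x i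
        rw [this, map_smul, Finsupp.smul_apply, smul_eq_mul, Algebra.smul_def]
      left_inv := fun x => b.sum_repr x
      right_inv := fun g => by
        funext i
        show b.repr (∑ j, g j • b j) i = g i
        rw [b.repr_sum_self] }
  unfold Place.deg
  rw [E.finrank_eq, Module.finrank_pi_fintype]
  simp

end tower

/-- the order of the inertia group is the ramification index -/
theorem card_inertia [FiniteDimensional K K'] [IsGalois K K'] (hK : IsFunctionField k K)
    {Q : Place k K'} {P : Place k K} {e : ℕ} (he : IsOverWith Q P e)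
    [hsepQ : Algebra.IsSeparable k (IsLocalRing.ResidueField Q.O)] :
    Nat.card (Q.O.inertiaSubgroup K) = e := by
  classical
  haveI := hasExtension_of_isOverWith he
  haveI := isScalarTower_res P Q
  have hK' : IsWeakFF k K' := isWeakFF_of_finite hK.1
  set ρ : Q.O.decompositionSubgroup K →* RingAut (IsLocalRing.ResidueField Q.O) :=
    MulSemiringAction.toRingAut (Q.O.decompositionSubgroup K) (IsLocalRing.ResidueField Q.O)
    with hρ
  have hI : Q.O.inertiaSubgroup K = ρ.ker := rfl
  haveI : Finite ρ.range := inferInstance
  haveI : Fintype ρ.range := Fintype.ofFinite _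
  -- Artin
  have hart := FixedPoints.finrank_eq_card ρ.range (IsLocalRing.ResidueField Q.O)
  -- the fixed field is the image of `F_P`
  have hfixed : FixedPoints.subfield ρ.range (IsLocalRing.ResidueField Q.O) =
      (algebraMap (IsLocalRing.ResidueField P.O) (IsLocalRing.ResidueField Q.O)).fieldRange := by
    ext α
    constructor
    · intro hα
      have hfix : ∀ σ : Q.O.decompositionSubgroup K, σ • α = α := fun σ =>
        hα ⟨ρ σ, σ, rfl⟩
      have hsep : IsSeparable (IsLocalRing.ResidueField P.O) α :=
        IsSeparable.tower_top _ (Algebra.IsSeparable.isSeparable k α)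
      exact fixed_mem_range he α hfix hsep
    · rintro ⟨β, rfl⟩ ⟨g, σ, rfl⟩
      obtain ⟨b, rfl⟩ := IsLocalRing.residue_surjective β
      show σ • (algebraMap (IsLocalRing.ResidueField P.O) (IsLocalRing.ResidueField Q.O))
        (IsLocalRing.residue P.O b) = _
      rw [Valuation.HasExtension.algebraMap_residue_eq_residue_algebraMap,
        ← IsLocalRing.ResidueField.residue_smul]
      congr 1
      apply Subtype.ext
      show (σ : K' ≃ₐ[K] K') (algebraMap K K' (b : K)) = algebraMap K K' (b : K)
      exact AlgEquiv.commutes _ _
  -- `[F_Q : F_P] = |range|`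
  have hf : Module.finrank (IsLocalRing.ResidueField P.O) (IsLocalRing.ResidueField Q.O) =
      Nat.card ρ.range := by
    rw [Nat.card_eq_fintype_card, ← hart]
    let e1 : IsLocalRing.ResidueField P.O ≃+*
        (algebraMap (IsLocalRing.ResidueField P.O) (IsLocalRing.ResidueField Q.O)).fieldRange :=
      RingEquiv.ofBijective
        (algebraMap (IsLocalRing.ResidueField P.O) (IsLocalRing.ResidueField Q.O)).rangeRestrictField
        ⟨fun x y hxy => (algebraMap (IsLocalRing.ResidueField P.O)
            (IsLocalRing.ResidueField Q.O)).injective (congrArg Subtype.val hxy),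
          fun ⟨y, x, hx⟩ => ⟨x, Subtype.ext hx⟩⟩
    rw [hfixed]
    exact Algebra.finrank_eq_of_equiv_equiv e1 (RingEquiv.refl _) (by
      ext x
      show ((e1 x : (algebraMap (IsLocalRing.ResidueField P.O)
        (IsLocalRing.ResidueField Q.O)).fieldRange) : IsLocalRing.ResidueField Q.O) =
        algebraMap (IsLocalRing.ResidueField P.O) (IsLocalRing.ResidueField Q.O) x
      rfl)
  have hdeg := deg_eq_finrank_mul P Q hK.1 hK'
  have hD := card_decomposition_mul_deg hK he
  have hidx : Nat.card ρ.range * Nat.card (Q.O.inertiaSubgroup K) =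
      Nat.card (Q.O.decompositionSubgroup K) := by
    rw [hI, ← Subgroup.index_ker, Subgroup.index_mul_card]
  have hPpos : 0 < P.deg := Place.deg_pos hK.1 P
  have hrpos : 0 < Nat.card ρ.range := Nat.card_pos
  rw [← hidx, hdeg, hf] at hD
  have h3 : Nat.card (Q.O.inertiaSubgroup K) * (Nat.card ρ.range * P.deg) =
      e * (Nat.card ρ.range * P.deg) := by
    rw [← hD]; ring
  exact Nat.eq_of_mul_eq_mul_right (Nat.mul_pos hrpos hPpos) h3

end Groth.Agent.Helper27.Inr
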