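import Mathlib
import Groth.Agent.Lib.Helper27.InrB

set_option autoImplicit false

namespace Groth.Agent.Helper27.Pin

open FunFld Polynomial Groth.Agent.Helper16.FFW IntermediateField
open scoped WithZero

variable {k K K' : Type*} [Field k] [Field K] [Field K'] [Algebra k K] [Algebra K K'] [Algebra k K']
  [IsScalarTower k K K']

/-- places of a radicial extension are determined by their restriction -/
theorem eq_of_radicial (q : ℕ) (hq : 0 < q)
    (hrad : ∀ z : K', ∃ m : ℕ, z ^ q ^ m ∈ (algebraMap K K').range)
    {Q Q' : Place k K'} {R : Place k K} (h : IsOver Q R) (h' : IsOver Q' R) : Q = Q' := by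
  obtain ⟨e, he⟩ := h
  obtain ⟨e', he'⟩ := h'
  apply Place.eq_of_le_one_imp
  intro y hy
  obtain ⟨m, a, ha⟩ := hrad y
  have hpos : 0 < q ^ m := pow_pos hq m
  have h1 : Q.1 (algebraMap K K' a) ≤ 1 := by
    rw [ha, map_pow]; exact pow_le_one' hy _
  have h2 : R.1 a ≤ 1 := (isOverWith_le_one_iff he a).1 h1
  have h3 : Q'.1 (algebraMap K K' a) ≤ 1 := (isOverWith_le_one_iff he' a).2 h2
  rw [ha, map_pow] at h3
  exact (pow_le_one_iff_of_nonneg zero_le hpos.ne').1 h3

section tower
variable (P : Place k K) (Q : Place k K') [P.1.HasExtension Q.1]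

theorem finite_res (hK' : IsWeakFF k K') :
    Module.Finite (IsLocalRing.ResidueField P.O) (IsLocalRing.ResidueField Q.O) :=
  @Module.Finite.of_restrictScalars_finite k (IsLocalRing.ResidueField P.O)
    (IsLocalRing.ResidueField Q.O) _ _ _ Algebra.toModule Algebra.toModule Algebra.toSMul
    (Inr.isScalarTower_res P Q) (Place.finiteDimensional_residueField hK' Q)

/-- a separable constant forces a big residue extension when `F_P/k` is purely inseparable -/
theorem natDegree_le_finrank_res (hK' : IsWeakFF k K')
    [IsPurelyInseparable k (IsLocalRing.ResidueField P.O)] {θ : K'} (hθ : IsSeparable k θ) :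
    (minpoly k θ).natDegree ≤
      Module.finrank (IsLocalRing.ResidueField P.O) (IsLocalRing.ResidueField Q.O) := by
  haveI := Inr.isScalarTower_res P Q
  haveI := finite_res P Q hK'
  have hint : IsIntegral k θ := hθ.isIntegral
  have hθQ : Q.1 θ ≤ 1 := Place.val_le_one_of_isIntegral Q hint
  set θO : Q.O := ⟨θ, (Place.mem_O_iff Q θ).2 hθQ⟩ with hθO
  set θbar := IsLocalRing.residue Q.O θO with hθbar
  have hroot : aeval θbar (minpoly k θ) = 0 := by
    have h1 : aeval θbar (minpoly k θ) =
        IsLocalRing.residue Q.O ((minpoly k θ).eval₂ (algebraMap k Q.O) θO) := by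
      rw [aeval_def, Polynomial.hom_eval₂]
      rfl
    rw [h1, Place.residue_eq_zero_iff]
    have h2 : (((minpoly k θ).eval₂ (algebraMap k Q.O) θO : Q.O) : K') = aeval θ (minpoly k θ) := by
      have := Polynomial.hom_eval₂ (minpoly k θ) (algebraMap k Q.O) Q.O.subtype θO
      exact this
    rw [h2, minpoly.aeval, map_zero]
    exact zero_lt_one
  have heq : minpoly k θ = minpoly k θbar :=
    minpoly.eq_of_irreducible_of_monic (minpoly.irreducible hint) hroot (minpoly.monic hint)
  have hsep : IsSeparable k θbar := by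
    show (minpoly k θbar).Separable
    rw [← heq]; exact hθ
  have hmap := minpoly.map_eq_of_isSeparable_of_isPurelyInseparable
    (IsLocalRing.ResidueField P.O) θbar hsep
  calc (minpoly k θ).natDegree = ((minpoly k θbar).map
        (algebraMap k (IsLocalRing.ResidueField P.O))).natDegree := by
        rw [Polynomial.natDegree_map, heq]
    _ = (minpoly (IsLocalRing.ResidueField P.O) θbar).natDegree := by rw [hmap]
    _ ≤ _ := minpoly.natDegree_le θbar

end tower

/-- if every place above `P` has residue degree at least `[K' : K]`, there is only one -/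
theorem unique_of_finrank_le [FiniteDimensional K K'] (hK : IsFunctionField k K) (P : Place k K)
    (n : ℕ) (hn : Module.finrank K K' ≤ n) (hn0 : 0 < n)
    (hbig : ∀ Q : Place k K', ∀ [P.1.HasExtension Q.1], IsOver Q P →
      n ≤ Module.finrank (IsLocalRing.ResidueField P.O) (IsLocalRing.ResidueField Q.O))
    {Q Q' : Place k K'} (hQ : IsOver Q P) (hQ' : IsOver Q' P) : Q = Q' := by
  classical
  by_contra hne
  have hK' : IsWeakFF k K' := isWeakFF_of_finite hK.1
  obtain ⟨hfin, hsum⟩ := sum_ramIdx_mul_deg (K' := K') hK P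
  have hs := hsum hfin.toFinset (fun R => by rw [Set.Finite.mem_toFinset]; rfl)
  have hterm : ∀ R : Place k K', IsOver R P → n * P.deg ≤ ramIdx R P * R.deg := by
    intro R hR
    obtain ⟨e, he⟩ := hR
    haveI := Inr.hasExtension_of_isOverWith he
    rw [ramIdx_eq he, Inr.deg_eq_finrank_mul P R hK.1 hK']
    have h1 := hbig R ⟨e, he⟩
    have h2 := isOverWith_pos he
    calc n * P.deg ≤ Module.finrank (IsLocalRing.ResidueField P.O)
          (IsLocalRing.ResidueField R.O) * P.deg := Nat.mul_le_mul_right _ h1
      _ ≤ e * (Module.finrank (IsLocalRing.ResidueField P.O)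
          (IsLocalRing.ResidueField R.O) * P.deg) := Nat.le_mul_of_pos_left _ h2
  have hsub : ({Q, Q'} : Finset (Place k K')) ⊆ hfin.toFinset := by
    intro R hR
    rw [Finset.mem_insert, Finset.mem_singleton] at hR
    rw [Set.Finite.mem_toFinset]
    rcases hR with rfl | rfl
    · exact hQ
    · exact hQ'
  have h2 : ∑ R ∈ ({Q, Q'} : Finset (Place k K')), ramIdx R P * R.deg ≤
      ∑ R ∈ hfin.toFinset, ramIdx R P * R.deg :=
    Finset.sum_le_sum_of_subset hsub
  rw [Finset.sum_pair hne, hs] at h2
  have h3 := hterm Q hQ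
  have h4 := hterm Q' hQ'
  have hP : 0 < P.deg := Place.deg_pos hK.1 P
  have h5 : Module.finrank K K' * P.deg ≤ n * P.deg := Nat.mul_le_mul_right _ hn
  have h6 : 0 < n * P.deg := Nat.mul_pos hn0 hP
  omega

end Groth.Agent.Helper27.Pin
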