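import Mathlib
import Groth.Agent.Lib.Helper27.CfF
import Groth.Agent.Lib.Helper27.FrobB
import Groth.Agent.Lib.Helper27.PinA

set_option autoImplicit false

namespace Groth.Agent.Helper27.Zs

open FunFld Groth.Agent.Helper16.FFW
open scoped WithZero

universe u v

theorem pow_card_pow_eq {F : Type*} [Monoid F] {x : F} {N : ℕ} (hx : x ^ N = x) (j : ℕ) :
    x ^ (N ^ j) = x := by
  induction j with
  | zero => simp
  | succ j ih => rw [pow_succ, pow_mul, ih, hx]

variable {k k' : Type u} {K K' : Type v} [Field k] [Field k'] [Field K] [Field K']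
  [Algebra k k'] [Algebra k K] [Algebra K K'] [Algebra k' K'] [Algebra k K']
  [IsScalarTower k k' K'] [IsScalarTower k K K']

/-- over a finite constant field, a place whose degree is divisible by `[k' : k]` has trivial
residue extensions in `k' K` -/
theorem res_surjective [Finite k] [FiniteDimensional k k']
    (h : Function.Bijective (Algebra.TensorProduct.productMap
      (IsScalarTower.toAlgHom k k' K') (IsScalarTower.toAlgHom k K K')))
    (hK : IsFunctionField k K) (P : Place k K)
    (hdvd : Module.finrank k k' ∣ P.deg) (Q : Place k K') (hQ : IsOver Q P)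
    [P.1.HasExtension Q.1] :
    Function.Surjective
      (algebraMap (IsLocalRing.ResidueField P.O) (IsLocalRing.ResidueField Q.O)) := by
  classical
  haveI : Finite k' := Module.finite_of_finite k
  haveI : Fintype k' := Fintype.ofFinite k'
  haveI : Algebra.IsAlgebraic k k' := Algebra.IsAlgebraic.of_finite k k'
  haveI : PerfectField k := PerfectField.ofFinite
  haveI : Algebra.IsSeparable k k' := Algebra.IsAlgebraic.isSeparable_of_perfectField
  letI : Algebra P.O K' := ((algebraMap K K').comp (algebraMap P.O K)).toAlgebra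
  haveI : IsScalarTower P.O K K' := .of_algebraMap_eq (fun _ => rfl)
  obtain ⟨hns, -⟩ := Cf.main11012 h hK P Q hQ
  have hk' : ∀ c : k', Q.1 (algebraMap k' K' c) ≤ 1 := fun c =>
    Place.val_le_one_of_isIntegral Q
      ((Algebra.IsIntegral.isIntegral (R := k) c).map (IsScalarTower.toAlgHom k k' K'))
  have hgen := Cf.main12589 h hK P hns Q hk'
  have hfdP := Place.finiteDimensional_residueField hK.1 P
  haveI : Finite (IsLocalRing.ResidueField P.O) := Module.finite_of_finite k
  have hcardP : Nat.card (IsLocalRing.ResidueField P.O) = Nat.card k ^ P.deg :=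
    Module.natCard_eq_pow_finrank
  have hcardk' : Nat.card k' = Nat.card k ^ Module.finrank k k' := Module.natCard_eq_pow_finrank
  have hsub : Set.range (fun c : k' => IsLocalRing.residue Q.O ⟨algebraMap k' K' c, hk' c⟩) ⊆
      Set.range (algebraMap (IsLocalRing.ResidueField P.O) (IsLocalRing.ResidueField Q.O)) := by
    rintro _ ⟨c, rfl⟩
    apply Frob.mem_range_of_pow_card (k := IsLocalRing.ResidueField P.O)
    obtain ⟨j, hj⟩ := hdvd
    rw [hcardP, hj, pow_mul, ← hcardk']
    apply pow_card_pow_eq
    have hc : c ^ Nat.card k' = c := by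
      rw [Nat.card_eq_fintype_card]; exact FiniteField.pow_card c
    rw [← map_pow]
    congr 1
    apply Subtype.ext
    show (algebraMap k' K' c) ^ Nat.card k' = algebraMap k' K' c
    rw [← map_pow, hc]
  intro ζ
  have hζ : ζ ∈ (⊤ : Subalgebra (IsLocalRing.ResidueField P.O) (IsLocalRing.ResidueField Q.O)) :=
    trivial
  rw [← hgen] at hζ
  have hle : Algebra.adjoin (IsLocalRing.ResidueField P.O)
      (Set.range fun c : k' => IsLocalRing.residue Q.O ⟨algebraMap k' K' c, hk' c⟩) ≤ ⊥ :=
    Algebra.adjoin_le (fun x hx => by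
      obtain ⟨a, rfl⟩ := hsub hx
      exact Subalgebra.algebraMap_mem _ a)
  obtain ⟨a, ha⟩ := Algebra.mem_bot.1 (hle hζ)
  exact ⟨a, ha⟩

theorem deg_eq_of_isOver [Finite k] [FiniteDimensional k k']
    (h : Function.Bijective (Algebra.TensorProduct.productMap
      (IsScalarTower.toAlgHom k k' K') (IsScalarTower.toAlgHom k K K')))
    (hK : IsFunctionField k K) (P : Place k K)
    (hdvd : Module.finrank k k' ∣ P.deg) (Q : Place k K') (hQ : IsOver Q P) :
    Q.deg = P.deg := by
  haveI : FiniteDimensional K K' := Groth.Agent.Helper16.FF.finite_scalarExt h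
  obtain ⟨e, he⟩ := hQ
  haveI := Inr.hasExtension_of_isOverWith he
  have hsurj := res_surjective h hK P hdvd Q ⟨e, he⟩
  have hinj := (algebraMap (IsLocalRing.ResidueField P.O) (IsLocalRing.ResidueField Q.O)).injective
  let E : IsLocalRing.ResidueField P.O ≃ₗ[IsLocalRing.ResidueField P.O]
      IsLocalRing.ResidueField Q.O :=
    LinearEquiv.ofBijective (Algebra.linearMap _ _) ⟨hinj, hsurj⟩
  have h1 := E.finrank_eq
  rw [Module.finrank_self] at h1
  rw [Inr.deg_eq_finrank_mul P Q hK.1 (isWeakFF_of_finite hK.1), ← h1, one_mul]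

/-- there are `[k' : k]` places above `P` -/
theorem card_fiber [Finite k] [FiniteDimensional k k']
    (h : Function.Bijective (Algebra.TensorProduct.productMap
      (IsScalarTower.toAlgHom k k' K') (IsScalarTower.toAlgHom k K K')))
    (hK : IsFunctionField k K) (P : Place k K)
    (hdvd : Module.finrank k k' ∣ P.deg) (Qs : Finset (Place k K'))
    (hQs : ∀ Q, Q ∈ Qs ↔ IsOver Q P) : Qs.card = Module.finrank k k' := by
  classical
  haveI : FiniteDimensional K K' := Groth.Agent.Helper16.FF.finite_scalarExt h
  haveI : Algebra.IsAlgebraic k k' := Algebra.IsAlgebraic.of_finite k k'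
  haveI : PerfectField k := PerfectField.ofFinite
  haveI : Algebra.IsSeparable k k' := Algebra.IsAlgebraic.isSeparable_of_perfectField
  letI : Algebra P.O K' := ((algebraMap K K').comp (algebraMap P.O K)).toAlgebra
  haveI : IsScalarTower P.O K K' := .of_algebraMap_eq (fun _ => rfl)
  obtain ⟨-, hsum⟩ := sum_ramIdx_mul_deg (K' := K') hK P
  have hs := hsum Qs hQs
  have hterm : ∀ Q ∈ Qs, ramIdx Q P * Q.deg = P.deg := by
    intro Q hQ
    have hQP := (hQs Q).1 hQ
    obtain ⟨-, h1⟩ := Cf.main11012 h hK P Q hQP
    rw [ramIdx_eq h1, deg_eq_of_isOver h hK P hdvd Q hQP, one_mul]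
  rw [Finset.sum_congr rfl hterm, Finset.sum_const, smul_eq_mul] at hs
  have hrk : Module.finrank K K' = Module.finrank k k' := by
    let b := Module.finBasis k k'
    have h1 := Module.finrank_eq_card_basis (Cf.basisK h b)
    rw [h1, Fintype.card_fin]
  rw [hrk] at hs
  exact Nat.eq_of_mul_eq_mul_right (Place.deg_pos hK.1 P) hs

end Groth.Agent.Helper27.Zs
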