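import Mathlib
import Groth.Agent.Lib.Helper27.ZsA
import Groth.Agent.Lib.Helper27.RHb
import Groth.Agent.Lib.Helper27.ZetC

set_option autoImplicit false

namespace Groth.Agent.Helper27.Zs

open FunFld Groth.Agent.Helper16.FFW
open scoped WithZero

universe u v

section lift

variable {k k' K K' : Type*} [Field k] [Field k'] [Field K] [Field K'] [Algebra k K]
  [Algebra k' K']

theorem deg_mapDomain (f : Place k K → Place k' K') (r : ℕ)
    (hf : ∀ P, r * (f P).deg = P.deg) (D : Divisor k K) :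
    (r : ℤ) * Divisor.deg (Finsupp.mapDomain f D : Divisor k' K') = D.deg := by
  unfold Divisor.deg
  rw [Finsupp.sum_mapDomain_index (by intro; simp) (by intro _ _ _; ring), Finsupp.mul_sum]
  refine Finsupp.sum_congr (fun P _ => ?_)
  rw [← hf P]
  push_cast
  ring

theorem mapDomain_nonneg (f : Place k K → Place k' K') (hinj : Function.Injective f)
    {D : Divisor k K} (hD : 0 ≤ D) : (0 : Divisor k' K') ≤ Finsupp.mapDomain f D := by
  intro Q
  by_cases hQ : Q ∈ Set.range f
  · obtain ⟨P, rfl⟩ := hQ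
    rw [Finsupp.mapDomain_apply hinj]
    exact hD P
  · rw [Finsupp.mapDomain_notin_range _ _ hQ]
    rfl

end lift

variable {k k' : Type u} {K K' : Type v} [Field k] [Field k'] [Field K] [Field K']
  [Algebra k k'] [Algebra k K] [Algebra K K'] [Algebra k' K'] [Algebra k K']
  [IsScalarTower k k' K'] [IsScalarTower k K K']

/-- the key lower bound for the number of effective divisors of the constant extension -/
theorem sum_le_effDivCount [Finite k] [FiniteDimensional k k']
    (h : Function.Bijective (Algebra.TensorProduct.productMap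
      (IsScalarTower.toAlgHom k k' K') (IsScalarTower.toAlgHom k K K')))
    (hK : IsFunctionField k K) (hK' : IsFunctionField k' K')
    (hr : 2 ≤ Module.finrank k k')
    (hdvd : ∀ P : Place k K, Module.finrank k k' ∣ P.deg) (J N m : ℕ) (hm : J + N ≤ m + 1) :
    ∑ j ∈ Finset.range N, effDivCount k K (Module.finrank k k' * (J + j)) *
        effDivCount k K (Module.finrank k k' * (m - (J + j))) ≤ effDivCount k' K' m := by
  classical
  haveI : Finite k' := Module.finite_of_finite k
  haveI : FiniteDimensional K K' := Groth.Agent.Helper16.FF.finite_scalarExt h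
  haveI : Algebra.IsAlgebraic k k' := Algebra.IsAlgebraic.of_finite k k'
  set r := Module.finrank k k' with hrdef
  have hr0 : 0 < r := by omega
  -- two places above each place
  have hex : ∀ P : Place k K, ∃ Q1 Q2 : Place k' K',
      IsOver (RH.toK Q1 : Place k K') P ∧ IsOver (RH.toK Q2 : Place k K') P ∧ Q1 ≠ Q2 := by
    intro P
    obtain ⟨hfin, -⟩ := sum_ramIdx_mul_deg (K' := K') hK P
    have hcard := card_fiber h hK P (hdvd P) hfin.toFinset
      (fun Q => by rw [Set.Finite.mem_toFinset]; rfl)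
    have h1 : 1 < hfin.toFinset.card := by rw [hcard]; omega
    obtain ⟨A, hA, B, hB, hAB⟩ := Finset.one_lt_card.1 h1
    rw [Set.Finite.mem_toFinset] at hA hB
    obtain ⟨Q1, rfl⟩ := RH.toK_surjective (k := k) (k' := k') A
    obtain ⟨Q2, rfl⟩ := RH.toK_surjective (k := k) (k' := k') B
    exact ⟨Q1, Q2, hA, hB, fun hc => hAB (by rw [hc])⟩
  choose f₁ f₂ hf₁ hf₂ hne using hex
  have hbelow : ∀ (Q : Place k' K') (P P' : Place k K), IsOver (RH.toK Q : Place k K') P →
      IsOver (RH.toK Q : Place k K') P' → P = P' := by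
    rintro Q P P' ⟨e, he⟩ ⟨e', he'⟩
    exact (isOverWith_unique he he').1
  have hinj₁ : Function.Injective f₁ := fun P P' hPP =>
    hbelow (f₁ P) P P' (hf₁ P) (hPP ▸ hf₁ P')
  have hinj₂ : Function.Injective f₂ := fun P P' hPP =>
    hbelow (f₂ P) P P' (hf₂ P) (hPP ▸ hf₂ P')
  have hdeg₁ : ∀ P, r * (f₁ P).deg = P.deg := fun P => by
    rw [← RH.deg_toK (k := k), deg_eq_of_isOver h hK P (hdvd P) _ (hf₁ P)]
  have hdeg₂ : ∀ P, r * (f₂ P).deg = P.deg := fun P => by
    rw [← RH.deg_toK (k := k), deg_eq_of_isOver h hK P (hdvd P) _ (hf₂ P)]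
  have hdisj₁ : ∀ P, f₁ P ∉ Set.range f₂ := by
    rintro P ⟨P', hP'⟩
    have : P' = P := hbelow (f₂ P') P' P (hf₂ P') (hP' ▸ hf₁ P)
    subst this
    exact hne P' hP'.symm
  have hdisj₂ : ∀ P, f₂ P ∉ Set.range f₁ := by
    rintro P ⟨P', hP'⟩
    have : P' = P := hbelow (f₁ P') P' P (hf₁ P') (hP' ▸ hf₂ P)
    subst this
    exact hne P' hP'
  -- the injection
  let E : ℕ → Type _ := fun n => {D : Divisor k K // 0 ≤ D ∧ D.deg = n}
  let S : Type _ := Σ j : Fin N, E (r * (J + j)) × E (r * (m - (J + j)))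
  let Ψ : S → {D : Divisor k' K' // 0 ≤ D ∧ D.deg = m} := fun x =>
    ⟨Finsupp.mapDomain f₁ x.2.1.1 + Finsupp.mapDomain f₂ x.2.2.1, by
      refine ⟨add_nonneg (mapDomain_nonneg f₁ hinj₁ x.2.1.2.1)
        (mapDomain_nonneg f₂ hinj₂ x.2.2.2.1), ?_⟩
      have h1 := deg_mapDomain f₁ r hdeg₁ x.2.1.1
      have h2 := deg_mapDomain f₂ r hdeg₂ x.2.2.1
      rw [x.2.1.2.2] at h1
      rw [x.2.2.2.2] at h2
      have hj : J + (x.1 : ℕ) ≤ m := by have := x.1.2; omega
      have h3 : (r : ℤ) * Divisor.deg (Finsupp.mapDomain f₁ x.2.1.1 + Finsupp.mapDomain f₂ x.2.2.1 :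
          Divisor k' K') = (r : ℤ) * m := by
        have hadd : Divisor.deg (Finsupp.mapDomain f₁ x.2.1.1 + Finsupp.mapDomain f₂ x.2.2.1 :
            Divisor k' K') = Divisor.deg (Finsupp.mapDomain f₁ x.2.1.1 : Divisor k' K') +
              Divisor.deg (Finsupp.mapDomain f₂ x.2.2.1 : Divisor k' K') := by
          unfold Divisor.deg
          exact Finsupp.sum_add_index' (by intro; simp) (by intro _ _ _; ring)
        rw [hadd, mul_add, h1, h2]
        push_cast
        rw [Nat.cast_sub hj]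
        push_cast
        ring
      exact mul_left_cancel₀ (show (r : ℤ) ≠ 0 by exact_mod_cast hr0.ne') h3⟩
  have hΨ : Function.Injective Ψ := by
    rintro ⟨j, ⟨D₁, hD₁⟩, ⟨D₂, hD₂⟩⟩ ⟨j', ⟨D₁', hD₁'⟩, ⟨D₂', hD₂'⟩⟩ hxy
    have hsum : Finsupp.mapDomain f₁ D₁ + Finsupp.mapDomain f₂ D₂ =
        (Finsupp.mapDomain f₁ D₁' + Finsupp.mapDomain f₂ D₂' : Divisor k' K') :=
      congrArg Subtype.val hxy
    have e1 : D₁ = D₁' := by
      ext P
      have := DFunLike.congr_fun hsum (f₁ P)
      rw [Finsupp.add_apply, Finsupp.add_apply, Finsupp.mapDomain_apply hinj₁,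
        Finsupp.mapDomain_apply hinj₁, Finsupp.mapDomain_notin_range _ _ (hdisj₁ P),
        Finsupp.mapDomain_notin_range _ _ (hdisj₁ P), add_zero, add_zero] at this
      exact this
    have e2 : D₂ = D₂' := by
      ext P
      have := DFunLike.congr_fun hsum (f₂ P)
      rw [Finsupp.add_apply, Finsupp.add_apply, Finsupp.mapDomain_apply hinj₂,
        Finsupp.mapDomain_apply hinj₂, Finsupp.mapDomain_notin_range _ _ (hdisj₂ P),
        Finsupp.mapDomain_notin_range _ _ (hdisj₂ P), zero_add, zero_add] at this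
      exact this
    subst e1 e2
    have ej : j = j' := by
      have h1 := hD₁.2
      have h2 := hD₁'.2
      rw [h1] at h2
      have h3 : r * (J + (j : ℕ)) = r * (J + (j' : ℕ)) := by exact_mod_cast h2
      have h4 := Nat.eq_of_mul_eq_mul_left hr0 h3
      exact Fin.ext (by omega)
    subst ej
    rfl
  haveI : ∀ n, Finite (E n) := fun n => Zet.finite_effDiv hK n
  haveI : Finite {D : Divisor k' K' // 0 ≤ D ∧ D.deg = m} := Zet.finite_effDiv hK' m
  have hcard := Nat.card_le_card_of_injective Ψ hΨ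
  have hS : Nat.card S = ∑ j ∈ Finset.range N, effDivCount k K (r * (J + j)) *
      effDivCount k K (r * (m - (J + j))) := by
    rw [Nat.card_sigma, ← Fin.sum_univ_eq_sum_range
      (fun j => effDivCount k K (r * (J + j)) * effDivCount k K (r * (m - (J + j))))]
    refine Finset.sum_congr rfl (fun j _ => ?_)
    rw [Nat.card_prod]
    rfl
  rw [hS] at hcard
  exact hcard

end Groth.Agent.Helper27.Zs
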