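import Mathlib
import Groth.Agent.Lib.Helper27.ZsB
import Groth.Agent.Lib.Helper16.FF.GeomE

set_option autoImplicit false

namespace Groth.Agent.Helper27.Zs

open FunFld Groth.Agent.Helper16.FFW
open scoped WithZero

universe u v

section bounds

variable {k K : Type*} [Field k] [Field K] [Algebra k K]

theorem classNum_pos [Finite k] (hK : IsFunctionField k K) : 0 < classNum k K := by
  haveI := (Zet.main11037 hK).1
  exact Nat.card_pos

/-- lower bound for the number of effective divisors -/
theorem pow_le_effDivCount [Finite k] (hK : IsFunctionField k K) (n : ℕ)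
    (hn : 2 * genus k K ≤ n) (hex : ∃ D : Divisor k K, D.deg = n) :
    Nat.card k ^ (n - genus k K) ≤ effDivCount k K n := by
  have hq : 2 ≤ Nat.card k := Finite.one_lt_card
  have h1 := ((Zet.main11037 hK).2 n (by omega)).1 hex
  have hh := classNum_pos hK
  set q := Nat.card k with hqdef
  set g := genus k K with hgdef
  set a := effDivCount k K n with hadef
  have he : n + 1 - g = (n - g) + 1 := by omega
  rw [he, pow_succ] at h1
  have hqpos : (0 : ℤ) < (q : ℤ) ^ (n - g) := by positivity
  have hq' : (2 : ℤ) ≤ (q : ℤ) := by exact_mod_cast hq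
  have hh' : (1 : ℤ) ≤ (classNum k K : ℤ) := by exact_mod_cast hh
  have h2 : ((q : ℤ) - 1) * (q : ℤ) ^ (n - g) ≤ ((q : ℤ) - 1) * (a : ℤ) := by
    rw [h1]
    have : (q : ℤ) ^ (n - g) * q - 1 ≥ ((q : ℤ) - 1) * (q : ℤ) ^ (n - g) := by nlinarith
    have h3 : (0 : ℤ) ≤ (q : ℤ) ^ (n - g) * q - 1 := by nlinarith
    nlinarith
  have h3 : (q : ℤ) ^ (n - g) ≤ (a : ℤ) := le_of_mul_le_mul_left h2 (by linarith)
  exact_mod_cast h3

/-- upper bound for the number of effective divisors -/
theorem effDivCount_le [Finite k] (hK : IsFunctionField k K) (m : ℕ)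
    (hm : 2 * genus k K ≤ m) :
    effDivCount k K m ≤ classNum k K * Nat.card k ^ (m + 1) := by
  have hq : 2 ≤ Nat.card k := Finite.one_lt_card
  by_cases hex : ∃ D : Divisor k K, D.deg = m
  · have h1 := ((Zet.main11037 hK).2 m (by omega)).1 hex
    set q := Nat.card k with hqdef
    set g := genus k K with hgdef
    set a := effDivCount k K m with hadef
    have hq' : (2 : ℤ) ≤ (q : ℤ) := by exact_mod_cast hq
    have h2 : (q : ℤ) ^ (m + 1 - g) ≤ (q : ℤ) ^ (m + 1) :=
      pow_le_pow_right₀ (by linarith) (by omega)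
    have h0 : (0 : ℤ) ≤ (classNum k K : ℤ) := by positivity
    have ha0 : (0 : ℤ) ≤ (a : ℤ) := by positivity
    have h3 : (a : ℤ) ≤ (classNum k K : ℤ) * (q : ℤ) ^ (m + 1) := by
      have h4 : (a : ℤ) ≤ ((q : ℤ) - 1) * a := by nlinarith
      have h5 : (classNum k K : ℤ) * ((q : ℤ) ^ (m + 1 - g) - 1) ≤
          (classNum k K : ℤ) * (q : ℤ) ^ (m + 1) := by nlinarith
      linarith
    exact_mod_cast h3
  · rw [((Zet.main11037 hK).2 m (by omega)).2 hex]
    exact Nat.zero_le _

end bounds

variable {k k' : Type u} {K K' : Type v} [Field k] [Field k'] [Field K] [Field K']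
  [Algebra k k'] [Algebra k K] [Algebra K K'] [Algebra k' K'] [Algebra k K']
  [IsScalarTower k k' K'] [IsScalarTower k K K']

theorem false_of_gcd [Finite k] [FiniteDimensional k k']
    (h : Function.Bijective (Algebra.TensorProduct.productMap
      (IsScalarTower.toAlgHom k k' K') (IsScalarTower.toAlgHom k K K')))
    (hK : IsFunctionField k K) (hg : IsGeometric k K)
    (hr : 2 ≤ Module.finrank k k')
    (hdvd : ∀ D : Divisor k K, (Module.finrank k k' : ℤ) ∣ D.deg)
    (hex : ∃ D₀ : Divisor k K, D₀.deg = Module.finrank k k') : False := by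
  classical
  haveI : Finite k' := Module.finite_of_finite k
  have hK' : IsFunctionField k' K' :=
    (Groth.Agent.Helper16.FF.isFunctionField_and_isGeometric_scalarExt h hK hg).1
  set r := Module.finrank k k' with hrdef
  have hr0 : 0 < r := by omega
  have hdvdP : ∀ P : Place k K, r ∣ P.deg := by
    intro P
    have := hdvd (Finsupp.single P 1)
    rw [Groth.Agent.Helper16.FF.Divisor.deg_single] at this
    exact Int.natCast_dvd_natCast.1 (by simpa using this)
  have hq : 2 ≤ Nat.card k := Finite.one_lt_card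
  have hq'card : Nat.card k' = Nat.card k ^ r := Module.natCard_eq_pow_finrank
  set q := Nat.card k with hqdef
  set g := genus k K with hgdef
  set g' := genus k' K' with hg'def
  set h' := classNum k' K' with hh'def
  obtain ⟨D₀, hD₀⟩ := hex
  have hexn : ∀ j : ℕ, ∃ D : Divisor k K, D.deg = ((r * j : ℕ) : ℤ) := by
    intro j
    refine ⟨j • D₀, ?_⟩
    have : (j • D₀).deg = j * D₀.deg := by
      have := map_nsmul (degHom k K) j D₀
      rw [Zet.degHom_apply, Zet.degHom_apply] at this
      rw [this]; simp
    rw [this, hD₀]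
    push_cast
    ring
  set J := 2 * g with hJ
  set N := h' * q ^ (r + 2 * g) + 1 with hN
  set m := 2 * J + N + 2 * g' with hm
  have hsum := sum_le_effDivCount h hK hK' hr hdvdP J N m (by omega)
  have hupper := effDivCount_le hK' m (by omega)
  rw [hq'card] at hupper
  have hlower : ∀ j ∈ Finset.range N, q ^ (r * m - 2 * g) ≤
      effDivCount k K (r * (J + j)) * effDivCount k K (r * (m - (J + j))) := by
    intro j hj
    rw [Finset.mem_range] at hj
    have hj1 : J + j ≤ m := by omega
    have hJ1 : J ≤ r * (J + j) := by nlinarith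
    have hJ2 : J ≤ r * (m - (J + j)) := by
      have : J ≤ m - (J + j) := by omega
      nlinarith
    have h1 := pow_le_effDivCount hK (r * (J + j)) (by omega) (hexn _)
    have h2 := pow_le_effDivCount hK (r * (m - (J + j))) (by omega) (hexn _)
    have hexp : r * m - 2 * g = (r * (J + j) - g) + (r * (m - (J + j)) - g) := by
      have : r * (J + j) + r * (m - (J + j)) = r * m := by
        rw [← Nat.mul_add]; congr 1; omega
      omega
    rw [hexp, pow_add]
    exact Nat.mul_le_mul h1 h2
  have h1 : N * q ^ (r * m - 2 * g) ≤ h' * (q ^ r) ^ (m + 1) := by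
    calc N * q ^ (r * m - 2 * g) = ∑ _j ∈ Finset.range N, q ^ (r * m - 2 * g) := by
          rw [Finset.sum_const, Finset.card_range, smul_eq_mul]
      _ ≤ _ := Finset.sum_le_sum hlower
      _ ≤ _ := hsum
      _ ≤ _ := hupper
  have hrm : 2 * g ≤ r * m := by nlinarith
  have h2 : h' * (q ^ r) ^ (m + 1) = (h' * q ^ (r + 2 * g)) * q ^ (r * m - 2 * g) := by
    rw [← pow_mul, mul_assoc, ← pow_add]
    congr 2
    have : r * (m + 1) = r * m + r := by ring
    omega
  rw [h2] at h1
  have hpos : 0 < q ^ (r * m - 2 * g) := by positivity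
  have h3 := Nat.le_of_mul_le_mul_right h1 hpos
  omega

end Groth.Agent.Helper27.Zs
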