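import Mathlib
import Groth.Agent.Lib.Helper27.ZsC
import Groth.Agent.Lib.Helper27.SepA
import Groth.Agent.Lib.Helper16.FF.SepVar
import Groth.Agent.Lib.Helper16.FF.GeomH
import Groth.Agent.Lib.Helper16.FF.GeomG

set_option autoImplicit false

namespace Groth.Agent.Helper27.Zs

open FunFld Groth.Agent.Helper16.FFW
open scoped WithZero TensorProduct

universe u v

theorem isGeometric_of_finite {k : Type u} {K : Type v} [Field k] [Finite k] [Field K]
    [Algebra k K] (hK : IsFunctionField k K) : IsGeometric k K := by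
  classical
  obtain ⟨⟨x₀, hx₀, hfin⟩, -⟩ := id hK
  have h1 : Algebra.EssFiniteType k (IntermediateField.adjoin k ({x₀} : Set K)) := by
    rw [IntermediateField.essFiniteType_iff]
    exact ⟨{x₀}, by simp⟩
  have hess : Algebra.EssFiniteType k K :=
    Algebra.EssFiniteType.comp k (IntermediateField.adjoin k ({x₀} : Set K)) K
  obtain ⟨G, hG⟩ := IntermediateField.fg_top_iff.mpr hess
  obtain ⟨x, -, hx⟩ := Groth.Agent.Helper16.FF.exists_mem_separating hK G hG
  exact Groth.Agent.Helper16.FF.isGeometric_of_separating hK x hx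

theorem false_of_ext {k k' : Type u} {K : Type v} [Field k] [Field k'] [Field K]
    [Algebra k k'] [Algebra k K] [Finite k] [FiniteDimensional k k'] [Algebra.IsSeparable k k']
    (hK : IsFunctionField k K) (hg : IsGeometric k K)
    (hr : 2 ≤ Module.finrank k k')
    (hdvd : ∀ D : Divisor k K, (Module.finrank k k' : ℤ) ∣ D.deg)
    (hex : ∃ D₀ : Divisor k K, D₀.deg = Module.finrank k k') : False := by
  classical
  let pb := Field.powerBasisOfFiniteOfSeparable k k'
  set m := minpoly k pb.gen with hmdef
  have hm : Irreducible m := minpoly.irreducible (pb.isIntegral_gen)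
  have hmon : m.Monic := minpoly.monic pb.isIntegral_gen
  have hirr := Groth.Agent.Helper16.FF.irreducible_map_of_algClosedIn hK.2 hm hmon
  haveI : Fact (Irreducible (m.map (algebraMap k K))) := ⟨hirr⟩
  let E := AdjoinRoot (m.map (algebraMap k K))
  let fL : k' →ₐ[k] E := pb.lift (AdjoinRoot.root _) (by
    rw [← hmdef, ← Polynomial.aeval_map_algebraMap K, AdjoinRoot.aeval_eq, AdjoinRoot.mk_self])
  letI : Algebra k' E := fL.toRingHom.toAlgebra
  haveI : IsScalarTower k k' E := IsScalarTower.of_algebraMap_eq (fun c => (fL.commutes c).symm)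
  have hfLgen : fL pb.gen = AdjoinRoot.root _ := pb.lift_gen _ _
  have hF := hg k' inferInstance
  have h : Function.Bijective (Algebra.TensorProduct.productMap
      (IsScalarTower.toAlgHom k k' E) (IsScalarTower.toAlgHom k K E)) := by
    constructor
    · rw [injective_iff_map_eq_zero]
      intro x hx
      by_contra hne
      obtain ⟨y, hy⟩ := hF.mul_inv_cancel hne
      have h1 : (Algebra.TensorProduct.productMap
        (IsScalarTower.toAlgHom k k' E) (IsScalarTower.toAlgHom k K E)) (x * y) = 1 := by
        rw [hy, map_one]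
      rw [map_mul, hx, zero_mul] at h1
      exact zero_ne_one h1
    · intro z
      obtain ⟨g, rfl⟩ := AdjoinRoot.mk_surjective z
      induction g using Polynomial.induction_on with
      | C a =>
        refine ⟨1 ⊗ₜ a, ?_⟩
        rw [Algebra.TensorProduct.productMap_apply_tmul, map_one, one_mul, AdjoinRoot.mk_C]
        rfl
      | add p q hp hq =>
        obtain ⟨a, ha⟩ := hp
        obtain ⟨b, hb⟩ := hq
        exact ⟨a + b, by rw [map_add, ha, hb, map_add]⟩
      | monomial n a _ =>
        refine ⟨(pb.gen ^ (n + 1)) ⊗ₜ a, ?_⟩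
        rw [Algebra.TensorProduct.productMap_apply_tmul, map_pow, map_mul, map_pow,
          AdjoinRoot.mk_C, AdjoinRoot.mk_X, mul_comm]
        congr 1
        rw [← hfLgen]
        rfl
  exact false_of_gcd h hK hg hr hdvd hex

theorem main11035 {k : Type u} {K : Type v} [Field k] [Finite k] [Field K] [Algebra k K]
    (hK : IsFunctionField k K) :
    Function.Surjective (Divisor.deg : Divisor k K → ℤ) := by
  classical
  haveI := Sep.infinite_places hK
  obtain ⟨P⟩ : Nonempty (Place k K) := inferInstance
  have hPdeg : 0 < P.deg := Groth.Agent.Helper16.FF.Place.deg_pos hK P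
  have hex : ∃ n : ℕ, 0 < n ∧ ∃ D : Divisor k K, D.deg = n :=
    ⟨P.deg, hPdeg, Finsupp.single P 1, by
      rw [Groth.Agent.Helper16.FF.Divisor.deg_single]; simp⟩
  obtain ⟨hδ0, D₀, hD₀⟩ := Nat.find_spec hex
  have hmin : ∀ n : ℕ, 0 < n → (∃ D : Divisor k K, D.deg = n) → Nat.find hex ≤ n :=
    fun n hn h => Nat.find_min' hex ⟨hn, h⟩
  set δ := Nat.find hex with hδdef
  have hdegz : ∀ (n : ℤ) (D : Divisor k K), (n • D).deg = n * D.deg := by
    intro n D
    have := map_zsmul (degHom k K) n D
    rw [Zet.degHom_apply, Zet.degHom_apply] at this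
    rw [this]; simp
  have hdegsub : ∀ (D D' : Divisor k K), (D - D').deg = D.deg - D'.deg := by
    intro D D'
    have := map_sub (degHom k K) D D'
    rw [Zet.degHom_apply, Zet.degHom_apply, Zet.degHom_apply] at this
    exact this
  have hdvd : ∀ D : Divisor k K, (δ : ℤ) ∣ D.deg := by
    intro D
    have hδz : (0 : ℤ) < δ := by exact_mod_cast hδ0
    have hr := Int.emod_nonneg D.deg hδz.ne'
    have hr2 := Int.emod_lt_of_pos D.deg hδz
    by_contra hnd
    have hr3 : D.deg % δ ≠ 0 := fun h => hnd (Int.dvd_of_emod_eq_zero h)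
    have hdeg : (D - (D.deg / δ) • D₀).deg = D.deg % δ := by
      rw [hdegsub, hdegz, hD₀, Int.emod_def]
      ring
    have h1 := hmin (D.deg % δ).toNat (by omega) ⟨_, by rw [hdeg]; omega⟩
    omega
  by_cases h1 : δ = 1
  · intro n
    refine ⟨n • D₀, ?_⟩
    rw [hdegz, hD₀, h1]
    simp
  · exfalso
    have hδ2 : 2 ≤ δ := by omega
    obtain ⟨p, hp⟩ := CharP.exists k
    haveI : Fact p.Prime := ⟨CharP.char_is_prime k p⟩
    haveI : NeZero δ := ⟨by omega⟩
    let k' := ULift.{u} (FiniteField.Extension k p δ)
    let e : k' ≃ₐ[k] FiniteField.Extension k p δ := ULift.algEquiv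
    haveI : FiniteDimensional k k' := Module.Finite.equiv e.symm.toLinearEquiv
    have hfr : Module.finrank k k' = δ := by
      rw [e.toLinearEquiv.finrank_eq, FiniteField.finrank_extension]
    haveI : Algebra.IsAlgebraic k k' := Algebra.IsAlgebraic.of_finite _ _
    haveI : Algebra.IsSeparable k k' := Algebra.IsAlgebraic.isSeparable_of_perfectField
    have hg := isGeometric_of_finite hK
    exact false_of_ext (k' := k') hK hg (by rw [hfr]; exact hδ2) (by rw [hfr]; exact hdvd)
      (by rw [hfr]; exact ⟨D₀, hD₀⟩)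

end Groth.Agent.Helper27.Zs
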