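import Mathlib
import Groth.Agent.Lib.Helper27.ZsD

set_option autoImplicit false

namespace Groth.Agent.Helper27.Zs

open FunFld
open scoped WithZero

section ps

variable {R : Type*} [CommRing R]

theorem coeff_zero_numer (q : R) (Z : PowerSeries R) :
    PowerSeries.coeff 0 ((1 - PowerSeries.X) * (1 - PowerSeries.C q * PowerSeries.X) * Z) =
      PowerSeries.coeff 0 Z := by
  have : (1 - PowerSeries.X) * (1 - PowerSeries.C q * PowerSeries.X) * Z =
      Z - PowerSeries.C (q + 1) * (PowerSeries.X * Z) +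
        PowerSeries.C q * (PowerSeries.X * (PowerSeries.X * Z)) := by
    rw [map_add, map_one]; ring
  rw [this]
  simp

theorem coeff_one_numer (q : R) (Z : PowerSeries R) :
    PowerSeries.coeff 1 ((1 - PowerSeries.X) * (1 - PowerSeries.C q * PowerSeries.X) * Z) =
      PowerSeries.coeff 1 Z - (q + 1) * PowerSeries.coeff 0 Z := by
  have : (1 - PowerSeries.X) * (1 - PowerSeries.C q * PowerSeries.X) * Z =
      Z - PowerSeries.C (q + 1) * (PowerSeries.X * Z) +
        PowerSeries.C q * (PowerSeries.X * (PowerSeries.X * Z)) := by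
    rw [map_add, map_one]; ring
  rw [this]
  have h1 : PowerSeries.coeff 1 (PowerSeries.X * Z) = PowerSeries.coeff 0 Z :=
    PowerSeries.coeff_succ_X_mul 0 Z
  have h2 : PowerSeries.coeff 1 (PowerSeries.X * (PowerSeries.X * Z)) = 0 := by
    have := PowerSeries.coeff_succ_X_mul 0 (PowerSeries.X * Z)
    rw [zero_add] at this
    rw [this, PowerSeries.coeff_zero_X_mul]
  rw [map_add, map_sub, PowerSeries.coeff_C_mul, PowerSeries.coeff_C_mul, h1, h2]
  ring

theorem coeff_succ_succ_numer (q : R) (Z : PowerSeries R) (n : ℕ) :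
    PowerSeries.coeff (n + 2)
      ((1 - PowerSeries.X) * (1 - PowerSeries.C q * PowerSeries.X) * Z) =
      PowerSeries.coeff (n + 2) Z - (q + 1) * PowerSeries.coeff (n + 1) Z +
        q * PowerSeries.coeff n Z := by
  have : (1 - PowerSeries.X) * (1 - PowerSeries.C q * PowerSeries.X) * Z =
      Z - PowerSeries.C (q + 1) * (PowerSeries.X * Z) +
        PowerSeries.C q * (PowerSeries.X * (PowerSeries.X * Z)) := by
    rw [map_add, map_one]; ring
  rw [this]
  have h1 : PowerSeries.coeff (n + 2) (PowerSeries.X * Z) = PowerSeries.coeff (n + 1) Z :=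
    PowerSeries.coeff_succ_X_mul (n + 1) Z
  have h2 : PowerSeries.coeff (n + 2) (PowerSeries.X * (PowerSeries.X * Z)) =
      PowerSeries.coeff n Z := by
    have := PowerSeries.coeff_succ_X_mul (n + 1) (PowerSeries.X * Z)
    rw [this, PowerSeries.coeff_succ_X_mul]
  rw [map_add, map_sub, PowerSeries.coeff_C_mul, PowerSeries.coeff_C_mul, h1, h2]

/-- partial sums of `(1 - X) * B` telescope -/
theorem sum_coeff_one_sub_X_mul (B : PowerSeries R) (N : ℕ) :
    ∑ i ∈ Finset.range (N + 1), PowerSeries.coeff i ((1 - PowerSeries.X) * B) =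
      PowerSeries.coeff N B := by
  have h0 : (1 - PowerSeries.X) * B = B - PowerSeries.X * B := by ring
  rw [h0]
  induction N with
  | zero => simp
  | succ n ih =>
    rw [Finset.sum_range_succ, ih, map_sub, PowerSeries.coeff_succ_X_mul]
    ring

theorem coeff_succ_one_sub_CX_mul (q : R) (Z : PowerSeries R) (n : ℕ) :
    PowerSeries.coeff (n + 1) ((1 - PowerSeries.C q * PowerSeries.X) * Z) =
      PowerSeries.coeff (n + 1) Z - q * PowerSeries.coeff n Z := by
  have h0 : (1 - PowerSeries.C q * PowerSeries.X) * Z =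
      Z - PowerSeries.C q * (PowerSeries.X * Z) := by ring
  rw [h0, map_sub, PowerSeries.coeff_C_mul, PowerSeries.coeff_succ_X_mul]

end ps

variable {k K : Type*} [Field k] [Field K] [Algebra k K]

theorem exists_deg [Finite k] (hK : IsFunctionField k K) (n : ℤ) :
    ∃ D : Divisor k K, D.deg = n := main11035 hK n

theorem count_formula [Finite k] (hK : IsFunctionField k K) (n : ℕ)
    (hn : 2 * genus k K ≤ n + 1) :
    ((Nat.card k : ℤ) - 1) * (effDivCount k K n : ℤ) =
      (classNum k K : ℤ) * ((Nat.card k : ℤ) ^ (n + 1 - genus k K) - 1) :=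
  ((Zet.main11037 hK).2 n hn).1 (exists_deg hK n)

theorem coeff_zetaZ (n : ℕ) : PowerSeries.coeff n (zetaZ k K) = (effDivCount k K n : ℤ) := by
  unfold zetaZ
  rw [PowerSeries.coeff_mk]

theorem coeff_numerZ_eq_zero [Finite k] (hK : IsFunctionField k K) (n : ℕ)
    (hn : 2 * genus k K < n) : PowerSeries.coeff n (numerZ k K) = 0 := by
  have hq : 2 ≤ Nat.card k := Finite.one_lt_card
  by_cases hn1 : n = 1
  · subst hn1
    have hg0 : genus k K = 0 := by omega
    unfold numerZ
    rw [coeff_one_numer, coeff_zetaZ, coeff_zetaZ]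
    have h1 := count_formula hK 1 (by omega)
    have h0 := count_formula hK 0 (by omega)
    rw [hg0] at h1 h0
    set q : ℤ := (Nat.card k : ℤ) with hqdef
    have hq' : (2 : ℤ) ≤ q := by rw [hqdef]; exact_mod_cast hq
    have h3 : (q - 1) * ((effDivCount k K 1 : ℤ) - (q + 1) * (effDivCount k K 0 : ℤ)) = 0 := by
      have : (q - 1) * ((effDivCount k K 1 : ℤ) - (q + 1) * (effDivCount k K 0 : ℤ)) =
          (q - 1) * (effDivCount k K 1 : ℤ) - (q + 1) * ((q - 1) * (effDivCount k K 0 : ℤ)) := by
        ring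
      rw [this, h1, h0]
      ring
    rcases mul_eq_zero.1 h3 with h | h
    · omega
    · exact h
  obtain ⟨m, rfl⟩ : ∃ m, n = m + 2 := ⟨n - 2, by omega⟩
  unfold numerZ
  rw [coeff_succ_succ_numer, coeff_zetaZ, coeff_zetaZ, coeff_zetaZ]
  have h2 := count_formula hK (m + 2) (by omega)
  have h1 := count_formula hK (m + 1) (by omega)
  have h0 := count_formula hK m (by omega)
  set q : ℤ := (Nat.card k : ℤ) with hqdef
  set g := genus k K
  have hq' : (2 : ℤ) ≤ q := by rw [hqdef]; exact_mod_cast hq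
  have e2 : m + 2 + 1 - g = (m + 1 - g) + 2 := by omega
  have e1 : m + 1 + 1 - g = (m + 1 - g) + 1 := by omega
  rw [e2] at h2
  rw [e1] at h1
  set t := q ^ (m + 1 - g) with ht
  have h3 : (q - 1) * ((effDivCount k K (m + 2) : ℤ) - (q + 1) * (effDivCount k K (m + 1) : ℤ) +
      q * (effDivCount k K m : ℤ)) = 0 := by
    have : (q - 1) * ((effDivCount k K (m + 2) : ℤ) - (q + 1) * (effDivCount k K (m + 1) : ℤ) +
      q * (effDivCount k K m : ℤ)) = (q - 1) * (effDivCount k K (m + 2) : ℤ)
        - (q + 1) * ((q - 1) * (effDivCount k K (m + 1) : ℤ))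
        + q * ((q - 1) * (effDivCount k K m : ℤ)) := by ring
    rw [this, h2, h1, h0, pow_succ, pow_succ]
    ring
  rcases mul_eq_zero.1 h3 with h | h
  · omega
  · exact h

theorem main11036 [Finite k] (hK : IsFunctionField k K) :
    ∃ p : Polynomial ℤ, (p : PowerSeries ℤ) = numerZ k K := by
  refine ⟨(numerZ k K).trunc (2 * genus k K + 1), ?_⟩
  ext n
  rw [Polynomial.coeff_coe, PowerSeries.coeff_trunc]
  split_ifs with h
  · rfl
  · rw [coeff_numerZ_eq_zero hK n (by omega)]

theorem main11038 [Finite k] (hK : IsFunctionField k K) (p : Polynomial ℤ)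
    (hp : (p : PowerSeries ℤ) = numerZ k K) :
    p.eval 1 = (classNum k K : ℤ) := by
  set M := max p.natDegree (2 * genus k K) with hM
  have hM1 : p.natDegree ≤ M := le_max_left _ _
  have hM2 : 2 * genus k K ≤ M := le_max_right _ _
  rw [Polynomial.eval_eq_sum_range' (show p.natDegree < M + 1 + 1 by omega)]
  have h1 : ∀ i, p.coeff i = PowerSeries.coeff i (numerZ k K) := by
    intro i
    rw [← hp, Polynomial.coeff_coe]
  simp_rw [one_pow, mul_one, h1]
  unfold numerZ
  rw [mul_assoc, sum_coeff_one_sub_X_mul, coeff_succ_one_sub_CX_mul, coeff_zetaZ, coeff_zetaZ]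
  have hq : 2 ≤ Nat.card k := Finite.one_lt_card
  have h2 := count_formula hK (M + 1) (by omega)
  have h0 := count_formula hK M (by omega)
  set q : ℤ := (Nat.card k : ℤ) with hqdef
  set g := genus k K
  have hq' : (2 : ℤ) ≤ q := by rw [hqdef]; exact_mod_cast hq
  have e2 : M + 1 + 1 - g = (M + 1 - g) + 1 := by omega
  rw [e2] at h2
  have h3 : (q - 1) * ((effDivCount k K (M + 1) : ℤ) - q * (effDivCount k K M : ℤ)) =
      (q - 1) * (classNum k K : ℤ) := by
    have : (q - 1) * ((effDivCount k K (M + 1) : ℤ) - q * (effDivCount k K M : ℤ)) =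
      (q - 1) * (effDivCount k K (M + 1) : ℤ) - q * ((q - 1) * (effDivCount k K M : ℤ)) := by ring
    rw [this, h2, h0, pow_succ]
    ring
  exact mul_left_cancel₀ (by omega) h3

end Groth.Agent.Helper27.Zs
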