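import Mathlib
import Groth.Agent.Lib.Helper27.ZsE
import Groth.Agent.Lib.Helper16.FF.RR
import Groth.Agent.Lib.Helper16.FF.RiemannA
import Groth.Agent.Lib.Helper16.FF.WeilD

set_option autoImplicit false

namespace Groth.Agent.Helper27.Zs

open FunFld Groth.Agent.Helper16.FF Groth.Agent.Helper27.Zet
open scoped WithZero

variable {k K : Type*} [Field k] [Field K] [Algebra k K]

/-- general fibre count -/
theorem fibre_count' [Finite k] (hK : IsFunctionField k K) (n : ℕ)
    (D₀ : Divisor k K) (hD₀ : D₀.deg = n) (C : Divisor k K) (hC : C ∈ (degHom k K).ker) :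
    Nat.card {E : {D : Divisor k K // 0 ≤ D ∧ D.deg = n} //
        cls hD₀ E = QuotientAddGroup.mk ⟨C, hC⟩} * (Nat.card k - 1) =
      Nat.card k ^ (ell (D₀ + C)) - 1 := by
  classical
  have hCdeg : C.deg = 0 := by
    rw [← degHom_apply]; exact hC
  set D := D₀ + C with hD
  have hDdeg : D.deg = n := by
    rw [hD, Groth.Agent.Helper16.FFW.Divisor.deg_add, hD₀, hCdeg, add_zero]
  haveI := finiteDimensional_L hK D
  haveI : Finite (L D) := Module.finite_of_finite k
  have hcardL : Nat.card (L D) = Nat.card k ^ (ell D) := by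
    rw [Module.natCard_eq_pow_finrank (K := k)]
    rfl
  have hcardL' : Nat.card {z : L D // z ≠ 0} = Nat.card k ^ (ell D) - 1 := by
    have h1 := Nat.card_congr (Equiv.optionSubtypeNe (0 : L D))
    rw [Finite.card_option, hcardL] at h1
    omega
  -- the map to the fibre
  have hψ : ∀ z : {z : L D // z ≠ 0}, 0 ≤ D + div k (z.1 : K) ∧ (D + div k (z.1 : K)).deg = n := by
    intro z
    have hz0 : (z.1 : K) ≠ 0 := fun h => z.2 (Subtype.ext h)
    constructor
    · have := (mem_L_iff hK D hz0).1 z.1.2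
      intro P
      have h2 := this P
      rw [Finsupp.neg_apply] at h2
      rw [Finsupp.add_apply]
      show (0 : ℤ) ≤ _
      linarith
    · rw [Groth.Agent.Helper16.FFW.Divisor.deg_add, hDdeg, deg_div hK, add_zero]
  let ψ : {z : L D // z ≠ 0} →
      {E : {D : Divisor k K // 0 ≤ D ∧ D.deg = n} // cls hD₀ E = QuotientAddGroup.mk ⟨C, hC⟩} :=
    fun z => ⟨⟨D + div k (z.1 : K), hψ z⟩, (cls_eq_iff hK hD₀ _ C hC).2
      ⟨(z.1 : K), fun h => z.2 (Subtype.ext h), rfl⟩⟩
  have hfib : ∀ b, Nat.card {a // ψ a = b} = Nat.card k - 1 := by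
    intro b
    obtain ⟨z₀, hz₀, hE⟩ := (cls_eq_iff hK hD₀ b.1 C hC).1 b.2
    have hz₀L : z₀ ∈ L D := by
      rw [mem_L_iff hK D hz₀]
      intro P
      have h1 := b.1.2.1 P
      rw [hE, Finsupp.add_apply] at h1
      rw [Finsupp.neg_apply]
      have h2 : (0 : ℤ) ≤ (D₀ + C) P + (div k z₀) P := h1
      show -(D₀ + C) P ≤ _
      linarith
    rw [← Nat.card_units]
    refine Nat.card_congr (Equiv.symm (Equiv.ofBijective
      (fun u : kˣ => (⟨⟨⟨(u : k) • z₀, Submodule.smul_mem _ _ hz₀L⟩, ?_⟩, ?_⟩ :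
        {a // ψ a = b})) ⟨?_, ?_⟩))
    · intro h
      have := congrArg Subtype.val h
      simp only [ZeroMemClass.coe_zero, smul_eq_zero] at this
      rcases this with h | h
      · exact u.ne_zero h
      · exact hz₀ h
    · apply Subtype.ext
      apply Subtype.ext
      show D + div k ((u : k) • z₀) = b.1.1
      rw [hE, (div_eq_div_iff hK (smul_ne_zero u.ne_zero hz₀) hz₀).2 ⟨u, rfl⟩]
    · intro u u' h
      have h1 := congrArg (fun a : {a // ψ a = b} => ((a.1.1 : L D) : K)) h
      simp only at h1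
      have h2 : ((u : k) - (u' : k)) • z₀ = 0 := by rw [sub_smul, h1, sub_self]
      rcases smul_eq_zero.1 h2 with h3 | h3
      · exact Units.ext (sub_eq_zero.1 h3)
      · exact absurd h3 hz₀
    · rintro ⟨⟨⟨z, hzL⟩, hz⟩, hzb⟩
      have hz0 : z ≠ 0 := fun h => hz (Subtype.ext h)
      have h1 : D + div k z = b.1.1 := congrArg (fun a => a.1.1) hzb
      rw [hE] at h1
      have h2 : div k z = div k z₀ := add_left_cancel h1
      obtain ⟨u, hu⟩ := (div_eq_div_iff hK hz0 hz₀).1 h2
      refine ⟨u, ?_⟩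
      apply Subtype.ext
      apply Subtype.ext
      apply Subtype.ext
      exact hu.symm
  have := card_eq_mul_of_fibres ψ (Nat.card k - 1) hfib
  rw [hcardL'] at this
  exact this.symm

theorem exists_div_of_mk_eq (hK : IsFunctionField k K) {C₁ C₂ : (degHom k K).ker}
    (h : (QuotientAddGroup.mk C₁ : Pic0 k K) = QuotientAddGroup.mk C₂) :
    ∃ x : K, x ≠ 0 ∧ (C₂ : Divisor k K) = (C₁ : Divisor k K) + div k x := by
  rw [QuotientAddGroup.eq, AddSubgroup.mem_addSubgroupOf, mem_prinDivs_iff hK] at h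
  obtain ⟨x, hx, h⟩ := h
  refine ⟨x, hx, ?_⟩
  rw [← h]
  simp only [AddSubgroup.coe_add, AddSubgroup.coe_neg]
  abel

theorem ell_out (hK : IsFunctionField k K) (D₀ : Divisor k K) (C : (degHom k K).ker) :
    ell (D₀ + ((Quotient.out (QuotientAddGroup.mk C : Pic0 k K) : (degHom k K).ker) :
      Divisor k K)) = ell (D₀ + (C : Divisor k K)) := by
  have h : (QuotientAddGroup.mk C : Pic0 k K) =
      QuotientAddGroup.mk (Quotient.out (QuotientAddGroup.mk C : Pic0 k K)) :=
    (QuotientAddGroup.out_eq' _).symm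
  obtain ⟨x, hx, hC⟩ := exists_div_of_mk_eq hK h
  rw [hC, ← add_assoc, ell_add_div hK _ hx]

/-- the sum of `q ^ ℓ(D₀ + C)` over the classes `C` of degree zero -/
noncomputable def Asum [Fintype (Pic0 k K)] (D₀ : Divisor k K) : ℕ :=
  ∑ c : Pic0 k K,
    Nat.card k ^ ell (D₀ + ((Quotient.out c : (degHom k K).ker) : Divisor k K))

theorem Asum_add_ker [Fintype (Pic0 k K)] (hK : IsFunctionField k K) (D₀ : Divisor k K)
    (C₀ : (degHom k K).ker) : Asum (D₀ + (C₀ : Divisor k K)) = Asum D₀ := by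
  unfold Asum
  rw [← Equiv.sum_comp (Equiv.addLeft (QuotientAddGroup.mk C₀ : Pic0 k K))
    (fun c => Nat.card k ^ ell (D₀ + ((Quotient.out c : (degHom k K).ker) : Divisor k K)))]
  refine Finset.sum_congr rfl (fun c _ => ?_)
  congr 1
  have h1 : (Equiv.addLeft (QuotientAddGroup.mk C₀ : Pic0 k K)) c =
      QuotientAddGroup.mk (C₀ + Quotient.out c) := by
    rw [Equiv.coe_addLeft, QuotientAddGroup.mk_add, QuotientAddGroup.out_eq']
  rw [h1, ell_out hK, AddSubgroup.coe_add, add_assoc]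

theorem Asum_eq_of_deg [Fintype (Pic0 k K)] (hK : IsFunctionField k K) {D₀ D₀' : Divisor k K}
    (h : D₀.deg = D₀'.deg) : Asum D₀ = Asum D₀' := by
  have hC : D₀' - D₀ ∈ (degHom k K).ker := by
    rw [AddMonoidHom.mem_ker, degHom_apply, Groth.Agent.Helper16.FFW.Divisor.deg_sub, h, sub_self]
  have := Asum_add_ker hK D₀ ⟨D₀' - D₀, hC⟩
  rw [← this]
  congr 1
  show D₀ + (D₀' - D₀) = D₀'
  abel

theorem deg_add_out (D₀ : Divisor k K) (c : Pic0 k K) :
    (D₀ + ((Quotient.out c : (degHom k K).ker) : Divisor k K)).deg = D₀.deg := by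
  have h : ((Quotient.out c : (degHom k K).ker) : Divisor k K).deg = 0 := by
    rw [← degHom_apply]
    exact (Quotient.out c : (degHom k K).ker).2
  rw [Groth.Agent.Helper16.FFW.Divisor.deg_add, h, add_zero]

/-- (F1) the number of effective divisors of degree `n` -/
theorem count_eq_Asum [Finite k] [Fintype (Pic0 k K)] (hK : IsFunctionField k K) (n : ℕ)
    (D₀ : Divisor k K) (hD₀ : D₀.deg = n) :
    ((Nat.card k : ℤ) - 1) * (effDivCount k K n : ℤ) = (Asum D₀ : ℤ) - (classNum k K : ℤ) := by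
  classical
  haveI := finite_effDiv hK n
  have h1 : Nat.card {D : Divisor k K // 0 ≤ D ∧ D.deg = n} =
      ∑ c : Pic0 k K,
        Nat.card {E : {D : Divisor k K // 0 ≤ D ∧ D.deg = n} // cls hD₀ E = c} := by
    rw [← Nat.card_congr (Equiv.sigmaFiberEquiv (cls hD₀)), Nat.card_sigma]
  have hq1 : 1 ≤ Nat.card k := Nat.card_pos
  have hfc : ∀ c : Pic0 k K,
      Nat.card {E : {D : Divisor k K // 0 ≤ D ∧ D.deg = n} // cls hD₀ E = c} *
        (Nat.card k - 1) =
      Nat.card k ^ ell (D₀ + ((Quotient.out c : (degHom k K).ker) : Divisor k K)) - 1 := by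
    intro c
    have := fibre_count' hK n D₀ hD₀ ((Quotient.out c : (degHom k K).ker) : Divisor k K)
      (Quotient.out c : (degHom k K).ker).2
    have hc : (QuotientAddGroup.mk ⟨((Quotient.out c : (degHom k K).ker) : Divisor k K),
        (Quotient.out c : (degHom k K).ker).2⟩ : Pic0 k K) = c := QuotientAddGroup.out_eq' c
    rw [hc] at this
    exact this
  have h2 : (effDivCount k K n : ℤ) * ((Nat.card k : ℤ) - 1) =
      (Asum D₀ : ℤ) - (classNum k K : ℤ) := by
    unfold effDivCount classNum Asum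
    rw [h1]
    push_cast
    rw [Finset.sum_mul]
    have h3 : ∀ c : Pic0 k K,
        ((Nat.card {E : {D : Divisor k K // 0 ≤ D ∧ D.deg = n} // cls hD₀ E = c} : ℕ) : ℤ) *
          ((Nat.card k : ℤ) - 1) =
        (Nat.card k : ℤ) ^ ell (D₀ + ((Quotient.out c : (degHom k K).ker) : Divisor k K)) - 1 := by
      intro c
      have h4 := congrArg (fun a : ℕ => (a : ℤ)) (hfc c)
      simp only [Nat.cast_mul] at h4
      have hq2 : 1 ≤ Nat.card k ^
          ell (D₀ + ((Quotient.out c : (degHom k K).ker) : Divisor k K)) :=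
        Nat.one_le_pow _ _ hq1
      rw [Nat.cast_sub hq1, Nat.cast_sub hq2] at h4
      push_cast at h4
      exact h4
    simp_rw [h3]
    rw [Finset.sum_sub_distrib, Finset.sum_const, Finset.card_univ, nsmul_eq_mul, mul_one,
      ← Nat.card_eq_fintype_card]
  linarith

/-- (F2) negative degree -/
theorem Asum_of_deg_neg [Fintype (Pic0 k K)] (hK : IsFunctionField k K)
    (D₀ : Divisor k K) (hD₀ : D₀.deg < 0) : Asum D₀ = classNum k K := by
  unfold Asum classNum
  have : ∀ c : Pic0 k K,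
      Nat.card k ^ ell (D₀ + ((Quotient.out c : (degHom k K).ker) : Divisor k K)) = 1 := by
    intro c
    rw [ell_eq_zero_of_deg_neg hK (by rw [deg_add_out]; exact hD₀), pow_zero]
  simp_rw [this]
  rw [Finset.sum_const, Finset.card_univ, smul_eq_mul, mul_one, ← Nat.card_eq_fintype_card]

/-- (F3) Riemann–Roch symmetry -/
theorem Asum_symm [Finite k] [Fintype (Pic0 k K)] (hK : IsFunctionField k K)
    {W : Divisor k K} (hW : IsCanonical k K W) (D₀ : Divisor k K) :
    (Asum D₀ : ℚ) =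
      (Nat.card k : ℚ) ^ (D₀.deg + 1 - (genus k K : ℤ)) * (Asum (W - D₀) : ℚ) := by
  have hq : (Nat.card k : ℚ) ≠ 0 := by
    have : 0 < Nat.card k := Nat.card_pos
    positivity
  unfold Asum
  push_cast
  rw [Finset.mul_sum]
  rw [← Equiv.sum_comp (Equiv.neg (Pic0 k K))
    (fun c => (Nat.card k : ℚ) ^ (D₀.deg + 1 - (genus k K : ℤ)) *
      (Nat.card k : ℚ) ^ ell (W - D₀ + ((Quotient.out c : (degHom k K).ker) : Divisor k K)))]
  refine Finset.sum_congr rfl (fun c _ => ?_)
  have h1 : (Equiv.neg (Pic0 k K)) c = QuotientAddGroup.mk (-(Quotient.out c)) := by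
    rw [Equiv.neg_apply, QuotientAddGroup.mk_neg, QuotientAddGroup.out_eq']
  rw [h1, ell_out hK, AddSubgroup.coe_neg]
  have hrr := riemann_roch hK hW (D₀ + ((Quotient.out c : (degHom k K).ker) : Divisor k K))
  rw [deg_add_out] at hrr
  have he : W - (D₀ + ((Quotient.out c : (degHom k K).ker) : Divisor k K)) =
      W - D₀ + -((Quotient.out c : (degHom k K).ker) : Divisor k K) := by abel
  rw [he] at hrr
  rw [← zpow_natCast, ← zpow_natCast, ← zpow_add₀ hq, hrr]

end Groth.Agent.Helper27.Zs
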