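import Mathlib
import Groth.Agent.Lib.Helper27.ZsF

set_option autoImplicit false

namespace Groth.Agent.Helper27.Zs

open FunFld Groth.Agent.Helper16.FF Groth.Agent.Helper27.Zet
open scoped WithZero

variable {k K : Type*} [Field k] [Field K] [Algebra k K]

theorem effDivCount_zero_pos [Finite k] (hK : IsFunctionField k K) : 0 < effDivCount k K 0 := by
  haveI := finite_effDiv hK 0
  haveI : Nonempty {D : Divisor k K // 0 ≤ D ∧ D.deg = (0 : ℕ)} :=
    ⟨⟨0, le_refl _, by rw [Groth.Agent.Helper16.FF.Divisor.deg_zero]; simp⟩⟩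
  unfold effDivCount
  exact Nat.card_pos

theorem funEq [Finite k] (hK : IsFunctionField k K) (i : ℕ) (hi : i ≤ 2 * genus k K) :
    (((PowerSeries.coeff (2 * genus k K - i) (numerZ k K) : ℤ)) : ℚ) =
      (Nat.card k : ℚ) ^ ((genus k K : ℤ) - i) *
        (((PowerSeries.coeff i (numerZ k K) : ℤ)) : ℚ) := by
  classical
  haveI := finite_pic0 hK
  haveI : Fintype (Pic0 k K) := Fintype.ofFinite _
  obtain ⟨D₁, hD₁⟩ := exists_deg hK 1
  obtain ⟨W, hW⟩ := exists_canonical hK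
  have hWdeg := (canonical_ell_deg hK hW).2
  set g := genus k K with hgdef
  set q : ℚ := (Nat.card k : ℚ) with hqdef
  set h : ℚ := (classNum k K : ℚ) with hhdef
  have hq2 : (2 : ℚ) ≤ q := by
    rw [hqdef]; exact_mod_cast (Finite.one_lt_card : 1 < Nat.card k)
  have hq0 : q ≠ 0 := by linarith
  have hq1 : q - 1 ≠ 0 := by linarith
  have hdegz : ∀ n : ℤ, (n • D₁).deg = n := by
    intro n
    have := map_zsmul (degHom k K) n D₁
    rw [Zet.degHom_apply, Zet.degHom_apply] at this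
    rw [this, hD₁]; simp
  let A : ℤ → ℚ := fun n => (Asum (n • D₁) : ℚ)
  have F1 : ∀ n : ℕ, (q - 1) * (effDivCount k K n : ℚ) = A n - h := by
    intro n
    have := count_eq_Asum hK n ((n : ℤ) • D₁) (by rw [hdegz])
    have h2 := congrArg (fun a : ℤ => (a : ℚ)) this
    push_cast at h2
    exact h2
  have F2 : ∀ n : ℤ, n < 0 → A n = h := by
    intro n hn
    show (Asum (n • D₁) : ℚ) = _
    rw [Asum_of_deg_neg hK _ (by rw [hdegz]; exact hn)]
  have F3 : ∀ n : ℤ, A n = q ^ (n + 1 - g) * A (2 * g - 2 - n) := by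
    intro n
    show (Asum (n • D₁) : ℚ) = _ * (Asum ((2 * (g : ℤ) - 2 - n) • D₁) : ℚ)
    rw [Asum_symm hK hW (n • D₁), hdegz]
    congr 2
    apply Asum_eq_of_deg hK
    rw [Groth.Agent.Helper16.FFW.Divisor.deg_sub, hWdeg, hdegz, hdegz]
  have Lc : ∀ i : ℕ, (q - 1) * ((PowerSeries.coeff i (numerZ k K) : ℤ) : ℚ) =
      A i - (q + 1) * A ((i : ℤ) - 1) + q * A ((i : ℤ) - 2) := by
    intro i
    match i with
    | 0 =>
      have hl : PowerSeries.coeff 0 (numerZ k K) = (effDivCount k K 0 : ℤ) := by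
        unfold numerZ
        rw [coeff_zero_numer, coeff_zetaZ]
      rw [hl, Int.cast_natCast, F1 0, F2 _ (by norm_num : ((0 : ℕ) : ℤ) - 1 < 0),
        F2 _ (by norm_num : ((0 : ℕ) : ℤ) - 2 < 0)]
      ring
    | 1 =>
      have hl : PowerSeries.coeff 1 (numerZ k K) =
          (effDivCount k K 1 : ℤ) - ((Nat.card k : ℤ) + 1) * (effDivCount k K 0 : ℤ) := by
        unfold numerZ
        rw [coeff_one_numer, coeff_zetaZ, coeff_zetaZ]
      have e1 : ((1 : ℕ) : ℤ) - 1 = ((0 : ℕ) : ℤ) := by norm_num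
      rw [hl, e1, F2 _ (by norm_num : ((1 : ℕ) : ℤ) - 2 < 0)]
      have h1 := F1 1
      have h0 := F1 0
      have hc : (((effDivCount k K 1 : ℤ) - ((Nat.card k : ℤ) + 1) * (effDivCount k K 0 : ℤ) : ℤ) : ℚ)
          = (effDivCount k K 1 : ℚ) - (q + 1) * (effDivCount k K 0 : ℚ) := by
        push_cast; rfl
      rw [hc]
      linear_combination h1 - (q + 1) * h0
    | (m + 2) =>
      have hl : PowerSeries.coeff (m + 2) (numerZ k K) =
          (effDivCount k K (m + 2) : ℤ) - ((Nat.card k : ℤ) + 1) * (effDivCount k K (m + 1) : ℤ)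
            + (Nat.card k : ℤ) * (effDivCount k K m : ℤ) := by
        unfold numerZ
        rw [coeff_succ_succ_numer, coeff_zetaZ, coeff_zetaZ, coeff_zetaZ]
      have e1 : (((m + 2 : ℕ) : ℤ)) - 1 = ((m + 1 : ℕ) : ℤ) := by push_cast; ring
      have e2 : (((m + 2 : ℕ) : ℤ)) - 2 = ((m : ℕ) : ℤ) := by push_cast; ring
      rw [hl, e1, e2]
      have h2 := F1 (m + 2)
      have h1 := F1 (m + 1)
      have h0 := F1 m
      have hc : (((effDivCount k K (m + 2) : ℤ) -
          ((Nat.card k : ℤ) + 1) * (effDivCount k K (m + 1) : ℤ)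
            + (Nat.card k : ℤ) * (effDivCount k K m : ℤ) : ℤ) : ℚ)
          = (effDivCount k K (m + 2) : ℚ) - (q + 1) * (effDivCount k K (m + 1) : ℚ) +
            q * (effDivCount k K m : ℚ) := by
        push_cast; rfl
      rw [hc]
      linear_combination h2 - (q + 1) * h1 + q * h0
  set j := 2 * g - i with hjdef
  have hj : (j : ℤ) = 2 * (g : ℤ) - i := by omega
  have e := Lc j
  have e' := Lc i
  have f1 : A j = q ^ ((g : ℤ) - i) * q * A ((i : ℤ) - 2) := by
    rw [F3 j, ← zpow_add_one₀ hq0]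
    congr 2 <;> omega
  have f2 : A ((j : ℤ) - 1) = q ^ ((g : ℤ) - i) * A ((i : ℤ) - 1) := by
    rw [F3 ((j : ℤ) - 1)]
    congr 2 <;> omega
  have f3 : A ((j : ℤ) - 2) = q ^ ((g : ℤ) - i) / q * A (i : ℤ) := by
    rw [F3 ((j : ℤ) - 2), div_eq_mul_inv, ← zpow_sub_one₀ hq0]
    congr 2 <;> omega
  have : (q - 1) * ((PowerSeries.coeff j (numerZ k K) : ℤ) : ℚ) =
      (q - 1) * (q ^ ((g : ℤ) - i) * ((PowerSeries.coeff i (numerZ k K) : ℤ) : ℚ)) := by
    rw [mul_left_comm, e', e, f1, f2, f3]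
    field_simp
    ring
  exact mul_left_cancel₀ hq1 this

theorem main11039 [Finite k] (hK : IsFunctionField k K) :
    (∀ n : ℕ, 2 * genus k K < n → PowerSeries.coeff n (numerZ k K) = 0) ∧
    PowerSeries.coeff (2 * genus k K) (numerZ k K) ≠ 0 ∧
    ∀ i : ℕ, i ≤ 2 * genus k K →
      (((PowerSeries.coeff (2 * genus k K - i) (numerZ k K) : ℤ)) : ℚ) =
        (Nat.card k : ℚ) ^ ((genus k K : ℤ) - i) *
          (((PowerSeries.coeff i (numerZ k K) : ℤ)) : ℚ) := by
  refine ⟨fun n hn => coeff_numerZ_eq_zero hK n hn, ?_, fun i hi => funEq hK i hi⟩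
  have h0 := funEq hK 0 (Nat.zero_le _)
  rw [Nat.sub_zero] at h0
  intro hz
  rw [hz] at h0
  have hl0 : PowerSeries.coeff 0 (numerZ k K) = (effDivCount k K 0 : ℤ) := by
    unfold numerZ
    rw [coeff_zero_numer, coeff_zetaZ]
  rw [hl0] at h0
  have hpos := effDivCount_zero_pos hK
  have hq : (Nat.card k : ℚ) ≠ 0 := by
    have : 0 < Nat.card k := Nat.card_pos
    positivity
  have h1 : (Nat.card k : ℚ) ^ ((genus k K : ℤ) - (0 : ℕ)) ≠ 0 := zpow_ne_zero _ hq
  have h2 : (((effDivCount k K 0 : ℕ) : ℤ) : ℚ) ≠ 0 := by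
    have : (0 : ℚ) < (((effDivCount k K 0 : ℕ) : ℤ) : ℚ) := by exact_mod_cast hpos
    exact this.ne'
  have := mul_ne_zero h1 h2
  apply this
  rw [← h0]
  simp

end Groth.Agent.Helper27.Zs
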