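import Mathlib

set_option autoImplicit false

namespace Groth.Agent.Helper27.Zs

open Polynomial

/-- one step: split off a pair with product `q` -/
theorem exists_pair_step (q : ℂ) (hq : q ≠ 0) (S : Multiset ℂ) (g : ℕ)
    (hcard : S.card = 2 * (g + 1)) (h0 : (0 : ℂ) ∉ S)
    (hinv : S.map (fun x => q / x) = S) (hprod : S.prod = q ^ (g + 1)) :
    ∃ (x y : ℂ) (S' : Multiset ℂ), S = x ::ₘ y ::ₘ S' ∧ x * y = q ∧
      S'.map (fun x => q / x) = S' ∧ S'.prod = q ^ g := by
  classical
  have hprod' : ∀ (x y : ℂ) (S' : Multiset ℂ), S = x ::ₘ y ::ₘ S' → x * y = q →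
      S'.prod = q ^ g := by
    intro x y S' hS hxy
    rw [hS, Multiset.prod_cons, Multiset.prod_cons, ← mul_assoc, hxy, pow_succ, mul_comm] at hprod
    exact mul_right_cancel₀ hq hprod
  by_cases hA : ∃ x ∈ S, x * x ≠ q
  · obtain ⟨x, hxS, hxx⟩ := hA
    have hx0 : x ≠ 0 := fun h => h0 (h ▸ hxS)
    set y := q / x with hy
    have hyS : y ∈ S := by
      rw [← hinv]
      exact Multiset.mem_map_of_mem _ hxS
    have hyx : y ≠ x := by
      intro h
      apply hxx
      rw [hy, div_eq_iff hx0] at h
      exact h.symm
    have hyT : y ∈ S.erase x := (Multiset.mem_erase_of_ne hyx).2 hyS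
    have hS : S = x ::ₘ y ::ₘ (S.erase x).erase y := by
      rw [Multiset.cons_erase hyT, Multiset.cons_erase hxS]
    have hxy : x * y = q := by rw [hy]; field_simp
    refine ⟨x, y, (S.erase x).erase y, hS, hxy, ?_, hprod' _ _ _ hS hxy⟩
    have h1 := hinv
    rw [hS, Multiset.map_cons, Multiset.map_cons] at h1
    have hιy : q / y = x := by rw [hy]; field_simp
    rw [hιy, ← hy, Multiset.cons_swap] at h1
    rw [Multiset.cons_inj_right, Multiset.cons_inj_right] at h1
    exact h1
  · push Not at hA
    have hfix : ∀ z ∈ S, q / z = z := by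
      intro z hz
      have hz0 : z ≠ 0 := fun h => h0 (h ▸ hz)
      rw [div_eq_iff hz0]
      exact (hA z hz).symm
    by_cases hnd : S.Nodup
    · exfalso
      have hne : S ≠ 0 := by
        intro h
        rw [h] at hcard
        simp at hcard
      obtain ⟨x, hxS⟩ := Multiset.exists_mem_of_ne_zero hne
      have hx0 : x ≠ 0 := fun h => h0 (h ▸ hxS)
      have hsub : S.toFinset ⊆ {x, -x} := by
        intro z hz
        rw [Multiset.mem_toFinset] at hz
        have h1 := hA z hz
        have h2 := hA x hxS
        have h3 : (z - x) * (z + x) = 0 := by ring_nf; rw [← h2] at h1; linear_combination h1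
        rcases mul_eq_zero.1 h3 with h | h
        · rw [Finset.mem_insert]; left; exact sub_eq_zero.1 h
        · rw [Finset.mem_insert, Finset.mem_singleton]; right; exact eq_neg_of_add_eq_zero_left h
      have hxne : x ≠ -x := by
        intro h
        have : (2 : ℂ) * x = 0 := by linear_combination h
        rcases mul_eq_zero.1 this with h | h
        · norm_num at h
        · exact hx0 h
      have hc2 : ({x, -x} : Finset ℂ).card = 2 := Finset.card_pair hxne
      have hcS : S.toFinset.card = 2 * (g + 1) := by
        rw [Multiset.toFinset_card_of_nodup hnd, hcard]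
      have hle := Finset.card_le_card hsub
      rw [hc2, hcS] at hle
      have hg : g = 0 := by omega
      subst hg
      have heq : S.toFinset = {x, -x} :=
        Finset.eq_of_subset_of_card_le hsub (by rw [hc2, hcS])
      have hSval : S = ({x, -x} : Finset ℂ).val := by
        rw [← heq, Multiset.toFinset_val, Multiset.dedup_eq_self.2 hnd]
      have hp : S.prod = x * -x := by
        rw [hSval, Finset.prod_val, Finset.prod_pair hxne]
        rfl
      rw [hp] at hprod
      have h2 := hA x hxS
      have : (2 : ℂ) * q = 0 := by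
        rw [zero_add, pow_one] at hprod
        linear_combination -hprod - h2
      rcases mul_eq_zero.1 this with h | h
      · norm_num at h
      · exact hq h
    · rw [Multiset.nodup_iff_le] at hnd
      push Not at hnd
      obtain ⟨a, ha⟩ := hnd
      obtain ⟨S', hS'⟩ := Multiset.le_iff_exists_add.1 ha
      have hS : S = a ::ₘ a ::ₘ S' := by
        rw [hS']
        simp
      have haS : a ∈ S := by rw [hS]; exact Multiset.mem_cons_self _ _
      have hxy : a * a = q := hA a haS
      refine ⟨a, a, S', hS, hxy, ?_, hprod' _ _ _ hS hxy⟩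
      have : ∀ z ∈ S', q / z = z := by
        intro z hz
        apply hfix
        rw [hS]
        exact Multiset.mem_cons_of_mem (Multiset.mem_cons_of_mem hz)
      rw [Multiset.map_congr rfl this, Multiset.map_id']

/-- enumerate an invariant multiset by pairs -/
theorem exists_pair_enum (q : ℂ) (hq : q ≠ 0) : ∀ (g n : ℕ) (S : Multiset ℂ), n = 2 * g →
    S.card = n → (0 : ℂ) ∉ S → S.map (fun x => q / x) = S → S.prod = q ^ g →
    ∃ α : Fin n → ℂ, (∀ i, α i ∈ S) ∧
      (∀ f : ℂ → ℂ[X], ∏ i, f (α i) = (S.map f).prod) ∧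
      ∀ i, α i * α (Fin.rev i) = q := by
  intro g
  induction g with
  | zero =>
    intro n S hn hcard _ _ _
    have hn0 : n = 0 := by omega
    subst hn0
    have hS : S = 0 := Multiset.card_eq_zero.1 hcard
    refine ⟨Fin.elim0, fun i => i.elim0, fun f => ?_, fun i => i.elim0⟩
    rw [hS]
    simp
  | succ g ih =>
    intro n S hn hcard h0 hinv hprod
    obtain ⟨m, rfl⟩ : ∃ m, n = m + 2 := ⟨2 * g, by omega⟩
    have hm : m = 2 * g := by omega
    obtain ⟨x, y, S', hS, hxy, hinv', hprod'⟩ :=
      exists_pair_step q hq S g (by rw [hcard, hn]) h0 hinv hprod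
    have hcard' : S'.card = m := by
      rw [hS, Multiset.card_cons, Multiset.card_cons] at hcard
      omega
    have h0' : (0 : ℂ) ∉ S' := by
      intro h
      apply h0
      rw [hS]
      exact Multiset.mem_cons_of_mem (Multiset.mem_cons_of_mem h)
    obtain ⟨α', hα'mem, hα'prod, hα'rev⟩ := ih m S' hm hcard' h0' hinv' hprod'
    refine ⟨(Fin.cons x (Fin.snoc α' y : Fin (m + 1) → ℂ) : Fin (m + 2) → ℂ), ?_, ?_, ?_⟩
    · intro i
      rw [hS]
      refine Fin.cases ?_ (fun j => ?_) i
      · rw [Fin.cons_zero]
        exact Multiset.mem_cons_self _ _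
      · rw [Fin.cons_succ]
        refine Fin.lastCases ?_ (fun j' => ?_) j
        · rw [Fin.snoc_last]
          exact Multiset.mem_cons_of_mem (Multiset.mem_cons_self _ _)
        · rw [Fin.snoc_castSucc]
          exact Multiset.mem_cons_of_mem (Multiset.mem_cons_of_mem (hα'mem j'))
    · intro f
      rw [Fin.prod_univ_succ, Fin.cons_zero]
      simp only [Fin.cons_succ]
      rw [Fin.prod_univ_castSucc]
      simp only [Fin.snoc_castSucc, Fin.snoc_last]
      rw [hα'prod f, hS, Multiset.map_cons, Multiset.map_cons, Multiset.prod_cons,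
        Multiset.prod_cons]
      ring
    · intro i
      refine Fin.cases ?_ (fun j => ?_) i
      · rw [Fin.cons_zero, Fin.rev_zero, ← Fin.succ_last, Fin.cons_succ, Fin.snoc_last]
        exact hxy
      · refine Fin.lastCases ?_ (fun j' => ?_) j
        · rw [Fin.succ_last, Fin.rev_last, Fin.cons_zero, ← Fin.succ_last, Fin.cons_succ,
            Fin.snoc_last, mul_comm]
          exact hxy
        · rw [Fin.rev_succ, Fin.rev_castSucc, Fin.cons_succ, Fin.snoc_castSucc,
            ← Fin.succ_castSucc, Fin.cons_succ, Fin.snoc_castSucc]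
          exact hα'rev j'

end Groth.Agent.Helper27.Zs
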