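import Mathlib
import Groth.Agent.Lib.Helper27.ZsG
import Groth.Agent.Lib.Helper27.ZsH

set_option autoImplicit false

namespace Groth.Agent.Helper27.Zs

open FunFld Groth.Agent.Helper16.FF Groth.Agent.Helper27.Zet Polynomial
open scoped WithZero

section poly

theorem reflect_multiset_prod (S : Multiset ℂ) :
    reflect (Multiset.card S) ((S.map (fun a => X - C a)).prod) =
      (S.map (fun a => 1 - C a * X)).prod := by
  induction S using Multiset.induction_on with
  | empty => simp [reflect_one]
  | cons a S ih =>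
    rw [Multiset.map_cons, Multiset.prod_cons, Multiset.map_cons, Multiset.prod_cons,
      Multiset.card_cons, add_comm,
      reflect_mul (X - C a) _ (F := 1) (G := Multiset.card S)
        (natDegree_X_sub_C_le a) (natDegree_multiset_prod_X_sub_C_eq_card S).le, ih]
    congr 1
    rw [reflect_sub, reflect_one_X, reflect_C, pow_one]

end poly

variable {k K : Type*} [Field k] [Field K] [Algebra k K]

theorem effDivCount_zero [Finite k] (hK : IsFunctionField k K) : effDivCount k K 0 = 1 := by
  unfold effDivCount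
  rw [Nat.card_eq_one_iff_unique]
  refine ⟨⟨?_⟩, ⟨⟨0, le_refl _, by rw [Groth.Agent.Helper16.FF.Divisor.deg_zero]; simp⟩⟩⟩
  rintro ⟨D, hD, hdeg⟩ ⟨D', hD', hdeg'⟩
  have key : ∀ (E : Divisor k K), 0 ≤ E → E.deg = ((0 : ℕ) : ℤ) → E = 0 := by
    intro E hE hEd
    ext P
    have h1 := coeff_le_of_effective hK hE hEd P
    have h2 : (0 : ℤ) ≤ E P := hE P
    have h3 : (0 : ℤ) < (P.deg : ℤ) := by exact_mod_cast Place.deg_pos hK P
    have h4 : E P ≤ 0 := by
      by_contra h
      push Not at h
      have := mul_pos h h3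
      simp only [Nat.cast_zero] at h1
      linarith
    show E P = 0
    omega
  apply Subtype.ext
  show D = D'
  rw [key D hD hdeg, key D' hD' hdeg']

theorem coe_trunc_numerZ [Finite k] (hK : IsFunctionField k K) :
    (((numerZ k K).trunc (2 * genus k K + 1) : Polynomial ℤ) : PowerSeries ℤ) = numerZ k K := by
  ext n
  rw [Polynomial.coeff_coe, PowerSeries.coeff_trunc]
  split_ifs with h
  · rfl
  · rw [coeff_numerZ_eq_zero hK n (by omega)]

theorem main11040 [Finite k] (hK : IsFunctionField k K) :
    ∃ α : Fin (2 * genus k K) → ℂ, (∀ i, IsIntegral ℤ (α i)) ∧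
      PowerSeries.map (Int.castRingHom ℂ) (numerZ k K) =
        ((∏ i, (1 - Polynomial.C (α i) * Polynomial.X) : Polynomial ℂ) : PowerSeries ℂ) ∧
      ∀ i, α i * α (Fin.rev i) = (Nat.card k : ℂ) := by
  classical
  set g := genus k K with hgdef
  set q : ℂ := (Nat.card k : ℂ) with hqdef
  have hq0 : q ≠ 0 := by
    have : 0 < Nat.card k := Nat.card_pos
    rw [hqdef]
    exact_mod_cast this.ne'
  obtain ⟨hvan, hne, hfe⟩ := main11039 hK
  rw [← hgdef] at hvan hne hfe
  set L : Polynomial ℤ := (numerZ k K).trunc (2 * g + 1) with hLdef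
  have hL : (L : PowerSeries ℤ) = numerZ k K := coe_trunc_numerZ hK
  have hLcoeff : ∀ i, L.coeff i = PowerSeries.coeff i (numerZ k K) := by
    intro i
    rw [← hL, Polynomial.coeff_coe]
  have hl0 : L.coeff 0 = 1 := by
    rw [hLcoeff]
    unfold numerZ
    rw [coeff_zero_numer, coeff_zetaZ, effDivCount_zero hK]
    rfl
  have hLdeg : L.natDegree ≤ 2 * g := by
    exact Nat.lt_succ_iff.1 (PowerSeries.natDegree_trunc_lt (numerZ k K) (2 * g))
  -- functional equation over ℂ
  have hfeC : ∀ i : ℕ, i ≤ 2 * g → ((L.coeff (2 * g - i) : ℤ) : ℂ) =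
      q ^ ((g : ℤ) - i) * ((L.coeff i : ℤ) : ℂ) := by
    intro i hi
    have := congrArg (Rat.cast : ℚ → ℂ) (hfe i hi)
    rw [hLcoeff, hLcoeff]
    push_cast at this
    exact this
  have hl2g : ((L.coeff (2 * g) : ℤ) : ℂ) = q ^ g := by
    have := hfeC 0 (Nat.zero_le _)
    rw [Nat.sub_zero, hl0] at this
    rw [this]
    simp
  -- the reflected polynomial
  set P : Polynomial ℤ := reflect (2 * g) L with hPdef
  have hPcoeff : P.coeff (2 * g) = 1 := by
    rw [hPdef, coeff_reflect, revAt_le (le_refl _), Nat.sub_self, hl0]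
  have hPdeg : P.natDegree ≤ 2 * g := by
    have := natDegree_reflect_le (N := 2 * g) (p := L)
    rw [← hPdef] at this
    exact this.trans (max_le (le_refl _) hLdeg)
  have hPmonic : P.Monic := monic_of_natDegree_le_of_coeff_eq_one _ hPdeg hPcoeff
  have hPnat : P.natDegree = 2 * g := by
    apply le_antisymm hPdeg
    apply le_natDegree_of_ne_zero
    rw [hPcoeff]; exact one_ne_zero
  set Lc : Polynomial ℂ := L.map (Int.castRingHom ℂ) with hLcdef
  set Pc : Polynomial ℂ := P.map (Int.castRingHom ℂ) with hPcdef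
  have hPcLc : Pc = reflect (2 * g) Lc := by
    rw [hPcdef, hPdef, hLcdef, reflect_map]
  have hPcmonic : Pc.Monic := hPmonic.map _
  have hPcnat : Pc.natDegree = 2 * g := by
    rw [hPcdef, hPmonic.natDegree_map, hPnat]
  set S := Pc.roots with hSdef
  have hScard : Multiset.card S = 2 * g := by
    rw [hSdef, IsAlgClosed.card_roots_eq_natDegree, hPcnat]
  have hPcprod : Pc = (S.map (fun a => X - C a)).prod :=
    (IsAlgClosed.splits Pc).eq_prod_roots_of_monic hPcmonic
  have hLcprod : Lc = (S.map (fun a => 1 - C a * X)).prod := by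
    have h1 : Lc = reflect (2 * g) Pc := by rw [hPcLc, reflect_reflect]
    rw [h1, ← hScard, ← reflect_multiset_prod, ← hPcprod]
  -- integrality
  have hint : ∀ a ∈ S, IsIntegral ℤ a := by
    intro a ha
    refine ⟨P, hPmonic, ?_⟩
    have := (mem_roots hPcmonic.ne_zero).1 ha
    rw [IsRoot, hPcdef, eval_map] at this
    exact this
  -- nonvanishing
  have hPc0 : Pc.coeff 0 = q ^ g := by
    rw [hPcdef, coeff_map, hPdef, coeff_reflect, revAt_le (Nat.zero_le _), Nat.sub_zero]
    exact hl2g
  have h0S : (0 : ℂ) ∉ S := by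
    intro h
    have := (mem_roots hPcmonic.ne_zero).1 h
    rw [IsRoot, ← coeff_zero_eq_eval_zero, hPc0] at this
    exact pow_ne_zero _ hq0 this
  -- product
  have hSprod : S.prod = q ^ g := by
    have h1 : Pc.coeff 0 = (S.map (fun a => -a)).prod := by
      conv_lhs => rw [hPcprod]
      rw [coeff_zero_eq_eval_zero, eval_multiset_prod, Multiset.map_map]
      congr 1
      apply Multiset.map_congr rfl
      intro a _
      simp
    rw [hPc0] at h1
    have h2 : (S.map (fun a => -a)).prod = (-1) ^ Multiset.card S * S.prod :=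
      Multiset.prod_map_neg S
    rw [h2, hScard, pow_mul] at h1
    rw [h1]
    simp
  -- invariance
  have hcomp : Pc = C (q ^ g) * Lc.comp (C q⁻¹ * X) := by
    ext i
    rw [coeff_C_mul, comp_C_mul_X_coeff, hPcLc, coeff_reflect]
    by_cases hi : i ≤ 2 * g
    · rw [revAt_le hi, hLcdef, coeff_map, coeff_map]
      have := hfeC i hi
      simp only [eq_intCast]
      rw [this, zpow_sub₀ hq0, zpow_natCast, zpow_natCast, inv_pow]
      field_simp
    · push Not at hi
      rw [revAt_eq_self_of_lt hi]
      have : Lc.coeff i = 0 := by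
        rw [hLcdef, coeff_map, coeff_eq_zero_of_natDegree_lt (lt_of_le_of_lt hLdeg hi)]
        simp
      rw [this]
      simp
  have hinv : S.map (fun x => q / x) = S := by
    have h1 : Lc.comp (C q⁻¹ * X) =
        (S.map (fun a => C (-a / q) * (X - C (q / a)))).prod := by
      rw [hLcprod, multiset_prod_comp, Multiset.map_map]
      congr 1
      apply Multiset.map_congr rfl
      intro a ha
      have ha0 : a ≠ 0 := fun h => h0S (h ▸ ha)
      simp only [Function.comp_apply, sub_comp, one_comp, mul_comp, C_comp, X_comp]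
      rw [mul_sub, ← C_mul, ← mul_assoc, ← C_mul]
      have e1 : -a / q * (q / a) = -1 := by field_simp
      have e2 : a * q⁻¹ = -(-a / q) := by field_simp
      rw [e1, e2]
      simp
      ring
    rw [h1, Multiset.prod_map_mul] at hcomp
    have h2 : (S.map (fun a => C (-a / q))).prod = C ((S.map (fun a => -a / q)).prod) := by
      rw [map_multiset_prod, Multiset.map_map]
      rfl
    have h3 : (S.map (fun a => X - C (q / a))).prod =
        ((S.map (fun x => q / x)).map (fun b => X - C b)).prod := by
      rw [Multiset.map_map]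
      rfl
    rw [h2, h3, ← mul_assoc, ← C_mul] at hcomp
    set M := ((S.map (fun x => q / x)).map (fun b => X - C b)).prod with hMdef
    have hMmonic : M.Monic := by
      rw [hMdef]
      apply monic_multiset_prod_of_monic
      intro b _
      exact monic_X_sub_C b
    have hc : q ^ g * (S.map (fun a => -a / q)).prod = 1 := by
      have := congrArg leadingCoeff hcomp
      rw [hPcmonic.leadingCoeff, leadingCoeff_mul, leadingCoeff_C, hMmonic.leadingCoeff,
        mul_one] at this
      exact this.symm
    rw [hc, C_1, one_mul] at hcomp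
    have := congrArg roots hcomp
    rw [hMdef, roots_multiset_prod_X_sub_C] at this
    exact this.symm
  obtain ⟨α, hαmem, hαprod, hαrev⟩ :=
    exists_pair_enum q hq0 g (2 * g) S rfl hScard h0S hinv hSprod
  refine ⟨α, fun i => hint _ (hαmem i), ?_, hαrev⟩
  rw [hαprod (fun a => 1 - C a * X), ← hLcprod, hLcdef, ← hL, Polynomial.polynomial_map_coe]

end Groth.Agent.Helper27.Zs
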