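import Groth.Agent.Lib.Helper16.FF.RR
import Groth.Agent.Lib.Helper16.FF.NSI
import Groth.Agent.Lib.Helper16.FF.AutB
import Groth.Agent.Lib.Helper16.FFW.Adele

/-! Finiteness of the places of bounded degree over a finite constant field (towards S11037). -/

set_option autoImplicit false

namespace Groth.Agent.Helper27.Zet

open FunFld Groth.Agent.Helper16.FF
open scoped WithZero

variable {k K : Type*} [Field k] [Field K] [Algebra k K]

theorem card_eq_mul_of_fibres {α β : Type*} [Finite α] (f : α → β) (m : ℕ)
    (hf : ∀ b, Nat.card {a // f a = b} = m) : Nat.card α = Nat.card β * m := by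
  classical
  rcases Nat.eq_zero_or_pos m with h0 | hpos
  · subst h0
    have : IsEmpty α := by
      constructor
      intro a
      have h1 := hf (f a)
      have : Nonempty {a' // f a' = f a} := ⟨⟨a, rfl⟩⟩
      have h2 : 0 < Nat.card {a' // f a' = f a} := Nat.card_pos
      omega
    simp
  · have hsurj : Function.Surjective f := by
      intro b
      have h1 := hf b
      have : Nonempty {a // f a = b} := by
        by_contra hne
        rw [not_nonempty_iff] at hne
        have : Nat.card {a // f a = b} = 0 := Nat.card_of_isEmpty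
        omega
      obtain ⟨a, ha⟩ := this
      exact ⟨a, ha⟩
    haveI : Finite β := Finite.of_surjective f hsurj
    haveI : Fintype β := Fintype.ofFinite β
    rw [← Nat.card_congr (Equiv.sigmaFiberEquiv f), Nat.card_sigma]
    simp_rw [hf]
    rw [Finset.sum_const, Finset.card_univ, Nat.card_eq_fintype_card, smul_eq_mul]

theorem finite_places_deg_eq [Finite k] (hK : IsFunctionField k K) (m : ℕ) :
    {P : Place k K | P.deg = m}.Finite := by
  classical
  obtain ⟨x, hx, -⟩ := hK.1
  set q := Nat.card k with hq
  have hq2 : 2 ≤ q := by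
    have := Finite.one_lt_card (α := k)
    omega
  rcases Nat.eq_zero_or_pos m with h0 | hpos
  · subst h0
    have : {P : Place k K | P.deg = 0} = ∅ := by
      ext P
      simp only [Set.mem_ofPred_eq, Set.mem_empty_iff_false, iff_false]
      exact (Place.deg_pos hK P).ne'
    rw [this]
    exact Set.finite_empty
  · set N := q ^ m with hN
    have hN2 : 2 ≤ N := by
      calc 2 ≤ q := hq2
        _ = q ^ 1 := (pow_one q).symm
        _ ≤ q ^ m := Nat.pow_le_pow_right (by omega) hpos
    have hne : x ^ N - x ≠ 0 := by
      intro h0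
      apply hx
      refine ⟨Polynomial.X ^ N - Polynomial.X, ?_, by simp [h0]⟩
      intro h1
      have h2 := congrArg (fun p => Polynomial.coeff p 1) h1
      simp only [Polynomial.coeff_sub, Polynomial.coeff_X_pow, Polynomial.coeff_X_one,
        Polynomial.coeff_zero] at h2
      rw [if_neg (by omega)] at h2
      simp at h2
    refine ((finite_poles hK x).union (finite_zeros' hK hne)).subset ?_
    intro P hP
    by_cases hxP : P.1 x ≤ 1
    · right
      haveI := Place.finiteDimensional_residueField hK P
      haveI : Finite (IsLocalRing.ResidueField P.O) := Module.finite_of_finite k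
      haveI : Fintype (IsLocalRing.ResidueField P.O) := Fintype.ofFinite _
      have hcard : Fintype.card (IsLocalRing.ResidueField P.O) = N := by
        rw [← Nat.card_eq_fintype_card, Module.natCard_eq_pow_finrank (K := k)]
        have : Module.finrank k (IsLocalRing.ResidueField P.O) = m := hP
        rw [this]
      set xO : P.O := ⟨x, (Place.mem_O_iff P x).2 hxP⟩ with hxO
      have h1 : IsLocalRing.residue P.O (xO ^ N - xO) = 0 := by
        rw [map_sub, map_pow, ← hcard, FiniteField.pow_card, sub_self]
      rw [Place.residue_eq_zero_iff] at h1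
      exact h1
    · left
      exact hxP

theorem finite_places_deg_le [Finite k] (hK : IsFunctionField k K) (n : ℕ) :
    {P : Place k K | P.deg ≤ n}.Finite := by
  have : {P : Place k K | P.deg ≤ n} = ⋃ m : Fin (n + 1), {P : Place k K | P.deg = (m : ℕ)} := by
    ext P
    simp only [Set.mem_ofPred_eq, Set.mem_iUnion]
    constructor
    · intro h
      exact ⟨⟨P.deg, by omega⟩, rfl⟩
    · rintro ⟨m, hm⟩
      have := m.2
      omega
  rw [this]
  exact Set.finite_iUnion fun m => finite_places_deg_eq hK m

theorem coeff_le_of_effective (hK : IsFunctionField k K) {D : Divisor k K} (hD : 0 ≤ D)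
    {n : ℕ} (hn : D.deg = n) (P : Place k K) :
    D P * (P.deg : ℤ) ≤ n := by
  classical
  have h1 : (Finsupp.single P (D P) : Divisor k K) ≤ D := by
    intro Q
    by_cases hQ : Q = P
    · subst hQ
      simp
    · rw [Finsupp.single_apply, if_neg (fun h => hQ h.symm)]
      exact hD Q
  have h2 := Groth.Agent.Helper16.FFW.Divisor.deg_mono h1
  rw [Groth.Agent.Helper16.FFW.Divisor.deg_single, hn] at h2
  exact h2

theorem finite_effDiv [Finite k] (hK : IsFunctionField k K) (n : ℕ) :
    Finite {D : Divisor k K // 0 ≤ D ∧ D.deg = n} := by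
  classical
  have hS := finite_places_deg_le hK n
  haveI : Finite {P : Place k K | P.deg ≤ n} := hS.to_subtype
  let f : {D : Divisor k K // 0 ≤ D ∧ D.deg = n} → ({P : Place k K | P.deg ≤ n} → Fin (n + 1)) :=
    fun D P => ⟨(D.1 P.1).toNat, by
      have h1 := coeff_le_of_effective hK D.2.1 D.2.2 P.1
      have h2 := D.2.1 P.1
      have h3 : (1 : ℤ) ≤ (P.1.deg : ℤ) := by exact_mod_cast Place.deg_pos hK P.1
      have h4 : D.1 P.1 ≤ D.1 P.1 * (P.1.deg : ℤ) := le_mul_of_one_le_right h2 h3
      have h5 : (0 : ℤ) ≤ D.1 P.1 := h2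
      omega⟩
  refine Finite.of_injective f ?_
  intro D D' h
  apply Subtype.ext
  ext P
  by_cases hP : P.deg ≤ n
  · have h1 := congrFun h ⟨P, hP⟩
    have h2 : (D.1 P).toNat = (D'.1 P).toNat := congrArg Fin.val h1
    have h3 : (0 : ℤ) ≤ D.1 P := D.2.1 P
    have h4 : (0 : ℤ) ≤ D'.1 P := D'.2.1 P
    omega
  · have hz : ∀ E : {D : Divisor k K // 0 ≤ D ∧ D.deg = n}, E.1 P = 0 := by
      intro E
      by_contra hne
      have h0 : (0 : ℤ) ≤ E.1 P := E.2.1 P
      have h1 : (1 : ℤ) ≤ E.1 P := by omega
      have h2 := coeff_le_of_effective hK E.2.1 E.2.2 P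
      have h3 : ((P.deg : ℤ)) ≤ E.1 P * (P.deg : ℤ) := le_mul_of_one_le_left (by positivity) h1
      have : (P.deg : ℤ) ≤ n := h3.trans h2
      exact hP (by exact_mod_cast this)
    rw [hz D, hz D']

end Groth.Agent.Helper27.Zet
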