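import Mathlib
import Groth.Agent.Lib.Helper27.CgE

set_option autoImplicit false

namespace Groth.Agent.Helper27.Cg

open FunFld Groth.Agent.Helper16.FFW TensorProduct
open scoped WithZero

universe u u' v v'

section ext
variable {k K K' : Type*} [Field k] [Field K] [Field K'] [Algebra k K] [Algebra K K'] [Algebra k K']
  [IsScalarTower k K K']

/-- a `HasExtension` pair of places is an `IsOver` pair -/
theorem isOver_of_hasExtension [FiniteDimensional K K'] (hK : IsWeakFF k K) (P : Place k K)
    (Q : Place k K') [P.1.HasExtension Q.1] : IsOver Q P := by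
  obtain ⟨P', e, he⟩ := exists_isOverWith hK Q
  have hpos := isOverWith_pos he
  have : P = P' := by
    apply Place.eq_of_le_one_imp
    intro y hy
    have h1 : Q.1 (algebraMap K K' y) ≤ 1 :=
      (Valuation.HasExtension.val_map_le_one_iff P.1 Q.1 y).2 hy
    rw [he y] at h1
    exact (pow_le_one_iff_of_nonneg zero_le hpos.ne').1 h1
  exact this ▸ ⟨e, he⟩

/-- approximate an element of `O_Q` by an element integral over `O_P` -/
theorem exists_integral_approx [FiniteDimensional K K'] (hK : IsFunctionField k K) (P : Place k K)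
    (Q : Place k K') (hQ : IsOver Q P) (z : K') (hz : Q.1 z ≤ 1) :
    ∃ r : K', Q.1 (r - z) < 1 ∧ ∀ Q' : Place k K', IsOver Q' P → Q'.1 r ≤ 1 := by
  classical
  obtain ⟨hfin, -⟩ := sum_ramIdx_mul_deg (K' := K') hK P
  obtain ⟨Qs, hQsdef⟩ : ∃ Qs : Finset (Place k K'), Qs = hfin.toFinset := ⟨_, rfl⟩
  have hQs : ∀ Q', Q' ∈ Qs ↔ IsOver Q' P := fun Q' => by
    rw [hQsdef, Set.Finite.mem_toFinset]; rfl
  obtain ⟨r, hr⟩ := weak_approx (fun i : ↥Qs => i.1) Subtype.val_injective
    (fun i => if i.1 = Q then z else 0) (fun i => if i.1 = Q then -1 else 0)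
  have hrQ : Q.1 (r - z) < 1 := by
    have := hr ⟨Q, (hQs Q).2 hQ⟩
    simp only [if_true] at this
    exact lt_one_iff_le_exp_neg_one.2 this
  refine ⟨r, hrQ, fun Q' hQ' => ?_⟩
  by_cases hne : Q' = Q
  · rw [hne]
    have : r = (r - z) + z := by ring
    rw [this]
    exact (Q.1.map_add _ _).trans (max_le hrQ.le hz)
  · have := hr ⟨Q', (hQs Q').2 hQ'⟩
    simp only [if_neg hne, sub_zero, WithZero.exp_zero] at this
    exact this

end ext

variable {k : Type u} {k' : Type u'} {K : Type v} {K' : Type v'} [Field k] [Field k'] [Field K] [Field K']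
  [Algebra k k'] [Algebra k K] [Algebra K K'] [Algebra k' K'] [Algebra k K']
  [IsScalarTower k k' K'] [IsScalarTower k K K']

theorem main12589 [FiniteDimensional k k']
    (h : Function.Bijective (Algebra.TensorProduct.productMap
      (IsScalarTower.toAlgHom k k' K') (IsScalarTower.toAlgHom k K K')))
    (hK : IsFunctionField k K)
    (P : Place k K) [Algebra P.O K'] [IsScalarTower P.O K K']
    (hns : (integralClosure P.O K').toSubring =
      (Algebra.adjoin P.O (Set.range (algebraMap k' K'))).toSubring)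
    (Q : Place k K') [P.1.HasExtension Q.1] (hk' : ∀ c : k', Q.1 (algebraMap k' K' c) ≤ 1) :
    Algebra.adjoin (IsLocalRing.ResidueField P.O)
      (Set.range fun c : k' => IsLocalRing.residue Q.O ⟨algebraMap k' K' c, hk' c⟩) = ⊤ := by
  classical
  haveI : FiniteDimensional K K' := finite_scalarExt' h
  have hQP : IsOver Q P := isOver_of_hasExtension hK.1 P Q
  let b := Module.finBasis k k'
  rw [eq_top_iff]
  intro ζ _
  obtain ⟨z, rfl⟩ := IsLocalRing.residue_surjective ζ
  obtain ⟨r, hrz, hrint⟩ := exists_integral_approx hK P Q hQP (z : K')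
    ((Place.mem_O_iff Q _).1 z.2)
  have hrR : r ∈ integralClosure P.O K' := (Nrm.mem_S_iff P hK r).2 hrint
  have hrA : r ∈ Algebra.adjoin P.O (Set.range (algebraMap k' K')) := by
    rw [← Subalgebra.mem_toSubring, ← hns, Subalgebra.mem_toSubring]
    exact hrR
  rw [mem_adjoin_iff P h b] at hrA
  have hrO : r ∈ Q.O := (Place.mem_O_iff Q r).2 (hrint Q hQP)
  -- r as an element of O_Q
  have hsum : (⟨r, hrO⟩ : Q.O) = ∑ i, algebraMap P.O Q.O
      ⟨(basisK h b).repr r i, (Place.mem_O_iff P _).2 (hrA i)⟩ *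
      ⟨algebraMap k' K' (b i), hk' (b i)⟩ := by
    apply Subtype.ext
    show r = Q.O.subtype (∑ i, algebraMap P.O Q.O
      ⟨(basisK h b).repr r i, (Place.mem_O_iff P _).2 (hrA i)⟩ *
      ⟨algebraMap k' K' (b i), hk' (b i)⟩)
    rw [map_sum]
    conv_lhs => rw [← (basisK h b).sum_repr r]
    refine Finset.sum_congr rfl fun i _ => ?_
    rw [basisK_apply, Algebra.smul_def]
    rfl
  have hres : IsLocalRing.residue Q.O z = IsLocalRing.residue Q.O ⟨r, hrO⟩ := by
    rw [eq_comm, ← sub_eq_zero, ← map_sub, Place.residue_eq_zero_iff]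
    exact hrz
  rw [hres, hsum, map_sum]
  refine Subalgebra.sum_mem _ fun i _ => ?_
  rw [map_mul]
  refine Subalgebra.mul_mem _ ?_ (Algebra.subset_adjoin ⟨b i, rfl⟩)
  rw [← Valuation.HasExtension.algebraMap_residue_eq_residue_algebraMap]
  exact Subalgebra.algebraMap_mem _ _

end Groth.Agent.Helper27.Cg
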