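import Mathlib
import Groth.Agent.Lib.Helper27.CgF
import Groth.Agent.Lib.Helper27.FrobB
import Groth.Agent.Lib.Helper27.InrB
import Groth.Agent.Lib.Helper27.ZsA

set_option autoImplicit false

namespace Groth.Agent.Helper27.Zt

open FunFld Groth.Agent.Helper16.FFW
open scoped WithZero

universe u u' v v'

section toK

variable {k : Type u} {k' : Type u'} {K' : Type v'} [Field k] [Field k'] [Field K']
  [Algebra k k'] [Algebra k' K'] [Algebra k K'] [IsScalarTower k k' K']

/-- restriction of the constant field -/
def toK (Q : Place k' K') : Place k K' :=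
  ⟨Q.1, fun c => by rw [IsScalarTower.algebraMap_apply k k' K']; exact Q.2.1 _, Q.2.2⟩

theorem toK_val (Q : Place k' K') : (toK Q : Place k K').1 = Q.1 := rfl

theorem toK_injective : Function.Injective (toK : Place k' K' → Place k K') := by
  intro Q Q' h
  apply Subtype.ext
  exact congrArg (fun R : Place k K' => R.1) h

theorem toK_surjective [Algebra.IsAlgebraic k k'] :
    Function.Surjective (toK : Place k' K' → Place k K') := by
  intro Q'
  refine ⟨⟨Q'.1, fun c => ?_, Q'.2.2⟩, rfl⟩
  have hc : IsIntegral k (algebraMap k' K' c) :=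
    ((Algebra.IsAlgebraic.isAlgebraic (R := k) c).isIntegral).map
      (IsScalarTower.toAlgHom k k' K')
  exact Groth.Agent.Helper16.FFW.Place.val_le_one_of_isIntegral Q' hc

theorem deg_toK (Q : Place k' K') :
    (toK Q : Place k K').deg = Module.finrank k k' * Q.deg := by
  letI : Algebra k Q.O := Place.algO (toK Q : Place k K')
  haveI : IsScalarTower k k' Q.O :=
    IsScalarTower.of_algebraMap_eq (fun c =>
      Subtype.ext (IsScalarTower.algebraMap_apply k k' K' c))
  exact (Module.finrank_mul_finrank k k' (IsLocalRing.ResidueField Q.O)).symm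

end toK

variable {k : Type u} {k' : Type u'} {K : Type v} {K' : Type v'}
  [Field k] [Field k'] [Field K] [Field K']
  [Algebra k k'] [Algebra k K] [Algebra K K'] [Algebra k' K'] [Algebra k K']
  [IsScalarTower k k' K'] [IsScalarTower k K K']

theorem finrank_eq [FiniteDimensional k k']
    (h : Function.Bijective (Algebra.TensorProduct.productMap
      (IsScalarTower.toAlgHom k k' K') (IsScalarTower.toAlgHom k K K'))) :
    Module.finrank K K' = Module.finrank k k' := by
  let b := Module.finBasis k k'
  have h1 := Module.finrank_eq_card_basis (Cg.basisK h b)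
  rw [h1, Fintype.card_fin]

/-- the degree (over `k`) of a place of `k' K` above `P` -/
theorem deg_of_isOver [Finite k] [FiniteDimensional k k']
    (h : Function.Bijective (Algebra.TensorProduct.productMap
      (IsScalarTower.toAlgHom k k' K') (IsScalarTower.toAlgHom k K K')))
    (hK : IsFunctionField k K) (P : Place k K) (Q : Place k K') (hQ : IsOver Q P) :
    Q.deg = Nat.lcm P.deg (Module.finrank k k') := by
  classical
  haveI : FiniteDimensional K K' := Cg.finite_scalarExt' h
  haveI : Finite k' := Module.finite_of_finite k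
  haveI : Fintype k' := Fintype.ofFinite k'
  haveI : Fintype k := Fintype.ofFinite k
  haveI : Algebra.IsAlgebraic k k' := Algebra.IsAlgebraic.of_finite k k'
  haveI : PerfectField k := PerfectField.ofFinite
  haveI : Algebra.IsSeparable k k' := Algebra.IsAlgebraic.isSeparable_of_perfectField
  letI : Algebra P.O K' := ((algebraMap K K').comp (algebraMap P.O K)).toAlgebra
  haveI : IsScalarTower P.O K K' := .of_algebraMap_eq (fun _ => rfl)
  obtain ⟨e, he⟩ := id hQ
  haveI := Inr.hasExtension_of_isOverWith he
  obtain ⟨hns, -⟩ := Cg.main11012 h hK P Q hQ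
  have hk' : ∀ c : k', Q.1 (algebraMap k' K' c) ≤ 1 := fun c =>
    Place.val_le_one_of_isIntegral Q
      ((Algebra.IsIntegral.isIntegral (R := k) c).map (IsScalarTower.toAlgHom k k' K'))
  have hgen := Cg.main12589 h hK P hns Q hk'
  have hK'w : IsWeakFF k K' := isWeakFF_of_finite hK.1
  have hfdP := Place.finiteDimensional_residueField hK.1 P
  have hfdQ := Place.finiteDimensional_residueField hK'w Q
  haveI : Finite (IsLocalRing.ResidueField P.O) := Module.finite_of_finite k
  haveI : Finite (IsLocalRing.ResidueField Q.O) := Module.finite_of_finite k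
  haveI : Fintype (IsLocalRing.ResidueField Q.O) := Fintype.ofFinite _
  have hcardP : Nat.card (IsLocalRing.ResidueField P.O) = Nat.card k ^ P.deg :=
    Module.natCard_eq_pow_finrank
  have hcardQ : Nat.card (IsLocalRing.ResidueField Q.O) = Nat.card k ^ Q.deg :=
    Module.natCard_eq_pow_finrank
  have hcardk' : Nat.card k' = Nat.card k ^ Module.finrank k k' := Module.natCard_eq_pow_finrank
  set d := P.deg with hd
  set r := Module.finrank k k' with hr
  set l := Nat.lcm d r with hl
  set q := Nat.card k with hq
  have hq2 : 2 ≤ q := Finite.one_lt_card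
  -- divisibility
  have hdN : d ∣ Q.deg := ⟨_, by rw [Inr.deg_eq_finrank_mul P Q hK.1 hK'w, mul_comm]⟩
  have hrN : r ∣ Q.deg := by
    obtain ⟨Q', rfl⟩ := toK_surjective (k := k) (k' := k') (K' := K') Q
    exact ⟨_, deg_toK Q'⟩
  have hlN : l ∣ Q.deg := Nat.lcm_dvd hdN hrN
  have hNpos : 0 < Q.deg := Place.deg_pos hK'w Q
  -- the Frobenius power
  let φ : IsLocalRing.ResidueField Q.O →ₐ[k] IsLocalRing.ResidueField Q.O :=
    (FiniteField.frobeniusAlgHom k (IsLocalRing.ResidueField Q.O)) ^ l
  have hφ : ∀ ζ, φ ζ = ζ ^ (q ^ l) := by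
    intro ζ
    show ((FiniteField.frobeniusAlgHom k (IsLocalRing.ResidueField Q.O)) ^ l) ζ = _
    rw [AlgHom.coe_pow, FiniteField.coe_frobeniusAlgHom, pow_iterate, hq,
      Nat.card_eq_fintype_card]
  have hfix : ∀ ζ : IsLocalRing.ResidueField Q.O, ζ ^ (q ^ l) = ζ := by
    intro ζ
    have hζ : ζ ∈ (⊤ : Subalgebra (IsLocalRing.ResidueField P.O)
        (IsLocalRing.ResidueField Q.O)) := trivial
    rw [← hgen] at hζ
    induction hζ using Algebra.adjoin_induction with
    | mem x hx =>
      obtain ⟨c, rfl⟩ := hx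
      obtain ⟨j, hj⟩ : r ∣ l := Nat.dvd_lcm_right d r
      rw [hj, pow_mul, ← hcardk']
      apply Zs.pow_card_pow_eq
      have hc : c ^ Nat.card k' = c := by
        rw [Nat.card_eq_fintype_card]; exact FiniteField.pow_card c
      rw [← map_pow]
      congr 1
      apply Subtype.ext
      show (algebraMap k' K' c) ^ Nat.card k' = algebraMap k' K' c
      rw [← map_pow, hc]
    | algebraMap x =>
      obtain ⟨j, hj⟩ : d ∣ l := Nat.dvd_lcm_left d r
      rw [hj, pow_mul, ← hcardP]
      apply Zs.pow_card_pow_eq
      rw [← map_pow]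
      congr 1
      haveI : Fintype (IsLocalRing.ResidueField P.O) := Fintype.ofFinite _
      rw [Nat.card_eq_fintype_card]; exact FiniteField.pow_card x
    | add x y _ _ hx hy => rw [← hφ, map_add, hφ, hφ, hx, hy]
    | mul x y _ _ hx hy => rw [mul_pow, hx, hy]
  -- cardinality bound
  have hM : 1 < q ^ l := by
    have hlpos : 0 < l := Nat.lcm_pos (Place.deg_pos hK.1 P) Module.finrank_pos
    calc 1 < q := hq2
      _ = q ^ 1 := (pow_one q).symm
      _ ≤ q ^ l := Nat.pow_le_pow_right (by omega) hlpos
  have hpne := FiniteField.X_pow_card_sub_X_ne_zero (IsLocalRing.ResidueField Q.O) hM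
  have hdeg := FiniteField.X_pow_card_sub_X_natDegree_eq (IsLocalRing.ResidueField Q.O) hM
  have hle : Fintype.card (IsLocalRing.ResidueField Q.O) ≤ q ^ l := by
    have h1 : (Finset.univ : Finset (IsLocalRing.ResidueField Q.O)).val ≤
        (Polynomial.X ^ (q ^ l) - Polynomial.X :
          Polynomial (IsLocalRing.ResidueField Q.O)).roots := by
      rw [Multiset.le_iff_subset Finset.univ.nodup]
      intro ζ _
      rw [Polynomial.mem_roots hpne, Polynomial.IsRoot, Polynomial.eval_sub,
        Polynomial.eval_pow, Polynomial.eval_X, hfix, sub_self]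
    have h2 := Multiset.card_le_card h1
    have h3 := Polynomial.card_roots' (Polynomial.X ^ (q ^ l) - Polynomial.X :
          Polynomial (IsLocalRing.ResidueField Q.O))
    rw [hdeg] at h3
    exact h2.trans h3
  rw [← Nat.card_eq_fintype_card, hcardQ] at hle
  have hNl : Q.deg ≤ l := (Nat.pow_le_pow_iff_right (by omega)).1 hle
  exact Nat.le_antisymm hNl (Nat.le_of_dvd hNpos hlN)

/-- the number of places of `k' K` above `P` -/
theorem card_fiber [Finite k] [FiniteDimensional k k']
    (h : Function.Bijective (Algebra.TensorProduct.productMap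
      (IsScalarTower.toAlgHom k k' K') (IsScalarTower.toAlgHom k K K')))
    (hK : IsFunctionField k K) (P : Place k K) (Qs : Finset (Place k K'))
    (hQs : ∀ Q, Q ∈ Qs ↔ IsOver Q P) : Qs.card = Nat.gcd P.deg (Module.finrank k k') := by
  classical
  haveI : FiniteDimensional K K' := Cg.finite_scalarExt' h
  haveI : Algebra.IsAlgebraic k k' := Algebra.IsAlgebraic.of_finite k k'
  haveI : PerfectField k := PerfectField.ofFinite
  haveI : Algebra.IsSeparable k k' := Algebra.IsAlgebraic.isSeparable_of_perfectField
  letI : Algebra P.O K' := ((algebraMap K K').comp (algebraMap P.O K)).toAlgebra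
  haveI : IsScalarTower P.O K K' := .of_algebraMap_eq (fun _ => rfl)
  obtain ⟨-, hsum⟩ := sum_ramIdx_mul_deg (K' := K') hK P
  have hs := hsum Qs hQs
  have hterm : ∀ Q ∈ Qs, ramIdx Q P * Q.deg = Nat.lcm P.deg (Module.finrank k k') := by
    intro Q hQ
    have hQP := (hQs Q).1 hQ
    obtain ⟨-, h1⟩ := Cg.main11012 h hK P Q hQP
    rw [ramIdx_eq h1, deg_of_isOver h hK P Q hQP, one_mul]
  rw [Finset.sum_congr rfl hterm, Finset.sum_const, smul_eq_mul, finrank_eq h] at hs
  have hlpos : 0 < Nat.lcm P.deg (Module.finrank k k') :=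
    Nat.lcm_pos (Place.deg_pos hK.1 P) Module.finrank_pos
  have h2 := Nat.gcd_mul_lcm P.deg (Module.finrank k k')
  have h3 : Qs.card * Nat.lcm P.deg (Module.finrank k k') =
      Nat.gcd P.deg (Module.finrank k k') * Nat.lcm P.deg (Module.finrank k k') := by
    rw [hs, h2, mul_comm]
  exact Nat.eq_of_mul_eq_mul_right hlpos h3

end Groth.Agent.Helper27.Zt
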