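import Mathlib
import Groth.Agent.Lib.Helper27.ZtA
import Groth.Agent.Lib.Helper27.ZetA

set_option autoImplicit false

namespace Groth.Agent.Helper27.Zt

open FunFld Groth.Agent.Helper16.FFW
open scoped WithZero

universe u u' v v'

section Nm

variable (k : Type*) (K : Type*) [Field k] [Field K] [Algebra k K]

/-- `N_m = ∑_{deg P ∣ m} deg P` -/
noncomputable def Nm (m : ℕ) : ℕ := ∑ᶠ P ∈ {P : Place k K | P.deg ∣ m}, P.deg

variable {k K}

theorem Nm_eq_sum (m : ℕ) (S : Finset (Place k K)) (hS : ∀ P, P ∈ S ↔ P.deg ∣ m) :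
    Nm k K m = ∑ P ∈ S, P.deg := by
  unfold Nm
  have : {P : Place k K | P.deg ∣ m} = (S : Set (Place k K)) := by
    ext P
    simp only [Set.mem_setOf_eq, Finset.mem_coe, hS]
  rw [this, finsum_mem_coe_finset]

theorem exists_finset_dvd [Finite k] (hK : IsFunctionField k K) (m : ℕ) (hm : 0 < m) :
    ∃ S : Finset (Place k K), ∀ P, P ∈ S ↔ P.deg ∣ m := by
  have hfin : {P : Place k K | P.deg ∣ m}.Finite :=
    (Zet.finite_places_deg_le hK m).subset (fun P hP => Nat.le_of_dvd hm hP)
  exact ⟨hfin.toFinset, fun P => by rw [Set.Finite.mem_toFinset]; rfl⟩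

end Nm

variable {k : Type u} {k' : Type u'} {K : Type v} {K' : Type v'}
  [Field k] [Field k'] [Field K] [Field K']
  [Algebra k k'] [Algebra k K] [Algebra K K'] [Algebra k' K'] [Algebra k K']
  [IsScalarTower k k' K'] [IsScalarTower k K K']

theorem Nm_constExt [Finite k] [FiniteDimensional k k']
    (h : Function.Bijective (Algebra.TensorProduct.productMap
      (IsScalarTower.toAlgHom k k' K') (IsScalarTower.toAlgHom k K K')))
    (hK : IsFunctionField k K) (hK' : IsFunctionField k' K') (j : ℕ) (hj : 0 < j) :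
    Nm k' K' j = Nm k K (j * Module.finrank k k') := by
  classical
  haveI : FiniteDimensional K K' := Cg.finite_scalarExt' h
  haveI : Finite k' := Module.finite_of_finite k
  haveI : Algebra.IsAlgebraic k k' := Algebra.IsAlgebraic.of_finite k k'
  set r := Module.finrank k k' with hr
  have hrpos : 0 < r := Module.finrank_pos
  obtain ⟨T, hT⟩ := exists_finset_dvd hK' j hj
  obtain ⟨S, hS⟩ := exists_finset_dvd hK (j * r) (Nat.mul_pos hj hrpos)
  rw [Nm_eq_sum j T hT, Nm_eq_sum (j * r) S hS]
  -- the place below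
  have hex : ∀ Q' : Place k' K', ∃ P : Place k K, IsOver (toK Q' : Place k K') P := by
    intro Q'
    obtain ⟨P, e, he⟩ := exists_isOverWith hK.1 (toK Q' : Place k K')
    exact ⟨P, e, he⟩
  choose below hbelow using hex
  have hiff : ∀ (Q' : Place k' K') (P : Place k K),
      IsOver (toK Q' : Place k K') P ↔ below Q' = P := by
    intro Q' P
    constructor
    · rintro ⟨e, he⟩
      obtain ⟨e', he'⟩ := hbelow Q'
      exact (isOverWith_unique he' he).1
    · rintro rfl
      exact hbelow Q'
  -- degrees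
  have hdeg : ∀ Q' : Place k' K',
      Nat.gcd (below Q').deg r * Q'.deg = (below Q').deg := by
    intro Q'
    have h1 := deg_of_isOver h hK (below Q') (toK Q') (hbelow Q')
    rw [deg_toK] at h1
    have h2 := Nat.gcd_mul_lcm (below Q').deg r
    rw [← h1] at h2
    have h3 : (Nat.gcd (below Q').deg r * Q'.deg) * r = (below Q').deg * r := by
      rw [← h2]; ring
    exact Nat.eq_of_mul_eq_mul_right hrpos h3
  have hmem : ∀ Q' : Place k' K', Q' ∈ T ↔ below Q' ∈ S := by
    intro Q'
    rw [hT, hS]
    have h1 := hdeg Q'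
    set d := (below Q').deg with hd
    set g := Nat.gcd d r with hg
    have hgpos : 0 < g := Nat.gcd_pos_of_pos_right d hrpos
    obtain ⟨r', hr'⟩ : g ∣ r := Nat.gcd_dvd_right d r
    have hcop : Nat.Coprime Q'.deg r' := by
      have h2 : Nat.gcd (g * Q'.deg) (g * r') = g := by rw [h1, ← hr']
      rw [Nat.gcd_mul_left] at h2
      have h3 : g * Nat.gcd Q'.deg r' = g * 1 := by rw [h2, mul_one]
      exact Nat.eq_of_mul_eq_mul_left hgpos h3
    constructor
    · intro hdvd
      rw [← h1, mul_comm j r]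
      exact Nat.mul_dvd_mul (Nat.gcd_dvd_right d r) hdvd
    · intro hdvd
      rw [← h1, hr', show j * (g * r') = g * (j * r') by ring] at hdvd
      have h2 : Q'.deg ∣ j * r' := Nat.dvd_of_mul_dvd_mul_left hgpos hdvd
      exact hcop.dvd_of_dvd_mul_right h2
  rw [← Finset.sum_fiberwise_of_maps_to (s := T) (t := S) (g := below)
    (fun Q' hQ' => (hmem Q').1 hQ')]
  refine Finset.sum_congr rfl (fun P hP => ?_)
  -- the fibre over `P`
  set F := T.filter (fun Q' => below Q' = P) with hF
  have hFmem : ∀ Q', Q' ∈ F ↔ below Q' = P := by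
    intro Q'
    rw [hF, Finset.mem_filter]
    constructor
    · exact fun h => h.2
    · intro hb
      refine ⟨?_, hb⟩
      rw [hmem, hb]
      exact hP
  have hcard : F.card = Nat.gcd P.deg r := by
    have h1 : (F.image (toK : Place k' K' → Place k K')).card = F.card :=
      Finset.card_image_of_injective _ toK_injective
    rw [← h1]
    apply card_fiber h hK P
    intro Q
    rw [Finset.mem_image]
    constructor
    · rintro ⟨Q', hQ', rfl⟩
      exact (hiff Q' P).2 ((hFmem Q').1 hQ')
    · intro hQ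
      obtain ⟨Q', rfl⟩ := toK_surjective (k := k) (k' := k') (K' := K') Q
      exact ⟨Q', (hFmem Q').2 ((hiff Q' P).1 hQ), rfl⟩
  have hgpos : 0 < Nat.gcd P.deg r := Nat.gcd_pos_of_pos_right _ hrpos
  have hterm : ∀ Q' ∈ F, Q'.deg = P.deg / Nat.gcd P.deg r := by
    intro Q' hQ'
    have hb := (hFmem Q').1 hQ'
    have := hdeg Q'
    rw [hb] at this
    exact (Nat.div_eq_of_eq_mul_right hgpos this.symm).symm
  rw [Finset.sum_congr rfl hterm, Finset.sum_const, smul_eq_mul, hcard]
  exact Nat.mul_div_cancel' (Nat.gcd_dvd_left _ _)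

end Groth.Agent.Helper27.Zt
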