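import Mathlib
import Groth.Agent.Lib.Helper27.ZtB
import Groth.Agent.Lib.Helper27.ZetC

set_option autoImplicit false

namespace Groth.Agent.Helper27.Zt

open FunFld Groth.Agent.Helper16.FFW
open scoped WithZero

variable {k K : Type*} [Field k] [Field K] [Algebra k K]

/-- `z = #{j ∈ [1, n] : j ≤ z}` for `0 ≤ z ≤ n` -/
theorem sum_indicator_le (n : ℕ) (z : ℤ) (h0 : 0 ≤ z) (hn : z ≤ n) :
    (∑ j ∈ Finset.Icc 1 n, if (j : ℤ) ≤ z then (1 : ℤ) else 0) = z := by
  obtain ⟨m, rfl⟩ := Int.eq_ofNat_of_zero_le h0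
  have hmn : m ≤ n := by exact_mod_cast hn
  rw [Finset.sum_boole]
  have : (Finset.Icc 1 n).filter (fun j : ℕ => (j : ℤ) ≤ (m : ℤ)) = Finset.Icc 1 m := by
    ext j
    simp only [Finset.mem_filter, Finset.mem_Icc, Nat.cast_le]
    omega
  rw [this, Nat.card_Icc]
  simp

/-- shifting by `j P` -/
noncomputable def shiftEquiv (hK : IsFunctionField k K) (n : ℕ) (P : Place k K) (j : ℕ)
    (hjn : j * P.deg ≤ n) :
    {D : {D : Divisor k K // 0 ≤ D ∧ D.deg = (n : ℤ)} // (j : ℤ) ≤ D.1 P} ≃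
      {D : Divisor k K // 0 ≤ D ∧ D.deg = ((n - j * P.deg : ℕ) : ℤ)} where
  toFun D := ⟨D.1.1 - Finsupp.single P (j : ℤ), by
    classical
    constructor
    · intro Q
      rw [Finsupp.sub_apply, Finsupp.single_apply]
      split_ifs with hQ
      · subst hQ
        show (0 : ℤ) ≤ _
        have := D.2
        omega
      · have := D.1.2.1 Q
        show (0 : ℤ) ≤ _
        have h2 : (0 : ℤ) ≤ D.1.1 Q := this
        omega
    · rw [Groth.Agent.Helper16.FFW.Divisor.deg_sub, D.1.2.2,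
        Groth.Agent.Helper16.FFW.Divisor.deg_single]
      push_cast [Nat.cast_sub hjn]
      ring⟩
  invFun D' := ⟨⟨D'.1 + Finsupp.single P (j : ℤ), by
    classical
    constructor
    · intro Q
      rw [Finsupp.add_apply, Finsupp.single_apply]
      have h2 : (0 : ℤ) ≤ D'.1 Q := D'.2.1 Q
      show (0 : ℤ) ≤ _
      split_ifs <;> omega
    · rw [Groth.Agent.Helper16.FFW.Divisor.deg_add, D'.2.2,
        Groth.Agent.Helper16.FFW.Divisor.deg_single]
      push_cast [Nat.cast_sub hjn]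
      ring⟩, by
    show (j : ℤ) ≤ (D'.1 + Finsupp.single P (j : ℤ)) P
    rw [Finsupp.add_apply, Finsupp.single_eq_same]
    have h2 : (0 : ℤ) ≤ D'.1 P := D'.2.1 P
    omega⟩
  left_inv D := by
    apply Subtype.ext
    apply Subtype.ext
    show D.1.1 - Finsupp.single P (j : ℤ) + Finsupp.single P (j : ℤ) = D.1.1
    abel
  right_inv D' := by
    apply Subtype.ext
    show D'.1 + Finsupp.single P (j : ℤ) - Finsupp.single P (j : ℤ) = D'.1
    abel

theorem card_ge (hK : IsFunctionField k K) (n : ℕ) (P : Place k K) (j : ℕ) (hj : 1 ≤ j) :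
    Nat.card {D : {D : Divisor k K // 0 ≤ D ∧ D.deg = (n : ℤ)} // (j : ℤ) ≤ D.1 P} =
      if j * P.deg ≤ n then effDivCount k K (n - j * P.deg) else 0 := by
  split_ifs with hjn
  · exact Nat.card_congr (shiftEquiv hK n P j hjn)
  · haveI : IsEmpty {D : {D : Divisor k K // 0 ≤ D ∧ D.deg = (n : ℤ)} // (j : ℤ) ≤ D.1 P} := by
      constructor
      rintro ⟨D, hD⟩
      apply hjn
      have h1 := Zet.coeff_le_of_effective hK D.2.1 D.2.2 P
      have h3 : (0 : ℤ) ≤ (P.deg : ℤ) := by positivity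
      have h4 : (j : ℤ) * (P.deg : ℤ) ≤ D.1 P * (P.deg : ℤ) :=
        mul_le_mul_of_nonneg_right hD h3
      have h5 : ((j * P.deg : ℕ) : ℤ) ≤ (n : ℤ) := by push_cast; linarith
      exact_mod_cast h5
    exact Nat.card_of_isEmpty

end Groth.Agent.Helper27.Zt
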