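import Mathlib
import Groth.Agent.Lib.Helper27.ZtC

set_option autoImplicit false

namespace Groth.Agent.Helper27.Zt

open FunFld Groth.Agent.Helper16.FFW
open scoped WithZero

variable {k K : Type*} [Field k] [Field K] [Algebra k K]

theorem eulerIdentity [Finite k] (hK : IsFunctionField k K) (n : ℕ) :
    n * effDivCount k K n = ∑ m ∈ Finset.Icc 1 n, Nm k K m * effDivCount k K (n - m) := by
  classical
  haveI := Zet.finite_effDiv hK n
  haveI : Fintype {D : Divisor k K // 0 ≤ D ∧ D.deg = (n : ℤ)} := Fintype.ofFinite _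
  set PS : Finset (Place k K) := (Zet.finite_places_deg_le hK n).toFinset with hPS
  have hmemPS : ∀ P, P ∈ PS ↔ P.deg ≤ n := fun P => by
    rw [hPS, Set.Finite.mem_toFinset]; rfl
  let c : Place k K → ℕ → ℕ := fun P j =>
    if j * P.deg ≤ n then effDivCount k K (n - j * P.deg) else 0
  -- Claim A
  have hA : (n : ℤ) * (effDivCount k K n : ℤ) =
      ∑ P ∈ PS, ∑ j ∈ Finset.Icc 1 n, (P.deg : ℤ) * (c P j : ℤ) := by
    have h1 : (n : ℤ) * (effDivCount k K n : ℤ) =
        ∑ _D : {D : Divisor k K // 0 ≤ D ∧ D.deg = (n : ℤ)}, (n : ℤ) := by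
      rw [Finset.sum_const, Finset.card_univ, ← Nat.card_eq_fintype_card, nsmul_eq_mul, mul_comm]
      rfl
    have h2 : ∀ D : {D : Divisor k K // 0 ≤ D ∧ D.deg = (n : ℤ)}, (n : ℤ) =
        ∑ P ∈ PS, ∑ j ∈ Finset.Icc 1 n, if (j : ℤ) ≤ D.1 P then (P.deg : ℤ) else 0 := by
      intro D
      have hb : ∀ P : Place k K, 0 ≤ D.1 P ∧ D.1 P ≤ n := by
        intro P
        have h1 := Zet.coeff_le_of_effective hK D.2.1 D.2.2 P
        have h2 : (0 : ℤ) ≤ D.1 P := D.2.1 P
        have h3 : (1 : ℤ) ≤ (P.deg : ℤ) := by exact_mod_cast Place.deg_pos hK.1 P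
        have h4 : D.1 P ≤ D.1 P * (P.deg : ℤ) := le_mul_of_one_le_right h2 h3
        exact ⟨h2, by omega⟩
      have hsub : D.1.support ⊆ PS := by
        intro P hP
        rw [Finsupp.mem_support_iff] at hP
        rw [hmemPS]
        have h1 := Zet.coeff_le_of_effective hK D.2.1 D.2.2 P
        have h2 := (hb P).1
        have h3 : (1 : ℤ) ≤ D.1 P := by omega
        have h4 : (0 : ℤ) ≤ (P.deg : ℤ) := by positivity
        have h5 : (P.deg : ℤ) ≤ D.1 P * (P.deg : ℤ) := le_mul_of_one_le_left h4 h3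
        have h6 : (P.deg : ℤ) ≤ n := by omega
        exact_mod_cast h6
      have hdeg : D.1.deg = ∑ P ∈ PS, D.1 P * (P.deg : ℤ) := by
        unfold Divisor.deg Finsupp.sum
        apply Finset.sum_subset hsub
        intro P _ hP
        rw [Finsupp.notMem_support_iff] at hP
        show D.1 P * (P.deg : ℤ) = 0
        rw [hP, zero_mul]
      have hn' : (n : ℤ) = ∑ P ∈ PS, D.1 P * (P.deg : ℤ) := by rw [← hdeg, D.2.2]
      refine hn'.trans ?_
      refine Finset.sum_congr rfl (fun P _ => ?_)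
      conv_lhs => rw [← sum_indicator_le n (D.1 P) (hb P).1 (hb P).2]
      rw [Finset.sum_mul]
      refine Finset.sum_congr rfl (fun j _ => ?_)
      split_ifs <;> simp
    rw [h1, Finset.sum_congr rfl (fun D _ => h2 D), Finset.sum_comm]
    refine Finset.sum_congr rfl (fun P _ => ?_)
    rw [Finset.sum_comm]
    refine Finset.sum_congr rfl (fun j hj => ?_)
    rw [Finset.mem_Icc] at hj
    rw [← Finset.sum_filter, Finset.sum_const, nsmul_eq_mul, mul_comm]
    congr 1
    rw [← Fintype.card_subtype, ← Nat.card_eq_fintype_card, card_ge hK n P j hj.1]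
  -- Claim B
  have hB : ∑ m ∈ Finset.Icc 1 n, Nm k K m * effDivCount k K (n - m) =
      ∑ P ∈ PS, ∑ j ∈ Finset.Icc 1 n, P.deg * c P j := by
    have h1 : ∀ m ∈ Finset.Icc 1 n, Nm k K m * effDivCount k K (n - m) =
        ∑ P ∈ PS, if P.deg ∣ m then P.deg * effDivCount k K (n - m) else 0 := by
      intro m hm
      rw [Finset.mem_Icc] at hm
      rw [Nm_eq_sum m (PS.filter (fun P => P.deg ∣ m)) (fun P => by
        rw [Finset.mem_filter, hmemPS]
        constructor
        · exact fun h => h.2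
        · exact fun h => ⟨(Nat.le_of_dvd (by omega) h).trans hm.2, h⟩),
        Finset.sum_filter, Finset.sum_mul]
      refine Finset.sum_congr rfl (fun P _ => ?_)
      split_ifs <;> simp
    rw [Finset.sum_congr rfl h1, Finset.sum_comm]
    refine Finset.sum_congr rfl (fun P _ => ?_)
    have hd : 1 ≤ P.deg := Place.deg_pos hK.1 P
    rw [← Finset.sum_filter]
    have h2 : ∑ j ∈ Finset.Icc 1 n, P.deg * c P j =
        ∑ j ∈ (Finset.Icc 1 n).filter (fun j => j * P.deg ≤ n),
          P.deg * effDivCount k K (n - j * P.deg) := by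
      rw [Finset.sum_filter]
      refine Finset.sum_congr rfl (fun j _ => ?_)
      show P.deg * (if j * P.deg ≤ n then effDivCount k K (n - j * P.deg) else 0) = _
      split_ifs <;> simp
    rw [h2]
    symm
    refine Finset.sum_nbij' (fun j => j * P.deg) (fun m => m / P.deg) ?_ ?_ ?_ ?_ ?_
    · intro j hj
      rw [Finset.mem_filter, Finset.mem_Icc] at hj ⊢
      refine ⟨⟨?_, hj.2⟩, Dvd.intro_left j rfl⟩
      exact Nat.mul_pos (by omega) (by omega)
    · intro m hm
      rw [Finset.mem_filter, Finset.mem_Icc] at hm ⊢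
      obtain ⟨t, ht⟩ := hm.2
      have ht1 : 1 ≤ t := by
        rcases Nat.eq_zero_or_pos t with h | h
        · rw [h, mul_zero] at ht; omega
        · exact h
      have hdiv : m / P.deg = t := by rw [ht, Nat.mul_div_cancel_left _ (by omega)]
      rw [hdiv]
      refine ⟨⟨ht1, ?_⟩, ?_⟩
      · have : t ≤ P.deg * t := Nat.le_mul_of_pos_left t (by omega)
        omega
      · rw [mul_comm, ← ht]; exact hm.1.2
    · intro j _
      exact Nat.mul_div_cancel j (by omega)
    · intro m hm
      rw [Finset.mem_filter] at hm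
      exact Nat.div_mul_cancel hm.2
    · intro j _
      rfl
  have hC : ((n * effDivCount k K n : ℕ) : ℤ) =
      ((∑ m ∈ Finset.Icc 1 n, Nm k K m * effDivCount k K (n - m) : ℕ) : ℤ) := by
    rw [hB]
    push_cast
    exact hA
  exact_mod_cast hC

end Groth.Agent.Helper27.Zt
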