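import Mathlib

set_option autoImplicit false

namespace Groth.Agent.Helper27.Zt

open PowerSeries

section theta

variable {R : Type*} [CommRing R]

/-- the Euler operator `t d/dt` -/
noncomputable def theta (f : PowerSeries R) : PowerSeries R :=
  PowerSeries.mk fun n => (n : R) * coeff n f

theorem coeff_theta (f : PowerSeries R) (n : ℕ) : coeff n (theta f) = (n : R) * coeff n f := by
  unfold theta
  rw [coeff_mk]

theorem theta_mul (f g : PowerSeries R) : theta (f * g) = theta f * g + f * theta g := by
  ext n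
  rw [coeff_theta, map_add, coeff_mul, coeff_mul, coeff_mul, Finset.mul_sum,
    ← Finset.sum_add_distrib]
  refine Finset.sum_congr rfl (fun p hp => ?_)
  rw [Finset.HasAntidiagonal.mem_antidiagonal] at hp
  rw [coeff_theta, coeff_theta, ← hp]
  push_cast
  ring

theorem theta_one : theta (1 : PowerSeries R) = 0 := by
  ext n
  rw [coeff_theta, coeff_one]
  split_ifs with h
  · subst h; simp
  · simp

/-- `G a = ∑_{m ≥ 1} a^m t^m` -/
noncomputable def G (a : R) : PowerSeries R :=
  PowerSeries.mk fun m => if m = 0 then 0 else a ^ m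

theorem coeff_G (a : R) (m : ℕ) : coeff m (G a) = if m = 0 then 0 else a ^ m := by
  unfold G
  rw [coeff_mk]

theorem one_sub_mul_G (a : R) : (1 - C a * X) * G a = C a * X := by
  have h0 : (1 - C a * X) * G a = G a - C a * (X * G a) := by ring
  rw [h0]
  ext n
  rcases n with _ | n
  · rw [map_sub, coeff_C_mul, coeff_zero_X_mul, coeff_G, if_pos rfl, coeff_C_mul,
      coeff_zero_X]
    simp
  · rw [map_sub, coeff_C_mul, coeff_succ_X_mul, coeff_G, coeff_G, if_neg (Nat.succ_ne_zero n),
      coeff_C_mul, coeff_X]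
    rcases n with _ | n
    · simp
    · rw [if_neg (Nat.succ_ne_zero n), if_neg (by omega)]
      ring

theorem theta_one_sub (a : R) : theta (1 - C a * X) = (1 - C a * X) * (-G a) := by
  rw [mul_neg, one_sub_mul_G]
  ext n
  rw [coeff_theta, map_sub, map_neg, coeff_C_mul, coeff_one, coeff_X]
  rcases n with _ | n
  · simp
  · rcases n with _ | n
    · simp
    · simp

theorem theta_mul_of (f g u v : PowerSeries R) (hf : theta f = f * u) (hg : theta g = g * v) :
    theta (f * g) = f * g * (u + v) := by
  rw [theta_mul, hf, hg]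
  ring

theorem theta_prod {ι : Type*} (s : Finset ι) (α : ι → R) :
    theta (∏ i ∈ s, (1 - C (α i) * X)) =
      (∏ i ∈ s, (1 - C (α i) * X)) * (-∑ i ∈ s, G (α i)) := by
  classical
  induction s using Finset.induction_on with
  | empty => simp [theta_one]
  | insert a s ha ih =>
    rw [Finset.prod_insert ha, Finset.sum_insert ha,
      theta_mul_of _ _ _ _ (theta_one_sub (α a)) ih]
    ring

end theta

section main

variable {ι : Type*} [Fintype ι]

/-- forward: the `N`-series from the factorisation -/
theorem N_eq_of_factor (Z N : PowerSeries ℂ) (q : ℂ) (α : ι → ℂ)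
    (hL : (1 - X) * (1 - C q * X) * Z = ∏ i, (1 - C (α i) * X))
    (hZ : theta Z = Z * N) :
    N = G 1 + G q - ∑ i, G (α i) := by
  have hE : theta ((1 - X) * (1 - C q * X) : PowerSeries ℂ) =
      (1 - X) * (1 - C q * X) * (-G 1 + -G q) := by
    have h1 := theta_one_sub (1 : ℂ)
    rw [map_one, one_mul] at h1
    exact theta_mul_of _ _ _ _ h1 (theta_one_sub q)
  have h2 : theta (∏ i, (1 - C (α i) * X) : PowerSeries ℂ) =
      (∏ i, (1 - C (α i) * X)) * (-∑ i, G (α i)) := theta_prod Finset.univ α
  rw [← hL, theta_mul, hE, hZ] at h2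
  have h3 : ((1 - X) * (1 - C q * X) * Z) * (N - (G 1 + G q - ∑ i, G (α i))) = 0 := by
    linear_combination h2
  have hne : ((1 - X) * (1 - C q * X) * Z : PowerSeries ℂ) ≠ 0 := by
    rw [hL]
    intro h0
    have := congrArg (constantCoeff (R := ℂ)) h0
    rw [map_prod] at this
    simp at this
  rcases mul_eq_zero.1 h3 with h | h
  · exact absurd h hne
  · exact sub_eq_zero.1 h

/-- uniqueness of solutions of `θ A = A M` -/
theorem eq_of_theta_eq (A B M : PowerSeries ℂ) (hA0 : constantCoeff A = 1)
    (hB0 : constantCoeff B = 1) (hM0 : constantCoeff M = 0)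
    (hA : theta A = A * M) (hB : theta B = B * M) : A = B := by
  ext n
  induction n using Nat.strong_induction_on with
  | _ n ih =>
    rcases Nat.eq_zero_or_pos n with h0 | hpos
    · subst h0
      rw [coeff_zero_eq_constantCoeff_apply, coeff_zero_eq_constantCoeff_apply, hA0, hB0]
    · have h1 := congrArg (coeff n) hA
      have h2 := congrArg (coeff n) hB
      rw [coeff_theta, coeff_mul] at h1 h2
      have h3 : ∑ p ∈ Finset.HasAntidiagonal.antidiagonal n, coeff p.1 A * coeff p.2 M =
          ∑ p ∈ Finset.HasAntidiagonal.antidiagonal n, coeff p.1 B * coeff p.2 M := by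
        refine Finset.sum_congr rfl (fun p hp => ?_)
        rw [Finset.HasAntidiagonal.mem_antidiagonal] at hp
        rcases Nat.eq_zero_or_pos p.2 with h | h
        · rw [h, coeff_zero_eq_constantCoeff_apply, hM0, mul_zero, mul_zero]
        · rw [ih p.1 (by omega)]
      rw [h3, ← h2] at h1
      have hn : (n : ℂ) ≠ 0 := by exact_mod_cast hpos.ne'
      exact mul_left_cancel₀ hn h1

/-- backward: the factorisation from the `N`-series -/
theorem factor_of_N_eq (Z N : PowerSeries ℂ) (q : ℂ) (β : ι → ℂ)
    (hZ0 : constantCoeff Z = 1)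
    (hZ : theta Z = Z * N) (hN : N = G 1 + G q - ∑ i, G (β i)) :
    (1 - X) * (1 - C q * X) * Z = ∏ i, (1 - C (β i) * X) := by
  have hE : theta ((1 - X) * (1 - C q * X) : PowerSeries ℂ) =
      (1 - X) * (1 - C q * X) * (-G 1 + -G q) := by
    have h1 := theta_one_sub (1 : ℂ)
    rw [map_one, one_mul] at h1
    exact theta_mul_of _ _ _ _ h1 (theta_one_sub q)
  have hG0 : ∀ a : ℂ, constantCoeff (G a) = 0 := by
    intro a
    rw [← coeff_zero_eq_constantCoeff_apply, coeff_G, if_pos rfl]
  apply eq_of_theta_eq _ _ (-∑ i, G (β i))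
  · simp [hZ0]
  · rw [map_prod]
    simp
  · rw [map_neg, map_sum]
    simp [hG0]
  · rw [theta_mul, hE, hZ, hN]
    ring
  · exact theta_prod Finset.univ β

end main

end Groth.Agent.Helper27.Zt
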