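import Mathlib
import Groth.Agent.Lib.Helper27.ZtD
import Groth.Agent.Lib.Helper27.ZtE
import Groth.Agent.Lib.Helper27.ZsI

set_option autoImplicit false

namespace Groth.Agent.Helper27.Zt

open FunFld PowerSeries
open scoped WithZero

universe u u' v v'

section single

variable (k : Type*) (K : Type*) [Field k] [Field K] [Algebra k K]

/-- the `N`-series over `ℂ` -/
noncomputable def Nser : PowerSeries ℂ :=
  PowerSeries.mk fun m => if m = 0 then 0 else (Nm k K m : ℂ)

/-- the zeta series over `ℂ` -/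
noncomputable def Zc : PowerSeries ℂ := PowerSeries.map (Int.castRingHom ℂ) (zetaZ k K)

variable {k K}

theorem coeff_Zc (n : ℕ) : coeff n (Zc k K) = (effDivCount k K n : ℂ) := by
  unfold Zc
  rw [coeff_map, Zs.coeff_zetaZ]
  simp

theorem coeff_Nser (m : ℕ) : coeff m (Nser k K) = if m = 0 then 0 else (Nm k K m : ℂ) := by
  unfold Nser
  rw [coeff_mk]

theorem theta_Zc [Finite k] (hK : IsFunctionField k K) :
    theta (Zc k K) = Zc k K * Nser k K := by
  ext n
  rw [coeff_theta, mul_comm (Zc k K), coeff_mul, coeff_Zc,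
    Finset.Nat.sum_antidiagonal_eq_sum_range_succ_mk]
  have h := eulerIdentity hK n
  have h1 : ((n : ℂ)) * (effDivCount k K n : ℂ) =
      ∑ m ∈ Finset.Icc 1 n, (Nm k K m : ℂ) * (effDivCount k K (n - m) : ℂ) := by
    have := congrArg (fun a : ℕ => (a : ℂ)) h
    simp only [Nat.cast_mul, Nat.cast_sum] at this
    exact this
  rw [h1]
  symm
  have hsub : Finset.Icc 1 n ⊆ Finset.range n.succ := by
    intro m hm
    rw [Finset.mem_Icc] at hm
    rw [Finset.mem_range]
    omega
  rw [← Finset.sum_subset hsub]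
  · refine Finset.sum_congr rfl (fun m hm => ?_)
    rw [Finset.mem_Icc] at hm
    rw [coeff_Nser, if_neg (by omega), coeff_Zc]
  · intro m hm hm'
    rw [Finset.mem_range] at hm
    rw [Finset.mem_Icc] at hm'
    have : m = 0 := by omega
    subst this
    rw [coeff_Nser, if_pos rfl, zero_mul]

theorem constantCoeff_Zc [Finite k] (hK : IsFunctionField k K) : constantCoeff (Zc k K) = 1 := by
  rw [← coeff_zero_eq_constantCoeff_apply, coeff_Zc, Zs.effDivCount_zero hK]
  simp

theorem coe_prod_poly {ι : Type*} [Fintype ι] (β : ι → ℂ) :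
    ((∏ i, (1 - Polynomial.C (β i) * Polynomial.X) : Polynomial ℂ) : PowerSeries ℂ) =
      ∏ i, (1 - C (β i) * X) := by
  rw [← Polynomial.coeToPowerSeries.ringHom_apply, map_prod]
  refine Finset.prod_congr rfl (fun i _ => ?_)
  rw [Polynomial.coeToPowerSeries.ringHom_apply]
  simp

theorem map_numerZ : PowerSeries.map (Int.castRingHom ℂ) (numerZ k K) =
    (1 - X) * (1 - C (Nat.card k : ℂ) * X) * Zc k K := by
  unfold numerZ Zc
  rw [map_mul, map_mul, map_sub, map_sub, map_one, map_mul, PowerSeries.map_X, PowerSeries.map_C]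
  simp

theorem Nm_formula [Finite k] (hK : IsFunctionField k K) {ι : Type*} [Fintype ι] (α : ι → ℂ)
    (hα : PowerSeries.map (Int.castRingHom ℂ) (numerZ k K) =
      ((∏ i, (1 - Polynomial.C (α i) * Polynomial.X) : Polynomial ℂ) : PowerSeries ℂ))
    (m : ℕ) (hm : 0 < m) :
    (Nm k K m : ℂ) = 1 + (Nat.card k : ℂ) ^ m - ∑ i, α i ^ m := by
  rw [map_numerZ, coe_prod_poly] at hα
  have h := N_eq_of_factor (Zc k K) (Nser k K) (Nat.card k : ℂ) α hα (theta_Zc hK)
  have h1 := congrArg (coeff m) h
  rw [coeff_Nser, if_neg hm.ne', map_sub, map_add, map_sum, coeff_G, coeff_G,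
    if_neg hm.ne', if_neg hm.ne', one_pow] at h1
  rw [h1]
  congr 1
  refine Finset.sum_congr rfl (fun i _ => ?_)
  rw [coeff_G, if_neg hm.ne']

theorem card_deg_one [Finite k] (hK : IsFunctionField k K) :
    Nat.card {P : Place k K // P.deg = 1} = Nm k K 1 := by
  obtain ⟨S, hS⟩ := exists_finset_dvd hK 1 one_pos
  have hS' : ∀ P, P ∈ S ↔ P.deg = 1 := fun P => by rw [hS, Nat.dvd_one]
  rw [Nm_eq_sum 1 S hS, Nat.subtype_card S hS']
  rw [Finset.sum_congr rfl (fun P hP => (hS' P).1 hP)]
  simp

end single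

variable {k : Type u} {k' : Type u'} {K : Type v} {K' : Type v'}
  [Field k] [Field k'] [Field K] [Field K']
  [Algebra k k'] [Algebra k K] [Algebra K K'] [Algebra k' K'] [Algebra k K']
  [IsScalarTower k k' K'] [IsScalarTower k K K']

theorem card_deg_one_constExt [Finite k] [FiniteDimensional k k']
    (h : Function.Bijective (Algebra.TensorProduct.productMap
      (IsScalarTower.toAlgHom k k' K') (IsScalarTower.toAlgHom k K K')))
    (hK : IsFunctionField k K) (hK' : IsFunctionField k' K')
    {ι : Type*} [Fintype ι] (α : ι → ℂ)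
    (hα : PowerSeries.map (Int.castRingHom ℂ) (numerZ k K) =
      ((∏ i, (1 - Polynomial.C (α i) * Polynomial.X) : Polynomial ℂ) : PowerSeries ℂ)) :
    (Nat.card {P : Place k' K' // P.deg = 1} : ℂ) =
      1 + (Nat.card k : ℂ) ^ Module.finrank k k' - ∑ i, α i ^ Module.finrank k k' := by
  haveI : Finite k' := Module.finite_of_finite k
  rw [card_deg_one hK', Nm_constExt h hK hK' 1 one_pos, one_mul,
    Nm_formula hK α hα _ Module.finrank_pos]

theorem numerZ_constExt [Finite k] [FiniteDimensional k k']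
    (h : Function.Bijective (Algebra.TensorProduct.productMap
      (IsScalarTower.toAlgHom k k' K') (IsScalarTower.toAlgHom k K K')))
    (hK : IsFunctionField k K) (hK' : IsFunctionField k' K')
    {ι : Type*} [Fintype ι] (α : ι → ℂ)
    (hα : PowerSeries.map (Int.castRingHom ℂ) (numerZ k K) =
      ((∏ i, (1 - Polynomial.C (α i) * Polynomial.X) : Polynomial ℂ) : PowerSeries ℂ)) :
    PowerSeries.map (Int.castRingHom ℂ) (numerZ k' K') =
      ((∏ i, (1 - Polynomial.C (α i ^ Module.finrank k k') * Polynomial.X) : Polynomial ℂ) :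
        PowerSeries ℂ) := by
  haveI : Finite k' := Module.finite_of_finite k
  set r := Module.finrank k k' with hr
  have hrpos : 0 < r := Module.finrank_pos
  have hq' : (Nat.card k' : ℂ) = (Nat.card k : ℂ) ^ r := by
    have : Nat.card k' = Nat.card k ^ r := Module.natCard_eq_pow_finrank
    rw [this]; push_cast; rfl
  rw [map_numerZ, coe_prod_poly]
  apply factor_of_N_eq (Zc k' K') (Nser k' K') _ _ (constantCoeff_Zc hK') (theta_Zc hK')
  ext m
  rw [coeff_Nser, map_sub, map_add, map_sum, coeff_G, coeff_G]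
  rcases Nat.eq_zero_or_pos m with hm | hm
  · subst hm
    simp [coeff_G]
  · rw [if_neg hm.ne', if_neg hm.ne', if_neg hm.ne', Nm_constExt h hK hK' m hm,
      Nm_formula hK α hα _ (Nat.mul_pos hm hrpos), hq', one_pow, ← pow_mul, mul_comm r m]
    congr 1
    refine Finset.sum_congr rfl (fun i _ => ?_)
    rw [coeff_G, if_neg hm.ne', ← pow_mul, mul_comm r m]

end Groth.Agent.Helper27.Zt
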