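import Mathlib
import Groth.Agent.Lib.Helper27.ZtF

set_option autoImplicit false

namespace Groth.Agent.Helper27.Zt

open FunFld
open scoped WithZero TensorProduct

universe u u' v v'

variable {k : Type u} {k' : Type u'} {K : Type v} {K' : Type v'}
  [Field k] [Field k'] [Field K] [Field K']
  [Algebra k k'] [Algebra k K] [Algebra K K'] [Algebra k' K'] [Algebra k K']
  [IsScalarTower k k' K'] [IsScalarTower k K K']

theorem bijective_of_isConstExt [FiniteDimensional k k']
    (hgen : Algebra.adjoin K (Set.range (algebraMap k' K')) = ⊤)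
    (hrank : Module.finrank K K' = Module.finrank k k') :
    Function.Bijective (Algebra.TensorProduct.productMap
      (IsScalarTower.toAlgHom k k' K') (IsScalarTower.toAlgHom k K K')) := by
  have hsurj : Function.Surjective (Cg.prodK (k := k) (k' := k') (K := K) (K' := K')) := by
    intro z
    have hz : z ∈ (⊤ : Subalgebra K K') := trivial
    rw [← hgen] at hz
    induction hz using Algebra.adjoin_induction with
    | mem x hx =>
      obtain ⟨c, rfl⟩ := hx
      exact ⟨1 ⊗ₜ c, by rw [Cg.prodK_tmul, map_one, one_mul]⟩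
    | algebraMap a => exact ⟨a ⊗ₜ 1, by rw [Cg.prodK_tmul, map_one, mul_one]⟩
    | add x y _ _ hx hy =>
      obtain ⟨s, hs⟩ := hx
      obtain ⟨t, ht⟩ := hy
      exact ⟨s + t, by rw [map_add, hs, ht]⟩
    | mul x y _ _ hx hy =>
      obtain ⟨s, hs⟩ := hx
      obtain ⟨t, ht⟩ := hy
      exact ⟨s * t, by rw [map_mul, hs, ht]⟩
  have hfr : Module.finrank K (K ⊗[k] k') = Module.finrank K K' := by
    rw [Module.finrank_baseChange, hrank]
  haveI : FiniteDimensional K K' :=
    Module.Finite.of_surjective (Cg.prodK (k := k) (k' := k') (K := K) (K' := K')).toLinearMap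
      hsurj
  have hinj : Function.Injective (Cg.prodK (k := k) (k' := k') (K := K) (K' := K')) :=
    (LinearMap.injective_iff_surjective_of_finrank_eq_finrank
      (f := (Cg.prodK (k := k) (k' := k') (K := K) (K' := K')).toLinearMap) hfr).2 hsurj
  have hfun : ∀ t : k' ⊗[k] K, Algebra.TensorProduct.productMap
        (IsScalarTower.toAlgHom k k' K') (IsScalarTower.toAlgHom k K K') t =
      Cg.prodK (k := k) (k' := k') (K := K) (K' := K')
        (Algebra.TensorProduct.comm k k' K t) := by
    intro t
    induction t using TensorProduct.induction_on with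
    | zero => simp
    | tmul c a =>
      rw [Algebra.TensorProduct.comm_tmul, Cg.prodK_tmul,
        Algebra.TensorProduct.productMap_apply_tmul]
      exact mul_comm _ _
    | add t₁ t₂ h₁ h₂ => rw [map_add, h₁, h₂, map_add, map_add]
  have : ⇑(Algebra.TensorProduct.productMap
        (IsScalarTower.toAlgHom k k' K') (IsScalarTower.toAlgHom k K K')) =
      ⇑(Cg.prodK (k := k) (k' := k') (K := K) (K' := K')) ∘
      ⇑(Algebra.TensorProduct.comm k k' K) := funext hfun
  rw [this]
  exact Function.Bijective.comp ⟨hinj, hsurj⟩ (Algebra.TensorProduct.comm k k' K).bijective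

end Groth.Agent.Helper27.Zt

namespace Groth.Agent.Helper27.Zt

open FunFld

theorem main11062 (k K k' K' : Type*) [Field k] [Finite k] [Field K] [Algebra k K] [Field k']
    [Finite k'] [Field K'] [Algebra k k'] [Algebra K K'] [Algebra k' K']
    (hK : IsFunctionField k K) (hK' : IsFunctionField k' K') (hce : IsConstExt k K k' K')
    {ι : Type*} [Fintype ι] (α : ι → ℂ)
    (hα : PowerSeries.map (Int.castRingHom ℂ) (numerZ k K) =
      ((∏ i, (1 - Polynomial.C (α i) * Polynomial.X) : Polynomial ℂ) : PowerSeries ℂ)) :
    (Nat.card {P : Place k' K' // P.deg = 1} : ℂ) =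
      1 + (Nat.card k : ℂ) ^ Module.finrank k k' - ∑ i, α i ^ Module.finrank k k' := by
  letI : Algebra k K' := ((algebraMap K K').comp (algebraMap k K)).toAlgebra
  haveI : IsScalarTower k K K' := IsScalarTower.of_algebraMap_eq (fun _ => rfl)
  haveI : IsScalarTower k k' K' := IsScalarTower.of_algebraMap_eq (fun c => hce.1 c)
  haveI : FiniteDimensional k k' := Module.Finite.of_finite
  have h := bijective_of_isConstExt (k := k) (k' := k') (K := K) (K' := K') hce.2.1 hce.2.2
  exact card_deg_one_constExt h hK hK' α hα

theorem main11061 (k K k' K' : Type*) [Field k] [Finite k] [Field K] [Algebra k K] [Field k']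
    [Finite k'] [Field K'] [Algebra k k'] [Algebra K K'] [Algebra k' K']
    (hK : IsFunctionField k K) (hK' : IsFunctionField k' K') (hce : IsConstExt k K k' K')
    {ι : Type*} [Fintype ι] (α : ι → ℂ)
    (hα : PowerSeries.map (Int.castRingHom ℂ) (numerZ k K) =
      ((∏ i, (1 - Polynomial.C (α i) * Polynomial.X) : Polynomial ℂ) : PowerSeries ℂ)) :
    PowerSeries.map (Int.castRingHom ℂ) (numerZ k' K') =
      ((∏ i, (1 - Polynomial.C (α i ^ Module.finrank k k') * Polynomial.X) : Polynomial ℂ) :
        PowerSeries ℂ) := by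
  letI : Algebra k K' := ((algebraMap K K').comp (algebraMap k K)).toAlgebra
  haveI : IsScalarTower k K K' := IsScalarTower.of_algebraMap_eq (fun _ => rfl)
  haveI : IsScalarTower k k' K' := IsScalarTower.of_algebraMap_eq (fun c => hce.1 c)
  haveI : FiniteDimensional k k' := Module.Finite.of_finite
  have h := bijective_of_isConstExt (k := k) (k' := k') (K := K) (K' := K') hce.2.1 hce.2.2
  exact numerZ_constExt h hK hK' α hα

end Groth.Agent.Helper27.Zt
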