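import Mathlib
import Groth.Agent.Lib.Helper27.ZtG
import Groth.Agent.Lib.Helper16.FF.Gap2

set_option autoImplicit false

namespace Groth.Agent.Helper27.Wl

open FunFld Groth.Agent.Helper16.FF
open scoped WithZero

variable {k : Type*} {E : Type*} [Field k] [Field E] [Algebra k E]

/-- transport of a place along a ring automorphism preserving the constants -/
def comapRing (ψ : E ≃+* E)
    (hψ : ∀ c : k, ∃ c' : k, ψ (algebraMap k E c) = algebraMap k E c') (P : Place k E) :
    Place k E :=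
  ⟨P.1.comap (ψ : E →+* E), fun c => by
    obtain ⟨c', hc'⟩ := hψ c
    show P.1 (ψ (algebraMap k E c)) ≤ 1
    rw [hc']
    exact P.2.1 c', fun γ => by
    obtain ⟨x, hx⟩ := P.2.2 γ
    exact ⟨ψ.symm x, by show P.1 (ψ (ψ.symm x)) = γ; rw [ψ.apply_symm_apply]; exact hx⟩⟩

theorem comapRing_apply (ψ : E ≃+* E)
    (hψ : ∀ c : k, ∃ c' : k, ψ (algebraMap k E c) = algebraMap k E c') (P : Place k E) (x : E) :
    (comapRing ψ hψ P).1 x = P.1 (ψ x) := rfl

theorem comapRing_injective (ψ : E ≃+* E)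
    (hψ : ∀ c : k, ∃ c' : k, ψ (algebraMap k E c) = algebraMap k E c') :
    Function.Injective (comapRing ψ hψ) := by
  intro P P' h
  apply Place.ext'
  intro x
  have := congrArg (fun R : Place k E => R.1 (ψ.symm x)) h
  simpa [comapRing_apply] using this

theorem not_isGap_zero (Q : Place k E) : ¬ IsGap Q 0 := by
  rw [not_isGap_iff]
  refine ⟨1, ?_, by simp⟩
  intro P
  rw [map_one]
  simp

/-- sums with pairwise distinct nonzero valuations do not vanish -/
theorem sum_ne_zero_of_distinct {ι : Type*} (v : Valuation E ℤᵐ⁰) (s : Finset ι) (f : ι → E)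
    (hd : ∀ i ∈ s, ∀ j ∈ s, f i ≠ 0 → f j ≠ 0 → v (f i) = v (f j) → i = j)
    (hne : ∃ i ∈ s, f i ≠ 0) : ∑ i ∈ s, f i ≠ 0 := by
  classical
  obtain ⟨i₁, hi₁, hfi₁⟩ := hne
  set s' := s.filter (fun i => f i ≠ 0) with hs'
  have hs'ne : s'.Nonempty := ⟨i₁, Finset.mem_filter.2 ⟨hi₁, hfi₁⟩⟩
  obtain ⟨j, hj, hmax⟩ := Finset.exists_max_image s' (fun i => v (f i)) hs'ne
  have hjs : j ∈ s := (Finset.mem_filter.1 hj).1
  have hfj : f j ≠ 0 := (Finset.mem_filter.1 hj).2
  have h := Valuation.map_sum_eq_of_lt (v := v) (f := f) hjs (by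
    intro i hi
    rw [Finset.mem_sdiff, Finset.mem_singleton] at hi
    by_cases hfi : f i = 0
    · rw [hfi, map_zero]
      exact zero_lt_iff.2 ((Valuation.ne_zero_iff v).2 hfj)
    · have hle := hmax i (Finset.mem_filter.2 ⟨hi.1, hfi⟩)
      exact lt_of_le_of_ne hle (fun he => hi.2 (hd i hi.1 j hjs hfi hfj he)))
  intro h0
  rw [h0, map_zero] at h
  exact (Valuation.ne_zero_iff v).2 hfj h.symm

end Groth.Agent.Helper27.Wl
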