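import Mathlib
import Groth.Agent.Lib.Helper27.WlC

set_option autoImplicit false

namespace Groth.Agent.Helper27.Wl

open FunFld Groth.Agent.Helper16.FF
open scoped WithZero

variable {k : Type*} {E : Type*} [Field k] [Field E] [Algebra k E]

theorem val_le_one_of_mem_L_single {Q P : Place k E} (hne : P ≠ Q) {N : ℤ} {x : E}
    (hx : x ∈ L (Finsupp.single Q N : Divisor k E)) : P.1 x ≤ 1 := by
  have := hx P
  rwa [single_apply_ne hne, WithZero.exp_zero] at this

theorem val_le_of_mem_L_single {Q : Place k E} {N : ℤ} {x : E}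
    (hx : x ∈ L (Finsupp.single Q N : Divisor k E)) : Q.1 x ≤ WithZero.exp N := by
  have := hx Q
  rwa [Finsupp.single_eq_same] at this

theorem mem_L_single_iff {Q : Place k E} {N : ℤ} {x : E} :
    x ∈ L (Finsupp.single Q N : Divisor k E) ↔
      Q.1 x ≤ WithZero.exp N ∧ ∀ P : Place k E, P ≠ Q → P.1 x ≤ 1 := by
  constructor
  · intro hx
    exact ⟨val_le_of_mem_L_single hx, fun P hP => val_le_one_of_mem_L_single hP hx⟩
  · rintro ⟨h1, h2⟩ P
    by_cases hP : P = Q
    · subst hP; rw [Finsupp.single_eq_same]; exact h1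
    · rw [single_apply_ne hP, WithZero.exp_zero]; exact h2 P hP

/-- the twisted Bombieri bound -/
theorem bombieri [Finite k] (hE : IsFunctionField k E) (p : ℕ) [ExpChar E p] (a : ℕ)
    (ψ : E ≃+* E) (hψ : ∀ c : k, ∃ c' : k, ψ (algebraMap k E c) = algebraMap k E c')
    (Q : Place k E) (hQ1 : Q.deg = 1) (hQψ : ∀ z, Q.1 (ψ z) = Q.1 z)
    (hq : (genus k E + 1) ^ 2 < p ^ a)
    (T : Finset (Place k E))
    (hT : ∀ P ∈ T, ∀ y : E, P.1 y ≤ 1 → P.1 (ψ y - y ^ ((p ^ a) ^ 2)) < 1) :
    T.card ≤ (p ^ a) ^ 2 + (2 * genus k E + 1) * p ^ a := by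
  classical
  set q₀ := p ^ a with hq₀
  set g := genus k E with hg
  have hq₀g : g + 1 < q₀ := by nlinarith
  set m := q₀ - 1 with hm
  set n := 2 * g + q₀ with hn
  have hmq : m + 1 = q₀ := by omega
  -- the non-gaps
  set J : Finset ℕ := (Finset.range (m + 1)).filter (fun j => ¬ IsGap Q j) with hJ
  have hJcard : J.card + gapCount Q m = m + 1 := by
    have h1 : ((Finset.range (m + 1)).filter (IsGap Q)).card + J.card = m + 1 := by
      have := Finset.card_filter_add_card_filter_not (s := Finset.range (m + 1)) (IsGap Q)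
      rw [Finset.card_range] at this
      rw [hJ]; exact this
    have h2 : (Finset.range (m + 1)).filter (IsGap Q) = (Finset.Icc 1 m).filter (IsGap Q) := by
      ext j
      simp only [Finset.mem_filter, Finset.mem_range, Finset.mem_Icc]
      constructor
      · rintro ⟨h3, h4⟩
        refine ⟨⟨?_, by omega⟩, h4⟩
        by_contra h5
        have : j = 0 := by omega
        subst this
        exact not_isGap_zero Q h4
      · rintro ⟨⟨_, h3⟩, h4⟩
        exact ⟨by omega, h4⟩
    rw [h2] at h1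
    unfold gapCount
    omega
  have hJell : J.card = ell (Finsupp.single Q (m : ℤ) : Divisor k E) := by
    have := gapCount_add_ell hE hQ1 m
    omega
  have hJlt : ∀ j ∈ J, j < q₀ := by
    intro j hj
    have := Finset.mem_range.1 (Finset.mem_filter.1 hj).1
    omega
  -- the functions `u j`
  have hu : ∀ j : ℕ, ∃ x : E, j ∈ J →
      (x ∈ L (Finsupp.single Q (j : ℤ) : Divisor k E) ∧ Q.1 x = WithZero.exp (j : ℤ)) := by
    intro j
    by_cases hj : j ∈ J
    · obtain ⟨x, hx⟩ := (not_isGap_iff Q j).1 (Finset.mem_filter.1 hj).2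
      exact ⟨x, fun _ => hx⟩
    · exact ⟨0, fun h => absurd h hj⟩
  choose u hu using hu
  have huQ : ∀ j ∈ J, Q.1 (u j) = WithZero.exp (j : ℤ) := fun j hj => (hu j hj).2
  have huP : ∀ j ∈ J, ∀ P : Place k E, P ≠ Q → P.1 (u j) ≤ 1 := fun j hj P hP =>
    val_le_one_of_mem_L_single hP (hu j hj).1
  have hu0 : ∀ j ∈ J, u j ≠ 0 := by
    intro j hj h0
    have := huQ j hj
    rw [h0, map_zero] at this
    exact WithZero.exp_ne_zero this.symm
  -- the divisors
  set D₁ : Divisor k E := Finsupp.single Q (n : ℤ) with hD₁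
  set D₂ : Divisor k E := Finsupp.single Q ((m + q₀ * n : ℕ) : ℤ) with hD₂
  set D₃ : Divisor k E := Finsupp.single Q ((q₀ * m + n : ℕ) : ℤ) with hD₃
  have hfin1 : Module.Finite k (L D₁) := finiteDimensional_L hE D₁
  have hfin3 : Module.Finite k (L D₃) := finiteDimensional_L hE D₃
  have : Finite (L D₁) := Module.finite_of_finite k
  have : Finite (L D₃) := Module.finite_of_finite k
  -- dimensions
  have hdeg : ∀ N : ℕ, Divisor.deg (Finsupp.single Q (N : ℤ) : Divisor k E) = N := by
    intro N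
    rw [Divisor.deg_single, hQ1]; simp
  have hell1 : (ell D₁ : ℤ) = n + 1 - g := by
    have := ell_eq_of_large hE (D := D₁) (by rw [hD₁, hdeg, hn]; push_cast; omega)
    rw [this, hD₁, hdeg]
  have hell3 : (ell D₃ : ℤ) = (q₀ * m + n : ℕ) + 1 - g := by
    have := ell_eq_of_large hE (D := D₃) (by rw [hD₃, hdeg, hn]; push_cast; nlinarith)
    rw [this, hD₃, hdeg]
  have hellm : (m : ℤ) + 1 - g ≤ J.card := by
    have := riemann_le hE (Finsupp.single Q (m : ℤ) : Divisor k E)
    rw [hdeg] at this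
    rw [hJell]
    omega
  have hcard : ell D₃ < ell D₁ * J.card := by
    have h1 : (ell D₃ : ℤ) < (ell D₁ : ℤ) * (J.card : ℤ) := by
      rw [hell1, hell3]
      have hJ0 : (0 : ℤ) ≤ J.card := Int.natCast_nonneg _
      have hm' : (m : ℤ) = q₀ - 1 := by omega
      have h2 : ((n : ℤ) + 1 - g) * ((m : ℤ) + 1 - g) ≤ ((n : ℤ) + 1 - g) * J.card := by
        apply mul_le_mul_of_nonneg_left hellm
        rw [hn]; push_cast; omega
      refine lt_of_lt_of_le ?_ h2
      rw [hn, hm']
      push_cast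
      have hq' : ((g : ℤ) + 1) ^ 2 < q₀ := by exact_mod_cast hq
      nlinarith
    exact_mod_cast h1
  -- the two maps
  set lam : (↥J → ↥(L D₁)) → E := fun y => ∑ j : ↥J, (u j) ^ q₀ * ψ (y j : E) with hlam
  set mu : (↥J → ↥(L D₁)) → E := fun y => ∑ j : ↥J, u j * (y j : E) ^ q₀ with hmu
  have hψP : ∀ P : Place k E, P ≠ Q → ∀ y ∈ L D₁, P.1 (ψ y) ≤ 1 := by
    intro P hP y hy
    have hne : comapRing ψ hψ P ≠ Q := by
      intro h
      apply hP
      apply comapRing_injective ψ hψ
      rw [h]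
      apply Place.ext'
      intro x
      rw [comapRing_apply, hQψ]
    exact val_le_one_of_mem_L_single hne hy
  have hlam_mem : ∀ y, lam y ∈ L D₃ := by
    intro y
    apply Submodule.sum_mem
    intro j _
    rw [hD₃, mem_L_single_iff]
    constructor
    · rw [map_mul, map_pow, huQ j j.2, hQψ]
      have h1 := val_le_of_mem_L_single (y j).2
      rw [← WithZero.exp_nsmul]
      have h2 : (WithZero.exp (q₀ • (j : ℤ)) : ℤᵐ⁰) * Q.1 (y j : E) ≤
          WithZero.exp (q₀ • (j : ℤ)) * WithZero.exp (n : ℤ) := mul_le_mul' le_rfl h1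
      refine h2.trans ?_
      rw [← WithZero.exp_add, WithZero.exp_le_exp]
      have hj := hJlt j j.2
      have : (j : ℤ) ≤ m := by omega
      push_cast
      rw [nsmul_eq_mul]
      nlinarith
    · intro P hP
      rw [map_mul, map_pow]
      exact mul_le_one' (pow_le_one' (huP j j.2 P hP) _) (hψP P hP _ (y j).2)
  have hlam_sub : ∀ y y', lam (y - y') = lam y - lam y' := by
    intro y y'
    rw [hlam]
    simp only [Pi.sub_apply, Submodule.coe_sub, map_sub, mul_sub, Finset.sum_sub_distrib]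
  -- pigeonhole
  obtain ⟨y, hy0, hylam⟩ : ∃ y : ↥J → ↥(L D₁), y ≠ 0 ∧ lam y = 0 := by
    by_contra hno
    push Not at hno
    have hinj : Function.Injective (fun y : ↥J → ↥(L D₁) => (⟨lam y, hlam_mem y⟩ : ↥(L D₃))) := by
      intro y y' h
      have h1 : lam y = lam y' := congrArg Subtype.val h
      by_contra hne
      exact hno (y - y') (sub_ne_zero.2 hne) (by rw [hlam_sub, h1, sub_self])
    have h1 := Nat.card_le_card_of_injective _ hinj
    rw [Nat.card_fun, Module.natCard_eq_pow_finrank (K := k) (V := L D₁),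
      Module.natCard_eq_pow_finrank (K := k) (V := L D₃), ← pow_mul,
      Nat.card_eq_fintype_card (α := ↥J), Fintype.card_coe] at h1
    have h2 : 1 < Nat.card k := Finite.one_lt_card
    have h3 := (Nat.pow_le_pow_iff_right h2).1 h1
    have h4 : Module.finrank k (L D₁) * J.card < Module.finrank k (L D₁) * J.card := 
      lt_of_le_of_lt h3 hcard
    exact lt_irrefl _ h4
  set x := mu y with hx
  -- `x ≠ 0`
  have hxne : x ≠ 0 := by
    rw [hx, hmu]
    apply sum_ne_zero_of_distinct Q.1 Finset.univ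
    · intro i _ j _ hfi hfj hval
      have hyi : (y i : E) ≠ 0 := fun h => hfi (by rw [h, zero_pow (by omega), mul_zero])
      have hyj : (y j : E) ≠ 0 := fun h => hfj (by rw [h, zero_pow (by omega), mul_zero])
      have hvi : Q.1 (y i : E) ≠ 0 := (Valuation.ne_zero_iff _).2 hyi
      have hvj : Q.1 (y j : E) ≠ 0 := (Valuation.ne_zero_iff _).2 hyj
      rw [map_mul, map_mul, map_pow, map_pow, huQ i i.2, huQ j j.2] at hval
      have h1 := congrArg WithZero.log hval
      rw [WithZero.log_mul WithZero.exp_ne_zero (pow_ne_zero _ hvi),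
        WithZero.log_mul WithZero.exp_ne_zero (pow_ne_zero _ hvj), WithZero.log_exp,
        WithZero.log_exp, WithZero.log_pow, WithZero.log_pow, nsmul_eq_mul, nsmul_eq_mul] at h1
      have hi := hJlt i i.2
      have hj := hJlt j j.2
      have hdvd : (q₀ : ℤ) ∣ ((i : ℕ) : ℤ) - ((j : ℕ) : ℤ) :=
        ⟨WithZero.log (Q.1 (y j : E)) - WithZero.log (Q.1 (y i : E)), by linarith⟩
      have habs : |((i : ℕ) : ℤ) - ((j : ℕ) : ℤ)| < q₀ := by
        rw [abs_lt]; constructor <;> omega
      have := Int.eq_zero_of_abs_lt_dvd hdvd habs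
      apply Subtype.ext
      omega
    · have : ∃ j, y j ≠ 0 := by
        by_contra h
        push Not at h
        exact hy0 (funext h)
      obtain ⟨j, hj⟩ := this
      refine ⟨j, Finset.mem_univ _, ?_⟩
      have hyj : (y j : E) ≠ 0 := fun h => hj (Subtype.ext h)
      exact mul_ne_zero (hu0 j j.2) (pow_ne_zero _ hyj)
  -- `x ∈ L D₂`
  have hxQ : Q.1 x ≤ WithZero.exp ((m + q₀ * n : ℕ) : ℤ) := by
    rw [hx, hmu]
    apply Valuation.map_sum_le
    intro j _
    rw [map_mul, map_pow, huQ j j.2]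
    have h1 := val_le_of_mem_L_single (y j).2
    have h2 : (Q.1 (y j : E)) ^ q₀ ≤ (WithZero.exp (n : ℤ) : ℤᵐ⁰) ^ q₀ := pow_le_pow_left' h1 _
    refine (mul_le_mul' le_rfl h2).trans ?_
    rw [← WithZero.exp_nsmul, ← WithZero.exp_add, WithZero.exp_le_exp]
    have hj := hJlt j j.2
    push_cast
    rw [nsmul_eq_mul]
    have : (j : ℤ) ≤ m := by omega
    linarith
  have hxP : ∀ P : Place k E, P ≠ Q → P.1 x ≤ 1 := by
    intro P hP
    rw [hx, hmu]
    apply Valuation.map_sum_le
    intro j _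
    rw [map_mul, map_pow]
    exact mul_le_one' (huP j j.2 P hP) (pow_le_one' (val_le_one_of_mem_L_single hP (y j).2) _)
  -- vanishing on `T`
  have hxT : ∀ P ∈ T, P ≠ Q → P.1 x < 1 := by
    intro P hPT hP
    have h1 : x ^ q₀ = ∑ j : ↥J, (u j) ^ q₀ * ((y j : E) ^ (q₀ ^ 2) - ψ (y j : E)) := by
      have h2 : x ^ q₀ = ∑ j : ↥J, (u j * (y j : E) ^ q₀) ^ q₀ := by
        rw [hx, hmu, hq₀]
        exact sum_pow_char_pow p a _ _
      have h3 : (∑ j : ↥J, (u j) ^ q₀ * ((y j : E) ^ (q₀ ^ 2) - ψ (y j : E))) =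
          (∑ j : ↥J, (u j * (y j : E) ^ q₀) ^ q₀) - lam y := by
        rw [hlam, ← Finset.sum_sub_distrib]
        refine Finset.sum_congr rfl (fun j _ => ?_)
        have e1 : ((y j : E) ^ q₀) ^ q₀ = (y j : E) ^ (q₀ ^ 2) := by
          rw [← pow_mul, sq]
        rw [mul_pow, e1]; ring
      rw [h3, hylam, sub_zero, h2]
    have h4 : P.1 (x ^ q₀) < 1 := by
      rw [h1]
      apply Valuation.map_sum_lt _ one_ne_zero
      intro j _
      rw [map_mul, map_pow]
      have h5 := hT P hPT (y j : E) (val_le_one_of_mem_L_single hP (y j).2)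
      rw [← Valuation.map_neg, neg_sub] at h5
      calc P.1 (u j) ^ q₀ * P.1 ((y j : E) ^ q₀ ^ 2 - ψ (y j : E))
          ≤ 1 * P.1 ((y j : E) ^ q₀ ^ 2 - ψ (y j : E)) :=
            mul_le_mul' (pow_le_one' (huP j j.2 P hP) _) le_rfl
        _ < 1 := by rw [one_mul]; exact h5
    rw [map_pow] at h4
    by_contra hge
    push Not at hge
    exact absurd h4 (not_lt.2 (one_le_pow_of_one_le' hge _))
  -- the divisor count
  set S := T.erase Q with hS
  set D : Divisor k E := D₂ - ∑ P ∈ S, Finsupp.single P 1 with hD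
  have hsumapply : ∀ P' : Place k E, (∑ P ∈ S, (Finsupp.single P 1 : Divisor k E)) P' =
      if P' ∈ S then 1 else 0 := by
    intro P'
    rw [Finsupp.finsetSum_apply]
    simp only [Finsupp.single_apply]
    rw [Finset.sum_ite_eq' S P']
  have hxD : x ∈ L D := by
    intro P
    rw [hD, Finsupp.sub_apply, hsumapply]
    by_cases hPS : P ∈ S
    · have hPQ : P ≠ Q := Finset.ne_of_mem_erase hPS
      rw [if_pos hPS, hD₂, single_apply_ne hPQ, zero_sub]
      exact lt_one_iff_le_exp_neg_one.1 (hxT P (Finset.mem_of_mem_erase hPS) hPQ)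
    · rw [if_neg hPS, sub_zero]
      by_cases hPQ : P = Q
      · subst hPQ; rw [hD₂, Finsupp.single_eq_same]; exact hxQ
      · rw [hD₂, single_apply_ne hPQ, WithZero.exp_zero]; exact hxP P hPQ
  have hdegD : 0 ≤ D.deg := by
    by_contra hneg
    push Not at hneg
    have := L_eq_bot_of_deg_neg hE hneg
    rw [this, Submodule.mem_bot] at hxD
    exact hxne hxD
  rw [hD, Divisor.deg_sub, hD₂, hdeg, Groth.Agent.Helper16.FFW.Divisor.deg_finset_sum] at hdegD
  have hS1 : (S.card : ℤ) ≤ ∑ P ∈ S, Divisor.deg (Finsupp.single P 1 : Divisor k E) := by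
    rw [Finset.card_eq_sum_ones]
    push_cast
    refine Finset.sum_le_sum (fun P _ => ?_)
    rw [Divisor.deg_single, one_mul]
    have := Place.deg_pos hE P
    omega
  have hTS : T.card ≤ S.card + 1 := by
    rw [hS]
    have := Finset.card_erase_le (a := Q) (s := T)
    by_cases hQT : Q ∈ T
    · rw [Finset.card_erase_of_mem hQT]; omega
    · rw [Finset.erase_eq_of_notMem hQT]; omega
  have hfinal : (T.card : ℤ) ≤ (m + q₀ * n : ℕ) + 1 := by
    have : (T.card : ℤ) ≤ S.card + 1 := by exact_mod_cast hTS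
    omega
  have : T.card ≤ m + q₀ * n + 1 := by exact_mod_cast hfinal
  rw [hn] at this
  calc T.card ≤ m + q₀ * (2 * g + q₀) + 1 := this
    _ = q₀ ^ 2 + (2 * g + 1) * q₀ := by
      rw [← hmq]; ring

end Groth.Agent.Helper27.Wl
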