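import Mathlib
import Groth.Agent.Lib.Helper27.WlD

set_option autoImplicit false

namespace Groth.Agent.Helper27.Wl

open FunFld TensorProduct
open scoped WithZero

universe u u' v v'

variable {k : Type u} {k' : Type u'} {E : Type v} {E' : Type v'}
  [Field k] [Field k'] [Field E] [Field E']
  [Algebra k k'] [Algebra k E] [Algebra E E'] [Algebra k' E'] [Algebra k E']
  [IsScalarTower k k' E'] [IsScalarTower k E E']

/-- the isomorphism `k' ⊗ E ≃ E'` -/
noncomputable def tensorEquiv
    (h : Function.Bijective (Algebra.TensorProduct.productMap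
      (IsScalarTower.toAlgHom k k' E') (IsScalarTower.toAlgHom k E E'))) :
    k' ⊗[k] E ≃ₐ[k] E' :=
  AlgEquiv.ofBijective _ h

variable (h : Function.Bijective (Algebra.TensorProduct.productMap
      (IsScalarTower.toAlgHom k k' E') (IsScalarTower.toAlgHom k E E')))

theorem tensorEquiv_tmul (c : k') (z : E) :
    tensorEquiv h (c ⊗ₜ z) = algebraMap k' E' c * algebraMap E E' z := by
  unfold tensorEquiv
  rw [AlgEquiv.ofBijective_apply, Algebra.TensorProduct.productMap_apply_tmul]
  rfl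

theorem tensorEquiv_symm_left (c : k') :
    (tensorEquiv h).symm (algebraMap k' E' c) = c ⊗ₜ 1 := by
  rw [AlgEquiv.symm_apply_eq, tensorEquiv_tmul, map_one, mul_one]

theorem tensorEquiv_symm_right (z : E) :
    (tensorEquiv h).symm (algebraMap E E' z) = 1 ⊗ₜ z := by
  rw [AlgEquiv.symm_apply_eq, tensorEquiv_tmul, map_one, one_mul]

include h in
theorem ringHom_ext_of {R : Type*} [Semiring R] (f g : E' →+* R)
    (h1 : ∀ c, f (algebraMap k' E' c) = g (algebraMap k' E' c))
    (h2 : ∀ z, f (algebraMap E E' z) = g (algebraMap E E' z)) : f = g := by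
  ext w
  obtain ⟨t, rfl⟩ := (tensorEquiv h).surjective w
  induction t using TensorProduct.induction_on with
  | zero => simp
  | tmul c z => rw [tensorEquiv_tmul, map_mul, map_mul, h1, h2]
  | add t₁ t₂ ih₁ ih₂ => rw [map_add, map_add, map_add, ih₁, ih₂]

/-- the simultaneous lift of automorphisms of `k'` and of `E` -/
noncomputable def liftBoth (φ : k' ≃ₐ[k] k') (σ : E ≃ₐ[k] E) : E' ≃ₐ[k] E' :=
  (tensorEquiv h).symm.trans ((Algebra.TensorProduct.congr φ σ).trans (tensorEquiv h))

theorem liftBoth_left (φ : k' ≃ₐ[k] k') (σ : E ≃ₐ[k] E) (c : k') :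
    liftBoth h φ σ (algebraMap k' E' c) = algebraMap k' E' (φ c) := by
  unfold liftBoth
  rw [AlgEquiv.trans_apply, AlgEquiv.trans_apply, tensorEquiv_symm_left,
    Algebra.TensorProduct.congr_apply, Algebra.TensorProduct.map_tmul, tensorEquiv_tmul]
  simp

theorem liftBoth_right (φ : k' ≃ₐ[k] k') (σ : E ≃ₐ[k] E) (z : E) :
    liftBoth h φ σ (algebraMap E E' z) = algebraMap E E' (σ z) := by
  unfold liftBoth
  rw [AlgEquiv.trans_apply, AlgEquiv.trans_apply, tensorEquiv_symm_right,
    Algebra.TensorProduct.congr_apply, Algebra.TensorProduct.map_tmul, tensorEquiv_tmul]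
  simp

theorem liftBoth_comp (φ φ' : k' ≃ₐ[k] k') (σ σ' : E ≃ₐ[k] E) (x : E') :
    liftBoth h φ σ (liftBoth h φ' σ' x) = liftBoth h (φ * φ') (σ * σ') x := by
  have := ringHom_ext_of h
    (((liftBoth h φ σ : E' ≃ₐ[k] E') : E' →+* E').comp ((liftBoth h φ' σ' : E' ≃ₐ[k] E') : E' →+* E'))
    ((liftBoth h (φ * φ') (σ * σ') : E' ≃ₐ[k] E') : E' →+* E')
    (fun c => by
      simp only [RingHom.comp_apply, RingHom.coe_coe, liftBoth_left, AlgEquiv.mul_apply])
    (fun z => by
      simp only [RingHom.comp_apply, RingHom.coe_coe, liftBoth_right, AlgEquiv.mul_apply])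
  exact congrArg (fun f : E' →+* E' => f x) this

theorem liftBoth_one (x : E') : liftBoth h (1 : k' ≃ₐ[k] k') (1 : E ≃ₐ[k] E) x = x := by
  have := ringHom_ext_of h
    ((liftBoth h (1 : k' ≃ₐ[k] k') (1 : E ≃ₐ[k] E) : E' ≃ₐ[k] E') : E' →+* E')
    (RingHom.id E')
    (fun c => by simp only [RingHom.coe_coe, liftBoth_left, AlgEquiv.one_apply, RingHom.id_apply])
    (fun z => by simp only [RingHom.coe_coe, liftBoth_right, AlgEquiv.one_apply, RingHom.id_apply])
  exact congrArg (fun f : E' →+* E' => f x) this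

theorem liftBoth_const (φ : k' ≃ₐ[k] k') (σ : E ≃ₐ[k] E) :
    ∀ c : k', ∃ c' : k', (liftBoth h φ σ).toRingEquiv (algebraMap k' E' c) = algebraMap k' E' c' :=
  fun c => ⟨φ c, liftBoth_left h φ σ c⟩

/-- the (right) action on places -/
noncomputable def act (φ : k' ≃ₐ[k] k') (σ : E ≃ₐ[k] E) (R : Place k' E') : Place k' E' :=
  comapRing (liftBoth h φ σ).toRingEquiv (liftBoth_const h φ σ) R

theorem act_apply (φ : k' ≃ₐ[k] k') (σ : E ≃ₐ[k] E) (R : Place k' E') (x : E') :
    (act h φ σ R).1 x = R.1 (liftBoth h φ σ x) := rfl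

theorem act_act (φ φ' : k' ≃ₐ[k] k') (σ σ' : E ≃ₐ[k] E) (R : Place k' E') :
    act h φ' σ' (act h φ σ R) = act h (φ * φ') (σ * σ') R := by
  apply Groth.Agent.Helper16.FF.Place.ext'
  intro x
  rw [act_apply, act_apply, act_apply, liftBoth_comp]

theorem act_one (R : Place k' E') : act h (1 : k' ≃ₐ[k] k') (1 : E ≃ₐ[k] E) R = R := by
  apply Groth.Agent.Helper16.FF.Place.ext'
  intro x
  rw [act_apply, liftBoth_one]

end Groth.Agent.Helper27.Wl
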