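import Mathlib
import Groth.Agent.Lib.Helper27.WlF
import Groth.Agent.Lib.Helper27.FFExtA
import Groth.Agent.Lib.Helper16.FF.AutA

set_option autoImplicit false

namespace Groth.Agent.Helper27.Wl

open FunFld TensorProduct Groth.Agent.Helper16.FFW
open scoped WithZero

universe u u' v v' w

section frob

variable (k : Type u) (k' : Type u') [Field k] [Field k'] [Algebra k k'] [Finite k]
  [FiniteDimensional k k']

/-- the Frobenius `c ↦ c ^ |k|` of `k'/k` -/
noncomputable def frobK : k' ≃ₐ[k] k' :=
  letI := Fintype.ofFinite k
  haveI : Algebra.IsAlgebraic k k' := Algebra.IsAlgebraic.of_finite k k'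
  FiniteField.frobeniusAlgEquivOfAlgebraic k k'

theorem frobK_apply (c : k') : frobK k k' c = c ^ Nat.card k := by
  unfold frobK
  letI := Fintype.ofFinite k
  haveI : Algebra.IsAlgebraic k k' := Algebra.IsAlgebraic.of_finite k k'
  rw [Nat.card_eq_fintype_card]
  rfl

variable {k k'}

/-- the elements fixed by Frobenius are the elements of `k` -/
theorem mem_range_of_pow_card_eq {c : k'} (hc : c ^ Nat.card k = c) :
    c ∈ Set.range (algebraMap k k') := by
  classical
  letI := Fintype.ofFinite k
  haveI : Finite k' := Module.finite_of_finite k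
  set q := Nat.card k with hq
  have hq1 : 1 < q := Finite.one_lt_card
  set p : Polynomial k' := Polynomial.X ^ q - Polynomial.X with hp
  have hp0 : p ≠ 0 := FiniteField.X_pow_card_sub_X_ne_zero k' hq1
  have hdeg : p.natDegree = q := FiniteField.X_pow_card_sub_X_natDegree_eq k' hq1
  have hroot : ∀ a : k', a ^ q = a → a ∈ p.roots.toFinset := by
    intro a ha
    rw [Multiset.mem_toFinset, Polynomial.mem_roots hp0, Polynomial.IsRoot, hp]
    simp [ha]
  by_contra hnot
  set S : Finset k' := (Finset.univ.image (algebraMap k k')) with hS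
  have hScard : S.card = q := by
    rw [hS, Finset.card_image_of_injective _ (algebraMap k k').injective, Finset.card_univ,
      hq, Nat.card_eq_fintype_card]
  have hcS : c ∉ S := by
    intro h
    rw [hS, Finset.mem_image] at h
    obtain ⟨a, -, ha⟩ := h
    exact hnot ⟨a, ha⟩
  have hsub : insert c S ⊆ p.roots.toFinset := by
    intro a ha
    rw [Finset.mem_insert] at ha
    rcases ha with rfl | ha
    · exact hroot _ hc
    · rw [hS, Finset.mem_image] at ha
      obtain ⟨b, -, rfl⟩ := ha
      apply hroot
      rw [← map_pow, hq, Nat.card_eq_fintype_card, FiniteField.pow_card]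
  have h1 := Finset.card_le_card hsub
  rw [Finset.card_insert_of_notMem hcS, hScard] at h1
  have h2 : p.roots.toFinset.card ≤ q := by
    rw [← hdeg]
    exact (Multiset.toFinset_card_le _).trans (Polynomial.card_roots' p)
  omega

end frob

end Groth.Agent.Helper27.Wl
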