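import Mathlib
import Groth.Agent.Lib.Helper27.WlG
import Groth.Agent.Lib.Helper27.FrobB

set_option autoImplicit false

namespace Groth.Agent.Helper27.Wl

open FunFld TensorProduct Groth.Agent.Helper16.FFW
open scoped WithZero

universe u u' v v' w

variable {k : Type u} {k' : Type u'} {K : Type w} {E : Type v} {E' : Type v'}
  [Field k] [Field k'] [Field K] [Field E] [Field E']
  [Algebra k k'] [Algebra k K] [Algebra k E] [Algebra K E] [IsScalarTower k K E]
  [Algebra E E'] [Algebra k' E'] [Algebra k E'] [IsScalarTower k k' E'] [IsScalarTower k E E']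
  [Algebra K E'] [IsScalarTower K E E'] [IsScalarTower k K E']
  (h : Function.Bijective (Algebra.TensorProduct.productMap
      (IsScalarTower.toAlgHom k k' E') (IsScalarTower.toAlgHom k E E')))

/-- the action of an automorphism of `E/K` (and an automorphism of `k'`) preserves the place
of `K` below -/
theorem isOverWith_act (φ : k' ≃ₐ[k] k') (σ : E ≃ₐ[K] E) (R : Place k' E') (p : Place k K) (e : ℕ)
    (hR : IsOverWith (Zt.toK R : Place k E') p e) :
    IsOverWith (Zt.toK (act h φ (σ.restrictScalars k) R) : Place k E') p e := by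
  intro x
  show (act h φ (σ.restrictScalars k) R).1 (algebraMap K E' x) = _
  rw [act_apply, IsScalarTower.algebraMap_apply K E E', liftBoth_right]
  have : (σ.restrictScalars k) (algebraMap K E x) = algebraMap K E x := σ.commutes x
  rw [this, ← IsScalarTower.algebraMap_apply K E E']
  exact hR x

theorem isOverWith_act_one (φ : k' ≃ₐ[k] k') (R : Place k' E') (p : Place k K) (e : ℕ)
    (hR : IsOverWith (Zt.toK R : Place k E') p e) :
    IsOverWith (Zt.toK (act h φ (1 : E ≃ₐ[k] E) R) : Place k E') p e := by
  have := isOverWith_act (K := K) h φ (1 : E ≃ₐ[K] E) R p e hR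
  exact this

include h in
/-- the places above a rational place are rational once the degree of the constant
extension is divisible enough -/
theorem deg_eq_one_of_isOver [Finite k] [FiniteDimensional k k'] [FiniteDimensional K E]
    (hK : IsFunctionField k K) (hE : IsFunctionField k E)
    (hs : ∀ m : ℕ, 1 ≤ m → m ≤ Module.finrank K E → m ∣ Module.finrank k k')
    (R : Place k' E') (p : Place k K) (hp : p.deg = 1)
    (hR : IsOver (Zt.toK R : Place k E') p) : R.deg = 1 := by
  classical
  haveI : FiniteDimensional E E' := Cg.finite_scalarExt' h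
  obtain ⟨P, e₁, hP⟩ := exists_isOverWith hE.1 (Zt.toK R : Place k E')
  obtain ⟨p', e₂, hp'⟩ := exists_isOverWith hK.1 P
  obtain ⟨e, he⟩ := hR
  have hpp : p' = p := (isOverWith_unique (FFExt.isOverWith_trans hP hp') he).1
  subst hpp
  -- `deg P ≤ [E : K]`
  obtain ⟨hfin, hsum⟩ := sum_ramIdx_mul_deg (K' := E) hK p'
  have hsum' := hsum hfin.toFinset (fun Q => by rw [Set.Finite.mem_toFinset]; rfl)
  have hPmem : P ∈ hfin.toFinset := by
    rw [Set.Finite.mem_toFinset]; exact ⟨e₂, hp'⟩
  have hle : ramIdx P p' * P.deg ≤ Module.finrank K E * p'.deg := by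
    rw [← hsum']
    exact Finset.single_le_sum (f := fun Q => ramIdx Q p' * Q.deg) (fun _ _ => Nat.zero_le _) hPmem
  rw [hp, mul_one, ramIdx_eq hp'] at hle
  have he₂ : 0 < e₂ := isOverWith_pos hp'
  have hPpos : 0 < P.deg := Groth.Agent.Helper16.FF.Place.deg_pos hE P
  have hPle : P.deg ≤ Module.finrank K E := le_trans (Nat.le_mul_of_pos_left _ he₂) hle
  have hdvd := hs P.deg hPpos hPle
  have h1 := Zt.deg_of_isOver h hE P (Zt.toK R) ⟨e₁, hP⟩
  rw [Zt.deg_toK, Nat.lcm_eq_right hdvd] at h1
  have hspos : 0 < Module.finrank k k' := Module.finrank_pos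
  exact Nat.eq_of_mul_eq_mul_left hspos (by rw [h1, mul_one])

end Groth.Agent.Helper27.Wl
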