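import Mathlib
import Groth.Agent.Lib.Helper27.WlH
import Groth.Agent.Lib.Helper16.FF.Approx

set_option autoImplicit false

namespace Groth.Agent.Helper27.Wl

open FunFld TensorProduct Groth.Agent.Helper16.FFW
open scoped WithZero

universe u u' v v' w

variable {k : Type u} {k' : Type u'} {K : Type w} {E : Type v} {E' : Type v'}
  [Field k] [Field k'] [Field K] [Field E] [Field E']
  [Algebra k k'] [Algebra k K] [Algebra k E] [Algebra K E] [IsScalarTower k K E]
  [Algebra E E'] [Algebra k' E'] [Algebra k E'] [IsScalarTower k k' E'] [IsScalarTower k E E']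
  [Algebra K E'] [IsScalarTower K E E'] [IsScalarTower k K E']
  (h : Function.Bijective (Algebra.TensorProduct.productMap
      (IsScalarTower.toAlgHom k k' E') (IsScalarTower.toAlgHom k E E')))

/-- the action of `Gal(E/K)` on the places of `E'` -/
noncomputable def actG (σ : E ≃ₐ[K] E) (R : Place k' E') : Place k' E' :=
  act h (1 : k' ≃ₐ[k] k') (σ.restrictScalars k) R

theorem actG_apply (σ : E ≃ₐ[K] E) (R : Place k' E') (x : E') :
    (actG h σ R).1 x = R.1 (liftBoth h (1 : k' ≃ₐ[k] k') (σ.restrictScalars k) x) := rfl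

theorem actG_mul (σ τ : E ≃ₐ[K] E) (R : Place k' E') :
    actG h τ (actG h σ R) = actG h (σ * τ) R := by
  unfold actG
  rw [act_act, one_mul]
  rfl

theorem actG_one (R : Place k' E') : actG h (1 : E ≃ₐ[K] E) R = R := by
  unfold actG
  exact act_one h R

theorem isOver_actG (σ : E ≃ₐ[K] E) (R : Place k' E') (p : Place k K)
    (hR : IsOver (Zt.toK R : Place k E') p) : IsOver (Zt.toK (actG h σ R) : Place k E') p := by
  obtain ⟨e, he⟩ := hR
  exact ⟨e, isOverWith_act h 1 σ R p e he⟩

/-- coordinates of a lift -/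
theorem repr_liftBoth {ι : Type*} [Fintype ι] [DecidableEq ι] (b : Module.Basis ι k k')
    (σ : E ≃ₐ[k] E) (z : E') (i : ι) :
    (Cg.basisK h b).repr (liftBoth h (1 : k' ≃ₐ[k] k') σ z) i = σ ((Cg.basisK h b).repr z i) := by
  have hz : z = ∑ j, (Cg.basisK h b).repr z j • Cg.basisK h b j := ((Cg.basisK h b).sum_repr z).symm
  have h1 : liftBoth h (1 : k' ≃ₐ[k] k') σ z =
      ∑ j, σ ((Cg.basisK h b).repr z j) • Cg.basisK h b j := by
    conv_lhs => rw [hz]
    rw [map_sum]
    refine Finset.sum_congr rfl (fun j _ => ?_)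
    rw [Algebra.smul_def, Algebra.smul_def, map_mul, liftBoth_right, Cg.basisK_apply, liftBoth_left,
      AlgEquiv.one_apply]
  rw [h1, Module.Basis.repr_sum_self]

/-- elements fixed by the Galois group have coordinates in `K` -/
theorem exists_coords_of_fixed [FiniteDimensional K E] [IsGalois K E]
    {ι : Type*} [Fintype ι] [DecidableEq ι] (b : Module.Basis ι k k') (z : E')
    (hz : ∀ σ : E ≃ₐ[K] E, liftBoth h (1 : k' ≃ₐ[k] k') (σ.restrictScalars k) z = z) :
    ∃ n : ι → K, z = ∑ i, algebraMap K E' (n i) * algebraMap k' E' (b i) := by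
  have h1 : ∀ i, ∃ a : K, algebraMap K E a = (Cg.basisK h b).repr z i := by
    intro i
    have : (Cg.basisK h b).repr z i ∈ Set.range (algebraMap K E) := by
      rw [IsGalois.mem_range_algebraMap_iff_fixed]
      intro σ
      have := repr_liftBoth h b (σ.restrictScalars k) z i
      rw [hz σ] at this
      exact this.symm
    exact this
  choose n hn using h1
  refine ⟨n, ?_⟩
  conv_lhs => rw [← (Cg.basisK h b).sum_repr z]
  refine Finset.sum_congr rfl (fun i _ => ?_)
  rw [Algebra.smul_def, Cg.basisK_apply, ← hn i, ← IsScalarTower.algebraMap_apply K E E']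

end Groth.Agent.Helper27.Wl
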