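import Mathlib
import Groth.Agent.Lib.Helper27.WlI

set_option autoImplicit false

namespace Groth.Agent.Helper27.Wl

open FunFld TensorProduct Groth.Agent.Helper16.FFW
open scoped WithZero

universe u u' v v' w

variable {k : Type u} {k' : Type u'} {K : Type w} {E : Type v} {E' : Type v'}
  [Field k] [Field k'] [Field K] [Field E] [Field E']
  [Algebra k k'] [Algebra k K] [Algebra k E] [Algebra K E] [IsScalarTower k K E]
  [Algebra E E'] [Algebra k' E'] [Algebra k E'] [IsScalarTower k k' E'] [IsScalarTower k E E']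
  [Algebra K E'] [IsScalarTower K E E'] [IsScalarTower k K E']
  (h : Function.Bijective (Algebra.TensorProduct.productMap
      (IsScalarTower.toAlgHom k k' E') (IsScalarTower.toAlgHom k E E')))

include h in
/-- the Galois group acts transitively on the places above a rational place -/
theorem exists_actG_eq [FiniteDimensional k k'] [FiniteDimensional K E] [IsGalois K E]
    (hK : IsFunctionField k K) (R R' : Place k' E') (p : Place k K) (hp : p.deg = 1)
    (hR : IsOver (Zt.toK R : Place k E') p) (hR' : IsOver (Zt.toK R' : Place k E') p) :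
    ∃ σ : E ≃ₐ[K] E, actG h σ R = R' := by
  classical
  by_contra hno
  push Not at hno
  set A : Finset (Place k' E') := Finset.univ.image (fun σ : E ≃ₐ[K] E => actG h σ R) with hA
  set B : Finset (Place k' E') := Finset.univ.image (fun σ : E ≃ₐ[K] E => actG h σ R') with hB
  have hdisj : ∀ v ∈ B, v ∉ A := by
    intro v hvB hvA
    obtain ⟨τ, -, rfl⟩ := Finset.mem_image.1 hvB
    obtain ⟨σ, -, hσ⟩ := Finset.mem_image.1 hvA
    apply hno (σ * τ⁻¹)
    rw [← actG_mul, hσ, actG_mul, mul_inv_cancel, actG_one]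
  obtain ⟨z, hz⟩ := Groth.Agent.Helper16.FF.weak_approx
    (fun i : ↥(A ∪ B) => (i : Place k' E')) Subtype.val_injective
    (fun i => if (i : Place k' E') ∈ A then 1 else 0) (fun _ => -1)
  have hlt : (WithZero.exp (-1 : ℤ) : ℤᵐ⁰) < 1 := by
    rw [← WithZero.exp_zero, WithZero.exp_lt_exp]; norm_num
  have hzA : ∀ σ : E ≃ₐ[K] E,
      R.1 (liftBoth h (1 : k' ≃ₐ[k] k') (σ.restrictScalars k) z) = 1 := by
    intro σ
    have hmem : actG h σ R ∈ A := Finset.mem_image.2 ⟨σ, Finset.mem_univ _, rfl⟩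
    have := hz ⟨_, Finset.mem_union_left _ hmem⟩
    simp only [if_pos hmem] at this
    have h1 : (actG h σ R).1 (z - 1) < (actG h σ R).1 1 := by
      rw [map_one]; exact lt_of_le_of_lt this hlt
    have := Valuation.map_eq_of_sub_lt _ h1
    rwa [map_one, actG_apply] at this
  have hzB : ∀ σ : E ≃ₐ[K] E,
      R'.1 (liftBoth h (1 : k' ≃ₐ[k] k') (σ.restrictScalars k) z) ≤ WithZero.exp (-1 : ℤ) := by
    intro σ
    have hmem : actG h σ R' ∈ B := Finset.mem_image.2 ⟨σ, Finset.mem_univ _, rfl⟩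
    have := hz ⟨_, Finset.mem_union_right _ hmem⟩
    simp only [if_neg (hdisj _ hmem), sub_zero] at this
    rwa [actG_apply] at this
  -- the norm
  set N : E' := ∏ σ : E ≃ₐ[K] E, liftBoth h (1 : k' ≃ₐ[k] k') (σ.restrictScalars k) z with hN
  have hNR : R.1 N = 1 := by
    rw [hN, map_prod]
    exact Finset.prod_eq_one fun σ _ => hzA σ
  have hNR' : R'.1 N < 1 := by
    rw [hN, map_prod]
    have h1 : ∏ σ : E ≃ₐ[K] E,
        R'.1 (liftBoth h (1 : k' ≃ₐ[k] k') (σ.restrictScalars k) z) ≤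
        ∏ _σ : E ≃ₐ[K] E, (WithZero.exp (-1 : ℤ) : ℤᵐ⁰) :=
      Finset.prod_le_prod' fun σ _ => hzB σ
    refine lt_of_le_of_lt h1 ?_
    rw [Finset.prod_const]
    exact pow_lt_one' hlt (Finset.card_ne_zero.2 ⟨1, Finset.mem_univ _⟩)
  have hNfix : ∀ τ : E ≃ₐ[K] E, liftBoth h (1 : k' ≃ₐ[k] k') (τ.restrictScalars k) N = N := by
    intro τ
    rw [hN, map_prod]
    refine Fintype.prod_equiv (Equiv.mulLeft τ) _ _ (fun σ => ?_)
    rw [liftBoth_comp, one_mul]
    rfl
  let b := Module.finBasis k k'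
  obtain ⟨n, hn⟩ := exists_coords_of_fixed h b N hNfix
  have hc : ∀ c : k, algebraMap K E' (algebraMap k K c) = algebraMap k' E' (algebraMap k k' c) := by
    intro c
    rw [← IsScalarTower.algebraMap_apply k K E', ← IsScalarTower.algebraMap_apply k k' E']
  obtain ⟨e, he⟩ := hR
  obtain ⟨e', he'⟩ := hR'
  have hle : ∀ x : K, R.1 (algebraMap K E' x) ≤ 1 ↔ p.1 x ≤ 1 := fun x =>
    isOverWith_le_one_iff he x
  have hle' : ∀ x : K, R'.1 (algebraMap K E' x) ≤ 1 ↔ p.1 x ≤ 1 := fun x =>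
    isOverWith_le_one_iff he' x
  obtain ⟨j, -, hmax⟩ := Finset.exists_max_image (Finset.univ : Finset (Fin (Module.finrank k k')))
    (fun i => p.1 (n i)) ⟨⟨0, Module.finrank_pos⟩, Finset.mem_univ _⟩
  have h1 := Frob.val_sum_eq R b hc hK hp hle Finset.univ n j (Finset.mem_univ _) hmax
  have h2 := Frob.val_sum_eq R' b hc hK hp hle' Finset.univ n j (Finset.mem_univ _) hmax
  rw [← hn] at h1 h2
  rw [hNR] at h1
  have h3 : R.1 (algebraMap K E' (n j)) = p.1 (n j) ^ e := he (n j)
  have h4 : R'.1 (algebraMap K E' (n j)) = p.1 (n j) ^ e' := he' (n j)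
  rw [h3] at h1
  have h5 : p.1 (n j) = 1 := by
    have he0 : e ≠ 0 := (isOverWith_pos he).ne'
    exact (pow_eq_one_iff_of_nonneg zero_le' he0).1 h1.symm
  rw [h2, h4, h5, one_pow] at hNR'
  exact lt_irrefl _ hNR'

end Groth.Agent.Helper27.Wl
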