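import Mathlib
import Groth.Agent.Lib.Helper27.WlJ
import Groth.Agent.Lib.Helper27.WlE

set_option autoImplicit false

namespace Groth.Agent.Helper27.Wl

open FunFld TensorProduct Groth.Agent.Helper16.FFW
open scoped WithZero

universe u u' v v' w

variable {k : Type u} {k' : Type u'} {K : Type w} {E : Type v} {E' : Type v'}
  [Field k] [Field k'] [Field K] [Field E] [Field E']
  [Algebra k k'] [Algebra k K] [Algebra k E] [Algebra K E] [IsScalarTower k K E]
  [Algebra E E'] [Algebra k' E'] [Algebra k E'] [IsScalarTower k k' E'] [IsScalarTower k E E']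
  [Algebra K E'] [IsScalarTower K E E'] [IsScalarTower k K E']
  (h : Function.Bijective (Algebra.TensorProduct.productMap
      (IsScalarTower.toAlgHom k k' E') (IsScalarTower.toAlgHom k E E')))

/-- the Frobenius action on the places of `E'` -/
noncomputable def actF [Finite k] [FiniteDimensional k k'] (R : Place k' E') : Place k' E' :=
  act h (frobK k k') (1 : E ≃ₐ[k] E) R

theorem actF_apply [Finite k] [FiniteDimensional k k'] (R : Place k' E') (x : E') :
    (actF h R).1 x = R.1 (liftBoth h (frobK k k') (1 : E ≃ₐ[k] E) x) := rfl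

include h in
/-- a rational place of `E'` on which Frobenius acts like an element of the Galois group
lies above a rational place -/
theorem deg_below_eq_one [Finite k] [FiniteDimensional k k']
    (hE' : IsFunctionField k' E') (R : Place k' E') (hR1 : R.deg = 1)
    (σ : E ≃ₐ[K] E) (hσ : actF h R = actG h σ R) (p : Place k K)
    (hp : IsOver (Zt.toK R : Place k E') p) : p.deg = 1 := by
  obtain ⟨e, he⟩ := hp
  apply Frob.deg_eq_one_of_forall
  intro a ha
  have ha' : R.1 (algebraMap K E' a) ≤ 1 := (isOverWith_le_one_iff he a).2 ha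
  obtain ⟨c, hc⟩ := Groth.Agent.Helper16.FF.exists_const_sub_lt_one hE' hR1 ha'
  have h1 := congrArg (fun Q : Place k' E' => Q.1 (algebraMap K E' a - algebraMap k' E' c)) hσ
  simp only [actF_apply, actG_apply, map_sub, liftBoth_left] at h1
  rw [IsScalarTower.algebraMap_apply K E E', liftBoth_right, liftBoth_right] at h1
  have h2 : (σ.restrictScalars k) (algebraMap K E a) = algebraMap K E a := σ.commutes a
  rw [h2, AlgEquiv.one_apply, AlgEquiv.one_apply, frobK_apply,
    ← IsScalarTower.algebraMap_apply K E E'] at h1
  rw [← h1] at hc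
  have hc2 := Groth.Agent.Helper16.FF.exists_const_sub_lt_one hE' hR1 ha'
  -- now both `a - c` and `a - c^q` are small
  have hc' : R.1 (algebraMap K E' a - algebraMap k' E' c) < 1 := by rw [← h1]; exact hc
  have h3 : R.1 (algebraMap k' E' (c ^ Nat.card k - c)) < 1 := by
    have : algebraMap k' E' (c ^ Nat.card k - c) =
        (algebraMap K E' a - algebraMap k' E' c) -
          (algebraMap K E' a - algebraMap k' E' (c ^ Nat.card k)) := by
      rw [map_sub]; ring
    rw [this]
    exact Valuation.map_sub_lt R.1 hc' hc
  have hcq : c ^ Nat.card k = c := by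
    by_contra hne
    have := Frob.val_const R (sub_ne_zero.2 hne)
    rw [this] at h3
    exact lt_irrefl _ h3
  obtain ⟨c₀, hc₀⟩ := mem_range_of_pow_card_eq (k := k) hcq
  refine ⟨c₀, ?_⟩
  rw [← isOverWith_lt_one_iff he, map_sub, ← IsScalarTower.algebraMap_apply k K E',
    IsScalarTower.algebraMap_apply k k' E', hc₀]
  exact hc'

end Groth.Agent.Helper27.Wl
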