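import Mathlib
import Groth.Agent.Lib.Helper27.WlK

set_option autoImplicit false

namespace Groth.Agent.Helper27.Wl

open FunFld TensorProduct Groth.Agent.Helper16.FFW
open scoped WithZero

universe u u' v v' w

variable {k : Type u} {k' : Type u'} {K : Type w} {E : Type v} {E' : Type v'}
  [Field k] [Field k'] [Field K] [Field E] [Field E']
  [Algebra k k'] [Algebra k K] [Algebra k E] [Algebra K E] [IsScalarTower k K E]
  [Algebra E E'] [Algebra k' E'] [Algebra k E'] [IsScalarTower k k' E'] [IsScalarTower k E E']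
  [Algebra K E'] [IsScalarTower K E E'] [IsScalarTower k K E']
  (h : Function.Bijective (Algebra.TensorProduct.productMap
      (IsScalarTower.toAlgHom k k' E') (IsScalarTower.toAlgHom k E E')))

/-- the twisted point count -/
noncomputable def Ntw [Finite k] [FiniteDimensional k k'] (σ : E ≃ₐ[K] E) : ℕ :=
  Nat.card {R : Place k' E' // R.deg = 1 ∧ actF h R = actG h σ R}

include h in
/-- **the counting lemma** -/
theorem sum_Ntw [Finite k] [FiniteDimensional k k'] [FiniteDimensional K E] [IsGalois K E]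
    (hK : IsFunctionField k K) (hE : IsFunctionField k E) (hE' : IsFunctionField k' E')
    (hs : ∀ m : ℕ, 1 ≤ m → m ≤ Module.finrank K E → m ∣ Module.finrank k k') :
    ∑ σ : E ≃ₐ[K] E, Ntw h σ =
      Module.finrank K E * Nat.card {p : Place k K // p.deg = 1} := by
  classical
  haveI : FiniteDimensional E E' := Cg.finite_scalarExt' h
  haveI : FiniteDimensional K E' := FiniteDimensional.trans K E E'
  obtain ⟨A, hA⟩ := Zt.exists_finset_dvd hK 1 one_pos
  have hA' : ∀ p, p ∈ A ↔ p.deg = 1 := fun p => by rw [hA, Nat.dvd_one]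
  -- the place below
  have hex : ∀ R : Place k' E', ∃ p : Place k K, IsOver (Zt.toK R : Place k E') p := by
    intro R
    obtain ⟨p, e, he⟩ := exists_isOverWith hK.1 (Zt.toK R : Place k E')
    exact ⟨p, e, he⟩
  choose below hbelow using hex
  have hiff : ∀ (R : Place k' E') (p : Place k K),
      IsOver (Zt.toK R : Place k E') p ↔ below R = p := by
    intro R p
    constructor
    · rintro ⟨e, he⟩
      obtain ⟨e', he'⟩ := hbelow R
      exact (isOverWith_unique he' he).1
    · rintro rfl
      exact hbelow R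
  -- the fibres
  have hfibfin : ∀ p : Place k K, {R : Place k' E' | below R = p}.Finite := by
    intro p
    have h1 := (sum_ramIdx_mul_deg (K' := E') hK p).1
    have h2 := h1.preimage (f := (Zt.toK : Place k' E' → Place k E'))
      (Zt.toK_injective.injOn)
    refine h2.subset ?_
    intro R hR
    exact (hiff R p).2 hR
  let fib : Place k K → Finset (Place k' E') := fun p => (hfibfin p).toFinset
  have hfib : ∀ p R, R ∈ fib p ↔ below R = p := fun p R => by
    rw [Set.Finite.mem_toFinset]; rfl
  have hfibne : ∀ p, (fib p).Nonempty := by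
    intro p
    obtain ⟨hfin, hsum⟩ := sum_ramIdx_mul_deg (K' := E') hK p
    have hsum' := hsum hfin.toFinset (fun Q => by rw [Set.Finite.mem_toFinset]; rfl)
    have hpos : 0 < Module.finrank K E' * p.deg :=
      Nat.mul_pos Module.finrank_pos (Groth.Agent.Helper16.FF.Place.deg_pos hK p)
    rw [← hsum'] at hpos
    obtain ⟨Q, hQ, -⟩ := Finset.exists_ne_zero_of_sum_ne_zero hpos.ne'
    rw [Set.Finite.mem_toFinset] at hQ
    obtain ⟨R, rfl⟩ := Zt.toK_surjective (k := k) (k' := k') (K' := E') Q
    exact ⟨R, (hfib p R).2 ((hiff R p).1 hQ)⟩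
  -- the count for each `σ`
  have hN : ∀ σ : E ≃ₐ[K] E, Ntw h σ =
      ∑ p ∈ A, ((fib p).filter (fun R => actF h R = actG h σ R)).card := by
    intro σ
    set U : Finset (Place k' E') :=
      (A.biUnion fib).filter (fun R => actF h R = actG h σ R) with hU
    have hUmem : ∀ R, R ∈ U ↔ R.deg = 1 ∧ actF h R = actG h σ R := by
      intro R
      rw [hU, Finset.mem_filter, Finset.mem_biUnion]
      constructor
      · rintro ⟨⟨p, hpA, hRp⟩, hσ⟩
        refine ⟨?_, hσ⟩
        exact deg_eq_one_of_isOver h hK hE hs R p ((hA' p).1 hpA)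
          ((hiff R p).2 ((hfib p R).1 hRp))
      · rintro ⟨hR1, hσ⟩
        refine ⟨⟨below R, ?_, (hfib _ R).2 rfl⟩, hσ⟩
        rw [hA']
        exact deg_below_eq_one h hE' R hR1 σ hσ (below R) (hbelow R)
    unfold Ntw
    rw [Nat.subtype_card U hUmem]
    have hmaps : ∀ R ∈ U, below R ∈ A := by
      intro R hR
      rw [hU, Finset.mem_filter, Finset.mem_biUnion] at hR
      obtain ⟨⟨p, hpA, hRp⟩, -⟩ := hR
      rw [(hfib p R).1 hRp]
      exact hpA
    rw [Finset.card_eq_sum_card_fiberwise hmaps]
    refine Finset.sum_congr rfl (fun p hp => ?_)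
    congr 1
    ext R
    simp only [Finset.mem_filter, hU, Finset.mem_biUnion]
    constructor
    · rintro ⟨⟨_, hσ⟩, hb⟩
      exact ⟨(hfib p R).2 hb, hσ⟩
    · rintro ⟨hRp, hσ⟩
      exact ⟨⟨⟨p, hp, hRp⟩, hσ⟩, (hfib p R).1 hRp⟩
  rw [Finset.sum_congr rfl (fun σ _ => hN σ), Finset.sum_comm]
  have hp : ∀ p ∈ A, ∑ σ : E ≃ₐ[K] E,
      ((fib p).filter (fun R => actF h R = actG h σ R)).card = Module.finrank K E := by
    intro p hp
    have hp1 : p.deg = 1 := (hA' p).1 hp
    rw [← IsGalois.card_aut_eq_finrank K E, Nat.card_eq_fintype_card]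
    apply sum_card_twisted (actG h) (fun R => actG_one h R)
      (fun σ τ R => (actG_mul h σ τ R).symm) (actF h) (fib p) (hfibne p)
    · intro σ R hR
      rw [hfib, ← hiff] at hR ⊢
      exact isOver_actG h σ R p hR
    · intro R hR
      rw [hfib, ← hiff] at hR ⊢
      obtain ⟨e, he⟩ := hR
      exact ⟨e, isOverWith_act_one (K := K) h (frobK k k') R p e he⟩
    · intro R hR R' hR'
      rw [hfib, ← hiff] at hR hR'
      exact exists_actG_eq h hK R R' p hp1 hR hR'
  rw [Finset.sum_congr rfl hp, Finset.sum_const, smul_eq_mul, mul_comm,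
    Nat.subtype_card A hA']

end Groth.Agent.Helper27.Wl
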