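import Mathlib
import Groth.Agent.Lib.Helper27.WlL

set_option autoImplicit false

namespace Groth.Agent.Helper27.Wl

open FunFld TensorProduct Groth.Agent.Helper16.FFW
open scoped WithZero

universe u u' v v' w

variable {k : Type u} {k' : Type u'} {K : Type w} {E : Type v} {E' : Type v'}
  [Field k] [Field k'] [Field K] [Field E] [Field E']
  [Algebra k k'] [Algebra k K] [Algebra k E] [Algebra K E] [IsScalarTower k K E]
  [Algebra E E'] [Algebra k' E'] [Algebra k E'] [IsScalarTower k k' E'] [IsScalarTower k E E']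
  [Algebra K E'] [IsScalarTower K E E'] [IsScalarTower k K E']
  (h : Function.Bijective (Algebra.TensorProduct.productMap
      (IsScalarTower.toAlgHom k k' E') (IsScalarTower.toAlgHom k E E')))

/-- the twisted count is bounded by the Bombieri bound -/
theorem Ntw_le [Finite k] [FiniteDimensional k k'] (hE' : IsFunctionField k' E')
    (p : ℕ) [ExpChar E' p] (a : ℕ) (hcard : Nat.card k = (p ^ a) ^ 2)
    (hq : (genus k' E' + 1) ^ 2 < p ^ a) (σ : E ≃ₐ[K] E) :
    Ntw h σ ≤ (p ^ a) ^ 2 + (2 * genus k' E' + 1) * p ^ a := by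
  classical
  haveI : Finite k' := Module.finite_of_finite k
  obtain ⟨S₁, hS₁⟩ := Zt.exists_finset_dvd hE' 1 one_pos
  have hS₁' : ∀ R, R ∈ S₁ ↔ R.deg = 1 := fun R => by rw [hS₁, Nat.dvd_one]
  set T : Finset (Place k' E') := S₁.filter (fun R => actF h R = actG h σ R) with hT
  have hTmem : ∀ R, R ∈ T ↔ R.deg = 1 ∧ actF h R = actG h σ R := by
    intro R
    rw [hT, Finset.mem_filter, hS₁']
  have hN : Ntw h σ = T.card := by
    unfold Ntw
    exact Nat.subtype_card T hTmem
  rw [hN]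
  by_cases hne : T.Nonempty
  swap
  · rw [Finset.not_nonempty_iff_eq_empty] at hne
    rw [hne, Finset.card_empty]
    exact Nat.zero_le _
  obtain ⟨Q, hQ⟩ := hne
  set ψ : E' ≃+* E' :=
    (liftBoth h (frobK k k') ((σ⁻¹ : E ≃ₐ[K] E).restrictScalars k)).toRingEquiv with hψdef
  have hψ : ∀ c : k', ∃ c' : k', ψ (algebraMap k' E' c) = algebraMap k' E' c' :=
    liftBoth_const h _ _
  have hψc : ∀ c : k', ψ (algebraMap k' E' c) = algebraMap k' E' c ^ Nat.card k := by
    intro c
    show liftBoth h (frobK k k') ((σ⁻¹ : E ≃ₐ[K] E).restrictScalars k) (algebraMap k' E' c) = _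
    rw [liftBoth_left, frobK_apply, map_pow]
  have key : ∀ R ∈ T, ∀ z, R.1 (ψ z) = R.1 z := by
    intro R hR z
    have h1 : act h (frobK k k') ((σ⁻¹ : E ≃ₐ[K] E).restrictScalars k) R = R := by
      have h2 : actG h σ⁻¹ (actF h R) =
          act h (frobK k k') ((σ⁻¹ : E ≃ₐ[K] E).restrictScalars k) R := by
        unfold actG actF
        rw [act_act, mul_one, one_mul]
      rw [← h2, ((hTmem R).1 hR).2, actG_mul, mul_inv_cancel, actG_one]
    have := congrArg (fun P : Place k' E' => P.1 z) h1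
    exact this
  have hTψ : ∀ R ∈ T, ∀ y : E', R.1 y ≤ 1 → R.1 (ψ y - y ^ ((p ^ a) ^ 2)) < 1 := by
    intro R hR y hy
    have hR1 := ((hTmem R).1 hR).1
    obtain ⟨c, hc⟩ := Groth.Agent.Helper16.FF.exists_const_sub_lt_one hE' hR1 hy
    have h1 : ψ y - y ^ ((p ^ a) ^ 2) =
        ψ (y - algebraMap k' E' c) - (y - algebraMap k' E' c) ^ ((p ^ a) ^ 2) := by
      have e1 : (p ^ a) ^ 2 = p ^ (a * 2) := (pow_mul p a 2).symm
      rw [map_sub, hψc, hcard, e1, sub_pow_expChar_pow]
      ring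
    rw [h1]
    apply Valuation.map_sub_lt
    · rw [key R hR]; exact hc
    · rw [map_pow]
      have hpa : (p ^ a) ^ 2 ≠ 0 := by
        rw [← hcard]; exact Nat.card_pos.ne'
      exact pow_lt_one' hc hpa
  exact bombieri hE' p a ψ hψ Q ((hTmem Q).1 hQ).1 (key Q hQ) hq T hTψ

end Groth.Agent.Helper27.Wl
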