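import Mathlib
import Groth.Agent.Lib.Helper27.WlM
import Groth.Agent.Lib.Helper27.ZsD

set_option autoImplicit false

namespace Groth.Agent.Helper27.Wl

open FunFld TensorProduct
open scoped WithZero

universe u v

/-- finite fields have extensions of every degree, in the same universe -/
theorem exists_ext (k : Type u) [Field k] [Finite k] (n : ℕ) (hn : 0 < n) :
    ∃ (k' : Type u) (_ : Field k') (_ : Algebra k k'),
      FiniteDimensional k k' ∧ Module.finrank k k' = n := by
  obtain ⟨p, hp⟩ := CharP.exists k
  haveI : Fact p.Prime := ⟨CharP.char_is_prime k p⟩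
  haveI : NeZero n := ⟨hn.ne'⟩
  refine ⟨ULift.{u} (FiniteField.Extension k p n), inferInstance, inferInstance, ?_, ?_⟩
  · exact Module.Finite.equiv (ULift.moduleEquiv (R := k) (M := FiniteField.Extension k p n)).symm
  · rw [LinearEquiv.finrank_eq (ULift.moduleEquiv (R := k) (M := FiniteField.Extension k p n)),
      FiniteField.finrank_extension]

/-- a model of the constant field extension in the universe of `E` -/
theorem exists_constExt {k k' : Type u} {E : Type v} [Field k] [Field k'] [Field E]
    [Algebra k k'] [Algebra k E] [FiniteDimensional k k'] [Algebra.IsSeparable k k']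
    (hE : IsFunctionField k E) (hg : IsGeometric k E) :
    ∃ (E' : Type v) (_ : Field E') (_ : Algebra E E') (_ : Algebra k' E') (_ : Algebra k E')
      (_ : IsScalarTower k k' E') (_ : IsScalarTower k E E'),
      Function.Bijective (Algebra.TensorProduct.productMap
        (IsScalarTower.toAlgHom k k' E') (IsScalarTower.toAlgHom k E E')) := by
  classical
  let pb := Field.powerBasisOfFiniteOfSeparable k k'
  set m := minpoly k pb.gen with hmdef
  have hm : Irreducible m := minpoly.irreducible (pb.isIntegral_gen)
  have hmon : m.Monic := minpoly.monic pb.isIntegral_gen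
  have hirr := Groth.Agent.Helper16.FF.irreducible_map_of_algClosedIn hE.2 hm hmon
  haveI : Fact (Irreducible (m.map (algebraMap k E))) := ⟨hirr⟩
  let E' := AdjoinRoot (m.map (algebraMap k E))
  let fL : k' →ₐ[k] E' := pb.lift (AdjoinRoot.root _) (by
    rw [← hmdef, ← Polynomial.aeval_map_algebraMap E, AdjoinRoot.aeval_eq, AdjoinRoot.mk_self])
  letI : Algebra k' E' := fL.toRingHom.toAlgebra
  haveI : IsScalarTower k k' E' := IsScalarTower.of_algebraMap_eq (fun c => (fL.commutes c).symm)
  have hfLgen : fL pb.gen = AdjoinRoot.root _ := pb.lift_gen _ _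
  have hF := hg k' inferInstance
  refine ⟨E', inferInstance, inferInstance, inferInstance, inferInstance, inferInstance,
    inferInstance, ?_⟩
  constructor
  · rw [injective_iff_map_eq_zero]
    intro x hx
    by_contra hne
    obtain ⟨y, hy⟩ := hF.mul_inv_cancel hne
    have h1 : (Algebra.TensorProduct.productMap
      (IsScalarTower.toAlgHom k k' E') (IsScalarTower.toAlgHom k E E')) (x * y) = 1 := by
      rw [hy, map_one]
    rw [map_mul, hx, zero_mul] at h1
    exact zero_ne_one h1
  · intro z
    obtain ⟨g, rfl⟩ := AdjoinRoot.mk_surjective z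
    induction g using Polynomial.induction_on with
    | C a =>
      refine ⟨1 ⊗ₜ a, ?_⟩
      rw [Algebra.TensorProduct.productMap_apply_tmul, map_one, one_mul, AdjoinRoot.mk_C]
      rfl
    | add p q hp hq =>
      obtain ⟨a, ha⟩ := hp
      obtain ⟨b, hb⟩ := hq
      exact ⟨a + b, by rw [map_add, ha, hb, map_add]⟩
    | monomial n a _ =>
      refine ⟨(pb.gen ^ (n + 1)) ⊗ₜ a, ?_⟩
      rw [Algebra.TensorProduct.productMap_apply_tmul, map_pow, map_mul, map_pow,
        AdjoinRoot.mk_C, AdjoinRoot.mk_X, mul_comm]
      congr 1
      rw [← hfLgen]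
      rfl

end Groth.Agent.Helper27.Wl
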