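import Mathlib
import Groth.Agent.Lib.Helper27.WlN

set_option autoImplicit false

namespace Groth.Agent.Helper27.Wl

open FunFld TensorProduct Polynomial
open scoped WithZero

universe u u' v v'

theorem natDegree_prod_one_sub {ι : Type*} [Fintype ι] (β : ι → ℂ) (hβ : ∀ i, β i ≠ 0) :
    (∏ i, (1 - C (β i) * X) : ℂ[X]).natDegree = Fintype.card ι := by
  have h1 : ∀ i, (1 - C (β i) * X : ℂ[X]).natDegree = 1 := by
    intro i
    rw [natDegree_sub_eq_right_of_natDegree_lt, natDegree_C_mul_X _ (hβ i)]
    rw [natDegree_one, natDegree_C_mul_X _ (hβ i)]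
    exact one_pos
  have h0 : ∀ i ∈ (Finset.univ : Finset ι), (1 - C (β i) * X : ℂ[X]) ≠ 0 := by
    intro i _ h
    have := h1 i
    rw [h, natDegree_zero] at this
    exact zero_ne_one this
  rw [natDegree_prod _ _ h0, Finset.sum_congr rfl (fun i _ => h1 i), Finset.sum_const,
    Finset.card_univ, smul_eq_mul, mul_one]

variable {k : Type u} {k' : Type u'} {K : Type v} {K' : Type v'}
  [Field k] [Field k'] [Field K] [Field K']
  [Algebra k k'] [Algebra k K] [Algebra K K'] [Algebra k' K'] [Algebra k K']
  [IsScalarTower k k' K'] [IsScalarTower k K K']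

/-- the genus does not change under constant field extensions (finite constant fields) -/
theorem genus_constExt [Finite k] [FiniteDimensional k k']
    (h : Function.Bijective (Algebra.TensorProduct.productMap
      (IsScalarTower.toAlgHom k k' K') (IsScalarTower.toAlgHom k K K')))
    (hK : IsFunctionField k K) (hK' : IsFunctionField k' K') :
    genus k' K' = genus k K := by
  haveI : Finite k' := Module.finite_of_finite k
  obtain ⟨α, -, hα, hpair⟩ := Zs.main11040 hK
  obtain ⟨α', -, hα', hpair'⟩ := Zs.main11040 hK'
  have h1 := Zt.numerZ_constExt h hK hK' α hα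
  rw [hα'] at h1
  have h2 := Polynomial.coe_injective ℂ h1
  have hq : (Nat.card k : ℂ) ≠ 0 := by
    have : 0 < Nat.card k := Nat.card_pos
    exact_mod_cast this.ne'
  have hq' : (Nat.card k' : ℂ) ≠ 0 := by
    have : 0 < Nat.card k' := Nat.card_pos
    exact_mod_cast this.ne'
  have hα0 : ∀ i, α i ^ Module.finrank k k' ≠ 0 := by
    intro i
    apply pow_ne_zero
    intro h0
    have := hpair i
    rw [h0, zero_mul] at this
    exact hq this.symm
  have hα'0 : ∀ i, α' i ≠ 0 := by
    intro i h0
    have := hpair' i
    rw [h0, zero_mul] at this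
    exact hq' this.symm
  have h3 := congrArg natDegree h2
  rw [natDegree_prod_one_sub α' hα'0, natDegree_prod_one_sub _ hα0, Fintype.card_fin,
    Fintype.card_fin] at h3
  omega

end Groth.Agent.Helper27.Wl
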