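import Mathlib
import Groth.Agent.Lib.Helper27.WlO

set_option autoImplicit false

namespace Groth.Agent.Helper27.Wl

open FunFld TensorProduct
open scoped WithZero

universe u v

variable {k : Type u} {F K E : Type v} [Field k] [Field F] [Field K] [Field E]
  [Algebra k F] [Algebra k K] [Algebra k E] [Algebra F K] [Algebra K E] [Algebra F E]
  [IsScalarTower k F E] [IsScalarTower k K E] [IsScalarTower F K E]

/-- the bound at one level -/
theorem level_bound [Finite k] [FiniteDimensional F E] [IsGalois F E]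
    (hF : IsFunctionField k F) (hK : IsFunctionField k K) (hE : IsFunctionField k E)
    (p : ℕ) [ExpChar k p] (a : ℕ) (hcard : Nat.card k = (p ^ a) ^ 2)
    (hq : (genus k E + 1) ^ 2 < p ^ a)
    (hNF : Nat.card {P : Place k F // P.deg = 1} = Nat.card k + 1) :
    |(Nat.card {P : Place k K // P.deg = 1} : ℝ) - (Nat.card k : ℝ) - 1| ≤
      (Module.finrank F E : ℝ) * (2 * (genus k E : ℝ) + 1) * (p ^ a : ℕ) := by
  classical
  set n := Module.finrank F E with hn
  have hnpos : 0 < n := Module.finrank_pos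
  set g := genus k E with hgdef
  set q₀ := p ^ a with hq₀
  -- the auxiliary constant field extension
  obtain ⟨k', _, _, hfin, hrank⟩ := exists_ext k n.factorial (Nat.factorial_pos n)
  haveI := hfin
  haveI : PerfectField k := PerfectField.ofFinite
  haveI : Algebra.IsAlgebraic k k' := Algebra.IsAlgebraic.of_finite k k'
  haveI : Algebra.IsSeparable k k' := Algebra.IsAlgebraic.isSeparable_of_perfectField
  have hgE : IsGeometric k E := Zs.isGeometric_of_finite hE
  obtain ⟨E', _, _, _, _, _, _, h⟩ := exists_constExt (k' := k') hE hgE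
  have hE' : IsFunctionField k' E' :=
    (Groth.Agent.Helper16.FF.isFunctionField_and_isGeometric_scalarExt h hE hgE).1
  have hg' : genus k' E' = g := genus_constExt h hE hE'
  haveI : ExpChar E' p := expChar_of_injective_algebraMap (algebraMap k E').injective p
  -- algebra structures
  letI : Algebra K E' := ((algebraMap E E').comp (algebraMap K E)).toAlgebra
  haveI : IsScalarTower K E E' := IsScalarTower.of_algebraMap_eq (fun _ => rfl)
  haveI : IsScalarTower k K E' := IsScalarTower.of_algebraMap_eq (fun c => by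
    rw [IsScalarTower.algebraMap_apply k E E', IsScalarTower.algebraMap_apply k K E]; rfl)
  letI : Algebra F E' := ((algebraMap E E').comp (algebraMap F E)).toAlgebra
  haveI : IsScalarTower F E E' := IsScalarTower.of_algebraMap_eq (fun _ => rfl)
  haveI : IsScalarTower k F E' := IsScalarTower.of_algebraMap_eq (fun c => by
    rw [IsScalarTower.algebraMap_apply k E E', IsScalarTower.algebraMap_apply k F E]; rfl)
  haveI : FiniteDimensional K E := FiniteDimensional.right F K E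
  haveI : FiniteDimensional F K := FiniteDimensional.left F K E
  haveI : IsGalois K E := IsGalois.tower_top_of_isGalois F K E
  set m := Module.finrank K E with hm
  have hmpos : 0 < m := Module.finrank_pos
  have hmn : m ≤ n := by
    have := Module.finrank_mul_finrank F K E
    rw [← hm, ← hn] at this
    rw [← this]
    exact Nat.le_mul_of_pos_left _ Module.finrank_pos
  have hsF : ∀ j : ℕ, 1 ≤ j → j ≤ Module.finrank F E → j ∣ Module.finrank k k' := by
    intro j hj1 hjn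
    rw [hrank]
    exact Nat.dvd_factorial hj1 hjn
  have hsK : ∀ j : ℕ, 1 ≤ j → j ≤ Module.finrank K E → j ∣ Module.finrank k k' := by
    intro j hj1 hjm
    exact hsF j hj1 (le_trans hjm hmn)
  have hsumF := sum_Ntw (K := F) h hF hE hE' hsF
  have hsumK := sum_Ntw (K := K) h hK hE hE' hsK
  rw [hNF] at hsumF
  -- bounds on the twisted counts
  have hB : ∀ σ : E ≃ₐ[F] E, Ntw (K := F) h σ ≤ q₀ ^ 2 + (2 * g + 1) * q₀ := by
    intro σ
    have := Ntw_le (K := F) h hE' p a hcard (by rw [hg']; exact hq) σ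
    rwa [hg'] at this
  have hcardG : Fintype.card (E ≃ₐ[F] E) = n := by
    rw [← Nat.card_eq_fintype_card, IsGalois.card_aut_eq_finrank]
  have hL : ∀ σ₀ : E ≃ₐ[F] E,
      (n : ℤ) * ((q₀ : ℤ) ^ 2 + 1) - ((n : ℤ) - 1) * ((q₀ : ℤ) ^ 2 + (2 * g + 1) * q₀) ≤
        (Ntw (K := F) h σ₀ : ℤ) := by
    intro σ₀
    have h1 : ∑ σ : E ≃ₐ[F] E, Ntw (K := F) h σ =
        Ntw (K := F) h σ₀ + ∑ σ ∈ Finset.univ.erase σ₀, Ntw (K := F) h σ :=
      (Finset.add_sum_erase _ _ (Finset.mem_univ σ₀)).symm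
    have h2 : ∑ σ ∈ Finset.univ.erase σ₀, Ntw (K := F) h σ ≤
        (n - 1) * (q₀ ^ 2 + (2 * g + 1) * q₀) := by
      have := Finset.sum_le_card_nsmul (Finset.univ.erase σ₀) (fun σ => Ntw (K := F) h σ)
        (q₀ ^ 2 + (2 * g + 1) * q₀) (fun σ _ => hB σ)
      rwa [Finset.card_erase_of_mem (Finset.mem_univ σ₀), Finset.card_univ, hcardG,
        smul_eq_mul] at this
    rw [hsumF, hcard] at h1
    have h3 : ((n * ((q₀ ^ 2) + 1) : ℕ) : ℤ) ≤ (Ntw (K := F) h σ₀ : ℤ) +
        (((n - 1) * (q₀ ^ 2 + (2 * g + 1) * q₀) : ℕ) : ℤ) := by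
      exact_mod_cast (h1 ▸ Nat.add_le_add_left h2 _)
    push_cast [Nat.cast_sub hnpos] at h3
    linarith
  -- the counts for `K` are counts for `F`
  have hKF : ∀ τ : E ≃ₐ[K] E, Ntw (K := K) h τ = Ntw (K := F) h (τ.restrictScalars F) := by
    intro τ
    rfl
  have hcardH : Fintype.card (E ≃ₐ[K] E) = m := by
    rw [← Nat.card_eq_fintype_card, IsGalois.card_aut_eq_finrank]
  set N := Nat.card {P : Place k K // P.deg = 1} with hN
  have hup : m * N ≤ m * (q₀ ^ 2 + (2 * g + 1) * q₀) := by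
    rw [← hsumK]
    have := Finset.sum_le_card_nsmul (Finset.univ : Finset (E ≃ₐ[K] E))
      (fun τ => Ntw (K := K) h τ) (q₀ ^ 2 + (2 * g + 1) * q₀)
      (fun τ _ => by rw [hKF]; exact hB _)
    rwa [Finset.card_univ, hcardH, smul_eq_mul] at this
  have hlow : (m : ℤ) * ((n : ℤ) * ((q₀ : ℤ) ^ 2 + 1) -
      ((n : ℤ) - 1) * ((q₀ : ℤ) ^ 2 + (2 * g + 1) * q₀)) ≤ (m : ℤ) * N := by
    have h1 : ((m * N : ℕ) : ℤ) = ∑ τ : E ≃ₐ[K] E, (Ntw (K := K) h τ : ℤ) := by
      rw [← hsumK]; push_cast; rfl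
    push_cast at h1
    rw [h1]
    have := Finset.card_nsmul_le_sum (Finset.univ : Finset (E ≃ₐ[K] E))
      (fun τ => (Ntw (K := K) h τ : ℤ))
      ((n : ℤ) * ((q₀ : ℤ) ^ 2 + 1) - ((n : ℤ) - 1) * ((q₀ : ℤ) ^ 2 + (2 * g + 1) * q₀))
      (fun τ _ => by rw [hKF]; exact hL _)
    rwa [Finset.card_univ, hcardH, nsmul_eq_mul] at this
  have hup' : N ≤ q₀ ^ 2 + (2 * g + 1) * q₀ := Nat.le_of_mul_le_mul_left hup hmpos
  have hlow' : (n : ℤ) * ((q₀ : ℤ) ^ 2 + 1) -
      ((n : ℤ) - 1) * ((q₀ : ℤ) ^ 2 + (2 * g + 1) * q₀) ≤ N := by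
    have hm' : (0 : ℤ) < m := by exact_mod_cast hmpos
    exact le_of_mul_le_mul_left hlow hm'
  -- conclusion
  have hupR : (N : ℝ) ≤ (q₀ : ℝ) ^ 2 + (2 * g + 1) * q₀ := by exact_mod_cast hup'
  have hlowR : (n : ℝ) * ((q₀ : ℝ) ^ 2 + 1) -
      ((n : ℝ) - 1) * ((q₀ : ℝ) ^ 2 + (2 * g + 1) * q₀) ≤ N := by exact_mod_cast hlow'
  have hcardR : (Nat.card k : ℝ) = (q₀ : ℝ) ^ 2 := by rw [hcard]; push_cast; rfl
  have hn1 : (1 : ℝ) ≤ n := by exact_mod_cast hnpos
  have hq0 : (0 : ℝ) ≤ q₀ := Nat.cast_nonneg _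
  have hg0 : (0 : ℝ) ≤ g := Nat.cast_nonneg _
  rw [hcardR, abs_le]
  constructor
  · nlinarith [mul_nonneg hq0 hg0]
  · nlinarith [mul_nonneg hq0 hg0, mul_nonneg (mul_nonneg hq0 hg0) (sub_nonneg.2 hn1)]

end Groth.Agent.Helper27.Wl
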