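import Mathlib
import Groth.Agent.Lib.Helper27.WlP
import Groth.Agent.Lib.Helper16.FF.GeomF
import Groth.Agent.Lib.Helper16.FF.Rational

set_option autoImplicit false

namespace Groth.Agent.Helper27.Wl

open FunFld TensorProduct IntermediateField
open scoped WithZero

universe u u' v v'

section tower

variable {k : Type*} {K₀ K : Type*} [Field k] [Field K₀] [Field K]
  [Algebra k K₀] [Algebra K₀ K] [Algebra k K] [IsScalarTower k K₀ K]

/-- a subfield of a function field containing a transcendental element is a function field -/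
theorem isFunctionField_of_tower (hK : IsFunctionField k K) (x₀ : K₀) (hx₀t : Transcendental k x₀) :
    IsFunctionField k K₀ := by
  set x : K := algebraMap K₀ K x₀ with hxdef
  have hx : Transcendental k x :=
    (transcendental_algebraMap_iff (algebraMap K₀ K).injective).2 hx₀t
  refine ⟨⟨x₀, hx₀t, ?_⟩, ?_⟩
  · haveI h1 : Module.Finite (adjoin k ({x} : Set K)) K :=
      Groth.Agent.Helper16.FF.finite_of_transcendental hK hx
    haveI h2 : Module.Finite (adjoin k ({x₀} : Set K₀)) K := by
      refine Module.Finite.of_equiv_equiv (A₁ := adjoin k ({x} : Set K)) (B₁ := K)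
        (Groth.Agent.Helper16.FFW.adjoinEquiv (k := k) (K := K₀) (K' := K) x₀).symm.toRingEquiv
        (RingEquiv.refl K) ?_
      ext a
      have := Groth.Agent.Helper16.FFW.adjoinEquiv_apply (k := k) (K := K₀) (K' := K) x₀
        ((Groth.Agent.Helper16.FFW.adjoinEquiv (k := k) (K := K₀) (K' := K) x₀).symm a)
      rw [AlgEquiv.apply_symm_apply] at this
      exact this.symm
    exact Module.Finite.of_injective
      (IsScalarTower.toAlgHom (adjoin k ({x₀} : Set K₀)) K₀ K).toLinearMap
      (algebraMap K₀ K).injective
  · intro z hz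
    have hz' : IsAlgebraic k (algebraMap K₀ K z) :=
      (isAlgebraic_algebraMap_iff (algebraMap K₀ K).injective).2 hz
    obtain ⟨c, hc⟩ := hK.2 _ hz'
    refine ⟨c, ?_⟩
    apply (algebraMap K₀ K).injective
    rw [← hc, ← IsScalarTower.algebraMap_apply]

end tower

section gen

variable {k : Type u} {k' : Type u'} {K : Type v} {M : Type v'}
  [Field k] [Field k'] [Field K] [Field M]
  [Algebra k k'] [Algebra k K] [Algebra K M] [Algebra k' M] [Algebra k M]
  [IsScalarTower k k' M] [IsScalarTower k K M]

/-- a field generated by `k'` and `K` is the constant field extension, if `k' ⊗ K` is a field -/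
theorem bijective_of_closure (hfield : IsField (k' ⊗[k] K))
    (hgen : Subfield.closure (Set.range (algebraMap k' M) ∪ Set.range (algebraMap K M)) = ⊤) :
    Function.Bijective (Algebra.TensorProduct.productMap
      (IsScalarTower.toAlgHom k k' M) (IsScalarTower.toAlgHom k K M)) := by
  letI : Field (k' ⊗[k] K) := hfield.toField
  set f : k' ⊗[k] K →+* M := (Algebra.TensorProduct.productMap
      (IsScalarTower.toAlgHom k k' M) (IsScalarTower.toAlgHom k K M)).toRingHom with hf
  refine ⟨f.injective, ?_⟩
  intro w
  have hw : w ∈ f.fieldRange := by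
    have hle : Subfield.closure (Set.range (algebraMap k' M) ∪ Set.range (algebraMap K M)) ≤
        f.fieldRange := by
      rw [Subfield.closure_le]
      rintro x (⟨c, rfl⟩ | ⟨z, rfl⟩)
      · refine ⟨c ⊗ₜ 1, ?_⟩
        show Algebra.TensorProduct.productMap _ _ (c ⊗ₜ 1) = _
        rw [Algebra.TensorProduct.productMap_apply_tmul, map_one, mul_one]
        rfl
      · refine ⟨1 ⊗ₜ z, ?_⟩
        show Algebra.TensorProduct.productMap _ _ (1 ⊗ₜ z) = _
        rw [Algebra.TensorProduct.productMap_apply_tmul, map_one, one_mul]
        rfl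
    apply hle
    rw [hgen]
    trivial
  obtain ⟨t, ht⟩ := hw
  exact ⟨t, ht⟩

end gen

section rational

variable {k : Type*} {F : Type*} [Field k] [Field F] [Algebra k F]

/-- the number of rational places of a rational function field, and of its constant extensions -/
theorem Nm_rational [Finite k] (hF : IsFunctionField k F) (x : F)
    (hx : IntermediateField.adjoin k ({x} : Set F) = ⊤) (m : ℕ) (hm : 0 < m) :
    Zt.Nm k F m = Nat.card k ^ m + 1 := by
  have hxt := Groth.Agent.Helper16.FF.transcendental_of_adjoin_eq_top hF hx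
  have hg : genus k F = 0 :=
    Groth.Agent.Helper16.FF.genus_eq_zero_of_finrank_eq_one hF hxt
      (IntermediateField.finrank_eq_one_iff_eq_top.2 hx)
  obtain ⟨α, -, hα, -⟩ := Zs.main11040 hF
  have h1 := Zt.Nm_formula hF α hα m hm
  have h2 : ∑ i, α i ^ m = 0 := by
    apply Finset.sum_eq_zero
    intro i _
    have := i.2
    omega
  rw [h2, sub_zero] at h1
  have h3 : ((Zt.Nm k F m : ℕ) : ℂ) = ((Nat.card k ^ m + 1 : ℕ) : ℂ) := by
    rw [h1]; push_cast; ring
  exact_mod_cast h3

end rational

end Groth.Agent.Helper27.Wl
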