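import Mathlib
import Groth.Agent.Lib.Helper27.WlR
import Groth.Agent.Lib.Helper27.WlQ
import Groth.Agent.Lib.Helper16.FF.GeomG

set_option autoImplicit false

namespace Groth.Agent.Helper27.Wl

open FunFld TensorProduct IntermediateField
open scoped WithZero

universe u v

section gen

variable {kr F₀ Er : Type*} [Field kr] [Field F₀] [Field Er] [Algebra kr Er] [Algebra F₀ Er]

/-- the elements of `F₀(k_r)` are generated by `k_r` and `F₀` -/
theorem closure_eq_top_adjoin
    (LL : IntermediateField F₀ Er) (hLL : LL = adjoin F₀ (Set.range (algebraMap kr Er)))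
    [Algebra kr LL] (hkr : ∀ c : kr, ((algebraMap kr LL c : LL) : Er) = algebraMap kr Er c) :
    Subfield.closure (Set.range (algebraMap kr LL) ∪ Set.range (algebraMap F₀ LL)) = ⊤ := by
  rw [eq_top_iff]
  rintro ⟨w, hw⟩ -
  subst hLL
  induction hw using IntermediateField.adjoin_induction with
  | mem x hx =>
    obtain ⟨c, rfl⟩ := hx
    exact Subfield.subset_closure (Or.inl ⟨c, Subtype.ext (hkr c)⟩)
  | algebraMap a => exact Subfield.subset_closure (Or.inr ⟨a, rfl⟩)
  | add x y hx hy ihx ihy => exact add_mem ihx ihy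
  | inv x hx ih => exact inv_mem ih
  | mul x y hx hy ihx ihy => exact mul_mem ihx ihy

end gen

section gen2

variable {kr F₀ K Er : Type*} [Field kr] [Field F₀] [Field K] [Field Er]
  [Algebra kr Er] [Algebra F₀ Er] [Algebra K Er]

/-- the elements of `K(k_r)` are generated by `k_r` and `K` -/
theorem closure_eq_top_adjoin₂
    (LL : IntermediateField F₀ Er) (hLL : LL = adjoin F₀ (Set.range (algebraMap kr Er)))
    [Algebra kr LL] (hkr : ∀ c : kr, ((algebraMap kr LL c : LL) : Er) = algebraMap kr Er c)
    (KK : IntermediateField LL Er) (hKK : KK = adjoin LL (Set.range (algebraMap K Er)))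
    [Algebra kr KK] (hkr' : ∀ c : kr, ((algebraMap kr KK c : KK) : Er) = algebraMap kr Er c)
    [Algebra K KK] (hK' : ∀ z : K, ((algebraMap K KK z : KK) : Er) = algebraMap K Er z)
    (hF₀K : ∀ z : F₀, ∃ z' : K, algebraMap K Er z' = algebraMap F₀ Er z) :
    Subfield.closure (Set.range (algebraMap kr KK) ∪ Set.range (algebraMap K KK)) = ⊤ := by
  set C : Subfield KK :=
    Subfield.closure (Set.range (algebraMap kr KK) ∪ Set.range (algebraMap K KK)) with hC
  have hLLgen := closure_eq_top_adjoin LL hLL hkr
  have hCL : ∀ a : LL, algebraMap LL KK a ∈ C := by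
    intro a
    have hle : Subfield.closure (Set.range (algebraMap kr LL) ∪ Set.range (algebraMap F₀ LL)) ≤
        Subfield.comap (algebraMap LL KK) C := by
      rw [Subfield.closure_le]
      rintro _ (⟨c, rfl⟩ | ⟨z, rfl⟩)
      · refine Subfield.subset_closure (Or.inl ⟨c, ?_⟩)
        apply Subtype.ext
        rw [hkr']
        exact (hkr c).symm
      · obtain ⟨z', hz'⟩ := hF₀K z
        refine Subfield.subset_closure (Or.inr ⟨z', ?_⟩)
        apply Subtype.ext
        rw [hK', hz']
        rfl
    have : a ∈ Subfield.comap (algebraMap LL KK) C := by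
      apply hle
      rw [hLLgen]
      trivial
    exact this
  rw [eq_top_iff]
  rintro ⟨w, hw⟩ -
  subst hKK
  induction hw using IntermediateField.adjoin_induction with
  | mem x hx =>
    obtain ⟨z, rfl⟩ := hx
    exact Subfield.subset_closure (Or.inr ⟨z, Subtype.ext (hK' z)⟩)
  | algebraMap a => exact hCL a
  | add x y hx hy ihx ihy => exact add_mem ihx ihy
  | inv x hx ih => exact inv_mem ih
  | mul x y hx hy ihx ihy => exact mul_mem ihx ihy

end gen2

section level

variable {k : Type u} {kr : Type v} {F₀ K LL KK Er : Type v}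
  [Field k] [Field kr] [Field F₀] [Field K] [Field LL] [Field KK] [Field Er]
  [Algebra k kr] [Algebra k F₀] [Algebra k K]
  [Algebra kr LL] [Algebra kr KK] [Algebra kr Er]
  [Algebra F₀ LL] [Algebra K KK] [Algebra k LL] [Algebra k KK]
  [Algebra LL KK] [Algebra KK Er] [Algebra LL Er]
  [IsScalarTower kr LL Er] [IsScalarTower kr KK Er] [IsScalarTower LL KK Er]
  [IsScalarTower k kr LL] [IsScalarTower k F₀ LL] [IsScalarTower k kr KK] [IsScalarTower k K KK]

/-- the bound at one level, in terms of the ground field -/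
theorem level_bound' [Finite k] [FiniteDimensional k kr] [FiniteDimensional LL Er] [IsGalois LL Er]
    (hF₀ : IsFunctionField k F₀) (hK : IsFunctionField k K)
    (hLL : IsFunctionField kr LL) (hKK : IsFunctionField kr KK) (hEr : IsFunctionField kr Er)
    (hbL : Function.Bijective (Algebra.TensorProduct.productMap
      (IsScalarTower.toAlgHom k kr LL) (IsScalarTower.toAlgHom k F₀ LL)))
    (hbK : Function.Bijective (Algebra.TensorProduct.productMap
      (IsScalarTower.toAlgHom k kr KK) (IsScalarTower.toAlgHom k K KK)))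
    (x : F₀) (hx : IntermediateField.adjoin k ({x} : Set F₀) = ⊤)
    (p : ℕ) [ExpChar kr p] (a : ℕ) (hcard : Nat.card kr = (p ^ a) ^ 2)
    (hq : (genus kr Er + 1) ^ 2 < p ^ a) :
    |(Zt.Nm k K (Module.finrank k kr) : ℝ) - (Nat.card k : ℝ) ^ (Module.finrank k kr) - 1| ≤
      (Module.finrank LL Er : ℝ) * (2 * (genus kr Er : ℝ) + 1) * (p ^ a : ℕ) := by
  haveI : Finite kr := Module.finite_of_finite k
  have hm : 0 < Module.finrank k kr := Module.finrank_pos
  have h1 : Nat.card {P : Place kr LL // P.deg = 1} = Nat.card kr + 1 := by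
    rw [Zt.card_deg_one hLL, Zt.Nm_constExt hbL hF₀ hLL 1 one_pos, one_mul,
      Nm_rational hF₀ x hx _ hm, Module.natCard_eq_pow_finrank (K := k) (V := kr)]
  have h2 : Nat.card {P : Place kr KK // P.deg = 1} = Zt.Nm k K (Module.finrank k kr) := by
    rw [Zt.card_deg_one hKK, Zt.Nm_constExt hbK hK hKK 1 one_pos, one_mul]
  have h3 := level_bound hLL hKK hEr p a hcard hq h1
  rw [h2, Module.natCard_eq_pow_finrank (K := k) (V := kr)] at h3
  push_cast at h3 ⊢
  exact h3

end level

end Groth.Agent.Helper27.Wl
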