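import Mathlib
import Groth.Agent.Lib.Helper27.WlS

set_option autoImplicit false

namespace Groth.Agent.Helper27.Wl

open FunFld TensorProduct IntermediateField
open scoped WithZero

universe u v

theorem transcendental_scalarExt' {k : Type*} {k' : Type*} {K K' : Type*}
    [Field k] [Field k'] [Field K] [Field K']
    [Algebra k k'] [Algebra k K] [Algebra K K'] [Algebra k' K'] [Algebra k K']
    [IsScalarTower k k' K'] [IsScalarTower k K K'] [Algebra.IsAlgebraic k k'] {x : K}
    (hx : Transcendental k x) : Transcendental k' (algebraMap K K' x) := by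
  intro halg
  have h1 : IsAlgebraic k (algebraMap K K' x) := halg.restrictScalars k
  exact hx ((isAlgebraic_algebraMap_iff (algebraMap K K').injective).1 h1)

variable {k : Type u} {K F₀ E₀ k₁ : Type v} [Field k] [Field K] [Field F₀] [Field E₀] [Field k₁]
  [Algebra k F₀] [Algebra k K] [Algebra k E₀] [Algebra F₀ K] [Algebra K E₀] [Algebra F₀ E₀]
  [IsScalarTower k F₀ K] [IsScalarTower k K E₀] [IsScalarTower F₀ K E₀] [IsScalarTower k F₀ E₀]
  [Algebra k k₁] [Algebra k₁ E₀] [IsScalarTower k k₁ E₀]

set_option maxHeartbeats 1600000 in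
/-- the bound at level `r` -/
theorem bound_at_level [Finite k] [FiniteDimensional F₀ E₀] [IsGalois F₀ E₀]
    [FiniteDimensional k k₁]
    (hK : IsFunctionField k K) (hF₀ : IsFunctionField k F₀) (x : F₀)
    (hx : IntermediateField.adjoin k ({x} : Set F₀) = ⊤) (hE₀ : IsFunctionField k₁ E₀)
    (r : ℕ) (hr : 0 < r) (p : ℕ) [ExpChar k p] (a : ℕ)
    (hcard : Nat.card k ^ (Module.finrank k k₁ * r) = (p ^ a) ^ 2)
    (hq : (genus k₁ E₀ + 1) ^ 2 < p ^ a) :
    |(Zt.Nm k K (Module.finrank k k₁ * r) : ℝ) -
        (Nat.card k : ℝ) ^ (Module.finrank k k₁ * r) - 1| ≤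
      (Module.finrank F₀ E₀ : ℝ) * (2 * (genus k₁ E₀ : ℝ) + 1) * (p ^ a : ℕ) := by
  classical
  haveI : Finite k₁ := Module.finite_of_finite k
  obtain ⟨kr, _, _, hfin, hrank⟩ := exists_ext k₁ r hr
  haveI := hfin
  haveI : PerfectField k₁ := PerfectField.ofFinite
  haveI : Algebra.IsAlgebraic k₁ kr := Algebra.IsAlgebraic.of_finite k₁ kr
  haveI : Algebra.IsSeparable k₁ kr := Algebra.IsAlgebraic.isSeparable_of_perfectField
  have hgE : IsGeometric k₁ E₀ := Zs.isGeometric_of_finite hE₀
  obtain ⟨Er, _, _, _, _, _, _, h⟩ := exists_constExt (k' := kr) hE₀ hgE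
  have hEr : IsFunctionField kr Er :=
    (Groth.Agent.Helper16.FF.isFunctionField_and_isGeometric_scalarExt h hE₀ hgE).1
  have hgr : genus kr Er = genus k₁ E₀ := genus_constExt h hE₀ hEr
  -- algebra structures over `k`
  letI : Algebra k kr := ((algebraMap k₁ kr).comp (algebraMap k k₁)).toAlgebra
  haveI : IsScalarTower k k₁ kr := IsScalarTower.of_algebraMap_eq (fun _ => rfl)
  haveI : FiniteDimensional k kr := Module.Finite.trans k₁ kr
  have hdr : Module.finrank k kr = Module.finrank k k₁ * r := by
    rw [← Module.finrank_mul_finrank k k₁ kr, hrank]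
  haveI : Finite kr := Module.finite_of_finite k
  haveI : PerfectField k := PerfectField.ofFinite
  haveI : Algebra.IsAlgebraic k kr := Algebra.IsAlgebraic.of_finite k kr
  haveI : Algebra.IsSeparable k kr := Algebra.IsAlgebraic.isSeparable_of_perfectField
  letI : Algebra k Er := ((algebraMap E₀ Er).comp (algebraMap k E₀)).toAlgebra
  haveI : IsScalarTower k E₀ Er := IsScalarTower.of_algebraMap_eq (fun _ => rfl)
  haveI : IsScalarTower k kr Er := IsScalarTower.of_algebraMap_eq (fun c => by
    show algebraMap E₀ Er (algebraMap k E₀ c) =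
      algebraMap kr Er (algebraMap k₁ kr (algebraMap k k₁ c))
    rw [IsScalarTower.algebraMap_apply k k₁ E₀, ← IsScalarTower.algebraMap_apply k₁ E₀ Er,
      ← IsScalarTower.algebraMap_apply k₁ kr Er])
  letI : Algebra F₀ Er := ((algebraMap E₀ Er).comp (algebraMap F₀ E₀)).toAlgebra
  haveI : IsScalarTower F₀ E₀ Er := IsScalarTower.of_algebraMap_eq (fun _ => rfl)
  haveI : IsScalarTower k F₀ Er := IsScalarTower.of_algebraMap_eq (fun c => by
    show algebraMap E₀ Er (algebraMap k E₀ c) =
      algebraMap E₀ Er (algebraMap F₀ E₀ (algebraMap k F₀ c))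
    rw [← IsScalarTower.algebraMap_apply k F₀ E₀])
  letI : Algebra K Er := ((algebraMap E₀ Er).comp (algebraMap K E₀)).toAlgebra
  haveI : IsScalarTower K E₀ Er := IsScalarTower.of_algebraMap_eq (fun _ => rfl)
  haveI : IsScalarTower k K Er := IsScalarTower.of_algebraMap_eq (fun c => by
    show algebraMap E₀ Er (algebraMap k E₀ c) =
      algebraMap E₀ Er (algebraMap K E₀ (algebraMap k K c))
    rw [← IsScalarTower.algebraMap_apply k K E₀])
  haveI : IsScalarTower F₀ K Er := IsScalarTower.of_algebraMap_eq (fun c => by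
    show algebraMap E₀ Er (algebraMap F₀ E₀ c) =
      algebraMap E₀ Er (algebraMap K E₀ (algebraMap F₀ K c))
    rw [← IsScalarTower.algebraMap_apply F₀ K E₀])
  -- the Galois extension at level `r`
  set S : Set Er := Set.range (algebraMap kr Er) with hS
  haveI : Finite S := Set.finite_range _
  have hSint : ∀ w ∈ S, IsIntegral F₀ w := by
    rintro _ ⟨c, rfl⟩
    have h1 : IsIntegral k (algebraMap kr Er c) :=
      (Algebra.IsIntegral.isIntegral (R := k) c).map (IsScalarTower.toAlgHom k kr Er)
    exact h1.tower_top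
  have hgen : Algebra.adjoin F₀ (Set.range (algebraMap E₀ Er) ∪ S) = ⊤ := by
    rw [eq_top_iff]
    rintro w -
    obtain ⟨t, rfl⟩ := h.2 w
    induction t using TensorProduct.induction_on with
    | zero => rw [map_zero]; exact zero_mem _
    | tmul c e =>
      rw [Algebra.TensorProduct.productMap_apply_tmul]
      exact mul_mem (Algebra.subset_adjoin (Or.inr ⟨c, rfl⟩))
        (Algebra.subset_adjoin (Or.inl ⟨e, rfl⟩))
    | add a b ha hb => rw [map_add]; exact add_mem ha hb
  obtain ⟨hgal, hnle, hfinLL⟩ := isGalois_adjoin S hSint hgen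
  set LL : IntermediateField F₀ Er := adjoin F₀ S with hLLdef
  letI algkrLL : Algebra kr LL := (RingHom.codRestrict (algebraMap kr Er) LL
      (fun c => subset_adjoin F₀ S ⟨c, rfl⟩)).toAlgebra
  haveI : IsScalarTower kr LL Er := IsScalarTower.of_algebraMap_eq (fun _ => rfl)
  haveI : IsScalarTower k kr LL := IsScalarTower.of_algebraMap_eq (fun c => Subtype.ext (by
    show algebraMap k Er c = algebraMap kr Er (algebraMap k kr c)
    exact IsScalarTower.algebraMap_apply k kr Er c))
  haveI : IsScalarTower k LL Er := IsScalarTower.of_algebraMap_eq (fun _ => rfl)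
  set KK : IntermediateField LL Er := adjoin LL (Set.range (algebraMap K Er)) with hKKdef
  letI algKKK : Algebra K KK := (RingHom.codRestrict (algebraMap K Er) KK
      (fun z => subset_adjoin LL _ ⟨z, rfl⟩)).toAlgebra
  haveI : IsScalarTower K KK Er := IsScalarTower.of_algebraMap_eq (fun _ => rfl)
  haveI : IsScalarTower kr KK Er := IsScalarTower.of_algebraMap_eq (fun _ => rfl)
  haveI : IsScalarTower k kr KK := IsScalarTower.of_algebraMap_eq (fun c => Subtype.ext (by
    show algebraMap k Er c = algebraMap kr Er (algebraMap k kr c)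
    exact IsScalarTower.algebraMap_apply k kr Er c))
  haveI : IsScalarTower k K KK := IsScalarTower.of_algebraMap_eq (fun c => Subtype.ext (by
    show algebraMap k Er c = algebraMap K Er (algebraMap k K c)
    exact IsScalarTower.algebraMap_apply k K Er c))
  -- function fields
  have hxt : Transcendental k x := Groth.Agent.Helper16.FF.transcendental_of_adjoin_eq_top hF₀ hx
  have hLLff : IsFunctionField kr LL :=
    isFunctionField_of_tower hEr (algebraMap F₀ LL x)
      (transcendental_scalarExt' (k := k) hxt)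
  have hxtK : Transcendental k (algebraMap F₀ K x) :=
    (transcendental_algebraMap_iff (algebraMap F₀ K).injective).2 hxt
  have hKKff : IsFunctionField kr KK :=
    isFunctionField_of_tower hEr (algebraMap K KK (algebraMap F₀ K x))
      (transcendental_scalarExt' (k := k) hxtK)
  -- constant field extensions
  have hfL : IsField (kr ⊗[k] F₀) :=
    MulEquiv.isField (Groth.Agent.Helper16.FF.isField_tensor_of_separable hF₀.2 kr)
      (Algebra.TensorProduct.comm k kr F₀).toMulEquiv
  have hbL := bijective_of_closure (k := k) (k' := kr) (K := F₀) (M := LL) hfL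
    (closure_eq_top_adjoin LL rfl (fun _ => rfl))
  have hfK : IsField (kr ⊗[k] K) :=
    MulEquiv.isField (Groth.Agent.Helper16.FF.isField_tensor_of_separable hK.2 kr)
      (Algebra.TensorProduct.comm k kr K).toMulEquiv
  have hbK := bijective_of_closure (k := k) (k' := kr) (K := K) (M := KK) hfK
    (closure_eq_top_adjoin₂ LL rfl (fun _ => rfl) KK rfl (fun _ => rfl) (fun _ => rfl)
      (fun z => ⟨algebraMap F₀ K z, (IsScalarTower.algebraMap_apply F₀ K Er z).symm⟩))
  haveI : ExpChar kr p := expChar_of_injective_algebraMap (algebraMap k kr).injective p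
  have hcardr : Nat.card kr = (p ^ a) ^ 2 := by
    rw [Module.natCard_eq_pow_finrank (K := k) (V := kr), hdr, hcard]
  have key := level_bound' (k := k) (kr := kr) (F₀ := F₀) (K := K) (LL := LL) (KK := KK)
    (Er := Er) hF₀ hK hLLff hKKff hEr hbL hbK x hx p a hcardr (by rw [hgr]; exact hq)
  rw [hdr, hgr] at key
  refine key.trans ?_
  have hnle' : (Module.finrank LL Er : ℝ) ≤ (Module.finrank F₀ E₀ : ℝ) := by exact_mod_cast hnle
  gcongr

end Groth.Agent.Helper27.Wl
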