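import Mathlib
import Groth.Agent.Lib.Helper27.SnC
import Groth.Agent.Lib.Helper27.SnD
import Groth.Agent.Lib.Helper27.CgD
import Groth.Agent.Lib.Helper27.WlT
import Groth.Agent.Lib.Helper16.FF.GeomF

set_option autoImplicit false

namespace Groth.Agent.Helper27.Sn

open FunFld Polynomial IntermediateField Groth.Agent.Helper16.FFW TensorProduct
open scoped WithZero

universe u u' v v'

variable {k : Type u} {k' : Type u'} {K : Type v} {K' : Type v'} [Field k] [Field k'] [Field K]
  [Field K'] [Algebra k k'] [Algebra k K] [Algebra K K'] [Algebra k' K'] [Algebra k K']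
  [IsScalarTower k k' K'] [IsScalarTower k K K']

theorem comp_eq (x : K) :
    (aeval (algebraMap K K' x) : k'[X] →ₐ[k'] K').toRingHom.comp
        (mapRingHom (algebraMap k k')) =
      (algebraMap K K').comp (aeval x : k[X] →ₐ[k] K).toRingHom := by
  apply Polynomial.ringHom_ext
  · intro c
    simp only [RingHom.coe_comp, Function.comp_apply, coe_mapRingHom, map_C,
      AlgHom.toRingHom_eq_coe, RingHom.coe_coe, aeval_C]
    rw [← IsScalarTower.algebraMap_apply k k' K', ← IsScalarTower.algebraMap_apply k K K']
  · simp only [RingHom.coe_comp, Function.comp_apply, coe_mapRingHom, map_X,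
      AlgHom.toRingHom_eq_coe, RingHom.coe_coe, aeval_X]

theorem eval₂_map_eq (x w : K) (H : k[X][X]) :
    (H.map (mapRingHom (algebraMap k k'))).eval₂
        (aeval (algebraMap K K' x) : k'[X] →ₐ[k'] K').toRingHom (algebraMap K K' w) =
      algebraMap K K' (H.eval₂ (aeval x : k[X] →ₐ[k] K).toRingHom w) := by
  rw [eval₂_map, comp_eq, hom_eval₂]

/-- generation of the constant extension -/
theorem adjoin_eq_top'
    (h : Function.Bijective (Algebra.TensorProduct.productMap
      (IsScalarTower.toAlgHom k k' K') (IsScalarTower.toAlgHom k K K')))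
    (x y : K) (hgen : adjoin k ({x, y} : Set K) = ⊤) :
    adjoin k' ({algebraMap K K' x, algebraMap K K' y} : Set K') = ⊤ := by
  have hsub : ∀ w : K, algebraMap K K' w ∈
      adjoin k' ({algebraMap K K' x, algebraMap K K' y} : Set K') := by
    intro w
    have hw : w ∈ adjoin k ({x, y} : Set K) := by rw [hgen]; trivial
    induction hw using IntermediateField.adjoin_induction with
    | mem t ht =>
      rcases ht with rfl | ht
      · exact subset_adjoin _ _ (by simp)
      · rw [Set.mem_singleton_iff] at ht
        rw [ht]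
        exact subset_adjoin _ _ (by simp)
    | algebraMap c =>
      rw [← IsScalarTower.algebraMap_apply k K K', IsScalarTower.algebraMap_apply k k' K']
      exact IntermediateField.algebraMap_mem _ _
    | add a b _ _ ha hb => rw [map_add]; exact add_mem ha hb
    | inv a _ ha => rw [map_inv₀]; exact inv_mem ha
    | mul a b _ _ ha hb => rw [map_mul]; exact mul_mem ha hb
  rw [eq_top_iff]
  rintro w -
  obtain ⟨t, rfl⟩ := h.2 w
  induction t using TensorProduct.induction_on with
  | zero => rw [map_zero]; exact zero_mem _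
  | tmul c a =>
    rw [Algebra.TensorProduct.productMap_apply_tmul]
    exact mul_mem (IntermediateField.algebraMap_mem _ c) (hsub a)
  | add a b ha hb => rw [map_add]; exact add_mem ha hb

/-- integral elements over `k[x]` are in the valuation ring of finite places -/
theorem val_le_one_of_monic (x y : K) (G : k[X][X]) (hGm : G.Monic)
    (hG : G.eval₂ (aeval x : k[X] →ₐ[k] K).toRingHom y = 0) (P : Place k K) (hPx : P.1 x ≤ 1) :
    P.1 y ≤ 1 := by
  letI : Algebra k[X] K := (aeval x : k[X] →ₐ[k] K).toRingHom.toAlgebra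
  letI : Algebra k[X] P.O := (RingHom.codRestrict (aeval x : k[X] →ₐ[k] K).toRingHom P.O.toSubring
    (fun p => (Place.mem_O_iff P _).2 (val_aeval_le_one P hPx p))).toAlgebra
  haveI : IsScalarTower k[X] P.O K := IsScalarTower.of_algebraMap_eq (fun _ => rfl)
  have hy : IsIntegral k[X] y := ⟨G, hGm, hG⟩
  have h1 : IsIntegral P.O y := hy.tower_top
  obtain ⟨a, ha⟩ := IsIntegrallyClosed.algebraMap_eq_of_integral h1
  rw [← ha]
  exact (Place.mem_O_iff P _).1 a.2

/-- **nonsingularity away from the zeros of `θ`** -/
theorem integralClosure_le_adjoin_of_unit [FiniteDimensional k k']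
    (h : Function.Bijective (Algebra.TensorProduct.productMap
      (IsScalarTower.toAlgHom k k' K') (IsScalarTower.toAlgHom k K K')))
    (hK : IsFunctionField k K)
    (x y : K) (hxt : Transcendental k x) (hgen : adjoin k ({x, y} : Set K) = ⊤)
    (G : k[X][X]) (hGm : G.Monic) (hG : G.eval₂ (aeval x : k[X] →ₐ[k] K).toRingHom y = 0)
    (P : Place k K) (hPx : P.1 x ≤ 1)
    (hPθ : P.1 ((derivative G).eval₂ (aeval x : k[X] →ₐ[k] K).toRingHom y) = 1)
    [Algebra P.O K'] [IsScalarTower P.O K K'] :
    integralClosure P.O K' ≤ Algebra.adjoin P.O (Set.range (algebraMap k' K')) := by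
  intro z hz
  haveI : FiniteDimensional K K' := Cg.finite_scalarExt' h
  haveI : Algebra.IsAlgebraic k k' := Algebra.IsAlgebraic.of_finite k k'
  set θ := (derivative G).eval₂ (aeval x : k[X] →ₐ[k] K).toRingHom y with hθdef
  have hθ0 : θ ≠ 0 := by
    intro h0
    rw [h0, map_zero] at hPθ
    exact zero_ne_one hPθ
  obtain ⟨s, hsP, hs⟩ := exists_clearing_global hK x hxt P hPx z hz
  have hs0 : s ≠ 0 := by
    rintro rfl
    rw [map_zero] at hsP
    exact zero_ne_one hsP
  set u := algebraMap K K' s * z with hu
  -- integrality of `u` over `k[X]`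
  set F := adjoin k ({x} : Set K) with hF
  have hFF : IsFunctionField k F :=
    Groth.Agent.Helper16.FF.isFunctionField_intermediateField hK _
      ⟨x, mem_adjoin_simple_self k x, hxt⟩
  haveI : FiniteDimensional F K := Groth.Agent.Helper16.FF.finite_of_transcendental hK hxt
  haveI : FiniteDimensional F K' := Module.Finite.trans K K'
  have hgenF : adjoin k ({AdjoinSimple.gen k x} : Set F) = ⊤ := by
    apply lift_injective
    rw [lift_adjoin_simple, lift_top, AdjoinSimple.coe_gen]
  obtain ⟨q, hqm, hq⟩ := exists_monic_of_forall_le (L := K') hFF (AdjoinSimple.gen k x) hgenF u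
    (fun Q hQ => hs Q hQ)
  set x' := algebraMap K K' x with hx'
  set y' := algebraMap K K' y with hy'
  have hq' : (q.map (mapRingHom (algebraMap k k'))).eval₂
      (aeval x' : k'[X] →ₐ[k'] K').toRingHom u = 0 := by
    rw [eval₂_map, comp_eq]
    have : (algebraMap K K').comp (aeval x : k[X] →ₐ[k] K).toRingHom =
        (algebraMap F K').comp (aeval (AdjoinSimple.gen k x) : k[X] →ₐ[k] F).toRingHom := by
      apply Polynomial.ringHom_ext
      · intro c
        simp only [RingHom.coe_comp, Function.comp_apply, AlgHom.toRingHom_eq_coe,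
          RingHom.coe_coe, aeval_C]
        rw [← IsScalarTower.algebraMap_apply k K K', ← IsScalarTower.algebraMap_apply k F K']
      · simp only [RingHom.coe_comp, Function.comp_apply, AlgHom.toRingHom_eq_coe,
          RingHom.coe_coe, aeval_X]
        rfl
    rw [this]
    exact hq
  -- the key inclusion
  have hx't : Transcendental k' x' := Wl.transcendental_scalarExt' (k := k) hxt
  have hgen' := adjoin_eq_top' h x y hgen
  have hG' : (G.map (mapRingHom (algebraMap k k'))).eval₂
      (aeval x' : k'[X] →ₐ[k'] K').toRingHom y' = 0 := by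
    rw [eval₂_map_eq, hG, map_zero]
  have hθ' : (derivative (G.map (mapRingHom (algebraMap k k')))).eval₂
      (aeval x' : k'[X] →ₐ[k'] K').toRingHom y' = algebraMap K K' θ := by
    rw [derivative_map, eval₂_map_eq]
  have key := mul_theta_mem (k := k') (K := K') x' y' hx't hgen'
    (G.map (mapRingHom (algebraMap k k'))) (hGm.map _) hG'
    (by rw [hθ']; exact (_root_.map_ne_zero _).2 hθ0) u
    (q.map (mapRingHom (algebraMap k k'))) (hqm.map _) hq'
  rw [hθ'] at key
  -- `k'[x', y']` lies in the adjoin
  have hPy : P.1 y ≤ 1 := val_le_one_of_monic x y G hGm hG P hPx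
  have hle : ∀ w ∈ Algebra.adjoin k' ({x', y'} : Set K'),
      w ∈ Algebra.adjoin P.O (Set.range (algebraMap k' K')) := by
    intro w hw
    induction hw using Algebra.adjoin_induction with
    | mem t ht =>
      rcases ht with rfl | ht
      · have e1 : x' = algebraMap P.O K' ⟨x, (Place.mem_O_iff P _).2 hPx⟩ :=
          (Cg.algebraMap_O_eq (K' := K') P ⟨x, (Place.mem_O_iff P _).2 hPx⟩).symm
        rw [e1]
        exact Subalgebra.algebraMap_mem _ _
      · rw [Set.mem_singleton_iff] at ht
        have e1 : y' = algebraMap P.O K' ⟨y, (Place.mem_O_iff P _).2 hPy⟩ :=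
          (Cg.algebraMap_O_eq (K' := K') P ⟨y, (Place.mem_O_iff P _).2 hPy⟩).symm
        rw [ht, e1]
        exact Subalgebra.algebraMap_mem _ _
    | algebraMap c => exact Algebra.subset_adjoin ⟨c, rfl⟩
    | add a b _ _ ha hb => exact add_mem ha hb
    | mul a b _ _ ha hb => exact mul_mem ha hb
  have hmem := hle _ key
  -- divide by the unit `s θ`
  have hval : P.1 (s * θ)⁻¹ ≤ 1 := by
    rw [map_inv₀, map_mul, hsP, hPθ, one_mul, inv_one]
  have hfinal := Cg.smul_mem_adjoin (K' := K') (k' := k') P hval hmem
  have : (s * θ)⁻¹ • (u * algebraMap K K' θ) = z := by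
    rw [Algebra.smul_def, hu, map_inv₀, map_mul]
    have h1 : algebraMap K K' s ≠ 0 := (_root_.map_ne_zero _).2 hs0
    have h2 : algebraMap K K' θ ≠ 0 := (_root_.map_ne_zero _).2 hθ0
    field_simp
  rw [this] at hfinal
  exact hfinal

end Groth.Agent.Helper27.Sn
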