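import Groth.Agent.Lib.Helper27.AdB
import Groth.Agent.Lib.Helper27.AdjC
import Groth.Agent.Lib.Helper27.SnE
import Groth.Agent.Lib.Helper27.PlnH

/-! Adjoint divisor (S12613): plane models in general position. -/

set_option autoImplicit false

namespace Groth.Agent.Helper27.Ad

open FunFld IntermediateField Groth.Agent.Helper16.FF
open scoped WithZero Polynomial

variable {k K : Type*} [Field k] [Field K] [Algebra k K]

/-- the monic polynomial attached to a homogeneous form in general position -/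
noncomputable def Gpoly (F : MvPolynomial (Fin 3) k) : k[X][X] :=
  Polynomial.C (Polynomial.C (MvPolynomial.eval ![0, 0, 1] F)⁻¹) * rho F

theorem Gpoly_monic (F : MvPolynomial (Fin 3) k) (e : ℕ) (hF : F.IsHomogeneous e)
    (hc : MvPolynomial.eval ![0, 0, 1] F ≠ 0) : (Gpoly F).Monic ∧ (Gpoly F).natDegree = e := by
  obtain ⟨hdeg, hcoeff⟩ := rho_homogeneous F e hF
  have h1 : (Gpoly F).natDegree ≤ e := (Polynomial.natDegree_C_mul_le _ _).trans hdeg
  have h2 : (Gpoly F).coeff e = 1 := by
    unfold Gpoly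
    rw [Polynomial.coeff_C_mul, hcoeff, ← Polynomial.C_mul, inv_mul_cancel₀ hc, Polynomial.C_1]
  refine ⟨Polynomial.monic_of_natDegree_le_of_coeff_eq_one e h1 h2, le_antisymm h1 ?_⟩
  apply Polynomial.le_natDegree_of_ne_zero
  rw [h2]; exact one_ne_zero

theorem Gpoly_eval₂ (F : MvPolynomial (Fin 3) k) (x y : K)
    (hF0 : MvPolynomial.aeval ![1, x, y] F = 0) :
    (Gpoly F).eval₂ (Polynomial.aeval x : k[X] →ₐ[k] K).toRingHom y = 0 := by
  unfold Gpoly
  rw [Polynomial.eval₂_mul, eval₂_rho, hF0, mul_zero]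

theorem Gpoly_derivative_eval₂ (F : MvPolynomial (Fin 3) k) (x y : K) :
    (Polynomial.derivative (Gpoly F)).eval₂ (Polynomial.aeval x : k[X] →ₐ[k] K).toRingHom y =
      algebraMap k K (MvPolynomial.eval ![0, 0, 1] F)⁻¹ *
        MvPolynomial.aeval ![1, x, y] (MvPolynomial.pderiv 2 F) := by
  unfold Gpoly
  rw [Polynomial.derivative_C_mul, Polynomial.eval₂_mul, derivative_rho, eval₂_rho,
    Polynomial.eval₂_C]
  congr 1
  simp

/-- in general position `y` is finite wherever `x` is -/
theorem val_y_le_one (F : MvPolynomial (Fin 3) k) (e : ℕ) (hF : F.IsHomogeneous e)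
    (hc : MvPolynomial.eval ![0, 0, 1] F ≠ 0) (x y : K)
    (hF0 : MvPolynomial.aeval ![1, x, y] F = 0) (P : Place k K) (hPx : P.1 x ≤ 1) :
    P.1 y ≤ 1 :=
  Sn.val_le_one_of_monic x y (Gpoly F) (Gpoly_monic F e hF hc).1 (Gpoly_eval₂ F x y hF0) P hPx

/-- the matrix exchanging the first two coordinates -/
def swapM : Matrix (Fin 3) (Fin 3) k := !![0, 1, 0; 1, 0, 0; 0, 0, 1]

theorem eval_sub_swap (F : MvPolynomial (Fin 3) k) :
    MvPolynomial.eval ![0, 0, 1] (sub swapM F) = MvPolynomial.eval ![0, 0, 1] F := by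
  rw [eval_sub]
  have h : (fun i => ∑ j, (swapM (k := k)) i j * (![0, 0, 1] : Fin 3 → k) j) = ![0, 0, 1] := by
    funext i
    fin_cases i <;> simp [swapM, Fin.sum_univ_three]
  rw [h]

theorem aeval_sub_swap (F : MvPolynomial (Fin 3) k) (e : ℕ) (hF : F.IsHomogeneous e) (x y : K)
    (hx0 : x ≠ 0) :
    MvPolynomial.aeval ![1, x⁻¹, y / x] (sub swapM F) =
      x⁻¹ ^ e * MvPolynomial.aeval ![1, x, y] F := by
  rw [aeval_sub, ← Groth.Agent.Helper17.aeval_mul_of_isHomogeneous F hF x⁻¹ ![1, x, y]]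
  have h : (fun i => ∑ j, algebraMap k K ((swapM (k := k)) i j) *
      (![1, x⁻¹, y / x] : Fin 3 → K) j) = fun i => x⁻¹ * (![1, x, y] : Fin 3 → K) i := by
    funext i
    fin_cases i
    · simp [swapM, Fin.sum_univ_three]
    · simp [swapM, Fin.sum_univ_three, hx0]
    · simp [swapM, Fin.sum_univ_three, div_eq_inv_mul]
  rw [h]

theorem val_div_le_one (F : MvPolynomial (Fin 3) k) (e : ℕ) (hF : F.IsHomogeneous e)
    (hc : MvPolynomial.eval ![0, 0, 1] F ≠ 0) (x y : K)
    (hF0 : MvPolynomial.aeval ![1, x, y] F = 0) (P : Place k K) (hPx : 1 ≤ P.1 x) :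
    P.1 (y / x) ≤ 1 := by
  have hx0 : x ≠ 0 := by
    rintro rfl
    rw [map_zero] at hPx
    exact absurd hPx (not_le.2 zero_lt_one)
  refine val_y_le_one (sub swapM F) e (sub_isHomogeneous _ F e hF) ?_ x⁻¹ (y / x) ?_ P ?_
  · rw [eval_sub_swap]; exact hc
  · rw [aeval_sub_swap F e hF x y hx0, hF0, mul_zero]
  · rw [map_inv₀]
    exact inv_le_one_of_one_le₀ hPx

/-- in general position the divisor of the map is the pole divisor of `x` -/
theorem mapDiv_eq_poleDiv (hK : IsFunctionField k K) (F : MvPolynomial (Fin 3) k) (e : ℕ)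
    (hF : F.IsHomogeneous e) (hc : MvPolynomial.eval ![0, 0, 1] F ≠ 0) (x y : K)
    (hF0 : MvPolynomial.aeval ![1, x, y] F = 0) :
    mapDiv k ![(1 : K), x, y] = poleDiv x := by
  ext P
  rw [poleDiv_apply hK]
  by_cases hPx : P.1 x ≤ 1
  · have hPy := val_y_le_one F e hF hc x y hF0 P hPx
    rw [Groth.Agent.Helper27.Loc.mapDiv_apply_eq_zero hK ![(1 : K), x, y] P
      (fun i => by fin_cases i <;> simp [hPx, hPy]) ⟨0, by simp⟩]
    have : 0 ≤ P.ord x := Groth.Agent.Helper27.Loc.ord_nonneg_of_le_one P hPx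
    rw [max_eq_right (by omega)]
  · rw [not_le] at hPx
    have hx0 : x ≠ 0 := by
      rintro rfl
      rw [map_zero] at hPx
      exact absurd hPx (not_lt.2 zero_le)
    have hPyx := val_div_le_one F e hF hc x y hF0 P hPx.le
    have hPy : P.1 y ≤ P.1 x := by
      have : y = y / x * x := by field_simp
      rw [this, map_mul]
      calc P.1 (y / x) * P.1 x ≤ 1 * P.1 x := mul_le_mul' hPyx le_rfl
        _ = P.1 x := one_mul _
    obtain ⟨-, j, hj⟩ := mapDiv_of_one hK ![(1 : K), x, y] (i₀ := 0) rfl P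
    have hle : P.1 x ≤ WithZero.exp (mapDiv k ![(1 : K), x, y] P) :=
      val_le_exp_mapDiv' hK ![(1 : K), x, y] P 1
    have hge : WithZero.exp (mapDiv k ![(1 : K), x, y] P) ≤ P.1 x := by
      rw [← hj]
      fin_cases j
      · simpa using hPx.le
      · simp
      · simpa using hPy
    have heq := le_antisymm hge hle
    rw [Place.val_eq_exp_neg_ord P hx0, WithZero.exp_inj] at heq
    rw [heq]
    have h1 : WithZero.exp (0 : ℤ) < WithZero.exp (-P.ord x) := by
      rw [← Place.val_eq_exp_neg_ord P hx0, WithZero.exp_zero]; exact hPx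
    rw [WithZero.exp_lt_exp] at h1
    rw [max_eq_left h1.le]

attribute [local instance] Sn.algF

/-- Gauss: the degree of `K` over `k(x)` in general position -/
theorem finrank_eq (hK : IsFunctionField k K) (F : MvPolynomial (Fin 3) k) (e : ℕ)
    (hF : F.IsHomogeneous e) (hc : MvPolynomial.eval ![0, 0, 1] F ≠ 0)
    (hirr : Irreducible (rho F)) (x y : K) (hxt : Transcendental k x)
    (hgen : IntermediateField.adjoin k ({x, y} : Set K) = ⊤)
    (hF0 : MvPolynomial.aeval ![1, x, y] F = 0) :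
    Module.finrank (IntermediateField.adjoin k ({x} : Set K)) K = e := by
  obtain ⟨hGm, hGdeg⟩ := Gpoly_monic F e hF hc
  have hGirr : Irreducible (Gpoly F) := by
    unfold Gpoly
    rw [irreducible_isUnit_mul]
    · exact hirr
    · exact Polynomial.isUnit_C.2 (Polynomial.isUnit_C.2 (isUnit_iff_ne_zero.2 (inv_ne_zero hc)))
  haveI := Sn.isFractionRing hxt
  have h1 := (hGm.irreducible_iff_irreducible_map_fraction_map
    (K := IntermediateField.adjoin k ({x} : Set K))).1 hGirr
  have hroot : Polynomial.aeval y ((Gpoly F).map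
      (algebraMap k[X] (IntermediateField.adjoin k ({x} : Set K)))) = 0 := by
    rw [Polynomial.aeval_def, Polynomial.eval₂_map]
    have hcomp : (algebraMap (IntermediateField.adjoin k ({x} : Set K)) K).comp
        (algebraMap k[X] (IntermediateField.adjoin k ({x} : Set K))) =
        (Polynomial.aeval x : k[X] →ₐ[k] K).toRingHom := by
      apply RingHom.ext
      intro p
      exact Sn.coe_toF x p
    rw [hcomp]
    exact Gpoly_eval₂ F x y hF0
  have h2 := minpoly.eq_of_irreducible_of_monic h1 hroot (hGm.map _)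
  have h3 := Pln.natDegree_minpoly_eq hK hxt hgen
  rw [← h2, hGm.natDegree_map, hGdeg] at h3
  exact h3.symm

end Groth.Agent.Helper27.Ad
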