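import Groth.Agent.Lib.Helper27.AdC

/-! Adjoint divisor (S12613): invariance of the adjoint coefficient at one place. -/

set_option autoImplicit false

namespace Groth.Agent.Helper27.Ad

open FunFld MvPolynomial Groth.Agent.Helper16.FF Groth.Agent.Helper27.Loc Groth.Agent.Helper27.Hasse
  Groth.Agent.Helper27.Adj
open scoped WithZero LaurentSeries

variable {k K : Type*} [Field k] [Field K] [Algebra k K]

theorem adj_at [IsAlgClosed k]
    (hK : FunFld.IsFunctionField k K) (f : MvPolynomial (Fin 3) k) (e : ℕ) (hf : f.IsHomogeneous e)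
    (x y : K) (hfxy : MvPolynomial.aeval ![(1 : K), x, y] f = 0)
    (hdx : KaehlerDifferential.D k K x ≠ 0)
    (he : (FunFld.mapDiv k ![(1 : K), x, y]).deg = e)
    (A : Matrix (Fin 3) (Fin 3) k) (hA : A.det ≠ 0)
    (u : Fin 3 → K) (hu : ∀ i, ∑ j, algebraMap k K (A i j) * u j = ![(1 : K), x, y] i)
    (hu0 : u 0 ≠ 0)
    (hfy : (MvPolynomial.aeval ![(1 : K), x, y] (MvPolynomial.pderiv 2 f)) ≠ 0)
    (hdx'0 : KaehlerDifferential.D k K (u 1 / u 0) ≠ 0)
    (P : Place k K) (ε : K →ₐ[k] LaurentSeries k) (hε : LocRes.IsExpansionAt P.1 ε) :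
    MvPolynomial.aeval ![(1 : K), u 1 / u 0, u 2 / u 0] (MvPolynomial.pderiv 2 (sub A f)) ≠ 0 ∧
    (FunFld.mapDiv k ![(1 : K), u 1 / u 0, u 2 / u 0]).deg = e ∧
    ((e : ℤ) - 3) * FunFld.mapDiv k ![(1 : K), x, y] P -
        LocRes.ordDiff ε (MvPolynomial.aeval ![(1 : K), x, y] (MvPolynomial.pderiv 2 f))⁻¹ x =
      ((e : ℤ) - 3) * FunFld.mapDiv k ![(1 : K), u 1 / u 0, u 2 / u 0] P -
        LocRes.ordDiff ε (MvPolynomial.aeval ![(1 : K), u 1 / u 0, u 2 / u 0]
          (MvPolynomial.pderiv 2 (sub A f)))⁻¹ (u 1 / u 0) := by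
  classical
  have h1 := finrank_kaehler_of_isAlgClosed hK
  set Xv : Fin 3 → K := ![(1 : K), x, y] with hXv
  set X' : Fin 3 → K := ![(1 : K), u 1 / u 0, u 2 / u 0] with hX'
  set gsub : Fin 3 → MvPolynomial (Fin 3) k := fun i => ∑ j, C (A i j) * X j with hgsub
  have hf'def : sub A f = aeval gsub f := rfl
  set f' := sub A f with hf'
  set g : Fin 3 → K := fun i => aeval Xv (pderiv i f) with hg
  -- `e ≥ 1`
  have he1 : 1 ≤ e := by
    by_contra h
    have h0 : e = 0 := by omega
    subst h0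
    have h2 := (totalDegree_zero_iff_isHomogeneous (Fin 3)).2 hf
    rw [totalDegree_eq_zero_iff_eq_C] at h2
    apply hfy
    rw [h2, pderiv_C, map_zero]
  have hX'j : ∀ j, X' j = u j / u 0 := by
    intro j
    fin_cases j
    · simp [hX', div_self hu0]
    · rfl
    · rfl
  have hsub : ∀ i, aeval X' (gsub i) = Xv i / u 0 := by
    intro i
    rw [hgsub]
    simp only [map_sum, map_mul, aeval_C, aeval_X]
    rw [← hu i, Finset.sum_div]
    refine Finset.sum_congr rfl fun j _ => ?_
    rw [hX'j, mul_div_assoc]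
  have hcomp : ∀ p : MvPolynomial (Fin 3) k,
      aeval X' (aeval gsub p) = aeval (fun i => (u 0)⁻¹ * Xv i) p := by
    intro p
    rw [comp_aeval_apply]
    have : (fun i => aeval X' (gsub i)) = fun i => (u 0)⁻¹ * Xv i := by
      funext i
      rw [hsub, div_eq_inv_mul]
    rw [this]
  have hpd : pderiv 2 f' = ∑ i, aeval gsub (pderiv i f) * C (A i 2) := by
    rw [hf'def, derivation_aeval (pderiv 2) gsub f]
    refine Finset.sum_congr rfl fun i _ => ?_
    rw [smul_eq_mul]
    congr 1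
    rw [hgsub]
    simp only [Fin.sum_univ_three, map_add, Derivation.leibniz, pderiv_C, smul_zero, add_zero,
      smul_eq_mul]
    rw [pderiv_X_of_ne (by decide : (0 : Fin 3) ≠ 2), pderiv_X_of_ne (by decide : (1 : Fin 3) ≠ 2),
      pderiv_X_self]
    ring
  have hg' : aeval X' (pderiv 2 f') * u 0 ^ (e - 1) = ∑ i, algebraMap k K (A i 2) * g i := by
    rw [hpd, map_sum, Finset.sum_mul]
    refine Finset.sum_congr rfl fun i _ => ?_
    rw [map_mul, aeval_C, hcomp,
      Groth.Agent.Helper17.aeval_mul_of_isHomogeneous _ (hf.pderiv) (u 0)⁻¹ Xv, inv_pow]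
    have := pow_ne_zero (e - 1) hu0
    field_simp
    exact mul_comm _ _
  -- Euler
  have hR1 : ∑ i, g i * Xv i = 0 := by
    have h2 := congrArg (aeval Xv) (hf.sum_X_mul_pderiv)
    rw [map_sum, map_nsmul, hfxy, smul_zero] at h2
    rw [← h2]
    refine Finset.sum_congr rfl fun i _ => ?_
    rw [map_mul, aeval_X, mul_comm]
  -- chain rule
  have hR2 : ∑ i, g i • KaehlerDifferential.D k K (Xv i) = 0 := by
    rw [← derivation_aeval (KaehlerDifferential.D k K) Xv f, hfxy, map_zero]
  have hc : ∀ j, ∃ c : K, KaehlerDifferential.D k K (u j) = c • KaehlerDifferential.D k K x :=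
    fun j => by
      obtain ⟨c, hc⟩ := (finrank_eq_one_iff_of_nonzero' (KaehlerDifferential.D k K x) hdx).1 h1
        (KaehlerDifferential.D k K (u j))
      exact ⟨c, hc.symm⟩
  choose c hc using hc
  have hinj : ∀ a b : K, a • KaehlerDifferential.D k K x = b • KaehlerDifferential.D k K x →
      a = b := by
    intro a b hab
    have : (a - b) • KaehlerDifferential.D k K x = 0 := by rw [sub_smul, hab, sub_self]
    rcases smul_eq_zero.1 this with h | h
    · exact sub_eq_zero.1 h
    · exact absurd h hdx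
  have hdX : ∀ i, KaehlerDifferential.D k K (Xv i) =
      (∑ j, algebraMap k K (A i j) * c j) • KaehlerDifferential.D k K x := by
    intro i
    rw [← hu i, map_sum, Finset.sum_smul]
    refine Finset.sum_congr rfl fun j _ => ?_
    rw [Derivation.leibniz, Derivation.map_algebraMap, smul_zero, add_zero, hc j, smul_smul]
  have hY0 : ∑ j, algebraMap k K (A 0 j) * c j = 0 := by
    apply hinj
    rw [← hdX 0, zero_smul]
    show KaehlerDifferential.D k K (1 : K) = 0
    exact Derivation.map_one_eq_zero _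
  have hY1 : ∑ j, algebraMap k K (A 1 j) * c j = 1 := by
    apply hinj
    rw [← hdX 1, one_smul]
    rfl
  have hR2' : ∑ i, g i * ∑ j, algebraMap k K (A i j) * c j = 0 := by
    apply hinj
    rw [zero_smul, ← hR2, Finset.sum_smul]
    refine Finset.sum_congr rfl fun i _ => ?_
    rw [hdX i, smul_smul]
  have hR1' : ∑ i, g i * ∑ j, algebraMap k K (A i j) * u j = 0 := by
    rw [← hR1]
    refine Finset.sum_congr rfl fun i _ => ?_
    rw [hu i]
  have hX0 : ∑ j, algebraMap k K (A 0 j) * u j = 1 := hu 0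
  -- the key identity
  have hkey : ∑ i, algebraMap k K (A i 2) * g i =
      algebraMap k K A.det * g 2 * (u 0 * c 1 - u 1 * c 0) := by
    rw [Matrix.det_fin_three]
    simp only [Fin.sum_univ_three, map_sub, map_add, map_mul] at hR1' hR2' hX0 hY0 hY1 ⊢
    exact cross_identity _ _ _ _ _ _ _ _ _ _ _ _ _ _ _ _ _ _ hR1' hR2' hX0 hY0 hY1
  set c' : K := (u 0)⁻¹ ^ 2 * (u 0 * c 1 - u 1 * c 0) with hc'
  have hdx' : KaehlerDifferential.D k K (u 1 / u 0) = c' • KaehlerDifferential.D k K x := by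
    rw [Derivation.leibniz_div, hc 1, hc 0, hc', smul_smul, smul_smul, ← sub_smul, smul_smul]
  have hdet : algebraMap k K A.det ≠ 0 := by
    rw [Ne, map_eq_zero_iff _ (algebraMap k K).injective]
    exact hA
  have hE : aeval X' (pderiv 2 f') * u 0 ^ (e - 1) =
      algebraMap k K A.det * g 2 * c' * u 0 ^ 2 := by
    rw [hg', hkey, hc']
    field_simp
  have hc'0 : c' ≠ 0 := by
    intro h0
    rw [h0, zero_smul] at hdx'
    exact hdx'0 hdx'
  have hfy' : aeval X' (pderiv 2 f') ≠ 0 := by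
    intro h0
    rw [h0, zero_mul] at hE
    exact mul_ne_zero (mul_ne_zero (mul_ne_zero hdet hfy) hc'0) (pow_ne_zero _ hu0) hE.symm
  -- the divisors of the maps
  have hM : mapDiv k X' = mapDiv k Xv + div k (u 0) := by
    ext P
    rw [Finsupp.add_apply, div_apply hK]
    exact mapDiv_change hK x y A hA u hu hu0 P
  have hdeg : (mapDiv k X').deg = (mapDiv k Xv).deg := by
    rw [hM, Groth.Agent.Helper16.FFW.Divisor.deg_add, deg_div hK, add_zero]
  refine ⟨hfy', by rw [hdeg, he], ?_⟩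
  rw [ordDiff_mul h1 P ε hε _ x (inv_ne_zero hfy) hdx,
    ordDiff_mul h1 P ε hε _ (u 1 / u 0) (inv_ne_zero hfy') hdx'0,
    ordDiff_chain' h1 P ε hε x (u 1 / u 0) c' hdx hc'0 hdx',
    mapDiv_change hK x y A hA u hu hu0 P, Place.ord_inv, Place.ord_inv]
  have hord := congrArg P.ord hE
  rw [Place.ord_mul P hfy' (pow_ne_zero _ hu0), Place.ord_pow,
    Place.ord_mul P (mul_ne_zero (mul_ne_zero hdet hfy) hc'0) (pow_ne_zero _ hu0),
    Place.ord_mul P (mul_ne_zero hdet hfy) hc'0, Place.ord_mul P hdet hfy,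
    Place.ord_algebraMap, Place.ord_pow] at hord
  have hcast : ((e - 1 : ℕ) : ℤ) = (e : ℤ) - 1 := by omega
  rw [hcast] at hord
  push_cast at hord
  linarith

end Groth.Agent.Helper27.Ad
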