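import Groth.Agent.Lib.Helper27.AdD

/-! Adjoint divisor (S12613): nonsingularity in another chart. -/

set_option autoImplicit false

namespace Groth.Agent.Helper27.Ad

open FunFld Groth.Agent.Helper16.FF
open scoped WithZero

variable {k K : Type*} [Field k] [Field K] [Algebra k K]

theorem u_eq (φ : Fin 3 → K) (A : Matrix (Fin 3) (Fin 3) k) (hA : A.det ≠ 0)
    (u : Fin 3 → K) (hu : ∀ i, ∑ j, algebraMap k K (A i j) * u j = φ i) (l : Fin 3) :
    u l = ∑ i, algebraMap k K (A⁻¹ l i) * φ i := by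
  have hinv : A⁻¹ * A = 1 := Matrix.nonsing_inv_mul A (isUnit_iff_ne_zero.2 hA)
  calc u l = ∑ j, algebraMap k K ((1 : Matrix (Fin 3) (Fin 3) k) l j) * u j := by
        rw [Finset.sum_eq_single l]
        · simp
        · intro j _ hj
          rw [Matrix.one_apply_ne' hj, map_zero, zero_mul]
        · intro h; exact absurd (Finset.mem_univ l) h
    _ = ∑ j, (∑ i, algebraMap k K (A⁻¹ l i) * algebraMap k K (A i j)) * u j := by
        refine Finset.sum_congr rfl fun j _ => ?_
        rw [← hinv, Matrix.mul_apply, map_sum]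
        simp only [map_mul]
    _ = ∑ i, algebraMap k K (A⁻¹ l i) * φ i := by
        simp_rw [← hu, Finset.mul_sum, Finset.sum_mul]
        rw [Finset.sum_comm]
        refine Finset.sum_congr rfl fun i _ => Finset.sum_congr rfl fun j _ => ?_
        ring

theorem val_sum_le (Q : Place k K) (c : Fin 3 → k) (v : Fin 3 → K) (b : WithZero (Multiplicative ℤ))
    (hv : ∀ i, Q.1 (v i) ≤ b) : Q.1 (∑ i, algebraMap k K (c i) * v i) ≤ b := by
  apply Valuation.map_sum_le
  intro i _
  rw [map_mul]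
  calc Q.1 (algebraMap k K (c i)) * Q.1 (v i) ≤ 1 * b := mul_le_mul' (Q.2.1 _) (hv i)
    _ = b := one_mul b

theorem nonsingular_iff (x y : K) (A : Matrix (Fin 3) (Fin 3) k) (hA : A.det ≠ 0)
    (u : Fin 3 → K) (hu : ∀ i, ∑ j, algebraMap k K (A i j) * u j = ![(1 : K), x, y] i)
    (hu0 : u 0 ≠ 0) (Q : Place k K) (h1 : Q.1 (u 1 / u 0) ≤ 1) (h2 : Q.1 (u 2 / u 0) ≤ 1) :
    IsNonsingularAt ![(1 : K), x, y] Q ↔
      ∀ z : K, Q.1 z ≤ 1 →
        z ∈ locRing (Algebra.adjoin k ({u 1 / u 0, u 2 / u 0} : Set K)) Q := by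
  classical
  set φ : Fin 3 → K := ![(1 : K), x, y] with hφ
  set R' := Algebra.adjoin k ({u 1 / u 0, u 2 / u 0} : Set K) with hR'
  have hQu0 : 0 < Q.1 (u 0) := zero_lt_iff.2 (by rw [Ne, map_eq_zero]; exact hu0)
  have hQu : ∀ j, Q.1 (u j) ≤ Q.1 (u 0) := by
    intro j
    fin_cases j
    · exact le_rfl
    · have := h1
      rwa [map_div₀, div_le_one₀ hQu0] at this
    · have := h2
      rwa [map_div₀, div_le_one₀ hQu0] at this
  have hQφ : ∀ i, Q.1 (φ i) ≤ Q.1 (u 0) := by
    intro i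
    rw [← hu i]
    exact val_sum_le Q (fun j => A i j) u _ hQu
  have hu_eq := u_eq φ A hA u hu
  have hu0span : u 0 ∈ Submodule.span k (Set.range φ) := by
    rw [hu_eq 0]
    refine Submodule.sum_mem _ fun i _ => ?_
    rw [← Algebra.smul_def]
    exact Submodule.smul_mem _ _ (Submodule.subset_span ⟨i, rfl⟩)
  have hx₂ : u 1 / u 0 ∈ R' := Algebra.subset_adjoin (by simp)
  have hy₂ : u 2 / u 0 ∈ R' := Algebra.subset_adjoin (by simp)
  constructor
  · intro hns z hz
    have h3 := Pln.mem_locRing_chart φ Q (u 0) hu0span hu0 hQφ (hns z hz)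
    refine locRing_le_locRing ?_ h3
    refine le_trans ?_ (le_locRing R' Q)
    apply Algebra.adjoin_le
    rintro _ ⟨i, rfl⟩
    show φ i / u 0 ∈ R'
    rw [← hu i, Finset.sum_div, Fin.sum_univ_three]
    refine Subalgebra.add_mem _ (Subalgebra.add_mem _ ?_ ?_) ?_
    · rw [mul_div_assoc, div_self hu0, mul_one]
      exact Subalgebra.algebraMap_mem _ _
    · rw [mul_div_assoc]
      exact Subalgebra.mul_mem _ (Subalgebra.algebraMap_mem _ _) hx₂
    · rw [mul_div_assoc]
      exact Subalgebra.mul_mem _ (Subalgebra.algebraMap_mem _ _) hy₂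
  · intro h z hz
    obtain ⟨j, hj0, hj⟩ := exists_max_index φ Q ⟨0, by simp [hφ]⟩
    rw [inLocRing_iff φ Q hj0 hj z]
    have hQj0 : 0 < Q.1 (φ j) := zero_lt_iff.2 (by rw [Ne, map_eq_zero]; exact hj0)
    -- `u l / φ j` lies in the affine ring
    have huj : ∀ l, u l / φ j ∈ affRing (k := k) φ j := by
      intro l
      rw [hu_eq l, Finset.sum_div]
      refine Subalgebra.sum_mem _ fun i _ => ?_
      rw [mul_div_assoc]
      exact Subalgebra.mul_mem _ (Subalgebra.algebraMap_mem _ _)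
        (Algebra.subset_adjoin ⟨i, rfl⟩)
    have hunit : Q.1 (u 0 / φ j) = 1 := by
      rw [map_div₀]
      have hle : Q.1 (u 0) ≤ Q.1 (φ j) := by
        rw [hu_eq 0]
        exact val_sum_le Q (fun i => A⁻¹ 0 i) φ _ hj
      rw [le_antisymm hle (hQφ j)]
      exact div_self hQj0.ne'
    have hmem : ∀ l, u l / u 0 ∈ locRing (affRing (k := k) φ j) Q := by
      intro l
      have e : u l / u 0 = u l / φ j * (u 0 / φ j)⁻¹ := by
        field_simp
      rw [e]
      exact (locRing _ Q).mul_mem (le_locRing _ _ (huj l))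
        (inv_mem_locRing (le_locRing _ _ (huj 0)) hunit)
    refine locRing_le_locRing ?_ (h z hz)
    apply Algebra.adjoin_le
    intro w hw
    rcases hw with rfl | hw
    · exact hmem 1
    · rw [Set.mem_singleton_iff] at hw
      rw [hw]; exact hmem 2

end Groth.Agent.Helper27.Ad
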