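import Groth.Agent.Lib.Helper27.AdE
import Groth.Agent.Lib.Helper27.InrB

/-! Adjoint divisor (S12613): local lemmas for the rational subfield. -/

set_option autoImplicit false

namespace Groth.Agent.Helper27.Ad

open FunFld IntermediateField Groth.Agent.Helper16.FF
open scoped WithZero Polynomial

variable {k K : Type*} [Field k] [Field K] [Algebra k K]

/-- a polynomial in `x` not vanishing at the centre of `x` is a unit at the place -/
theorem val_aeval_eq_one (Q : Place k K) (x : K) (hQx : Q.1 x ≤ 1) (a : k)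
    (ha : Q.1 (x - algebraMap k K a) < 1) (p : k[X]) (hp : p.eval a ≠ 0) :
    Q.1 (Polynomial.aeval x p) = 1 := by
  have h1 : p = Polynomial.C (p.eval a) +
      (Polynomial.X - Polynomial.C a) * (p /ₘ (Polynomial.X - Polynomial.C a)) := by
    have := Polynomial.modByMonic_add_div p (Polynomial.X - Polynomial.C a)
    rw [Polynomial.modByMonic_X_sub_C_eq_C_eval] at this
    exact this.symm
  have h2 : Polynomial.aeval x p = algebraMap k K (p.eval a) +
      (x - algebraMap k K a) *
        Polynomial.aeval x (p /ₘ (Polynomial.X - Polynomial.C a)) := by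
    conv_lhs => rw [h1]
    simp
  have h3 : Q.1 ((x - algebraMap k K a) *
      Polynomial.aeval x (p /ₘ (Polynomial.X - Polynomial.C a))) < 1 := by
    rw [map_mul]
    calc Q.1 (x - algebraMap k K a) * Q.1 (Polynomial.aeval x _)
        ≤ Q.1 (x - algebraMap k K a) * 1 :=
          mul_le_mul' le_rfl (Groth.Agent.Helper16.FFW.val_aeval_le_one Q hQx _)
      _ = Q.1 (x - algebraMap k K a) := mul_one _
      _ < 1 := ha
  have h4 : Q.1 (algebraMap k K (p.eval a)) = 1 := Place.val_algebraMap Q hp
  rw [h2, Valuation.map_add_eq_of_lt_left _ (by rw [h4]; exact h3), h4]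

/-- an element of `k(x)` finite at `Q` is a fraction of polynomials in `x` with denominator a unit
at `Q` -/
theorem rat_mem_locRing [IsAlgClosed k] (hK : IsFunctionField k K) (Q : Place k K) (x : K)
    (hxt : Transcendental k x) (hQx : Q.1 x ≤ 1) (w : K)
    (hw : w ∈ IntermediateField.adjoin k ({x} : Set K)) (hQw : Q.1 w ≤ 1) :
    w ∈ locRing (Algebra.adjoin k ({x} : Set K)) Q := by
  obtain ⟨a, ha⟩ := exists_const_sub_lt_one hK (Place.deg_eq_one hK Q) hQx
  obtain ⟨n, d, hnd⟩ := (IntermediateField.mem_adjoin_simple_iff k w).1 hw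
  by_cases hn0 : n = 0
  · rw [hnd, hn0, map_zero, zero_div]; exact Subalgebra.zero_mem _
  by_cases hd0 : d = 0
  · rw [hnd, hd0, map_zero, _root_.div_zero]; exact Subalgebra.zero_mem _
  obtain ⟨n₁, hn₁, hn₁'⟩ := Polynomial.exists_eq_pow_rootMultiplicity_mul_and_not_dvd n hn0 a
  obtain ⟨d₁, hd₁, hd₁'⟩ := Polynomial.exists_eq_pow_rootMultiplicity_mul_and_not_dvd d hd0 a
  set i := Polynomial.rootMultiplicity a n with hi
  set j := Polynomial.rootMultiplicity a d with hj
  set t : K := x - algebraMap k K a with ht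
  have ht0 : t ≠ 0 := by
    intro h0
    apply hxt
    have : x = algebraMap k K a := sub_eq_zero.1 h0
    rw [this]
    exact isAlgebraic_algebraMap a
  have hQt0 : Q.1 t ≠ 0 := by rw [Ne, map_eq_zero]; exact ht0
  have hn₁a : n₁.eval a ≠ 0 := by
    intro h0
    exact hn₁' (Polynomial.dvd_iff_isRoot.2 h0)
  have hd₁a : d₁.eval a ≠ 0 := by
    intro h0
    exact hd₁' (Polynomial.dvd_iff_isRoot.2 h0)
  have hQn₁ := val_aeval_eq_one Q x hQx a ha n₁ hn₁a
  have hQd₁ := val_aeval_eq_one Q x hQx a ha d₁ hd₁a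
  have hxn : Polynomial.aeval x n = t ^ i * Polynomial.aeval x n₁ := by
    conv_lhs => rw [hn₁]
    simp [ht]
  have hxd : Polynomial.aeval x d = t ^ j * Polynomial.aeval x d₁ := by
    conv_lhs => rw [hd₁]
    simp [ht]
  have hd₁0 : Polynomial.aeval x d₁ ≠ 0 := by
    intro h0
    rw [h0, map_zero] at hQd₁
    exact zero_ne_one hQd₁
  -- `j ≤ i`
  have hji : j ≤ i := by
    by_contra hlt
    rw [not_le] at hlt
    have hw' : w * t ^ (j - i) * Polynomial.aeval x d₁ = Polynomial.aeval x n₁ := by
      rw [hnd, hxn, hxd]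
      have : t ^ j = t ^ i * t ^ (j - i) := by rw [← pow_add]; congr 1; omega
      rw [this]
      have hti := pow_ne_zero i ht0
      have htji := pow_ne_zero (j - i) ht0
      field_simp
    have hval := congrArg Q.1 hw'
    rw [map_mul, map_mul, hQd₁, hQn₁, mul_one, map_pow] at hval
    have hlt1 : Q.1 t ^ (j - i) < 1 := pow_lt_one₀ zero_le ha (by omega)
    have : Q.1 w * Q.1 t ^ (j - i) < 1 := by
      calc Q.1 w * Q.1 t ^ (j - i) ≤ 1 * Q.1 t ^ (j - i) := mul_le_mul' hQw le_rfl
        _ = Q.1 t ^ (j - i) := one_mul _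
        _ < 1 := hlt1
    rw [hval] at this
    exact lt_irrefl _ this
  have hxA : x ∈ Algebra.adjoin k ({x} : Set K) := Algebra.subset_adjoin rfl
  have htA : t ∈ Algebra.adjoin k ({x} : Set K) :=
    Subalgebra.sub_mem _ hxA (Subalgebra.algebraMap_mem _ _)
  refine mem_locRing.2 ⟨t ^ (i - j) * Polynomial.aeval x n₁,
    Subalgebra.mul_mem _ (Subalgebra.pow_mem _ htA _) (Polynomial.aeval_mem_adjoin_singleton k x),
    Polynomial.aeval x d₁, Polynomial.aeval_mem_adjoin_singleton k x, hQd₁, ?_⟩
  rw [hnd, hxn, hxd]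
  have : t ^ i = t ^ j * t ^ (i - j) := by rw [← pow_add]; congr 1; omega
  rw [this]
  have htj := pow_ne_zero j ht0
  field_simp

/-- a generator of a rational function field vanishing at a place is a local parameter there -/
theorem val_eq_exp_neg_one_of_adjoin_eq_top (hK : IsFunctionField k K) {t : K}
    (h : IntermediateField.adjoin k ({t} : Set K) = ⊤) (P : Place k K) (hP : P.1 t < 1) :
    P.1 t = WithZero.exp (-1 : ℤ) := by
  classical
  have htt := transcendental_of_adjoin_eq_top hK h
  have ht0 : t ≠ 0 := fun h0 => htt (h0 ▸ isAlgebraic_zero)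
  obtain ⟨P₀, -, hpd⟩ := poleDiv_eq_single_of_adjoin_eq_top hK (x := t⁻¹)
    (by rw [adjoin_inv, h])
  have h1 := DFunLike.congr_fun hpd P
  rw [poleDiv_apply hK, Place.ord_inv, neg_neg] at h1
  have hpos : 0 < P.ord t := (Place.val_lt_one_iff P ht0).1 hP
  rw [max_eq_left hpos.le, Finsupp.single_apply] at h1
  have h2 : P.ord t = 1 := by
    split_ifs at h1 with h3
    · exact h1
    · omega
  rw [Place.val_eq_exp_neg_ord P ht0, h2]

/-- residue fields are trivial over an algebraically closed constant field -/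
theorem res_surj [IsAlgClosed k] {K' : Type*} [Field K'] [Algebra k K'] [Algebra K K']
    [IsScalarTower k K K'] (hK' : IsFunctionField k K') (P : Place k K) (Q : Place k K')
    [P.1.HasExtension Q.1] :
    Function.Surjective
      (algebraMap (IsLocalRing.ResidueField P.O) (IsLocalRing.ResidueField Q.O)) := by
  intro r
  obtain ⟨z, rfl⟩ := IsLocalRing.residue_surjective r
  have hz : Q.1 (z : K') ≤ 1 := (Place.mem_O_iff Q _).1 z.2
  obtain ⟨c, hc⟩ := exists_const_sub_lt_one hK' (Place.deg_eq_one hK' Q) hz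
  refine ⟨algebraMap k (IsLocalRing.ResidueField P.O) c, ?_⟩
  rw [Inr.algebraMap_res_comp P Q c]
  show IsLocalRing.residue Q.O (algebraMap k Q.O c) = IsLocalRing.residue Q.O z
  rw [eq_comm, ← sub_eq_zero, ← map_sub, Groth.Agent.Helper16.FFW.Place.residue_eq_zero_iff]
  exact hc

end Groth.Agent.Helper27.Ad
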