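import Mathlib
import Groth.Agent.Lib.Helper27.DfsA

set_option autoImplicit false

namespace Groth.Agent.Helper27.Dfs

open FunFld Polynomial Groth.Agent.Helper16.FFW IntermediateField
open scoped WithZero

variable {k K K' : Type*} [Field k] [Field K] [Field K'] [Algebra k K] [Algebra K K']
  [Algebra k K'] [IsScalarTower k K K']

/-- the shape of the minimal polynomial of a special uniformizer -/
theorem shape [FiniteDimensional K K'] (hK : IsFunctionField k K)
    (P : Place k K) (Q : Place k K') (hQP : IsOver Q P)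
    [P.1.HasExtension Q.1]
    (hf : Function.Surjective
      (algebraMap (IsLocalRing.ResidueField P.O) (IsLocalRing.ResidueField Q.O)))
    [Algebra P.O K'] [IsScalarTower P.O K K']
    (s : K') (hs : Q.1 s = WithZero.exp (-1))
    (hs' : ∀ Q' : Place k K', IsOver Q' P → Q' ≠ Q → Q'.1 s = 1) :
    IsIntegral P.O s ∧ IntermediateField.adjoin K ({s} : Set K') = ⊤ ∧
      P.1 (algebraMap P.O K ((minpoly P.O s).coeff 0)) = WithZero.exp (-1) ∧
      minpoly K s = (minpoly P.O s).map (algebraMap P.O K) := by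
  classical
  obtain ⟨hfin, -⟩ := sum_ramIdx_mul_deg (K' := K') hK P
  obtain ⟨Qs, hQsdef⟩ : ∃ Qs : Finset (Place k K'), Qs = hfin.toFinset := ⟨_, rfl⟩
  have hQs : ∀ Q', Q' ∈ Qs ↔ IsOver Q' P := fun Q' => by
    rw [hQsdef, Set.Finite.mem_toFinset]; rfl
  have hs0 : s ≠ 0 := by
    rintro rfl
    rw [map_zero] at hs
    exact WithZero.exp_ne_zero hs.symm
  have hN := Nrm.main P hK Qs hQs s
  rw [Finset.sum_eq_single Q (fun Q' hQ' hne => by
      rw [ord_of_val_eq_one Q' (hs' Q' ((hQs Q').1 hQ') hne), mul_zero])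
    (fun h => absurd ((hQs Q).2 hQP) h), ord_of_val_eq_exp Q hs,
    deg_eq_of_surjective P Q hf] at hN
  have hdegpos : (0 : ℤ) < P.deg := by exact_mod_cast Place.deg_pos hK.1 P
  have hordN : P.ord (Algebra.norm K s) = 1 := by
    have : (P.deg : ℤ) * P.ord (Algebra.norm K s) = (P.deg : ℤ) * 1 := by rw [hN]; ring
    exact mul_left_cancel₀ hdegpos.ne' this
  have hsint : IsIntegral P.O s := by
    show s ∈ integralClosure P.O K'
    rw [Nrm.mem_S_iff P hK]
    intro Q' hQ'
    by_cases h : Q' = Q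
    · rw [h, hs]; exact Nrm.exp_neg_one_lt_one.le
    · exact (hs' Q' hQ' h).le
  haveI := Nrm.isDVR P
  have hmin : minpoly K s = (minpoly P.O s).map (algebraMap P.O K) :=
    minpoly.isIntegrallyClosed_eq_field_fractions' K hsint
  have hsK : IsIntegral K s := Algebra.IsIntegral.isIntegral s
  have hnorm : Algebra.norm K s =
      ((-1) ^ (adjoin.powerBasis hsK).dim * (minpoly K s).coeff 0) ^ Module.finrank K⟮s⟯ K' := by
    rw [Algebra.norm_eq_norm_adjoin K s, ← adjoin.powerBasis_gen hsK,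
      Algebra.PowerBasis.norm_gen_eq_coeff_zero_minpoly, adjoin.powerBasis_gen hsK,
      IntermediateField.minpoly_gen]
  have hNne : Algebra.norm K s ≠ 0 := Algebra.norm_ne_zero_iff.2 hs0
  have hc0 : (minpoly K s).coeff 0 ≠ 0 := by
    intro h
    rw [h, mul_zero, zero_pow (Module.finrank_pos).ne'] at hnorm
    exact hNne hnorm
  have hordc : P.ord ((-1) ^ (adjoin.powerBasis hsK).dim * (minpoly K s).coeff 0) =
      P.ord ((minpoly K s).coeff 0) := by
    unfold Place.ord
    rw [map_mul, map_pow, Valuation.map_neg, map_one, one_pow, one_mul]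
  have hprod : (Module.finrank K⟮s⟯ K' : ℤ) * P.ord ((minpoly K s).coeff 0) = 1 := by
    rw [← hordN, hnorm, Place.ord_pow, hordc]
  have hr : Module.finrank K⟮s⟯ K' = 1 ∧ P.ord ((minpoly K s).coeff 0) = 1 := by
    rcases Int.eq_one_or_neg_one_of_mul_eq_one' hprod with ⟨h1, h2⟩ | ⟨h1, h2⟩
    · exact ⟨by exact_mod_cast h1, h2⟩
    · exfalso
      have : (0 : ℤ) ≤ (Module.finrank K⟮s⟯ K' : ℤ) := Int.natCast_nonneg _
      omega
  have h0 : P.1 ((minpoly K s).coeff 0) = WithZero.exp (-1) := by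
    rw [Place.val_eq_exp_neg_ord P hc0, hr.2]
  refine ⟨hsint, IntermediateField.finrank_eq_one_iff_eq_top.1 hr.1, ?_, hmin⟩
  rw [hmin, coeff_map] at h0
  exact h0

end Groth.Agent.Helper27.Dfs
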