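import Mathlib
import Groth.Agent.Lib.Helper27.DualA
import Groth.Agent.Lib.Helper27.DfsB

set_option autoImplicit false

namespace Groth.Agent.Helper27.Dual

open FunFld Polynomial Groth.Agent.Helper16.FFW IntermediateField LaurentSeries
open scoped WithZero Pointwise

universe u v w

section gen
variable {k K K' : Type*} [Field k] [Field K] [Field K'] [Algebra k K] [Algebra K K'] [Algebra k K']
  [IsScalarTower k K K'] (P : Place k K) [Algebra P.O K'] [IsScalarTower P.O K K']

/-- the trace dual condition of the statements -/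
def IsDualElt (y : K') : Prop :=
  ∀ z : K', IsIntegral P.O z → P.1 (Algebra.trace K K' (y * z)) ≤ 1

theorem adjoin_eq_top_of_intermediate [FiniteDimensional K K'] {s : K'}
    (hgen : IntermediateField.adjoin K ({s} : Set K') = ⊤) :
    Algebra.adjoin K ({s} : Set K') = ⊤ := by
  have hsK : IsIntegral K s := Algebra.IsIntegral.isIntegral s
  rw [← IntermediateField.adjoin_simple_toSubalgebra_of_isAlgebraic hsK.isAlgebraic, hgen,
    IntermediateField.top_toSubalgebra]

theorem mem_one_iff (a : K) : a ∈ (1 : Submodule P.O K) ↔ P.1 a ≤ 1 := by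
  rw [Submodule.mem_one]
  constructor
  · rintro ⟨b, rfl⟩; exact (Place.mem_O_iff P _).1 b.2
  · intro h; exact ⟨⟨a, (Place.mem_O_iff P a).2 h⟩, rfl⟩

/-- Euler: the dual of `O_P[s]` -/
theorem mem_dual_adjoin_iff [FiniteDimensional K K'] [Algebra.IsSeparable K K'] {s : K'}
    (hgen : IntermediateField.adjoin K ({s} : Set K') = ⊤) (hsint : IsIntegral P.O s) (y : K') :
    (∀ z ∈ Algebra.adjoin P.O ({s} : Set K'), P.1 (Algebra.trace K K' (y * z)) ≤ 1) ↔
      y * aeval s (derivative (minpoly K s)) ∈ Algebra.adjoin P.O ({s} : Set K') := by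
  haveI := Nrm.isDVR P
  have hne : aeval s (derivative (minpoly K s)) ≠ 0 :=
    (Algebra.IsSeparable.isSeparable K s).aeval_derivative_ne_zero (minpoly.aeval K s)
  have h := traceForm_dualSubmodule_adjoin P.O K (adjoin_eq_top_of_intermediate hgen) hsint
  have h1 : y ∈ (Algebra.traceForm K K').dualSubmodule
      (Subalgebra.toSubmodule (Algebra.adjoin P.O ({s} : Set K'))) ↔
      (∀ z ∈ Algebra.adjoin P.O ({s} : Set K'), P.1 (Algebra.trace K K' (y * z)) ≤ 1) := by
    rw [LinearMap.BilinForm.mem_dualSubmodule]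
    refine forall_congr' fun z => ?_
    rw [Subalgebra.mem_toSubmodule, Algebra.traceForm_apply, mem_one_iff]
  rw [← h1, h, Submodule.mem_smul_pointwise_iff_exists]
  constructor
  · rintro ⟨a, ha, rfl⟩
    rw [smul_eq_mul, mul_comm, ← mul_assoc, mul_inv_cancel₀ hne, one_mul]
    exact ha
  · intro hy
    refine ⟨_, hy, ?_⟩
    rw [smul_eq_mul]
    field_simp

end gen

variable {k : Type u} {K K' : Type v} [Field k] [Field K] [Field K'] [Algebra k K] [Algebra K K']
  [Algebra k K'] [IsScalarTower k K K']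
  {F F' : Type w} [Field F] [Algebra k F] [Field F'] [Algebra k F']

/-- data produced for a place of residue degree one -/
theorem exists_data [FiniteDimensional K K'] [Algebra.IsSeparable K K']
    (hK : IsFunctionField k K) (hg : IsGeometric k K)
    (P : Place k K) (Q : Place k K') (e : ℕ) (he : IsOverWith Q P e)
    (φ : K →ₐ[k] F⸨X⸩) (hφ : LocRes.IsExpansionAt P.1 φ)
    (ψ : K' →ₐ[k] F'⸨X⸩) (hψ : LocRes.IsExpansionAt Q.1 ψ)
    (x : K) (hx : LocRes.vDiff φ 1 x ≠ 0) (hx' : LocRes.vDiff ψ 1 (algebraMap K K' x) ≠ 0)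
    [P.1.HasExtension Q.1]
    (hf : Function.Surjective
      (algebraMap (IsLocalRing.ResidueField P.O) (IsLocalRing.ResidueField Q.O)))
    [Algebra P.O K'] [IsScalarTower P.O K K'] :
    ∃ s : K', IsIntegral P.O s ∧ IntermediateField.adjoin K ({s} : Set K') = ⊤ ∧
      Q.1 (aeval s (derivative (minpoly K s))) = WithZero.exp (-LocRes.diffExp φ ψ e x) ∧
      ∃ b ∈ Algebra.adjoin P.O ({s} : Set K'), Q.1 b = 1 ∧
        ∀ z : K', IsIntegral P.O z → b * z ∈ Algebra.adjoin P.O ({s} : Set K') := by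
  classical
  have hQP : IsOver Q P := ⟨e, he⟩
  obtain ⟨s, hs, hs'⟩ := exists_special_unif hK P Q hQP
  obtain ⟨hsint, hgen, h0, hmin⟩ := Dfs.shape hK P Q hQP hf s hs hs'
  obtain ⟨-, hord⟩ := Dfs.main12572 hK hg P Q e he φ hφ ψ hψ x hx hx' hf s hs hs'
  have hne : aeval s (derivative (minpoly K s)) ≠ 0 :=
    (Algebra.IsSeparable.isSeparable K s).aeval_derivative_ne_zero (minpoly.aeval K s)
  refine ⟨s, hsint, hgen, by rw [Place.val_eq_exp_neg_ord Q hne, hord], ?_⟩
  obtain ⟨y, -, hy, hcoord⟩ := Ic.exists_basis (K' := K') hK P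
  have hloc : ∀ j, y j ∈ Groth.Agent.Helper16.FF.locRing (Ak P s) Q := fun j =>
    mem_locRing_Ak P hK Q hQP s (by rw [hs]; exact Nrm.exp_neg_one_lt_one) hsint hgen h0 _
      (hy j Q hQP)
  choose u hu w hw hw1 huw using hloc
  refine ⟨∏ j, w j, Subalgebra.prod_mem _ fun j _ => hw j, by
    rw [map_prod]; exact Finset.prod_eq_one fun j _ => hw1 j, ?_⟩
  intro z hz
  obtain ⟨a, ha, rfl⟩ := hcoord z ((Nrm.mem_S_iff P hK z).1 hz)
  rw [Finset.mul_sum]
  refine Subalgebra.sum_mem _ fun j _ => ?_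
  have h1 : (∏ j, w j) * (a j • y j) =
      algebraMap K K' (a j) * (u j * ∏ i ∈ Finset.univ.erase j, w i) := by
    rw [← Finset.mul_prod_erase Finset.univ w (Finset.mem_univ j), Algebra.smul_def, ← huw j]
    ring
  rw [h1]
  refine Subalgebra.mul_mem _ (algebraMap_mem_Ak P s (ha j)) (Subalgebra.mul_mem _ (hu j) ?_)
  exact Subalgebra.prod_mem _ fun i _ => hw i

theorem main12574 [FiniteDimensional K K'] [Algebra.IsSeparable K K']
    (hK : IsFunctionField k K) (hg : IsGeometric k K)
    (P : Place k K) (Q : Place k K') (e : ℕ) (he : IsOverWith Q P e)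
    (φ : K →ₐ[k] F⸨X⸩) (hφ : LocRes.IsExpansionAt P.1 φ)
    (ψ : K' →ₐ[k] F'⸨X⸩) (hψ : LocRes.IsExpansionAt Q.1 ψ)
    (x : K) (hx : LocRes.vDiff φ 1 x ≠ 0) (hx' : LocRes.vDiff ψ 1 (algebraMap K K' x) ≠ 0)
    [P.1.HasExtension Q.1]
    (hf : Function.Surjective
      (algebraMap (IsLocalRing.ResidueField P.O) (IsLocalRing.ResidueField Q.O)))
    [Algebra P.O K'] [IsScalarTower P.O K K'] :
    (∀ y : K', IsDualElt P y → Q.1 y ≤ WithZero.exp (LocRes.diffExp φ ψ e x)) ∧
    ∃ y : K', IsDualElt P y ∧ Q.1 y = WithZero.exp (LocRes.diffExp φ ψ e x) := by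
  have hQP : IsOver Q P := ⟨e, he⟩
  obtain ⟨s, hsint, hgen, hval, b, hb, hb1, hbz⟩ :=
    exists_data hK hg P Q e he φ hφ ψ hψ x hx hx' hf
  have hne : aeval s (derivative (minpoly K s)) ≠ 0 :=
    (Algebra.IsSeparable.isSeparable K s).aeval_derivative_ne_zero (minpoly.aeval K s)
  have hAint : ∀ z ∈ Algebra.adjoin P.O ({s} : Set K'), IsIntegral P.O z := by
    have : Algebra.adjoin P.O ({s} : Set K') ≤ integralClosure P.O K' :=
      Algebra.adjoin_le (by rintro _ rfl; exact hsint)
    exact fun z hz => this hz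
  have hexp : WithZero.exp (LocRes.diffExp φ ψ e x) *
      WithZero.exp (-LocRes.diffExp φ ψ e x) = 1 := by
    rw [← WithZero.exp_add, add_neg_cancel, WithZero.exp_zero]
  constructor
  · intro y hy
    have h1 := (mem_dual_adjoin_iff P hgen hsint y).1 fun z hz => hy z (hAint z hz)
    have h2 : Q.1 (y * aeval s (derivative (minpoly K s))) ≤ 1 :=
      val_le_one_of_mem_Ak P hK Q hQP s hsint h1
    rw [map_mul, hval] at h2
    calc Q.1 y = Q.1 y * WithZero.exp (-LocRes.diffExp φ ψ e x) *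
          WithZero.exp (LocRes.diffExp φ ψ e x) := by
            rw [mul_assoc, mul_comm (WithZero.exp (-_)), hexp, mul_one]
      _ ≤ 1 * WithZero.exp (LocRes.diffExp φ ψ e x) := mul_le_mul' h2 le_rfl
      _ = _ := one_mul _
  · refine ⟨b * (aeval s (derivative (minpoly K s)))⁻¹, ?_, ?_⟩
    · intro z hz
      have h1 : (b * (aeval s (derivative (minpoly K s)))⁻¹ * z) *
          aeval s (derivative (minpoly K s)) ∈ Algebra.adjoin P.O ({s} : Set K') := by
        have : (b * (aeval s (derivative (minpoly K s)))⁻¹ * z) *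
            aeval s (derivative (minpoly K s)) = b * z := by field_simp
        rw [this]; exact hbz z hz
      have h2 := (mem_dual_adjoin_iff P hgen hsint _).2 h1 1 (Subalgebra.one_mem _)
      rwa [mul_one] at h2
    · rw [map_mul, map_inv₀, hb1, one_mul, hval, ← WithZero.exp_neg, neg_neg]

end Groth.Agent.Helper27.Dual
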