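import Mathlib
import Groth.Agent.Lib.Helper27.DualB

set_option autoImplicit false

namespace Groth.Agent.Helper27.Dual

open FunFld Polynomial Groth.Agent.Helper16.FFW IntermediateField LaurentSeries
open scoped WithZero Pointwise

universe u v w

section gen
variable {k K K' : Type*} [Field k] [Field K] [Field K'] [Algebra k K] [Algebra K K'] [Algebra k K']
  [IsScalarTower k K K']

/-- an integral element, unit at `Q`, killing the poles of `z` at the other places over `P` -/
theorem exists_clearing [FiniteDimensional K K'] (hK : IsFunctionField k K) (P : Place k K)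
    (Q : Place k K') (hQ : IsOver Q P) (z : K') (hz0 : z ≠ 0) (hz : Q.1 z ≤ 1) :
    ∃ w : K', Q.1 w = 1 ∧ (∀ Q' : Place k K', IsOver Q' P → Q'.1 w ≤ 1) ∧
      ∀ Q' : Place k K', IsOver Q' P → Q'.1 (z * w) ≤ 1 := by
  classical
  obtain ⟨hfin, -⟩ := sum_ramIdx_mul_deg (K' := K') hK P
  obtain ⟨Qs, hQsdef⟩ : ∃ Qs : Finset (Place k K'), Qs = hfin.toFinset := ⟨_, rfl⟩
  have hQs : ∀ Q', Q' ∈ Qs ↔ IsOver Q' P := fun Q' => by
    rw [hQsdef, Set.Finite.mem_toFinset]; rfl
  obtain ⟨w, hw⟩ := weak_approx (fun i : ↥Qs => i.1) Subtype.val_injective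
    (fun i => if i.1 = Q then 1 else 0) (fun i => if i.1 = Q then -1 else min 0 (i.1.ord z))
  have hwQ : Q.1 w = 1 := by
    have := hw ⟨Q, (hQs Q).2 hQ⟩
    simp only [if_true] at this
    have h1 : Q.1 (w - 1) < Q.1 1 := by
      rw [map_one]; exact lt_one_iff_le_exp_neg_one.2 this
    rw [Valuation.map_eq_of_sub_lt Q.1 h1, map_one]
  have hwQ' : ∀ Q' : Place k K', IsOver Q' P → Q' ≠ Q →
      Q'.1 w ≤ WithZero.exp (min 0 (Q'.ord z)) := by
    intro Q' hQ' hne
    have := hw ⟨Q', (hQs Q').2 hQ'⟩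
    simp only [if_neg hne, sub_zero] at this
    exact this
  refine ⟨w, hwQ, ?_, ?_⟩
  · intro Q' hQ'
    by_cases hne : Q' = Q
    · rw [hne, hwQ]
    · refine (hwQ' Q' hQ' hne).trans ?_
      rw [← WithZero.exp_zero, WithZero.exp_le_exp]
      exact min_le_left _ _
  · intro Q' hQ'
    by_cases hne : Q' = Q
    · rw [hne, map_mul, hwQ, mul_one]; exact hz
    · rw [map_mul, Place.val_eq_exp_neg_ord Q' hz0]
      calc WithZero.exp (-Q'.ord z) * Q'.1 w
          ≤ WithZero.exp (-Q'.ord z) * WithZero.exp (min 0 (Q'.ord z)) :=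
            mul_le_mul' le_rfl (hwQ' Q' hQ' hne)
        _ ≤ 1 := by
            rw [← WithZero.exp_add, ← WithZero.exp_zero, WithZero.exp_le_exp]
            have := min_le_right 0 (Q'.ord z)
            omega

end gen

variable {k : Type u} {K K' : Type v} [Field k] [Field K] [Field K'] [Algebra k K] [Algebra K K']
  [Algebra k K'] [IsScalarTower k K K']
  {F F' : Type w} [Field F] [Algebra k F] [Field F'] [Algebra k F']

theorem main12575 [FiniteDimensional K K'] [Algebra.IsSeparable K K']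
    (hK : IsFunctionField k K) (hg : IsGeometric k K)
    (P : Place k K) (Q : Place k K') (e : ℕ) (he : IsOverWith Q P e)
    (φ : K →ₐ[k] F⸨X⸩) (hφ : LocRes.IsExpansionAt P.1 φ)
    (ψ : K' →ₐ[k] F'⸨X⸩) (hψ : LocRes.IsExpansionAt Q.1 ψ)
    (x : K) (hx : LocRes.vDiff φ 1 x ≠ 0) (hx' : LocRes.vDiff ψ 1 (algebraMap K K' x) ≠ 0)
    [P.1.HasExtension Q.1]
    (hf : Function.Surjective
      (algebraMap (IsLocalRing.ResidueField P.O) (IsLocalRing.ResidueField Q.O)))
    [Algebra P.O K'] [IsScalarTower P.O K K']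
    (y : K') (hy : IntermediateField.adjoin K ({y} : Set K') = ⊤) (hyi : IsIntegral P.O y) :
    LocRes.diffExp φ ψ e x ≤ Q.ord (aeval y (derivative (minpoly K y))) ∧
    (Q.ord (aeval y (derivative (minpoly K y))) = LocRes.diffExp φ ψ e x →
      ∀ z : K', Q.1 z ≤ 1 → ∃ a ∈ Algebra.adjoin P.O ({y} : Set K'),
        ∃ b ∈ Algebra.adjoin P.O ({y} : Set K'), Q.1 b = 1 ∧ z * b = a) := by
  have hQP : IsOver Q P := ⟨e, he⟩
  obtain ⟨-, y₀, hy₀, hy₀v⟩ := main12574 hK hg P Q e he φ hφ ψ hψ x hx hx' hf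
  have hne : aeval y (derivative (minpoly K y)) ≠ 0 :=
    (Algebra.IsSeparable.isSeparable K y).aeval_derivative_ne_zero (minpoly.aeval K y)
  have hAint : ∀ z ∈ Algebra.adjoin P.O ({y} : Set K'), IsIntegral P.O z := by
    have : Algebra.adjoin P.O ({y} : Set K') ≤ integralClosure P.O K' :=
      Algebra.adjoin_le (by rintro _ rfl; exact hyi)
    exact fun z hz => this hz
  -- dual elements times g'(y) land in O_P[y]
  have hkey : ∀ v : K', IsDualElt P v →
      v * aeval y (derivative (minpoly K y)) ∈ Algebra.adjoin P.O ({y} : Set K') := fun v hv =>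
    (mem_dual_adjoin_iff P hy hyi v).1 fun z hz => hv z (hAint z hz)
  have hb₀ := hkey y₀ hy₀
  have hb₀v : Q.1 (y₀ * aeval y (derivative (minpoly K y))) ≤ 1 :=
    val_le_one_of_mem_Ak P hK Q hQP y hyi hb₀
  have hgval := Place.val_eq_exp_neg_ord Q hne
  constructor
  · rw [map_mul, hy₀v, hgval, ← WithZero.exp_add, ← WithZero.exp_zero, WithZero.exp_le_exp] at hb₀v
    omega
  · intro heq z hz
    by_cases hz0 : z = 0
    · exact ⟨0, Subalgebra.zero_mem _, 1, Subalgebra.one_mem _, map_one _, by rw [hz0, zero_mul]⟩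
    have hb₀1 : Q.1 (y₀ * aeval y (derivative (minpoly K y))) = 1 := by
      rw [map_mul, hy₀v, hgval, heq, ← WithZero.exp_add, add_neg_cancel, WithZero.exp_zero]
    obtain ⟨w, hw1, hwint, hzw⟩ := exists_clearing hK P Q hQP z hz0 hz
    have hwI : IsIntegral P.O w := (Nrm.mem_S_iff P hK w).2 hwint
    have hzwI : IsIntegral P.O (z * w) := (Nrm.mem_S_iff P hK _).2 hzw
    have hdual : ∀ v : K', IsIntegral P.O v → IsDualElt P (y₀ * v) := by
      intro v hv z' hz'
      rw [mul_assoc]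
      exact hy₀ _ (hv.mul hz')
    refine ⟨(y₀ * (z * w)) * aeval y (derivative (minpoly K y)), hkey _ (hdual _ hzwI),
      (y₀ * w) * aeval y (derivative (minpoly K y)), hkey _ (hdual _ hwI), ?_, by ring⟩
    have : (y₀ * w) * aeval y (derivative (minpoly K y)) =
        (y₀ * aeval y (derivative (minpoly K y))) * w := by ring
    rw [this, map_mul, hb₀1, hw1, one_mul]

end Groth.Agent.Helper27.Dual
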