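import Mathlib

set_option autoImplicit false

namespace Groth.Agent.Helper27.Expn

open PowerSeries WithZero

variable {k K : Type*} [Field k] [Field K] [Algebra k K]

section Basic

variable (v : Valuation K (WithZero (Multiplicative ℤ))) (t : K)

/-- `f` is the expansion of `y` in `t` at `v`. -/
def IsExp (y : K) (f : k⟦X⟧) : Prop :=
  ∀ n : ℕ, v (y - Polynomial.aeval t (trunc n f)) ≤ exp (-(n : ℤ))

variable {v t}

theorem val_term_le (hv : ∀ c : k, v (algebraMap k K c) ≤ 1) (ht : v t = exp (-1)) (c : k)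
    (i : ℕ) : v (algebraMap k K c * t ^ i) ≤ exp (-(i : ℤ)) := by
  rw [map_mul, map_pow, ht, ← exp_nsmul]
  calc v (algebraMap k K c) * exp (i • (-1 : ℤ)) ≤ 1 * exp (i • (-1 : ℤ)) :=
        mul_le_mul' (hv c) le_rfl
    _ = exp (-(i : ℤ)) := by rw [one_mul]; congr 1; simp

theorem val_algebraMap_eq (hv : ∀ c : k, v (algebraMap k K c) ≤ 1) {c : k} (hc : c ≠ 0) :
    v (algebraMap k K c) = 1 := by
  apply le_antisymm (hv c)
  have h1 : v (algebraMap k K c⁻¹) ≤ 1 := hv c⁻¹
  have h2 : v (algebraMap k K c) * v (algebraMap k K c⁻¹) = 1 := by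
    rw [← map_mul, ← map_mul, mul_inv_cancel₀ hc, map_one, map_one]
  calc (1 : WithZero (Multiplicative ℤ)) = v (algebraMap k K c) * v (algebraMap k K c⁻¹) := h2.symm
    _ ≤ v (algebraMap k K c) * 1 := mul_le_mul' le_rfl h1
    _ = _ := mul_one _

theorem val_term_eq (hv : ∀ c : k, v (algebraMap k K c) ≤ 1) (ht : v t = exp (-1)) {c : k}
    (hc : c ≠ 0) (i : ℕ) : v (algebraMap k K c * t ^ i) = exp (-(i : ℤ)) := by
  rw [map_mul, map_pow, ht, ← exp_nsmul, val_algebraMap_eq hv hc, one_mul]
  congr 1; simp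

theorem val_aeval_le (hv : ∀ c : k, v (algebraMap k K c) ≤ 1) (ht : v t = exp (-1))
    (s : Polynomial k) (n : ℕ) (hs : ∀ i < n, s.coeff i = 0) :
    v (Polynomial.aeval t s) ≤ exp (-(n : ℤ)) := by
  rw [Polynomial.aeval_def, Polynomial.eval₂_eq_sum, Polynomial.sum]
  apply Valuation.map_sum_le
  intro i _
  by_cases hi : i < n
  · rw [hs i hi, map_zero, zero_mul, map_zero]; exact zero_le
  · refine le_trans (val_term_le hv ht _ i) ?_
    rw [exp_le_exp]; omega

theorem isExp_coe (hv : ∀ c : k, v (algebraMap k K c) ≤ 1) (ht : v t = exp (-1))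
    (r : Polynomial k) : IsExp v t (Polynomial.aeval t r) (r : k⟦X⟧) := by
  intro n
  rw [← map_sub]
  apply val_aeval_le hv ht
  intro i hi
  rw [Polynomial.coeff_sub, coeff_trunc, if_pos hi, Polynomial.coeff_coe, sub_self]

theorem isExp_algebraMap (hv : ∀ c : k, v (algebraMap k K c) ≤ 1) (ht : v t = exp (-1)) (c : k) :
    IsExp v t (algebraMap k K c) (C c : k⟦X⟧) := by
  have := isExp_coe hv ht (Polynomial.C c)
  rwa [Polynomial.aeval_C, Polynomial.coe_C] at this

theorem isExp_X (hv : ∀ c : k, v (algebraMap k K c) ≤ 1) (ht : v t = exp (-1)) :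
    IsExp v t t (X : k⟦X⟧) := by
  have := isExp_coe hv ht (Polynomial.X)
  rwa [Polynomial.aeval_X, Polynomial.coe_X] at this

theorem isExp_one (hv : ∀ c : k, v (algebraMap k K c) ≤ 1) (ht : v t = exp (-1)) :
    IsExp v t (1 : K) (1 : k⟦X⟧) := by
  have := isExp_coe hv ht (1 : Polynomial k)
  rwa [map_one, Polynomial.coe_one] at this

theorem isExp_zero : IsExp v t (0 : K) (0 : k⟦X⟧) := by
  intro n
  simp

theorem IsExp.add {y z : K} {f g : k⟦X⟧} (hy : IsExp v t y f) (hz : IsExp v t z g) :
    IsExp v t (y + z) (f + g) := by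
  intro n
  have : y + z - Polynomial.aeval t (trunc n (f + g)) =
      (y - Polynomial.aeval t (trunc n f)) + (z - Polynomial.aeval t (trunc n g)) := by
    rw [map_add (trunc n) f g, map_add]; ring
  rw [this]
  exact Valuation.map_add_le _ (hy n) (hz n)

theorem IsExp.val_le_one {y : K} {f : k⟦X⟧} (hy : IsExp v t y f) : v y ≤ 1 := by
  have := hy 0
  simpa using this

theorem val_aeval_le_one (hv : ∀ c : k, v (algebraMap k K c) ≤ 1) (ht : v t = exp (-1))
    (s : Polynomial k) : v (Polynomial.aeval t s) ≤ 1 := by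
  have := val_aeval_le hv ht s 0 (fun i hi => absurd hi (Nat.not_lt_zero i))
  simpa using this

theorem IsExp.mul (hv : ∀ c : k, v (algebraMap k K c) ≤ 1) (ht : v t = exp (-1))
    {y z : K} {f g : k⟦X⟧} (hy : IsExp v t y f) (hz : IsExp v t z g) :
    IsExp v t (y * z) (f * g) := by
  intro n
  set p := trunc n f with hp
  set q := trunc n g with hq
  have h1 : y * z - Polynomial.aeval t (trunc n (f * g)) =
      (Polynomial.aeval t (p * q) - Polynomial.aeval t (trunc n ((p * q : Polynomial k) : k⟦X⟧)))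
      + (Polynomial.aeval t p * (z - Polynomial.aeval t q) + (y - Polynomial.aeval t p) * z) := by
    rw [Polynomial.coe_mul, hp, hq, trunc_trunc_mul_trunc, map_mul (Polynomial.aeval t)]
    ring
  rw [h1]
  apply Valuation.map_add_le
  · exact isExp_coe hv ht (p * q) n
  · apply Valuation.map_add_le
    · rw [map_mul]
      calc v (Polynomial.aeval t p) * v (z - Polynomial.aeval t q)
          ≤ 1 * exp (-(n : ℤ)) := mul_le_mul' (val_aeval_le_one hv ht p) (hz n)
        _ = _ := one_mul _
    · rw [map_mul]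
      calc v (y - Polynomial.aeval t p) * v z
          ≤ exp (-(n : ℤ)) * 1 := mul_le_mul' (hy n) hz.val_le_one
        _ = _ := mul_one _

theorem IsExp.val_le_iff (hv : ∀ c : k, v (algebraMap k K c) ≤ 1) (ht : v t = exp (-1))
    {y : K} {f : k⟦X⟧} (hy : IsExp v t y f) (m : ℕ) :
    v y ≤ exp (-(m : ℤ)) ↔ ∀ i < m, coeff i f = 0 := by
  constructor
  · induction m with
    | zero => intro _ i hi; exact absurd hi (Nat.not_lt_zero i)
    | succ m ih =>
      intro hle
      have hle' : v y ≤ exp (-(m : ℤ)) := le_trans hle (by rw [exp_le_exp]; push_cast; omega)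
      have h0 := ih hle'
      have htr : trunc m f = 0 := by
        ext i
        rw [coeff_trunc]
        split_ifs with hi
        · rw [h0 i hi]; simp
        · simp
      have h1 := hy (m + 1)
      rw [trunc_succ, htr, zero_add, Polynomial.aeval_monomial] at h1
      have h2 : v (algebraMap k K (coeff m f) * t ^ m) ≤ exp (-((m + 1 : ℕ) : ℤ)) := by
        have : algebraMap k K (coeff m f) * t ^ m =
            y - (y - algebraMap k K (coeff m f) * t ^ m) := by ring
        rw [this]
        exact Valuation.map_sub_le _ hle h1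
      have h3 : coeff m f = 0 := by
        by_contra hne
        rw [val_term_eq hv ht hne, exp_le_exp] at h2
        push_cast at h2; omega
      intro i hi
      rcases Nat.lt_succ_iff_lt_or_eq.1 hi with h | h
      · exact h0 i h
      · rw [h]; exact h3
  · intro h0
    have htr : trunc m f = 0 := by
      ext i
      rw [coeff_trunc]
      split_ifs with hi
      · rw [h0 i hi]; simp
      · simp
    have := hy m
    rwa [htr, map_zero, sub_zero] at this

theorem IsExp.unique (hv : ∀ c : k, v (algebraMap k K c) ≤ 1) (ht : v t = exp (-1))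
    {y : K} {f g : k⟦X⟧} (hf : IsExp v t y f) (hg : IsExp v t y g) : f = g := by
  have hneg : IsExp v t (-y) (-g) := by
    intro n
    have : -y - Polynomial.aeval t (trunc n (-g)) = -(y - Polynomial.aeval t (trunc n g)) := by
      rw [map_neg (trunc n) g, map_neg]; ring
    rw [this, Valuation.map_neg]; exact hg n
  have h0 : IsExp v t (y + -y) (f + -g) := hf.add hneg
  rw [add_neg_cancel] at h0
  ext i
  have := (h0.val_le_iff hv ht (i + 1)).1 (by rw [map_zero]; exact zero_le) i (Nat.lt_succ_self i)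
  rw [map_add, map_neg] at this
  exact eq_of_sub_eq_zero (by rw [sub_eq_add_neg]; exact this)

end Basic

end Groth.Agent.Helper27.Expn
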