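import Mathlib
import Groth.Agent.Lib.Helper27.ExpA

set_option autoImplicit false

namespace Groth.Agent.Helper27.Expn

open PowerSeries WithZero
open scoped LaurentSeries

variable {k K : Type*} [Field k] [Field K] [Algebra k K]

theorem lt_one_iff_le_exp (x : WithZero (Multiplicative ℤ)) : x < 1 ↔ x ≤ exp (-1 : ℤ) := by
  rcases eq_or_ne x 0 with rfl | hx
  · simp
  · obtain ⟨a, rfl⟩ : ∃ a, x = exp a := ⟨log x, (exp_log hx).symm⟩
    rw [← exp_zero, exp_lt_exp, exp_le_exp]; omega

section Exist

variable (v : Valuation K (WithZero (Multiplicative ℤ))) (t : K)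

open Classical in
/-- The constant approximating `y` modulo the maximal ideal. -/
noncomputable def cst (y : K) : k :=
  if h : ∃ c : k, v (y - algebraMap k K c) < 1 then h.choose else 0

/-- Successive remainders. -/
noncomputable def rem (y : K) : ℕ → K
  | 0 => y
  | n + 1 => (rem y n - algebraMap k K (cst (k := k) v (rem y n))) / t

/-- The expansion series. -/
noncomputable def expSeries (y : K) : k⟦X⟧ :=
  PowerSeries.mk fun n => cst (k := k) v (rem (k := k) v t y n)

variable {v t}

theorem cst_spec (hc : ∀ y, v y ≤ 1 → ∃ c : k, v (y - algebraMap k K c) < 1) {y : K}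
    (hy : v y ≤ 1) : v (y - algebraMap k K (cst (k := k) v y)) < 1 := by
  unfold cst
  rw [dif_pos (hc y hy)]
  exact (hc y hy).choose_spec

theorem rem_le_one (ht : v t = exp (-1))
    (hc : ∀ y, v y ≤ 1 → ∃ c : k, v (y - algebraMap k K c) < 1) {y : K} (hy : v y ≤ 1) (n : ℕ) :
    v (rem (k := k) v t y n) ≤ 1 := by
  induction n with
  | zero => exact hy
  | succ n ih =>
    show v ((rem (k := k) v t y n - algebraMap k K (cst (k := k) v (rem (k := k) v t y n))) / t) ≤ 1
    rw [map_div₀, ht]
    have h1 := (lt_one_iff_le_exp _).1 (cst_spec hc ih)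
    rw [div_le_iff₀ (by simp), one_mul]
    exact h1

theorem eq_rem (ht : v t = exp (-1)) (y : K) (n : ℕ) :
    y = Polynomial.aeval t (trunc n (expSeries (k := k) v t y)) + t ^ n * rem (k := k) v t y n := by
  have ht0 : t ≠ 0 := by
    intro h0; rw [h0, map_zero] at ht; exact exp_ne_zero ht.symm
  induction n with
  | zero => simp [rem]
  | succ n ih =>
    rw [trunc_succ, map_add, Polynomial.aeval_monomial]
    have h2 : coeff n (expSeries (k := k) v t y) = cst (k := k) v (rem (k := k) v t y n) := by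
      simp [expSeries]
    have h3 : rem (k := k) v t y (n + 1) =
        (rem (k := k) v t y n - algebraMap k K (cst (k := k) v (rem (k := k) v t y n))) / t := rfl
    rw [h2, h3]
    conv_lhs => rw [ih]
    field_simp
    ring

theorem isExp_expSeries (ht : v t = exp (-1))
    (hc : ∀ y, v y ≤ 1 → ∃ c : k, v (y - algebraMap k K c) < 1) {y : K} (hy : v y ≤ 1) :
    IsExp v t y (expSeries (k := k) v t y) := by
  intro n
  have h1 := eq_rem (k := k) ht y n
  have h2 : y - Polynomial.aeval t (trunc n (expSeries (k := k) v t y)) =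
      t ^ n * rem (k := k) v t y n := by
    rw [sub_eq_iff_eq_add']; exact h1
  rw [h2, map_mul, map_pow, ht, ← exp_nsmul]
  calc exp (n • (-1 : ℤ)) * v (rem (k := k) v t y n) ≤ exp (n • (-1 : ℤ)) * 1 :=
        mul_le_mul' le_rfl (rem_le_one ht hc hy n)
    _ = exp (-(n : ℤ)) := by rw [mul_one]; congr 1; simp

end Exist

section Hom

variable {v : Valuation K (WithZero (Multiplicative ℤ))} {t : K}

/-- The expansion ring homomorphism on the valuation ring. -/
noncomputable def expHom (hv : ∀ c : k, v (algebraMap k K c) ≤ 1) (ht : v t = exp (-1))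
    (hc : ∀ y, v y ≤ 1 → ∃ c : k, v (y - algebraMap k K c) < 1) :
    v.valuationSubring →+* k⟦X⟧ where
  toFun y := expSeries (k := k) v t (y : K)
  map_one' := IsExp.unique hv ht
    (isExp_expSeries ht hc (by simp)) (isExp_one hv ht)
  map_mul' y z := IsExp.unique hv ht
    (isExp_expSeries ht hc (by
      exact (Valuation.mem_valuationSubring_iff v _).1 (y * z).2))
    ((isExp_expSeries ht hc ((Valuation.mem_valuationSubring_iff v _).1 y.2)).mul hv ht
      (isExp_expSeries ht hc ((Valuation.mem_valuationSubring_iff v _).1 z.2)))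
  map_zero' := IsExp.unique hv ht
    (isExp_expSeries ht hc (by simp)) isExp_zero
  map_add' y z := IsExp.unique hv ht
    (isExp_expSeries ht hc (by
      exact (Valuation.mem_valuationSubring_iff v _).1 (y + z).2))
    ((isExp_expSeries ht hc ((Valuation.mem_valuationSubring_iff v _).1 y.2)).add
      (isExp_expSeries ht hc ((Valuation.mem_valuationSubring_iff v _).1 z.2)))

theorem expHom_isExp (hv : ∀ c : k, v (algebraMap k K c) ≤ 1) (ht : v t = exp (-1))
    (hc : ∀ y, v y ≤ 1 → ∃ c : k, v (y - algebraMap k K c) < 1) (y : v.valuationSubring) :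
    IsExp v t (y : K) (expHom hv ht hc y) :=
  isExp_expSeries ht hc ((Valuation.mem_valuationSubring_iff v _).1 y.2)

theorem eq_zero_of_forall_le {x : WithZero (Multiplicative ℤ)}
    (h : ∀ m : ℕ, x ≤ exp (-(m : ℤ))) : x = 0 := by
  by_contra hx
  obtain ⟨a, rfl⟩ : ∃ a, x = exp a := ⟨log x, (exp_log hx).symm⟩
  have := h ((-a).toNat + 1)
  rw [exp_le_exp] at this
  push_cast at this
  omega

theorem expHom_injective (hv : ∀ c : k, v (algebraMap k K c) ≤ 1) (ht : v t = exp (-1))
    (hc : ∀ y, v y ≤ 1 → ∃ c : k, v (y - algebraMap k K c) < 1) :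
    Function.Injective (expHom hv ht hc) := by
  rw [injective_iff_map_eq_zero]
  intro y hy
  have h1 := expHom_isExp hv ht hc y
  rw [hy] at h1
  have h2 : v (y : K) = 0 := eq_zero_of_forall_le fun m =>
    (h1.val_le_iff hv ht m).2 (fun i _ => by simp)
  have h3 : (y : K) = 0 := by simpa using h2
  exact Subtype.ext h3

theorem eq_of_forall_le_iff {a b : WithZero (Multiplicative ℤ)} (ha : a ≤ 1) (hb : b ≤ 1)
    (h : ∀ m : ℕ, a ≤ exp (-(m : ℤ)) ↔ b ≤ exp (-(m : ℤ))) : a = b := by
  rcases eq_or_ne a 0 with rfl | ha0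
  · exact (eq_zero_of_forall_le fun m => (h m).1 zero_le).symm
  rcases eq_or_ne b 0 with rfl | hb0
  · exact eq_zero_of_forall_le fun m => (h m).2 zero_le
  obtain ⟨x, rfl⟩ : ∃ x, a = exp x := ⟨log a, (exp_log ha0).symm⟩
  obtain ⟨y, rfl⟩ : ∃ y, b = exp y := ⟨log b, (exp_log hb0).symm⟩
  rw [← exp_zero, exp_le_exp] at ha hb
  have h1 := (h (-x).toNat).1 (by rw [exp_le_exp]; omega)
  have h2 := (h (-y).toNat).2 (by rw [exp_le_exp]; omega)
  rw [exp_le_exp] at h1 h2
  congr 1
  omega

theorem val_expHom (hv : ∀ c : k, v (algebraMap k K c) ≤ 1) (ht : v t = exp (-1))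
    (hc : ∀ y, v y ≤ 1 → ∃ c : k, v (y - algebraMap k K c) < 1) (y : v.valuationSubring) :
    Valued.v ((expHom hv ht hc y : k⟦X⟧) : k⸨X⸩) = v (y : K) := by
  apply eq_of_forall_le_iff
  · rw [LaurentSeries.val_le_one_iff_eq_coe]; exact ⟨_, rfl⟩
  · exact (Valuation.mem_valuationSubring_iff v _).1 y.2
  intro m
  rw [(expHom_isExp hv ht hc y).val_le_iff hv ht m,
    LaurentSeries.valuation_le_iff_coeff_lt_eq_zero]
  constructor
  · intro h i hi
    have := h (i : ℤ) (by exact_mod_cast hi)
    rwa [PowerSeries.coeff_coe, if_neg (by omega), Int.natAbs_natCast] at this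
  · intro h n hn
    rw [PowerSeries.coeff_coe]
    split_ifs with h0
    · rfl
    · exact h n.natAbs (by omega)

end Hom

end Groth.Agent.Helper27.Expn
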