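import Mathlib
import Groth.Agent.Lib.Helper27.ExpB
import Groth.Prelude.Def_LocRes
import Groth.Agent.Lib.Helper16.FF.AutA
import Groth.Agent.Lib.Helper16.FF.AlgClosed

set_option autoImplicit false

namespace Groth.Agent.Helper27.Expn

open PowerSeries WithZero FunFld
open scoped LaurentSeries

variable {k K : Type*} [Field k] [Field K] [Algebra k K]

section Lift

variable {v : Valuation K (WithZero (Multiplicative ℤ))} {t : K}

theorem coeHom_injective (hv : ∀ c : k, v (algebraMap k K c) ≤ 1) (ht : v t = exp (-1))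
    (hc : ∀ y, v y ≤ 1 → ∃ c : k, v (y - algebraMap k K c) < 1) :
    Function.Injective ((HahnSeries.ofPowerSeries ℤ k).comp (expHom hv ht hc)) := by
  intro a b hab
  exact expHom_injective hv ht hc (HahnSeries.ofPowerSeries_injective hab)

/-- The expansion ring homomorphism on the field. -/
noncomputable def expField (hv : ∀ c : k, v (algebraMap k K c) ≤ 1) (ht : v t = exp (-1))
    (hc : ∀ y, v y ≤ 1 → ∃ c : k, v (y - algebraMap k K c) < 1) : K →+* k⸨X⸩ :=
  IsFractionRing.lift (A := v.valuationSubring) (coeHom_injective hv ht hc)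

theorem expField_coe (hv : ∀ c : k, v (algebraMap k K c) ≤ 1) (ht : v t = exp (-1))
    (hc : ∀ y, v y ≤ 1 → ∃ c : k, v (y - algebraMap k K c) < 1) (y : v.valuationSubring) :
    expField hv ht hc (y : K) = ((expHom hv ht hc y : k⟦X⟧) : k⸨X⸩) :=
  IsFractionRing.lift_algebraMap (coeHom_injective hv ht hc) y

theorem expField_of_isExp (hv : ∀ c : k, v (algebraMap k K c) ≤ 1) (ht : v t = exp (-1))
    (hc : ∀ y, v y ≤ 1 → ∃ c : k, v (y - algebraMap k K c) < 1) {y : K} {f : k⟦X⟧}
    (hf : IsExp v t y f) : expField hv ht hc y = (f : k⸨X⸩) := by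
  have hy : y ∈ v.valuationSubring := (Valuation.mem_valuationSubring_iff v _).2 hf.val_le_one
  have := expField_coe hv ht hc ⟨y, hy⟩
  rw [show ((⟨y, hy⟩ : v.valuationSubring) : K) = y from rfl] at this
  rw [this]
  congr 1
  exact IsExp.unique hv ht (expHom_isExp hv ht hc ⟨y, hy⟩) hf

theorem val_expField (hv : ∀ c : k, v (algebraMap k K c) ≤ 1) (ht : v t = exp (-1))
    (hc : ∀ y, v y ≤ 1 → ∃ c : k, v (y - algebraMap k K c) < 1) (f : K) :
    Valued.v (expField hv ht hc f) = v f := by
  obtain ⟨a, b, _, rfl⟩ := IsFractionRing.div_surjective (A := v.valuationSubring) f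
  rw [map_div₀, map_div₀, map_div₀]
  have ha := expField_coe hv ht hc a
  have hb := expField_coe hv ht hc b
  rw [show algebraMap v.valuationSubring K a = (a : K) from rfl,
    show algebraMap v.valuationSubring K b = (b : K) from rfl, ha, hb, val_expHom, val_expHom]

/-- The expansion as an algebra homomorphism. -/
noncomputable def expAlg (hv : ∀ c : k, v (algebraMap k K c) ≤ 1) (ht : v t = exp (-1))
    (hc : ∀ y, v y ≤ 1 → ∃ c : k, v (y - algebraMap k K c) < 1) : K →ₐ[k] k⸨X⸩ :=
  { expField hv ht hc with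
    commutes' := fun c => by
      show expField hv ht hc (algebraMap k K c) = algebraMap k k⸨X⸩ c
      rw [expField_of_isExp hv ht hc (isExp_algebraMap hv ht c),
        HahnSeries.algebraMap_apply' ℤ c, PowerSeries.algebraMap_apply]
      rfl }

theorem expAlg_apply (hv : ∀ c : k, v (algebraMap k K c) ≤ 1) (ht : v t = exp (-1))
    (hc : ∀ y, v y ≤ 1 → ∃ c : k, v (y - algebraMap k K c) < 1) (y : K) :
    expAlg hv ht hc y = expField hv ht hc y := rfl

theorem expAlg_t (hv : ∀ c : k, v (algebraMap k K c) ≤ 1) (ht : v t = exp (-1))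
    (hc : ∀ y, v y ≤ 1 → ∃ c : k, v (y - algebraMap k K c) < 1) :
    expAlg hv ht hc t = HahnSeries.single 1 1 := by
  rw [expAlg_apply, expField_of_isExp hv ht hc (isExp_X hv ht), PowerSeries.coe_X]

theorem isExpansionAt_expAlg (hv : ∀ c : k, v (algebraMap k K c) ≤ 1) (ht : v t = exp (-1))
    (hc : ∀ y, v y ≤ 1 → ∃ c : k, v (y - algebraMap k K c) < 1) :
    LocRes.IsExpansionAt v (expAlg hv ht hc) := by
  refine ⟨fun f => val_expField hv ht hc f, fun a => ⟨algebraMap k K a, hv a, ?_⟩, ⟨t, ht⟩⟩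
  rw [expAlg_apply, expField_of_isExp hv ht hc (isExp_algebraMap hv ht a)]
  simp

end Lift

/-- Existence of a Laurent expansion at a place of an algebraically closed constant field,
with prescribed local parameter. -/
theorem exists_expansion [IsAlgClosed k] (hK : IsFunctionField k K) (P : Place k K) (t : K)
    (ht : P.1 t = exp (-1)) :
    ∃ ε : K →ₐ[k] k⸨X⸩, LocRes.IsExpansionAt P.1 ε ∧ ε t = HahnSeries.single 1 1 := by
  have hc : ∀ y, P.1 y ≤ 1 → ∃ c : k, P.1 (y - algebraMap k K c) < 1 := fun y hy =>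
    Groth.Agent.Helper16.FF.exists_const_sub_lt_one hK
      (Groth.Agent.Helper16.FF.Place.deg_eq_one hK P) hy
  exact ⟨expAlg P.2.1 ht hc, isExpansionAt_expAlg P.2.1 ht hc, expAlg_t P.2.1 ht hc⟩

end Groth.Agent.Helper27.Expn
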