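import Mathlib
import Groth.Prelude.Def_LocRes
import Groth.Agent.Lib.Helper16.FF.GeomB

set_option autoImplicit false

namespace Groth.Agent.Helper27.Hasse

open FunFld TensorProduct
open scoped WithZero

universe u v

section Geo

variable {k : Type u} {K : Type v} [Field k] [Field K] [Algebra k K]

theorem isGeometric_of_isAlgClosed [IsAlgClosed k] : IsGeometric k K := by
  intro k' _ _ hfd
  haveI : Algebra.IsIntegral k k' := Algebra.IsIntegral.of_finite k k'
  have hbij : Function.Bijective (algebraMap k k') := IsAlgClosed.algebraMap_bijective_of_isIntegral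
  let e : k ≃ₐ[k] k' := AlgEquiv.ofBijective (Algebra.ofId k k') hbij
  let E : k' ⊗[k] K ≃ₐ[k] K :=
    (Algebra.TensorProduct.congr e.symm AlgEquiv.refl).trans (Algebra.TensorProduct.lid k K)
  exact E.toMulEquiv.isField (Field.toIsField K)

theorem finrank_kaehler_of_isAlgClosed [IsAlgClosed k] (hK : IsFunctionField k K) :
    Module.finrank K (Ω[K⁄k]) = 1 :=
  Groth.Agent.Helper16.FF.finrank_kaehler_of_isGeometric hK isGeometric_of_isAlgClosed

end Geo

section Deriv

variable {k : Type*} {K : Type*} {A : Type*} [Field k] [Field K] [Algebra k K] [CommRing A]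

/-- A "twisted derivation" `δ : K → A` along a ring hom `ι`, vanishing on `k`, is determined by
its value on `s` once `dy = c ds`. -/
theorem twisted_deriv (ι : K →+* A) (δ : K → A) (hadd : ∀ a b, δ (a + b) = δ a + δ b)
    (hmul : ∀ a b, δ (a * b) = ι a * δ b + ι b * δ a) (hk : ∀ c : k, δ (algebraMap k K c) = 0)
    (s y c : K) (hc : KaehlerDifferential.D k K y = c • KaehlerDifferential.D k K s) :
    δ y = ι c * δ s := by
  letI : Algebra K A := ι.toAlgebra
  letI : Algebra k A := (ι.comp (algebraMap k K)).toAlgebra
  haveI : IsScalarTower k K A := IsScalarTower.of_algebraMap_eq (fun _ => rfl)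
  have h1 : δ 1 = 0 := by simpa using hk 1
  let D' : Derivation k K A :=
    { toFun := δ
      map_add' := hadd
      map_smul' := fun r x => by
        simp only [RingHom.id_apply]
        rw [Algebra.smul_def, hmul, hk, mul_zero, add_zero, Algebra.smul_def]
        rfl
      map_one_eq_zero' := h1
      leibniz' := fun a b => by
        show δ (a * b) = a • δ b + b • δ a
        rw [hmul]; rfl }
  have := congrArg D'.liftKaehlerDifferential hc
  rw [map_smul, Derivation.liftKaehlerDifferential_comp_D,
    Derivation.liftKaehlerDifferential_comp_D] at this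
  exact this

end Deriv

end Groth.Agent.Helper27.Hasse
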