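import Groth.Agent.Lib.Helper27.AdF
import Groth.Agent.Lib.Helper27.DualC
import Groth.Agent.Lib.Helper27.ExpC
import Groth.Agent.Lib.Helper27.HasseA

/-! Adjoint divisor (S12613): the core inequality via the different. -/

set_option autoImplicit false

universe u v

namespace Groth.Agent.Helper27.Ad

open FunFld IntermediateField Groth.Agent.Helper16.FF Polynomial
open scoped WithZero LaurentSeries

variable {k : Type u} {K : Type v} [Field k] [Field K] [Algebra k K]

attribute [local instance] Sn.algF

theorem core [IsAlgClosed k] (hK : IsFunctionField k K) (x y : K)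
    (hxt : Transcendental k x) (hgen : IntermediateField.adjoin k ({x, y} : Set K) = ⊤)
    (G : k[X][X]) (hGm : G.Monic)
    (hG : G.eval₂ (aeval x : k[X] →ₐ[k] K).toRingHom y = 0)
    (hdeg : G.natDegree = Module.finrank (IntermediateField.adjoin k ({x} : Set K)) K)
    (hθ : (derivative G).eval₂ (aeval x : k[X] →ₐ[k] K).toRingHom y ≠ 0)
    (Q : Place k K) (hQx : Q.1 x ≤ 1)
    (ψ : K →ₐ[k] LaurentSeries k) (hψ : LocRes.IsExpansionAt Q.1 ψ)
    (hdx : LocRes.vDiff ψ 1 x ≠ 0) :
    LocRes.ordDiff ψ 1 x ≤
        Q.ord ((derivative G).eval₂ (aeval x : k[X] →ₐ[k] K).toRingHom y) ∧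
    (Q.ord ((derivative G).eval₂ (aeval x : k[X] →ₐ[k] K).toRingHom y) =
        LocRes.ordDiff ψ 1 x ↔
      ∀ z : K, Q.1 z ≤ 1 → z ∈ locRing (Algebra.adjoin k ({x, y} : Set K)) Q) := by
  classical
  set θ := (derivative G).eval₂ (aeval x : k[X] →ₐ[k] K).toRingHom y with hθdef
  set F := IntermediateField.adjoin k ({x} : Set K) with hFdef
  haveI hfin : FiniteDimensional F K := finite_of_transcendental hK hxt
  have hF : IsFunctionField k F :=
    isFunctionField_intermediateField hK F ⟨x, mem_adjoin_simple_self k x, hxt⟩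
  have hgF : IsGeometric k F := Hasse.isGeometric_of_isAlgClosed
  have hcomp : (algebraMap F K).comp (algebraMap k[X] F) =
      (aeval x : k[X] →ₐ[k] K).toRingHom := by
    apply RingHom.ext
    intro p
    exact Sn.coe_toF x p
  have hyint : IsIntegral F y := IsIntegral.of_finite F y
  have hroot : aeval y (G.map (algebraMap k[X] F)) = 0 := by
    rw [aeval_def, eval₂_map, hcomp]; exact hG
  have hmin : G.map (algebraMap k[X] F) = minpoly F y := by
    have hdvd := minpoly.dvd F y hroot
    have hdeg' : (G.map (algebraMap k[X] F)).natDegree ≤ (minpoly F y).natDegree := by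
      rw [hGm.natDegree_map, hdeg, Pln.natDegree_minpoly_eq hK hxt hgen]
    exact Polynomial.eq_of_monic_of_dvd_of_natDegree_le (minpoly.monic hyint) (hGm.map _) hdvd
      hdeg'
  have hθeq : aeval y (derivative (minpoly F y)) = θ := by
    rw [← hmin, derivative_map, aeval_def, eval₂_map, hcomp]
  -- `F(y) = K`
  have htop : IntermediateField.adjoin F ({y} : Set K) = ⊤ := by
    apply IntermediateField.restrictScalars_injective k
    rw [adjoin_adjoin_left, restrictScalars_top]
    have : ({x} : Set K) ∪ {y} = {x, y} := by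
      ext t; simp [or_comm]
    rw [this, hgen]
  -- separability
  haveI hsepK : Algebra.IsSeparable F K := by
    have hm' : derivative (minpoly F y) ≠ 0 := by
      intro h0
      apply hθ
      rw [← hθeq, h0, map_zero]
    have hsepy : IsSeparable F y :=
      (separable_iff_derivative_ne_zero (minpoly.irreducible hyint)).2 hm'
    haveI : Algebra.IsSeparable F (IntermediateField.adjoin F ({y} : Set K)) :=
      (isSeparable_adjoin_simple_iff_isSeparable F K).2 hsepy
    rw [htop] at this
    exact AlgEquiv.Algebra.isSeparable (IntermediateField.topEquiv (F := F) (E := K))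
  -- the place below
  obtain ⟨P, eP, heP⟩ := Groth.Agent.Helper16.FFW.exists_isOverWith (K := F) (K' := K) hF.1 Q
  have hQP : IsOver Q P := ⟨eP, heP⟩
  haveI : P.1.HasExtension Q.1 := Inr.hasExtension_of_isOverWith heP
  letI : Algebra P.O K := ((algebraMap F K).comp (algebraMap P.O F)).toAlgebra
  haveI : IsScalarTower P.O F K := .of_algebraMap_eq (fun _ => rfl)
  set xF : F := AdjoinSimple.gen k x with hxF
  have hxFK : algebraMap F K xF = x := rfl
  have hPx : P.1 xF ≤ 1 :=
    (Groth.Agent.Helper16.FFW.isOverWith_le_one_iff heP xF).1 (by rw [hxFK]; exact hQx)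
  obtain ⟨a, ha⟩ := exists_const_sub_lt_one hF (Place.deg_eq_one hF P) hPx
  set tF : F := xF - algebraMap k F a with htF
  have htop' : IntermediateField.adjoin k ({tF} : Set F) = ⊤ := by
    apply IntermediateField.lift_injective F
    rw [IntermediateField.lift_adjoin_simple, IntermediateField.lift_top]
    have hcoe : ((tF : F) : K) = x - algebraMap k K a := rfl
    rw [hcoe]
    apply le_antisymm
    · rw [adjoin_simple_le_iff]
      exact sub_mem (mem_adjoin_simple_self k x) (IntermediateField.algebraMap_mem _ _)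
    · rw [hFdef, adjoin_simple_le_iff]
      have h3 : (x - algebraMap k K a) + algebraMap k K a ∈
          IntermediateField.adjoin k ({x - algebraMap k K a} : Set K) :=
        add_mem (mem_adjoin_simple_self k _) (IntermediateField.algebraMap_mem _ _)
      rwa [sub_add_cancel] at h3
  have htP : P.1 tF = WithZero.exp (-1 : ℤ) :=
    val_eq_exp_neg_one_of_adjoin_eq_top hF htop' P ha
  obtain ⟨φ, hφ, hφt⟩ := Expn.exists_expansion hF P tF htP
  have hDφ : LocRes.D k (φ xF) = 1 := by
    have h1 : xF = tF + algebraMap k F a := by rw [htF]; ring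
    rw [h1, map_add, map_add, hφt, AlgHom.commutes, Derivation.map_algebraMap, add_zero,
      ← PowerSeries.coe_X, LocRes.D_coe, PowerSeries.derivative_X, PowerSeries.coe_one]
  have hvφ : LocRes.vDiff φ 1 xF = 1 := by
    unfold LocRes.vDiff
    rw [map_one, one_mul, hDφ, map_one]
  have hoφ : LocRes.ordDiff φ 1 xF = 0 := by
    unfold LocRes.ordDiff
    rw [hvφ, WithZero.log_one, neg_zero]
  have hx : LocRes.vDiff φ 1 xF ≠ 0 := by rw [hvφ]; exact one_ne_zero
  have hx' : LocRes.vDiff ψ 1 (algebraMap F K xF) ≠ 0 := hdx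
  have hf := res_surj (K := F) (K' := K) hK P Q
  -- integrality of `y`
  have hyi : IsIntegral P.O y := by
    let ι : k[X] →+* P.O := RingHom.codRestrict (algebraMap k[X] F) P.O.toSubring
      (fun p => (Place.mem_O_iff P _).2
        (Groth.Agent.Helper16.FFW.val_aeval_le_one P hPx p))
    refine ⟨G.map ι, hGm.map ι, ?_⟩
    rw [eval₂_map]
    have : (algebraMap P.O K).comp ι = (aeval x : k[X] →ₐ[k] K).toRingHom := by
      rw [← hcomp]
      apply RingHom.ext
      intro p
      rfl
    rw [this]
    exact hG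
  have hdE : LocRes.diffExp φ ψ eP xF = LocRes.ordDiff ψ 1 x := by
    unfold LocRes.diffExp
    rw [hoφ, mul_zero, sub_zero]
    rfl
  obtain ⟨hle, himp⟩ := Dual.main12575 hF hgF P Q eP heP φ hφ ψ hψ xF hx hx' hf y htop hyi
  rw [hθeq, hdE] at hle himp
  refine ⟨hle, ⟨fun heq z hz => ?_, fun h => le_antisymm ?_ hle⟩⟩
  · -- the local ring of `O_P[y]` is the local ring of `k[x, y]`
    have hxA : Algebra.adjoin k ({x} : Set K) ≤ locRing (Algebra.adjoin k ({x, y} : Set K)) Q :=
      (Algebra.adjoin_mono (by simp)).trans (le_locRing _ _)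
    have hsub : ∀ w ∈ Algebra.adjoin P.O ({y} : Set K),
        w ∈ locRing (Algebra.adjoin k ({x, y} : Set K)) Q := by
      intro w hw
      induction hw using Algebra.adjoin_induction with
      | mem t ht =>
        rw [Set.mem_singleton_iff] at ht
        rw [ht]
        exact le_locRing _ _ (Algebra.subset_adjoin (by simp))
      | algebraMap r =>
        have h1 : Q.1 (algebraMap F K (r : F)) ≤ 1 :=
          (Groth.Agent.Helper16.FFW.isOverWith_le_one_iff heP (r : F)).2
            ((Place.mem_O_iff P _).1 r.2)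
        have h2 := rat_mem_locRing hK Q x hxt hQx (algebraMap F K (r : F)) (r : F).2 h1
        exact locRing_le_locRing hxA h2
      | add a b _ _ ha hb => exact Subalgebra.add_mem _ ha hb
      | mul a b _ _ ha hb => exact Subalgebra.mul_mem _ ha hb
    obtain ⟨a', ha', b', hb', hb1, hzb⟩ := himp heq z hz
    have hb0 : b' ≠ 0 := by
      rintro rfl
      rw [map_zero] at hb1
      exact zero_ne_one hb1
    have : z = a' * b'⁻¹ := by rw [← hzb]; field_simp
    rw [this]
    exact Subalgebra.mul_mem _ (hsub a' ha') (inv_mem_locRing (hsub b' hb') hb1)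
  · -- a dual element of value `Q(θ)⁻¹`
    obtain ⟨hall, -⟩ := Dual.main12574 hF hgF P Q eP heP φ hφ ψ hψ xF hx hx' hf
    rw [hdE] at hall
    obtain ⟨yb, -, hyb, hcoord⟩ := Ic.exists_basis (K' := K) hF P
    have hleA : Algebra.adjoin k ({x, y} : Set K) ≤ Dual.Ak P y := by
      apply Algebra.adjoin_le
      intro w hw
      rcases hw with rfl | hw
      · exact Dual.algebraMap_mem_Ak P y (a := xF) hPx
      · rw [Set.mem_singleton_iff] at hw
        rw [hw]
        exact Algebra.subset_adjoin (Set.mem_singleton y)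
    have hloc : ∀ j, yb j ∈ locRing (Dual.Ak P y) Q := fun j =>
      locRing_le_locRing (hleA.trans (le_locRing _ _)) (h _ (hyb j Q hQP))
    choose u hu w hw hw1 huw using hloc
    have hcA : ∏ j, w j ∈ Algebra.adjoin P.O ({y} : Set K) :=
      Subalgebra.prod_mem _ fun j _ => hw j
    have hc1 : Q.1 (∏ j, w j) = 1 := by
      rw [map_prod]; exact Finset.prod_eq_one fun j _ => hw1 j
    have hcz : ∀ z : K, IsIntegral P.O z →
        (∏ j, w j) * z ∈ Algebra.adjoin P.O ({y} : Set K) := by
      intro z hz
      obtain ⟨c, hc, rfl⟩ := hcoord z ((Nrm.mem_S_iff P hF z).1 hz)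
      rw [Finset.mul_sum]
      refine Subalgebra.sum_mem _ fun j _ => ?_
      have h1 : (∏ j, w j) * (c j • yb j) =
          algebraMap F K (c j) * (u j * ∏ i ∈ Finset.univ.erase j, w i) := by
        rw [← Finset.mul_prod_erase Finset.univ w (Finset.mem_univ j), Algebra.smul_def, ← huw j]
        ring
      rw [h1]
      refine Subalgebra.mul_mem _ (Dual.algebraMap_mem_Ak P y (hc j))
        (Subalgebra.mul_mem _ (hu j) ?_)
      exact Subalgebra.prod_mem _ fun i _ => hw i
    have hdual : Dual.IsDualElt P ((∏ j, w j) * θ⁻¹) := by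
      intro z hz
      have h1 := (Dual.mem_dual_adjoin_iff P htop hyi θ⁻¹).2
        (by rw [hθeq, inv_mul_cancel₀ hθ]; exact Subalgebra.one_mem _) ((∏ j, w j) * z) (hcz z hz)
      have e : (∏ j, w j) * θ⁻¹ * z = θ⁻¹ * ((∏ j, w j) * z) := by ring
      rw [e]
      exact h1
    have h2 := hall _ hdual
    rw [map_mul, hc1, one_mul, map_inv₀, Place.val_eq_exp_neg_ord Q hθ, ← WithZero.exp_neg,
      neg_neg, WithZero.exp_le_exp] at h2
    exact h2

end Groth.Agent.Helper27.Ad
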