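import Groth.Agent.Lib.Helper27.AdG

/-! Adjoint divisor (S12613): choice of coordinates in general position. -/

set_option autoImplicit false

universe u v

namespace Groth.Agent.Helper27.Ad

open FunFld IntermediateField Groth.Agent.Helper16.FF
open scoped WithZero

variable {k : Type u} {K : Type v} [Field k] [Field K] [Algebra k K]

/-- a direction avoiding the curve at infinity and a given line -/
theorem exists_direction [Infinite k] (g : MvPolynomial (Fin 2) k) (e : ℕ) (he : 1 ≤ e)
    (hg : g.IsHomogeneous e) (hg0 : g ≠ 0) (ξ η : K) (hη : η ≠ 0) :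
    ∃ a b : k, MvPolynomial.eval ![a, b] g ≠ 0 ∧ (a ≠ 0 ∨ b ≠ 0) ∧
      algebraMap k K a * ξ + algebraMap k K b * η ≠ 0 := by
  have hvec : ∀ v : Fin 2 → k, v = ![v 0, v 1] := by
    intro v; funext i; fin_cases i <;> rfl
  have hzero : ∀ v : Fin 2 → k, MvPolynomial.eval v g ≠ 0 → v 0 ≠ 0 ∨ v 1 ≠ 0 := by
    intro v hv
    by_contra hcon
    rw [not_or, not_not, not_not] at hcon
    apply hv
    have hv0 : v = 0 := by
      funext i; fin_cases i
      · exact hcon.1
      · exact hcon.2
    rw [hv0, MvPolynomial.eval_zero, MvPolynomial.constantCoeff_eq]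
    by_contra hc
    have := hg hc
    rw [Finsupp.weight_apply, Finsupp.sum_zero_index] at this
    omega
  by_cases hex : ∃ α β : k, (α ≠ 0 ∨ β ≠ 0) ∧ algebraMap k K α * ξ + algebraMap k K β * η = 0
  · obtain ⟨α, β, hαβ, hrel⟩ := hex
    have hα : α ≠ 0 := by
      rintro rfl
      rw [map_zero, zero_mul, zero_add] at hrel
      rcases mul_eq_zero.1 hrel with h | h
      · rw [map_eq_zero_iff _ (algebraMap k K).injective] at h
        rcases hαβ with h' | h'
        · exact h' rfl
        · exact h' h
      · exact hη h
    set l : MvPolynomial (Fin 2) k :=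
      MvPolynomial.C β * MvPolynomial.X 0 - MvPolynomial.C α * MvPolynomial.X 1 with hl
    have hl0 : l ≠ 0 := by
      intro h0
      have := congrArg (MvPolynomial.eval ![0, 1]) h0
      rw [hl] at this
      simp at this
      exact hα this
    have hprod : g * l ≠ 0 := mul_ne_zero hg0 hl0
    obtain ⟨v, hv⟩ : ∃ v : Fin 2 → k, MvPolynomial.eval v (g * l) ≠ 0 := by
      by_contra hcon
      push Not at hcon
      exact hprod (MvPolynomial.funext fun v => by rw [hcon v, map_zero])
    rw [map_mul] at hv
    have hvg : MvPolynomial.eval v g ≠ 0 := left_ne_zero_of_mul hv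
    have hvl : β * v 0 - α * v 1 ≠ 0 := by
      have := right_ne_zero_of_mul hv
      rw [hl] at this
      simpa using this
    refine ⟨v 0, v 1, by rw [← hvec v]; exact hvg, hzero v hvg, ?_⟩
    intro h0
    apply hvl
    have h1 : (algebraMap k K α * algebraMap k K (v 1) - algebraMap k K (v 0) * algebraMap k K β)
        * η = 0 := by
      linear_combination algebraMap k K α * h0 - algebraMap k K (v 0) * hrel
    rcases mul_eq_zero.1 h1 with h | h
    · rw [← map_mul, ← map_mul, ← map_sub, map_eq_zero_iff _ (algebraMap k K).injective] at h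
      linear_combination -h
    · exact absurd h hη
  · push Not at hex
    obtain ⟨v, hv⟩ : ∃ v : Fin 2 → k, MvPolynomial.eval v g ≠ 0 := by
      by_contra hcon
      push Not at hcon
      exact hg0 (MvPolynomial.funext fun v => by rw [hcon v, map_zero])
    exact ⟨v 0, v 1, by rw [← hvec v]; exact hv, hzero v hv, hex (v 0) (v 1) (hzero v hv)⟩

theorem exists_gp [IsAlgClosed k] (x y : K)
    (hxy : IntermediateField.adjoin k ({x, y} : Set K) = ⊤) (f : MvPolynomial (Fin 2) k)
    (hf : Irreducible f) (hfxy : MvPolynomial.aeval ![x, y] f = 0)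
    (hdx : KaehlerDifferential.D k K x ≠ 0)
    (hfy : MvPolynomial.aeval ![x, y] (MvPolynomial.pderiv 1 f) ≠ 0) :
    ∃ (A : Matrix (Fin 3) (Fin 3) k) (u : Fin 3 → K), A.det ≠ 0 ∧
      (∀ i, ∑ j, algebraMap k K (A i j) * u j = ![(1 : K), x, y] i) ∧ u 0 = 1 ∧
      KaehlerDifferential.D k K (u 1) ≠ 0 ∧
      IntermediateField.adjoin k ({u 1, u 2} : Set K) = ⊤ ∧
      MvPolynomial.eval ![0, 0, 1] (sub A (hom f)) ≠ 0 ∧ Irreducible (rho (sub A (hom f))) := by
  classical
  set e := f.totalDegree with he
  set ξ := MvPolynomial.aeval ![x, y] (MvPolynomial.pderiv 0 f) with hξ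
  set η := MvPolynomial.aeval ![x, y] (MvPolynomial.pderiv 1 f) with hη
  have he1 : 1 ≤ e := by
    by_contra h
    have h0 : f.totalDegree = 0 := by omega
    rw [MvPolynomial.totalDegree_eq_zero_iff_eq_C] at h0
    apply hfy
    rw [hη, h0, MvPolynomial.pderiv_C, map_zero]
  -- the chain rule
  have hchain : ξ • KaehlerDifferential.D k K x + η • KaehlerDifferential.D k K y = 0 := by
    have := Adj.derivation_aeval (KaehlerDifferential.D k K) ![x, y] f
    rw [hfxy, map_zero, Fin.sum_univ_two] at this
    exact this.symm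
  obtain ⟨a, b, hab, hab0, habη⟩ := exists_direction (K := K)
    (MvPolynomial.homogeneousComponent e f) e he1
    (MvPolynomial.homogeneousComponent_isHomogeneous e f)
    (top_component_ne_zero f hf.ne_zero) ξ η hfy
  obtain ⟨p, q, hΔ⟩ : ∃ p q : k, p * b - q * a ≠ 0 := by
    by_cases hb : b = 0
    · refine ⟨0, -1, ?_⟩
      rcases hab0 with h | h
      · simpa using h
      · exact absurd hb h
    · exact ⟨1, 0, by simpa using hb⟩
  set Δ := p * b - q * a with hΔdef
  set x' : K := (b / Δ) • x - (a / Δ) • y with hx'
  set y' : K := (p / Δ) • y - (q / Δ) • x with hy'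
  set A : Matrix (Fin 3) (Fin 3) k := !![1, 0, 0; 0, p, a; 0, q, b] with hA
  set B : Matrix (Fin 2) (Fin 2) k := !![p, a; q, b] with hB
  have hAB : A = !![1, 0, 0; 0, B 0 0, B 0 1; 0, B 1 0, B 1 1] := by
    rw [hA, hB]; simp
  have hdetA : A.det = Δ := by
    rw [hA, Matrix.det_fin_three]; simp; ring
  have hdetB : B.det = Δ := by
    rw [hB, Matrix.det_fin_two]; simp; rw [hΔdef]; ring
  have hΔK : algebraMap k K Δ ≠ 0 := by
    rw [Ne, map_eq_zero_iff _ (algebraMap k K).injective]; exact hΔ
  have hx1 : algebraMap k K p * x' + algebraMap k K a * y' = x := by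
    rw [hx', hy']
    simp only [Algebra.smul_def, map_div₀]
    field_simp
    rw [hΔdef]
    simp only [map_sub, map_mul]
    ring
  have hy1 : algebraMap k K q * x' + algebraMap k K b * y' = y := by
    rw [hx', hy']
    simp only [Algebra.smul_def, map_div₀]
    field_simp
    rw [hΔdef]
    simp only [map_sub, map_mul]
    ring
  refine ⟨A, ![1, x', y'], by rw [hdetA]; exact hΔ, ?_, rfl, ?_, ?_, ?_, ?_⟩
  · intro i
    fin_cases i
    · simp [hA, Fin.sum_univ_three]
    · simp [hA, Fin.sum_univ_three]; exact hx1
    · simp [hA, Fin.sum_univ_three]; exact hy1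
  · show KaehlerDifferential.D k K x' ≠ 0
    intro h0
    have h1 : b • KaehlerDifferential.D k K x - a • KaehlerDifferential.D k K y = 0 := by
      have h2 : KaehlerDifferential.D k K x' =
          (b / Δ) • KaehlerDifferential.D k K x - (a / Δ) • KaehlerDifferential.D k K y := by
        rw [hx', map_sub, Derivation.map_smul, Derivation.map_smul]
      rw [h2] at h0
      have h3 := congrArg (fun w => Δ • w) h0
      simp only [smul_sub, smul_smul, smul_zero] at h3
      rwa [mul_div_cancel₀ _ hΔ, mul_div_cancel₀ _ hΔ] at h3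
    have h4 : (algebraMap k K a * ξ + algebraMap k K b * η) • KaehlerDifferential.D k K x = 0 := by
      have hb : b • KaehlerDifferential.D k K x = a • KaehlerDifferential.D k K y :=
        sub_eq_zero.1 h1
      have hηy : η • KaehlerDifferential.D k K y = -(ξ • KaehlerDifferential.D k K x) :=
        eq_neg_of_add_eq_zero_right hchain
      calc (algebraMap k K a * ξ + algebraMap k K b * η) • KaehlerDifferential.D k K x
          = algebraMap k K a • (ξ • KaehlerDifferential.D k K x) +
              η • (algebraMap k K b • KaehlerDifferential.D k K x) := by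
            rw [add_smul, mul_smul, mul_smul, smul_comm (algebraMap k K b) η]
        _ = algebraMap k K a • (ξ • KaehlerDifferential.D k K x) +
              η • (b • KaehlerDifferential.D k K x) := by rw [algebraMap_smul K b]
        _ = algebraMap k K a • (ξ • KaehlerDifferential.D k K x) +
              η • (a • KaehlerDifferential.D k K y) := by rw [hb]
        _ = algebraMap k K a • (ξ • KaehlerDifferential.D k K x) +
              a • (η • KaehlerDifferential.D k K y) := by rw [smul_comm η a]
        _ = 0 := by rw [hηy, smul_neg, algebraMap_smul K a, add_neg_cancel]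
    rcases smul_eq_zero.1 h4 with h | h
    · exact habη h
    · exact hdx h
  · show IntermediateField.adjoin k ({x', y'} : Set K) = ⊤
    rw [eq_top_iff, ← hxy, IntermediateField.adjoin_le_iff]
    have hx'm : x' ∈ IntermediateField.adjoin k ({x', y'} : Set K) :=
      IntermediateField.subset_adjoin k _ (by simp)
    have hy'm : y' ∈ IntermediateField.adjoin k ({x', y'} : Set K) :=
      IntermediateField.subset_adjoin k _ (by simp)
    intro w hw
    rcases hw with rfl | hw
    · rw [← hx1]
      exact add_mem (mul_mem (IntermediateField.algebraMap_mem _ _) hx'm)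
        (mul_mem (IntermediateField.algebraMap_mem _ _) hy'm)
    · rw [Set.mem_singleton_iff] at hw
      rw [hw, ← hy1]
      exact add_mem (mul_mem (IntermediateField.algebraMap_mem _ _) hx'm)
        (mul_mem (IntermediateField.algebraMap_mem _ _) hy'm)
  · rw [eval_sub]
    have h1 : (fun i => ∑ j, A i j * (![0, 0, 1] : Fin 3 → k) j) = ![0, a, b] := by
      funext i
      fin_cases i <;> simp [hA, Fin.sum_univ_three]
    rw [h1, eval_hom_zero]
    exact hab
  · rw [rho_eq, hAB, dehom_sub, dehom_hom]
    exact irreducible_psi _ (irreducible_sub B (by rw [hdetB]; exact hΔ) f hf)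

end Groth.Agent.Helper27.Ad
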