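import Groth.Agent.Lib.Helper27.AdH
import Groth.Agent.Lib.Helper27.DExpA

/-! Adjoint divisor (S12613): assembly. -/

set_option autoImplicit false

universe u v

namespace Groth.Agent.Helper27.Ad

open FunFld IntermediateField Groth.Agent.Helper16.FF
open scoped WithZero LaurentSeries

variable {k : Type u} {K : Type v} [Field k] [Field K] [Algebra k K]

theorem transcendental_of_D_ne_zero (hK : IsFunctionField k K) (z : K)
    (hz : KaehlerDifferential.D k K z ≠ 0) : Transcendental k z := by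
  intro halg
  obtain ⟨c, hc⟩ := hK.2 z halg
  apply hz
  rw [← hc, Derivation.map_algebraMap]

theorem final [IsAlgClosed k] (hK : IsFunctionField k K) (F : MvPolynomial (Fin 3) k) (e : ℕ)
    (hF : F.IsHomogeneous e) (x y : K) (hF0 : MvPolynomial.aeval ![(1 : K), x, y] F = 0)
    (hdx : KaehlerDifferential.D k K x ≠ 0)
    (he : (mapDiv k ![(1 : K), x, y]).deg = e)
    (hFy : MvPolynomial.aeval ![(1 : K), x, y] (MvPolynomial.pderiv 2 F) ≠ 0)
    (A : Matrix (Fin 3) (Fin 3) k) (hA : A.det ≠ 0)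
    (u : Fin 3 → K) (hu : ∀ i, ∑ j, algebraMap k K (A i j) * u j = ![(1 : K), x, y] i)
    (hu0 : u 0 ≠ 0)
    (hdx₂ : KaehlerDifferential.D k K (u 1 / u 0) ≠ 0)
    (Q : Place k K) (hQ : Q.1 (u 1 / u 0) ≤ 1)
    (hgen₂ : IntermediateField.adjoin k ({u 1 / u 0, u 2 / u 0} : Set K) = ⊤)
    (hc₂ : MvPolynomial.eval ![0, 0, 1] (sub A F) ≠ 0)
    (hfr : Module.finrank (IntermediateField.adjoin k ({u 1 / u 0} : Set K)) K = e)
    (ψ : K →ₐ[k] LaurentSeries k) (hψ : LocRes.IsExpansionAt Q.1 ψ) :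
    0 ≤ ((e : ℤ) - 3) * mapDiv k ![(1 : K), x, y] Q -
        LocRes.ordDiff ψ (MvPolynomial.aeval ![(1 : K), x, y] (MvPolynomial.pderiv 2 F))⁻¹ x ∧
    (((e : ℤ) - 3) * mapDiv k ![(1 : K), x, y] Q -
        LocRes.ordDiff ψ (MvPolynomial.aeval ![(1 : K), x, y] (MvPolynomial.pderiv 2 F))⁻¹ x = 0 ↔
      IsNonsingularAt ![(1 : K), x, y] Q) := by
  classical
  have h1 := Hasse.finrank_kaehler_of_isAlgClosed hK
  obtain ⟨hfy₂, -, hδ⟩ := adj_at hK F e hF x y hF0 hdx he A hA u hu hu0 hFy hdx₂ Q ψ hψ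
  rw [hδ]
  set x₂ := u 1 / u 0 with hx₂
  set y₂ := u 2 / u 0 with hy₂
  set F₂ := sub A F with hF₂def
  have hF₂ : F₂.IsHomogeneous e := sub_isHomogeneous A F e hF
  have hF₂0 : MvPolynomial.aeval ![(1 : K), x₂, y₂] F₂ = 0 := by
    rw [hF₂def, aeval_sub]
    have hj : ∀ j, (![(1 : K), x₂, y₂] : Fin 3 → K) j = u j / u 0 := by
      intro j
      fin_cases j
      · simp [div_self hu0]
      · rfl
      · rfl
    have h2 : (fun i => ∑ j, algebraMap k K (A i j) * (![(1 : K), x₂, y₂] : Fin 3 → K) j) =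
        fun i => (u 0)⁻¹ * (![(1 : K), x, y] : Fin 3 → K) i := by
      funext i
      rw [← hu i, Finset.mul_sum]
      refine Finset.sum_congr rfl fun j _ => ?_
      rw [hj j]
      field_simp
    rw [h2, Groth.Agent.Helper17.aeval_mul_of_isHomogeneous F hF, hF0, mul_zero]
  have hxt₂ : Transcendental k x₂ := transcendental_of_D_ne_zero hK x₂ hdx₂
  obtain ⟨hGm, hGdeg⟩ := Gpoly_monic F₂ e hF₂ hc₂
  have hG0 := Gpoly_eval₂ F₂ x₂ y₂ hF₂0
  have hθeq := Gpoly_derivative_eval₂ F₂ x₂ y₂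
  have hcK : algebraMap k K (MvPolynomial.eval ![0, 0, 1] F₂)⁻¹ ≠ 0 := by
    rw [Ne, map_eq_zero_iff _ (algebraMap k K).injective]
    exact inv_ne_zero hc₂
  have hθ : (Polynomial.derivative (Gpoly F₂)).eval₂
      (Polynomial.aeval x₂ : Polynomial k →ₐ[k] K).toRingHom y₂ ≠ 0 := by
    rw [hθeq]
    exact mul_ne_zero hcK hfy₂
  have hQy : Q.1 y₂ ≤ 1 := val_y_le_one F₂ e hF₂ hc₂ x₂ y₂ hF₂0 Q hQ
  have hmd : mapDiv k ![(1 : K), x₂, y₂] Q = 0 :=
    Groth.Agent.Helper27.Loc.mapDiv_apply_eq_zero hK ![(1 : K), x₂, y₂] Q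
      (fun i => by fin_cases i <;> simp [hQ, hQy]) ⟨0, by simp⟩
  have hvd : LocRes.vDiff ψ 1 x₂ ≠ 0 := by
    have hD := Adj.D_exp_ne_zero h1 Q ψ hψ x₂ hdx₂
    unfold LocRes.vDiff
    rw [map_one, one_mul, Ne, map_eq_zero]
    exact hD
  obtain ⟨hle, hiff⟩ := core hK x₂ y₂ hxt₂ hgen₂ (Gpoly F₂) hGm hG0 (by rw [hGdeg, hfr]) hθ Q hQ
    ψ hψ hvd
  have hord : Q.ord ((Polynomial.derivative (Gpoly F₂)).eval₂
      (Polynomial.aeval x₂ : Polynomial k →ₐ[k] K).toRingHom y₂) =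
      Q.ord (MvPolynomial.aeval ![(1 : K), x₂, y₂] (MvPolynomial.pderiv 2 F₂)) := by
    rw [hθeq, Place.ord_mul Q hcK hfy₂, Place.ord_algebraMap, zero_add]
  rw [hord] at hle hiff
  have hδ₂ : ((e : ℤ) - 3) * mapDiv k ![(1 : K), x₂, y₂] Q -
      LocRes.ordDiff ψ (MvPolynomial.aeval ![(1 : K), x₂, y₂] (MvPolynomial.pderiv 2 F₂))⁻¹ x₂ =
      Q.ord (MvPolynomial.aeval ![(1 : K), x₂, y₂] (MvPolynomial.pderiv 2 F₂)) -
        LocRes.ordDiff ψ 1 x₂ := by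
    rw [hmd, mul_zero, Adj.ordDiff_mul h1 Q ψ hψ _ x₂ (inv_ne_zero hfy₂) hdx₂, Place.ord_inv]
    ring
  rw [hδ₂]
  refine ⟨by omega, ?_⟩
  rw [nonsingular_iff x y A hA u hu hu0 Q hQ hQy, ← hiff]
  constructor
  · intro h; omega
  · intro h; omega

end Groth.Agent.Helper27.Ad
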