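import Groth.Agent.Lib.Helper27.AdI

/-! Adjoint divisor (S12613): main theorem. -/

set_option autoImplicit false

universe u v

namespace Groth.Agent.Helper27.Ad

open FunFld IntermediateField Groth.Agent.Helper16.FF
open scoped WithZero LaurentSeries

variable {k : Type u} {K : Type v} [Field k] [Field K] [Algebra k K]

theorem main12613 [IsAlgClosed k]
    (hK : FunFld.IsFunctionField k K) (x y : K)
    (hxy : IntermediateField.adjoin k ({x, y} : Set K) = ⊤)
    (f : MvPolynomial (Fin 2) k) (hf : Irreducible f) (hfxy : MvPolynomial.aeval ![x, y] f = 0)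
    (Q : FunFld.Place k K) (ΦQ : K →ₐ[k] LaurentSeries k) (hΦQ : LocRes.IsExpansionAt Q.1 ΦQ)
    (hne : LocRes.vDiff ΦQ (MvPolynomial.aeval ![x, y] (MvPolynomial.pderiv 1 f))⁻¹ x ≠ 0) :
    0 ≤ ((FunFld.mapDiv k ![(1 : K), x, y]).deg - 3) * FunFld.mapDiv k ![(1 : K), x, y] Q -
        LocRes.ordDiff ΦQ (MvPolynomial.aeval ![x, y] (MvPolynomial.pderiv 1 f))⁻¹ x ∧
    (((FunFld.mapDiv k ![(1 : K), x, y]).deg - 3) * FunFld.mapDiv k ![(1 : K), x, y] Q -
        LocRes.ordDiff ΦQ (MvPolynomial.aeval ![x, y] (MvPolynomial.pderiv 1 f))⁻¹ x = 0 ↔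
      FunFld.IsNonsingularAt ![(1 : K), x, y] Q) := by
  classical
  set η := MvPolynomial.aeval ![x, y] (MvPolynomial.pderiv 1 f) with hηdef
  have hprod : ΦQ η⁻¹ * LocRes.D k (ΦQ x) ≠ 0 := by
    intro h0
    apply hne
    unfold LocRes.vDiff
    rw [h0, map_zero]
  have hη : η ≠ 0 := by
    intro h0
    apply hprod
    rw [h0, inv_zero, map_zero, zero_mul]
  have hDx : LocRes.D k (ΦQ x) ≠ 0 := right_ne_zero_of_mul hprod
  have hdx : KaehlerDifferential.D k K x ≠ 0 := DExp.D_ne_zero_of_exp ΦQ x hDx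
  set F := hom f with hFdef
  set e := f.totalDegree with hedef
  have hF : F.IsHomogeneous e := hom_isHomogeneous f
  have hF0 : MvPolynomial.aeval ![(1 : K), x, y] F = 0 := by rw [hFdef, aeval_hom, hfxy]
  have hFyeq : MvPolynomial.aeval ![(1 : K), x, y] (MvPolynomial.pderiv 2 F) = η :=
    aeval_pderiv_hom x y f
  have hFy : MvPolynomial.aeval ![(1 : K), x, y] (MvPolynomial.pderiv 2 F) ≠ 0 := by
    rw [hFyeq]; exact hη
  obtain ⟨A₁, u₁, hA₁, hu₁, hu₁0, hdx₁, hgen₁, hc₁, hirr₁⟩ :=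
    exists_gp x y hxy f hf hfxy hdx hη
  set x' := u₁ 1 with hx'
  set y' := u₁ 2 with hy'
  have hu₁j : ∀ j, u₁ j = (![(1 : K), x', y'] : Fin 3 → K) j := by
    intro j
    fin_cases j
    · exact hu₁0
    · rfl
    · rfl
  set F₁ := sub A₁ F with hF₁def
  have hF₁ : F₁.IsHomogeneous e := sub_isHomogeneous A₁ F e hF
  have hF₁0 : MvPolynomial.aeval ![(1 : K), x', y'] F₁ = 0 := by
    rw [hF₁def, aeval_sub]
    have h2 : (fun i => ∑ j, algebraMap k K (A₁ i j) * (![(1 : K), x', y'] : Fin 3 → K) j) =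
        ![(1 : K), x, y] := by
      funext i
      rw [← hu₁ i]
      refine Finset.sum_congr rfl fun j _ => ?_
      rw [hu₁j j]
    rw [h2, hF0]
  have hxt' : Transcendental k x' := transcendental_of_D_ne_zero hK x' hdx₁
  have hx'0 : x' ≠ 0 := fun h0 => hxt' (h0 ▸ isAlgebraic_zero)
  have hfr₁ : Module.finrank (IntermediateField.adjoin k ({x'} : Set K)) K = e :=
    finrank_eq hK F₁ e hF₁ hc₁ hirr₁ x' y' hxt' hgen₁ hF₁0
  have hmd₁ : mapDiv k ![(1 : K), x', y'] = mapDiv k ![(1 : K), x, y] := by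
    ext P
    have h2 := Adj.mapDiv_change hK x y A₁ hA₁ u₁ hu₁ (by rw [hu₁0]; exact one_ne_zero) P
    rw [hu₁0, div_one, div_one, Place.ord_one, add_zero] at h2
    exact h2
  have he : (mapDiv k ![(1 : K), x, y]).deg = e := by
    rw [← hmd₁, mapDiv_eq_poleDiv hK F₁ e hF₁ hc₁ x' y' hF₁0, deg_poleDiv hK hxt', hfr₁]
  rw [he, ← hFyeq]
  by_cases hQx : Q.1 x' ≤ 1
  · -- `Q` is a finite place
    have e1 : u₁ 1 / u₁ 0 = x' := by rw [hu₁0, div_one]
    have e2 : u₁ 2 / u₁ 0 = y' := by rw [hu₁0, div_one]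
    exact final hK F e hF x y hF0 hdx he hFy A₁ hA₁ u₁ hu₁ (by rw [hu₁0]; exact one_ne_zero)
      (by rw [e1]; exact hdx₁) Q (by rw [e1]; exact hQx) (by rw [e1, e2]; exact hgen₁) hc₁
      (by rw [e1]; exact hfr₁) ΦQ hΦQ
  · -- `Q` is a place at infinity
    rw [not_le] at hQx
    set A₂ := A₁ * swapM with hA₂def
    set u₂ : Fin 3 → K := ![x', 1, y'] with hu₂def
    have hA₂ : A₂.det ≠ 0 := by
      rw [hA₂def, Matrix.det_mul]
      refine mul_ne_zero hA₁ ?_
      rw [swapM, Matrix.det_fin_three]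
      simp
    have hu₂ : ∀ i, ∑ j, algebraMap k K (A₂ i j) * u₂ j = ![(1 : K), x, y] i := by
      intro i
      rw [← hu₁ i]
      simp only [hA₂def, hu₂def, Matrix.mul_apply, swapM, Fin.sum_univ_three, hu₁j]
      simp
      ring
    have hu₂0 : u₂ 0 ≠ 0 := hx'0
    have e1 : u₂ 1 / u₂ 0 = x'⁻¹ := by
      show (1 : K) / x' = x'⁻¹
      rw [one_div]
    have e2 : u₂ 2 / u₂ 0 = y' / x' := rfl
    have hdx₂ : KaehlerDifferential.D k K x'⁻¹ ≠ 0 := by
      rw [Derivation.leibniz_inv]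
      exact smul_ne_zero (neg_ne_zero.2 (pow_ne_zero _ (inv_ne_zero hx'0))) hdx₁
    have hQ₂ : Q.1 x'⁻¹ ≤ 1 := by
      rw [map_inv₀]
      exact inv_le_one_of_one_le₀ hQx.le
    have hgen₂ : IntermediateField.adjoin k ({x'⁻¹, y' / x'} : Set K) = ⊤ := by
      rw [eq_top_iff, ← hgen₁, IntermediateField.adjoin_le_iff]
      have h1 : x'⁻¹ ∈ IntermediateField.adjoin k ({x'⁻¹, y' / x'} : Set K) :=
        IntermediateField.subset_adjoin k _ (by simp)
      have h2 : y' / x' ∈ IntermediateField.adjoin k ({x'⁻¹, y' / x'} : Set K) :=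
        IntermediateField.subset_adjoin k _ (by simp)
      have h3 : x' ∈ IntermediateField.adjoin k ({x'⁻¹, y' / x'} : Set K) := by
        have := inv_mem h1
        rwa [inv_inv] at this
      intro w hw
      rcases hw with rfl | hw
      · exact h3
      · rw [Set.mem_singleton_iff] at hw
        rw [hw]
        have := mul_mem h2 h3
        rwa [div_mul_cancel₀ _ hx'0] at this
    have hsub₂ : sub A₂ F = sub swapM F₁ := by
      rw [hA₂def, ← sub_comp]; rfl
    have hc₂ : MvPolynomial.eval ![0, 0, 1] (sub A₂ F) ≠ 0 := by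
      rw [hsub₂, eval_sub_swap]; exact hc₁
    have hfr₂ : Module.finrank (IntermediateField.adjoin k ({x'⁻¹} : Set K)) K = e := by
      rw [finrank_adjoin_inv]; exact hfr₁
    exact final hK F e hF x y hF0 hdx he hFy A₂ hA₂ u₂ hu₂ hu₂0
      (by rw [e1]; exact hdx₂) Q (by rw [e1]; exact hQ₂) (by rw [e1, e2]; exact hgen₂) hc₂
      (by rw [e1]; exact hfr₂) ΦQ hΦQ

end Groth.Agent.Helper27.Ad
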