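import Groth.Agent.Lib.Helper27.LocM
import Groth.Agent.Lib.Helper16.FF.PlaneB
import Groth.Agent.Lib.Helper17.FF3

/-! Invariance of the adjoint divisor under projective coordinate changes (S12616): generalities. -/

set_option autoImplicit false

namespace Groth.Agent.Helper27.Adj

open FunFld MvPolynomial Groth.Agent.Helper16.FF Groth.Agent.Helper27.Loc Groth.Agent.Helper27.Hasse
open scoped WithZero LaurentSeries

/-- chain rule for a derivation applied to a polynomial expression -/
theorem derivation_aeval {R A M σ : Type*} [CommRing R] [CommRing A] [Algebra R A] [AddCommGroup M]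
    [Module A M] [Module R M] [IsScalarTower R A M] [Fintype σ] [DecidableEq σ]
    (d : Derivation R A M) (X : σ → A) (p : MvPolynomial σ R) :
    d (aeval X p) = ∑ i, aeval X (pderiv i p) • d (X i) := by
  induction p using MvPolynomial.induction_on with
  | C a =>
    rw [aeval_C, Derivation.map_algebraMap]
    simp
  | add p q hp hq =>
    rw [map_add, map_add, hp, hq, ← Finset.sum_add_distrib]
    refine Finset.sum_congr rfl fun i _ => ?_
    rw [map_add, map_add, add_smul]
  | mul_X p j hp =>
    rw [map_mul, aeval_X, Derivation.leibniz, hp, Finset.smul_sum]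
    have h1 : ∀ i, aeval X (pderiv i (p * MvPolynomial.X j)) • d (X i) =
        X j • (aeval X (pderiv i p) • d (X i)) + (if i = j then aeval X p • d (X j) else 0) := by
      intro i
      rw [Derivation.leibniz, pderiv_X, map_add, smul_eq_mul, smul_eq_mul, map_mul, map_mul,
        aeval_X, add_smul]
      by_cases hij : i = j
      · subst hij
        rw [Pi.single_eq_same, map_one, mul_one, if_pos rfl, add_comm, smul_smul]
      · rw [Pi.single_eq_of_ne' hij, map_zero, mul_zero, zero_smul, if_neg hij, add_zero, zero_add,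
          smul_smul]
    simp_rw [h1]
    rw [Finset.sum_add_distrib, Finset.sum_ite_eq' Finset.univ j, if_pos (Finset.mem_univ j),
      add_comm]

variable {k K : Type*} [Field k] [Field K] [Algebra k K]

theorem D_exp_ne_zero (h1 : Module.finrank K (Ω[K⁄k]) = 1) (P : Place k K) (ε : K →ₐ[k] k⸨X⸩)
    (hε : LocRes.IsExpansionAt P.1 ε) (x : K) (hx : KaehlerDifferential.D k K x ≠ 0) :
    LocRes.D k (ε x) ≠ 0 := by
  obtain ⟨tP, htP⟩ := hε.2.2
  obtain ⟨c', _, hchain'⟩ := Groth.Agent.Helper27.DExp.chain h1 x hx tP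
  intro h0
  have h2 := hchain' k ε
  rw [h0, mul_zero] at h2
  have h3 := Groth.Agent.Helper27.DExp.val_D_unif (ε tP) (by rw [hε.1, htP])
  rw [h2, map_zero] at h3
  exact zero_ne_one h3

theorem ordDiff_mul (h1 : Module.finrank K (Ω[K⁄k]) = 1) (P : Place k K) (ε : K →ₐ[k] k⸨X⸩)
    (hε : LocRes.IsExpansionAt P.1 ε) (w x : K) (hw : w ≠ 0)
    (hx : KaehlerDifferential.D k K x ≠ 0) :
    LocRes.ordDiff ε w x = P.ord w + LocRes.ordDiff ε 1 x := by
  have hD := D_exp_ne_zero h1 P ε hε x hx
  unfold LocRes.ordDiff LocRes.vDiff Place.ord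
  rw [map_one, one_mul, map_mul, hε.1]
  have hv1 : P.1 w ≠ 0 := (Valuation.ne_zero_iff _).2 hw
  have hv2 : Valued.v (LocRes.D k (ε x)) ≠ 0 := (Valuation.ne_zero_iff _).2 hD
  rw [WithZero.log_mul hv1 hv2]
  ring

theorem ordDiff_chain' (h1 : Module.finrank K (Ω[K⁄k]) = 1) (P : Place k K) (ε : K →ₐ[k] k⸨X⸩)
    (hε : LocRes.IsExpansionAt P.1 ε) (x x' c : K) (hx : KaehlerDifferential.D k K x ≠ 0)
    (hc0 : c ≠ 0)
    (hc : KaehlerDifferential.D k K x' = c • KaehlerDifferential.D k K x) :
    LocRes.ordDiff ε 1 x' = P.ord c + LocRes.ordDiff ε 1 x := by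
  have hD := D_exp_ne_zero h1 P ε hε x hx
  obtain ⟨c', hc', hchain⟩ := Groth.Agent.Helper27.DExp.chain h1 x hx x'
  have hcc : c' = c := by
    have : (c' - c) • KaehlerDifferential.D k K x = 0 := by
      rw [sub_smul, ← hc, ← hc', sub_self]
    rcases smul_eq_zero.1 this with h | h
    · exact sub_eq_zero.1 h
    · exact absurd h hx
  subst hcc
  unfold LocRes.ordDiff LocRes.vDiff Place.ord
  rw [map_one, one_mul, one_mul, hchain k ε, map_mul, hε.1]
  have hv1 : P.1 c' ≠ 0 := (Valuation.ne_zero_iff _).2 hc0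
  have hv2 : Valued.v (LocRes.D k (ε x)) ≠ 0 := (Valuation.ne_zero_iff _).2 hD
  rw [WithZero.log_mul hv1 hv2]
  ring

theorem divDiff_apply_gen [IsAlgClosed k] (hK : IsFunctionField k K)
    (Φ : Place k K → (K →ₐ[k] LaurentSeries k))
    (hΦ : ∀ P : Place k K, LocRes.IsExpansionAt P.1 (Φ P)) (w x : K) (hw : w ≠ 0)
    (hx : KaehlerDifferential.D k K x ≠ 0) (P : Place k K) :
    divDiff Φ w x P = P.ord w + LocRes.ordDiff (Φ P) 1 x := by
  classical
  have h1 := finrank_kaehler_of_isAlgClosed hK
  have hfin : (Function.support fun P : Place k K => LocRes.ordDiff (Φ P) w x).Finite := by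
    refine ((finite_support_ord hK w).union (finite_support_ordDiff hK Φ hΦ x hx)).subset ?_
    intro Q hQ
    simp only [Function.mem_support] at hQ
    rw [ordDiff_mul h1 Q (Φ Q) (hΦ Q) w x hw hx] at hQ
    by_contra hnot
    rw [Set.mem_union, not_or] at hnot
    simp only [Function.mem_support, not_not] at hnot
    rw [hnot.1, hnot.2] at hQ
    exact hQ rfl
  unfold divDiff
  rw [dif_pos hfin]
  exact ordDiff_mul h1 P (Φ P) (hΦ P) w x hw hx

end Groth.Agent.Helper27.Adj
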