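import Groth.Agent.Lib.Helper27.AdjA

/-! Invariance of the adjoint divisor under projective coordinate changes (S12616). -/

set_option autoImplicit false

namespace Groth.Agent.Helper27.Adj

open FunFld MvPolynomial Groth.Agent.Helper16.FF Groth.Agent.Helper27.Loc Groth.Agent.Helper27.Hasse
open scoped WithZero LaurentSeries

variable {k K : Type*} [Field k] [Field K] [Algebra k K]

theorem cross_identity (a00 a01 a02 a10 a11 a12 a20 a21 a22 u0 u1 u2 v0 v1 v2 g0 g1 g2 : K)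
    (R1 : g0 * (a00 * u0 + a01 * u1 + a02 * u2) + g1 * (a10 * u0 + a11 * u1 + a12 * u2) +
      g2 * (a20 * u0 + a21 * u1 + a22 * u2) = 0)
    (R2 : g0 * (a00 * v0 + a01 * v1 + a02 * v2) + g1 * (a10 * v0 + a11 * v1 + a12 * v2) +
      g2 * (a20 * v0 + a21 * v1 + a22 * v2) = 0)
    (hX0 : a00 * u0 + a01 * u1 + a02 * u2 = 1)
    (hY0 : a00 * v0 + a01 * v1 + a02 * v2 = 0)
    (hY1 : a10 * v0 + a11 * v1 + a12 * v2 = 1) :
    a02 * g0 + a12 * g1 + a22 * g2 =
      (a00 * a11 * a22 - a00 * a12 * a21 - a01 * a10 * a22 + a01 * a12 * a20 + a02 * a10 * a21 -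
        a02 * a11 * a20) * g2 * (u0 * v1 - u1 * v0) := by
  linear_combination
    ((a02 * g0 + a12 * g1 + a22 * g2) * (-(a10 * v0 + a11 * v1 + a12 * v2))) * hX0 +
    (-(a02 * g0 + a12 * g1 + a22 * g2)) * hY1 +
    ((a02 * g0 + a12 * g1 + a22 * g2) * (a10 * u0 + a11 * u1 + a12 * u2)) * hY0 +
    (a02 * (a10 * v0 + a11 * v1 + a12 * v2) - a12 * (a00 * v0 + a01 * v1 + a02 * v2)) * R1 +
    (-a02 * (a10 * u0 + a11 * u1 + a12 * u2) + a12 * (a00 * u0 + a01 * u1 + a02 * u2)) * R2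

theorem mapDiv_change (hK : IsFunctionField k K) (x y : K)
    (A : Matrix (Fin 3) (Fin 3) k) (hA : A.det ≠ 0)
    (u : Fin 3 → K) (hu : ∀ i, ∑ j, algebraMap k K (A i j) * u j = ![(1 : K), x, y] i)
    (hu0 : u 0 ≠ 0) (P : Place k K) :
    mapDiv k ![(1 : K), u 1 / u 0, u 2 / u 0] P = mapDiv k ![(1 : K), x, y] P + P.ord (u 0) := by
  classical
  set Xv : Fin 3 → K := ![(1 : K), x, y] with hXv
  set X' : Fin 3 → K := ![(1 : K), u 1 / u 0, u 2 / u 0] with hX'
  have hX'j : ∀ j, X' j = u j / u 0 := by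
    intro j
    fin_cases j
    · simp [hX', div_self hu0]
    · rfl
    · rfl
  have hinv : A⁻¹ * A = 1 := Matrix.nonsing_inv_mul A (isUnit_iff_ne_zero.2 hA)
  have huinv : ∀ l, u l = ∑ i, algebraMap k K (A⁻¹ l i) * Xv i := by
    intro l
    simp_rw [← hu, Finset.mul_sum, ← mul_assoc, ← map_mul]
    rw [Finset.sum_comm]
    simp_rw [← Finset.sum_mul, ← map_sum]
    have : ∀ j, ∑ i, A⁻¹ l i * A i j = (1 : Matrix _ _ k) l j := fun j => by
      rw [← hinv, Matrix.mul_apply]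
    simp_rw [this, Matrix.one_apply]
    simp
  obtain ⟨-, j', hj'⟩ := mapDiv_of_one hK X' (i₀ := 0) rfl P
  obtain ⟨-, j, hj⟩ := mapDiv_of_one hK Xv (i₀ := 0) rfl P
  have hv0 : P.1 (u 0) ≠ 0 := (Valuation.ne_zero_iff _).2 hu0
  have hle1 : WithZero.exp (mapDiv k X' P) * P.1 (u 0) ≤ WithZero.exp (mapDiv k Xv P) := by
    rw [← hj', hX'j, map_div₀, div_mul_cancel₀ _ hv0, huinv j']
    apply Valuation.map_sum_le
    intro i _
    rw [map_mul]
    calc P.1 (algebraMap k K (A⁻¹ j' i)) * P.1 (Xv i) ≤ 1 * WithZero.exp (mapDiv k Xv P) :=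
          mul_le_mul' (P.2.1 _) (val_le_exp_mapDiv' hK Xv P i)
      _ = _ := one_mul _
  have hle2 : WithZero.exp (mapDiv k Xv P) ≤ WithZero.exp (mapDiv k X' P) * P.1 (u 0) := by
    rw [← hj, ← hu j]
    apply Valuation.map_sum_le
    intro i _
    have : u i = X' i * u 0 := by rw [hX'j, div_mul_cancel₀ _ hu0]
    rw [map_mul, this, map_mul]
    calc P.1 (algebraMap k K (A j i)) * (P.1 (X' i) * P.1 (u 0))
          ≤ 1 * (WithZero.exp (mapDiv k X' P) * P.1 (u 0)) :=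
          mul_le_mul' (P.2.1 _) (mul_le_mul_left (val_le_exp_mapDiv' hK X' P i) _)
      _ = _ := one_mul _
  have heq := le_antisymm hle1 hle2
  rw [Place.val_eq_exp_neg_ord P hu0, ← WithZero.exp_add, WithZero.exp_inj] at heq
  omega

end Groth.Agent.Helper27.Adj
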