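import Mathlib
import Groth.Prelude.Def_StabCat

/-!
# Integrality of the multiplicity of an integer valued polynomial (request (JE), S15202)
-/

set_option autoImplicit false

open Polynomial Finset
open fwdDiff

namespace Groth.Agent.Helper27.AlphaInt

/-- the `d`-th forward difference at `0` of a polynomial of degree `≤ d` is `d! * coeff d` -/
theorem fwdDiff_iter_eval_zero (d : ℕ) (P : ℚ[X]) (hdeg : P.natDegree ≤ d) :
    ((fwdDiff (1 : ℚ))^[d] P.eval) 0 = (d.factorial : ℚ) * P.coeff d := by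
  rcases hdeg.lt_or_eq with hlt | heq
  · rw [Polynomial.fwdDiff_iter_eq_zero_of_degree_lt hlt, Pi.zero_apply,
      coeff_eq_zero_of_natDegree_lt hlt, mul_zero]
  · subst heq
    rw [Polynomial.fwdDiff_iter_degree_eq_factorial]
    rw [Pi.smul_apply, Pi.natCast_apply, smul_eq_mul, Polynomial.leadingCoeff, mul_comm]

/-- (JE) integrality of the multiplicity of an integer valued polynomial of degree ≤ d -/
theorem alpha_isInt (d : ℕ) (P : ℚ[X]) (hdeg : P.natDegree ≤ d)
    (hint : ∀ m : ℕ, ∃ z : ℤ, P.eval (m : ℚ) = (z : ℚ)) : ∃ z : ℤ, StabCat.alpha d P = (z : ℚ) := by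
  choose z hz using hint
  have h1 := fwdDiff_iter_eval_zero d P hdeg
  rw [fwdDiff_iter_eq_sum_shift] at h1
  refine ⟨∑ k ∈ range (d + 1), ((-1 : ℤ) ^ (d - k) * (d.choose k : ℤ)) * z k, ?_⟩
  unfold StabCat.alpha
  rw [← h1]
  push_cast
  refine Finset.sum_congr rfl (fun k _ => ?_)
  have hk : (0 : ℚ) + k • (1 : ℚ) = (k : ℚ) := by simp
  rw [hk, hz k, zsmul_eq_mul]
  push_cast
  ring

end Groth.Agent.Helper27.AlphaInt
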