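import Mathlib

/-!
# The coefficient of `X_0 ⋯ X_{d-1}` in `Q(X_0 + ⋯ + X_{d-1})` (request (F), S7649)
-/

open Polynomial

namespace Groth.Agent.Helper27.CoeffOnesF

/-- the all-ones exponent -/
noncomputable abbrev ones (d : ℕ) : Fin d →₀ ℕ := Finsupp.equivFunOnFinite.symm fun _ : Fin d => 1

theorem ones_apply (d : ℕ) (i : Fin d) : ones d i = 1 := rfl

theorem degree_ones (d : ℕ) : (ones d).degree = d := by
  rw [Finsupp.degree_eq_sum]
  simp [ones_apply]

/-- a product of variables as a monomial -/
theorem prod_X_eq_monomial (d : ℕ) (f : Fin d → Fin d) :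
    (∏ k : Fin d, (MvPolynomial.X (f k) : MvPolynomial (Fin d) ℚ)) =
      MvPolynomial.monomial (∑ k : Fin d, Finsupp.single (f k) 1) 1 := by
  rw [MvPolynomial.monomial_sum_one]
  rfl

theorem sum_single_eq_ones_iff (d : ℕ) (f : Fin d → Fin d) :
    (∑ k : Fin d, Finsupp.single (f k) 1) = ones d ↔ Function.Bijective f := by
  classical
  have hval : ∀ i, (∑ k : Fin d, Finsupp.single (f k) 1 : Fin d →₀ ℕ) i =
      (Finset.univ.filter fun k => f k = i).card := by
    intro i
    rw [Finsupp.finset_sum_apply, Finset.card_filter]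
    refine Finset.sum_congr rfl (fun k _ => ?_)
    rw [Finsupp.single_apply]
  constructor
  · intro h
    have hsurj : Function.Surjective f := by
      intro i
      have h1 : (Finset.univ.filter fun k => f k = i).card = 1 := by
        rw [← hval, h, ones_apply]
      have hne : (Finset.univ.filter fun k => f k = i).Nonempty := by
        rw [← Finset.card_pos, h1]
        exact Nat.one_pos
      obtain ⟨k, hk⟩ := hne
      exact ⟨k, (Finset.mem_filter.mp hk).2⟩
    exact ⟨Finite.injective_iff_surjective.mpr hsurj, hsurj⟩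
  · intro hbij
    ext i
    rw [hval, ones_apply, Finset.card_eq_one]
    obtain ⟨k, hk⟩ := hbij.2 i
    refine ⟨k, ?_⟩
    ext k'
    simp only [Finset.mem_filter, Finset.mem_univ, true_and, Finset.mem_singleton]
    constructor
    · intro h'
      exact hbij.1 (h'.trans hk.symm)
    · intro h'
      rw [h', hk]

theorem card_bijective (d : ℕ) :
    (Finset.univ.filter fun f : Fin d → Fin d => Function.Bijective f).card = d.factorial := by
  classical
  have h1 : (Finset.univ.filter fun f : Fin d → Fin d => Function.Bijective f).card =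
      Fintype.card {f : Fin d → Fin d // Function.Bijective f} :=
    (Fintype.card_subtype _).symm
  rw [h1]
  have e : {f : Fin d → Fin d // Function.Bijective f} ≃ Equiv.Perm (Fin d) :=
    { toFun := fun f => Equiv.ofBijective f.1 f.2
      invFun := fun σ => ⟨σ, σ.bijective⟩
      left_inv := fun f => by
        apply Subtype.ext
        rfl
      right_inv := fun σ => by
        ext x
        rfl }
  rw [Fintype.card_congr e, Fintype.card_perm, Fintype.card_fin]

theorem coeff_ones_sum_pow_self (d : ℕ) :
    MvPolynomial.coeff (ones d)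
      ((∑ i : Fin d, (MvPolynomial.X i : MvPolynomial (Fin d) ℚ)) ^ d) = (d.factorial : ℚ) := by
  classical
  have hpow : (∑ i : Fin d, (MvPolynomial.X i : MvPolynomial (Fin d) ℚ)) ^ d =
      ∏ _k : Fin d, ∑ i : Fin d, (MvPolynomial.X i : MvPolynomial (Fin d) ℚ) := by
    rw [Finset.prod_const, Finset.card_univ, Fintype.card_fin]
  rw [hpow, Finset.prod_univ_sum, Fintype.piFinset_univ, MvPolynomial.coeff_sum]
  have hterm : ∀ f : Fin d → Fin d,
      MvPolynomial.coeff (ones d) (∏ k : Fin d, (MvPolynomial.X (f k) : MvPolynomial (Fin d) ℚ)) =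
        if Function.Bijective f then 1 else 0 := by
    intro f
    rw [prod_X_eq_monomial, MvPolynomial.coeff_monomial]
    by_cases hb : Function.Bijective f
    · rw [if_pos ((sum_single_eq_ones_iff d f).mpr hb), if_pos hb]
    · rw [if_neg (fun h => hb ((sum_single_eq_ones_iff d f).mp h)), if_neg hb]
  rw [Finset.sum_congr rfl (fun f _ => hterm f), Finset.sum_ite, Finset.sum_const_zero, add_zero,
    Finset.sum_const, card_bijective]
  simp

theorem coeff_ones_sum_pow_ne (d j : ℕ) (hj : j ≠ d) :
    MvPolynomial.coeff (ones d)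
      ((∑ i : Fin d, (MvPolynomial.X i : MvPolynomial (Fin d) ℚ)) ^ j) = 0 := by
  have h1 : MvPolynomial.IsHomogeneous
      (∑ i : Fin d, (MvPolynomial.X i : MvPolynomial (Fin d) ℚ)) 1 :=
    MvPolynomial.IsHomogeneous.sum _ _ _ (fun i _ => MvPolynomial.isHomogeneous_X _ i)
  have hhom := h1.pow j
  rw [one_mul] at hhom
  apply hhom.coeff_eq_zero
  rw [degree_ones]
  exact fun h => hj h.symm

theorem coeff_ones_aeval_sum (d : ℕ) (Q : ℚ[X]) :
    MvPolynomial.coeff (Finsupp.equivFunOnFinite.symm fun _ : Fin d => 1)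
      (Polynomial.aeval (∑ i : Fin d, (MvPolynomial.X i : MvPolynomial (Fin d) ℚ)) Q) =
      (d.factorial : ℚ) * Q.coeff d := by
  classical
  show MvPolynomial.coeff (ones d) _ = _
  rw [Polynomial.aeval_eq_sum_range' (Nat.lt_succ_of_le (le_max_left Q.natDegree d)),
    MvPolynomial.coeff_sum]
  have hterm : ∀ j ∈ Finset.range (max Q.natDegree d + 1),
      MvPolynomial.coeff (ones d)
        (Q.coeff j • (∑ i : Fin d, (MvPolynomial.X i : MvPolynomial (Fin d) ℚ)) ^ j) =
      if j = d then (d.factorial : ℚ) * Q.coeff d else 0 := by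
    intro j _
    rw [MvPolynomial.coeff_smul, smul_eq_mul]
    by_cases hj : j = d
    · subst hj
      rw [if_pos rfl, coeff_ones_sum_pow_self, mul_comm]
    · rw [if_neg hj, coeff_ones_sum_pow_ne d j hj, mul_zero]
  rw [Finset.sum_congr rfl hterm, Finset.sum_ite_eq']
  rw [if_pos]
  rw [Finset.mem_range]
  exact Nat.lt_succ_of_le (le_max_right _ _)

end Groth.Agent.Helper27.CoeffOnesF
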