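import Groth.Agent.Lib.Helper27.PlnE
import Groth.Agent.Lib.Helper16.FF.NSH
import Groth.Agent.Lib.Helper16.FF.NSI

/-! The conductor of the local ring of an affine curve at a point (towards S11077). -/

set_option autoImplicit false

namespace Groth.Agent.Helper27.Con

open FunFld IntermediateField Polynomial Groth.Agent.Helper16.FF
open scoped WithZero

variable {k K : Type*} [Field k] [Field K] [Algebra k K]

/-- `P` and `Q` have the same centre on the affine curve with coordinates `r` -/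
def SameCentre {ι : Type*} (r : ι → K) (P Q : Place k K) : Prop :=
  ∀ i, ∃ c : k, P.1 (r i - algebraMap k K c) < 1 ∧ Q.1 (r i - algebraMap k K c) < 1

theorem const_unique (P : Place k K) {a : K} {c c' : k} (h : P.1 (a - algebraMap k K c) < 1)
    (h' : P.1 (a - algebraMap k K c') < 1) : c = c' := by
  by_contra hne
  have h3 : P.1 (algebraMap k K (c' - c)) = 1 :=
    Groth.Agent.Helper16.FFW.Place.val_algebraMap P (sub_ne_zero.2 (Ne.symm hne))
  have e : algebraMap k K (c' - c) = (a - algebraMap k K c) - (a - algebraMap k K c') := by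
    rw [map_sub]; ring
  rw [e] at h3
  have := (P.1.map_sub _ _).trans_lt (max_lt h h')
  rw [h3] at this
  exact lt_irrefl _ this

theorem exists_transcendental_coord (hK : IsFunctionField k K) {ι : Type*} (r : ι → K)
    (htop : IntermediateField.adjoin k (Set.range r) = ⊤) : ∃ i, Transcendental k (r i) := by
  by_contra hall
  push Not at hall
  obtain ⟨⟨t, ht, -⟩, hconst⟩ := hK
  have hbot : (⊤ : IntermediateField k K) = ⊥ := by
    rw [← htop, eq_bot_iff, IntermediateField.adjoin_le_iff]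
    rintro _ ⟨i, rfl⟩
    have hi : IsAlgebraic k (r i) := by
      by_contra h
      exact hall i h
    obtain ⟨c, hc⟩ := hconst _ hi
    rw [← hc]
    exact IntermediateField.algebraMap_mem _ _
  have : t ∈ (⊥ : IntermediateField k K) := hbot ▸ IntermediateField.mem_top
  obtain ⟨c, rfl⟩ := IntermediateField.mem_bot.1 this
  exact ht (isAlgebraic_algebraMap c)

theorem finite_sameCentre [IsAlgClosed k] (hK : IsFunctionField k K) {ι : Type*} (r : ι → K)
    (htop : IntermediateField.adjoin k (Set.range r) = ⊤) (P : Place k K) :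
    {Q : Place k K | SameCentre r P Q}.Finite := by
  obtain ⟨i₁, hi₁⟩ := exists_transcendental_coord hK r htop
  by_cases hex : ∃ c : k, P.1 (r i₁ - algebraMap k K c) < 1
  · obtain ⟨c, hc⟩ := hex
    have htr : Transcendental k (r i₁ - algebraMap k K c) := by
      intro halg
      apply hi₁
      have : r i₁ = (r i₁ - algebraMap k K c) + algebraMap k K c := by ring
      rw [this]
      exact halg.add (isAlgebraic_algebraMap c)
    refine (finite_zeros hK htr).subset ?_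
    intro Q hQ
    obtain ⟨c', hc'P, hc'Q⟩ := hQ i₁
    have := const_unique P hc hc'P
    rw [this]
    exact hc'Q
  · have : {Q : Place k K | SameCentre r P Q} = ∅ := by
      ext Q
      simp only [Set.mem_ofPred_eq, Set.mem_empty_iff_false, iff_false]
      intro hQ
      obtain ⟨c', hc'P, -⟩ := hQ i₁
      exact hex ⟨c', hc'P⟩
    rw [this]
    exact Set.finite_empty

theorem affine_conductor [IsAlgClosed k] (hK : IsFunctionField k K) {ι : Type*} [Finite ι]
    (r : ι → K) (htop : IntermediateField.adjoin k (Set.range r) = ⊤) (P : Place k K)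
    (hrP : ∀ i, P.1 (r i) ≤ 1) :
    ∃ N : ℕ, ∀ z : K, (∀ Q : Place k K, SameCentre r P Q → Q.1 z ≤ WithZero.exp (-(N : ℤ))) →
      z ∈ locRing (Algebra.adjoin k (Set.range r)) P := by
  classical
  set A : Subalgebra k K := Algebra.adjoin k (Set.range r) with hA
  have hrA : ∀ i, r i ∈ A := fun i => Algebra.subset_adjoin ⟨i, rfl⟩
  have hAP : ∀ a ∈ A, P.1 a ≤ 1 := fun a ha => val_le_one_of_mem_adjoin r P hrP ha
  -- the places at infinity
  have hTfin : {Q : Place k K | ∃ i, ¬ Q.1 (r i) ≤ 1}.Finite := by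
    have : {Q : Place k K | ∃ i, ¬ Q.1 (r i) ≤ 1} = ⋃ i, {Q : Place k K | ¬ Q.1 (r i) ≤ 1} := by
      ext Q; simp
    rw [this]
    exact Set.finite_iUnion fun i => finite_poles hK (r i)
  set T := hTfin.toFinset with hT
  have hTmem : ∀ Q, Q ∈ T ↔ ∃ i, ¬ Q.1 (r i) ≤ 1 := fun Q => by
    rw [hT, Set.Finite.mem_toFinset]; rfl
  have hnT : ∀ Q, Q ∉ T → ∀ a ∈ A, Q.1 a ≤ 1 := by
    intro Q hQ a ha
    refine val_le_one_of_mem_adjoin r Q (fun i => ?_) ha
    by_contra h
    exact hQ ((hTmem Q).2 ⟨i, h⟩)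
  obtain ⟨y, hyA, hy⟩ := exists_pole_all A T (fun Q hQ => by
    obtain ⟨i, hi⟩ := (hTmem Q).1 hQ
    exact ⟨r i, hrA i, not_le.1 hi⟩)
  -- a transcendental coordinate
  obtain ⟨i₁, hr₁⟩ := exists_transcendental_coord hK r htop
  obtain ⟨Q₁, hQ₁⟩ := exists_pole hK hr₁
  have hQ₁T : Q₁ ∈ T := (hTmem Q₁).2 ⟨i₁, not_le.2 hQ₁⟩
  have hy0 : y ≠ 0 := by
    rintro rfl
    have := hy Q₁ hQ₁T
    rw [map_zero] at this
    exact absurd this (by simp)
  have hytr : Transcendental k y :=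
    Place.transcendental_of_val_ne_one hK Q₁ hy0 (ne_of_gt (hy Q₁ hQ₁T))
  -- the fraction field of `A`
  have hfrac : ∀ z : K, ∃ a ∈ A, ∃ s ∈ A, s ≠ 0 ∧ z * s = a := by
    intro z
    have hz : z ∈ IntermediateField.adjoin k (Set.range r) := by rw [htop]; trivial
    obtain ⟨a, ha, s, hs, hzas⟩ := IntermediateField.mem_adjoin_iff_div.1 hz
    by_cases hs0 : s = 0
    · refine ⟨0, Subalgebra.zero_mem _, 1, Subalgebra.one_mem _, one_ne_zero, ?_⟩
      rw [hzas, hs0, _root_.div_zero, zero_mul]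
    · exact ⟨a, ha, s, hs, hs0, by rw [hzas, div_mul_cancel₀ _ hs0]⟩
  obtain ⟨c, hcA, hc0, hcond⟩ := exists_conductor hK A hyA hytr hfrac
  -- the fibre
  have hFfin : {Q : Place k K | SameCentre r P Q}.Finite := finite_sameCentre hK r htop P
  set F := hFfin.toFinset with hF
  have hFmem : ∀ Q, Q ∈ F ↔ SameCentre r P Q := fun Q => by
    rw [hF, Set.Finite.mem_toFinset]; rfl
  set N : ℕ := F.sup (fun Q => (Q.ord c).toNat) with hN
  refine ⟨N, fun z hz => ?_⟩
  set w := z / c with hw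
  have hwF : ∀ Q, SameCentre r P Q → Q.1 w ≤ 1 := by
    intro Q hQ
    have h1 := hz Q hQ
    have h2 : (Q.ord c).toNat ≤ N := Finset.le_sup (f := fun Q => (Q.ord c).toNat) ((hFmem Q).2 hQ)
    have h3 : Q.ord c ≤ N := (Int.self_le_toNat _).trans (by exact_mod_cast h2)
    have hcpos : 0 < Q.1 c := zero_lt_iff.2 (by rw [Ne, map_eq_zero]; exact hc0)
    rw [hw, map_div₀, div_le_one₀ hcpos]
    refine h1.trans ?_
    rw [Place.val_eq_exp_neg_ord Q hc0, WithZero.exp_le_exp]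
    omega
  -- residues at `P`
  have hγ : ∀ i, ∃ c : k, P.1 (r i - algebraMap k K c) < 1 := fun i =>
    exists_const_sub_lt_one hK (Place.deg_eq_one hK P) (hrP i)
  choose γ hγ using hγ
  -- the bad finite places
  have hBfin : {Q : Place k K | ¬ Q.1 w ≤ 1 ∧ Q ∉ T}.Finite :=
    (finite_poles hK w).subset (fun Q h => h.1)
  set B := hBfin.toFinset with hB
  have hBmem : ∀ Q, Q ∈ B ↔ ¬ Q.1 w ≤ 1 ∧ Q ∉ T := fun Q => by
    rw [hB, Set.Finite.mem_toFinset]; rfl
  have hs : ∀ Q : Place k K, ∃ s ∈ A, P.1 s = 1 ∧ (Q ∈ B → Q.1 s < 1) := by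
    intro Q
    by_cases hQ : Q ∈ B
    · obtain ⟨h1, h2⟩ := (hBmem Q).1 hQ
      have hrQ : ∀ i, Q.1 (r i) ≤ 1 := fun i => by
        by_contra h; exact h2 ((hTmem Q).2 ⟨i, h⟩)
      have hnot : ¬ SameCentre r P Q := fun h => h1 (hwF Q h)
      have hex : ∃ i, ¬ Q.1 (r i - algebraMap k K (γ i)) < 1 := by
        by_contra hall
        push Not at hall
        exact hnot fun i => ⟨γ i, hγ i, hall i⟩
      obtain ⟨i, hi⟩ := hex
      obtain ⟨γ', hγ'⟩ := exists_const_sub_lt_one hK (Place.deg_eq_one hK Q) (hrQ i)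
      have hne : γ i ≠ γ' := by
        rintro rfl
        exact hi hγ'
      refine ⟨r i - algebraMap k K γ', Subalgebra.sub_mem _ (hrA i) (Subalgebra.algebraMap_mem _ _),
        ?_, fun _ => hγ'⟩
      have e : r i - algebraMap k K γ' = algebraMap k K (γ i - γ') + (r i - algebraMap k K (γ i)) := by
        rw [map_sub]; ring
      have h3 : P.1 (algebraMap k K (γ i - γ')) = 1 :=
        Groth.Agent.Helper16.FFW.Place.val_algebraMap P (sub_ne_zero.2 hne)
      rw [e, Valuation.map_add_eq_of_lt_left P.1 (by rw [h3]; exact hγ i), h3]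
    · exact ⟨1, A.one_mem, map_one _, fun h => absurd h hQ⟩
  choose s hsA hsP hsQ using hs
  set w₀ := ∏ Q ∈ B, s Q with hw₀
  have hw₀A : w₀ ∈ A := Subalgebra.prod_mem _ (fun Q _ => hsA Q)
  have hw₀P : P.1 w₀ = 1 := by
    rw [hw₀, map_prod]; exact Finset.prod_eq_one (fun Q _ => hsP Q)
  have hw₀0 : w₀ ≠ 0 := by
    intro h; rw [h, map_zero] at hw₀P; exact zero_ne_one hw₀P
  have hw₀Q : ∀ Q ∈ B, Q.1 w₀ < 1 := by
    intro Q hQ
    rw [hw₀, map_prod, ← Finset.mul_prod_erase B _ hQ]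
    have h1 := hsQ Q hQ
    have h2 : ∏ Q' ∈ B.erase Q, Q.1 (s Q') ≤ 1 :=
      Finset.prod_le_one' (fun Q' _ => hnT Q ((hBmem Q).1 hQ).2 _ (hsA Q'))
    calc Q.1 (s Q) * ∏ Q' ∈ B.erase Q, Q.1 (s Q') ≤ Q.1 (s Q) * 1 := by gcongr
      _ < 1 := by rwa [mul_one]
  have hexp : ∀ Q : Place k K, ∃ a₀ : ℕ, ∀ a, a₀ ≤ a → Q ∈ B → Q.1 w * Q.1 w₀ ^ a ≤ 1 := by
    intro Q
    by_cases hQ : Q ∈ B
    · have hc := hw₀Q Q hQ
      have hc0' : Q.1 w₀ ≠ 0 := by rw [Ne, map_eq_zero]; exact hw₀0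
      have hcpos : 0 < Q.1 w₀ := zero_lt_iff.2 hc0'
      have hinv : 1 < (Q.1 w₀)⁻¹ := (one_lt_inv₀ hcpos).2 hc
      obtain ⟨r₀, hr₀⟩ := exists_pow_gt (Q.1 w) hinv
      refine ⟨r₀, fun a ha _ => ?_⟩
      have h1 := hr₀ a ha
      rw [inv_pow] at h1
      have hpos : 0 < Q.1 w₀ ^ a := pow_pos hcpos a
      calc Q.1 w * Q.1 w₀ ^ a ≤ (Q.1 w₀ ^ a)⁻¹ * Q.1 w₀ ^ a := by gcongr
        _ = 1 := inv_mul_cancel₀ hpos.ne'
    · exact ⟨0, fun a _ h => absurd h hQ⟩
  choose a₀ ha₀ using hexp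
  set a := B.sup a₀ with ha
  set w' := w₀ ^ a with hw'
  have hw'A : w' ∈ A := A.pow_mem hw₀A a
  have hw'P : P.1 w' = 1 := by rw [hw', map_pow, hw₀P, one_pow]
  have hpoles : ∀ Q : Place k K, 1 < Q.1 (w * w') → 1 < Q.1 y := by
    intro Q hQ
    by_contra hy'
    have hQT : Q ∉ T := fun h => hy' (hy Q h)
    have hw'Q : Q.1 w' ≤ 1 := hnT Q hQT w' hw'A
    by_cases hQB : Q ∈ B
    · have := ha₀ Q a (Finset.le_sup hQB) hQB
      rw [map_mul, hw', map_pow] at hQ
      exact absurd hQ (not_lt.2 this)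
    · have hz1 : Q.1 w ≤ 1 := by
        by_contra h
        exact hQB ((hBmem Q).2 ⟨h, hQT⟩)
      rw [map_mul] at hQ
      exact absurd hQ (not_lt.2 (mul_le_one' hz1 hw'Q))
  have h1 := hcond (w * w') hpoles
  refine ⟨z * w', ?_, w', hw'A, hw'P, rfl⟩
  have e : z * w' = c * (w * w') := by
    rw [hw]; field_simp
  rw [e]
  exact h1

end Groth.Agent.Helper27.Con
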