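import Groth.Agent.Lib.Helper27.TateL

/-! The residue theorem. -/

namespace Groth.Agent.Helper27.Tate

open FunFld Groth.Agent.Helper16.FF Groth.Agent.Helper27.TrF HahnSeries LaurentSeries
open scoped WithZero

universe u v w

variable {k : Type u} {K : Type v} [Field k] [Field K] [Algebra k K]

/-- valuation ring as a `k`-submodule -/
def OP (P : Place k K) : Submodule k K where
  carrier := {x | P.1 x ≤ 1}
  add_mem' {x y} hx hy := (P.1.map_add x y).trans (max_le hx hy)
  zero_mem' := by simp
  smul_mem' c x hx := by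
    show P.1 (c • x) ≤ 1
    rw [Algebra.smul_def, map_mul]
    exact (mul_le_mul' (P.2.1 c) hx).trans_eq (one_mul _)

theorem exists_proj (P : Place k K) : ∃ π : Module.End k K,
    (∀ x, P.1 (π x) ≤ 1) ∧ (∀ x, P.1 x ≤ 1 → π x = x) := by
  obtain ⟨C, hC⟩ := Submodule.exists_isCompl (OP P)
  refine ⟨(OP P).projection C hC, fun x => Submodule.projection_apply_mem hC x, fun x hx => ?_⟩
  exact Submodule.projection_apply_of_mem_left hC hx

variable (k K) in
/-- chosen projections -/
noncomputable def projP (P : Place k K) : Module.End k K := (exists_proj P).choose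

theorem projP_le (P : Place k K) (x : K) : P.1 (projP k K P x) ≤ 1 :=
  (exists_proj P).choose_spec.1 x

theorem projP_eq (P : Place k K) (x : K) (hx : P.1 x ≤ 1) : projP k K P x = x :=
  (exists_proj P).choose_spec.2 x hx

theorem stable_of_le (P : Place k K) (u : K) (hu : P.1 u ≤ 1) :
    (1 - projP k K P) * mulK k u * projP k K P = 0 := by
  ext x
  simp only [Module.End.mul_apply, LinearMap.sub_apply, Module.End.one_apply, mulK_apply,
    LinearMap.zero_apply]
  rw [projP_eq P (u * projP k K P x), sub_self]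
  rw [map_mul]
  calc P.1 u * P.1 (projP k K P x) ≤ 1 * 1 := mul_le_mul' hu (projP_le P x)
    _ = 1 := one_mul 1

theorem residue_theorem (hK : IsFunctionField k K)
    (F : Place k K → Type w) [∀ P, Field (F P)] [∀ P, Algebra k (F P)]
    [∀ P, FiniteDimensional k (F P)]
    (φ : ∀ P, K →ₐ[k] LaurentSeries (F P)) (hφ : ∀ P, LocRes.IsExpansionAt P.1 (φ P))
    (u v : K) :
    (∀ P : Place k K, P.1 u ≤ 1 → P.1 v ≤ 1 → LocRes.locRes (φ P) u v = 0) ∧
    (Function.support fun P => LocRes.locRes (φ P) u v).Finite ∧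
      ∑ᶠ P, LocRes.locRes (φ P) u v = 0 := by
  classical
  have hloc : ∀ (P : Place k K) (f g : K), Adm (mulK k f) (mulK k g) (projP k K P) ∧
      rho (mulK k f) (mulK k g) (projP k K P) = LocRes.locRes (φ P) f g := fun P f g =>
    local_residue P (φ P) (hφ P) (projP k K P) (projP_le P) (projP_eq P) f g
  have hzero : ∀ P : Place k K, P.1 u ≤ 1 → P.1 v ≤ 1 → LocRes.locRes (φ P) u v = 0 := by
    intro P hu hv
    rw [← (hloc P u v).2]
    unfold rho
    rw [rho_eq_zero_of_stable_range (mulK_comm u v) (stable_of_le P u hu) (stable_of_le P v hv),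
      trF_zero]
  set S : Finset (Place k K) := ((finite_poles hK u).union (finite_poles hK v)).toFinset with hS
  have hSmem : ∀ P ∉ S, P.1 u ≤ 1 ∧ P.1 v ≤ 1 := by
    intro P hP
    rw [hS, Set.Finite.mem_toFinset, Set.mem_union, not_or] at hP
    simp only [Set.mem_ofPred_eq, not_not] at hP
    exact hP
  have hsupp : (Function.support fun P => LocRes.locRes (φ P) u v) ⊆ ↑S := by
    intro P hP
    by_contra hne
    exact hP (hzero P (hSmem P hne).1 (hSmem P hne).2)
  refine ⟨hzero, S.finite_toSet.subset hsupp, ?_⟩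
  rw [finsum_eq_sum_of_support_subset _ hsupp]
  have := global_residue hK (projP k K) projP_le projP_eq (fun f P => (hloc P f f).1.1) u v S hSmem
  rw [← this]
  exact Finset.sum_congr rfl fun P _ => ((hloc P u v).2).symm

end Groth.Agent.Helper27.Tate
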