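import Groth.Agent.Lib.Helper27.TateM
import Groth.Agent.Lib.Helper27.DExpF

/-! The residue Weil differential of `u dv`. -/

namespace Groth.Agent.Helper27.Tate

open FunFld Groth.Agent.Helper16.FF Groth.Agent.Helper27.TrF HahnSeries LaurentSeries
open scoped WithZero

universe u v w

variable {k : Type u} {K : Type v} [Field k] [Field K] [Algebra k K]

section Local

variable {F : Type w} [Field F] [Algebra k F]

theorem res_eq_zero_of_val_le (h : F⸨X⸩) (hh : Valued.v h ≤ 1) : LocRes.res F h = 0 := by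
  rw [LocRes.res_apply]
  have : Valued.v h ≤ WithZero.exp (-(0 : ℤ)) := by simpa using hh
  exact (valuation_le_iff_coeff_lt_eq_zero F).1 this (-1) (by norm_num)

theorem locRes_eq_zero_of_vDiff_le (φ : K →ₐ[k] F⸨X⸩) (x y : K) (h : LocRes.vDiff φ x y ≤ 1) :
    LocRes.locRes φ x y = 0 := by
  unfold LocRes.locRes LocRes.resExp
  rw [res_eq_zero_of_val_le _ h, map_zero]

theorem locRes_add (φ : K →ₐ[k] F⸨X⸩) (x x' y : K) :
    LocRes.locRes φ (x + x') y = LocRes.locRes φ x y + LocRes.locRes φ x' y := by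
  unfold LocRes.locRes LocRes.resExp
  rw [map_add, add_mul, map_add, map_add]

theorem locRes_smul (φ : K →ₐ[k] F⸨X⸩) (c : k) (x y : K) :
    LocRes.locRes φ (c • x) y = c * LocRes.locRes φ x y := by
  unfold LocRes.locRes LocRes.resExp
  rw [Algebra.smul_def, map_mul φ, LocRes.map_algebraMap, mul_assoc, HahnSeries.C_mul_eq_smul,
    map_smul, smul_eq_mul, ← Algebra.smul_def, map_smul, smul_eq_mul]

theorem D_exp_ne_zero (h1 : Module.finrank K (Ω[K⁄k]) = 1) (P : Place k K) (φ : K →ₐ[k] F⸨X⸩)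
    (hφ : LocRes.IsExpansionAt P.1 φ) (y : K) (hy : KaehlerDifferential.D k K y ≠ 0) :
    LocRes.D F (φ y) ≠ 0 := by
  obtain ⟨t, ht⟩ := hφ.2.2
  obtain ⟨c, _, hchain⟩ := DExp.chain h1 y hy t
  intro h0
  have h2 := hchain F φ
  rw [h0, mul_zero] at h2
  have h3 := DExp.val_D_unif (φ t) (by rw [hφ.1, ht])
  rw [h2, map_zero] at h3
  exact zero_ne_one h3

theorem vDiff_mul (P : Place k K) (φ : K →ₐ[k] F⸨X⸩) (hφ : LocRes.IsExpansionAt P.1 φ)
    (x u y : K) : LocRes.vDiff φ (x * u) y = P.1 x * LocRes.vDiff φ u y := by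
  unfold LocRes.vDiff
  rw [map_mul φ, mul_assoc, Valuation.map_mul _ (φ x), hφ.1]

theorem vDiff_ne_zero (h1 : Module.finrank K (Ω[K⁄k]) = 1) (P : Place k K) (φ : K →ₐ[k] F⸨X⸩)
    (hφ : LocRes.IsExpansionAt P.1 φ) (u y : K) (hu : u ≠ 0)
    (hy : KaehlerDifferential.D k K y ≠ 0) : LocRes.vDiff φ u y ≠ 0 := by
  unfold LocRes.vDiff
  rw [map_mul, hφ.1]
  exact mul_ne_zero ((Valuation.ne_zero_iff _).2 hu)
    ((Valuation.ne_zero_iff _).2 (D_exp_ne_zero h1 P φ hφ y hy))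

theorem vDiff_eq_exp (h1 : Module.finrank K (Ω[K⁄k]) = 1) (P : Place k K) (φ : K →ₐ[k] F⸨X⸩)
    (hφ : LocRes.IsExpansionAt P.1 φ) (u y : K) (hu : u ≠ 0)
    (hy : KaehlerDifferential.D k K y ≠ 0) :
    LocRes.vDiff φ u y = WithZero.exp (-(LocRes.ordDiff φ u y)) := by
  unfold LocRes.ordDiff
  rw [neg_neg, WithZero.exp_log (vDiff_ne_zero h1 P φ hφ u y hu hy)]

/-- nondegeneracy: an element with prescribed nonzero residue -/
theorem exists_locRes_eq (h1 : Module.finrank K (Ω[K⁄k]) = 1) (P : Place k K)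
    (φ : K →ₐ[k] F⸨X⸩) (hφ : LocRes.IsExpansionAt P.1 φ) (u y : K) (hu : u ≠ 0)
    (hy : KaehlerDifferential.D k K y ≠ 0) (c : F) :
    ∃ x : K, P.1 x ≤ WithZero.exp (LocRes.ordDiff φ u y + 1) ∧
      LocRes.resExp φ (x * u) y = c := by
  set m := LocRes.ordDiff φ u y with hm
  set h := φ u * LocRes.D F (φ y) with hh
  have hvh : Valued.v h = WithZero.exp (-m) := vDiff_eq_exp h1 P φ hφ u y hu hy
  obtain ⟨hh1, hh2⟩ := (DExp.val_eq_exp_iff h m).1 hvh
  obtain ⟨t, ht⟩ := hφ.2.2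
  -- w = φ (t^{-(m+1)})
  set w := φ (t ^ (-(m + 1))) with hw
  have hvw : Valued.v w = WithZero.exp (-(-(m + 1))) := by
    rw [hw, hφ.1, map_zpow₀, ht, ← WithZero.exp_zsmul]
    congr 1
    simp only [smul_eq_mul]; ring
  obtain ⟨hw1, hw2⟩ := (DExp.val_eq_exp_iff w _).1 hvw
  obtain ⟨z, hz1, hz2⟩ := hφ.2.1 (c / (w.coeff (-(m + 1)) * h.coeff m))
  have hz0 : Ord (φ z) 0 := ord_Phi_of_le P φ hφ hz1
  refine ⟨z * t ^ (-(m + 1)), ?_, ?_⟩
  · rw [map_mul, map_zpow₀, ht, ← WithZero.exp_zsmul]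
    have : (-(m + 1)) • (-1 : ℤ) = m + 1 := by simp only [smul_eq_mul]; ring
    rw [this]
    calc P.1 z * WithZero.exp (m + 1) ≤ 1 * WithZero.exp (m + 1) := mul_le_mul_left hz1 _
      _ = WithZero.exp (m + 1) := one_mul _
  · unfold LocRes.resExp
    have e0 : φ (z * t ^ (-(m + 1)) * u) * LocRes.D F (φ y) = (φ z * w) * h := by
      rw [map_mul φ, map_mul φ, hh, hw]; ring
    rw [e0, LocRes.res_apply]
    have e : (-1 : ℤ) = (0 + -(m + 1)) + m := by ring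
    have hord : Ord (φ z * w) (0 + -(m + 1)) := hz0.mul hw1
    rw [e, coeff_mul_low hord hh1, coeff_mul_low hz0 hw1, hz2]
    field_simp

end Local

end Groth.Agent.Helper27.Tate
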