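import Groth.Agent.Lib.Helper27.TateN
import Groth.Agent.Lib.Helper27.TateM
import Groth.Agent.Lib.Helper27.IcB
import Groth.Agent.Lib.Helper27.WeilRes

/-! Semi-local residues: sum over places, and the trace formula. -/

namespace Groth.Agent.Helper27.Tate

open FunFld Groth.Agent.Helper16.FF Groth.Agent.Helper27.TrF HahnSeries LaurentSeries
open scoped WithZero

universe u v w

section orth
variable {k : Type u} {K : Type v} [Field k] [Field K] [Algebra k K]

open scoped Classical in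
theorem exists_orth_idem (Qs : Finset (Place k K)) : ∃ c : Place k K → Module.End k K,
    (∀ Q ∈ Qs, ∀ Q' ∈ Qs, c Q * c Q' = if Q = Q' then c Q else 0) ∧
    (∀ Q ∈ Qs, ∀ z, Q.1 (z - c Q z) ≤ 1) ∧ (∀ Q ∈ Qs, ∀ z, Q.1 z ≤ 1 → c Q z = 0) := by
  classical
  let q : K →ₗ[k] ((Q : ↥Qs) → K ⧸ OP Q.1) := LinearMap.pi (fun Q => (OP Q.1).mkQ)
  have hq : Function.Surjective q := by
    intro w
    choose z hz using fun Q : ↥Qs => (OP Q.1).mkQ_surjective (w Q)
    obtain ⟨x, hx⟩ := weak_approx (fun Q : ↥Qs => Q.1) Subtype.val_injective z (fun _ => 0)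
    refine ⟨x, funext fun Q => ?_⟩
    show (OP Q.1).mkQ x = w Q
    rw [← hz Q, ← sub_eq_zero, ← map_sub, Submodule.mkQ_apply, Submodule.Quotient.mk_eq_zero]
    have := hx Q
    rwa [WithZero.exp_zero] at this
  obtain ⟨s, hs⟩ := LinearMap.exists_rightInverse_of_surjective q (LinearMap.range_eq_top.2 hq)
  have hs' : ∀ w, q (s w) = w := fun w => LinearMap.congr_fun hs w
  have hqz : ∀ (Q : ↥Qs) z, q z Q = (OP Q.1).mkQ z := fun Q z => rfl
  let c' : ↥Qs → Module.End k K := fun Q =>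
    s ∘ₗ LinearMap.single k (fun Q : ↥Qs => K ⧸ OP Q.1) Q ∘ₗ LinearMap.proj Q ∘ₗ q
  have hc' : ∀ (Q : ↥Qs) z, c' Q z = s (Pi.single Q ((OP Q.1).mkQ z)) := fun Q z => rfl
  refine ⟨fun Q => if h : Q ∈ Qs then c' ⟨Q, h⟩ else 0, ?_, ?_, ?_⟩
  · intro Q hQ Q' hQ'
    simp only [dif_pos hQ, dif_pos hQ']
    apply LinearMap.ext; intro z
    rw [Module.End.mul_apply, hc', hc', ← hqz ⟨Q, hQ⟩, hs']
    by_cases h : Q = Q'
    · subst h
      rw [Pi.single_eq_same, if_pos rfl, hc']
    · rw [if_neg h, Pi.single_eq_of_ne (fun h' => h (congrArg Subtype.val h')), Pi.single_zero,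
        map_zero, LinearMap.zero_apply]
  · intro Q hQ z
    simp only [dif_pos hQ]
    have : z - c' ⟨Q, hQ⟩ z ∈ OP Q := by
      rw [← Submodule.Quotient.mk_eq_zero, ← Submodule.mkQ_apply, map_sub, sub_eq_zero]
      rw [← hqz ⟨Q, hQ⟩ (c' _ z), hc', hs', Pi.single_eq_same]
    exact this
  · intro Q hQ z hz
    simp only [dif_pos hQ]
    have : (OP Q).mkQ z = 0 := (Submodule.Quotient.mk_eq_zero _).2 hz
    rw [hc', this, Pi.single_zero, map_zero]

theorem sum_local (Qs : Finset (Place k K)) (F' : Place k K → Type w) [∀ Q, Field (F' Q)]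
    [∀ Q, Algebra k (F' Q)] [∀ Q, FiniteDimensional k (F' Q)]
    (ψ : ∀ Q, K →ₐ[k] LaurentSeries (F' Q))
    (hψ : ∀ Q ∈ Qs, LocRes.IsExpansionAt Q.1 (ψ Q)) (u v : K) :
    ∃ π : Module.End k K, (∀ z, ∀ Q ∈ Qs, Q.1 (π z) ≤ 1) ∧
      (∀ z, (∀ Q ∈ Qs, Q.1 z ≤ 1) → π z = z) ∧
      Adm (mulK k u) (mulK k v) π ∧
      rho (mulK k u) (mulK k v) π = ∑ Q ∈ Qs, LocRes.locRes (ψ Q) u v := by
  classical
  obtain ⟨c, horth, hc1, hc2⟩ := exists_orth_idem Qs
  have hloc : ∀ Q ∈ Qs, Adm (mulK k u) (mulK k v) (1 - c Q) ∧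
      rho (mulK k u) (mulK k v) (1 - c Q) = LocRes.locRes (ψ Q) u v := fun Q hQ =>
    local_residue Q (ψ Q) (hψ Q hQ) (1 - c Q) (fun z => hc1 Q hQ z) (fun z hz => by
      rw [LinearMap.sub_apply, Module.End.one_apply, hc2 Q hQ z hz, sub_zero]) u v
  obtain ⟨hA, hρ⟩ := rho_split_sum (mulK_comm u v) c Qs horth (fun Q hQ => (hloc Q hQ).1)
  refine ⟨1 - ∑ Q ∈ Qs, c Q, ?_, ?_, hA, ?_⟩
  · intro z Q hQ
    set w := (1 - ∑ Q ∈ Qs, c Q) z with hw
    have h0 : c Q w = 0 := by
      rw [hw, LinearMap.sub_apply, Module.End.one_apply, map_sub, LinearMap.sum_apply, map_sum,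
        Finset.sum_eq_single Q]
      · have := LinearMap.congr_fun (horth Q hQ Q hQ) z
        rw [if_pos rfl, Module.End.mul_apply] at this
        rw [this, sub_self]
      · intro Q' hQ' hne
        have := LinearMap.congr_fun (horth Q hQ Q' hQ') z
        rw [if_neg (Ne.symm hne), Module.End.mul_apply] at this
        exact this
      · intro h; exact absurd hQ h
    have : w - c Q w = w := by rw [h0, sub_zero]
    rw [← this]; exact hc1 Q hQ w
  · intro z hz
    rw [LinearMap.sub_apply, Module.End.one_apply, LinearMap.sum_apply,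
      Finset.sum_eq_zero (fun Q hQ => hc2 Q hQ z (hz Q hQ)), sub_zero]
  · rw [hρ]; exact Finset.sum_congr rfl fun Q hQ => (hloc Q hQ).2

end orth

section tr
variable {k : Type u} {K K' : Type v} [Field k] [Field K] [Field K'] [Algebra k K] [Algebra K K']
  [Algebra k K'] [IsScalarTower k K K']

theorem locRes_sum {F : Type w} [Field F] [Algebra k F] (φ : K →ₐ[k] LaurentSeries F)
    {ι : Type*} (s : Finset ι) (u : ι → K) (x : K) :
    LocRes.locRes φ (∑ i ∈ s, u i) x = ∑ i ∈ s, LocRes.locRes φ (u i) x := by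
  unfold LocRes.locRes LocRes.resExp
  rw [map_sum, Finset.sum_mul, map_sum, map_sum]

theorem trace_local_basis [FiniteDimensional K K'] (P : Place k K)
    {F : Type w} [Field F] [Algebra k F] [FiniteDimensional k F]
    (φ : K →ₐ[k] LaurentSeries F) (hφ : LocRes.IsExpansionAt P.1 φ) (y : K') (x : K)
    (π : Module.End k K') (Rmem : K' → Prop) (h1 : ∀ z, Rmem (π z))
    (h2 : ∀ z, Rmem z → π z = z)
    {J : Type*} [Fintype J] [DecidableEq J] (b : Module.Basis J K K')
    (hb1 : ∀ a : J → K, (∀ i, P.1 (a i) ≤ 1) → Rmem (∑ i, a i • b i))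
    (hb2 : ∀ z, Rmem z → ∀ i, P.1 (b.repr z i) ≤ 1)
    (hA : Adm (mulK k y) (mulK k (algebraMap K K' x)) π) :
    rho (mulK k y) (mulK k (algebraMap K K' x)) π =
      LocRes.locRes φ (Algebra.trace K K' y) x := by
  classical
  let ι : J → (K →ₗ[k] K') := fun i =>
    (LinearMap.toSpanSingleton K K' (b i)).restrictScalars k
  let p : J → (K' →ₗ[k] K) := fun i => (b.coord i).restrictScalars k
  have hι : ∀ i a, ι i a = a • b i := fun i a => rfl
  have hp : ∀ i z, p i z = b.repr z i := fun i z => rfl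
  have hpι : ∀ i j w, p i (ι j w) = if i = j then w else 0 := by
    intro i j w
    rw [hp, hι, map_smul, b.repr_self, Finsupp.smul_apply, Finsupp.single_apply, smul_eq_mul]
    by_cases h : i = j
    · rw [if_pos h, if_pos h.symm, mul_one]
    · rw [if_neg h, if_neg (Ne.symm h), mul_zero]
  have hsum : ∀ v, ∑ i, ι i (p i v) = v := fun v => b.sum_repr v
  set M := Algebra.leftMulMatrix b y with hM
  let m : J → J → Module.End k K := fun i j => mulK k (M i j)
  set π₀ := projP k K P with hπ₀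
  have hf : ∀ j w, mulK k y (ι j w) = ∑ i, ι i (m i j w) := by
    intro j w
    rw [mulK_apply, hι, mul_smul_comm]
    conv_lhs => rw [← b.sum_repr (y * b j), Finset.smul_sum]
    refine Finset.sum_congr rfl fun i _ => ?_
    rw [hι, mulK_apply, hM, Algebra.leftMulMatrix_eq_repr_mul, smul_smul, mul_comm]
  have hg : ∀ j w, mulK k (algebraMap K K' x) (ι j w) = ι j (mulK k x w) := by
    intro j w
    rw [mulK_apply, hι, hι, mulK_apply, ← Algebra.smul_def, smul_smul]
  have hloc : ∀ i j, Adm (m i j) (mulK k x) π₀ ∧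
      rho (m i j) (mulK k x) π₀ = LocRes.locRes φ (M i j) x := fun i j =>
    local_residue P φ hφ π₀ (projP_le P) (projP_eq P) (M i j) x
  have hblocks := rho_blocks ι p hpι hsum (mulK k y) (mulK k (algebraMap K K' x)) m (mulK k x) π₀
    hf hg (fun i j => mulK_comm _ _) (fun i j => (hloc i j).1)
  set π' : Module.End k K' := ∑ i, ι i ∘ₗ π₀ ∘ₗ p i with hπ'
  have hπ'z : ∀ z, π' z = ∑ i, π₀ (b.repr z i) • b i := by
    intro z
    rw [hπ', LinearMap.sum_apply]
    rfl
  have P1 : ∀ z, Rmem (π' z) := by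
    intro z
    rw [hπ'z]
    exact hb1 _ fun i => projP_le P _
  have P2 : ∀ z, Rmem z → π' z = z := by
    intro z hz
    rw [hπ'z]
    conv_rhs => rw [← b.sum_repr z]
    refine Finset.sum_congr rfl fun i _ => ?_
    rw [projP_eq P _ (hb2 z hz i)]
  have e1 : π * π = π := by
    apply LinearMap.ext; intro z
    exact h2 _ (h1 z)
  have e2 : π' * π' = π' := by
    apply LinearMap.ext; intro z
    exact P2 _ (P1 z)
  have e3 : π' * π = π := by
    apply LinearMap.ext; intro z
    exact P2 _ (h1 z)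
  have e4 : π * π' = π' := by
    apply LinearMap.ext; intro z
    exact h2 _ (P1 z)
  obtain ⟨-, hρ⟩ := rho_same_range (mulK_comm y (algebraMap K K' x)) e2 e1 e4 e3
    ((rho_same_range (mulK_comm y (algebraMap K K' x)) e1 e2 e3 e4 hA).1)
  rw [hρ, hblocks, Algebra.trace_eq_matrix_trace b y, Matrix.trace, locRes_sum]
  exact Finset.sum_congr rfl fun i _ => (hloc i i).2

theorem trace_local [FiniteDimensional K K'] (hK : IsFunctionField k K) (P : Place k K)
    {F : Type w} [Field F] [Algebra k F] [FiniteDimensional k F]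
    (φ : K →ₐ[k] LaurentSeries F) (hφ : LocRes.IsExpansionAt P.1 φ) (y : K') (x : K)
    (π : Module.End k K') (h1 : ∀ z, ∀ Q : Place k K', IsOver Q P → Q.1 (π z) ≤ 1)
    (h2 : ∀ z, (∀ Q : Place k K', IsOver Q P → Q.1 z ≤ 1) → π z = z)
    (hA : Adm (mulK k y) (mulK k (algebraMap K K' x)) π) :
    rho (mulK k y) (mulK k (algebraMap K K' x)) π =
      LocRes.locRes φ (Algebra.trace K K' y) x := by
  classical
  obtain ⟨ω, hli, hω, hgen⟩ := Ic.exists_basis (K' := K') hK P
  haveI : Nonempty (Fin (Module.finrank K K')) := Fin.pos_iff_nonempty.1 Module.finrank_pos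
  let b : Module.Basis (Fin (Module.finrank K K')) K K' :=
    basisOfLinearIndependentOfCardEqFinrank hli (by simp)
  have hb : ∀ i, b i = ω i := fun i => by
    simp only [b, coe_basisOfLinearIndependentOfCardEqFinrank]
  have hval : ∀ (Q : Place k K'), IsOver Q P → ∀ a : K, P.1 a ≤ 1 →
      Q.1 (algebraMap K K' a) ≤ 1 := by
    intro Q hQ a ha
    obtain ⟨e, he⟩ := hQ
    rw [he a]; exact pow_le_one' ha e
  refine trace_local_basis P φ hφ y x π (fun z => ∀ Q : Place k K', IsOver Q P → Q.1 z ≤ 1)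
    h1 h2 b ?_ ?_ hA
  · intro a ha Q hQ
    refine Valuation.map_sum_le _ fun i _ => ?_
    rw [Algebra.smul_def, map_mul, hb]
    calc Q.1 (algebraMap K K' (a i)) * Q.1 (ω i) ≤ 1 * 1 :=
          mul_le_mul' (hval Q hQ _ (ha i)) (hω i Q hQ)
      _ = 1 := one_mul 1
  · intro z hz i
    obtain ⟨a, ha, hza⟩ := hgen z hz
    have : z = ∑ i, a i • b i := by
      rw [hza]; exact Finset.sum_congr rfl fun i _ => by rw [hb]
    rw [this, b.repr_sum_self]
    exact ha i

end tr

end Groth.Agent.Helper27.Tate
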