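import Mathlib
import Groth.Agent.Lib.Helper27.TateO
import Groth.Agent.Lib.Helper27.ExpB

/-! Complete discretely valued fields with coefficient fields: structure of a finite extension. -/

namespace Groth.Agent.Helper27.Cpl

open FunFld HahnSeries LaurentSeries Groth.Agent.Helper27.Tate Groth.Agent.Helper27.TrF
open scoped WithZero

universe u v

section gen
variable {k : Type*} {K : Type*} {F : Type*} [Field k] [Field K] [Field F] [Algebra k K]
  [Algebra k F]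

theorem ord_C (c : F) : Ord (HahnSeries.C c : F⸨X⸩) 0 := by
  intro n hn
  rw [HahnSeries.C_apply, HahnSeries.coeff_single_of_ne (ne_of_lt hn)]

theorem val_le_iff_ord (w : Valuation K ℤᵐ⁰) (Φ : K →ₐ[k] F⸨X⸩)
    (hΦ : LocRes.IsExpansionAt w Φ) (z : K) (N : ℤ) :
    w z ≤ WithZero.exp (-N) ↔ Ord (Φ z) N := by
  rw [ord_iff_val, hΦ.1]

theorem val_le_one_iff_ord (w : Valuation K ℤᵐ⁰) (Φ : K →ₐ[k] F⸨X⸩)
    (hΦ : LocRes.IsExpansionAt w Φ) (z : K) :
    w z ≤ 1 ↔ Ord (Φ z) 0 := by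
  rw [← val_le_iff_ord w Φ hΦ z 0, neg_zero, WithZero.exp_zero]

theorem val_algebraMap_le (w : Valuation K ℤᵐ⁰) (Φ : K →ₐ[k] F⸨X⸩)
    (hΦ : LocRes.IsExpansionAt w Φ) (c : k) : w (algebraMap k K c) ≤ 1 := by
  rw [val_le_one_iff_ord w Φ hΦ, LocRes.map_algebraMap]
  exact ord_C _

theorem val_surjective (w : Valuation K ℤᵐ⁰) (Φ : K →ₐ[k] F⸨X⸩)
    (hΦ : LocRes.IsExpansionAt w Φ) : Function.Surjective w := by
  obtain ⟨t, ht⟩ := hΦ.2.2
  intro γ
  by_cases hγ : γ = 0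
  · exact ⟨0, by rw [map_zero, hγ]⟩
  · refine ⟨t ^ (-(WithZero.log γ)), ?_⟩
    rw [map_zpow₀, ht, ← WithZero.exp_zsmul, smul_eq_mul, neg_mul_neg, mul_one,
      WithZero.exp_log hγ]

/-- the place attached to a valuation with an expansion -/
def placeOf (w : Valuation K ℤᵐ⁰) (Φ : K →ₐ[k] F⸨X⸩) (hΦ : LocRes.IsExpansionAt w Φ) :
    Place k K :=
  ⟨w, val_algebraMap_le w Φ hΦ, val_surjective w Φ hΦ⟩

theorem val_lt_of_coeff_zero (w : Valuation K ℤᵐ⁰) (Φ : K →ₐ[k] F⸨X⸩)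
    (hΦ : LocRes.IsExpansionAt w Φ) {z : K} (hz : w z ≤ 1) (h0 : (Φ z).coeff 0 = 0) :
    w z ≤ WithZero.exp (-1 : ℤ) := by
  rw [val_le_iff_ord w Φ hΦ]
  rw [val_le_one_iff_ord w Φ hΦ] at hz
  intro n hn
  rcases lt_or_eq_of_le (show n ≤ 0 by omega) with h | h
  · exact hz n h
  · rw [h]; exact h0

theorem coeff_zero_of_val_lt (w : Valuation K ℤᵐ⁰) (Φ : K →ₐ[k] F⸨X⸩)
    (hΦ : LocRes.IsExpansionAt w Φ) {z : K} (hz : w z ≤ WithZero.exp (-1 : ℤ)) :
    (Φ z).coeff 0 = 0 := by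
  rw [val_le_iff_ord w Φ hΦ] at hz
  exact hz 0 (by norm_num)

end gen

section ext
variable {F E : Type*} [Field F] [Field E] [Algebra F E]

theorem exists_e (v : Valuation F ℤᵐ⁰) (w : Valuation E ℤᵐ⁰) [v.HasExtension w]
    (hv : ∃ t, v t = WithZero.exp (-1 : ℤ)) :
    ∃ e : ℕ, 0 < e ∧ ∀ a : F, w (algebraMap F E a) = v a ^ e := by
  have heq : v.IsEquiv (w.comap (algebraMap F E)) := Valuation.HasExtension.val_isEquiv_comap
  obtain ⟨t, ht⟩ := hv
  have ht0 : t ≠ 0 := by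
    rintro rfl; rw [map_zero] at ht; exact WithZero.exp_ne_zero ht.symm
  have hwt0 : w (algebraMap F E t) ≠ 0 := by
    rw [Valuation.ne_zero_iff]; exact (map_ne_zero _).2 ht0
  have hwt1 : w (algebraMap F E t) < 1 := by
    by_contra hcon
    push Not at hcon
    have h1 : (w.comap (algebraMap F E)) 1 ≤ (w.comap (algebraMap F E)) t := by
      rw [Valuation.comap_apply, Valuation.comap_apply, map_one, map_one]; exact hcon
    have h2 := (heq 1 t).2 h1
    rw [map_one, ht, ← WithZero.exp_zero, WithZero.exp_le_exp] at h2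
    omega
  obtain ⟨e', he'⟩ : ∃ e' : ℤ, w (algebraMap F E t) = WithZero.exp e' :=
    ⟨_, (WithZero.exp_log hwt0).symm⟩
  have he'neg : e' < 0 := by
    rw [he', ← WithZero.exp_zero, WithZero.exp_lt_exp] at hwt1; exact hwt1
  refine ⟨(-e').toNat, by omega, ?_⟩
  intro a
  by_cases ha : a = 0
  · rw [ha, map_zero, map_zero, map_zero, zero_pow (by omega)]
  · have hva : v a ≠ 0 := by rw [Valuation.ne_zero_iff]; exact ha
    obtain ⟨m, hm⟩ : ∃ m : ℤ, v a = WithZero.exp m := ⟨_, (WithZero.exp_log hva).symm⟩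
    have h1 : v a = v (t ^ (-m)) := by
      rw [map_zpow₀, ht, ← WithZero.exp_zsmul, hm, smul_eq_mul, neg_mul_neg, mul_one]
    have h2 := (heq.val_eq).1 h1
    rw [Valuation.comap_apply, Valuation.comap_apply, map_zpow₀, map_zpow₀, he'] at h2
    rw [h2, hm, ← WithZero.exp_zsmul, ← WithZero.exp_nsmul]
    congr 1
    simp only [smul_eq_mul, nsmul_eq_mul]
    rw [Int.toNat_of_nonneg (by omega)]
    ring

end ext

end Groth.Agent.Helper27.Cpl
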