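import Mathlib
import Groth.Agent.Lib.Helper27.CplA

/-! Generation of the valuation ring of a finite extension of a complete field. -/

namespace Groth.Agent.Helper27.Cpl

open FunFld HahnSeries LaurentSeries Groth.Agent.Helper27.Tate Groth.Agent.Helper27.TrF
open scoped WithZero

variable {K L : Type*} {F E : Type*} [Field K] [Field L] [Field F] [Field E]
  [Algebra K F] [Algebra F E] [Algebra K E] [IsScalarTower K F E]
  [Algebra K L] [Algebra L E] [IsScalarTower K L E]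

theorem psi_algL (ψ : E →ₐ[L] L⸨X⸩) (c : L) : ψ (algebraMap L E c) = HahnSeries.C c := by
  rw [ψ.commutes, LocRes.algebraMap_eq_C]

theorem val_algL_le (w : Valuation E ℤᵐ⁰) (ψ : E →ₐ[L] L⸨X⸩) (hψ : LocRes.IsExpansionAt w ψ)
    (c : L) : w (algebraMap L E c) ≤ 1 := by
  rw [val_le_one_iff_ord w ψ hψ, psi_algL]
  exact ord_C c

theorem algL_smul (a : K) (ℓ : L) :
    algebraMap L E (a • ℓ) = algebraMap F E (algebraMap K F a) * algebraMap L E ℓ := by
  rw [Algebra.smul_def, map_mul, ← IsScalarTower.algebraMap_apply K L E,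
    IsScalarTower.algebraMap_apply K F E]

/-- one digit -/
theorem digit (w : Valuation E ℤᵐ⁰) (ψ : E →ₐ[L] L⸨X⸩) (hψ : LocRes.IsExpansionAt w ψ)
    (ϖ : E) (hϖ : w ϖ = WithZero.exp (-1 : ℤ)) (z : E) (hz : w z ≤ 1) :
    ∃ c : L, ∃ z' : E, w z' ≤ 1 ∧ z = algebraMap L E c + ϖ * z' := by
  have hϖ0 : ϖ ≠ 0 := by
    rintro rfl; rw [map_zero] at hϖ; exact WithZero.exp_ne_zero hϖ.symm
  set c := (ψ z).coeff 0 with hc
  set d := z - algebraMap L E c with hd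
  have hd1 : w d ≤ 1 := (Valuation.map_sub_le w hz (val_algL_le w ψ hψ c))
  have hd0 : (ψ d).coeff 0 = 0 := by
    rw [hd, map_sub, psi_algL, HahnSeries.coeff_sub, HahnSeries.C_apply,
      HahnSeries.coeff_single_same, hc, sub_self]
  have hd2 := val_lt_of_coeff_zero w ψ hψ hd1 hd0
  refine ⟨c, d / ϖ, ?_, ?_⟩
  · rw [map_div₀, hϖ]
    rw [div_eq_mul_inv, ← WithZero.exp_neg, neg_neg]
    calc w d * WithZero.exp (1 : ℤ) ≤ WithZero.exp (-1 : ℤ) * WithZero.exp (1 : ℤ) :=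
          mul_le_mul' hd2 le_rfl
      _ = 1 := by rw [← WithZero.exp_add]; simp
  · rw [mul_div_cancel₀ _ hϖ0, hd]; ring

/-- `n` digits -/
theorem digits (w : Valuation E ℤᵐ⁰) (ψ : E →ₐ[L] L⸨X⸩) (hψ : LocRes.IsExpansionAt w ψ)
    (ϖ : E) (hϖ : w ϖ = WithZero.exp (-1 : ℤ)) (n : ℕ) :
    ∀ z : E, w z ≤ 1 → ∃ c : ℕ → L, ∃ z' : E, w z' ≤ 1 ∧
      z = ∑ j ∈ Finset.range n, algebraMap L E (c j) * ϖ ^ j + ϖ ^ n * z' := by
  induction n with
  | zero =>
    intro z hz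
    exact ⟨fun _ => 0, z, hz, by simp⟩
  | succ n ih =>
    intro z hz
    obtain ⟨c, z', hz', hzz⟩ := ih z hz
    obtain ⟨c', z'', hz'', hzz'⟩ := digit w ψ hψ ϖ hϖ z' hz'
    refine ⟨fun j => if j = n then c' else c j, z'', hz'', ?_⟩
    rw [Finset.sum_range_succ]
    simp only [if_pos]
    have : ∑ j ∈ Finset.range n, algebraMap L E (if j = n then c' else c j) * ϖ ^ j =
        ∑ j ∈ Finset.range n, algebraMap L E (c j) * ϖ ^ j := by
      refine Finset.sum_congr rfl fun j hj => ?_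
      rw [if_neg (ne_of_lt (Finset.mem_range.1 hj))]
    rw [this]
    conv_lhs => rw [hzz, hzz']
    ring

/-- the step modulo a uniformizer of the base -/
theorem step (w : Valuation E ℤᵐ⁰) (ψ : E →ₐ[L] L⸨X⸩) (hψ : LocRes.IsExpansionAt w ψ)
    (ϖ : E) (hϖ : w ϖ = WithZero.exp (-1 : ℤ)) (e : ℕ) (p : E)
    (hp : w p = WithZero.exp (-(e : ℤ))) (z : E) (hz : w z ≤ 1) :
    ∃ c : ℕ → L, ∃ z' : E, w z' ≤ 1 ∧
      z = ∑ j ∈ Finset.range e, algebraMap L E (c j) * ϖ ^ j + p * z' := by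
  have hp0 : p ≠ 0 := by
    rintro rfl; rw [map_zero] at hp; exact WithZero.exp_ne_zero hp.symm
  obtain ⟨c, z', hz', hzz⟩ := digits w ψ hψ ϖ hϖ e z hz
  refine ⟨c, ϖ ^ e / p * z', ?_, ?_⟩
  · rw [map_mul, map_div₀, map_pow, hϖ, hp, ← WithZero.exp_nsmul]
    have : ((e : ℕ) • (-1 : ℤ)) = -(e : ℤ) := by simp
    rw [this, div_self WithZero.exp_ne_zero, one_mul]
    exact hz'
  · rw [← mul_assoc, mul_div_cancel₀ _ hp0]
    exact hzz

end Groth.Agent.Helper27.Cpl
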