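import Mathlib
import Groth.Agent.Lib.Helper27.CplB

/-! Generation of the valuation ring: the limit argument. -/

namespace Groth.Agent.Helper27.Cpl

open FunFld HahnSeries LaurentSeries Groth.Agent.Helper27.Tate Groth.Agent.Helper27.TrF
open scoped WithZero

variable {K L : Type*} {F E : Type*} [Field K] [Field L] [Field F] [Field E]
  [Algebra K F] [Algebra F E] [Algebra K E] [IsScalarTower K F E]
  [Algebra K L] [Algebra L E] [IsScalarTower K L E]

theorem generation {ι : Type*} [Fintype ι] (v : Valuation F ℤᵐ⁰) (w : Valuation E ℤᵐ⁰)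
    (φ : F →ₐ[K] K⸨X⸩) (hφ : LocRes.IsExpansionAt v φ) (hφs : Function.Surjective φ)
    (ψ : E →ₐ[L] L⸨X⸩) (hψ : LocRes.IsExpansionAt w ψ)
    (bL : Module.Basis ι K L) (e : ℕ) (he0 : 0 < e)
    (he : ∀ a : F, w (algebraMap F E a) = v a ^ e)
    (ϖ : E) (hϖ : w ϖ = WithZero.exp (-1 : ℤ)) (z : E) (hz : w z ≤ 1) :
    ∃ A : ℕ → ι → F, (∀ j i, v (A j i) ≤ 1) ∧
      z = ∑ j ∈ Finset.range e, ∑ i,
        algebraMap F E (A j i) * (algebraMap L E (bL i) * ϖ ^ j) := by
  classical
  obtain ⟨πF, hπF⟩ := hφs (HahnSeries.single 1 1)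
  have hvπ : v πF = WithZero.exp (-1 : ℤ) := by
    rw [← hφ.1, hπF]
    exact (DExp.val_eq_exp_iff _ 1).2 ⟨fun n hn => HahnSeries.coeff_single_of_ne (ne_of_lt hn),
      by rw [HahnSeries.coeff_single_same]; exact one_ne_zero⟩
  have hwπ : w (algebraMap F E πF) = WithZero.exp (-(e : ℤ)) := by
    rw [he, hvπ, ← WithZero.exp_nsmul]; congr 1; simp
  have stepT : ∀ z : E, ∃ c : ℕ → L, ∃ z' : E, w z ≤ 1 →
      (w z' ≤ 1 ∧ z = ∑ j ∈ Finset.range e, algebraMap L E (c j) * ϖ ^ j +
        algebraMap F E πF * z') := by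
    intro z
    by_cases hz : w z ≤ 1
    · obtain ⟨c, z', h1, h2⟩ := step w ψ hψ ϖ hϖ e _ hwπ z hz
      exact ⟨c, z', fun _ => ⟨h1, h2⟩⟩
    · exact ⟨fun _ => 0, 0, fun h => absurd h hz⟩
  choose cf nx hspec using stepT
  have hnx : ∀ z, w z ≤ 1 → w (nx z) ≤ 1 := fun z hz => (hspec z hz).1
  have hφi : Function.Injective φ := φ.toRingHom.injective
  choose φinv hφinv using hφs
  set acoef : E → ℕ → ℕ → ι → K := fun z0 m j i => bL.repr (cf (nx^[m] z0) j) i with hacoef
  set Aser : E → ℕ → ι → PowerSeries K := fun z0 j i =>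
    PowerSeries.mk (fun m => acoef z0 m j i) with hAser
  set A : E → ℕ → ι → F := fun z0 j i => φinv ((Aser z0 j i : PowerSeries K) : K⸨X⸩) with hAdef
  set Zs : E → E := fun z0 => ∑ j ∈ Finset.range e, ∑ i,
    algebraMap F E (A z0 j i) * (algebraMap L E (bL i) * ϖ ^ j) with hZs
  have hAv : ∀ z0 j i, v (A z0 j i) ≤ 1 := by
    intro z0 j i
    rw [val_le_one_iff_ord v φ hφ, hAdef, hφinv]
    intro n hn
    rw [PowerSeries.coeff_coe, if_pos hn]
  have hser : ∀ z0 j i, Aser z0 j i =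
      PowerSeries.C (acoef z0 0 j i) + PowerSeries.X * Aser (nx z0) j i := by
    intro z0 j i
    ext n
    cases n with
    | zero =>
      rw [map_add, PowerSeries.coeff_zero_X_mul, add_zero, PowerSeries.coeff_mk,
        PowerSeries.coeff_zero_C]
    | succ n =>
      rw [map_add, PowerSeries.coeff_succ_X_mul, PowerSeries.coeff_mk, PowerSeries.coeff_mk,
        PowerSeries.coeff_C, if_neg (Nat.succ_ne_zero n), zero_add]
      show bL.repr (cf (nx^[n+1] z0) j) i = bL.repr (cf (nx^[n] (nx z0)) j) i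
      rw [Function.iterate_succ_apply]
  have hA : ∀ z0 j i, A z0 j i = algebraMap K F (acoef z0 0 j i) + πF * A (nx z0) j i := by
    intro z0 j i
    apply hφi
    rw [map_add, map_mul, hAdef]
    simp only [hφinv]
    rw [hπF, LocRes.map_algebraMap, Algebra.algebraMap_self_apply, hser, PowerSeries.coe_add,
      PowerSeries.coe_mul, PowerSeries.coe_C, PowerSeries.coe_X]
  have hZ : ∀ z0, w z0 ≤ 1 → z0 - Zs z0 = algebraMap F E πF * (nx z0 - Zs (nx z0)) := by
    intro z0 hz0
    obtain ⟨-, h2⟩ := hspec z0 hz0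
    have hcf : ∀ j, algebraMap L E (cf z0 j) = ∑ i,
        algebraMap F E (algebraMap K F (acoef z0 0 j i)) * algebraMap L E (bL i) := by
      intro j
      conv_lhs => rw [← bL.sum_repr (cf z0 j), map_sum]
      refine Finset.sum_congr rfl fun i _ => ?_
      rw [algL_smul (F := F)]; rfl
    have hterm : ∀ j i, algebraMap F E (A z0 j i) * (algebraMap L E (bL i) * ϖ ^ j) =
        algebraMap F E (algebraMap K F (acoef z0 0 j i)) * algebraMap L E (bL i) * ϖ ^ j +
          algebraMap F E πF *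
            (algebraMap F E (A (nx z0) j i) * (algebraMap L E (bL i) * ϖ ^ j)) := by
      intro j i; rw [hA z0 j i, map_add, map_mul]; ring
    have hZs' : Zs z0 = ∑ j ∈ Finset.range e, algebraMap L E (cf z0 j) * ϖ ^ j +
        algebraMap F E πF * Zs (nx z0) := by
      calc Zs z0 = ∑ j ∈ Finset.range e, ∑ i,
            (algebraMap F E (algebraMap K F (acoef z0 0 j i)) * algebraMap L E (bL i) * ϖ ^ j +
              algebraMap F E πF *
                (algebraMap F E (A (nx z0) j i) * (algebraMap L E (bL i) * ϖ ^ j))) :=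
            Finset.sum_congr rfl fun j _ => Finset.sum_congr rfl fun i _ => hterm j i
        _ = ∑ j ∈ Finset.range e, (algebraMap L E (cf z0 j) * ϖ ^ j + algebraMap F E πF *
              ∑ i, (algebraMap F E (A (nx z0) j i) * (algebraMap L E (bL i) * ϖ ^ j))) := by
            refine Finset.sum_congr rfl fun j _ => ?_
            rw [Finset.sum_add_distrib, ← Finset.sum_mul, ← hcf j, ← Finset.mul_sum]
        _ = _ := by rw [Finset.sum_add_distrib, ← Finset.mul_sum]
    have : z0 - Zs z0 = (∑ j ∈ Finset.range e, algebraMap L E (cf z0 j) * ϖ ^ j +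
        algebraMap F E πF * nx z0) - (∑ j ∈ Finset.range e, algebraMap L E (cf z0 j) * ϖ ^ j +
        algebraMap F E πF * Zs (nx z0)) := by
      rw [← hZs', ← h2]
    rw [this]; ring
  have hϖj : ∀ j : ℕ, w (ϖ ^ j) ≤ 1 := by
    intro j
    rw [map_pow, hϖ]
    exact pow_le_one' (by rw [← WithZero.exp_zero, WithZero.exp_le_exp]; norm_num) j
  have hZw : ∀ z0, w (Zs z0) ≤ 1 := by
    intro z0
    refine Valuation.map_sum_le _ fun j _ => Valuation.map_sum_le _ fun i _ => ?_
    rw [map_mul, map_mul, he]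
    calc v (A z0 j i) ^ e * (w (algebraMap L E (bL i)) * w (ϖ ^ j)) ≤ 1 * (1 * 1) :=
          mul_le_mul' (pow_le_one' (hAv z0 j i) e)
            (mul_le_mul' (val_algL_le w ψ hψ _) (hϖj j))
      _ = 1 := by rw [one_mul, one_mul]
  have hP : ∀ M : ℕ, ∀ z0, w z0 ≤ 1 → w (z0 - Zs z0) ≤ WithZero.exp (-(M : ℤ)) := by
    intro M
    induction M with
    | zero =>
      intro z0 hz0
      simp only [Nat.cast_zero, neg_zero, WithZero.exp_zero]
      exact Valuation.map_sub_le w hz0 (hZw z0)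
    | succ M ih =>
      intro z0 hz0
      rw [hZ z0 hz0, map_mul, hwπ]
      calc WithZero.exp (-(e : ℤ)) * w (nx z0 - Zs (nx z0))
          ≤ WithZero.exp (-(e : ℤ)) * WithZero.exp (-(M : ℤ)) :=
            mul_le_mul' le_rfl (ih _ (hnx z0 hz0))
        _ ≤ WithZero.exp (-((M + 1 : ℕ) : ℤ)) := by
            rw [← WithZero.exp_add, WithZero.exp_le_exp]; push_cast; omega
  have hzero : z - Zs z = 0 := by
    rw [← Valuation.zero_iff w]
    exact Expn.eq_zero_of_forall_le fun M => hP M z hz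
  exact ⟨A z, hAv z, sub_eq_zero.1 hzero⟩

end Groth.Agent.Helper27.Cpl
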