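import Mathlib
import Groth.Agent.Lib.Helper27.CplC
import Groth.Agent.Lib.Helper27.DExpD

/-! Linear independence and the integral basis. -/

namespace Groth.Agent.Helper27.Cpl

open FunFld HahnSeries LaurentSeries Groth.Agent.Helper27.Tate Groth.Agent.Helper27.TrF
open scoped WithZero

variable {K L : Type*} {F E : Type*} [Field K] [Field L] [Field F] [Field E]
  [Algebra K F] [Algebra F E] [Algebra K E] [IsScalarTower K F E]
  [Algebra K L] [Algebra L E] [IsScalarTower K L E]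

theorem coeff_zero_algF (v : Valuation F ℤᵐ⁰) (w : Valuation E ℤᵐ⁰)
    (φ : F →ₐ[K] K⸨X⸩) (hφ : LocRes.IsExpansionAt v φ)
    (ψ : E →ₐ[L] L⸨X⸩) (hψ : LocRes.IsExpansionAt w ψ)
    (e : ℕ) (he0 : 0 < e) (he : ∀ a : F, w (algebraMap F E a) = v a ^ e)
    (h : F) (hh : v h ≤ 1) :
    (ψ (algebraMap F E h)).coeff 0 = algebraMap K L ((φ h).coeff 0) := by
  set r := (φ h).coeff 0 with hr
  set h' := h - algebraMap K F r with hh'
  have h1 : v h' ≤ 1 := Valuation.map_sub_le v hh (val_algebraMap_le v φ hφ r)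
  have h0 : (φ h').coeff 0 = 0 := by
    rw [hh', map_sub, LocRes.map_algebraMap, Algebra.algebraMap_self_apply,
      HahnSeries.coeff_sub, HahnSeries.C_apply, HahnSeries.coeff_single_same, hr, sub_self]
  have h2 := val_lt_of_coeff_zero v φ hφ h1 h0
  have h3 : w (algebraMap F E h') ≤ WithZero.exp (-1 : ℤ) := by
    rw [he]
    calc v h' ^ e ≤ WithZero.exp (-1 : ℤ) ^ e := pow_le_pow_left' h2 e
      _ = WithZero.exp (-(e : ℤ)) := by rw [← WithZero.exp_nsmul]; congr 1; simp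
      _ ≤ WithZero.exp (-1 : ℤ) := by rw [WithZero.exp_le_exp]; omega
  have h4 := coeff_zero_of_val_lt w ψ hψ h3
  have e1 : h = algebraMap K F r + h' := by rw [hh']; ring
  have e2 : algebraMap F E (algebraMap K F r) = algebraMap L E (algebraMap K L r) := by
    rw [← IsScalarTower.algebraMap_apply K F E, ← IsScalarTower.algebraMap_apply K L E]
  conv_lhs => rw [e1, map_add, map_add, e2, psi_algL, HahnSeries.coeff_add, h4, add_zero,
    HahnSeries.C_apply, HahnSeries.coeff_single_same]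

theorem val_comb {ι : Type*} [Fintype ι] (v : Valuation F ℤᵐ⁰) (w : Valuation E ℤᵐ⁰)
    (φ : F →ₐ[K] K⸨X⸩) (hφ : LocRes.IsExpansionAt v φ)
    (ψ : E →ₐ[L] L⸨X⸩) (hψ : LocRes.IsExpansionAt w ψ)
    (e : ℕ) (he0 : 0 < e) (he : ∀ a : F, w (algebraMap F E a) = v a ^ e)
    (bL : Module.Basis ι K L) (g : ι → F) (hg : ∃ i, g i ≠ 0) :
    ∃ m : ℤ, w (∑ i, algebraMap F E (g i) * algebraMap L E (bL i)) =
      WithZero.exp ((e : ℤ) * m) := by
  classical
  obtain ⟨i1, hi1⟩ := hg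
  obtain ⟨i0, -, hmax⟩ := Finset.exists_max_image Finset.univ (fun i => v (g i))
    ⟨i1, Finset.mem_univ _⟩
  have hv0 : v (g i0) ≠ 0 := by
    intro h0
    have := hmax i1 (Finset.mem_univ _)
    rw [h0] at this
    exact (Valuation.ne_zero_iff v).2 hi1 (le_antisymm this zero_le)
  have hg0 : g i0 ≠ 0 := (Valuation.ne_zero_iff v).1 hv0
  set h : ι → F := fun i => g i / g i0 with hh
  have hh1 : ∀ i, v (h i) ≤ 1 := by
    intro i
    rw [hh, map_div₀]
    exact div_le_one_of_le₀ (hmax i (Finset.mem_univ _)) zero_le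
  have hh0 : h i0 = 1 := div_self hg0
  set S' := ∑ i, algebraMap F E (h i) * algebraMap L E (bL i) with hS'
  have hS : ∑ i, algebraMap F E (g i) * algebraMap L E (bL i) = algebraMap F E (g i0) * S' := by
    rw [hS', Finset.mul_sum]
    refine Finset.sum_congr rfl fun i _ => ?_
    rw [← mul_assoc, ← map_mul, hh, mul_div_cancel₀ _ hg0]
  have hw1 : w S' ≤ 1 := by
    refine Valuation.map_sum_le _ fun i _ => ?_
    rw [map_mul, he]
    calc v (h i) ^ e * w (algebraMap L E (bL i)) ≤ 1 * 1 :=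
          mul_le_mul' (pow_le_one' (hh1 i) e) (val_algL_le w ψ hψ _)
      _ = 1 := one_mul 1
  have hc0 : (ψ S').coeff 0 = ∑ i, ((φ (h i)).coeff 0) • bL i := by
    rw [hS', map_sum, HahnSeries.coeff_sum]
    refine Finset.sum_congr rfl fun i _ => ?_
    rw [map_mul, psi_algL, mul_comm, HahnSeries.C_mul_eq_smul, HahnSeries.coeff_smul,
      coeff_zero_algF v w φ hφ ψ hψ e he0 he (h i) (hh1 i), smul_eq_mul, mul_comm,
      Algebra.smul_def]
  have hc1 : (ψ S').coeff 0 ≠ 0 := by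
    rw [hc0]
    intro h0
    have := Fintype.linearIndependent_iff.1 bL.linearIndependent _ h0 i0
    rw [hh0, map_one] at this
    have h1 : ((1 : K⸨X⸩)).coeff 0 = (1 : K) := by rw [HahnSeries.coeff_one, if_pos rfl]
    rw [h1] at this
    exact one_ne_zero this
  have hw : w S' = 1 := by
    rw [← hψ.1]
    have := (DExp.val_eq_exp_iff (ψ S') 0).2
      ⟨(val_le_one_iff_ord w ψ hψ S').1 hw1, hc1⟩
    simpa using this
  obtain ⟨m, hm⟩ : ∃ m : ℤ, v (g i0) = WithZero.exp m := ⟨_, (WithZero.exp_log hv0).symm⟩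
  refine ⟨m, ?_⟩
  rw [hS, map_mul, hw, mul_one, he, hm, ← WithZero.exp_nsmul]
  congr 1

theorem linearIndependent_fam {ι : Type*} [Fintype ι] (v : Valuation F ℤᵐ⁰) (w : Valuation E ℤᵐ⁰)
    (φ : F →ₐ[K] K⸨X⸩) (hφ : LocRes.IsExpansionAt v φ)
    (ψ : E →ₐ[L] L⸨X⸩) (hψ : LocRes.IsExpansionAt w ψ)
    (e : ℕ) (he0 : 0 < e) (he : ∀ a : F, w (algebraMap F E a) = v a ^ e)
    (bL : Module.Basis ι K L) (ϖ : E) (hϖ : w ϖ = WithZero.exp (-1 : ℤ)) :
    LinearIndependent F (fun p : Fin e × ι => algebraMap L E (bL p.2) * ϖ ^ (p.1 : ℕ)) := by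
  classical
  rw [Fintype.linearIndependent_iff]
  intro g hsum p0
  by_contra hne
  set S : Fin e → E := fun j => ∑ i, algebraMap F E (g (j, i)) * algebraMap L E (bL i) with hS
  set T : Fin e → E := fun j => S j * ϖ ^ (j : ℕ) with hT
  have hsumT : ∑ j ∈ (Finset.univ : Finset (Fin e)), T j = 0 := by
    rw [← hsum, Fintype.sum_prod_type]
    refine Finset.sum_congr rfl fun j _ => ?_
    show (∑ i, algebraMap F E (g (j, i)) * algebraMap L E (bL i)) * ϖ ^ (j : ℕ) =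
      ∑ i, g (j, i) • (algebraMap L E (bL i) * ϖ ^ (j : ℕ))
    rw [Finset.sum_mul]
    refine Finset.sum_congr rfl fun i _ => ?_
    rw [Algebra.smul_def]; ring
  have hSval : ∀ j, (∃ i, g (j, i) ≠ 0) → ∃ m : ℤ, w (T j) =
      WithZero.exp ((e : ℤ) * m - (j : ℕ)) := by
    intro j hj
    obtain ⟨m, hm⟩ := val_comb v w φ hφ ψ hψ e he0 he bL (fun i => g (j, i)) hj
    refine ⟨m, ?_⟩
    have hm' : w (S j) = WithZero.exp ((e : ℤ) * m) := hm
    show w (S j * ϖ ^ (j : ℕ)) = _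
    rw [map_mul, hm', map_pow, hϖ, ← WithZero.exp_nsmul, ← WithZero.exp_add]
    congr 1
    simp only [nsmul_eq_mul, mul_neg, mul_one]
    ring
  have hT0 : ∀ j, w (T j) ≠ 0 → ∃ i, g (j, i) ≠ 0 := by
    intro j hj
    by_contra hcon
    push Not at hcon
    apply hj
    have hS0 : S j = 0 := Finset.sum_eq_zero fun i _ => by rw [hcon i, map_zero, zero_mul]
    show w (S j * ϖ ^ (j : ℕ)) = 0
    rw [hS0, zero_mul, map_zero]
  have hp0 : w (T p0.1) ≠ 0 := by
    obtain ⟨m, hm⟩ := hSval p0.1 ⟨p0.2, hne⟩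
    rw [hm]; exact WithZero.exp_ne_zero
  obtain ⟨j, -, j', -, hjj', heq, hne0, -⟩ := DExp.two_max w Finset.univ T hsumT p0.1
    (Finset.mem_univ _) hp0
  obtain ⟨m, hm⟩ := hSval j (hT0 j hne0)
  obtain ⟨m', hm'⟩ := hSval j' (hT0 j' (heq ▸ hne0))
  rw [hm, hm', WithZero.exp_inj] at heq
  apply hjj'
  have h1 : (e : ℤ) ∣ ((j : ℕ) : ℤ) - ((j' : ℕ) : ℤ) := ⟨m - m', by linarith⟩
  have h2 : |((j : ℕ) : ℤ) - ((j' : ℕ) : ℤ)| < (e : ℤ) := by
    have := j.2; have := j'.2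
    rw [abs_lt]; constructor <;> omega
  have h3 := Int.eq_zero_of_abs_lt_dvd h1 h2
  exact Fin.ext (by omega)

end Groth.Agent.Helper27.Cpl
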