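import Mathlib
import Groth.Agent.Lib.Helper27.CplD

/-! The integral basis and the trace formula for residues over a complete field. -/

namespace Groth.Agent.Helper27.Cpl

open FunFld HahnSeries LaurentSeries Groth.Agent.Helper27.Tate Groth.Agent.Helper27.TrF
open scoped WithZero

section basis
variable {K L : Type*} {F E : Type*} [Field K] [Field L] [Field F] [Field E]
  [Algebra K F] [Algebra F E] [Algebra K E] [IsScalarTower K F E]
  [Algebra K L] [Algebra L E] [IsScalarTower K L E]

theorem exists_basis {ι : Type*} [Fintype ι] (v : Valuation F ℤᵐ⁰) (w : Valuation E ℤᵐ⁰)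
    (φ : F →ₐ[K] K⸨X⸩) (hφ : LocRes.IsExpansionAt v φ) (hφs : Function.Surjective φ)
    (ψ : E →ₐ[L] L⸨X⸩) (hψ : LocRes.IsExpansionAt w ψ)
    (e : ℕ) (he0 : 0 < e) (he : ∀ a : F, w (algebraMap F E a) = v a ^ e)
    (bL : Module.Basis ι K L) :
    ∃ b : Module.Basis (Fin e × ι) F E,
      (∀ a : Fin e × ι → F, (∀ p, v (a p) ≤ 1) → w (∑ p, a p • b p) ≤ 1) ∧
      (∀ z, w z ≤ 1 → ∀ p, v (b.repr z p) ≤ 1) := by
  classical
  obtain ⟨ϖ, hϖ⟩ := hψ.2.2
  have hli := linearIndependent_fam v w φ hφ ψ hψ e he0 he bL ϖ hϖ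
  set fam : Fin e × ι → E := fun p => algebraMap L E (bL p.2) * ϖ ^ (p.1 : ℕ) with hfam
  have hfamw : ∀ p, w (fam p) ≤ 1 := by
    intro p
    rw [hfam, map_mul, map_pow, hϖ]
    calc w (algebraMap L E (bL p.2)) * WithZero.exp (-1 : ℤ) ^ (p.1 : ℕ) ≤ 1 * 1 :=
          mul_le_mul' (val_algL_le w ψ hψ _)
            (pow_le_one' (by rw [← WithZero.exp_zero, WithZero.exp_le_exp]; norm_num) _)
      _ = 1 := one_mul 1
  have hmem : ∀ z, w z ≤ 1 → z ∈ Submodule.span F (Set.range fam) := by
    intro z hz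
    obtain ⟨A, -, hzA⟩ := generation v w φ hφ hφs ψ hψ bL e he0 he ϖ hϖ z hz
    rw [hzA]
    refine Submodule.sum_mem _ fun j hj => Submodule.sum_mem _ fun i _ => ?_
    have : algebraMap F E (A j i) * (algebraMap L E (bL i) * ϖ ^ j) =
        A j i • fam (⟨j, Finset.mem_range.1 hj⟩, i) := by
      rw [Algebra.smul_def]
    rw [this]
    exact Submodule.smul_mem _ _ (Submodule.subset_span ⟨_, rfl⟩)
  have hspan : ⊤ ≤ Submodule.span F (Set.range fam) := by
    intro z _
    obtain ⟨t, ht⟩ := hφ.2.2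
    have ht0 : t ≠ 0 := by
      rintro rfl; rw [map_zero] at ht; exact WithZero.exp_ne_zero ht.symm
    by_cases hz0 : z = 0
    · rw [hz0]; exact Submodule.zero_mem _
    · have hwz : w z ≠ 0 := (Valuation.ne_zero_iff w).2 hz0
      obtain ⟨m, hm⟩ : ∃ m : ℤ, w z = WithZero.exp m := ⟨_, (WithZero.exp_log hwz).symm⟩
      set N := m.toNat with hN
      set z0 := algebraMap F E t ^ N * z with hz0'
      have hwz0 : w z0 ≤ 1 := by
        rw [hz0', map_mul, map_pow, he, ht, hm, ← WithZero.exp_nsmul, ← WithZero.exp_nsmul,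
          ← WithZero.exp_add, ← WithZero.exp_zero, WithZero.exp_le_exp]
        simp only [nsmul_eq_mul, mul_neg, mul_one]
        have : (m.toNat : ℤ) ≤ (m.toNat : ℤ) * e := by
          have : (1 : ℤ) ≤ e := by exact_mod_cast he0
          nlinarith [Int.natCast_nonneg m.toNat]
        have h2 : m ≤ m.toNat := Int.self_le_toNat m
        rw [← hN] at this h2
        rw [mul_comm] at this
        linarith
      have h1 := hmem z0 hwz0
      have : z = (t ^ N)⁻¹ • z0 := by
        rw [Algebra.smul_def, hz0', map_inv₀, map_pow, ← mul_assoc, inv_mul_cancel₀, one_mul]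
        exact pow_ne_zero _ ((map_ne_zero _).2 ht0)
      rw [this]
      exact Submodule.smul_mem _ _ h1
  set b : Module.Basis (Fin e × ι) F E := Module.Basis.mk hli hspan with hb
  have hbp : ∀ p, b p = fam p := fun p => by rw [hb, Module.Basis.mk_apply]
  refine ⟨b, ?_, ?_⟩
  · intro a ha
    refine Valuation.map_sum_le _ fun p _ => ?_
    rw [Algebra.smul_def, map_mul, he, hbp]
    calc v (a p) ^ e * w (fam p) ≤ 1 * 1 := mul_le_mul' (pow_le_one' (ha p) e) (hfamw p)
      _ = 1 := one_mul 1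
  · intro z hz p
    obtain ⟨A, hA, hzA⟩ := generation v w φ hφ hφs ψ hψ bL e he0 he ϖ hϖ z hz
    have : z = ∑ p : Fin e × ι, A p.1 p.2 • b p := by
      rw [hzA, Fintype.sum_prod_type, ← Fin.sum_univ_eq_sum_range
        (fun j => ∑ i, algebraMap F E (A j i) * (algebraMap L E (bL i) * ϖ ^ j)) e]
      refine Finset.sum_congr rfl fun j _ => Finset.sum_congr rfl fun i _ => ?_
      rw [hbp, Algebra.smul_def]
    rw [this, b.repr_sum_self]
    exact hA _ _

end basis

universe u v

noncomputable def psiK {K L : Type u} {E : Type v} [Field K] [Field L] [Field E] [Algebra K E]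
    [Algebra K L] [Algebra L E] [IsScalarTower K L E]
    (ψ : E →ₐ[L] LaurentSeries L) : E →ₐ[K] LaurentSeries L :=
  { (ψ : E →+* L⸨X⸩) with
    commutes' := fun c => by
      show ψ (algebraMap K E c) = algebraMap K L⸨X⸩ c
      rw [IsScalarTower.algebraMap_apply K L E, ψ.commutes, LocRes.algebraMap_eq_C,
        HahnSeries.algebraMap_apply', PowerSeries.algebraMap_apply, HahnSeries.ofPowerSeries_C] }

theorem main12619 (K L : Type u) (F E : Type v) [Field K] [Field L]
    [Field F] [Field E] [Algebra K F] [Algebra F E] [Algebra K E] [IsScalarTower K F E]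
    [FiniteDimensional F E]
    [Algebra K L] [Algebra L E] [IsScalarTower K L E] [FiniteDimensional K L]
    (v : Valuation F (WithZero (Multiplicative ℤ))) (w : Valuation E (WithZero (Multiplicative ℤ)))
    [v.HasExtension w]
    (φ : F →ₐ[K] LaurentSeries K) (hφ : LocRes.IsExpansionAt v φ) (hφs : Function.Surjective φ)
    (ψ : E →ₐ[L] LaurentSeries L) (hψ : LocRes.IsExpansionAt w ψ)
    (x : F) (y : E) :
    Algebra.trace K L (LocRes.resExp ψ y (algebraMap F E x)) =
      LocRes.resExp φ (Algebra.trace F E y) x := by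
  classical
  obtain ⟨e, he0, he⟩ := exists_e v w hφ.2.2
  let bL := Module.finBasis K L
  obtain ⟨b, hb1, hb2⟩ := exists_basis v w φ hφ hφs ψ hψ e he0 he bL
  set ψK : E →ₐ[K] L⸨X⸩ := psiK ψ with hψKdef
  have hψK : LocRes.IsExpansionAt w ψK := ⟨fun f => hψ.1 f, fun a => hψ.2.1 a, hψ.2.2⟩
  set Pv : Place K F := placeOf v φ hφ with hPv
  set Qw : Place K E := placeOf w ψK hψK with hQw
  obtain ⟨πw, h1, h2⟩ := exists_proj Qw
  obtain ⟨hA, hρ⟩ := local_residue Qw ψK hψK πw h1 h2 y (algebraMap F E x)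
  have key := trace_local_basis Pv φ hφ y x πw (fun z => w z ≤ 1) h1 h2 b hb1 hb2 hA
  have e1 : LocRes.locRes ψK y (algebraMap F E x) =
      Algebra.trace K L (LocRes.resExp ψ y (algebraMap F E x)) := rfl
  have e2 : LocRes.locRes φ (Algebra.trace F E y) x =
      LocRes.resExp φ (Algebra.trace F E y) x := Algebra.trace_self_apply _
  rw [← e1, ← hρ, key, e2]

end Groth.Agent.Helper27.Cpl
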