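import Mathlib
import Groth.Agent.Lib.Helper27.RHb

set_option autoImplicit false

namespace Groth.Agent.Helper27.Cst

open FunFld Groth.Agent.Helper16.FFW IntermediateField
open scoped WithZero

variable {k E : Type*} [Field k] [Field E] [Algebra k E]

/-- a weak function field is a function field over its exact constant field -/
theorem isFunctionField_algebraicClosure (hE : IsWeakFF k E) :
    IsFunctionField (algebraicClosure k E) E := by
  obtain ⟨x, hx, hfin⟩ := hE
  haveI : Algebra.IsAlgebraic k (algebraicClosure k E) := algebraicClosure.isAlgebraic k E
  refine ⟨⟨x, ?_, ?_⟩, ?_⟩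
  · intro halg
    exact hx (IsAlgebraic.restrictScalars k halg)
  · -- finiteness
    obtain ⟨S, hS⟩ := Module.finite_def.1 hfin
    refine Module.finite_def.2 ⟨S, ?_⟩
    rw [eq_top_iff]
    intro e _
    have he : e ∈ Submodule.span (IntermediateField.adjoin k ({x} : Set E)) (S : Set E) := by
      rw [hS]; trivial
    have hle : ∀ a : IntermediateField.adjoin k ({x} : Set E),
        (a : E) ∈ IntermediateField.adjoin (algebraicClosure k E) ({x} : Set E) := by
      intro a
      have h1 : IntermediateField.adjoin k ({x} : Set E) ≤
          (IntermediateField.adjoin (algebraicClosure k E) ({x} : Set E)).restrictScalars k := by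
        rw [IntermediateField.adjoin_le_iff]
        intro z hz
        rw [Set.mem_singleton_iff] at hz
        rw [hz]
        exact IntermediateField.mem_adjoin_simple_self _ x
      exact h1 a.2
    refine Submodule.span_induction (p := fun y _ => y ∈ Submodule.span
      (IntermediateField.adjoin (algebraicClosure k E) ({x} : Set E)) (S : Set E))
      (fun y hy => Submodule.subset_span hy) (Submodule.zero_mem _)
      (fun y z _ _ hy hz => Submodule.add_mem _ hy hz) (fun a y _ hy => ?_) he
    have : a • y = (⟨(a : E), hle a⟩ :
        IntermediateField.adjoin (algebraicClosure k E) ({x} : Set E)) • y := rfl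
    rw [this]
    exact Submodule.smul_mem _ _ hy
  · intro y hy
    have hy' : IsAlgebraic k y := IsAlgebraic.restrictScalars k hy
    exact ⟨⟨y, (mem_algebraicClosure_iff' ).2 hy'.isIntegral⟩, rfl⟩

end Groth.Agent.Helper27.Cst
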