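import Mathlib
import Groth.Agent.Lib.Helper27.CstA
import Groth.Agent.Lib.Helper27.InrB

set_option autoImplicit false

namespace Groth.Agent.Helper27.Cst

open FunFld Groth.Agent.Helper16.FFW IntermediateField
open scoped WithZero

section toK

variable {k k₁ K' : Type*} [Field k] [Field k₁] [Field K']
  [Algebra k k₁] [Algebra k₁ K'] [Algebra k K'] [IsScalarTower k k₁ K']

/-- restriction of the constant field (universe polymorphic) -/
def toK' (Q : Place k₁ K') : Place k K' :=
  ⟨Q.1, fun c => by rw [IsScalarTower.algebraMap_apply k k₁ K']; exact Q.2.1 _, Q.2.2⟩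

theorem toK'_surjective [Algebra.IsAlgebraic k k₁] :
    Function.Surjective (toK' : Place k₁ K' → Place k K') := by
  intro Q'
  refine ⟨⟨Q'.1, fun c => ?_, Q'.2.2⟩, rfl⟩
  have hc : IsIntegral k (algebraMap k₁ K' c) :=
    ((Algebra.IsAlgebraic.isAlgebraic (R := k) c).isIntegral).map
      (IsScalarTower.toAlgHom k k₁ K')
  exact Place.val_le_one_of_isIntegral Q' hc

end toK

variable {k E K' : Type*} [Field k] [Field E] [Field K'] [Algebra k E] [Algebra E K'] [Algebra k K']
  [IsScalarTower k E K']

/-- the order of the inertia group is the ramification index, over a weak base -/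
theorem card_inertia_weak [FiniteDimensional E K'] [IsGalois E K'] (hE : IsWeakFF k E)
    {Q : Place k K'} {P : Place k E} {e : ℕ} (he : IsOverWith Q P e)
    [hsep : Algebra.IsSeparable k (IsLocalRing.ResidueField Q.O)] :
    Nat.card (Q.O.inertiaSubgroup E) = e := by
  classical
  haveI : Algebra.IsAlgebraic k (algebraicClosure k E) := algebraicClosure.isAlgebraic k E
  haveI : IsScalarTower (algebraicClosure k E) E K' := inferInstance
  haveI : IsScalarTower k (algebraicClosure k E) K' := .of_algebraMap_eq (fun c => by
    rw [IsScalarTower.algebraMap_apply k E K']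
    rfl)
  obtain ⟨Q₁, rfl⟩ := toK'_surjective (k := k) (k₁ := algebraicClosure k E) Q
  obtain ⟨P₁, rfl⟩ := toK'_surjective (k := k) (k₁ := algebraicClosure k E) P
  have he₁ : IsOverWith Q₁ P₁ e := fun x => he x
  letI ak : Algebra k (IsLocalRing.ResidueField Q₁.O) :=
    Place.algRes (toK' Q₁ : Place k K')
  have hsep' : Algebra.IsSeparable k (IsLocalRing.ResidueField Q₁.O) := hsep
  haveI : IsScalarTower k (algebraicClosure k E) (IsLocalRing.ResidueField Q₁.O) :=
    .of_algebraMap_eq (fun c => by
      show IsLocalRing.residue Q₁.O (algebraMap k (toK' Q₁ : Place k K').O c) =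
        IsLocalRing.residue Q₁.O (algebraMap (algebraicClosure k E) Q₁.O (algebraMap k _ c))
      congr 1
      apply Subtype.ext
      exact IsScalarTower.algebraMap_apply k (algebraicClosure k E) K' c)
  haveI : Algebra.IsSeparable (algebraicClosure k E) (IsLocalRing.ResidueField Q₁.O) :=
    Algebra.isSeparable_tower_top_of_isSeparable k (algebraicClosure k E) _
  exact Inr.card_inertia (isFunctionField_algebraicClosure hE) he₁

end Groth.Agent.Helper27.Cst
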