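import Mathlib
import Groth.Agent.Lib.Helper27.CstB

set_option autoImplicit false

namespace Groth.Agent.Helper27.Cst

open FunFld Groth.Agent.Helper16.FFW IntermediateField
open scoped WithZero Pointwise

section grp

variable {K K' : Type*} [Field K] [Field K'] [Algebra K K'] (A : ValuationSubring K')
  (E : IntermediateField K K')

theorem smul_restrictScalars (τ : K' ≃ₐ[E] K') : (τ.restrictScalars K) • A = τ • A :=
  SetLike.coe_injective rfl

theorem mem_dec_iff (τ : K' ≃ₐ[E] K') :
    τ ∈ A.decompositionSubgroup E ↔ τ.restrictScalars K ∈ A.decompositionSubgroup K := by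
  rw [MulAction.mem_stabilizer_iff, MulAction.mem_stabilizer_iff, smul_restrictScalars]

theorem smul_res_eq (τ : K' ≃ₐ[E] K') (hτ : τ ∈ A.decompositionSubgroup E)
    (hσ : τ.restrictScalars K ∈ A.decompositionSubgroup K) (x : IsLocalRing.ResidueField A) :
    (⟨τ, hτ⟩ : A.decompositionSubgroup E) • x =
      (⟨τ.restrictScalars K, hσ⟩ : A.decompositionSubgroup K) • x := by
  obtain ⟨a, rfl⟩ := IsLocalRing.residue_surjective x
  rfl

variable (K) in
theorem mem_inertia_iff (g : A.decompositionSubgroup K) :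
    g ∈ A.inertiaSubgroup K ↔ ∀ x : IsLocalRing.ResidueField A, g • x = x := by
  constructor
  · intro hg x
    have h1 : MulSemiringAction.toRingAut (A.decompositionSubgroup K)
        (IsLocalRing.ResidueField A) g = 1 := MonoidHom.mem_ker.1 hg
    have := RingEquiv.congr_fun h1 x
    exact this
  · intro h
    apply MonoidHom.mem_ker.2
    ext x
    exact h x

/-- the subgroup `I_G` of the Galois group -/
noncomputable abbrev IG : Subgroup (K' ≃ₐ[K] K') :=
  (A.inertiaSubgroup K).map (A.decompositionSubgroup K).subtype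

theorem mem_IG_iff (σ : K' ≃ₐ[K] K') :
    σ ∈ IG (K := K) A ↔ ∃ hσ : σ ∈ A.decompositionSubgroup K,
      ∀ x : IsLocalRing.ResidueField A, (⟨σ, hσ⟩ : A.decompositionSubgroup K) • x = x := by
  constructor
  · rintro ⟨τ, hτ, rfl⟩
    exact ⟨τ.2, (mem_inertia_iff K A τ).1 hτ⟩
  · rintro ⟨hσ, h⟩
    exact ⟨⟨σ, hσ⟩, (mem_inertia_iff K A _).2 h, rfl⟩

theorem card_inertia_eq :
    Nat.card (A.inertiaSubgroup E) = Nat.card ↥(IG (K := K) A ⊓ E.fixingSubgroup) := by
  classical
  let f : ↥(A.inertiaSubgroup E) → ↥(IG (K := K) A ⊓ E.fixingSubgroup) := fun τ' =>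
    ⟨τ'.1.1.restrictScalars K, by
      refine ⟨(mem_IG_iff A _).2 ⟨(mem_dec_iff A E τ'.1.1).1 τ'.1.2, fun x => ?_⟩, ?_⟩
      · rw [← smul_res_eq A E τ'.1.1 τ'.1.2]
        exact (mem_inertia_iff E A τ'.1).1 τ'.2 x
      · show AlgEquiv.restrictScalars K τ'.1.1 ∈ E.fixingSubgroup
        rw [IntermediateField.mem_fixingSubgroup_iff]
        intro x hx
        exact τ'.1.1.commutes ⟨x, hx⟩⟩
  have hinj : Function.Injective f := by
    intro a b hab
    have h1 : a.1.1.restrictScalars K = b.1.1.restrictScalars K := congrArg Subtype.val hab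
    have h2 : a.1.1 = b.1.1 := AlgEquiv.restrictScalars_injective K h1
    exact Subtype.ext (Subtype.ext h2)
  have hsurj : Function.Surjective f := by
    rintro ⟨σ, hσI, hσH⟩
    obtain ⟨hσD, hσx⟩ := (mem_IG_iff A σ).1 hσI
    let τ : K' ≃ₐ[E] K' := IntermediateField.fixingSubgroupEquiv E ⟨σ, hσH⟩
    have hτσ : τ.restrictScalars K = σ := by
      ext x; rfl
    have hτD : τ ∈ A.decompositionSubgroup E := (mem_dec_iff A E τ).2 (by rw [hτσ]; exact hσD)
    have hτI : (⟨τ, hτD⟩ : A.decompositionSubgroup E) ∈ A.inertiaSubgroup E := by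
      rw [mem_inertia_iff]
      intro x
      rw [smul_res_eq A E τ hτD (by rw [hτσ]; exact hσD)]
      have := hσx x
      convert this
    exact ⟨⟨⟨τ, hτD⟩, hτI⟩, Subtype.ext hτσ⟩
  exact Nat.card_congr (Equiv.ofBijective f ⟨hinj, hsurj⟩)

end grp

theorem range_pow_eq_iff {e e' : ℕ} (he : 0 < e) (he' : 0 < e') :
    Set.range (fun γ : ℤᵐ⁰ => γ ^ e) = Set.range (fun γ : ℤᵐ⁰ => γ ^ e') ↔ e = e' := by
  constructor
  · intro h
    have key : ∀ {a b : ℕ}, 0 < a → 0 < b →
        Set.range (fun γ : ℤᵐ⁰ => γ ^ a) ⊆ Set.range (fun γ : ℤᵐ⁰ => γ ^ b) → b ∣ a := by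
      intro a b ha hb hsub
      obtain ⟨γ, hγ⟩ := hsub ⟨WithZero.exp (-1 : ℤ), rfl⟩
      have hγ' : γ ^ b = WithZero.exp (-1 : ℤ) ^ a := hγ
      have hγ0 : γ ≠ 0 := by
        rintro rfl
        rw [zero_pow hb.ne', ← WithZero.exp_nsmul] at hγ'
        exact WithZero.exp_ne_zero.symm hγ'
      rw [← WithZero.exp_log hγ0, ← WithZero.exp_nsmul, ← WithZero.exp_nsmul,
        WithZero.exp_inj] at hγ'
      simp only [nsmul_eq_mul, mul_neg, mul_one] at hγ'
      have : (b : ℤ) ∣ (a : ℤ) := ⟨-WithZero.log γ, by linarith⟩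
      exact_mod_cast this
    exact Nat.dvd_antisymm (key he' he h.ge) (key he he' h.le)
  · rintro rfl; rfl

variable {k K K' : Type*} [Field k] [Field K] [Field K'] [Algebra k K] [Algebra K K'] [Algebra k K']
  [IsScalarTower k K K']

theorem range_comap_eq {Q : Place k K'} {P : Place k K} {e : ℕ} (he : IsOverWith Q P e) :
    Set.range (Q.1.comap (algebraMap K K')) = Set.range (fun γ : ℤᵐ⁰ => γ ^ e) := by
  ext γ
  constructor
  · rintro ⟨x, rfl⟩
    exact ⟨P.1 x, (he x).symm⟩
  · rintro ⟨δ, rfl⟩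
    obtain ⟨x, rfl⟩ := P.2.2 δ
    exact ⟨x, he x⟩

theorem main11029 [FiniteDimensional K K'] [IsGalois K K'] (hK : IsFunctionField k K)
    (Q : Place k K') [Algebra.IsSeparable k (IsLocalRing.ResidueField Q.O)]
    (E : IntermediateField K K') :
    Set.range (Q.1.comap (algebraMap E K')) = Set.range (Q.1.comap (algebraMap K K')) ↔
      E ≤ IntermediateField.fixedField
        (((Q.O).inertiaSubgroup K).map ((Q.O).decompositionSubgroup K).subtype) := by
  classical
  obtain ⟨P, e, he⟩ := exists_isOverWith (K := K) (K' := K') hK.1 Q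
  haveI : IsScalarTower k E K' := IsScalarTower.of_algebraMap_eq (fun c => rfl)
  have hWE : IsWeakFF k E := isWeakFF_of_finite hK.1
  obtain ⟨PE, eE, heE⟩ := exists_isOverWith (K := E) (K' := K') hWE Q
  have hcard1 : Nat.card (Q.O.inertiaSubgroup K) = e := Inr.card_inertia hK he
  have hcard2 : Nat.card (Q.O.inertiaSubgroup E) = eE := card_inertia_weak hWE heE
  have hIG : Nat.card (IG (K := K) Q.O) = e := by
    rw [← hcard1]
    exact Nat.card_congr ((Q.O.inertiaSubgroup K).equivMapOfInjective _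
      (Subgroup.subtype_injective _)).symm.toEquiv
  have hinf : Nat.card ↥(IG (K := K) Q.O ⊓ E.fixingSubgroup) = eE := by
    rw [← hcard2, card_inertia_eq]
  rw [range_comap_eq he, range_comap_eq heE,
    range_pow_eq_iff (isOverWith_pos heE) (isOverWith_pos he), IntermediateField.le_iff_le]
  constructor
  · intro h
    have : IG (K := K) Q.O ⊓ E.fixingSubgroup = IG (K := K) Q.O :=
      Subgroup.eq_of_le_of_card_ge inf_le_left (by rw [hinf, hIG, h])
    exact inf_eq_left.1 this
  · intro h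
    rw [← hinf, ← hIG, inf_eq_left.2 h]

theorem main12521 [FiniteDimensional K K'] [IsGalois K K'] (hK : IsFunctionField k K)
    (Q : Place k K') [Algebra.IsSeparable k (IsLocalRing.ResidueField Q.O)] :
    let K₁ : IntermediateField K K' := IntermediateField.fixedField
        (((Q.O).inertiaSubgroup K).map ((Q.O).decompositionSubgroup K).subtype)
    ∃ Q₁ : Place k K₁, IsOverWith Q Q₁ (Module.finrank K₁ K') := by
  classical
  intro K₁
  haveI : IsScalarTower k K₁ K' := IsScalarTower.of_algebraMap_eq (fun c => rfl)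
  have hW₁ : IsWeakFF k K₁ := isWeakFF_of_finite hK.1
  obtain ⟨Q₁, e₁, he₁⟩ := exists_isOverWith (K := K₁) (K' := K') hW₁ Q
  have hcard : Nat.card (Q.O.inertiaSubgroup K₁) = e₁ := card_inertia_weak hW₁ he₁
  rw [card_inertia_eq (K := K) Q.O K₁] at hcard
  have hfix : K₁.fixingSubgroup = IG (K := K) Q.O :=
    IntermediateField.fixingSubgroup_fixedField _
  rw [hfix, inf_idem] at hcard
  have hfr : Module.finrank K₁ K' = Nat.card (IG (K := K) Q.O) :=
    IntermediateField.finrank_fixedField_eq_card _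
  rw [hfr, hcard]
  exact ⟨Q₁, he₁⟩

end Groth.Agent.Helper27.Cst
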