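import Mathlib

/-! Cartier (S18110), part A: unramified + radicial + finite type ⇒ surjective. -/

set_option autoImplicit false

namespace Groth.Agent.Helper27.Ct

open TensorProduct

theorem sub_pow_p {R : Type*} [CommRing R] (p : ℕ) [hp : Fact p.Prime] (h : (p : R) = 0)
    (x y : R) : (x - y) ^ p = x ^ p - y ^ p := by
  rcases subsingleton_or_nontrivial R with hs | hn
  · exact Subsingleton.elim _ _
  · haveI : CharP R p := (CharP.charP_iff_prime_eq_zero hp.out).2 h
    exact sub_pow_char x y

theorem add_pow_p {R : Type*} [CommRing R] (p : ℕ) [hp : Fact p.Prime] (h : (p : R) = 0)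
    (x y : R) : (x + y) ^ p = x ^ p + y ^ p := by
  rcases subsingleton_or_nontrivial R with hs | hn
  · exact Subsingleton.elim _ _
  · haveI : CharP R p := (CharP.charP_iff_prime_eq_zero hp.out).2 h
    exact add_pow_char x y p

/-- A finitely generated idempotent ideal contained in the nilradical is zero. -/
theorem ideal_eq_bot_of_idem {R : Type*} [CommRing R] (I : Ideal R) (hfg : I.FG)
    (hidem : IsIdempotentElem I) (hnil : I ≤ nilradical R) : I = ⊥ := by
  refine Submodule.eq_bot_of_le_smul_of_le_jacobson_bot I I hfg ?_ ?_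
  · rw [smul_eq_mul, hidem.eq]
  · refine hnil.trans ?_
    rw [nilradical]
    exact Ideal.radical_le_jacobson

/-- A formally unramified algebra of finite type in which every `p`-th power comes from the base
(and `p = 0`) is a quotient of the base. -/
theorem surjective_of_unramified {R S : Type*} [CommRing R] [CommRing S] [Algebra R S]
    [Algebra.FormallyUnramified R S] [Algebra.FiniteType R S] (p : ℕ) [hp : Fact p.Prime]
    (hpS : (p : S) = 0) (hpow : ∀ s : S, ∃ r : R, algebraMap R S r = s ^ p) :
    Function.Surjective (algebraMap R S) := by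
  -- finiteness
  have hint : Algebra.IsIntegral R S := by
    refine ⟨fun s => ?_⟩
    obtain ⟨r, hr⟩ := hpow s
    refine ⟨Polynomial.X ^ p - Polynomial.C r, ?_, ?_⟩
    · exact Polynomial.monic_X_pow_sub_C r hp.out.ne_zero
    · simp [hr]
  have hfin : Module.Finite R S := Algebra.IsIntegral.finite
  rw [← Algebra.isEpi_iff_surjective_algebraMap_of_finite, Algebra.isEpi_iff_forall_one_tmul_eq]
  -- the diagonal ideal vanishes
  have hpSS : (p : S ⊗[R] S) = 0 := by
    have : (p : S ⊗[R] S) = algebraMap S (S ⊗[R] S) (p : S) := by simp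
    rw [this, hpS, map_zero]
  have hgen : ∀ s : S, ((1 : S) ⊗ₜ[R] s - s ⊗ₜ[R] (1 : S)) ^ p = 0 := by
    intro s
    obtain ⟨r, hr⟩ := hpow s
    rw [sub_pow_p p hpSS, Algebra.TensorProduct.tmul_pow, Algebra.TensorProduct.tmul_pow, one_pow,
      ← hr, Algebra.algebraMap_eq_smul_one, TensorProduct.tmul_smul, TensorProduct.smul_tmul',
      sub_self]
  have hI : KaehlerDifferential.ideal R S = ⊥ := by
    refine ideal_eq_bot_of_idem _ (KaehlerDifferential.ideal_fg R S) ?_ ?_
    · have : Subsingleton (KaehlerDifferential.ideal R S).Cotangent :=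
        inferInstanceAs (Subsingleton (Ω[S⁄R]))
      exact (Ideal.cotangent_subsingleton_iff _).1 this
    · rw [← KaehlerDifferential.span_range_eq_ideal, Ideal.span_le]
      rintro _ ⟨s, rfl⟩
      exact ⟨p, hgen s⟩
  intro s
  have := KaehlerDifferential.one_smul_sub_smul_one_mem_ideal R s
  rw [hI, Ideal.mem_bot, sub_eq_zero] at this
  exact this

end Groth.Agent.Helper27.Ct
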