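import Mathlib
import Groth.Agent.Lib.Helper27.CtA

/-! Cartier (S18110), part B: the relative Frobenius of an étale algebra is bijective. -/

set_option autoImplicit false

namespace Groth.Agent.Helper27.Ct

open TensorProduct

/-- `E` as an `E`-algebra through its Frobenius. -/
@[nolint unusedArguments]
def EF (E : Type*) (_p : ℕ) : Type _ := E

/-- `B` as an algebra over `EF E p` (original structure) and over `E` (through Frobenius). -/
@[nolint unusedArguments]
def BF (_E : Type*) (B : Type*) (_p : ℕ) : Type _ := B

section

variable (E : Type*) (B : Type*) [CommRing E] [CommRing B] [Algebra E B]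
  (p : ℕ) [hp : Fact p.Prime] [CharP E p] [CharP B p]

instance : CommRing (EF E p) := inferInstanceAs (CommRing E)
instance : CharP (EF E p) p := inferInstanceAs (CharP E p)
instance : Algebra E (EF E p) := (frobenius E p).toAlgebra

instance : CommRing (BF E B p) := inferInstanceAs (CommRing B)
instance : CharP (BF E B p) p := inferInstanceAs (CharP B p)
instance : Algebra (EF E p) (BF E B p) := inferInstanceAs (Algebra E B)
instance : Algebra E (BF E B p) := ((algebraMap E B).comp (frobenius E p)).toAlgebra
instance : IsScalarTower E (EF E p) (BF E B p) := IsScalarTower.of_algebraMap_eq fun _ => rfl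

instance [Algebra.Etale E B] : Algebra.Etale (EF E p) (BF E B p) :=
  inferInstanceAs (Algebra.Etale E B)

/-- identity `E → EF`. -/
def toEF : E ≃+* EF E p := RingEquiv.refl E

theorem algebraMap_EF (x : E) : algebraMap E (EF E p) x = toEF E p (x ^ p) := rfl

theorem algebraMap_EF_BF (e : EF E p) :
    algebraMap (EF E p) (BF E B p) e = algebraMap E B ((toEF E p).symm e) := rfl

/-- identity `B → BF`. -/
def toBF : B ≃+* BF E B p := RingEquiv.refl B

/-- Frobenius of `B` as an `E`-algebra map into the twisted copy. -/
noncomputable def frobAlg : B →ₐ[E] BF E B p where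
  toRingHom := (toBF E B p : B →+* BF E B p).comp (frobenius B p)
  commutes' e := by
    change (algebraMap E B e) ^ p = algebraMap E B (e ^ p)
    rw [map_pow]

theorem frobAlg_apply (b : B) : frobAlg E B p b = toBF E B p (b ^ p) := rfl

/-- The relative Frobenius `E^{Fr} ⊗_E B → B`, `e ⊗ b ↦ e b^p`. -/
noncomputable def relFrob : EF E p ⊗[E] B →ₐ[EF E p] BF E B p :=
  Algebra.TensorProduct.lift (Algebra.ofId (EF E p) (BF E B p)) (frobAlg E B p)
    (fun _ _ => Commute.all _ _)

theorem relFrob_tmul (e : EF E p) (b : B) :
    relFrob E B p (e ⊗ₜ b) = algebraMap (EF E p) (BF E B p) e * toBF E B p (b ^ p) := by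
  rw [relFrob, Algebra.TensorProduct.lift_tmul, Algebra.ofId_apply, frobAlg_apply]

theorem p_eq_zero_W : ((p : ℕ) : EF E p ⊗[E] B) = 0 := by
  rw [← map_natCast (algebraMap (EF E p) (EF E p ⊗[E] B)) p, CharP.cast_eq_zero, map_zero]

/-- `w ^ p = 1 ⊗ F(w)`. -/
theorem pow_eq_one_tmul (w : EF E p ⊗[E] B) :
    w ^ p = (1 : EF E p) ⊗ₜ[E] ((toBF E B p).symm (relFrob E B p w)) := by
  induction w using TensorProduct.induction_on with
  | zero => simp [hp.out.ne_zero]
  | tmul e b =>
    rw [Algebra.TensorProduct.tmul_pow, relFrob_tmul]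
    have h1 : (e ^ p : EF E p) = ((toEF E p).symm e) • (1 : EF E p) := by
      rw [Algebra.smul_def, mul_one, algebraMap_EF, map_pow, RingEquiv.apply_symm_apply]
    rw [h1, TensorProduct.smul_tmul]
    congr 1
    rw [Algebra.smul_def, map_mul, RingEquiv.symm_apply_apply, algebraMap_EF_BF]
    rfl
  | add x y hx hy =>
    rw [add_pow_p p (p_eq_zero_W E B p), hx, hy, map_add, map_add]
    exact (TensorProduct.tmul_add _ _ _).symm

variable [Algebra.Etale E B]

theorem relFrob_bijective : Function.Bijective (relFrob E B p) := by
  letI : Algebra (EF E p ⊗[E] B) (BF E B p) := (relFrob E B p).toRingHom.toAlgebra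
  haveI : IsScalarTower (EF E p) (EF E p ⊗[E] B) (BF E B p) :=
    IsScalarTower.of_algebraMap_eq fun x => ((relFrob E B p).commutes x).symm
  haveI : Algebra.FormallyEtale (EF E p ⊗[E] B) (BF E B p) :=
    Algebra.FormallyEtale.of_restrictScalars (R := EF E p)
  haveI : Algebra.FiniteType (EF E p ⊗[E] B) (BF E B p) :=
    Algebra.FiniteType.of_restrictScalars_finiteType (EF E p) _ _
  have hsurj : Function.Surjective (algebraMap (EF E p ⊗[E] B) (BF E B p)) := by
    refine surjective_of_unramified p (CharP.cast_eq_zero _ p) fun s =>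
      ⟨1 ⊗ₜ ((toBF E B p).symm s), ?_⟩
    change relFrob E B p (1 ⊗ₜ _) = _
    rw [relFrob_tmul, map_one, one_mul]
    rfl
  refine ⟨?_, hsurj⟩
  have hidem : IsIdempotentElem (RingHom.ker (algebraMap (EF E p ⊗[E] B) (BF E B p))) :=
    (Algebra.FormallySmooth.iff_of_surjective hsurj).1 inferInstance
  have hfg : (RingHom.ker (algebraMap (EF E p ⊗[E] B) (BF E B p))).FG :=
    Algebra.FinitePresentation.ker_fG_of_surjective (relFrob E B p) hsurj
  have hnil : RingHom.ker (algebraMap (EF E p ⊗[E] B) (BF E B p)) ≤ nilradical _ := by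
    intro w hw
    refine ⟨p, ?_⟩
    rw [pow_eq_one_tmul]
    have : relFrob E B p w = 0 := hw
    rw [this, map_zero]
    exact TensorProduct.tmul_zero _ _
  have hbot := ideal_eq_bot_of_idem _ hfg hidem hnil
  exact (RingHom.injective_iff_ker_eq_bot _).2 hbot

/-- Étale over a reduced ring of characteristic `p`: Frobenius is injective. -/
theorem frobenius_injective_of_etale [IsReduced E] : Function.Injective (frobenius B p) := by
  have h1 : Function.Injective
      (Algebra.TensorProduct.includeRight : B →ₐ[E] EF E p ⊗[E] B) :=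
    Algebra.TensorProduct.includeRight_injective (frobenius_inj E p)
  have h2 := (relFrob_bijective E B p).1
  intro x y hxy
  apply h1
  apply h2
  rw [Algebra.TensorProduct.includeRight_apply, Algebra.TensorProduct.includeRight_apply,
    relFrob_tmul, relFrob_tmul, map_one, one_mul, one_mul]
  exact congrArg (toBF E B p) hxy

/-- Generation: every element is a sum of `e * b ^ p`. -/
theorem mem_closure_of_etale (b : B) :
    b ∈ Subring.closure (Set.range (algebraMap E B) ∪ Set.range (fun x : B => x ^ p)) := by
  obtain ⟨w, hw⟩ := (relFrob_bijective E B p).2 (toBF E B p b)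
  have key : ∀ w : EF E p ⊗[E] B, (toBF E B p).symm (relFrob E B p w) ∈
      Subring.closure (Set.range (algebraMap E B) ∪ Set.range (fun x : B => x ^ p)) := by
    intro w
    induction w using TensorProduct.induction_on with
    | zero => rw [map_zero, map_zero]; exact Subring.zero_mem _
    | tmul e b' =>
      rw [relFrob_tmul, map_mul]
      refine Subring.mul_mem _ (Subring.subset_closure (Or.inl ⟨e, rfl⟩))
        (Subring.subset_closure (Or.inr ⟨b', rfl⟩))
    | add x y hx hy =>
      rw [map_add, map_add]
      exact Subring.add_mem _ hx hy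
  have := key w
  rw [hw] at this
  exact this

end

/-- Étale over a reduced ring of characteristic `p` is reduced. -/
theorem isReduced_of_etale (E : Type*) (B : Type*) [CommRing E] [CommRing B] [Algebra E B]
    (p : ℕ) [hp : Fact p.Prime] [CharP E p] [CharP B p] [Algebra.Etale E B] [IsReduced E] :
    IsReduced B := by
  refine ⟨fun x ⟨n, hn⟩ => ?_⟩
  have hinj := frobenius_injective_of_etale E B p
  have hpow : ∀ k : ℕ, x ^ p ^ k = 0 → x = 0 := by
    intro k
    induction k with
    | zero => simp
    | succ k ih =>
      intro h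
      apply ih
      apply hinj
      rw [map_zero, frobenius_def, ← pow_mul, ← pow_succ]
      exact h
  apply hpow n
  exact pow_eq_zero_of_le (Nat.lt_pow_self hp.out.one_lt).le hn

end Groth.Agent.Helper27.Ct
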