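import Mathlib

/-! S18154, part A: iterated Leibniz, `D^p` in characteristic `p`. -/

set_option autoImplicit false

namespace Groth.Agent.Helper27.Dt

open Finset Nat

variable {k : Type*} {A : Type*} [CommRing k] [CommRing A] [Algebra k A]

/-- The general Leibniz rule. -/
theorem iterate_leibniz (D : Derivation k A A) (n : ℕ) (a b : A) :
    D^[n] (a * b) = ∑ ij ∈ antidiagonal n, choose n ij.1 • (D^[ij.1] a * D^[ij.2] b) := by
  induction n with
  | zero => simp
  | succ n ih =>
    rw [sum_antidiagonal_choose_succ_nsmul (M := A) (fun i j => D^[i] a * D^[j] b) n]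
    simp only [Function.iterate_succ_apply', ih, map_sum, map_nsmul, Derivation.leibniz, smul_add,
      sum_add_distrib, smul_eq_mul]
    congr 1
    refine sum_congr rfl fun ⟨i, j⟩ hij ↦ ?_
    rw [n.choose_symm_of_eq_add (mem_antidiagonal.1 hij).symm]
    simp [mul_comm]

theorem iterate_leibniz_prime (p : ℕ) [hp : Fact p.Prime] [CharP A p] (D : Derivation k A A)
    (a b : A) : D^[p] (a * b) = a * D^[p] b + b * D^[p] a := by
  rw [iterate_leibniz, Finset.Nat.sum_antidiagonal_eq_sum_range_succ
    (fun i j => choose p i • (D^[i] a * D^[j] b))]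
  obtain ⟨q, hq⟩ := Nat.exists_eq_succ_of_ne_zero hp.out.ne_zero
  have hz : ∑ i ∈ range q, choose p (i + 1) • (D^[i + 1] a * D^[p - (i + 1)] b) = 0 := by
    refine Finset.sum_eq_zero fun i hi => ?_
    rw [mem_range] at hi
    have hdvd : p ∣ choose p (i + 1) :=
      hp.out.dvd_choose_self (by omega) (by omega)
    obtain ⟨c, hc⟩ := hdvd
    rw [hc, mul_smul, nsmul_eq_mul (n := p), CharP.cast_eq_zero, zero_mul]
  rw [Finset.sum_range_succ]
  conv_lhs => rw [hq]
  rw [Finset.sum_range_succ', ← hq, hz]
  simp [mul_comm]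

end Groth.Agent.Helper27.Dt
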