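import Mathlib
import Groth.Agent.Lib.Helper27.DtA

/-! S18154, part B: coordinate derivations attached to a basis `dt_i` of `Ω`. -/

set_option autoImplicit false

namespace Groth.Agent.Helper27.Dt

open Finset

variable {k : Type*} {A : Type*} [CommRing k] [CommRing A] [Algebra k A]
variable {ι : Type*} [Fintype ι] [DecidableEq ι]

/-- The coordinate derivation `∂/∂t_j`. -/
noncomputable def pd (b : Module.Basis ι A (Ω[A⁄k])) (j : ι) : Derivation k A A :=
  (b.coord j).compDer (KaehlerDifferential.D k A)

theorem pd_apply (b : Module.Basis ι A (Ω[A⁄k])) (j : ι) (a : A) :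
    pd b j a = b.coord j (KaehlerDifferential.D k A a) := rfl

variable (b : Module.Basis ι A (Ω[A⁄k])) (t : ι → A)
  (hb : ∀ i, b i = KaehlerDifferential.D k A (t i))

include hb

theorem pd_t (j i : ι) : pd b j (t i) = if i = j then 1 else 0 := by
  rw [pd_apply, ← hb, Module.Basis.coord_apply, Module.Basis.repr_self, Finsupp.single_apply]

theorem der_eq_zero (d : Derivation k A A) (hd : ∀ l, d (t l) = 0) : d = 0 := by
  have h0 : d.liftKaehlerDifferential = 0 := by
    refine b.ext fun l => ?_
    rw [hb, Derivation.liftKaehlerDifferential_comp_D, hd, LinearMap.zero_apply]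
  ext a
  rw [← Derivation.liftKaehlerDifferential_comp_D d a, h0]
  simp

theorem pd_comm (i j : ι) (a : A) : pd b i (pd b j a) = pd b j (pd b i a) := by
  have h : ⁅pd b i, pd b j⁆ = 0 := by
    refine der_eq_zero b t hb _ fun l => ?_
    rw [Derivation.commutator_apply, pd_t b t hb, pd_t b t hb]
    split_ifs <;> simp
  have := congrArg (fun d : Derivation k A A => d a) h
  simpa [Derivation.commutator_apply, sub_eq_zero] using this

theorem pd_iterate_p (p : ℕ) [hp : Fact p.Prime] [CharP A p] (j : ι) (a : A) :
    (pd b j)^[p] a = 0 := by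
  let d : Derivation k A A := Derivation.mk' (((pd b j : Derivation k A A) : A →ₗ[k] A) ^ p)
    (fun x y => by
      simp only [Module.End.pow_apply, Derivation.coeFn_coe, smul_eq_mul]
      exact iterate_leibniz_prime p (pd b j) x y)
  have hd : d = 0 := by
    refine der_eq_zero b t hb _ fun l => ?_
    change (((pd b j : Derivation k A A) : A →ₗ[k] A) ^ p) (t l) = 0
    rw [Module.End.pow_apply, Derivation.coeFn_coe]
    obtain ⟨q, hq⟩ := Nat.exists_eq_succ_of_ne_zero hp.out.ne_zero
    obtain ⟨r, hr⟩ := Nat.exists_eq_succ_of_ne_zero (show q ≠ 0 by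
      rintro rfl; exact hp.out.one_lt.ne' hq)
    rw [hq, Function.iterate_succ_apply, pd_t b t hb, hr, Function.iterate_succ_apply]
    split_ifs <;> simp [Function.iterate_fixed]
  have := congrArg (fun d : Derivation k A A => d a) hd
  simpa [d, Module.End.pow_apply] using this

end Groth.Agent.Helper27.Dt
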