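import Mathlib
import Groth.Agent.Lib.Helper27.DtB

/-! S18154, part C: the functional `Λ = ∏_j ∂_j^{p-1}`. -/

set_option autoImplicit false

namespace Groth.Agent.Helper27.Dt

open Finset Nat

/-- Abstract coordinate derivations. -/
structure Coords (k : Type*) (A : Type*) [CommRing k] [CommRing A] [Algebra k A] (ι : Type*)
    [DecidableEq ι] (p : ℕ) where
  pd : ι → Derivation k A A
  t : ι → A
  comm : ∀ i j a, pd i (pd j a) = pd j (pd i a)
  pow : ∀ j a, (pd j)^[p] a = 0
  pd_t : ∀ j i, pd j (t i) = if i = j then 1 else 0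

variable {k : Type*} {A : Type*} [CommRing k] [CommRing A] [Algebra k A]
variable {ι : Type*} [DecidableEq ι] {p : ℕ}

theorem pow_mul_pow (d : Derivation k A A) (t u : A) (hd : d t = 1) (hu : d u = 0) (m : ℕ) :
    (((d : Derivation k A A) : A →ₗ[k] A) ^ m) (u * t ^ m) = m ! • u := by
  induction m with
  | zero => simp
  | succ m ih =>
    rw [pow_succ, Module.End.mul_apply]
    have h1 : ((d : Derivation k A A) : A →ₗ[k] A) (u * t ^ (m + 1)) = (m + 1) • (u * t ^ m) := by
      rw [Derivation.coeFn_coe, Derivation.leibniz, Derivation.leibniz_pow, hd, hu]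
      simp [mul_comm, mul_assoc]
    rw [h1, map_nsmul, ih, Nat.factorial_succ, mul_smul]

namespace Coords

variable (C : Coords k A ι p)

/-- `∂_j^{p-1}`. -/
noncomputable def E (j : ι) : Module.End k A := ((C.pd j : Derivation k A A) : A →ₗ[k] A) ^ (p - 1)

theorem E_comm (i j : ι) : Commute (C.E i) (C.E j) := by
  apply Commute.pow_pow
  exact LinearMap.ext fun a => C.comm i j a

/-- `Λ_S = ∏_{j ∈ S} ∂_j^{p-1}`. -/
noncomputable def Lam (S : Finset ι) : Module.End k A :=
  S.noncommProd C.E (fun i _ j _ _ => C.E_comm i j)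

theorem Lam_pd [hp : Fact p.Prime] {S : Finset ι} {j : ι} (hj : j ∈ S) (a : A) :
    C.Lam S (C.pd j a) = 0 := by
  rw [Lam, ← Finset.noncommProd_erase_mul S hj, Module.End.mul_apply]
  have : C.E j (C.pd j a) = 0 := by
    rw [E, Module.End.pow_apply, Derivation.coeFn_coe, ← Function.iterate_succ_apply,
      Nat.succ_eq_add_one, Nat.sub_add_cancel hp.out.one_le, C.pow]
  rw [this, map_zero]

theorem pd_mul_pow_of_ne {j a : ι} (hja : a ≠ j) (u : A) (hu : C.pd j u = 0) (m : ℕ) :
    C.pd j (u * C.t a ^ m) = 0 := by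
  rw [Derivation.leibniz, Derivation.leibniz_pow, C.pd_t, if_neg hja, hu]
  simp

theorem Lam_mul_prod (S : Finset ι) (u : A) (hu : ∀ j ∈ S, C.pd j u = 0) :
    C.Lam S (u * ∏ i ∈ S, C.t i ^ (p - 1)) = ((p - 1)! ^ S.card) • u := by
  induction S using Finset.induction_on generalizing u with
  | empty => simp [Lam]
  | insert a S ha ih =>
    rw [Lam, Finset.noncommProd_insert_of_notMem _ _ _ _ ha, Module.End.mul_apply,
      Finset.prod_insert ha, ← mul_assoc]
    have h1 := ih (u * C.t a ^ (p - 1)) (fun j hj => by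
      refine C.pd_mul_pow_of_ne ?_ u (hu j (Finset.mem_insert_of_mem hj)) _
      rintro rfl; exact ha hj)
    rw [Lam] at h1
    rw [h1, map_nsmul, E, pow_mul_pow (C.pd a) (C.t a) u (by rw [C.pd_t, if_pos rfl])
      (hu a (Finset.mem_insert_self a S)), Finset.card_insert_of_notMem ha, pow_succ, mul_smul]

end Coords

end Groth.Agent.Helper27.Dt
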