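import Mathlib
import Groth.Agent.Lib.Helper27.CtB
import Groth.Agent.Lib.Helper27.DtC

/-! Cartier (S18110), part C: étale coordinates over a perfect ring. -/

set_option autoImplicit false

namespace Groth.Agent.Helper27.Ct

open TensorProduct MvPolynomial KaehlerDifferential

section

variable (A : Type*) [CommRing A] (ι : Type*)
  (B : Type*) [CommRing B] [Algebra A B] [Algebra (MvPolynomial ι A) B]
  [IsScalarTower A (MvPolynomial ι A) B]

/-- The coordinate functions. -/
noncomputable def tc (j : ι) : B := algebraMap (MvPolynomial ι A) B (X j)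

variable [Algebra.Etale (MvPolynomial ι A) B]

/-- The basis `d t_j` of `Ω[B⁄A]`. -/
noncomputable def etBasis : Module.Basis ι B (Ω[B⁄A]) :=
  ((mvPolynomialBasis A ι).baseChange B).map
    (tensorKaehlerEquivOfFormallyEtale A (MvPolynomial ι A) B)

theorem etBasis_apply (j : ι) : etBasis A ι B j = D A B (tc A ι B j) := by
  rw [etBasis, Module.Basis.map_apply, Module.Basis.baseChange_apply, mvPolynomialBasis_apply,
    tensorKaehlerEquivOfFormallyEtale_apply, mapBaseChange_tmul, one_smul, map_D]
  rfl

end

section

variable (A : Type*) [CommRing A] (p : ℕ) [hp : Fact p.Prime] [CharP A p] [PerfectRing A p]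
  (ι : Type*)
  (B : Type*) [CommRing B] [Algebra A B] [Algebra (MvPolynomial ι A) B]
  [IsScalarTower A (MvPolynomial ι A) B]

omit [IsScalarTower A (MvPolynomial ι A) B] [Algebra A B] in
theorem algebraMap_mem (e : MvPolynomial ι A) :
    algebraMap (MvPolynomial ι A) B e ∈
      Subring.closure (Set.range (fun x : B => x ^ p) ∪ Set.range (tc A ι B)) := by
  induction e using MvPolynomial.induction_on with
  | C a =>
    obtain ⟨a', rfl⟩ := surjective_frobenius A p a
    refine Subring.subset_closure (Or.inl ⟨algebraMap (MvPolynomial ι A) B (C a'), ?_⟩)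
    change _ ^ p = _
    rw [← map_pow, ← map_pow, frobenius_def]
  | add x y hx hy => rw [map_add]; exact Subring.add_mem _ hx hy
  | mul_X x j hx =>
    rw [map_mul]
    exact Subring.mul_mem _ hx (Subring.subset_closure (Or.inr ⟨j, rfl⟩))

variable [Algebra.Etale (MvPolynomial ι A) B] [CharP B p]

omit [IsScalarTower A (MvPolynomial ι A) B] [Algebra A B] in
/-- Generation by `p`-th powers and coordinates. -/
theorem mem_closure_coords (b : B) :
    b ∈ Subring.closure (Set.range (fun x : B => x ^ p) ∪ Set.range (tc A ι B)) := by
  haveI : CharP (MvPolynomial ι A) p := inferInstance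
  have h := mem_closure_of_etale (MvPolynomial ι A) B p b
  refine (Subring.closure_le.2 ?_) h
  rintro x (⟨e, rfl⟩ | ⟨y, rfl⟩)
  · exact algebraMap_mem A p ι B e
  · exact Subring.subset_closure (Or.inl ⟨y, rfl⟩)

end

theorem isReduced_of_frobenius_injective (R : Type*) [CommRing R] (p : ℕ) [hp : Fact p.Prime]
    [CharP R p] (hinj : Function.Injective (frobenius R p)) : IsReduced R := by
  refine ⟨fun x ⟨n, hn⟩ => ?_⟩
  have hpow : ∀ k : ℕ, x ^ p ^ k = 0 → x = 0 := by
    intro k
    induction k with
    | zero => simp
    | succ k ih =>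
      intro h
      apply ih
      apply hinj
      rw [map_zero, frobenius_def, ← pow_mul, ← pow_succ]
      exact h
  apply hpow n
  exact pow_eq_zero_of_le (Nat.lt_pow_self hp.out.one_lt).le hn

theorem frobenius_injective_coords (A : Type*) [CommRing A] (p : ℕ) [hp : Fact p.Prime]
    [CharP A p] [PerfectRing A p] (ι : Type*) (B : Type*) [CommRing B]
    [Algebra (MvPolynomial ι A) B] [Algebra.Etale (MvPolynomial ι A) B] [CharP B p] :
    Function.Injective (frobenius B p) := by
  haveI : IsReduced A := isReduced_of_frobenius_injective A p (injective_frobenius A p)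
  exact frobenius_injective_of_etale (MvPolynomial ι A) B p

end Groth.Agent.Helper27.Ct
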