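import Mathlib
import Groth.Agent.Lib.Helper27.DtC

/-! Cartier (S18110), part D: constants of coordinate derivations are `p`-th powers. -/

set_option autoImplicit false

namespace Groth.Agent.Helper27.Ct

open Finset Nat Groth.Agent.Helper27.Dt

variable {k : Type*} {B : Type*} [CommRing k] [CommRing B] [Algebra k B]
variable {p : ℕ} [hp : Fact p.Prime] [CharP B p]

include hp in
theorem exists_nat_inv (n : ℕ) (hn : ¬ p ∣ n) : ∃ m : ℕ, (m : B) * (n : B) = 1 := by
  have hcop : Nat.Coprime n p := ((Nat.Prime.coprime_iff_not_dvd hp.out).2 hn).symm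
  obtain ⟨m, -, hm⟩ := Nat.exists_mul_mod_eq_one_of_coprime hcop hp.out.one_lt
  refine ⟨m, ?_⟩
  rw [mul_comm, ← Nat.cast_mul, CharP.cast_eq_mod B p, hm, Nat.cast_one]

include hp in
theorem eq_zero_of_nsmul (n : ℕ) (hn : ¬ p ∣ n) (x : B) (h : n • x = 0) : x = 0 := by
  obtain ⟨m, hm⟩ := exists_nat_inv (B := B) n hn
  have : (m : B) * ((n : B) * x) = 0 := by rw [← nsmul_eq_mul n x, h, mul_zero]
  rwa [← mul_assoc, hm, one_mul] at this

include hp in
theorem factorial_not_dvd (n : ℕ) (hn : n < p) : ¬ p ∣ n ! := by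
  rw [hp.out.dvd_factorial]; omega

omit [CharP B p] hp in
theorem pow_end_const (d : Derivation k B B) (u : B) (hu : d u = 0) (n : ℕ) :
    (((d : Derivation k B B) : B →ₗ[k] B) ^ (n + 1)) u = 0 := by
  rw [pow_succ, Module.End.mul_apply, Derivation.coeFn_coe, hu, map_zero]

omit [CharP B p] hp in
theorem pow_end_mul_pow_lt (d : Derivation k B B) (t u : B) (hd : d t = 1) (hu : d u = 0)
    (i q : ℕ) (hiq : i < q) :
    (((d : Derivation k B B) : B →ₗ[k] B) ^ q) (u * t ^ i) = 0 := by
  obtain ⟨r, rfl⟩ : ∃ r, q = (r + 1) + i := ⟨q - i - 1, by omega⟩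
  rw [pow_add, Module.End.mul_apply, pow_mul_pow d t u hd hu, map_nsmul, pow_end_const d u hu,
    smul_zero]

/-- Powers of `t` are independent over the constants of `d`. -/
theorem sv (d : Derivation k B B) (t : B) (hd : d t = 1) (c : ℕ → B) (hc : ∀ i, d (c i) = 0)
    (q : ℕ) (hq : q ≤ p) (h : ∑ i ∈ range q, c i * t ^ i = 0) : ∀ i < q, c i = 0 := by
  induction q with
  | zero => intro i hi; omega
  | succ q ih =>
    rw [Finset.sum_range_succ] at h
    have h2 := congrArg (((d : Derivation k B B) : B →ₗ[k] B) ^ q) h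
    rw [map_add, map_sum, map_zero, Finset.sum_eq_zero (fun i hi => by
      rw [Finset.mem_range] at hi
      exact pow_end_mul_pow_lt d t (c i) hd (hc i) i q hi), zero_add,
      pow_mul_pow d t (c q) hd (hc q)] at h2
    have hcq : c q = 0 := eq_zero_of_nsmul (q !) (factorial_not_dvd q (by omega)) _ h2
    rw [hcq, zero_mul, add_zero] at h
    intro i hi
    rcases Nat.lt_succ_iff_lt_or_eq.1 hi with hi' | rfl
    · exact ih (by omega) h i hi'
    · exact hcq

variable {ι : Type*} [DecidableEq ι] (C : Coords k B ι p)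

/-- The subring generated by `p`-th powers and the coordinates in `S`. -/
def Rs (S : Finset ι) : Subring B :=
  Subring.closure (Set.range (fun x : B => x ^ p) ∪ C.t '' (S : Set ι))

theorem pd_pow_p (j : ι) (g : B) : C.pd j (g ^ p) = 0 := by
  rw [Derivation.leibniz_pow, nsmul_eq_mul, CharP.cast_eq_zero, zero_mul]

theorem pd_Rs {S : Finset ι} {m : ι} (hm : m ∉ S) {x : B} (hx : x ∈ Rs C S) : C.pd m x = 0 := by
  induction hx using Subring.closure_induction with
  | mem x hx =>
    rcases hx with ⟨g, rfl⟩ | ⟨j, hj, rfl⟩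
    · exact pd_pow_p C m g
    · rw [C.pd_t, if_neg]
      rintro rfl
      exact hm hj
  | zero => simp
  | one => simp
  | add x y _ _ hx hy => rw [map_add, hx, hy, add_zero]
  | neg x _ hx => rw [map_neg, hx, neg_zero]
  | mul x y _ _ hx hy => rw [Derivation.leibniz, hx, hy, smul_zero, smul_zero, add_zero]

theorem Rs_mono {S T : Finset ι} (h : S ⊆ T) : Rs C S ≤ Rs C T := by
  apply Subring.closure_mono
  apply Set.union_subset_union_right
  exact Set.image_mono (by exact_mod_cast h)

/-- Elements of `R_{insert m S}` are polynomials of degree `< p` in `t_m` over `R_S`. -/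
theorem Rs_insert {S : Finset ι} (m : ι) {x : B} (hx : x ∈ Rs C (insert m S)) :
    ∃ c : ℕ → B, (∀ i, c i ∈ Rs C S) ∧ x = ∑ i ∈ range p, c i * C.t m ^ i := by
  haveI : Nontrivial B := CharP.nontrivial_of_char_ne_one (R := B) hp.out.ne_one
  let R := Rs C S
  let ev : Polynomial R →+* B := Polynomial.eval₂RingHom R.subtype (C.t m)
  have hle : Rs C (insert m S) ≤ ev.range := by
    apply Subring.closure_le.2
    rintro y (⟨g, rfl⟩ | ⟨j, hj, rfl⟩)
    · refine ⟨Polynomial.C ⟨g ^ p, Subring.subset_closure (Or.inl ⟨g, rfl⟩)⟩, ?_⟩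
      simp [ev]
    · rw [Finset.coe_insert, Set.mem_insert_iff] at hj
      rcases hj with rfl | hj
      · exact ⟨Polynomial.X, by simp [ev]⟩
      · refine ⟨Polynomial.C ⟨C.t j, Subring.subset_closure (Or.inr ⟨j, hj, rfl⟩)⟩, ?_⟩
        simp [ev]
  obtain ⟨q, rfl⟩ := hle hx
  let τ : R := ⟨C.t m ^ p, Subring.subset_closure (Or.inl ⟨C.t m, rfl⟩)⟩
  let g : Polynomial R := Polynomial.X ^ p - Polynomial.C τ
  have hg : g.Monic := Polynomial.monic_X_pow_sub_C τ hp.out.ne_zero
  have hgdeg : g.natDegree = p := Polynomial.natDegree_X_pow_sub_C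
  have hg1 : g ≠ 1 := by
    intro h
    have := hgdeg
    rw [h, Polynomial.natDegree_one] at this
    exact hp.out.ne_zero this.symm
  have hevg : ev g = 0 := by
    simp [ev, g, τ]
  have hq : ev q = ev (q %ₘ g) := by
    conv_lhs => rw [← Polynomial.modByMonic_add_div q g]
    rw [map_add, map_mul, hevg, zero_mul, add_zero]
  have hdeg : (q %ₘ g).natDegree < p := hgdeg ▸ Polynomial.natDegree_modByMonic_lt q hg hg1
  refine ⟨fun i => ((q %ₘ g).coeff i : B), fun i => (Subtype.property _), ?_⟩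
  rw [hq]
  exact Polynomial.eval₂_eq_sum_range' R.subtype hdeg (C.t m)

theorem Rs_step {S : Finset ι} {m : ι} (hm : m ∉ S) {x : B} (hx : x ∈ Rs C (insert m S))
    (hd : C.pd m x = 0) : x ∈ Rs C S := by
  obtain ⟨c, hc, rfl⟩ := Rs_insert C m hx
  have hcd : ∀ i, C.pd m (c i) = 0 := fun i => pd_Rs C hm (hc i)
  have htm : C.pd m (C.t m) = 1 := by rw [C.pd_t, if_pos rfl]
  obtain ⟨r, hr⟩ : ∃ r, p = r + 1 := ⟨p - 1, by have := hp.out.pos; omega⟩
  -- derivative
  have hder : C.pd m (∑ i ∈ range p, c i * C.t m ^ i) =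
      ∑ i ∈ range r, ((i + 1) • c (i + 1)) * C.t m ^ i := by
    rw [map_sum]
    have key : ∀ n : ℕ, n = r + 1 → ∑ i ∈ range n, C.pd m (c i * C.t m ^ i) =
        ∑ i ∈ range r, C.pd m (c (i + 1) * C.t m ^ (i + 1)) := by
      rintro n rfl
      rw [Finset.sum_range_succ']
      have h0 : C.pd m (c 0 * C.t m ^ 0) = 0 := by simp [hcd 0]
      rw [h0, add_zero]
    rw [key p hr]
    refine Finset.sum_congr rfl fun i _ => ?_
    rw [Derivation.leibniz, Derivation.leibniz_pow, hcd, htm, smul_zero, add_zero,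
      Nat.add_sub_cancel]
    simp only [smul_eq_mul, nsmul_eq_mul, mul_one]
    ring
  rw [hder] at hd
  have hz := sv (C.pd m) (C.t m) htm (fun i => (i + 1) • c (i + 1))
    (fun i => by rw [map_nsmul, hcd, smul_zero]) r (by omega) hd
  have hci : ∀ i, 1 ≤ i → i < p → c i = 0 := by
    intro i h1 h2
    obtain ⟨i', rfl⟩ : ∃ i', i = i' + 1 := ⟨i - 1, by omega⟩
    have := hz i' (by omega)
    exact eq_zero_of_nsmul (i' + 1) (fun hdvd => by
      have := Nat.le_of_dvd (by omega) hdvd; omega) _ this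
  have key : ∀ n : ℕ, n = r + 1 → ∑ i ∈ range n, c i * C.t m ^ i = c 0 := by
    rintro n rfl
    rw [Finset.sum_range_succ', Finset.sum_eq_zero (fun i hi => by
      rw [Finset.mem_range] at hi
      rw [hci (i + 1) (by omega) (by omega), zero_mul]), zero_add, pow_zero, mul_one]
  rw [key p hr]
  exact hc 0

theorem Rs_empty {x : B} (hx : x ∈ Rs C ∅) : ∃ g, x = g ^ p := by
  have : Rs C ∅ ≤ (frobenius B p).range := by
    apply Subring.closure_le.2
    rintro y (⟨g, rfl⟩ | ⟨j, hj, rfl⟩)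
    · exact ⟨g, rfl⟩
    · simp at hj
  obtain ⟨g, rfl⟩ := this hx
  exact ⟨g, rfl⟩

theorem Rs_const (S : Finset ι) {x : B} (hx : x ∈ Rs C S) (hd : ∀ j, C.pd j x = 0) :
    ∃ g, x = g ^ p := by
  induction S using Finset.induction_on with
  | empty => exact Rs_empty C hx
  | insert m S hm ih => exact ih (Rs_step C hm hx (hd m))

/-- If `B` is generated by `p`-th powers and the coordinates, constants are `p`-th powers. -/
theorem const_eq_pow [Fintype ι]
    (hgen : ∀ b : B, b ∈ Subring.closure (Set.range (fun x : B => x ^ p) ∪ Set.range C.t))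
    (x : B) (hd : ∀ j, C.pd j x = 0) : ∃ g, x = g ^ p := by
  refine Rs_const C Finset.univ ?_ hd
  have := hgen x
  rwa [Rs, Finset.coe_univ, Set.image_univ]

end Groth.Agent.Helper27.Ct
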