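import Mathlib
import Groth.Agent.Lib.Helper27.CtD

/-! Cartier (S18110), part E: integration in one variable. -/

set_option autoImplicit false

namespace Groth.Agent.Helper27.Ct

open Finset Nat Groth.Agent.Helper27.Dt

variable {k : Type*} {B : Type*} [CommRing k] [CommRing B] [Algebra k B]
variable {p : ℕ} [hp : Fact p.Prime] [CharP B p]
variable {ι : Type*} [DecidableEq ι] (C : Coords k B ι p)

/-- `∂_m` as an endomorphism. -/
noncomputable abbrev dl (m : ι) : Module.End k B := ((C.pd m : Derivation k B B) : B →ₗ[k] B)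

omit hp [CharP B p] in
theorem pd_dl_pow (j m : ι) (n : ℕ) (a : B) :
    C.pd j ((dl C m ^ n) a) = (dl C m ^ n) (C.pd j a) := by
  induction n generalizing a with
  | zero => simp
  | succ n ih =>
    rw [pow_succ, Module.End.mul_apply, Module.End.mul_apply, ih]
    congr 1
    exact C.comm j m a

include hp in
theorem wilson : ((p - 1)! : B) = -1 := by
  have h := congrArg (ZMod.castHom (dvd_refl p) B) (ZMod.wilsons_lemma (p := p))
  rwa [map_natCast, map_neg, map_one] at h

omit hp [CharP B p] in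
theorem dl_pow_p (m : ι) (a : B) : (dl C m ^ p) a = 0 := by
  rw [Module.End.pow_apply]
  exact C.pow m a

omit hp [CharP B p] in
theorem dl_pow_succ (m : ι) (n : ℕ) (a : B) :
    (dl C m ^ (n + 1)) a = C.pd m ((dl C m ^ n) a) := by
  rw [Module.End.pow_apply, Module.End.pow_apply, Function.iterate_succ_apply']
  rfl

omit hp [CharP B p] in
theorem dl_pow_eq_zero (m : ι) (a : B) (n : ℕ) (hn : n = p) : (dl C m ^ n) a = 0 := by
  subst hn
  exact dl_pow_p C m a

/-- constants for the variables in `S`. -/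
def VS (S : Finset ι) (a : B) : Prop := ∀ j ∈ S, C.pd j a = 0

omit hp [CharP B p] in
theorem VS_mul_pow {S : Finset ι} {m : ι} (hm : m ∉ S) {u : B} (hu : VS C S u) (n : ℕ) :
    VS C S (u * C.t m ^ n) := by
  intro j hj
  have hjm : m ≠ j := fun h => hm (h ▸ hj)
  rw [Derivation.leibniz, Derivation.leibniz_pow, hu j hj, C.pd_t, if_neg hjm]
  simp

omit hp [CharP B p] in
theorem VS_dl_pow {S : Finset ι} (m : ι) {a : B} (ha : VS C S a) (n : ℕ) :
    VS C S ((dl C m ^ n) a) := by
  intro j hj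
  rw [pd_dl_pow, ha j hj, map_zero]

omit hp [CharP B p] in
theorem VS_add {S : Finset ι} {a b : B} (ha : VS C S a) (hb : VS C S b) : VS C S (a + b) := by
  intro j hj; rw [map_add, ha j hj, hb j hj, add_zero]

omit hp [CharP B p] in
theorem VS_sub {S : Finset ι} {a b : B} (ha : VS C S a) (hb : VS C S b) : VS C S (a - b) := by
  intro j hj; rw [map_sub, ha j hj, hb j hj, sub_zero]

omit hp [CharP B p] in
theorem VS_nsmul {S : Finset ι} {a : B} (ha : VS C S a) (n : ℕ) : VS C S (n • a) := by
  intro j hj; rw [map_nsmul, ha j hj, smul_zero]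

omit hp [CharP B p] in
theorem pd_mul_pow_self (m : ι) (u : B) (hu : C.pd m u = 0) (n : ℕ) :
    C.pd m (u * C.t m ^ (n + 1)) = (n + 1) • (u * C.t m ^ n) := by
  rw [Derivation.leibniz, Derivation.leibniz_pow, hu, C.pd_t, if_pos rfl, Nat.add_sub_cancel]
  simp only [smul_eq_mul, nsmul_eq_mul, mul_one, mul_zero, add_zero]
  ring

/-- Integration of elements killed by `∂_m^n`, `n < p`. -/
theorem int_lt {S : Finset ι} {m : ι} (hm : m ∉ S) (n : ℕ) (hn : n < p) (a : B)
    (ha : VS C S a) (hz : (dl C m ^ n) a = 0) : ∃ h, VS C S h ∧ C.pd m h = a := by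
  induction n generalizing a with
  | zero =>
    refine ⟨0, fun j _ => map_zero _, ?_⟩
    rw [map_zero]
    simpa using hz.symm
  | succ n ih =>
    set u := (dl C m ^ n) a with hu
    have hud : C.pd m u = 0 := by
      rw [hu, ← dl_pow_succ, hz]
    have huV : VS C S u := VS_dl_pow C m ha n
    obtain ⟨c, hc⟩ := exists_nat_inv (B := B) (n !) (factorial_not_dvd n (by omega))
    obtain ⟨c2, hc2⟩ := exists_nat_inv (B := B) (n + 1) (fun hdvd => by
      have := Nat.le_of_dvd (by omega) hdvd; omega)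
    have htm : C.pd m (C.t m) = 1 := by rw [C.pd_t, if_pos rfl]
    have h1 : (dl C m ^ n) (a - c • (u * C.t m ^ n)) = 0 := by
      rw [map_sub, map_nsmul, pow_mul_pow (C.pd m) (C.t m) u htm hud, ← hu, nsmul_eq_mul,
        nsmul_eq_mul, ← mul_assoc, hc, one_mul, sub_self]
    obtain ⟨h1', h1V, h1d⟩ := ih (by omega) (a - c • (u * C.t m ^ n))
      (VS_sub C ha (VS_nsmul C (VS_mul_pow C hm huV n) c)) h1
    refine ⟨h1' + (c * c2) • (u * C.t m ^ (n + 1)),
      VS_add C h1V (VS_nsmul C (VS_mul_pow C hm huV (n + 1)) _), ?_⟩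
    rw [map_add, h1d, map_nsmul, pd_mul_pow_self C m u hud]
    simp only [nsmul_eq_mul, Nat.cast_mul, Nat.cast_add, Nat.cast_one]
    have hc2' : (c2 : B) * ((n : B) + 1) = 1 := by exact_mod_cast hc2
    linear_combination (c : B) * (u * C.t m ^ n) * hc2'

/-- Integration up to the top term. -/
theorem int_main {S : Finset ι} {m : ι} (hm : m ∉ S) (a : B) (ha : VS C S a) :
    ∃ h, VS C S h ∧ C.pd m h = a + (dl C m ^ (p - 1)) a * C.t m ^ (p - 1) := by
  set u := (dl C m ^ (p - 1)) a with hu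
  have hp1 : p - 1 + 1 = p := Nat.sub_add_cancel hp.out.one_le
  have hud : C.pd m u = 0 := by
    rw [hu, ← dl_pow_succ, dl_pow_eq_zero C m a _ hp1]
  have huV : VS C S u := VS_dl_pow C m ha _
  have htm : C.pd m (C.t m) = 1 := by rw [C.pd_t, if_pos rfl]
  refine int_lt C hm (p - 1) (by have := hp.out.pos; omega) _
    (VS_add C ha (VS_mul_pow C hm huV _)) ?_
  rw [map_add, pow_mul_pow (C.pd m) (C.t m) u htm hud, ← hu, nsmul_eq_mul, wilson]
  ring

end Groth.Agent.Helper27.Ct
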