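import Mathlib
import Groth.Agent.Lib.Helper27.CtE

/-! Cartier (S18110), part F: closed coefficient families in coordinates. -/

set_option autoImplicit false

namespace Groth.Agent.Helper27.Ct

open Finset Nat Groth.Agent.Helper27.Dt

variable {k : Type*} {B : Type*} [CommRing k] [CommRing B] [Algebra k B]
variable {p : ℕ} [hp : Fact p.Prime] [CharP B p]
variable {ι : Type*} [DecidableEq ι] (C : Coords k B ι p)

/-- Closedness of a coefficient family. -/
def Closed (a : ι → B) : Prop := ∀ l m, C.pd l (a m) = C.pd m (a l)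

omit hp [CharP B p] in
theorem closed_sub_grad {a : ι → B} (ha : Closed C a) (h : B) :
    Closed C (fun j => a j - C.pd j h) := by
  intro l m
  simp only [map_sub]
  rw [ha l m, C.comm l m h]

omit [CharP B p] in
/-- The top coefficient is a constant. -/
theorem top_const {a : ι → B} (ha : Closed C a) (m j : ι) :
    C.pd j ((dl C m ^ (p - 1)) (a m)) = 0 := by
  rw [pd_dl_pow, ha j m, ← pd_dl_pow, ← dl_pow_succ,
    dl_pow_eq_zero C m _ _ (Nat.sub_add_cancel hp.out.one_le)]

theorem decomp_aux (S : Finset ι) : ∀ a : ι → B, Closed C a →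
    ∃ (h : B) (e : ι → B), (∀ j ∈ S, ∀ l, C.pd l (e j) = 0) ∧
      ∀ j ∈ S, a j = C.pd j h + e j * C.t j ^ (p - 1) := by
  induction S using Finset.induction_on with
  | empty => intro a _; exact ⟨0, fun _ => 0, by simp, by simp⟩
  | insert m S hm ih =>
    intro a ha
    obtain ⟨h, e, he, hae⟩ := ih a ha
    obtain ⟨a', ha'⟩ : ∃ a' : ι → B, ∀ j, a' j = a j - C.pd j h := ⟨_, fun j => rfl⟩
    have hcl : Closed C a' := by
      have : a' = fun j => a j - C.pd j h := funext ha'
      rw [this]
      exact closed_sub_grad C ha h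
    have ha'S : ∀ j ∈ S, a' j = e j * C.t j ^ (p - 1) := by
      intro j hj
      rw [ha' j, hae j hj]; ring
    have hV : VS C S (a' m) := by
      intro j hj
      have hjm : j ≠ m := fun h => hm (h ▸ hj)
      rw [hcl j m, ha'S j hj, Derivation.leibniz, Derivation.leibniz_pow, he j hj m, C.pd_t,
        if_neg hjm]
      simp
    obtain ⟨h', hh'V, hh'⟩ := int_main C hm (a' m) hV
    refine ⟨h + h', Function.update e m (-(dl C m ^ (p - 1)) (a' m)), ?_, ?_⟩
    · intro j hj l
      rcases Finset.mem_insert.1 hj with hjm | hjS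
      · rw [hjm, Function.update_self, map_neg, top_const C hcl, neg_zero]
      · have : j ≠ m := fun h => hm (h ▸ hjS)
        rw [Function.update_of_ne this]; exact he j hjS l
    · intro j hj
      rcases Finset.mem_insert.1 hj with hjm | hjS
      · rw [hjm, Function.update_self, map_add, hh', ha' m]
        ring
      · have : j ≠ m := fun h => hm (h ▸ hjS)
        rw [Function.update_of_ne this, map_add, hh'V j hjS, add_zero]; exact hae j hjS

/-- Closed families are gradients plus `p`-th powers times `t^{p-1}`. -/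
theorem decomp [Fintype ι]
    (hgen : ∀ b : B, b ∈ Subring.closure (Set.range (fun x : B => x ^ p) ∪ Set.range C.t))
    (a : ι → B) (ha : Closed C a) :
    ∃ (h : B) (c : ι → B), ∀ j, a j = C.pd j h + c j ^ p * C.t j ^ (p - 1) := by
  obtain ⟨h, e, he, hae⟩ := decomp_aux C Finset.univ a ha
  have : ∀ j, ∃ g, e j = g ^ p := fun j =>
    const_eq_pow C hgen (e j) (fun l => he j (Finset.mem_univ j) l)
  choose c hc using this
  exact ⟨h, c, fun j => by rw [← hc j]; exact hae j (Finset.mem_univ j)⟩

/-- A gradient of the special form vanishes. -/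
theorem coeff_inj (hinj : Function.Injective (frobenius B p)) (h : B) (c : ι → B)
    (hc : ∀ j, C.pd j h = c j ^ p * C.t j ^ (p - 1)) : ∀ j, c j = 0 := by
  intro j
  have h1 : (dl C j ^ (p - 1)) (C.pd j h) = 0 := by
    rw [← pd_dl_pow, ← dl_pow_succ, dl_pow_eq_zero C j h _ (Nat.sub_add_cancel hp.out.one_le)]
  rw [hc j, pow_mul_pow (C.pd j) (C.t j) (c j ^ p) (by rw [C.pd_t, if_pos rfl])
    (pd_pow_p C j (c j)), nsmul_eq_mul, wilson] at h1
  have h2 : c j ^ p = 0 := by simpa using h1
  apply hinj
  rw [map_zero, frobenius_def, h2]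

end Groth.Agent.Helper27.Ct
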