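import Mathlib

/-! Cartier (S18110), part G: the binomial identity behind additivity of `g ↦ g^{p-1} dg`. -/

set_option autoImplicit false

namespace Groth.Agent.Helper27.Ct

open Finset

variable {A B M : Type*} [CommRing A] [CommRing B] [Algebra A B] [AddCommGroup M] [Module A M]
  [Module B M] [IsScalarTower A B M]

theorem binom_D (D : Derivation A B M) (n : ℕ) (hn : (n + 1).Prime) (x y : B) :
    ∃ q : B, D q = ((x + y) ^ n - x ^ n) • D x + ((x + y) ^ n - y ^ n) • D y := by
  have hc : ∀ i, ∃ c : ℕ, i < n → (n + 1) * c = (n + 1).choose (i + 1) := by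
    intro i
    by_cases hi : i < n
    · obtain ⟨c, hc⟩ := hn.dvd_choose_self (Nat.succ_ne_zero i) (by omega)
      exact ⟨c, fun _ => hc.symm⟩
    · exact ⟨0, fun h => absurd h hi⟩
  choose c hc using hc
  have hA : ∀ i, i < n → c i * (i + 1) = n.choose i := by
    intro i hi
    have h1 := hc i hi
    have h2 := Nat.add_one_mul_choose_eq n i
    apply Nat.eq_of_mul_eq_mul_left (show 0 < n + 1 by omega)
    rw [← mul_assoc, h1]; exact h2.symm
  have hB : ∀ i, i < n → c i * (n - i) = n.choose (i + 1) := by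
    intro i hi
    have h1 := hc i hi
    have h2 := Nat.choose_mul_succ_eq n (i + 1)
    apply Nat.eq_of_mul_eq_mul_left (show 0 < n + 1 by omega)
    rw [← mul_assoc, h1, mul_comm (n + 1) (n.choose (i + 1)), h2]
    congr 1
    omega
  refine ⟨∑ i ∈ range n, c i • (x ^ (i + 1) * y ^ (n - i)), ?_⟩
  have hX : (x + y) ^ n - x ^ n = ∑ i ∈ range n, (c i * (i + 1)) • (x ^ i * y ^ (n - i)) := by
    rw [add_pow, Finset.sum_range_succ, Nat.sub_self, pow_zero, Nat.choose_self, Nat.cast_one,
      mul_one, mul_one, add_sub_cancel_right]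
    refine Finset.sum_congr rfl fun i hi => ?_
    rw [Finset.mem_range] at hi
    rw [hA i hi, nsmul_eq_mul, mul_comm]
  have hY : (x + y) ^ n - y ^ n =
      ∑ i ∈ range n, (c i * (n - i)) • (x ^ (i + 1) * y ^ (n - i - 1)) := by
    rw [add_pow, Finset.sum_range_succ', pow_zero, Nat.sub_zero, Nat.choose_zero_right,
      Nat.cast_one, mul_one, one_mul, add_sub_cancel_right]
    refine Finset.sum_congr rfl fun i hi => ?_
    rw [Finset.mem_range] at hi
    rw [hB i hi, nsmul_eq_mul, mul_comm, Nat.sub_sub]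
  rw [hX, hY, map_sum, Finset.sum_smul, Finset.sum_smul, ← Finset.sum_add_distrib]
  refine Finset.sum_congr rfl fun i hi => ?_
  rw [map_nsmul, Derivation.leibniz, Derivation.leibniz_pow, Derivation.leibniz_pow,
    Nat.add_sub_cancel]
  simp only [← Nat.cast_smul_eq_nsmul B, smul_smul, smul_add, smul_eq_mul]
  rw [add_comm]
  congr 1 <;> (congr 1; push_cast; ring)

theorem binom_D' (D : Derivation A B M) (p : ℕ) [hp : Fact p.Prime] (x y : B) :
    ∃ q : B, (x + y) ^ (p - 1) • D (x + y) = x ^ (p - 1) • D x + y ^ (p - 1) • D y + D q := by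
  obtain ⟨q, hq⟩ := binom_D D (p - 1) (by rw [Nat.sub_add_cancel hp.out.one_le]; exact hp.out) x y
  refine ⟨q, ?_⟩
  rw [hq, map_add]
  module

end Groth.Agent.Helper27.Ct
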