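import Mathlib
import Groth.Agent.Lib.Helper27.CtG

/-! Cartier (S18110), part H: the inverse Cartier map `γ`. -/

set_option autoImplicit false

namespace Groth.Agent.Helper27.Ct

open KaehlerDifferential

section defs

/-- `Ω[B⁄A]` with the Frobenius-twisted module structure. -/
def FΩ (A B : Type*) [CommRing A] [CommRing B] [Algebra A B] (_p : ℕ) : Type _ := Ω[B⁄A]

variable (A B : Type*) [CommRing A] [CommRing B] [Algebra A B] (p : ℕ)

noncomputable instance : AddCommGroup (FΩ A B p) := inferInstanceAs (AddCommGroup (Ω[B⁄A]))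

/-- The identity. -/
noncomputable def toF : Ω[B⁄A] ≃+ FΩ A B p := AddEquiv.refl _

variable [hp : Fact p.Prime] [CharP B p]

noncomputable instance instModF : Module B (FΩ A B p) :=
  Module.compHom (Ω[B⁄A]) (frobenius B p)

theorem smul_toF (b : B) (ω : Ω[B⁄A]) : b • toF A B p ω = toF A B p (b ^ p • ω) := rfl

noncomputable instance instModFA : Module A (FΩ A B p) :=
  Module.compHom (FΩ A B p) (algebraMap A B)

theorem smul_toF' (a : A) (x : FΩ A B p) : a • x = algebraMap A B a • x := rfl

instance : IsScalarTower A B (FΩ A B p) := ⟨fun a b x => by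
  rw [Algebra.smul_def, mul_smul]; rfl⟩

omit hp in
theorem der_pow_p {M : Type*} [AddCommGroup M] [Module A M] [Module B M] [IsScalarTower A B M]
    (D : Derivation A B M) (b : B) : D (b ^ p) = 0 := by
  rw [Derivation.leibniz_pow, ← Nat.cast_smul_eq_nsmul B, CharP.cast_eq_zero, zero_smul]

omit hp in
theorem D_pow_mul (b h : B) : D A B (b ^ p * h) = b ^ p • D A B h := by
  rw [Derivation.leibniz, der_pow_p, smul_zero, add_zero]

/-- The exact forms, a submodule for the twisted structure. -/
noncomputable def dBsub : Submodule B (FΩ A B p) where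
  carrier := Set.range (fun h : B => toF A B p (D A B h))
  add_mem' := by
    rintro _ _ ⟨h1, rfl⟩ ⟨h2, rfl⟩
    exact ⟨h1 + h2, by simp only [map_add]⟩
  zero_mem' := ⟨0, by simp only [map_zero]⟩
  smul_mem' := by
    rintro b _ ⟨h, rfl⟩
    exact ⟨b ^ p * h, by simp only [D_pow_mul, smul_toF]⟩

/-- `Ω / dB` with the twisted structure. -/
abbrev MQ : Type _ := FΩ A B p ⧸ dBsub A B p

/-- The class of a form. -/
noncomputable def cls (ω : Ω[B⁄A]) : MQ A B p := Submodule.Quotient.mk (toF A B p ω)

theorem cls_add (ω ω' : Ω[B⁄A]) : cls A B p (ω + ω') = cls A B p ω + cls A B p ω' := by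
  rw [cls, map_add, Submodule.Quotient.mk_add]; rfl

theorem cls_zero : cls A B p 0 = 0 := by
  rw [cls, map_zero, Submodule.Quotient.mk_zero]

theorem cls_neg (ω : Ω[B⁄A]) : cls A B p (-ω) = -cls A B p ω := by
  rw [cls, map_neg, Submodule.Quotient.mk_neg]; rfl

theorem cls_sub (ω ω' : Ω[B⁄A]) : cls A B p (ω - ω') = cls A B p ω - cls A B p ω' := by
  rw [sub_eq_add_neg, cls_add, cls_neg, sub_eq_add_neg]

theorem smul_cls (b : B) (ω : Ω[B⁄A]) : b • cls A B p ω = cls A B p (b ^ p • ω) := by
  rw [cls, cls, ← Submodule.Quotient.mk_smul, smul_toF]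

theorem cls_eq_zero_iff (ω : Ω[B⁄A]) : cls A B p ω = 0 ↔ ∃ h, D A B h = ω := by
  rw [cls, Submodule.Quotient.mk_eq_zero]
  constructor
  · rintro ⟨h, hh⟩
    exact ⟨h, (toF A B p).injective hh⟩
  · rintro ⟨h, rfl⟩
    exact ⟨h, rfl⟩

theorem cls_D (h : B) : cls A B p (D A B h) = 0 := (cls_eq_zero_iff A B p _).2 ⟨h, rfl⟩

theorem cls_surjective (m : MQ A B p) : ∃ ω, cls A B p ω = m := by
  obtain ⟨x, rfl⟩ := Submodule.Quotient.mk_surjective _ m
  exact ⟨(toF A B p).symm x, rfl⟩

theorem cls_eq_iff (ω ω' : Ω[B⁄A]) : cls A B p ω = cls A B p ω' ↔ ∃ h, ω = ω' + D A B h := by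
  rw [← sub_eq_zero, ← cls_sub, cls_eq_zero_iff]
  constructor
  · rintro ⟨h, hh⟩; exact ⟨h, by rw [hh]; abel⟩
  · rintro ⟨h, hh⟩; exact ⟨h, by rw [hh]; abel⟩

omit [CharP B p] in
theorem pow_pred_mul (x : B) : x ^ (p - 1) * x = x ^ p := by
  rw [← pow_succ, Nat.sub_add_cancel hp.out.one_le]

theorem smul_cls' (a : A) (ω : Ω[B⁄A]) :
    a • cls A B p ω = cls A B p ((algebraMap A B a) ^ p • ω) := by
  rw [cls, cls, ← Submodule.Quotient.mk_smul]; rfl

theorem delta_add (x y : B) :
    cls A B p ((x + y) ^ (p - 1) • D A B (x + y)) =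
      cls A B p (x ^ (p - 1) • D A B x) + cls A B p (y ^ (p - 1) • D A B y) := by
  obtain ⟨q, hq⟩ := binom_D' (D A B) p x y
  rw [hq, cls_add, cls_add, cls_D, add_zero]

theorem delta_smul (a : A) (g : B) :
    cls A B p ((a • g) ^ (p - 1) • D A B (a • g)) = a • cls A B p (g ^ (p - 1) • D A B g) := by
  rw [smul_cls']
  congr 1
  rw [Derivation.map_smul, Algebra.smul_def, mul_pow, ← algebraMap_smul B a (D A B g), smul_smul,
    smul_smul]
  congr 1
  rw [← pow_pred_mul B p (algebraMap A B a)]
  ring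

theorem delta_mul (x y : B) :
    cls A B p ((x * y) ^ (p - 1) • D A B (x * y)) =
      x • cls A B p (y ^ (p - 1) • D A B y) + y • cls A B p (x ^ (p - 1) • D A B x) := by
  rw [smul_cls, smul_cls, ← cls_add]
  congr 1
  rw [Derivation.leibniz, smul_add, smul_smul, smul_smul, smul_smul, smul_smul]
  congr 2
  · rw [← pow_pred_mul B p x]; ring
  · rw [← pow_pred_mul B p y]; ring

/-- `g ↦ [g^{p-1} dg]` as a linear map. -/
noncomputable def deltaLin : B →ₗ[A] MQ A B p where
  toFun g := cls A B p (g ^ (p - 1) • D A B g)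
  map_add' x y := delta_add A B p x y
  map_smul' a g := delta_smul A B p a g

/-- `g ↦ [g^{p-1} dg]` as a derivation. -/
noncomputable def delta : Derivation A B (MQ A B p) :=
  Derivation.mk' (deltaLin A B p) (fun x y => delta_mul A B p x y)

theorem delta_apply (g : B) : delta A B p g = cls A B p (g ^ (p - 1) • D A B g) := rfl

/-- The inverse Cartier map. -/
noncomputable def gam : Ω[B⁄A] →ₗ[B] MQ A B p := (delta A B p).liftKaehlerDifferential

theorem gam_D (g : B) : gam A B p (D A B g) = cls A B p (g ^ (p - 1) • D A B g) := by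
  rw [gam, Derivation.liftKaehlerDifferential_comp_D, delta_apply]

theorem gam_smul_D (f g : B) :
    gam A B p (f • D A B g) = cls A B p ((f ^ p * g ^ (p - 1)) • D A B g) := by
  rw [map_smul, gam_D, smul_cls, smul_smul]

/-- The additive group generated by the forms `f^p g^{p-1} dg` and the exact forms. -/
noncomputable def Gs : AddSubgroup (Ω[B⁄A]) :=
  AddSubgroup.closure ({ω | ∃ f g : B, ω = (f ^ p * g ^ (p - 1)) • D A B g} ∪ Set.range (D A B))

theorem Gs_smul_pow (b : B) {ω : Ω[B⁄A]} (hω : ω ∈ Gs A B p) : b ^ p • ω ∈ Gs A B p := by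
  induction hω using AddSubgroup.closure_induction with
  | mem x hx =>
    rcases hx with ⟨f, g, rfl⟩ | ⟨h, rfl⟩
    · refine AddSubgroup.subset_closure (Or.inl ⟨b * f, g, ?_⟩)
      rw [smul_smul, mul_pow, mul_assoc]
    · refine AddSubgroup.subset_closure (Or.inr ⟨b ^ p * h, ?_⟩)
      rw [D_pow_mul]
  | zero => rw [smul_zero]; exact zero_mem _
  | add x y _ _ hx hy => rw [smul_add]; exact add_mem hx hy
  | neg x _ hx => rw [smul_neg]; exact neg_mem hx

theorem cls_mem_range_gam {ω : Ω[B⁄A]} (hω : ω ∈ Gs A B p) :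
    cls A B p ω ∈ LinearMap.range (gam A B p) := by
  induction hω using AddSubgroup.closure_induction with
  | mem x hx =>
    rcases hx with ⟨f, g, rfl⟩ | ⟨h, rfl⟩
    · exact ⟨f • D A B g, gam_smul_D A B p f g⟩
    · rw [cls_D]; exact zero_mem _
  | zero => rw [cls_zero]; exact zero_mem _
  | add x y _ _ hx hy => rw [cls_add]; exact add_mem hx hy
  | neg x _ hx => rw [cls_neg]; exact neg_mem hx

end defs

section naturality

variable (A B L : Type*) [CommRing A] [CommRing B] [CommRing L] [Algebra A B] [Algebra A L]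
  [Algebra B L] [IsScalarTower A B L] (p : ℕ) [hp : Fact p.Prime] [CharP B p] [CharP L p]

/-- The semilinear map on twisted forms. -/
noncomputable def mapF : FΩ A B p →ₛₗ[algebraMap B L] FΩ A L p where
  toFun x := toF A L p (KaehlerDifferential.map A A B L ((toF A B p).symm x))
  map_add' x y := by rw [map_add, map_add, map_add]
  map_smul' b x := by
    obtain ⟨ω, rfl⟩ := (toF A B p).surjective x
    rw [smul_toF, AddEquiv.symm_apply_apply, AddEquiv.symm_apply_apply, map_smul, smul_toF,
      ← map_pow, algebraMap_smul]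

/-- The induced map on `Ω / dB`. -/
noncomputable def Phi : MQ A B p →ₛₗ[algebraMap B L] MQ A L p :=
  Submodule.mapQ (dBsub A B p) (dBsub A L p) (mapF A B L p) (by
    rintro _ ⟨h, rfl⟩
    refine ⟨algebraMap B L h, ?_⟩
    change _ = toF A L p (KaehlerDifferential.map A A B L (D A B h))
    rw [KaehlerDifferential.map_D])

theorem Phi_cls (ω : Ω[B⁄A]) :
    Phi A B L p (cls A B p ω) = cls A L p (KaehlerDifferential.map A A B L ω) := rfl

theorem gam_map (η : Ω[B⁄A]) :
    gam A L p (KaehlerDifferential.map A A B L η) = Phi A B L p (gam A B p η) := by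
  have hη : η ∈ Submodule.span B (Set.range (D A B)) := by
    rw [span_range_derivation]; trivial
  induction hη using Submodule.span_induction with
  | mem x hx =>
    obtain ⟨g, rfl⟩ := hx
    rw [KaehlerDifferential.map_D, gam_D, gam_D, Phi_cls, map_smul, KaehlerDifferential.map_D,
      ← algebraMap_smul L (g ^ (p - 1)) (D A L (algebraMap B L g)), map_pow]
  | zero => simp only [map_zero]
  | add x y _ _ hx hy => rw [map_add, map_add, map_add, map_add, hx, hy]
  | smul b x _ hx =>
    rw [map_smul, ← algebraMap_smul L b, map_smul, hx, map_smul, map_smulₛₗ]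

end naturality

end Groth.Agent.Helper27.Ct
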