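import Mathlib
import Groth.Agent.Lib.Helper27.CtC
import Groth.Agent.Lib.Helper27.CtF
import Groth.Agent.Lib.Helper27.CtH

/-! Cartier (S18110), part I: the local theory in étale coordinates. -/

set_option autoImplicit false

namespace Groth.Agent.Helper27.Ct

open KaehlerDifferential Groth.Agent.Helper27.Dt

section

variable (A B : Type*) [CommRing A] [CommRing B] [Algebra A B] (p : ℕ) [hp : Fact p.Prime]
  [CharP B p]

/-- `cls` as an additive map. -/
noncomputable def clsHom : Ω[B⁄A] →+ MQ A B p := AddMonoidHom.mk' (cls A B p) (cls_add A B p)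

theorem cls_sum {κ : Type*} (s : Finset κ) (f : κ → Ω[B⁄A]) :
    cls A B p (∑ i ∈ s, f i) = ∑ i ∈ s, cls A B p (f i) :=
  map_sum (clsHom A B p) f s

end

variable (A : Type*) [CommRing A] (p : ℕ) [hp : Fact p.Prime] [CharP A p] [PerfectRing A p]
  (ι : Type*) [Fintype ι] [DecidableEq ι]
  (L : Type*) [CommRing L] [Algebra A L] [Algebra (MvPolynomial ι A) L]
  [IsScalarTower A (MvPolynomial ι A) L] [Algebra.Etale (MvPolynomial ι A) L] [CharP L p]

omit [CharP A p] [PerfectRing A p] in
/-- The coordinate derivations. -/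
noncomputable def coordsOf : Coords A L ι p where
  pd := Dt.pd (etBasis A ι L)
  t := tc A ι L
  comm := Dt.pd_comm (etBasis A ι L) (tc A ι L) (etBasis_apply A ι L)
  pow := Dt.pd_iterate_p (etBasis A ι L) (tc A ι L) (etBasis_apply A ι L) p
  pd_t := Dt.pd_t (etBasis A ι L) (tc A ι L) (etBasis_apply A ι L)

omit [CharP A p] [PerfectRing A p] in
theorem coordsOf_pd (j : ι) (a : L) :
    (coordsOf A p ι L).pd j a = (etBasis A ι L).repr (D A L a) j := rfl

omit hp [CharP A p] [PerfectRing A p] [CharP L p] [DecidableEq ι] in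
theorem sum_repr_D (η : Ω[L⁄A]) :
    η = ∑ j, (etBasis A ι L).repr η j • D A L (tc A ι L j) := by
  conv_lhs => rw [← (etBasis A ι L).sum_repr η]
  refine Finset.sum_congr rfl fun j _ => ?_
  rw [etBasis_apply]

include ι in
theorem gam_injective_loc : Function.Injective (gam A L p) := by
  rw [injective_iff_map_eq_zero]
  intro η hη
  have hrep := sum_repr_D A ι L η
  rw [hrep, map_sum] at hη
  simp only [gam_smul_D] at hη
  rw [← cls_sum, cls_eq_zero_iff] at hη
  obtain ⟨h, hh⟩ := hη
  have hc : ∀ j, (coordsOf A p ι L).pd j h =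
      ((etBasis A ι L).repr η j) ^ p * (coordsOf A p ι L).t j ^ (p - 1) := by
    intro j
    rw [coordsOf_pd, hh]
    have : (∑ i, ((etBasis A ι L).repr η i ^ p * tc A ι L i ^ (p - 1)) • D A L (tc A ι L i)) =
        ∑ i, ((etBasis A ι L).repr η i ^ p * tc A ι L i ^ (p - 1)) • etBasis A ι L i := by
      refine Finset.sum_congr rfl fun i _ => ?_
      rw [etBasis_apply]
    rw [this, Module.Basis.repr_sum_self]
    rfl
  have hz := coeff_inj (coordsOf A p ι L) (frobenius_injective_coords A p ι L) h _ hc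
  rw [hrep]
  refine Finset.sum_eq_zero fun j _ => ?_
  rw [hz j, zero_smul]

theorem mem_Gs_loc (ω : Ω[L⁄A])
    (hcl : Closed (coordsOf A p ι L) (fun j => (etBasis A ι L).repr ω j)) : ω ∈ Gs A L p := by
  obtain ⟨h, c, hc⟩ := decomp (coordsOf A p ι L) (mem_closure_coords A p ι L) _ hcl
  have hω : ω = D A L h + ∑ j, (c j ^ p * tc A ι L j ^ (p - 1)) • D A L (tc A ι L j) := by
    conv_lhs => rw [sum_repr_D A ι L ω]
    conv_rhs => rw [sum_repr_D A ι L (D A L h)]
    rw [← Finset.sum_add_distrib]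
    refine Finset.sum_congr rfl fun j _ => ?_
    rw [← add_smul]
    congr 1
    exact hc j
  rw [hω]
  refine add_mem (AddSubgroup.subset_closure (Or.inr ⟨h, rfl⟩)) (sum_mem fun j _ => ?_)
  exact AddSubgroup.subset_closure (Or.inl ⟨c j, tc A ι L j, rfl⟩)

end Groth.Agent.Helper27.Ct
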