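import Mathlib
import Groth.Agent.Lib.Helper27.CtH

/-! Cartier (S18110), part J: descent of `Gs` along a localization away from an element. -/

set_option autoImplicit false

namespace Groth.Agent.Helper27.Ct

open KaehlerDifferential

variable (A B L : Type*) [CommRing A] [CommRing B] [CommRing L] [Algebra A B] [Algebra A L]
  [Algebra B L] [IsScalarTower A B L] (p : ℕ) [hp : Fact p.Prime] [CharP B p] [CharP L p]
  (s : B) [IsLocalization.Away s L]

omit [CharP B p] [CharP L p] in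
theorem scal_id (u f g : L) (a b : ℕ) :
    (u ^ (a + b * p)) ^ p * (f ^ p * g ^ (p - 1)) =
      (f * u ^ a) ^ p * (g * (u ^ b) ^ p) ^ (p - 1) * (u ^ b) ^ p := by
  have e := pow_pred_mul L p ((u ^ b) ^ p)
  linear_combination (-(f * u ^ a) ^ p * g ^ (p - 1)) * e

omit [CharP B p] [CharP L p] in
/-- Clearing denominators by `p`-th powers. -/
theorem exists_pow_p_num (z : L) :
    ∃ (a : ℕ) (z' : B), algebraMap B L z' = (algebraMap B L s ^ a) ^ p * z := by
  obtain ⟨a, z₀, hz⟩ := IsLocalization.Away.surj s z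
  refine ⟨a, z₀ * (s ^ a) ^ (p - 1), ?_⟩
  rw [map_mul, ← hz, map_pow, map_pow, ← pow_pred_mul L p (algebraMap B L s ^ a)]
  ring

theorem Gs_descent {ω' : Ω[L⁄A]} (h : ω' ∈ Gs A L p) :
    ∃ (N : ℕ) (ω₀ : Ω[B⁄A]), ω₀ ∈ Gs A B p ∧
      (algebraMap B L s ^ N) ^ p • ω' = KaehlerDifferential.map A A B L ω₀ := by
  induction h using AddSubgroup.closure_induction with
  | mem x hx =>
    rcases hx with ⟨f, g, rfl⟩ | ⟨h, rfl⟩
    · obtain ⟨a, f', hf⟩ := IsLocalization.Away.surj s f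
      obtain ⟨b, g', hg⟩ := exists_pow_p_num B L p s g
      refine ⟨a + b * p, (f' ^ p * g' ^ (p - 1)) • D A B g',
        AddSubgroup.subset_closure (Or.inl ⟨f', g', rfl⟩), ?_⟩
      rw [map_smul, KaehlerDifferential.map_D,
        ← algebraMap_smul L (f' ^ p * g' ^ (p - 1)) (D A L (algebraMap B L g')), map_mul, map_pow,
        map_pow,
        ← hf, hg, D_pow_mul, smul_smul, smul_smul]
      congr 1
      rw [scal_id, mul_comm g]
    · obtain ⟨a, h', hh⟩ := exists_pow_p_num B L p s h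
      refine ⟨a, D A B h', AddSubgroup.subset_closure (Or.inr ⟨h', rfl⟩), ?_⟩
      rw [KaehlerDifferential.map_D, hh, D_pow_mul]
  | zero => exact ⟨0, 0, zero_mem _, by rw [smul_zero, map_zero]⟩
  | add x y _ _ hx hy =>
    obtain ⟨N₁, ω₁, h₁, e₁⟩ := hx
    obtain ⟨N₂, ω₂, h₂, e₂⟩ := hy
    refine ⟨N₁ + N₂, (s ^ N₂) ^ p • ω₁ + (s ^ N₁) ^ p • ω₂,
      add_mem (Gs_smul_pow A B p _ h₁) (Gs_smul_pow A B p _ h₂), ?_⟩
    rw [map_add, map_smul, map_smul, ← e₁, ← e₂, ← algebraMap_smul L ((s ^ N₂) ^ p),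
      ← algebraMap_smul L ((s ^ N₁) ^ p), smul_smul, smul_smul, smul_add, map_pow, map_pow,
      map_pow, map_pow]
    congr 2
    · rw [pow_add, mul_pow, mul_comm]
    · rw [pow_add, mul_pow]
  | neg x _ hx =>
    obtain ⟨N, ω₀, h₀, e⟩ := hx
    exact ⟨N, -ω₀, neg_mem h₀, by rw [smul_neg, map_neg, e]⟩

omit [CharP L p] in
/-- If `ω` dies in the localization, a `p`-th power of `s` kills it. -/
theorem exists_pow_p_smul_eq_zero (ω : Ω[B⁄A]) (h : KaehlerDifferential.map A A B L ω = 0) :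
    ∃ n : ℕ, (s ^ n) ^ p • ω = 0 := by
  obtain ⟨⟨_, n, rfl⟩, hn⟩ :=
    (IsLocalizedModule.eq_zero_iff (Submonoid.powers s) (KaehlerDifferential.map A A B L)).1 h
  refine ⟨n, ?_⟩
  have hn' : s ^ n • ω = 0 := hn
  rw [← pow_pred_mul B p (s ^ n), mul_smul, hn', smul_zero]

theorem Gs_of_loc (ω : Ω[B⁄A]) (h : KaehlerDifferential.map A A B L ω ∈ Gs A L p) :
    ∃ N : ℕ, (s ^ N) ^ p • ω ∈ Gs A B p := by
  obtain ⟨N, ω₀, hω₀, heq⟩ := Gs_descent A B L p s h
  have h0 : KaehlerDifferential.map A A B L ((s ^ N) ^ p • ω - ω₀) = 0 := by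
    rw [map_sub, map_smul, ← algebraMap_smul L ((s ^ N) ^ p), map_pow, map_pow, heq, sub_self]
  obtain ⟨n, hn⟩ := exists_pow_p_smul_eq_zero A B L p s _ h0
  refine ⟨n + N, ?_⟩
  rw [smul_sub, sub_eq_zero, smul_smul] at hn
  rw [pow_add, mul_pow, hn]
  exact Gs_smul_pow A B p _ hω₀

end Groth.Agent.Helper27.Ct
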