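import Mathlib
import Groth.Prelude.Def_DeRham
import Groth.Agent.Lib.Helper27.DtB

/-! Cartier (S18110), part K: closedness in a localization, read off in coordinates. -/

set_option autoImplicit false

namespace Groth.Agent.Helper27.Ct

open KaehlerDifferential exteriorPower

variable {A : Type*} {B : Type*} {L : Type*} [CommRing A] [CommRing B] [CommRing L]
  [Algebra A B] [Algebra A L] [Algebra B L] [IsScalarTower A B L]

theorem oneEquiv_symm_smul_D (e g : B) :
    (exteriorPower.oneEquiv B (Ω[B⁄A])).symm (e • D A B g) =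
      DeRham.gen (D A B) 1 e (fun _ => g) := by
  apply (exteriorPower.oneEquiv B (Ω[B⁄A])).injective
  rw [LinearEquiv.apply_symm_apply, DeRham.gen, map_smul, exteriorPower.oneEquiv_ιMulti]

variable {ι : Type*} [Fintype ι] [DecidableEq ι] (b : Module.Basis ι L (Ω[L⁄A]))

/-- The coefficient functional of the image in the localization. -/
noncomputable def cf (j : ι) : Ω[B⁄A] →ₗ[B] L :=
  ((b.coord j).restrictScalars B).comp (KaehlerDifferential.map A A B L)

theorem cf_apply (j : ι) (η : Ω[B⁄A]) :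
    cf b j η = b.repr (KaehlerDifferential.map A A B L η) j := rfl

theorem cf_D (j : ι) (f : B) : cf b j (D A B f) = Dt.pd b j (algebraMap B L f) := by
  rw [cf_apply, KaehlerDifferential.map_D]; rfl

theorem cf_smul_D (j : ι) (f g : B) :
    cf b j (f • D A B g) = algebraMap B L f * Dt.pd b j (algebraMap B L g) := by
  rw [map_smul, cf_D, Algebra.smul_def]

/-- A pair of coefficients. -/
noncomputable def Gv (l m : ι) : Ω[B⁄A] →ₗ[B] (Fin 2 → L) := LinearMap.pi ![cf b l, cf b m]

/-- The alternating map `(x, y) ↦ x_l y_m - x_m y_l`. -/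
noncomputable def Psi (l m : ι) : (Ω[B⁄A]) [⋀^Fin 2]→ₗ[B] L :=
  { ((Matrix.detRowAlternating (n := Fin 2) (R := L)).toMultilinearMap.restrictScalars
      B).compLinearMap (fun _ => Gv b l m) with
    map_eq_zero_of_eq' := fun v i j hv hij => by
      change Matrix.detRowAlternating (fun k => Gv b l m (v k)) = 0
      exact (Matrix.detRowAlternating).map_eq_zero_of_eq _ (by simp only [hv]) hij }

theorem Psi_apply (l m : ι) (v : Fin 2 → Ω[B⁄A]) :
    Psi b l m v = cf b l (v 0) * cf b m (v 1) - cf b m (v 0) * cf b l (v 1) := by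
  change Matrix.det (fun k => Gv b l m (v k)) = _
  rw [Matrix.det_fin_two]
  rfl

theorem key_identity (d : ∀ q : ℕ, ↥(⋀[B]^q (Ω[B⁄A])) →ₗ[A] ↥(⋀[B]^(q + 1) (Ω[B⁄A])))
    (hd : DeRham.IsDiff (D A B) d) (t : ι → L) (hb : ∀ i, b i = D A L (t i)) (l m : ι)
    (η : Ω[B⁄A]) :
    exteriorPower.alternatingMapLinearEquiv (Psi b l m)
        (d 1 ((exteriorPower.oneEquiv B (Ω[B⁄A])).symm η)) =
      Dt.pd b l (cf b m η) - Dt.pd b m (cf b l η) := by
  have hη : η ∈ Submodule.span B (Set.range (D A B)) := by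
    rw [span_range_derivation]; trivial
  induction hη using Submodule.closure_induction with
  | zero => simp only [map_zero, sub_self]
  | add x y _ _ hx hy =>
    simp only [map_add]
    rw [hx, hy]; ring
  | smul_mem f x hx =>
    obtain ⟨g, rfl⟩ := hx
    rw [oneEquiv_symm_smul_D, hd.1 1 f (fun _ => g), alternatingMapLinearEquiv_apply_ιMulti,
      Psi_apply, cf_smul_D, cf_smul_D]
    have h0 : (Fin.cons (D A B f) (fun _ : Fin 1 => D A B g) : Fin 2 → Ω[B⁄A]) 0 = D A B f := rfl
    have h1 : (Fin.cons (D A B f) (fun _ : Fin 1 => D A B g) : Fin 2 → Ω[B⁄A]) 1 = D A B g := rfl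
    rw [h0, h1, cf_D, cf_D, cf_D, cf_D, Derivation.leibniz, Derivation.leibniz,
      Dt.pd_comm b t hb l m]
    simp only [smul_eq_mul]; ring

theorem closed_transfer (d : ∀ q : ℕ, ↥(⋀[B]^q (Ω[B⁄A])) →ₗ[A] ↥(⋀[B]^(q + 1) (Ω[B⁄A])))
    (hd : DeRham.IsDiff (D A B) d) (t : ι → L) (hb : ∀ i, b i = D A L (t i))
    (η : Ω[B⁄A]) (hη : d 1 ((exteriorPower.oneEquiv B (Ω[B⁄A])).symm η) = 0) (l m : ι) :
    Dt.pd b l (cf b m η) = Dt.pd b m (cf b l η) := by
  have := key_identity b d hd t hb l m η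
  rw [hη, map_zero] at this
  exact sub_eq_zero.1 this.symm

end Groth.Agent.Helper27.Ct
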