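import Mathlib
import Groth.Agent.Lib.Helper27.CtI
import Groth.Agent.Lib.Helper27.CtJ
import Groth.Agent.Lib.Helper27.CtK

/-! Cartier (S18110), part L: globalization over a smooth algebra. -/

set_option autoImplicit false

universe u

namespace Groth.Agent.Helper27.Ct

open KaehlerDifferential exteriorPower

theorem exists_coords (A L : Type u) [CommRing A] [CommRing L] [Algebra A L]
    [Algebra.IsStandardSmooth A L] :
    ∃ (n : ℕ) (_ : Algebra (MvPolynomial (Fin n) A) L),
      IsScalarTower A (MvPolynomial (Fin n) A) L ∧ Algebra.Etale (MvPolynomial (Fin n) A) L := by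
  obtain ⟨n, g, hgC, hg⟩ := RingHom.IsStandardSmooth.exists_etale_mvPolynomial
    (RingHom.isStandardSmooth_algebraMap.2 (inferInstance : Algebra.IsStandardSmooth A L))
  refine ⟨n, g.toAlgebra, ?_, hg⟩
  letI := g.toAlgebra
  exact IsScalarTower.of_algebraMap_eq' hgC.symm

variable (p : ℕ) [hp : Fact p.Prime] (A B : Type u) [CommRing A] [CharP A p] [PerfectRing A p]
  [CommRing B] [Algebra A B] [CharP B p]

section loc

theorem charP_loc (p : ℕ) [hp : Fact p.Prime] (B L : Type*) [CommRing B] [CommRing L] [Algebra B L]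
    [CharP B p] [Nontrivial L] : CharP L p := by
  rw [CharP.charP_iff_prime_eq_zero hp.out, ← map_natCast (algebraMap B L), CharP.cast_eq_zero,
    map_zero]

theorem loc_inj (s : B) (L : Type u) [CommRing L] [Algebra A L] [Algebra B L] [IsScalarTower A B L]
    [IsLocalization.Away s L] [Algebra.IsStandardSmooth A L]
    (η : Ω[B⁄A]) (hη : gam A B p η = 0) : ∃ n : ℕ, (s ^ n) ^ p • η = 0 := by
  apply exists_pow_p_smul_eq_zero A B L p s η
  rcases subsingleton_or_nontrivial L with hL | hL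
  · haveI : Subsingleton (Ω[L⁄A]) := Module.subsingleton L _
    exact Subsingleton.elim _ _
  · haveI : CharP L p := charP_loc p B L
    obtain ⟨n, inst, h1, h2⟩ := exists_coords A L
    letI := inst
    haveI := h1
    haveI := h2
    apply gam_injective_loc A p (Fin n) L
    rw [gam_map, hη, map_zero, map_zero]

theorem loc_closed (s : B) (L : Type u) [CommRing L] [Algebra A L] [Algebra B L]
    [IsScalarTower A B L] [IsLocalization.Away s L] [Algebra.IsStandardSmooth A L]
    (d : ∀ q : ℕ, ↥(⋀[B]^q (Ω[B⁄A])) →ₗ[A] ↥(⋀[B]^(q + 1) (Ω[B⁄A])))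
    (hd : DeRham.IsDiff (D A B) d) (η : Ω[B⁄A])
    (hη : d 1 ((exteriorPower.oneEquiv B (Ω[B⁄A])).symm η) = 0) :
    ∃ N : ℕ, (s ^ N) ^ p • η ∈ Gs A B p := by
  rcases subsingleton_or_nontrivial L with hL | hL
  · haveI : Subsingleton (Ω[L⁄A]) := Module.subsingleton L _
    obtain ⟨n, hn⟩ := exists_pow_p_smul_eq_zero A B L p s η (Subsingleton.elim _ _)
    exact ⟨n, by rw [hn]; exact zero_mem _⟩
  · haveI : CharP L p := charP_loc p B L
    obtain ⟨n, inst, h1, h2⟩ := exists_coords A L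
    letI := inst
    haveI := h1
    haveI := h2
    apply Gs_of_loc A B L p s η
    apply mem_Gs_loc A p (Fin n) L
    intro l m
    exact closed_transfer (etBasis A (Fin n) L) d hd (tc A (Fin n) L) (etBasis_apply A (Fin n) L)
      η hη l m

end loc

variable [Algebra.Smooth A B]

theorem gam_injective : Function.Injective (gam A B p) := by
  rw [injective_iff_map_eq_zero]
  intro η hη
  obtain ⟨σ, hσ, hstd⟩ := Algebra.Smooth.exists_span_eq_top_isStandardSmooth A B
  have := Submodule.mem_of_span_eq_top_of_smul_pow_mem (⊥ : Submodule B (Ω[B⁄A])) σ hσ η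
    (fun r => by
      haveI := hstd r.1 r.2
      obtain ⟨n, hn⟩ := loc_inj p A B r.1 (Localization.Away r.1) η hη
      exact ⟨n * p, by rw [pow_mul, hn]; exact zero_mem _⟩)
  simpa using this

/-- The ideal of `b` with `b^p η ∈ Gs`. -/
noncomputable def idealOf (η : Ω[B⁄A]) : Ideal B where
  carrier := {b | b ^ p • η ∈ Gs A B p}
  add_mem' := by
    intro a b ha hb
    change (a + b) ^ p • η ∈ Gs A B p
    rw [add_pow_char, add_smul]
    exact add_mem ha hb
  zero_mem' := by
    change (0 : B) ^ p • η ∈ Gs A B p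
    rw [zero_pow hp.out.ne_zero, zero_smul]
    exact zero_mem _
  smul_mem' := by
    intro c b hb
    change (c • b) ^ p • η ∈ Gs A B p
    rw [smul_eq_mul, mul_pow, mul_smul]
    exact Gs_smul_pow A B p c hb

theorem closed_mem_Gs (d : ∀ q : ℕ, ↥(⋀[B]^q (Ω[B⁄A])) →ₗ[A] ↥(⋀[B]^(q + 1) (Ω[B⁄A])))
    (hd : DeRham.IsDiff (D A B) d) (η : Ω[B⁄A])
    (hη : d 1 ((exteriorPower.oneEquiv B (Ω[B⁄A])).symm η) = 0) : η ∈ Gs A B p := by
  obtain ⟨σ, hσ, hstd⟩ := Algebra.Smooth.exists_span_eq_top_isStandardSmooth A B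
  have h1 : (1 : B) ∈ idealOf p A B η :=
    Submodule.mem_of_span_eq_top_of_smul_pow_mem (idealOf p A B η) σ hσ 1
      (fun r => by
        haveI := hstd r.1 r.2
        obtain ⟨N, hN⟩ := loc_closed p A B r.1 (Localization.Away r.1) d hd η hη
        refine ⟨N, ?_⟩
        rw [smul_eq_mul, mul_one]
        exact hN)
  have h2 : (1 : B) ^ p • η ∈ Gs A B p := h1
  rwa [one_pow, one_smul] at h2

theorem closed_mem_range (d : ∀ q : ℕ, ↥(⋀[B]^q (Ω[B⁄A])) →ₗ[A] ↥(⋀[B]^(q + 1) (Ω[B⁄A])))
    (hd : DeRham.IsDiff (D A B) d) (η : Ω[B⁄A])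
    (hη : d 1 ((exteriorPower.oneEquiv B (Ω[B⁄A])).symm η) = 0) :
    ∃ ζ, gam A B p ζ = cls A B p η :=
  cls_mem_range_gam A B p (closed_mem_Gs p A B d hd η hη)

end Groth.Agent.Helper27.Ct
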