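import Mathlib
import Groth.Agent.Lib.Helper27.CtL

/-! Cartier (S18110), part M: the Cartier operator in degree one. -/

set_option autoImplicit false

universe u

namespace Groth.Agent.Helper27.Ct

open KaehlerDifferential exteriorPower

section iface

variable {A B : Type u} [CommRing A] [CommRing B] [Algebra A B]
variable {d : ∀ q : ℕ, ↥(⋀[B]^q (Ω[B⁄A])) →ₗ[A] ↥(⋀[B]^(q + 1) (Ω[B⁄A]))}

theorem zeroEquiv_symm_eq (f : B) :
    (zeroEquiv B (Ω[B⁄A])).symm f = DeRham.gen (D A B) 0 f Fin.elim0 := by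
  apply (zeroEquiv B (Ω[B⁄A])).injective
  rw [LinearEquiv.apply_symm_apply, DeRham.gen, map_smul, zeroEquiv_ιMulti, smul_eq_mul, mul_one]

theorem d0_eq (hd : DeRham.IsDiff (D A B) d) (f : B) :
    d 0 ((zeroEquiv B (Ω[B⁄A])).symm f) = (oneEquiv B (Ω[B⁄A])).symm (D A B f) := by
  rw [zeroEquiv_symm_eq, hd.1 0 f Fin.elim0]
  apply (oneEquiv B (Ω[B⁄A])).injective
  rw [LinearEquiv.apply_symm_apply, oneEquiv_ιMulti]
  rfl

theorem closed_D (hd : DeRham.IsDiff (D A B) d) (h : B) :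
    d 1 ((oneEquiv B (Ω[B⁄A])).symm (D A B h)) = 0 := by
  rw [← d0_eq hd]
  exact LinearMap.congr_fun (hd.2 0) _

theorem closed_of_prop (hd : DeRham.IsDiff (D A B) d) (c g c' : B)
    (hc : D A B c = c' • D A B g) :
    d 1 ((oneEquiv B (Ω[B⁄A])).symm (c • D A B g)) = 0 := by
  rw [oneEquiv_symm_smul_D, hd.1 1 c (fun _ => g), hc]
  have h1 : (Fin.cons (c' • D A B g) (fun _ : Fin 1 => D A B g) : Fin (1 + 1) → Ω[B⁄A]) =
      Function.update (Fin.cons (D A B g) (fun _ : Fin 1 => D A B g)) 0 (c' • D A B g) := by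
    rw [Fin.update_cons_zero]
  have h2 : (Fin.cons (D A B g) (fun _ : Fin 1 => D A B g) : Fin (1 + 1) → Ω[B⁄A]) =
      Function.update (Fin.cons (D A B g) (fun _ : Fin 1 => D A B g)) 0 (D A B g) := by
    rw [Fin.update_cons_zero]
  rw [h1, AlternatingMap.map_update_smul, ← h2]
  rw [AlternatingMap.map_eq_zero_of_eq (ιMulti B (1 + 1))
    (Fin.cons (D A B g) (fun _ : Fin 1 => D A B g)) (i := 0) (j := 1) rfl (by decide), smul_zero]

variable (p : ℕ) [hp : Fact p.Prime] [CharP B p]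

theorem closed_gen (hd : DeRham.IsDiff (D A B) d) (f g : B) :
    d 1 ((oneEquiv B (Ω[B⁄A])).symm ((f ^ p * g ^ (p - 1)) • D A B g)) = 0 := by
  refine closed_of_prop hd _ g (f ^ p * ((p - 1 : ℕ) : B) * g ^ (p - 1 - 1)) ?_
  rw [D_pow_mul, Derivation.leibniz_pow, ← Nat.cast_smul_eq_nsmul B, smul_smul, smul_smul, mul_assoc]

theorem closed_gen' (hd : DeRham.IsDiff (D A B) d) (g : B) :
    d 1 ((oneEquiv B (Ω[B⁄A])).symm (g ^ (p - 1) • D A B g)) = 0 := by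
  have := closed_gen p hd 1 g
  rwa [one_pow, one_mul] at this

end iface

section main

variable (p : ℕ) [hp : Fact p.Prime] (A B : Type u) [CommRing A] [CommRing B] [Algebra A B]
variable (d : ∀ q : ℕ, ↥(⋀[B]^q (Ω[B⁄A])) →ₗ[A] ↥(⋀[B]^(q + 1) (Ω[B⁄A])))

/-- The three conditions on a Cartier operator. -/
def IsCartier (C : ↥(DeRham.cocycles d 1) →+ ↥(⋀[B]^1 (Ω[B⁄A]))) : Prop :=
  (∀ (f : B) (ω ω' : ↥(DeRham.cocycles d 1)),
      (ω' : ↥(⋀[B]^1 (Ω[B⁄A]))) = f ^ p • (ω : ↥(⋀[B]^1 (Ω[B⁄A]))) → C ω' = f • C ω) ∧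
  (∀ ω : ↥(DeRham.cocycles d 1), C ω = 0 ↔
      (ω : ↥(⋀[B]^1 (Ω[B⁄A]))) ∈ DeRham.coboundaries d 1) ∧
  (∀ (f : B) (ω : ↥(DeRham.cocycles d 1)),
      (ω : ↥(⋀[B]^1 (Ω[B⁄A]))) =
          f ^ (p - 1) • d 0 ((exteriorPower.zeroEquiv B (Ω[B⁄A])).symm f) →
        C ω = d 0 ((exteriorPower.zeroEquiv B (Ω[B⁄A])).symm f))

variable {A B d}

/-- A closed form as a cocycle. -/
def mkZ (x : ↥(⋀[B]^1 (Ω[B⁄A]))) (h : d 1 x = 0) : ↥(DeRham.cocycles d 1) :=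
  ⟨x, LinearMap.mem_ker.2 h⟩

omit hp in
theorem mem_cob_iff (x : ↥(⋀[B]^1 (Ω[B⁄A]))) :
    x ∈ DeRham.coboundaries d 1 ↔ ∃ y, d 0 y = x := Iff.rfl

theorem cocycle_closed (ω : ↥(DeRham.cocycles d 1)) :
    d 1 ((oneEquiv B (Ω[B⁄A])).symm (oneEquiv B (Ω[B⁄A]) (ω : ↥(⋀[B]^1 (Ω[B⁄A]))))) = 0 := by
  rw [LinearEquiv.symm_apply_apply]
  exact LinearMap.mem_ker.1 ω.2

variable [CharP A p] [PerfectRing A p] [Algebra.Smooth A B] [CharP B p]
variable (hd : DeRham.IsDiff (D A B) d)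

/-- The Cartier operator as a function. -/
noncomputable def Cfun (ω : ↥(DeRham.cocycles d 1)) : ↥(⋀[B]^1 (Ω[B⁄A])) :=
  (oneEquiv B (Ω[B⁄A])).symm
    (Classical.choose (closed_mem_range p A B d hd (oneEquiv B (Ω[B⁄A]) ω) (cocycle_closed ω)))

theorem Cfun_spec (ω : ↥(DeRham.cocycles d 1)) :
    gam A B p (oneEquiv B (Ω[B⁄A]) (Cfun p hd ω)) = cls A B p (oneEquiv B (Ω[B⁄A]) ω) := by
  rw [Cfun, LinearEquiv.apply_symm_apply]
  exact Classical.choose_spec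
    (closed_mem_range p A B d hd (oneEquiv B (Ω[B⁄A]) ω) (cocycle_closed ω))

theorem Cfun_unique (ω : ↥(DeRham.cocycles d 1)) (x : ↥(⋀[B]^1 (Ω[B⁄A])))
    (h : gam A B p (oneEquiv B (Ω[B⁄A]) x) = cls A B p (oneEquiv B (Ω[B⁄A]) ω)) :
    Cfun p hd ω = x := by
  apply (oneEquiv B (Ω[B⁄A])).injective
  apply gam_injective p A B
  rw [Cfun_spec, h]

/-- The Cartier operator. -/
noncomputable def Cmap : ↥(DeRham.cocycles d 1) →+ ↥(⋀[B]^1 (Ω[B⁄A])) where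
  toFun := Cfun p hd
  map_zero' := Cfun_unique p hd _ _ (by
    rw [map_zero, map_zero, Submodule.coe_zero, map_zero, cls_zero])
  map_add' ω ω' := Cfun_unique p hd _ _ (by
    rw [map_add, map_add, Cfun_spec, Cfun_spec, Submodule.coe_add, map_add, cls_add])

theorem Cmap_apply (ω : ↥(DeRham.cocycles d 1)) : Cmap p hd ω = Cfun p hd ω := rfl

theorem isCartier_Cmap : IsCartier p A B d (Cmap p hd) := by
  refine ⟨fun f ω ω' h => ?_, fun ω => ⟨fun h => ?_, fun h => ?_⟩, fun f ω h => ?_⟩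
  · rw [Cmap_apply, Cmap_apply]
    apply Cfun_unique
    rw [map_smul, map_smul, Cfun_spec, smul_cls, h, map_smul]
  · rw [Cmap_apply] at h
    have h1 := Cfun_spec p hd ω
    rw [h, map_zero, map_zero] at h1
    obtain ⟨y, hy⟩ := (cls_eq_zero_iff A B p _).1 h1.symm
    rw [mem_cob_iff]
    refine ⟨(zeroEquiv B (Ω[B⁄A])).symm y, ?_⟩
    rw [d0_eq hd, hy, LinearEquiv.symm_apply_apply]
  · rw [mem_cob_iff] at h
    obtain ⟨y, hy⟩ := h
    rw [Cmap_apply]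
    apply Cfun_unique
    have : y = (zeroEquiv B (Ω[B⁄A])).symm (zeroEquiv B (Ω[B⁄A]) y) := by
      rw [LinearEquiv.symm_apply_apply]
    rw [map_zero, map_zero, ← hy, this, d0_eq hd, LinearEquiv.apply_symm_apply, cls_D]
  · rw [Cmap_apply]
    apply Cfun_unique
    rw [h, d0_eq hd, map_smul, LinearEquiv.apply_symm_apply, gam_D]

include hd in
theorem uniq (C₁ C₂ : ↥(DeRham.cocycles d 1) →+ ↥(⋀[B]^1 (Ω[B⁄A])))
    (h₁ : IsCartier p A B d C₁) (h₂ : IsCartier p A B d C₂) : C₁ = C₂ := by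
  have key : ∀ η : Ω[B⁄A], η ∈ Gs A B p →
      ∃ hcl : d 1 ((oneEquiv B (Ω[B⁄A])).symm η) = 0,
        C₁ (mkZ _ hcl) = C₂ (mkZ _ hcl) := by
    intro η hη
    induction hη using AddSubgroup.closure_induction with
    | mem x hx =>
      rcases hx with ⟨f, g, rfl⟩ | ⟨h, rfl⟩
      · refine ⟨closed_gen p hd f g, ?_⟩
        have e1 : ((mkZ _ (closed_gen p hd f g) : ↥(DeRham.cocycles d 1)) :
            ↥(⋀[B]^1 (Ω[B⁄A]))) = f ^ p • ((mkZ _ (closed_gen' p hd g) :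
              ↥(DeRham.cocycles d 1)) : ↥(⋀[B]^1 (Ω[B⁄A]))) := by
          change (oneEquiv B (Ω[B⁄A])).symm _ = f ^ p • (oneEquiv B (Ω[B⁄A])).symm _
          rw [mul_smul]
          exact (oneEquiv B (Ω[B⁄A])).symm.map_smul _ _
        have e3 : ((mkZ _ (closed_gen' p hd g) : ↥(DeRham.cocycles d 1)) :
            ↥(⋀[B]^1 (Ω[B⁄A]))) =
              g ^ (p - 1) • d 0 ((exteriorPower.zeroEquiv B (Ω[B⁄A])).symm g) := by
          change (oneEquiv B (Ω[B⁄A])).symm _ = _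
          rw [map_smul, d0_eq hd]
        rw [h₁.1 f _ _ e1, h₂.1 f _ _ e1, h₁.2.2 g _ e3, h₂.2.2 g _ e3]
      · refine ⟨closed_D hd h, ?_⟩
        have e2 : ((mkZ _ (closed_D hd h) : ↥(DeRham.cocycles d 1)) :
            ↥(⋀[B]^1 (Ω[B⁄A]))) ∈ DeRham.coboundaries d 1 := by
          rw [mem_cob_iff]
          exact ⟨(zeroEquiv B (Ω[B⁄A])).symm h, d0_eq hd h⟩
        rw [(h₁.2.1 _).2 e2, (h₂.2.1 _).2 e2]
    | zero =>
      refine ⟨by rw [map_zero, map_zero], ?_⟩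
      have : (mkZ ((oneEquiv B (Ω[B⁄A])).symm 0) (by rw [map_zero, map_zero]) :
          ↥(DeRham.cocycles d 1)) = 0 := Subtype.ext (map_zero _)
      rw [this, map_zero, map_zero]
    | add x y _ _ hx hy =>
      obtain ⟨hx1, hx2⟩ := hx
      obtain ⟨hy1, hy2⟩ := hy
      have hcl : d 1 ((oneEquiv B (Ω[B⁄A])).symm (x + y)) = 0 := by
        rw [map_add, map_add, hx1, hy1, add_zero]
      refine ⟨hcl, ?_⟩
      have : (mkZ _ hcl : ↥(DeRham.cocycles d 1)) = mkZ _ hx1 + mkZ _ hy1 :=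
        Subtype.ext (map_add _ _ _)
      rw [this, map_add, map_add, hx2, hy2]
    | neg x _ hx =>
      obtain ⟨hx1, hx2⟩ := hx
      have hcl : d 1 ((oneEquiv B (Ω[B⁄A])).symm (-x)) = 0 := by
        rw [map_neg, map_neg, hx1, neg_zero]
      refine ⟨hcl, ?_⟩
      have : (mkZ _ hcl : ↥(DeRham.cocycles d 1)) = -mkZ _ hx1 :=
        Subtype.ext (map_neg _ _)
      rw [this, C₁.map_neg, C₂.map_neg, hx2]
  refine AddMonoidHom.ext fun ω => ?_
  obtain ⟨hcl, h⟩ := key _ (closed_mem_Gs p A B d hd _ (cocycle_closed ω))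
  have : (mkZ _ hcl : ↥(DeRham.cocycles d 1)) = ω :=
    Subtype.ext (LinearEquiv.symm_apply_apply _ _)
  rwa [this] at h

end main

end Groth.Agent.Helper27.Ct
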