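import Mathlib

/-! Symmetric trilinear form attached to a homogeneous cubic polynomial. -/

namespace Groth.Agent.Helper27.Cubic
open MvPolynomial

variable {σ : Type*} [Fintype σ]

omit [Fintype σ] in
lemma pderiv_comm (i j : σ) (f : MvPolynomial σ ℂ) :
    pderiv i (pderiv j f) = pderiv j (pderiv i f) := by
  classical
  induction f using MvPolynomial.induction_on with
  | C a => simp
  | add p q hp hq => simp [hp, hq]
  | mul_X p k hp =>
    simp only [pderiv_mul, pderiv_X, map_add, hp]
    by_cases hik : i = k <;> by_cases hjk : j = k <;> simp [hik, hjk]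

/-- third derivative, a constant -/
noncomputable def c3 (f : MvPolynomial σ ℂ) (i j k : σ) : ℂ :=
  eval 0 (pderiv i (pderiv j (pderiv k f)))

omit [Fintype σ] in
lemma c3_swap12 (f : MvPolynomial σ ℂ) (i j k : σ) : c3 f i j k = c3 f j i k := by
  unfold c3; rw [pderiv_comm]

omit [Fintype σ] in
lemma c3_swap23 (f : MvPolynomial σ ℂ) (i j k : σ) : c3 f i j k = c3 f i k j := by
  unfold c3; rw [pderiv_comm j k]

/-- the trilinear form -/
noncomputable def tri (f : MvPolynomial σ ℂ) (u v w : σ → ℂ) : ℂ :=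
  (1 / 6 : ℂ) * ∑ i, ∑ j, ∑ k, c3 f i j k * u i * v j * w k

omit [Fintype σ] in
lemma eval_deg0 {g : MvPolynomial σ ℂ} (hg : g.IsHomogeneous 0) (v : σ → ℂ) :
    eval v g = eval 0 g := by
  rw [← totalDegree_zero_iff_isHomogeneous, totalDegree_eq_zero_iff_eq_C] at hg
  rw [hg]; simp

lemma euler_eval {g : MvPolynomial σ ℂ} {n : ℕ} (hg : g.IsHomogeneous n) (v : σ → ℂ) :
    ∑ i, v i * eval v (pderiv i g) = n * eval v g := by
  have := congrArg (eval v) hg.sum_X_mul_pderiv
  simpa using this

variable {f : MvPolynomial σ ℂ} (hf : f.IsHomogeneous 3)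
include hf

lemma eval_pderiv2 (j k : σ) (v : σ → ℂ) :
    eval v (pderiv j (pderiv k f)) = ∑ i, v i * c3 f i j k := by
  have h2 : (pderiv k f).IsHomogeneous 2 := hf.pderiv
  have h1 : (pderiv j (pderiv k f)).IsHomogeneous 1 := h2.pderiv
  have e := euler_eval h1 v
  simp only [Nat.cast_one, one_mul] at e
  rw [← e]
  apply Finset.sum_congr rfl
  intro i _
  rw [c3, eval_deg0 (h1.pderiv : (pderiv i (pderiv j (pderiv k f))).IsHomogeneous 0) v]

lemma eval_pderiv1 (k : σ) (v : σ → ℂ) :
    eval v (pderiv k f) = (1 / 2 : ℂ) * ∑ i, ∑ j, c3 f i j k * v i * v j := by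
  have h2 : (pderiv k f).IsHomogeneous 2 := hf.pderiv
  have e := euler_eval h2 v
  have : eval v (pderiv k f) = (1 / 2 : ℂ) * ∑ j, v j * eval v (pderiv j (pderiv k f)) := by
    rw [e]; push_cast; ring
  rw [this, Finset.sum_comm]
  congr 1
  apply Finset.sum_congr rfl
  intro j _
  rw [eval_pderiv2 hf, Finset.mul_sum]
  apply Finset.sum_congr rfl
  intro i _
  ring

lemma dir_deriv (v w : σ → ℂ) :
    ∑ k, w k * eval v (pderiv k f) = 3 * tri f v v w := by
  unfold tri
  simp_rw [eval_pderiv1 hf, Finset.mul_sum]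
  rw [Finset.sum_comm]
  apply Finset.sum_congr rfl
  intro i _
  rw [Finset.sum_comm]
  apply Finset.sum_congr rfl
  intro j _
  apply Finset.sum_congr rfl
  intro k _
  ring

lemma eval_eq_tri (v : σ → ℂ) : eval v f = tri f v v v := by
  have e := euler_eval hf v
  have : eval v f = (1 / 3 : ℂ) * ∑ k, v k * eval v (pderiv k f) := by
    rw [e]; push_cast; ring
  rw [this, dir_deriv hf]
  ring

end Groth.Agent.Helper27.Cubic
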