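import Mathlib
import Groth.Agent.Lib.Helper27.CubicA

/-! Abstract symmetric trilinear forms. -/

namespace Groth.Agent.Helper27.Cubic

/-- a symmetric trilinear form on `V` -/
structure Cub (V : Type*) [AddCommGroup V] [Module ℂ V] where
  F : V → V → V → ℂ
  add₁ : ∀ u u' v w, F (u + u') v w = F u v w + F u' v w
  smul₁ : ∀ (a : ℂ) u v w, F (a • u) v w = a * F u v w
  s12 : ∀ u v w, F u v w = F v u w
  s23 : ∀ u v w, F u v w = F u w v

namespace Cub
variable {V : Type*} [AddCommGroup V] [Module ℂ V] (T : Cub V)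

lemma s13 (u v w : V) : T.F u v w = T.F w v u := by
  rw [T.s12, T.s23, T.s12]

lemma add₂ (u v v' w : V) : T.F u (v + v') w = T.F u v w + T.F u v' w := by
  rw [T.s12, T.add₁, T.s12 v, T.s12 v']

lemma add₃ (u v w w' : V) : T.F u v (w + w') = T.F u v w + T.F u v w' := by
  rw [T.s13, T.add₁, T.s13 w, T.s13 w']

lemma smul₂ (a : ℂ) (u v w : V) : T.F u (a • v) w = a * T.F u v w := by
  rw [T.s12, T.smul₁, T.s12 v]

lemma smul₃ (a : ℂ) (u v w : V) : T.F u v (a • w) = a * T.F u v w := by
  rw [T.s13, T.smul₁, T.s13 w]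

lemma zero₁ (v w : V) : T.F 0 v w = 0 := by
  have := T.smul₁ 0 0 v w
  simpa using this

lemma zero₂ (u w : V) : T.F u 0 w = 0 := by rw [T.s12, T.zero₁]

lemma zero₃ (u v : V) : T.F u v 0 = 0 := by rw [T.s13, T.zero₁]

lemma neg₁ (u v w : V) : T.F (-u) v w = -T.F u v w := by
  have := T.smul₁ (-1) u v w
  simpa using this

lemma neg₂ (u v w : V) : T.F u (-v) w = -T.F u v w := by rw [T.s12, T.neg₁, T.s12 v]

lemma neg₃ (u v w : V) : T.F u v (-w) = -T.F u v w := by rw [T.s13, T.neg₁, T.s13 w]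

lemma sub₁ (u u' v w : V) : T.F (u - u') v w = T.F u v w - T.F u' v w := by
  rw [sub_eq_add_neg, T.add₁, T.neg₁]; ring

lemma sub₂ (u v v' w : V) : T.F u (v - v') w = T.F u v w - T.F u v' w := by
  rw [sub_eq_add_neg, T.add₂, T.neg₂]; ring

lemma sub₃ (u v w w' : V) : T.F u v (w - w') = T.F u v w - T.F u v w' := by
  rw [sub_eq_add_neg, T.add₃, T.neg₃]; ring

/-- the cubic form -/
def f (v : V) : ℂ := T.F v v v

lemma f_add (u v : V) : T.f (u + v) = T.f u + 3 * T.F u u v + 3 * T.F u v v + T.f v := by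
  unfold f
  simp only [T.add₁, T.add₂, T.add₃]
  rw [T.s12 v u u, T.s23 u v u, T.s12 v u v, T.s13 v v u]
  ring

lemma f_smul (a : ℂ) (v : V) : T.f (a • v) = a ^ 3 * T.f v := by
  unfold f
  simp only [T.smul₁, T.smul₂, T.smul₃]
  ring

lemma f_neg (v : V) : T.f (-v) = -T.f v := by
  have := T.f_smul (-1) v
  simp only [neg_smul, one_smul] at this
  rw [this]; ring

lemma f_zero : T.f 0 = 0 := by unfold f; rw [T.zero₁]

/-- expansion along a line -/
lemma f_line (u v : V) (t : ℂ) :
    T.f (u + t • v) = T.f u + 3 * t * T.F u u v + 3 * t ^ 2 * T.F u v v + t ^ 3 * T.f v := by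
  rw [T.f_add, T.smul₃, T.smul₂, T.smul₃, T.f_smul]
  ring

/-- polarization -/
lemma polar (u v w : V) :
    6 * T.F u v w = T.f (u + v + w) - T.f (u + v) - T.f (u + w) - T.f (v + w)
      + T.f u + T.f v + T.f w := by
  simp only [T.f_add, T.add₁, T.add₂]
  rw [T.s12 v u w]
  ring

/-- a linear map scaling the cubic scales the trilinear form -/
lemma polar_inv (φ : V →ₗ[ℂ] V) (c : ℂ) (h : ∀ v, T.f (φ v) = c * T.f v) (u v w : V) :
    T.F (φ u) (φ v) (φ w) = c * T.F u v w := by
  have h6 : (6 : ℂ) ≠ 0 := by norm_num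
  apply mul_left_cancel₀ h6
  rw [T.polar, ← mul_assoc, mul_comm 6 c, mul_assoc, T.polar]
  simp only [← map_add, h]
  ring

/-- vanishing of the cubic on a subspace implies vanishing of the form there -/
lemma F_eq_zero_of_f (W : Submodule ℂ V) (h : ∀ w ∈ W, T.f w = 0) (u v w : V)
    (hu : u ∈ W) (hv : v ∈ W) (hw : w ∈ W) : T.F u v w = 0 := by
  have h6 : (6 : ℂ) ≠ 0 := by norm_num
  have := T.polar u v w
  rw [h _ (W.add_mem (W.add_mem hu hv) hw), h _ (W.add_mem hu hv), h _ (W.add_mem hu hw),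
    h _ (W.add_mem hv hw), h _ hu, h _ hv, h _ hw] at this
  have h' : 6 * T.F u v w = 0 := by rw [this]; ring
  exact (mul_eq_zero.mp h').resolve_left h6

/-- smoothness of the cubic -/
def Smooth : Prop := ∀ v : V, v ≠ 0 → T.f v = 0 → ∃ w, T.F v v w ≠ 0

end Cub

/-- the trilinear form of a homogeneous cubic polynomial -/
noncomputable def ofPoly {σ : Type*} [Fintype σ] (f : MvPolynomial σ ℂ) : Cub (σ → ℂ) where
  F := tri f
  add₁ := by
    intro u u' v w
    unfold tri
    rw [← mul_add]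
    congr 1
    rw [← Finset.sum_add_distrib]
    apply Finset.sum_congr rfl
    intro i _
    rw [← Finset.sum_add_distrib]
    apply Finset.sum_congr rfl
    intro j _
    rw [← Finset.sum_add_distrib]
    apply Finset.sum_congr rfl
    intro k _
    simp only [Pi.add_apply]
    ring
  smul₁ := by
    intro a u v w
    unfold tri
    rw [mul_left_comm]
    congr 1
    rw [Finset.mul_sum]
    apply Finset.sum_congr rfl
    intro i _
    rw [Finset.mul_sum]
    apply Finset.sum_congr rfl
    intro j _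
    rw [Finset.mul_sum]
    apply Finset.sum_congr rfl
    intro k _
    simp only [Pi.smul_apply, smul_eq_mul]
    ring
  s12 := by
    intro u v w
    unfold tri
    congr 1
    rw [Finset.sum_comm]
    apply Finset.sum_congr rfl
    intro i _
    apply Finset.sum_congr rfl
    intro j _
    apply Finset.sum_congr rfl
    intro k _
    rw [c3_swap12]
    ring
  s23 := by
    intro u v w
    unfold tri
    congr 1
    apply Finset.sum_congr rfl
    intro i _
    rw [Finset.sum_comm]
    apply Finset.sum_congr rfl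
    intro j _
    apply Finset.sum_congr rfl
    intro k _
    rw [c3_swap23]
    ring

lemma ofPoly_f {σ : Type*} [Fintype σ] {f : MvPolynomial σ ℂ} (hf : f.IsHomogeneous 3)
    (v : σ → ℂ) : (ofPoly f).f v = MvPolynomial.eval v f := by
  rw [eval_eq_tri hf]; rfl

lemma ofPoly_dir {σ : Type*} [Fintype σ] {f : MvPolynomial σ ℂ} (hf : f.IsHomogeneous 3)
    (v w : σ → ℂ) :
    ∑ k, w k * MvPolynomial.eval v (MvPolynomial.pderiv k f) = 3 * (ofPoly f).F v v w :=
  dir_deriv hf v w

/-- smoothness in the sense of the statements implies smoothness of the form -/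
lemma ofPoly_smooth {σ : Type*} [Fintype σ] {f : MvPolynomial σ ℂ} (hf : f.IsHomogeneous 3)
    (hsm : ∀ v : σ → ℂ, v ≠ 0 → MvPolynomial.eval v f = 0 →
      ∃ i : σ, MvPolynomial.eval v (MvPolynomial.pderiv i f) ≠ 0) : (ofPoly f).Smooth := by
  classical
  intro v hv hfv
  rw [ofPoly_f hf] at hfv
  obtain ⟨i, hi⟩ := hsm v hv hfv
  refine ⟨Pi.single i 1, ?_⟩
  intro h
  apply hi
  have := ofPoly_dir hf v (Pi.single i 1)
  rw [h, mul_zero] at this
  rw [← this, Finset.sum_eq_single i]
  · simp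
  · intro j _ hj; simp [hj]
  · intro h'; exact absurd (Finset.mem_univ i) h'

end Groth.Agent.Helper27.Cubic
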