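import Mathlib
import Groth.Agent.Lib.Helper27.CubicB

/-! Matrices acting on cubic forms; reflections. -/

namespace Groth.Agent.Helper27.Cubic
open Matrix

variable {n : ℕ}

lemma eval_aeval_lin (A : Matrix (Fin n) (Fin n) ℂ) (f : MvPolynomial (Fin n) ℂ)
    (v : Fin n → ℂ) :
    MvPolynomial.eval v (MvPolynomial.aeval
      (fun i : Fin n => ∑ j : Fin n, MvPolynomial.C (A i j) * MvPolynomial.X j) f) =
      MvPolynomial.eval (A *ᵥ v) f := by
  induction f using MvPolynomial.induction_on with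
  | C a => simp
  | add p q hp hq => rw [map_add, map_add, map_add, hp, hq]
  | mul_X p k hp =>
    rw [map_mul, map_mul, map_mul, hp, MvPolynomial.aeval_X, MvPolynomial.eval_X]
    congr 1
    simp only [map_sum, map_mul, MvPolynomial.eval_C, MvPolynomial.eval_X]
    rfl

lemma bridge (A : Matrix (Fin n) (Fin n) ℂ) (f : MvPolynomial (Fin n) ℂ) (c : ℂ) :
    MvPolynomial.aeval (fun i : Fin n => ∑ j : Fin n, MvPolynomial.C (A i j) * MvPolynomial.X j) f
        = MvPolynomial.C c * f ↔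
      ∀ v, MvPolynomial.eval (A *ᵥ v) f = c * MvPolynomial.eval v f := by
  constructor
  · intro h v
    have := congrArg (MvPolynomial.eval v) h
    rw [eval_aeval_lin] at this
    simpa using this
  · intro h
    apply MvPolynomial.funext
    intro v
    rw [eval_aeval_lin, h v]
    simp

/-- a reflection-type involution is `v ↦ v - 2 m(v) p` -/
lemma refl_form (A : Matrix (Fin 4) (Fin 4) ℂ)
    (hfr : Module.finrank ℂ ↥(LinearMap.ker (Matrix.toLin' A - LinearMap.id)) = 3)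
    (p : Fin 4 → ℂ) (hp : p ≠ 0) (hAp : A *ᵥ p = -p) :
    ∃ m : (Fin 4 → ℂ) →ₗ[ℂ] ℂ, m p = 1 ∧ ∀ v, A *ᵥ v = v - (2 * m v) • p := by
  classical
  obtain ⟨φ, hφ⟩ : ∃ φ : (Fin 4 → ℂ) →ₗ[ℂ] (Fin 4 → ℂ), φ = Matrix.toLin' A - LinearMap.id :=
    ⟨_, rfl⟩
  rw [← hφ] at hfr
  have hφv : ∀ v, φ v = A *ᵥ v - v := by
    intro v; rw [hφ]; simp [Matrix.toLin'_apply]
  have hrank := LinearMap.finrank_range_add_finrank_ker φ
  rw [hfr] at hrank
  have hV : Module.finrank ℂ (Fin 4 → ℂ) = 4 := by simp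
  rw [hV] at hrank
  have hr1 : Module.finrank ℂ ↥(LinearMap.range φ) = 1 := by omega
  have hφp : φ p = (-2 : ℂ) • p := by
    rw [hφv, hAp]; module
  have hφp0 : φ p ≠ 0 := by
    rw [hφp]
    exact smul_ne_zero (by norm_num) hp
  have hnz : (⟨φ p, LinearMap.mem_range_self φ p⟩ : ↥(LinearMap.range φ)) ≠ 0 := by
    intro h
    exact hφp0 (congrArg Subtype.val h)
  have hspan := (finrank_eq_one_iff_of_nonzero' _ hnz).mp hr1
  -- a functional with g p = 1
  obtain ⟨i, hi⟩ : ∃ i, p i ≠ 0 := by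
    by_contra hcon
    push Not at hcon
    exact hp (funext hcon)
  let g : (Fin 4 → ℂ) →ₗ[ℂ] ℂ := (1 / p i) • LinearMap.proj i
  have hgp : g p = 1 := by
    simp only [g, LinearMap.smul_apply, LinearMap.proj_apply, smul_eq_mul]
    field_simp
  have hmem : ∀ v, φ v = (g (φ v) / (-2)) • φ p := by
    intro v
    obtain ⟨c, hc⟩ := hspan ⟨φ v, LinearMap.mem_range_self φ v⟩
    have hc' : c • φ p = φ v := congrArg Subtype.val hc
    rw [← hc', map_smul, hφp, map_smul, hgp]
    simp only [smul_eq_mul, mul_one]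
    rw [smul_smul, smul_smul]
    congr 1
    field_simp
  refine ⟨(-1 / 2 : ℂ) • (g ∘ₗ φ), ?_, ?_⟩
  · simp only [LinearMap.smul_apply, LinearMap.comp_apply, smul_eq_mul]
    rw [hφp, map_smul, hgp]
    simp only [smul_eq_mul, mul_one]
    norm_num
  · intro v
    have h1 := hmem v
    rw [hφp, hφv] at h1
    simp only [LinearMap.smul_apply, LinearMap.comp_apply, smul_eq_mul]
    rw [hφv]
    obtain ⟨d, hd⟩ : ∃ d, d = A *ᵥ v - v := ⟨_, rfl⟩
    have hAv : A *ᵥ v = v + d := by rw [hd]; abel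
    rw [← hd] at h1 ⊢
    rw [hAv, sub_eq_add_neg, ← neg_smul]
    congr 1
    nth_rewrite 1 [h1]
    rw [smul_smul]
    congr 1
    field_simp

end Groth.Agent.Helper27.Cubic
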