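import Mathlib
import Groth.Agent.Lib.Helper27.CubicC

/-! Reflections and the structure of a cubic form at a point with a reflection symmetry. -/

namespace Groth.Agent.Helper27.Cubic
open Matrix

section refl
variable {V : Type*} [AddCommGroup V] [Module ℂ V]

/-- the reflection `v ↦ v - 2 m(v) p` -/
noncomputable def reflL (m : V →ₗ[ℂ] ℂ) (p : V) : V →ₗ[ℂ] V :=
  LinearMap.id - (2 : ℂ) • m.smulRight p

lemma reflL_apply (m : V →ₗ[ℂ] ℂ) (p v : V) : reflL m p v = v - (2 * m v) • p := by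
  simp [reflL, LinearMap.smulRight_apply, smul_smul]

lemma reflL_p (m : V →ₗ[ℂ] ℂ) (p : V) (hmp : m p = 1) : reflL m p p = -p := by
  rw [reflL_apply, hmp]; module

lemma reflL_of_ker (m : V →ₗ[ℂ] ℂ) (p v : V) (hv : m v = 0) : reflL m p v = v := by
  rw [reflL_apply, hv]; simp

lemma reflL_sq (m : V →ₗ[ℂ] ℂ) (p : V) (hmp : m p = 1) : reflL m p ∘ₗ reflL m p = LinearMap.id := by
  ext v
  simp only [LinearMap.comp_apply, LinearMap.id_apply]
  rw [reflL_apply, reflL_apply, map_sub, map_smul, hmp]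
  simp only [smul_eq_mul, mul_one]
  module

end refl

/-- the reflection matrix -/
noncomputable def reflM (m : (Fin 4 → ℂ) →ₗ[ℂ] ℂ) (p : Fin 4 → ℂ) : Matrix (Fin 4) (Fin 4) ℂ :=
  LinearMap.toMatrix' (reflL m p)

lemma reflM_mulVec (m : (Fin 4 → ℂ) →ₗ[ℂ] ℂ) (p v : Fin 4 → ℂ) :
    reflM m p *ᵥ v = v - (2 * m v) • p := by
  rw [reflM, ← Matrix.toLin'_apply, Matrix.toLin'_toMatrix', reflL_apply]

lemma reflM_sq (m : (Fin 4 → ℂ) →ₗ[ℂ] ℂ) (p : Fin 4 → ℂ) (hmp : m p = 1) :
    reflM m p * reflM m p = 1 := by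
  rw [reflM, ← LinearMap.toMatrix'_comp, reflL_sq m p hmp, LinearMap.toMatrix'_id]

lemma reflM_p (m : (Fin 4 → ℂ) →ₗ[ℂ] ℂ) (p : Fin 4 → ℂ) (hmp : m p = 1) :
    reflM m p *ᵥ p = -p := by
  rw [reflM_mulVec, hmp]; module

lemma finrank_ker_functional (m : (Fin 4 → ℂ) →ₗ[ℂ] ℂ) (p : Fin 4 → ℂ) (hmp : m p = 1) :
    Module.finrank ℂ ↥(LinearMap.ker m) = 3 := by
  have hrank := LinearMap.finrank_range_add_finrank_ker m
  have hV : Module.finrank ℂ (Fin 4 → ℂ) = 4 := by simp
  have hr : LinearMap.range m = ⊤ := by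
    rw [LinearMap.range_eq_top]
    intro c
    exact ⟨c • p, by rw [map_smul, hmp, smul_eq_mul, mul_one]⟩
  rw [hr, finrank_top, Module.finrank_self, hV] at hrank
  omega

lemma reflM_finrank (m : (Fin 4 → ℂ) →ₗ[ℂ] ℂ) (p : Fin 4 → ℂ) (hmp : m p = 1) :
    Module.finrank ℂ ↥(LinearMap.ker (Matrix.toLin' (reflM m p) - LinearMap.id)) = 3 := by
  have hp : p ≠ 0 := by
    rintro rfl
    rw [map_zero] at hmp
    exact zero_ne_one hmp
  have : LinearMap.ker (Matrix.toLin' (reflM m p) - LinearMap.id) = LinearMap.ker m := by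
    ext v
    simp only [LinearMap.mem_ker, LinearMap.sub_apply, LinearMap.id_apply, Matrix.toLin'_apply]
    rw [reflM_mulVec]
    constructor
    · intro h
      have h' : (2 * m v) • p = 0 := by
        have : v - (2 * m v) • p - v = -((2 * m v) • p) := by abel
        rw [this] at h
        exact neg_eq_zero.mp h
      rcases smul_eq_zero.mp h' with h'' | h''
      · have h2 : (2 : ℂ) ≠ 0 := by norm_num
        exact (mul_eq_zero.mp h'').resolve_left h2
      · exact absurd h'' hp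
    · intro h
      rw [h]; simp
  rw [this]
  exact finrank_ker_functional m p hmp

lemma matrix_eq_of_mulVec (A B : Matrix (Fin 4) (Fin 4) ℂ) (h : ∀ v, A *ᵥ v = B *ᵥ v) : A = B := by
  apply Matrix.toLin'.injective
  apply LinearMap.ext
  intro v
  rw [Matrix.toLin'_apply, Matrix.toLin'_apply]
  exact h v

namespace Cub
variable {V : Type*} [AddCommGroup V] [Module ℂ V] (T : Cub V)

/-- the structure at `p` attached to the functional `m` -/
def Str (p : V) (m : V →ₗ[ℂ] ℂ) : Prop :=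
  m p = 1 ∧ ∀ u u', T.F p u u' = m u * T.F p p u' + m u' * T.F p p u

lemma Str.f_p {p : V} {m : V →ₗ[ℂ] ℂ} (h : T.Str p m) : T.f p = 0 := by
  have := h.2 p p
  rw [h.1] at this
  unfold f
  linear_combination -this

/-- expansion of the cubic in the presence of the structure -/
lemma Str.f_expand {p : V} {m : V →ₗ[ℂ] ℂ} (h : T.Str p m) (a : ℂ) (k : V) (hk : m k = 0) :
    T.f (a • p + k) = 3 * a ^ 2 * T.F p p k + T.f k := by
  rw [T.f_add, T.f_smul, h.f_p, T.smul₁, T.smul₂, T.smul₁]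
  have := h.2 k k
  rw [hk] at this
  rw [this]
  ring

lemma Str.inv {p : V} {m : V →ₗ[ℂ] ℂ} (h : T.Str p m) (v : V) :
    T.f (v - (2 * m v) • p) = T.f v := by
  obtain ⟨k, hkdef⟩ : ∃ k, k = v - m v • p := ⟨_, rfl⟩
  have hk : m k = 0 := by
    rw [hkdef, map_sub, map_smul, h.1]; simp
  have e1 : v - (2 * m v) • p = (-(m v)) • p + k := by rw [hkdef]; module
  have e2 : v = (m v) • p + k := by rw [hkdef]; module
  rw [e1]
  conv_rhs => rw [e2]
  rw [h.f_expand T _ _ hk, h.f_expand T _ _ hk]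
  ring

lemma str_of_inv (hsm : T.Smooth) (p : V) (hp : p ≠ 0) (hfp : T.f p = 0) (m : V →ₗ[ℂ] ℂ)
    (hmp : m p = 1) (c : ℂ) (hinv : ∀ v, T.f (v - (2 * m v) • p) = c * T.f v) : T.Str p m := by
  have hpol := T.polar_inv (reflL m p) c (by intro v; rw [reflL_apply]; exact hinv v)
  obtain ⟨w, hw⟩ := hsm p hp hfp
  have hfp' : T.F p p p = 0 := hfp
  have hc : c = 1 := by
    have := hpol p p w
    rw [reflL_p m p hmp, reflL_apply, T.neg₁, T.neg₂, T.sub₃, T.smul₃, hfp'] at this
    have h2 : (c - 1) * T.F p p w = 0 := by linear_combination -this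
    have := (mul_eq_zero.mp h2).resolve_right hw
    linear_combination this
  subst hc
  have hker : ∀ h h', m h = 0 → m h' = 0 → T.F p h h' = 0 := by
    intro h h' hh hh'
    have := hpol p h h'
    rw [reflL_p m p hmp, reflL_of_ker m p h hh, reflL_of_ker m p h' hh', T.neg₁] at this
    linear_combination (-1 / 2 : ℂ) * this
  refine ⟨hmp, ?_⟩
  intro u u'
  have hk : m (u - m u • p) = 0 := by rw [map_sub, map_smul, hmp]; simp
  have hk' : m (u' - m u' • p) = 0 := by rw [map_sub, map_smul, hmp]; simp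
  have e := hker _ _ hk hk'
  simp only [T.sub₂, T.sub₃, T.smul₂, T.smul₃, hfp'] at e
  rw [T.s23 p u p] at e
  linear_combination e

lemma str_unique (hsm : T.Smooth) (p : V) (hp : p ≠ 0) (m m' : V →ₗ[ℂ] ℂ)
    (h : T.Str p m) (h' : T.Str p m') : m = m' := by
  obtain ⟨w, hw⟩ := hsm p hp h.f_p
  have key : ∀ u u', (m u - m' u) * T.F p p u' + (m u' - m' u') * T.F p p u = 0 := by
    intro u u'
    have e1 := h.2 u u'
    have e2 := h'.2 u u'
    linear_combination e2 - e1
  have hw0 : m w - m' w = 0 := by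
    have := key w w
    have h2 : (2 * T.F p p w) * (m w - m' w) = 0 := by linear_combination this
    exact (mul_eq_zero.mp h2).resolve_left (mul_ne_zero (by norm_num) hw)
  ext u
  have := key u w
  rw [hw0, zero_mul, add_zero] at this
  have := (mul_eq_zero.mp this).resolve_right hw
  linear_combination this

end Cub

end Groth.Agent.Helper27.Cubic
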