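import Mathlib
import Groth.Agent.Lib.Helper27.CubicD

/-! A point with a reflection structure lies on three lines (Eckardt point). -/

namespace Groth.Agent.Helper27.Cubic

section roots
open Polynomial

lemma exists_cubic_root (a0 a1 a2 a3 : ℂ) (h3 : a3 ≠ 0) :
    ∃ r : ℂ, a0 + a1 * r + a2 * r ^ 2 + a3 * r ^ 3 = 0 := by
  have hdeg : (C a3 * X ^ 3 + C a2 * X ^ 2 + C a1 * X + C a0 : ℂ[X]).degree ≠ 0 := by
    rw [Polynomial.degree_cubic h3]; norm_num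
  obtain ⟨r, hr⟩ := IsAlgClosed.exists_root _ hdeg
  refine ⟨r, ?_⟩
  simp only [IsRoot.def, eval_add, eval_mul, eval_C, eval_pow, eval_X] at hr
  linear_combination hr

lemma exists_quad_root (a0 a1 a2 : ℂ) (h2 : a2 ≠ 0) :
    ∃ r : ℂ, a0 + a1 * r + a2 * r ^ 2 = 0 := by
  have hdeg : (C a2 * X ^ 2 + C a1 * X + C a0 : ℂ[X]).degree ≠ 0 := by
    rw [Polynomial.degree_quadratic h2]; norm_num
  obtain ⟨r, hr⟩ := IsAlgClosed.exists_root _ hdeg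
  refine ⟨r, ?_⟩
  simp only [IsRoot.def, eval_add, eval_mul, eval_C, eval_pow, eval_X] at hr
  linear_combination hr

lemma cubic3 (a0 a1 a2 a3 : ℂ) (h3 : a3 ≠ 0)
    (hsep : ∀ r : ℂ, a0 + a1 * r + a2 * r ^ 2 + a3 * r ^ 3 = 0 →
      a1 + 2 * a2 * r + 3 * a3 * r ^ 2 ≠ 0) :
    ∃ r1 r2 r3 : ℂ, r1 ≠ r2 ∧ r1 ≠ r3 ∧ r2 ≠ r3 ∧
      a0 + a1 * r1 + a2 * r1 ^ 2 + a3 * r1 ^ 3 = 0 ∧
      a0 + a1 * r2 + a2 * r2 ^ 2 + a3 * r2 ^ 3 = 0 ∧
      a0 + a1 * r3 + a2 * r3 ^ 2 + a3 * r3 ^ 3 = 0 := by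
  obtain ⟨r1, hr1⟩ := exists_cubic_root a0 a1 a2 a3 h3
  obtain ⟨r2, hr2⟩ := exists_quad_root (a1 + a2 * r1 + a3 * r1 ^ 2) (a2 + a3 * r1) a3 h3
  obtain ⟨r3, hr3⟩ : ∃ r3 : ℂ, r3 = -(a2 + a3 * r1) / a3 - r2 := ⟨_, rfl⟩
  have hsum : a2 = -a3 * (r1 + r2 + r3) := by
    rw [hr3]; field_simp; ring
  have hprod : a1 = a3 * (r1 * r2 + r1 * r3 + r2 * r3) := by
    rw [hsum] at hr2
    linear_combination hr2
  have h0 : a0 = -a3 * (r1 * r2 * r3) := by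
    rw [hsum, hprod] at hr1
    linear_combination hr1
  have q2 : a0 + a1 * r2 + a2 * r2 ^ 2 + a3 * r2 ^ 3 = 0 := by
    rw [h0, hprod, hsum]; ring
  have q3 : a0 + a1 * r3 + a2 * r3 ^ 2 + a3 * r3 ^ 3 = 0 := by
    rw [h0, hprod, hsum]; ring
  refine ⟨r1, r2, r3, ?_, ?_, ?_, hr1, q2, q3⟩
  · intro h
    apply hsep r1 hr1
    rw [hprod, hsum, ← h]; ring
  · intro h
    apply hsep r1 hr1
    rw [hprod, hsum, ← h]; ring
  · intro h
    apply hsep r2 q2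
    rw [hprod, hsum, ← h]; ring


end roots

lemma two_functionals (m ℓ : (Fin 4 → ℂ) →ₗ[ℂ] ℂ) (p u₀ : Fin 4 → ℂ) (hmp : m p = 1)
    (hℓp : ℓ p = 0) (hmu : m u₀ = 0) (hℓu : ℓ u₀ = 1) :
    Module.finrank ℂ ↥(LinearMap.ker m ⊓ LinearMap.ker ℓ) = 2 := by
  rw [← LinearMap.ker_prod]
  have hrank := LinearMap.finrank_range_add_finrank_ker (m.prod ℓ)
  have hV : Module.finrank ℂ (Fin 4 → ℂ) = 4 := by simp
  have hr : LinearMap.range (m.prod ℓ) = ⊤ := by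
    rw [LinearMap.range_eq_top]
    rintro ⟨a, b⟩
    refine ⟨a • p + b • u₀, ?_⟩
    simp [hmp, hℓp, hmu, hℓu]
  rw [hr, finrank_top, hV] at hrank
  have : Module.finrank ℂ (ℂ × ℂ) = 2 := by simp
  omega

lemma exists_pair_basis {V : Type*} [AddCommGroup V] [Module ℂ V] (K : Submodule ℂ V)
    (hK : Module.finrank ℂ ↥K = 2) (k2 : V) (hk2 : k2 ∈ K) (hk20 : k2 ≠ 0) :
    ∃ k1 ∈ K, (∀ x y : ℂ, x • k1 + y • k2 = 0 → x = 0 ∧ y = 0) ∧
      ∀ k ∈ K, ∃ x y : ℂ, k = x • k1 + y • k2 := by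
  have hx : (⟨k2, hk2⟩ : K) ≠ 0 := fun h => hk20 (congrArg Subtype.val h)
  obtain ⟨y, hli⟩ := exists_linearIndependent_pair_of_one_lt_finrank (by rw [hK]; norm_num) hx
  have hcard : Fintype.card (Fin 2) = Module.finrank ℂ ↥K := by simp [hK]
  let b := basisOfLinearIndependentOfCardEqFinrank hli hcard
  have hb : ⇑b = ![⟨k2, hk2⟩, y] := coe_basisOfLinearIndependentOfCardEqFinrank hli hcard
  refine ⟨y, y.2, ?_, ?_⟩
  · intro s t hst
    have := (LinearIndependent.pair_iff.mp hli) t s (by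
      apply Subtype.ext
      simp only [Submodule.coe_add, Submodule.coe_smul, Submodule.coe_zero]
      rw [add_comm]; exact hst)
    exact ⟨this.2, this.1⟩
  · intro k hk
    have := b.sum_repr ⟨k, hk⟩
    rw [Fin.sum_univ_two, hb] at this
    simp only [Matrix.cons_val_zero, Matrix.cons_val_one] at this
    refine ⟨b.repr ⟨k, hk⟩ 1, b.repr ⟨k, hk⟩ 0, ?_⟩
    have h2 := congrArg Subtype.val this
    simp only [Submodule.coe_add, Submodule.coe_smul] at h2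
    rw [add_comm]; exact h2.symm


namespace Cub
variable {V : Type*} [AddCommGroup V] [Module ℂ V] (T : Cub V)

/-- the functional `F u v ·` -/
def lin (u v : V) : V →ₗ[ℂ] ℂ where
  toFun w := T.F u v w
  map_add' := T.add₃ u v
  map_smul' a w := by simp [T.smul₃]

@[simp] lemma lin_apply (u v w : V) : T.lin u v w = T.F u v w := rfl

end Cub

end Groth.Agent.Helper27.Cubic
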