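import Mathlib
import Groth.Agent.Lib.Helper27.CubicE

/-! A point with a reflection structure is an Eckardt point. -/

namespace Groth.Agent.Helper27.Cubic

/-- Part 1: the cubic does not vanish identically on `ker m ⊓ ker ℓ`. -/
lemma str_exists_nonzero (T : Cub (Fin 4 → ℂ)) (hsm : T.Smooth) (p : Fin 4 → ℂ)
    (m : (Fin 4 → ℂ) →ₗ[ℂ] ℂ) (h : T.Str p m) (u₀ : Fin 4 → ℂ)
    (hu₀ℓ : T.F p p u₀ = 1)
    (hK2 : Module.finrank ℂ ↥(LinearMap.ker m ⊓ LinearMap.ker (T.lin p p)) = 2) :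
    ∃ k, m k = 0 ∧ T.F p p k = 0 ∧ T.f k ≠ 0 := by
  have hmp := h.1
  have hB := h.2
  have hfp : T.F p p p = 0 := h.f_p
  by_contra hcon
  push Not at hcon
  have hT : ∀ t ∈ LinearMap.ker (T.lin p p), T.f t = 0 := by
    intro t ht
    have ht' : T.F p p t = 0 := ht
    have hk : m (t - m t • p) = 0 := by rw [map_sub, map_smul, hmp]; simp
    have hk' : T.F p p (t - m t • p) = 0 := by rw [T.sub₃, T.smul₃, hfp, ht']; ring
    have e : t = m t • p + (t - m t • p) := by module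
    rw [e, h.f_expand T _ _ hk, hk', hcon _ hk hk']; ring
  obtain ⟨k₁, hk₁0⟩ : ∃ k₁ : ↥(LinearMap.ker m ⊓ LinearMap.ker (T.lin p p)), k₁ ≠ 0 := by
    apply (Module.finrank_pos_iff_exists_ne_zero (R := ℂ)).mp; rw [hK2]; norm_num
  obtain ⟨k, hkK⟩ := k₁
  have hk0 : k ≠ 0 := fun h0 => hk₁0 (Subtype.ext h0)
  have hkm : m k = 0 := (Submodule.mem_inf.mp hkK).1
  have hkℓ : T.F p p k = 0 := (Submodule.mem_inf.mp hkK).2
  obtain ⟨x, hx⟩ := IsAlgClosed.exists_pow_nat_eq (-(T.F k k u₀)) (n := 2) (by norm_num)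
  obtain ⟨w₀, hw₀⟩ : ∃ w₀, w₀ = x • p + k := ⟨_, rfl⟩
  have hw₀ne : w₀ ≠ 0 := by
    intro h0
    have h1 : m w₀ = 0 := by rw [h0, map_zero]
    rw [hw₀, map_add, map_smul, hmp, hkm] at h1
    have hx0 : x = 0 := by simpa using h1
    rw [hw₀, hx0, zero_smul, zero_add] at h0
    exact hk0 h0
  have hw₀T : w₀ ∈ LinearMap.ker (T.lin p p) := by
    show T.F p p w₀ = 0
    rw [hw₀, T.add₃, T.smul₃, hfp, hkℓ]; ring
  have hfw₀ : T.f w₀ = 0 := hT w₀ hw₀T
  obtain ⟨v, hv⟩ := hsm w₀ hw₀ne hfw₀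
  apply hv
  have ht : v - T.F p p v • u₀ ∈ LinearMap.ker (T.lin p p) := by
    show T.F p p (v - T.F p p v • u₀) = 0
    rw [T.sub₃, T.smul₃, hu₀ℓ]; ring
  have e : v = T.F p p v • u₀ + (v - T.F p p v • u₀) := by module
  rw [e, T.add₃, T.smul₃, T.F_eq_zero_of_f _ hT _ _ _ hw₀T hw₀T ht, add_zero]
  have hpk : T.F p k u₀ = 0 := by rw [hB, hkm, hkℓ]; ring
  have : T.F w₀ w₀ u₀ = 0 := by
    rw [hw₀]
    simp only [T.add₁, T.add₂, T.smul₁, T.smul₂]
    rw [hu₀ℓ, T.s12 k p u₀, hpk]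
    linear_combination hx
  rw [this, mul_zero]

/-- Part 2: no double zero. -/
lemma str_no_double (T : Cub (Fin 4 → ℂ)) (hsm : T.Smooth) (p : Fin 4 → ℂ)
    (m : (Fin 4 → ℂ) →ₗ[ℂ] ℂ) (h : T.Str p m) (u₀ : Fin 4 → ℂ) (hu₀m : m u₀ = 0)
    (hu₀ℓ : T.F p p u₀ = 1) (k₀ : Fin 4 → ℂ) (hk₀ : k₀ ≠ 0) (hk₀m : m k₀ = 0)
    (hk₀ℓ : T.F p p k₀ = 0)
    (hdbl : ∀ k, m k = 0 → T.F p p k = 0 → T.F k₀ k₀ k = 0) : False := by
  have hmp := h.1
  have hB := h.2
  have hfp : T.F p p p = 0 := h.f_p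
  obtain ⟨s, hs⟩ := IsAlgClosed.exists_pow_nat_eq (-(T.F k₀ k₀ u₀)) (n := 2) (by norm_num)
  obtain ⟨v₀, hv₀⟩ : ∃ v₀, v₀ = s • p + k₀ := ⟨_, rfl⟩
  have hv₀ne : v₀ ≠ 0 := by
    intro h0
    have h1 : m v₀ = 0 := by rw [h0, map_zero]
    rw [hv₀, map_add, map_smul, hmp, hk₀m] at h1
    have hs0 : s = 0 := by simpa using h1
    rw [hv₀, hs0, zero_smul, zero_add] at h0
    exact hk₀ h0
  have hpk₀ : ∀ w, T.F p k₀ w = 0 := by
    intro w; rw [hB, hk₀m, hk₀ℓ]; ring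
  have hall : ∀ w, T.F v₀ v₀ w = 0 := by
    intro w
    obtain ⟨k, hk⟩ : ∃ k, k = w - m w • p - T.F p p w • u₀ := ⟨_, rfl⟩
    have hkm : m k = 0 := by
      rw [hk, map_sub, map_sub, map_smul, map_smul, hmp, hu₀m]; simp
    have hkℓ : T.F p p k = 0 := by
      rw [hk, T.sub₃, T.sub₃, T.smul₃, T.smul₃, hfp, hu₀ℓ]; ring
    have e : w = m w • p + T.F p p w • u₀ + k := by rw [hk]; module
    have h1 : T.F k₀ k₀ w = T.F p p w * T.F k₀ k₀ u₀ := by
      conv_lhs => rw [e]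
      rw [T.add₃, T.add₃, T.smul₃, T.smul₃, hdbl k hkm hkℓ, T.s13 k₀ k₀ p, hpk₀]
      ring
    rw [hv₀]
    simp only [T.add₁, T.add₂, T.smul₁, T.smul₂]
    rw [T.s12 k₀ p w, hpk₀, h1]
    linear_combination (T.F p p w) * hs
  have hfv₀ : T.f v₀ = 0 := hall v₀
  obtain ⟨w, hw⟩ := hsm v₀ hv₀ne hfv₀
  exact hw (hall w)

/-- A point with a reflection structure is an Eckardt point. -/
theorem eckardt_of_str (T : Cub (Fin 4 → ℂ)) (hsm : T.Smooth) (p : Fin 4 → ℂ) (hp : p ≠ 0)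
    (m : (Fin 4 → ℂ) →ₗ[ℂ] ℂ) (h : T.Str p m) :
    ∃ U : Fin 3 → Submodule ℂ (Fin 4 → ℂ), Function.Injective U ∧
      ∀ i : Fin 3, Module.finrank ℂ ↥(U i) = 2 ∧ p ∈ U i ∧ ∀ u ∈ U i, T.f u = 0 := by
  have hmp := h.1
  have hB := h.2
  have hfp : T.F p p p = 0 := h.f_p
  obtain ⟨w, hw⟩ := hsm p hp h.f_p
  obtain ⟨u₀, hu₀m, hu₀ℓ⟩ : ∃ u₀, m u₀ = 0 ∧ T.F p p u₀ = 1 := by
    refine ⟨(1 / T.F p p w) • (w - m w • p), ?_, ?_⟩
    · rw [map_smul, map_sub, map_smul, hmp]; simp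
    · rw [T.smul₃, T.sub₃, T.smul₃, hfp]; field_simp; ring
  have hK2 := two_functionals m (T.lin p p) p u₀ hmp hfp hu₀m hu₀ℓ
  obtain ⟨k2, hk2m, hk2ℓ, hfk2⟩ := str_exists_nonzero T hsm p m h u₀ hu₀ℓ hK2
  have hk20 : k2 ≠ 0 := by rintro rfl; exact hfk2 T.f_zero
  have hk2K : k2 ∈ LinearMap.ker m ⊓ LinearMap.ker (T.lin p p) :=
    Submodule.mem_inf.mpr ⟨hk2m, hk2ℓ⟩
  obtain ⟨k1, hk1K, hind, hspan⟩ := exists_pair_basis _ hK2 k2 hk2K hk20
  have hk1m : m k1 = 0 := (Submodule.mem_inf.mp hk1K).1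
  have hk1ℓ : T.F p p k1 = 0 := (Submodule.mem_inf.mp hk1K).2
  obtain ⟨r1, r2, r3, h12, h13, h23, q1, q2, q3⟩ := cubic3 (T.f k1) (3 * T.F k1 k1 k2)
    (3 * T.F k1 k2 k2) (T.f k2) hfk2 (by
    intro r hr hr'
    obtain ⟨h₀, hh₀⟩ : ∃ h₀, h₀ = k1 + r • k2 := ⟨_, rfl⟩
    have e2 : T.F h₀ h₀ k2 = 0 := by
      rw [hh₀]
      simp only [T.add₁, T.add₂, T.smul₁, T.smul₂]
      rw [T.s12 k2 k1 k2]
      unfold Cub.f at hr'
      linear_combination (1 / 3 : ℂ) * hr'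
    have e0 : T.F h₀ h₀ h₀ = 0 := by
      have : T.f h₀ = 0 := by rw [hh₀, T.f_line]; linear_combination hr
      exact this
    have e1 : T.F h₀ h₀ k1 = 0 := by
      have : k1 = h₀ - r • k2 := by rw [hh₀]; module
      rw [this, T.sub₃, T.smul₃, e0, e2]; ring
    apply str_no_double T hsm p m h u₀ hu₀m hu₀ℓ h₀ ?_ ?_ ?_ ?_
    · intro h0
      have := hind 1 r (by rw [one_smul, ← hh₀]; exact h0)
      exact one_ne_zero this.1
    · rw [hh₀, map_add, map_smul, hk1m, hk2m]; simp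
    · rw [hh₀, T.add₃, T.smul₃, hk1ℓ, hk2ℓ]; ring
    · intro k hkm hkℓ
      obtain ⟨x, y, rfl⟩ := hspan k (Submodule.mem_inf.mpr ⟨hkm, hkℓ⟩)
      rw [T.add₃, T.smul₃, T.smul₃, e1, e2]; ring)
  -- the three roots as a function
  obtain ⟨r, hr⟩ : ∃ r : Fin 3 → ℂ, r = ![r1, r2, r3] := ⟨_, rfl⟩
  have hrinj : Function.Injective r := by
    rw [hr]
    intro i j hij
    fin_cases i <;> fin_cases j
    · rfl
    · exact absurd hij h12
    · exact absurd hij h13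
    · exact absurd hij.symm h12
    · rfl
    · exact absurd hij h23
    · exact absurd hij.symm h13
    · exact absurd hij.symm h23
    · rfl
  have hroot : ∀ i, T.f (k1 + r i • k2) = 0 := by
    intro i
    rw [T.f_line, hr]
    fin_cases i
    · simp only [Fin.zero_eta, Matrix.cons_val_zero]; linear_combination q1
    · simp only [Fin.mk_one, Matrix.cons_val_one, Matrix.cons_val_zero]; linear_combination q2
    · simp only [Fin.reduceFinMk, Matrix.cons_val_two, Matrix.tail_cons, Matrix.head_cons]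
      linear_combination q3
  have hhm : ∀ i, m (k1 + r i • k2) = 0 := by
    intro i; rw [map_add, map_smul, hk1m, hk2m]; simp
  have hhℓ : ∀ i, T.F p p (k1 + r i • k2) = 0 := by
    intro i; rw [T.add₃, T.smul₃, hk1ℓ, hk2ℓ]; ring
  have hhne : ∀ i, k1 + r i • k2 ≠ 0 := by
    intro i h0
    have := hind 1 (r i) (by rw [one_smul]; exact h0)
    exact one_ne_zero this.1
  have hmemU : ∀ i u, u ∈ Submodule.span ℂ (Set.range ![p, k1 + r i • k2]) →
      ∃ a b : ℂ, u = a • p + b • (k1 + r i • k2) := by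
    intro i u hu
    obtain ⟨c, hc⟩ := (Submodule.mem_span_range_iff_exists_fun ℂ).mp hu
    rw [Fin.sum_univ_two] at hc
    exact ⟨c 0, c 1, by simpa using hc.symm⟩
  refine ⟨fun i => Submodule.span ℂ (Set.range ![p, k1 + r i • k2]), ?_, ?_⟩
  · intro i j hij
    have hmem : k1 + r j • k2 ∈ Submodule.span ℂ (Set.range ![p, k1 + r i • k2]) := by
      have : k1 + r j • k2 ∈ Submodule.span ℂ (Set.range ![p, k1 + r j • k2]) :=
        Submodule.subset_span ⟨1, by simp⟩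
      rw [show (Submodule.span ℂ (Set.range ![p, k1 + r i • k2])) =
        Submodule.span ℂ (Set.range ![p, k1 + r j • k2]) from hij]
      exact this
    obtain ⟨a, b, hab⟩ := hmemU i _ hmem
    have ha : a = 0 := by
      have := congrArg m hab
      rw [hhm, map_add, map_smul, map_smul, hmp, hhm] at this
      simpa using this.symm
    rw [ha, zero_smul, zero_add] at hab
    have := hind (1 - b) (r j - b * r i) (by
      have e : (1 - b) • k1 + (r j - b * r i) • k2 = (k1 + r j • k2) - b • (k1 + r i • k2) := by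
        module
      rw [e, hab]; simp)
    have hb : b = 1 := by linear_combination -this.1
    have hrr : r j = r i := by
      have := this.2
      rw [hb] at this
      linear_combination this
    exact (hrinj hrr).symm
  · intro i
    refine ⟨?_, Submodule.subset_span ⟨0, by simp⟩, ?_⟩
    · have hli : LinearIndependent ℂ ![p, k1 + r i • k2] := by
        rw [LinearIndependent.pair_iff]
        intro s t hst
        have hs : s = 0 := by
          have := congrArg m hst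
          rw [map_add, map_smul, map_smul, hmp, hhm, map_zero] at this
          simpa using this
        rw [hs, zero_smul, zero_add] at hst
        rcases smul_eq_zero.mp hst with ht | ht
        · exact ⟨hs, ht⟩
        · exact absurd ht (hhne i)
      rw [finrank_span_eq_card hli]
      simp
    · intro u hu
      obtain ⟨a, b, rfl⟩ := hmemU i u hu
      have hbm : m (b • (k1 + r i • k2)) = 0 := by rw [map_smul, hhm]; simp
      rw [h.f_expand T a _ hbm, T.smul₃, hhℓ, T.f_smul, hroot]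
      ring

end Groth.Agent.Helper27.Cubic
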