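import Mathlib
import Groth.Agent.Lib.Helper27.CubicF

/-! An Eckardt point carries a reflection structure. -/

namespace Groth.Agent.Helper27.Cubic

lemma exists_triple_span {V : Type*} [AddCommGroup V] [Module ℂ V] (K : Submodule ℂ V)
    (hK : Module.finrank ℂ ↥K = 3) (a b c : V) (ha : a ∈ K) (hb : b ∈ K) (hc : c ∈ K)
    (hli : ∀ x y z : ℂ, x • a + y • b + z • c = 0 → x = 0 ∧ y = 0 ∧ z = 0) :
    ∀ k ∈ K, ∃ x y z : ℂ, k = x • a + y • b + z • c := by
  have hli' : LinearIndependent ℂ ![(⟨a, ha⟩ : K), ⟨b, hb⟩, ⟨c, hc⟩] := by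
    rw [Fintype.linearIndependent_iff]
    intro g hg
    rw [Fin.sum_univ_three] at hg
    have hg' := congrArg Subtype.val hg
    simp only [Matrix.cons_val_zero, Matrix.cons_val_one, Matrix.cons_val_two,
      Matrix.tail_cons, Matrix.head_cons, Submodule.coe_add, Submodule.coe_smul,
      Submodule.coe_zero] at hg'
    obtain ⟨h0, h1, h2⟩ := hli _ _ _ hg'
    intro i
    fin_cases i
    · exact h0
    · exact h1
    · exact h2
  have hcard : Fintype.card (Fin 3) = Module.finrank ℂ ↥K := by simp [hK]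
  let bs := basisOfLinearIndependentOfCardEqFinrank hli' hcard
  have hbs : ⇑bs = ![(⟨a, ha⟩ : K), ⟨b, hb⟩, ⟨c, hc⟩] :=
    coe_basisOfLinearIndependentOfCardEqFinrank hli' hcard
  intro k hk
  have := bs.sum_repr ⟨k, hk⟩
  rw [Fin.sum_univ_three, hbs] at this
  simp only [Matrix.cons_val_zero, Matrix.cons_val_one, Matrix.cons_val_two,
    Matrix.tail_cons, Matrix.head_cons] at this
  have h2 := congrArg Subtype.val this
  simp only [Submodule.coe_add, Submodule.coe_smul] at h2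
  exact ⟨_, _, _, h2.symm⟩

theorem str_of_eckardt (T : Cub (Fin 4 → ℂ)) (hsm : T.Smooth) (e : Fin 4 → ℂ) (he : e ≠ 0)
    (U : Fin 3 → Submodule ℂ (Fin 4 → ℂ)) (hUinj : Function.Injective U)
    (hU : ∀ i : Fin 3, Module.finrank ℂ ↥(U i) = 2 ∧ e ∈ U i ∧ ∀ u ∈ U i, T.f u = 0) :
    ∃ m : (Fin 4 → ℂ) →ₗ[ℂ] ℂ, T.Str e m := by
  have hfe : T.f e = 0 := (hU 0).2.2 e (hU 0).2.1
  have hfe' : T.F e e e = 0 := hfe
  -- step b
  have hb : ∀ i, ∀ u ∈ U i, T.F e e u = 0 ∧ T.F e u u = 0 := by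
    intro i u hu
    have h1 := (hU i).2.2 (e + (1 : ℂ) • u) ((U i).add_mem (hU i).2.1 ((U i).smul_mem _ hu))
    have h2 := (hU i).2.2 (e + (-1 : ℂ) • u) ((U i).add_mem (hU i).2.1 ((U i).smul_mem _ hu))
    rw [T.f_line, hfe, (hU i).2.2 u hu] at h1 h2
    constructor
    · linear_combination (1 / 6 : ℂ) * h1 - (1 / 6 : ℂ) * h2
    · linear_combination (1 / 6 : ℂ) * h1 + (1 / 6 : ℂ) * h2
  -- step c
  have hc : ∀ i, ∃ u ∈ U i, (∀ x y : ℂ, x • u + y • e = 0 → x = 0 ∧ y = 0) ∧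
      ∀ k ∈ U i, ∃ x y : ℂ, k = x • u + y • e :=
    fun i => exists_pair_basis (U i) (hU i).1 e (hU i).2.1 he
  choose u huU hind hspan using hc
  -- step d
  have hd : ∀ i j, i ≠ j → u j ∉ U i := by
    intro i j hij hmem
    apply hij
    apply hUinj
    symm
    apply Submodule.eq_of_le_of_finrank_eq
    · intro k hk
      obtain ⟨x, y, rfl⟩ := hspan j k hk
      exact (U i).add_mem ((U i).smul_mem _ hmem) ((U i).smul_mem _ (hU i).2.1)
    · rw [(hU i).1, (hU j).1]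
  -- step e
  obtain ⟨w, hw⟩ := hsm e he hfe
  obtain ⟨x₀, hx₀⟩ : ∃ x₀, T.F e e x₀ = 1 := by
    refine ⟨(1 / T.F e e w) • w, ?_⟩
    rw [T.smul₃]; field_simp
  have hT3 : Module.finrank ℂ ↥(LinearMap.ker (T.lin e e)) = 3 :=
    finrank_ker_functional (T.lin e e) x₀ hx₀
  have heT : e ∈ LinearMap.ker (T.lin e e) := hfe'
  have huT : ∀ i, u i ∈ LinearMap.ker (T.lin e e) := fun i => (hb i (u i) (huU i)).1
  -- step f
  have hli3 : ∀ x y z : ℂ, x • e + y • u 0 + z • u 1 = 0 → x = 0 ∧ y = 0 ∧ z = 0 := by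
    intro x y z hxyz
    have hz : z = 0 := by
      by_contra hz
      apply hd 0 1 (by decide)
      have : u 1 = (-(x / z)) • e + (-(y / z)) • u 0 := by
        have h1 : z • u 1 = -(x • e + y • u 0) := by
          rw [eq_neg_iff_add_eq_zero, add_comm]; exact hxyz
        have h2 : u 1 = (1 / z) • (z • u 1) := by
          rw [smul_smul]; field_simp; simp
        rw [h2, h1]
        module
      rw [this]
      exact (U 0).add_mem ((U 0).smul_mem _ (hU 0).2.1) ((U 0).smul_mem _ (huU 0))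
    rw [hz, zero_smul, add_zero] at hxyz
    have := hind 0 y x (by rw [add_comm]; exact hxyz)
    exact ⟨this.2, this.1, hz⟩
  have hspan3 := exists_triple_span _ hT3 e (u 0) (u 1) heT (huT 0) (huT 1) hli3
  obtain ⟨α, β, γ, hu2⟩ := hspan3 (u 2) (huT 2)
  have hβ : β ≠ 0 := by
    intro hβ
    apply hd 1 2 (by decide)
    rw [hu2, hβ, zero_smul, add_zero]
    exact (U 1).add_mem ((U 1).smul_mem _ (hU 1).2.1) ((U 1).smul_mem _ (huU 1))
  have hγ : γ ≠ 0 := by
    intro hγ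
    apply hd 0 2 (by decide)
    rw [hu2, hγ, zero_smul, add_zero]
    exact (U 0).add_mem ((U 0).smul_mem _ (hU 0).2.1) ((U 0).smul_mem _ (huU 0))
  -- step g
  have e00 : T.F e (u 0) (u 0) = 0 := (hb 0 _ (huU 0)).2
  have e11 : T.F e (u 1) (u 1) = 0 := (hb 1 _ (huU 1)).2
  have e22 : T.F e (u 2) (u 2) = 0 := (hb 2 _ (huU 2)).2
  have ℓ0 : T.F e e (u 0) = 0 := huT 0
  have ℓ1 : T.F e e (u 1) = 0 := huT 1
  have e01 : T.F e (u 0) (u 1) = 0 := by
    rw [hu2] at e22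
    simp only [T.add₂, T.add₃, T.smul₂, T.smul₃] at e22
    rw [T.s23 e (u 0) e, T.s23 e (u 1) e, T.s23 e (u 1) (u 0), hfe', ℓ0, ℓ1, e00, e11] at e22
    have : (2 * β * γ) * T.F e (u 0) (u 1) = 0 := by linear_combination e22
    exact (mul_eq_zero.mp this).resolve_left (mul_ne_zero (mul_ne_zero (by norm_num) hβ) hγ)
  -- step h
  have hTT : ∀ t t', T.F e e t = 0 → T.F e e t' = 0 → T.F e t t' = 0 := by
    intro t t' ht ht'
    obtain ⟨a, b, c, rfl⟩ := hspan3 t ht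
    obtain ⟨a', b', c', rfl⟩ := hspan3 t' ht'
    simp only [T.add₂, T.add₃, T.smul₂, T.smul₃]
    rw [T.s23 e (u 0) e, T.s23 e (u 1) e, T.s23 e (u 1) (u 0), hfe', ℓ0, ℓ1, e00, e11, e01]
    ring
  -- step i
  refine ⟨T.lin e x₀ - (1 / 2 * T.F e x₀ x₀) • T.lin e e, ?_, ?_⟩
  · simp only [LinearMap.sub_apply, LinearMap.smul_apply, Cub.lin_apply, smul_eq_mul]
    rw [T.s23 e x₀ e, hx₀, hfe']; ring
  · intro v v'
    simp only [LinearMap.sub_apply, LinearMap.smul_apply, Cub.lin_apply, smul_eq_mul]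
    have ht : T.F e e (v - T.F e e v • x₀) = 0 := by rw [T.sub₃, T.smul₃, hx₀]; ring
    have ht' : T.F e e (v' - T.F e e v' • x₀) = 0 := by rw [T.sub₃, T.smul₃, hx₀]; ring
    have key := hTT _ _ ht ht'
    simp only [T.sub₂, T.sub₃, T.smul₂, T.smul₃] at key
    rw [T.s23 e v x₀] at key
    linear_combination key

end Groth.Agent.Helper27.Cubic
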