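import Mathlib
import Groth.Agent.Lib.Helper27.CubicG

/-! Lines through two Eckardt points. -/

namespace Groth.Agent.Helper27.Cubic

namespace Cub
variable {V : Type*} [AddCommGroup V] [Module ℂ V] (T : Cub V)

/-- transport of the structure along an involution preserving the cubic -/
lemma Str.transport {p : V} {m : V →ₗ[ℂ] ℂ} (h : T.Str p m) (φ : V →ₗ[ℂ] V)
    (hφ2 : ∀ v, φ (φ v) = v) (hφf : ∀ v, T.f (φ v) = T.f v) : T.Str (φ p) (m ∘ₗ φ) := by
  have hpol := T.polar_inv φ 1 (by intro v; rw [hφf, one_mul])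
  have hpol' : ∀ u v w, T.F (φ u) v w = T.F u (φ v) (φ w) := by
    intro u v w
    have := hpol u (φ v) (φ w)
    rw [hφ2, hφ2, one_mul] at this
    exact this
  refine ⟨by rw [LinearMap.comp_apply, hφ2, h.1], ?_⟩
  intro u u'
  rw [hpol', h.2, LinearMap.comp_apply, LinearMap.comp_apply]
  have e1 : T.F (φ p) (φ p) u' = T.F p p (φ u') := by
    have := hpol p p (φ u'); rw [hφ2, one_mul] at this; exact this
  have e2 : T.F (φ p) (φ p) u = T.F p p (φ u) := by
    have := hpol p p (φ u); rw [hφ2, one_mul] at this; exact this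
  rw [e1, e2]

/-- rescaling the point -/
lemma Str.rescale {p : V} {m : V →ₗ[ℂ] ℂ} (h : T.Str p m) (c : ℂ) (hc : c ≠ 0) :
    T.Str (c • p) (c⁻¹ • m) := by
  refine ⟨?_, ?_⟩
  · rw [LinearMap.smul_apply, map_smul, h.1, smul_eq_mul, smul_eq_mul, mul_one, inv_mul_cancel₀ hc]
  · intro u u'
    simp only [LinearMap.smul_apply, smul_eq_mul, T.smul₁, T.smul₂]
    rw [h.2]
    field_simp

/-- the reflection attached to a structure preserves the cubic -/
lemma Str.reflL_f {p : V} {m : V →ₗ[ℂ] ℂ} (h : T.Str p m) (v : V) :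
    T.f (reflL m p v) = T.f v := by
  rw [reflL_apply]; exact h.inv T v

lemma reflL_reflL {p : V} {m : V →ₗ[ℂ] ℂ} (hmp : m p = 1) (v : V) :
    reflL m p (reflL m p v) = v := by
  have := congrArg (fun g => g v) (reflL_sq m p hmp)
  simpa using this

/-- the cubic on the line through `e` and `e'` -/
lemma Str.line {e : V} {m : V →ₗ[ℂ] ℂ} (h : T.Str e m) (e' : V) (hfe' : T.f e' = 0) (x y : ℂ) :
    T.f (x • e + y • (e' - m e' • e)) =
      3 * T.F e e (e' - m e' • e) * y * (x ^ 2 - (m e') ^ 2 * y ^ 2) := by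
  have hk : m (e' - m e' • e) = 0 := by rw [map_sub, map_smul, h.1]; simp
  have hyk : m (y • (e' - m e' • e)) = 0 := by rw [map_smul, hk]; simp
  have h1 : T.f e' = 3 * (m e') ^ 2 * T.F e e (e' - m e' • e) + T.f (e' - m e' • e) := by
    have e0 : e' = m e' • e + (e' - m e' • e) := by module
    conv_lhs => rw [e0]
    exact h.f_expand T _ _ hk
  rw [hfe'] at h1
  rw [h.f_expand T x _ hyk, T.smul₃, T.f_smul]
  linear_combination (-(y ^ 3)) * h1

end Cub

end Groth.Agent.Helper27.Cubic
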