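import Mathlib
import Groth.Agent.Lib.Helper27.CubicH

/-! Two Eckardt points: the line through them. -/

namespace Groth.Agent.Helper27.Cubic

section
variable (T : Cub (Fin 4 → ℂ)) (e e' : Fin 4 → ℂ) (he : e ≠ 0)
  (he' : e' ∉ Submodule.span ℂ {e}) (m : (Fin 4 → ℂ) →ₗ[ℂ] ℂ) (hs : T.Str e m)
include he he' hs

lemma pair_ind : ∀ x y : ℂ, x • e + y • e' = 0 → x = 0 ∧ y = 0 := by
  intro x y hxy
  have hy : y = 0 := by
    by_contra hy
    apply he'
    rw [Submodule.mem_span_singleton]
    refine ⟨-(x / y), ?_⟩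
    have h1 : y • e' = -(x • e) := by
      rw [eq_neg_iff_add_eq_zero, add_comm]; exact hxy
    have h2 : e' = (1 / y) • (y • e') := by
      rw [smul_smul]; field_simp; simp
    rw [h2, h1]; module
  rw [hy, zero_smul, add_zero] at hxy
  rcases smul_eq_zero.mp hxy with hx | hx
  · exact ⟨hx, hy⟩
  · exact absurd hx he

lemma h_ind : ∀ x y : ℂ, x • e + y • (e' - m e' • e) = 0 → x = 0 ∧ y = 0 := by
  intro x y hxy
  obtain ⟨h1, h2⟩ := pair_ind T e e' he he' m hs (x - y * m e') y (by rw [← hxy]; module)
  rw [h2] at h1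
  exact ⟨by simpa using h1, h2⟩

lemma mem_L_iff (u : Fin 4 → ℂ) :
    u ∈ Submodule.span ℂ {e, e'} ↔ ∃ x y : ℂ, u = x • e + y • (e' - m e' • e) := by
  rw [Submodule.mem_span_pair]
  constructor
  · rintro ⟨α, β, rfl⟩
    exact ⟨α + β * m e', β, by module⟩
  · rintro ⟨x, y, rfl⟩
    exact ⟨x - y * m e', y, by module⟩

end

theorem two_eckardt (T : Cub (Fin 4 → ℂ)) (e e' : Fin 4 → ℂ) (he : e ≠ 0)
    (he' : e' ∉ Submodule.span ℂ {e}) (m m' : (Fin 4 → ℂ) →ₗ[ℂ] ℂ) (hs : T.Str e m)
    (hs' : T.Str e' m') :
    Xor (∀ u ∈ Submodule.span ℂ {e, e'}, T.f u = 0)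
      (∃ e'' : Fin 4 → ℂ, e'' ∈ Submodule.span ℂ {e, e'} ∧ e'' ∉ Submodule.span ℂ {e} ∧
        e'' ∉ Submodule.span ℂ {e'} ∧ (∃ m'' : (Fin 4 → ℂ) →ₗ[ℂ] ℂ, T.Str e'' m'') ∧
        ∀ u ∈ Submodule.span ℂ {e, e'}, T.f u = 0 →
          u ∈ Submodule.span ℂ {e} ∨ u ∈ Submodule.span ℂ {e'} ∨ u ∈ Submodule.span ℂ {e''}) := by
  have hfe' : T.f e' = 0 := hs'.f_p
  have hline := hs.line T e' hfe'
  have hind := pair_ind T e e' he he' m hs
  have hindh := h_ind T e e' he he' m hs
  have hmem := mem_L_iff T e e' he he' m hs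
  by_cases hℓ : T.F e e (e' - m e' • e) = 0
  · -- the line lies on the surface
    left
    refine ⟨?_, ?_⟩
    · intro u hu
      obtain ⟨x, y, rfl⟩ := (hmem u).mp hu
      rw [hline, hℓ]; ring
    · rintro ⟨e'', -, -, -, -, hcov⟩
      have hu1 : e + e' ∈ Submodule.span ℂ {e, e'} :=
        Submodule.mem_span_pair.mpr ⟨1, 1, by simp⟩
      have hu2 : e + (2 : ℂ) • e' ∈ Submodule.span ℂ {e, e'} :=
        Submodule.mem_span_pair.mpr ⟨1, 2, by simp⟩
      have hf1 : T.f (e + e') = 0 := by
        obtain ⟨x, y, hxy⟩ := (hmem _).mp hu1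
        rw [hxy, hline, hℓ]; ring
      have hf2 : T.f (e + (2 : ℂ) • e') = 0 := by
        obtain ⟨x, y, hxy⟩ := (hmem _).mp hu2
        rw [hxy, hline, hℓ]; ring
      have hn1 : ∀ t : ℂ, t ≠ 0 → e + t • e' ∉ Submodule.span ℂ {e} := by
        intro t ht hmem'
        obtain ⟨c, hc⟩ := Submodule.mem_span_singleton.mp hmem'
        have := hind (1 - c) t (by rw [sub_smul, hc]; module)
        exact ht this.2
      have hn2 : ∀ t : ℂ, e + t • e' ∉ Submodule.span ℂ {e'} := by
        intro t hmem'
        obtain ⟨c, hc⟩ := Submodule.mem_span_singleton.mp hmem'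
        have := hind 1 (t - c) (by rw [sub_smul, hc]; module)
        exact one_ne_zero this.1
      have h1 : e + e' ∈ Submodule.span ℂ {e''} := by
        rcases hcov _ hu1 hf1 with h | h | h
        · exact absurd (by simpa using h) (hn1 1 one_ne_zero)
        · exact absurd (by simpa using h) (hn2 1)
        · exact h
      have h2 : e + (2 : ℂ) • e' ∈ Submodule.span ℂ {e''} := by
        rcases hcov _ hu2 hf2 with h | h | h
        · exact absurd h (hn1 2 two_ne_zero)
        · exact absurd h (hn2 2)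
        · exact h
      obtain ⟨c1, hc1⟩ := Submodule.mem_span_singleton.mp h1
      obtain ⟨c2, hc2⟩ := Submodule.mem_span_singleton.mp h2
      have := hind (c2 - c1) (c2 - 2 * c1) (by
        have : (c2 - c1) • e + (c2 - 2 * c1) • e' = c2 • (e + e') - c1 • (e + (2 : ℂ) • e') := by
          module
        rw [this, ← hc1, ← hc2, smul_smul, smul_smul, mul_comm]; simp)
      have hc1' : c1 = 0 := by linear_combination this.1 - this.2
      rw [hc1', zero_smul] at hc1
      have := hind 1 1 (by rw [one_smul, one_smul]; exact hc1.symm)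
      exact one_ne_zero this.1
  · -- the line is not on the surface
    right
    have ha : m e' ≠ 0 := by
      intro ha
      have h1 : T.F e e' e' = 0 := by rw [hs.2, ha]; ring
      have h1' : T.F e' e' e = 0 := by rw [T.s13 e' e' e]; exact h1
      have h2 : T.F e' e e = 0 := by
        rw [hs'.2, h1']; ring
      apply hℓ
      rw [ha, zero_smul, sub_zero, T.s13 e e e', h2]
    refine ⟨?_, ?_⟩
    · refine ⟨reflL m e e', ?_, ?_, ?_, ⟨m' ∘ₗ reflL m e, ?_⟩, ?_⟩
      · rw [reflL_apply, hmem]
        exact ⟨-(m e'), 1, by module⟩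
      · intro hmem'
        obtain ⟨c, hc⟩ := Submodule.mem_span_singleton.mp hmem'
        rw [reflL_apply] at hc
        have := hind (c + 2 * m e') (-1) (by rw [add_smul, hc]; module)
        have : (-1 : ℂ) = 0 := this.2
        norm_num at this
      · intro hmem'
        obtain ⟨c, hc⟩ := Submodule.mem_span_singleton.mp hmem'
        rw [reflL_apply] at hc
        have := hind (2 * m e') (c - 1) (by rw [sub_smul, hc]; module)
        have h2 : (2 : ℂ) * m e' = 0 := this.1
        exact ha ((mul_eq_zero.mp h2).resolve_left two_ne_zero)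
      · exact hs'.transport T (reflL m e) (fun v => Cub.reflL_reflL hs.1 v)
          (fun v => hs.reflL_f T v)
      · intro u hu hfu
        obtain ⟨x, y, rfl⟩ := (hmem u).mp hu
        rw [hline] at hfu
        have h3 : y * ((x - m e' * y) * (x + m e' * y)) = 0 := by
          have h3ℓ : (3 : ℂ) * T.F e e (e' - m e' • e) ≠ 0 := mul_ne_zero (by norm_num) hℓ
          have : (3 * T.F e e (e' - m e' • e)) * (y * ((x - m e' * y) * (x + m e' * y))) = 0 := by
            linear_combination hfu
          exact (mul_eq_zero.mp this).resolve_left h3ℓ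
        rcases mul_eq_zero.mp h3 with hy | h4
        · left
          rw [hy, zero_smul, add_zero]
          exact Submodule.smul_mem _ _ (Submodule.mem_span_singleton_self e)
        · rcases mul_eq_zero.mp h4 with h5 | h5
          · right; left
            rw [Submodule.mem_span_singleton]
            refine ⟨y, ?_⟩
            have : x = m e' * y := by linear_combination h5
            rw [this]; module
          · right; right
            rw [Submodule.mem_span_singleton]
            refine ⟨y, ?_⟩
            have : x = -(m e' * y) := by linear_combination h5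
            rw [this, reflL_apply]; module
    · intro hall
      have hu1 : (m e' + 1) • e + (1 : ℂ) • (e' - m e' • e) ∈ Submodule.span ℂ {e, e'} :=
        (hmem _).mpr ⟨_, _, rfl⟩
      have hu2 : (m e' + 2) • e + (1 : ℂ) • (e' - m e' • e) ∈ Submodule.span ℂ {e, e'} :=
        (hmem _).mpr ⟨_, _, rfl⟩
      have f1 := hall _ hu1
      have f2 := hall _ hu2
      rw [hline] at f1 f2
      have h3ℓ : (3 : ℂ) * T.F e e (e' - m e' • e) ≠ 0 := mul_ne_zero (by norm_num) hℓ
      have g1 : (3 * T.F e e (e' - m e' • e)) * (2 * m e' + 1) = 0 := by linear_combination f1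
      have g2 : (3 * T.F e e (e' - m e' • e)) * (4 * m e' + 4) = 0 := by linear_combination f2
      have g1' := (mul_eq_zero.mp g1).resolve_left h3ℓ
      have g2' := (mul_eq_zero.mp g2).resolve_left h3ℓ
      have : (2 : ℂ) = 0 := by linear_combination g2' - 2 * g1'
      norm_num at this

end Groth.Agent.Helper27.Cubic
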