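import Mathlib
import Groth.Agent.Lib.Helper27.CubicI

/-! Two Eckardt points on a line of the surface; three collinear Eckardt points. -/

namespace Groth.Agent.Helper27.Cubic

/-- Two Eckardt points joined by a line of the surface: each reflection fixes the other point. -/
theorem line_on_surface (T : Cub (Fin 4 → ℂ)) (hsm : T.Smooth) (e e' : Fin 4 → ℂ) (he : e ≠ 0)
    (he' : e' ∉ Submodule.span ℂ {e}) (m m' : (Fin 4 → ℂ) →ₗ[ℂ] ℂ) (hs : T.Str e m)
    (hs' : T.Str e' m') (hall : ∀ u ∈ Submodule.span ℂ {e, e'}, T.f u = 0) :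
    m e' = 0 ∧ m' e = 0 := by
  have hfe' : T.f e' = 0 := hs'.f_p
  have hfe : T.F e e e = 0 := hs.f_p
  have hline := hs.line T e' hfe'
  have hindh := h_ind T e e' he he' m hs
  have hmem := mem_L_iff T e e' he he' m hs
  have hmp := hs.1
  obtain ⟨a, ha⟩ : ∃ a, a = m e' := ⟨_, rfl⟩
  obtain ⟨h, hh⟩ : ∃ h, h = e' - m e' • e := ⟨_, rfl⟩
  rw [← hh] at hline hindh hmem
  rw [← ha] at hline hh
  have hmh : m h = 0 := by rw [hh, map_sub, map_smul, hmp, ha]; simp
  have he'eq : e' = a • e + h := by rw [hh]; module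
  -- ℓ(h) = 0
  have hℓh : T.F e e h = 0 := by
    have f1 := hall _ ((hmem _).mpr ⟨a + 1, 1, rfl⟩)
    have f2 := hall _ ((hmem _).mpr ⟨a + 2, 1, rfl⟩)
    rw [hline] at f1 f2
    linear_combination (-1 / 3 : ℂ) * f1 + (1 / 6 : ℂ) * f2
  have hB := hs.2
  have hehw : ∀ w, T.F e h w = 0 := by
    intro w; rw [hB, hmh, hℓh]; ring
  have hhhe : T.F h h e = 0 := by rw [T.s13 h h e, hehw]
  -- u₀
  obtain ⟨w, hw⟩ := hsm e he hs.f_p
  obtain ⟨u₀, hu₀m, hu₀ℓ⟩ : ∃ u₀, m u₀ = 0 ∧ T.F e e u₀ = 1 := by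
    refine ⟨(1 / T.F e e w) • (w - m w • e), ?_, ?_⟩
    · rw [map_smul, map_sub, map_smul, hmp]; simp
    · rw [T.smul₃, T.sub₃, T.smul₃, hfe]; field_simp; ring
  -- relation (3)
  have ℓe' : T.F e e e' = 0 := by rw [he'eq, T.add₃, T.smul₃, hfe, hℓh]; ring
  have R1 : T.F e' e' e = 0 := by rw [T.s13 e' e' e, hB, ℓe']; ring
  have h3 : ∀ k, m k = 0 → a * T.F e e k = m' e * (a ^ 2 * T.F e e k + T.F h h k) := by
    intro k hk
    have L : T.F e' e k = a * T.F e e k := by
      rw [he'eq, T.add₁, T.smul₁, T.s12 h e k, hehw]; ring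
    have R2 : T.F e' e' k = a ^ 2 * T.F e e k + T.F h h k := by
      rw [he'eq]
      simp only [T.add₁, T.add₂, T.smul₁, T.smul₂]
      rw [T.s12 h e k, hehw]; ring
    have := hs'.2 e k
    rw [L, R1, R2] at this
    linear_combination this
  have hm'e : m' e = 0 := by
    by_contra hne
    -- F h h k = ν ℓ(k) on ker m
    obtain ⟨ν, hν⟩ : ∃ ν, ν = a / m' e - a ^ 2 := ⟨_, rfl⟩
    have hmν : m' e * ν = a - a ^ 2 * m' e := by rw [hν]; field_simp
    have hhk : ∀ k, m k = 0 → T.F h h k = ν * T.F e e k := by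
      intro k hk
      have : m' e * (T.F h h k - ν * T.F e e k) = 0 := by
        linear_combination (-1 : ℂ) * h3 k hk - (T.F e e k) * hmν
      exact sub_eq_zero.mp ((mul_eq_zero.mp this).resolve_left hne)
    obtain ⟨s, hs2⟩ := IsAlgClosed.exists_pow_nat_eq (-ν) (n := 2) (by norm_num)
    obtain ⟨v₀, hv₀⟩ : ∃ v₀, v₀ = s • e + h := ⟨_, rfl⟩
    have hv₀ne : v₀ ≠ 0 := by
      intro h0
      have := hindh s 1 (by rw [one_smul, ← hv₀]; exact h0)
      exact one_ne_zero this.2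
    have hallw : ∀ w, T.F v₀ v₀ w = 0 := by
      intro w
      have hk : m (w - m w • e) = 0 := by rw [map_sub, map_smul, hmp]; simp
      have e0 : w = m w • e + (w - m w • e) := by module
      have h1 : T.F h h w = ν * T.F e e w := by
        conv_lhs => rw [e0]
        rw [T.add₃, T.smul₃, hhhe, hhk _ hk, T.sub₃, T.smul₃, hfe]; ring
      rw [hv₀]
      simp only [T.add₁, T.add₂, T.smul₁, T.smul₂]
      rw [T.s12 h e w, hehw w, h1]
      linear_combination (T.F e e w) * hs2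
    obtain ⟨w', hw'⟩ := hsm v₀ hv₀ne (hallw v₀)
    exact hw' (hallw w')
  have ha0 : a = 0 := by
    have := h3 u₀ hu₀m
    rw [hm'e, hu₀ℓ] at this
    linear_combination this
  exact ⟨by rw [← ha]; exact ha0, hm'e⟩

/-- Three collinear Eckardt points on a line not in the surface. -/
theorem three_collinear (T : Cub (Fin 4 → ℂ)) (hsm : T.Smooth) (e e' e'' : Fin 4 → ℂ)
    (he : e ≠ 0) (he' : e' ∉ Submodule.span ℂ {e}) (he''1 : e'' ∉ Submodule.span ℂ {e})
    (he''2 : e'' ∉ Submodule.span ℂ {e'}) (he''L : e'' ∈ Submodule.span ℂ {e, e'})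
    (hL : ¬ ∀ u ∈ Submodule.span ℂ {e, e'}, T.f u = 0)
    (m m' m'' : (Fin 4 → ℂ) →ₗ[ℂ] ℂ) (hs : T.Str e m) (hs' : T.Str e' m')
    (hs'' : T.Str e'' m'') :
    m e' ≠ 0 ∧ ∀ v, m'' v • e'' = m' (reflL m e v) • reflL m e e' := by
  have hfe' : T.f e' = 0 := hs'.f_p
  have hline := hs.line T e' hfe'
  have hmem := mem_L_iff T e e' he he' m hs
  have hℓ : T.F e e (e' - m e' • e) ≠ 0 := by
    intro hℓ
    apply hL
    intro u hu
    obtain ⟨x, y, rfl⟩ := (hmem u).mp hu
    rw [hline, hℓ]; ring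
  obtain ⟨x, y, hxy⟩ := (hmem e'').mp he''L
  have hfe'' : T.f e'' = 0 := hs''.f_p
  rw [hxy, hline] at hfe''
  have hy : y ≠ 0 := by
    intro hy
    apply he''1
    rw [hxy, hy, zero_smul, add_zero]
    exact Submodule.smul_mem _ _ (Submodule.mem_span_singleton_self e)
  have hx1 : x - m e' * y ≠ 0 := by
    intro hx
    apply he''2
    rw [hxy, Submodule.mem_span_singleton]
    refine ⟨y, ?_⟩
    have : x = m e' * y := by linear_combination hx
    rw [this]; module
  have hx2 : x + m e' * y = 0 := by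
    have : (3 * T.F e e (e' - m e' • e) * y * (x - m e' * y)) * (x + m e' * y) = 0 := by
      linear_combination hfe''
    exact (mul_eq_zero.mp this).resolve_left
      (mul_ne_zero (mul_ne_zero (mul_ne_zero (by norm_num) hℓ) hy) hx1)
  have ha : m e' ≠ 0 := by
    intro ha
    apply hx1
    rw [ha] at hx2 ⊢
    linear_combination hx2
  refine ⟨ha, ?_⟩
  have he''eq : e'' = y • reflL m e e' := by
    rw [hxy, reflL_apply]
    have : x = -(m e' * y) := by linear_combination hx2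
    rw [this]; module
  have hstr1 : T.Str (reflL m e e') (m' ∘ₗ reflL m e) :=
    hs'.transport T (reflL m e) (fun v => Cub.reflL_reflL hs.1 v) (fun v => hs.reflL_f T v)
  have hstr2 := hstr1.rescale T y hy
  rw [← he''eq] at hstr2
  have he''0 : e'' ≠ 0 := by
    rintro rfl
    exact he''1 (Submodule.zero_mem _)
  have hmm := T.str_unique hsm e'' he''0 m'' _ hs'' hstr2
  intro v
  rw [hmm, he''eq]
  simp only [LinearMap.smul_apply, LinearMap.comp_apply, smul_eq_mul]
  rw [smul_smul]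
  congr 1
  field_simp

end Groth.Agent.Helper27.Cubic
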