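import Mathlib
import Groth.Agent.Lib.Helper27.CubicJ

/-! Existence of a flex on a smooth plane cubic. -/

namespace Groth.Agent.Helper27.Cubic

section commonzero
open MvPolynomial

/-- the maximal ideal of the origin has height at least 3 -/
lemma height_origin : (3 : ℕ∞) ≤ (vanishingIdeal ℂ ({0} : Set (Fin 3 → ℂ))).height := by
  let φ₁ : MvPolynomial (Fin 3) ℂ →ₐ[ℂ] MvPolynomial (Fin 3) ℂ := aeval ![0, X 1, X 2]
  let φ₂ : MvPolynomial (Fin 3) ℂ →ₐ[ℂ] MvPolynomial (Fin 3) ℂ := aeval ![0, 0, X 2]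
  have h21 : ∀ p, φ₂ (φ₁ p) = φ₂ p := by
    intro p
    have : φ₂.comp φ₁ = φ₂ := by
      apply MvPolynomial.algHom_ext
      intro i
      fin_cases i <;> simp [φ₁, φ₂]
    exact congrArg (fun g => g p) this
  have h02 : ∀ p, eval (0 : Fin 3 → ℂ) (φ₂ p) = eval 0 p := by
    intro p
    have : (aeval (0 : Fin 3 → ℂ) : MvPolynomial (Fin 3) ℂ →ₐ[ℂ] ℂ).comp φ₂ = aeval 0 := by
      apply MvPolynomial.algHom_ext
      intro i
      fin_cases i <;> simp [φ₂]
    have := congrArg (fun g => g p) this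
    simpa [aeval_eq_eval] using this
  set 𝔭₁ := RingHom.ker φ₁.toRingHom with h𝔭₁
  set 𝔭₂ := RingHom.ker φ₂.toRingHom with h𝔭₂
  set 𝔪 := vanishingIdeal ℂ ({0} : Set (Fin 3 → ℂ)) with h𝔪
  have hp1 : 𝔭₁.IsPrime := RingHom.ker_isPrime _
  have hp2 : 𝔭₂.IsPrime := RingHom.ker_isPrime _
  have hbot : (⊥ : Ideal (MvPolynomial (Fin 3) ℂ)).IsPrime := Ideal.isPrime_bot
  have l1 : (⊥ : Ideal (MvPolynomial (Fin 3) ℂ)) < 𝔭₁ := by
    rw [bot_lt_iff_ne_bot]
    intro h
    have : (X 0 : MvPolynomial (Fin 3) ℂ) ∈ 𝔭₁ := by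
      rw [h𝔭₁, RingHom.mem_ker]; simp [φ₁]
    rw [h] at this
    exact X_ne_zero 0 ((Submodule.mem_bot _).mp this)
  have l2 : 𝔭₁ < 𝔭₂ := by
    refine lt_of_le_of_ne ?_ ?_
    · intro p hp
      rw [h𝔭₁, RingHom.mem_ker] at hp
      rw [h𝔭₂, RingHom.mem_ker]
      have := h21 p
      have hp' : φ₁ p = 0 := hp
      rw [hp', map_zero] at this
      exact this.symm
    · intro h
      have : (X 1 : MvPolynomial (Fin 3) ℂ) ∈ 𝔭₂ := by
        rw [h𝔭₂, RingHom.mem_ker]; simp [φ₂]
      rw [← h, h𝔭₁, RingHom.mem_ker] at this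
      have h' : φ₁ (X 1) = 0 := this
      simp [φ₁] at h'
  have l3 : 𝔭₂ < 𝔪 := by
    refine lt_of_le_of_ne ?_ ?_
    · intro p hp
      rw [h𝔭₂, RingHom.mem_ker] at hp
      have hp' : φ₂ p = 0 := hp
      rw [h𝔪, mem_vanishingIdeal_iff]
      intro x hx
      rw [Set.mem_singleton_iff] at hx
      rw [hx, aeval_eq_eval]
      have := h02 p
      rw [hp', map_zero] at this
      exact this.symm
    · intro h
      have : (X 2 : MvPolynomial (Fin 3) ℂ) ∈ 𝔪 := by
        rw [h𝔪, mem_vanishingIdeal_iff]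
        intro x hx
        rw [Set.mem_singleton_iff] at hx
        rw [hx]; simp
      rw [← h, h𝔭₂, RingHom.mem_ker] at this
      have h' : φ₂ (X 2) = 0 := this
      simp [φ₂] at h'
  have e1 := Ideal.height_strict_mono_of_isPrime l1
  have e2 := Ideal.height_strict_mono_of_isPrime l2
  have e3 := Ideal.height_strict_mono_of_isPrime l3
  have f1 : (1 : ℕ∞) ≤ 𝔭₁.height := Order.one_le_iff_pos.mpr (lt_of_le_of_lt bot_le e1)
  have f2 : (2 : ℕ∞) ≤ 𝔭₂.height := by
    have := Order.add_one_le_of_lt (lt_of_le_of_lt f1 e2)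
    simpa [one_add_one_eq_two] using this
  have f3 : (3 : ℕ∞) ≤ 𝔪.height := by
    have := Order.add_one_le_of_lt (lt_of_le_of_lt f2 e3)
    have h3 : (2 : ℕ∞) + 1 = 3 := by norm_num
    rwa [h3] at this
  exact f3

lemma common_zero (f g : MvPolynomial (Fin 3) ℂ) (hf0 : eval 0 f = 0) (hg0 : eval 0 g = 0) :
    ∃ v : Fin 3 → ℂ, v ≠ 0 ∧ eval v f = 0 ∧ eval v g = 0 := by
  classical
  by_contra hcon
  push Not at hcon
  obtain ⟨s, hs⟩ : ∃ s : Finset (MvPolynomial (Fin 3) ℂ), s = {f, g} := ⟨_, rfl⟩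
  obtain ⟨I, hI⟩ : ∃ I : Ideal (MvPolynomial (Fin 3) ℂ), I = Ideal.span (s : Set _) := ⟨_, rfl⟩
  have hfI : f ∈ I := by rw [hI, hs]; exact Ideal.subset_span (by simp)
  have hgI : g ∈ I := by rw [hI, hs]; exact Ideal.subset_span (by simp)
  have hZ : zeroLocus ℂ I = {0} := by
    ext v
    constructor
    · intro hv
      by_contra hv0
      have h1 := hv f hfI
      have h2 := hv g hgI
      rw [aeval_eq_eval] at h1 h2
      exact hcon v hv0 h1 h2
    · intro hv
      rw [Set.mem_singleton_iff] at hv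
      rw [hv]
      intro p hp
      rw [hI] at hp
      rw [aeval_eq_eval]
      refine Submodule.span_induction ?_ ?_ ?_ ?_ hp
      · intro x hx
        rw [hs] at hx
        simp only [Finset.coe_insert, Finset.coe_singleton, Set.mem_insert_iff,
          Set.mem_singleton_iff] at hx
        rcases hx with rfl | rfl
        · exact hf0
        · exact hg0
      · simp
      · intro x y _ _ hx hy; rw [map_add, hx, hy, add_zero]
      · intro a x _ hx; rw [smul_eq_mul, map_mul, hx, mul_zero]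
  have hrad : vanishingIdeal ℂ ({0} : Set (Fin 3 → ℂ)) = I.radical := by
    rw [← hZ, vanishingIdeal_zeroLocus_eq_radical]
  have hmax : (vanishingIdeal ℂ ({0} : Set (Fin 3 → ℂ))).IsMaximal :=
    isMaximal_iff_eq_vanishingIdeal_singleton.mpr ⟨0, rfl⟩
  have hmin : vanishingIdeal ℂ ({0} : Set (Fin 3 → ℂ)) ∈ I.minimalPrimes := by
    refine ⟨⟨hmax.isPrime, ?_⟩, ?_⟩
    · rw [hrad]; exact Ideal.le_radical
    · intro Q hQ _
      rw [hrad]
      exact (Ideal.IsPrime.radical_le_iff hQ.1).mpr hQ.2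
  rw [hI] at hmin
  have h1 := Ideal.height_le_card_of_mem_minimalPrimes_span_finset hmin
  have h2 := height_origin
  have h3 : s.card ≤ 2 := by rw [hs]; exact Finset.card_le_two
  have h4 : (3 : ℕ∞) ≤ (2 : ℕ∞) := by
    refine le_trans h2 (le_trans h1 ?_)
    exact_mod_cast h3
  norm_num at h4


end commonzero

open MvPolynomial in
lemma tri_eq_hess {f : MvPolynomial (Fin 3) ℂ} (hf : f.IsHomogeneous 3) (v x u : Fin 3 → ℂ) :
    tri f v x u = (1 / 6 : ℂ) * ∑ i, x i * ∑ j, eval v (pderiv i (pderiv j f)) * u j := by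
  unfold tri
  congr 1
  simp_rw [eval_pderiv2 hf]
  rw [Finset.sum_comm]
  apply Finset.sum_congr rfl
  intro i _
  rw [Finset.mul_sum, Finset.sum_comm]
  apply Finset.sum_congr rfl
  intro j _
  rw [Finset.sum_mul, Finset.mul_sum]
  apply Finset.sum_congr rfl
  intro l _
  ring

open MvPolynomial in
theorem exists_flex {f : MvPolynomial (Fin 3) ℂ} (hf : f.IsHomogeneous 3)
    (hsm : (ofPoly f).Smooth) :
    ∃ v w : Fin 3 → ℂ, v ≠ 0 ∧ (ofPoly f).f v = 0 ∧ (ofPoly f).F v v w = 0 ∧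
      (ofPoly f).F v w w = 0 ∧ ∀ a b : ℂ, a • v + b • w = 0 → a = 0 ∧ b = 0 := by
  -- the Hessian
  obtain ⟨H, hH⟩ : ∃ H : MvPolynomial (Fin 3) ℂ,
      H = Matrix.det (Matrix.of fun i j : Fin 3 => pderiv i (pderiv j f)) := ⟨_, rfl⟩
  have hHeval : ∀ v, eval v H =
      Matrix.det (Matrix.of fun i j : Fin 3 => eval v (pderiv i (pderiv j f))) := by
    intro v
    rw [hH, RingHom.map_det]
    rfl
  have hH0 : eval 0 H = 0 := by
    rw [hHeval]
    have : (Matrix.of fun i j : Fin 3 => eval (0 : Fin 3 → ℂ) (pderiv i (pderiv j f))) = 0 := by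
      ext i j
      simp only [Matrix.of_apply, Matrix.zero_apply]
      rw [eval_pderiv2 hf]
      simp
    rw [this, Matrix.det_zero]
  have hf0 : eval 0 f = 0 := by
    rw [← ofPoly_f hf]; exact (ofPoly f).f_zero
  obtain ⟨v, hv0, hfv, hHv⟩ := common_zero f H hf0 hH0
  rw [hHeval] at hHv
  obtain ⟨u, hu0, hMu⟩ := Matrix.exists_mulVec_eq_zero_iff.mpr hHv
  have hall : ∀ x, (ofPoly f).F v x u = 0 := by
    intro x
    show tri f v x u = 0
    rw [tri_eq_hess hf]
    have : ∀ i, ∑ j, eval v (pderiv i (pderiv j f)) * u j = 0 := by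
      intro i
      have := congrFun hMu i
      simpa [Matrix.mulVec, dotProduct] using this
    simp [this]
  have hfv' : (ofPoly f).f v = 0 := by rw [ofPoly_f hf]; exact hfv
  refine ⟨v, u, hv0, hfv', hall v, ?_, ?_⟩
  · rw [(ofPoly f).s23]; exact hall u
  · intro a b hab
    have hb : b = 0 := by
      by_contra hb
      obtain ⟨w, hw⟩ := hsm v hv0 hfv'
      apply hw
      have hu : u = (-(a / b)) • v := by
        have h1 : b • u = -(a • v) := by
          rw [eq_neg_iff_add_eq_zero, add_comm]; exact hab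
        have h2 : u = (1 / b) • (b • u) := by
          rw [smul_smul]; field_simp; simp
        rw [h2, h1]; module
      have := hall w
      rw [hu, (ofPoly f).smul₃] at this
      have hab' : -(a / b) ≠ 0 := by
        intro h0
        rw [h0, zero_smul] at hu
        exact hu0 hu
      rw [(ofPoly f).s23]
      exact (mul_eq_zero.mp this).resolve_left hab'
    rw [hb, zero_smul, add_zero] at hab
    rcases smul_eq_zero.mp hab with h | h
    · exact ⟨h, hb⟩
    · exact absurd h hv0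

end Groth.Agent.Helper27.Cubic
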