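import Mathlib
import Groth.Agent.Lib.Helper27.CubicK

/-! Weierstrass-type normal form of a smooth plane cubic at a flex. -/

namespace Groth.Agent.Helper27.Cubic

lemma span3_of_indep (b₁ b₂ b₃ : Fin 3 → ℂ)
    (hindep : ∀ x y z : ℂ, x • b₁ + y • b₂ + z • b₃ = 0 → x = 0 ∧ y = 0 ∧ z = 0) :
    ∀ u : Fin 3 → ℂ, ∃ x y z : ℂ, u = x • b₁ + y • b₂ + z • b₃ := by
  have hK : Module.finrank ℂ ↥(⊤ : Submodule ℂ (Fin 3 → ℂ)) = 3 := by
    rw [finrank_top]; simp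
  intro u
  exact exists_triple_span ⊤ hK b₁ b₂ b₃ Submodule.mem_top Submodule.mem_top Submodule.mem_top
    hindep u Submodule.mem_top

theorem weierstrass (T : Cub (Fin 3 → ℂ)) (hsm : T.Smooth) (v w : Fin 3 → ℂ) (hv0 : v ≠ 0)
    (hfv : T.f v = 0) (h1 : T.F v v w = 0) (h2 : T.F v w w = 0)
    (hind : ∀ a b : ℂ, a • v + b • w = 0 → a = 0 ∧ b = 0) :
    ∃ (b₁ b₂ b₃ : Fin 3 → ℂ) (A₀ g₃ g₂ g₁ g₀ : ℂ), A₀ ≠ 0 ∧ g₃ ≠ 0 ∧
      (∀ x y z : ℂ, T.f (x • b₁ + y • b₂ + z • b₃) =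
        A₀ * (y ^ 2 * z - (g₃ * x ^ 3 + g₂ * x ^ 2 * z + g₁ * x * z ^ 2 + g₀ * z ^ 3))) ∧
      (∀ u : Fin 3 → ℂ, ∃ x y z : ℂ, u = x • b₁ + y • b₂ + z • b₃) ∧
      (∀ x y z : ℂ, x • b₁ + y • b₂ + z • b₃ = 0 → x = 0 ∧ y = 0 ∧ z = 0) := by
  have hfv' : T.F v v v = 0 := hfv
  obtain ⟨u, hu⟩ := hsm v hv0 hfv
  obtain ⟨A₁, hA₁⟩ : ∃ A₁, A₁ = T.F v v u := ⟨_, rfl⟩
  have hA₁0 : A₁ ≠ 0 := by rw [hA₁]; exact hu
  obtain ⟨w', hw'⟩ : ∃ w', w' = w + (-(T.F v w u) / A₁) • v := ⟨_, rfl⟩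
  obtain ⟨u', hu'⟩ : ∃ u', u' = u + (-(T.F v u u) / (2 * A₁)) • v := ⟨_, rfl⟩
  have k1 : T.F v v w' = 0 := by rw [hw', T.add₃, T.smul₃, h1, hfv']; ring
  have k2 : T.F v w' w' = 0 := by
    rw [hw']
    simp only [T.add₂, T.add₃, T.smul₂, T.smul₃]
    rw [h2, T.s23 v w v, h1, hfv']; ring
  have k3 : T.F v v u' = A₁ := by rw [hu', T.add₃, T.smul₃, hfv', ← hA₁]; ring
  have k4 : T.F v w' u' = 0 := by
    rw [hw', hu']
    simp only [T.add₂, T.add₃, T.smul₂, T.smul₃]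
    rw [T.s23 v w v, h1, hfv', ← hA₁]
    field_simp
    ring
  have k5 : T.F v u' u' = 0 := by
    rw [hu']
    simp only [T.add₂, T.add₃, T.smul₂, T.smul₃]
    rw [T.s23 v u v, hfv', ← hA₁]
    field_simp
    ring
  -- independence
  have hindep : ∀ x y z : ℂ, x • w' + y • v + z • u' = 0 → x = 0 ∧ y = 0 ∧ z = 0 := by
    intro x y z hxyz
    have hz : z = 0 := by
      have := congrArg (fun t => T.F v v t) hxyz
      simp only [T.add₃, T.smul₃, k1, k3, hfv', T.zero₃] at this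
      have h' : z * A₁ = 0 := by linear_combination this
      exact (mul_eq_zero.mp h').resolve_right hA₁0
    rw [hz, zero_smul, add_zero, hw'] at hxyz
    have := hind (x * (-(T.F v w u) / A₁) + y) x (by rw [← hxyz]; module)
    exact ⟨this.2, by have h3 := this.1; rw [this.2] at h3; simpa using h3, hz⟩
  have hspan := span3_of_indep w' v u' hindep
  -- the raw identity
  have hraw : ∀ x y z : ℂ, T.f (x • w' + y • v + z • u') =
      3 * A₁ * (y ^ 2 * z) + (x ^ 3 * T.f w' + 3 * x ^ 2 * z * T.F w' w' u'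
        + 3 * x * z ^ 2 * T.F w' u' u' + z ^ 3 * T.f u') := by
    intro x y z
    have e : x • w' + y • v + z • u' = (x • w' + z • u') + y • v := by module
    rw [e, T.f_line, hfv]
    have e1 : T.F (x • w' + z • u') (x • w' + z • u') v = 0 := by
      rw [T.s13]
      simp only [T.add₂, T.add₃, T.smul₂, T.smul₃]
      rw [k2, k4, k5, T.s23 v u' w', k4]; ring
    have e2 : T.F (x • w' + z • u') v v = z * A₁ := by
      rw [T.s13]
      simp only [T.add₃, T.smul₃]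
      rw [k1, k3]; ring
    rw [e1, e2, T.f_add, T.f_smul, T.f_smul]
    simp only [T.smul₁, T.smul₂, T.smul₃]
    ring
  -- f w' ≠ 0
  have hfw' : T.f w' ≠ 0 := by
    intro hfw'
    obtain ⟨a, ha⟩ := IsAlgClosed.exists_pow_nat_eq (-(T.F w' w' u') / A₁) (n := 2) (by norm_num)
    obtain ⟨P, hP⟩ : ∃ P, P = a • v + w' := ⟨_, rfl⟩
    have hP0 : P ≠ 0 := by
      intro h0
      have := hindep 1 a 0 (by rw [← h0, hP]; module)
      exact one_ne_zero this.1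
    have hline : ∀ s t : ℂ, T.f (s • v + t • w') = 0 := by
      intro s t
      have := hraw t s 0
      rw [zero_smul, add_zero, hfw'] at this
      rw [add_comm, this]; ring
    have hW : ∀ p ∈ Submodule.span ℂ {v, w'}, T.f p = 0 := by
      intro p hp
      obtain ⟨s, t, rfl⟩ := Submodule.mem_span_pair.mp hp
      exact hline s t
    have hPW : P ∈ Submodule.span ℂ {v, w'} :=
      Submodule.mem_span_pair.mpr ⟨a, 1, by rw [hP]; module⟩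
    have hvW : v ∈ Submodule.span ℂ {v, w'} := Submodule.subset_span (by simp)
    have hw'W : w' ∈ Submodule.span ℂ {v, w'} := Submodule.subset_span (by simp)
    obtain ⟨d, hd⟩ := hsm P hP0 (hW P hPW)
    apply hd
    obtain ⟨x, y, z, rfl⟩ := hspan d
    simp only [T.add₃, T.smul₃]
    rw [T.F_eq_zero_of_f _ hW P P w' hPW hPW hw'W, T.F_eq_zero_of_f _ hW P P v hPW hPW hvW]
    have : T.F P P u' = 0 := by
      rw [hP]
      simp only [T.add₁, T.add₂, T.smul₁, T.smul₂]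
      rw [k3, T.s12 w' v u', k4]
      have hA : a ^ 2 * A₁ = -(T.F w' w' u') := by rw [ha]; field_simp
      linear_combination hA
    rw [this]; ring
  refine ⟨w', v, u', 3 * A₁, -(T.f w') / (3 * A₁), -(3 * T.F w' w' u') / (3 * A₁),
    -(3 * T.F w' u' u') / (3 * A₁), -(T.f u') / (3 * A₁),
    mul_ne_zero (by norm_num) hA₁0, ?_, ?_, hspan, hindep⟩
  · exact div_ne_zero (neg_ne_zero.mpr hfw') (mul_ne_zero (by norm_num) hA₁0)
  · intro x y z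
    rw [hraw]
    field_simp
    ring

section normalform
variable (T : Cub (Fin 3 → ℂ)) (b₁ b₂ b₃ : Fin 3 → ℂ) (A₀ g₃ g₂ g₁ g₀ : ℂ)
  (hΦ : ∀ x y z : ℂ, T.f (x • b₁ + y • b₂ + z • b₃) =
        A₀ * (y ^ 2 * z - (g₃ * x ^ 3 + g₂ * x ^ 2 * z + g₁ * x * z ^ 2 + g₀ * z ^ 3)))
include hΦ

/-- the gradient in the normal form -/
lemma gradΦ (x y z a b c : ℂ) :
    3 * T.F (x • b₁ + y • b₂ + z • b₃) (x • b₁ + y • b₂ + z • b₃) (a • b₁ + b • b₂ + c • b₃) =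
      A₀ * (a * (-(3 * g₃ * x ^ 2 + 2 * g₂ * x * z + g₁ * z ^ 2)) + b * (2 * y * z)
        + c * (y ^ 2 - (g₂ * x ^ 2 + 2 * g₁ * x * z + 3 * g₀ * z ^ 2))) := by
  have e : ∀ s : ℂ, (x • b₁ + y • b₂ + z • b₃) + s • (a • b₁ + b • b₂ + c • b₃) =
      (x + s * a) • b₁ + (y + s * b) • b₂ + (z + s * c) • b₃ := by
    intro s; module
  have q : ∀ s : ℂ, A₀ * ((y + s * b) ^ 2 * (z + s * c) - (g₃ * (x + s * a) ^ 3
      + g₂ * (x + s * a) ^ 2 * (z + s * c) + g₁ * (x + s * a) * (z + s * c) ^ 2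
      + g₀ * (z + s * c) ^ 3)) =
      T.f (x • b₁ + y • b₂ + z • b₃)
        + 3 * s * T.F (x • b₁ + y • b₂ + z • b₃) (x • b₁ + y • b₂ + z • b₃) (a • b₁ + b • b₂ + c • b₃)
        + 3 * s ^ 2 * T.F (x • b₁ + y • b₂ + z • b₃) (a • b₁ + b • b₂ + c • b₃) (a • b₁ + b • b₂ + c • b₃)
        + s ^ 3 * T.f (a • b₁ + b • b₂ + c • b₃) := by
    intro s
    rw [← T.f_line, e s, hΦ]
  have q1 := q 1
  have q2 := q (-1)
  have q3 := q 2
  have q4 := q (-2)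
  linear_combination (-(8 * (q1 - q2) - (q3 - q4)) / 12)

/-- the normal form has no singular point -/
lemma no_singular (hsm : T.Smooth)
    (hspan : ∀ u : Fin 3 → ℂ, ∃ x y z : ℂ, u = x • b₁ + y • b₂ + z • b₃)
    (hindep : ∀ x y z : ℂ, x • b₁ + y • b₂ + z • b₃ = 0 → x = 0 ∧ y = 0 ∧ z = 0)
    (x y z : ℂ) (hxyz : ¬ (x = 0 ∧ y = 0 ∧ z = 0))
    (e1 : 3 * g₃ * x ^ 2 + 2 * g₂ * x * z + g₁ * z ^ 2 = 0) (e2 : y * z = 0)
    (e3 : y ^ 2 - (g₂ * x ^ 2 + 2 * g₁ * x * z + 3 * g₀ * z ^ 2) = 0) : False := by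
  obtain ⟨P, hP⟩ : ∃ P, P = x • b₁ + y • b₂ + z • b₃ := ⟨_, rfl⟩
  have hP0 : P ≠ 0 := by
    intro h0
    rw [hP] at h0
    exact hxyz (hindep x y z h0)
  have hfP : T.f P = 0 := by
    rw [hP, hΦ]
    have : y ^ 2 * z - (g₃ * x ^ 3 + g₂ * x ^ 2 * z + g₁ * x * z ^ 2 + g₀ * z ^ 3) = 0 := by
      linear_combination (-x / 3) * e1 + (2 * y / 3) * e2 + (z / 3) * e3
    rw [this, mul_zero]
  obtain ⟨d, hd⟩ := hsm P hP0 hfP
  apply hd
  obtain ⟨a, b, c, rfl⟩ := hspan d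
  have := gradΦ T b₁ b₂ b₃ A₀ g₃ g₂ g₁ g₀ hΦ x y z a b c
  rw [← hP] at this
  have h3 : (3 : ℂ) * T.F P P (a • b₁ + b • b₂ + c • b₃) = 0 := by
    rw [this]
    have : a * (-(3 * g₃ * x ^ 2 + 2 * g₂ * x * z + g₁ * z ^ 2)) + b * (2 * y * z)
        + c * (y ^ 2 - (g₂ * x ^ 2 + 2 * g₁ * x * z + 3 * g₀ * z ^ 2)) = 0 := by
      linear_combination (-a) * e1 + (2 * b) * e2 + c * e3
    rw [this, mul_zero]
  exact (mul_eq_zero.mp h3).resolve_left (by norm_num)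

end normalform

end Groth.Agent.Helper27.Cubic
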