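import Mathlib
import Groth.Agent.Lib.Helper27.CubicL

/-! A second flex: a root of the third division polynomial. -/

namespace Groth.Agent.Helper27.Cubic
open Polynomial

lemma exists_quartic_root (a0 a1 a2 a3 a4 : ℂ) (h4 : a4 ≠ 0) :
    ∃ r : ℂ, a0 + a1 * r + a2 * r ^ 2 + a3 * r ^ 3 + a4 * r ^ 4 = 0 := by
  have hdeg : (C a4 * X ^ 4 + (C a3 * X ^ 3 + C a2 * X ^ 2 + C a1 * X + C a0) : ℂ[X]).degree ≠ 0 := by
    rw [Polynomial.degree_add_eq_left_of_degree_lt]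
    · rw [Polynomial.degree_C_mul_X_pow 4 h4]; norm_num
    · rw [Polynomial.degree_C_mul_X_pow 4 h4]
      exact lt_of_le_of_lt Polynomial.degree_cubic_le (by norm_num)
  obtain ⟨r, hr⟩ := IsAlgClosed.exists_root _ hdeg
  refine ⟨r, ?_⟩
  simp only [IsRoot.def, eval_add, eval_mul, eval_C, eval_pow, eval_X] at hr
  linear_combination hr

lemma flex_root (g₃ g₂ g₁ g₀ : ℂ) (h3 : g₃ ≠ 0)
    (hsq : ∀ t : ℂ, g₃ * t ^ 3 + g₂ * t ^ 2 + g₁ * t + g₀ = 0 →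
      3 * g₃ * t ^ 2 + 2 * g₂ * t + g₁ ≠ 0) :
    ∃ x₀ : ℂ, 2 * (g₃ * x₀ ^ 3 + g₂ * x₀ ^ 2 + g₁ * x₀ + g₀) * (6 * g₃ * x₀ + 2 * g₂) =
        (3 * g₃ * x₀ ^ 2 + 2 * g₂ * x₀ + g₁) ^ 2 ∧
      g₃ * x₀ ^ 3 + g₂ * x₀ ^ 2 + g₁ * x₀ + g₀ ≠ 0 ∧ 3 * g₃ * x₀ ^ 2 + 2 * g₂ * x₀ + g₁ ≠ 0 := by
  obtain ⟨r, hr⟩ := exists_quartic_root (4 * g₀ * g₂ - g₁ ^ 2) (12 * g₀ * g₃) (6 * g₁ * g₃)
    (4 * g₂ * g₃) (3 * g₃ ^ 2) (mul_ne_zero (by norm_num) (pow_ne_zero 2 h3))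
  have hψ : 2 * (g₃ * r ^ 3 + g₂ * r ^ 2 + g₁ * r + g₀) * (6 * g₃ * r + 2 * g₂) =
      (3 * g₃ * r ^ 2 + 2 * g₂ * r + g₁) ^ 2 := by
    linear_combination hr
  have hg : g₃ * r ^ 3 + g₂ * r ^ 2 + g₁ * r + g₀ ≠ 0 := by
    intro h
    apply hsq r h
    rw [h] at hψ
    have : (3 * g₃ * r ^ 2 + 2 * g₂ * r + g₁) ^ 2 = 0 := by linear_combination -hψ
    exact pow_eq_zero_iff (two_ne_zero) |>.mp this
  by_cases hM : 3 * g₃ * r ^ 2 + 2 * g₂ * r + g₁ = 0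
  · -- choose another root
    have hN : 6 * g₃ * r + 2 * g₂ = 0 := by
      rw [hM] at hψ
      have : (2 * (g₃ * r ^ 3 + g₂ * r ^ 2 + g₁ * r + g₀)) * (6 * g₃ * r + 2 * g₂) = 0 := by
        linear_combination hψ
      exact (mul_eq_zero.mp this).resolve_left (mul_ne_zero (by norm_num) hg)
    obtain ⟨G, hG⟩ : ∃ G, G = g₃ * r ^ 3 + g₂ * r ^ 2 + g₁ * r + g₀ := ⟨_, rfl⟩
    rw [← hG] at hg
    obtain ⟨s, hs⟩ := IsAlgClosed.exists_pow_nat_eq (-4 * G / g₃) (n := 3) (by norm_num)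
    have hs' : g₃ * s ^ 3 = -4 * G := by rw [hs]; field_simp
    have hs0 : s ≠ 0 := by
      rintro rfl
      have : (-4 : ℂ) * G = 0 := by rw [← hs']; ring
      exact hg ((mul_eq_zero.mp this).resolve_left (by norm_num))
    -- Taylor expansion at r
    have hg₂ : g₂ = -3 * g₃ * r := by linear_combination (1 / 2 : ℂ) * hN
    have hg₁ : g₁ = 3 * g₃ * r ^ 2 := by rw [hg₂] at hM; linear_combination hM
    have hg₀ : g₀ = G - g₃ * r ^ 3 := by rw [hG, hg₂, hg₁]; ring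
    refine ⟨r + s, ?_, ?_, ?_⟩
    · rw [hg₂, hg₁, hg₀]
      linear_combination (3 * g₃ * s) * hs'
    · have : g₃ * (r + s) ^ 3 + g₂ * (r + s) ^ 2 + g₁ * (r + s) + g₀ = -3 * G := by
        rw [hg₂, hg₁, hg₀]; linear_combination hs'
      rw [this]
      exact mul_ne_zero (by norm_num) hg
    · have : 3 * g₃ * (r + s) ^ 2 + 2 * g₂ * (r + s) + g₁ = 3 * g₃ * s ^ 2 := by
        rw [hg₂, hg₁]; ring
      rw [this]
      exact mul_ne_zero (mul_ne_zero (by norm_num) h3) (pow_ne_zero 2 hs0)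
  · exact ⟨r, hψ, hg, hM⟩

end Groth.Agent.Helper27.Cubic
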