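import Mathlib
import Groth.Prelude.Def_W4c5monodromycubicsHesse
namespace Groth.Agent.Helper27.Hesse
open MvPolynomial Matrix

theorem ident0 (k v0 v1 v2 w0 w1 w2 : ℂ)
    (hC : (v0^3+v1^3+v2^3-3*k*(v0*v1*v2)) = 0) (hL : ((v0^2-k*v1*v2)*w0+(v1^2-k*v0*v2)*w1+(v2^2-k*v0*v1)*w2) = 0) (hQ : (v0*w0^2+v1*w1^2+v2*w2^2-k*(v0*w1*w2+v1*w0*w2+v2*w0*w1)) = 0) :
    8*(1-k^3)*(v0*v1*v2)*(v1*w2-v2*w1)^2 = 0 := by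
  linear_combination (4*(v0*w0^2+v1*w1^2+v2*w2^2-k*(v0*w1*w2+v1*w0*w2+v2*w0*w1))*(2*v0)-2*(2*v0*w0-k*v2*w1-k*v1*w2)^2+2*k^2*(v1*w2-v2*w1)^2) * hC
      + (-4*((v0^2-k*v1*v2)*w0+(v1^2-k*v0*v2)*w1+(v2^2-k*v0*v1)*w2)*(2*v0)+4*(2*v0*v0-k*v2*v1-k*v1*v2)*(2*v0*w0-k*v2*w1-k*v1*w2)) * hL + (-2*(2*v0*v0-k*v2*v1-k*v1*v2)^2) * hQ

theorem ident1 (k v0 v1 v2 w0 w1 w2 : ℂ)
    (hC : (v0^3+v1^3+v2^3-3*k*(v0*v1*v2)) = 0) (hL : ((v0^2-k*v1*v2)*w0+(v1^2-k*v0*v2)*w1+(v2^2-k*v0*v1)*w2) = 0) (hQ : (v0*w0^2+v1*w1^2+v2*w2^2-k*(v0*w1*w2+v1*w0*w2+v2*w0*w1)) = 0) :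
    8*(1-k^3)*(v0*v1*v2)*(v2*w0-v0*w2)^2 = 0 := by
  linear_combination (4*(v0*w0^2+v1*w1^2+v2*w2^2-k*(v0*w1*w2+v1*w0*w2+v2*w0*w1))*(2*v1)-2*(-k*v2*w0+2*v1*w1-k*v0*w2)^2+2*k^2*(v2*w0-v0*w2)^2) * hC
      + (-4*((v0^2-k*v1*v2)*w0+(v1^2-k*v0*v2)*w1+(v2^2-k*v0*v1)*w2)*(2*v1)+4*(-k*v2*v0+2*v1*v1-k*v0*v2)*(-k*v2*w0+2*v1*w1-k*v0*w2)) * hL + (-2*(-k*v2*v0+2*v1*v1-k*v0*v2)^2) * hQ

theorem ident2 (k v0 v1 v2 w0 w1 w2 : ℂ)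
    (hC : (v0^3+v1^3+v2^3-3*k*(v0*v1*v2)) = 0) (hL : ((v0^2-k*v1*v2)*w0+(v1^2-k*v0*v2)*w1+(v2^2-k*v0*v1)*w2) = 0) (hQ : (v0*w0^2+v1*w1^2+v2*w2^2-k*(v0*w1*w2+v1*w0*w2+v2*w0*w1)) = 0) :
    8*(1-k^3)*(v0*v1*v2)*(v0*w1-v1*w0)^2 = 0 := by
  linear_combination (4*(v0*w0^2+v1*w1^2+v2*w2^2-k*(v0*w1*w2+v1*w0*w2+v2*w0*w1))*(2*v2)-2*(-k*v1*w0-k*v0*w1+2*v2*w2)^2+2*k^2*(v0*w1-v1*w0)^2) * hC
      + (-4*((v0^2-k*v1*v2)*w0+(v1^2-k*v0*v2)*w1+(v2^2-k*v0*v1)*w2)*(2*v2)+4*(-k*v1*v0-k*v0*v1+2*v2*v2)*(-k*v1*w0-k*v0*w1+2*v2*w2)) * hL + (-2*(-k*v1*v0-k*v0*v1+2*v2*v2)^2) * hQ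

theorem eval_form (k : ℂ) (v : Fin 3 → ℂ) :
    eval v (HesseCubic.form k) = v 0 ^ 3 + v 1 ^ 3 + v 2 ^ 3 - 3 * k * (v 0 * v 1 * v 2) := by
  simp [HesseCubic.form]

/-- the key algebraic fact: a flex forces `v 0 * v 1 * v 2 = 0`. -/
theorem flex_prod_zero (k : ℂ) (hk : k ^ 3 ≠ 1) (v w : Fin 3 → ℂ)
    (hCv : eval v (HesseCubic.form k) = 0)
    (hli : LinearIndependent ℂ ![v, w])
    (hflex : ∀ t : ℂ, eval (v + t • w) (HesseCubic.form k) = t ^ 3 * eval w (HesseCubic.form k)) :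
    v 0 * v 1 * v 2 = 0 := by
  rw [eval_form] at hCv
  have h1 := hflex 1
  have h2 := hflex (-1)
  simp only [eval_form, Pi.add_apply, Pi.smul_apply, smul_eq_mul] at h1 h2
  have hL : (v 0 ^ 2 - k * v 1 * v 2) * w 0 + (v 1 ^ 2 - k * v 0 * v 2) * w 1 +
      (v 2 ^ 2 - k * v 0 * v 1) * w 2 = 0 := by
    linear_combination (1 / 6 : ℂ) * h1 - (1 / 6 : ℂ) * h2
  have hQ : v 0 * w 0 ^ 2 + v 1 * w 1 ^ 2 + v 2 * w 2 ^ 2 -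
      k * (v 0 * w 1 * w 2 + v 1 * w 0 * w 2 + v 2 * w 0 * w 1) = 0 := by
    linear_combination (1 / 6 : ℂ) * h1 + (1 / 6 : ℂ) * h2 - (1 / 3 : ℂ) * hCv
  have hn := crossProduct_ne_zero_iff_linearIndependent.mpr hli
  obtain ⟨i, hi⟩ := Function.ne_iff.mp hn
  have hdet : (8 * (1 - k ^ 3)) * (v 0 * v 1 * v 2) * ((v ⨯₃ w) i) ^ 2 = 0 := by
    fin_cases i
    · have e : (v ⨯₃ w) 0 = v 1 * w 2 - v 2 * w 1 := by simp [cross_apply]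
      simp only [Fin.zero_eta]
      rw [e]
      exact ident0 k (v 0) (v 1) (v 2) (w 0) (w 1) (w 2) hCv hL hQ
    · have e : (v ⨯₃ w) 1 = v 2 * w 0 - v 0 * w 2 := by simp [cross_apply]
      simp only [Fin.mk_one]
      rw [e]
      exact ident1 k (v 0) (v 1) (v 2) (w 0) (w 1) (w 2) hCv hL hQ
    · have e : (v ⨯₃ w) 2 = v 0 * w 1 - v 1 * w 0 := by simp [cross_apply]
      simp only [Fin.reduceFinMk]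
      rw [e]
      exact ident2 k (v 0) (v 1) (v 2) (w 0) (w 1) (w 2) hCv hL hQ
  have h1k : (1 : ℂ) - k ^ 3 ≠ 0 := fun h => hk (by linear_combination -h)
  rcases mul_eq_zero.mp hdet with h | h
  · rcases mul_eq_zero.mp h with h' | h'
    · exact absurd h' (mul_ne_zero (by norm_num) h1k)
    · exact h'
  · exact absurd ((pow_eq_zero_iff (two_ne_zero)).mp h) hi

end Groth.Agent.Helper27.Hesse
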