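import Mathlib
import Groth.Prelude.Def_W4c5monodromycubicsHesse
import Groth.Agent.Lib.Helper27.Hesse

/-! Helper lemmas towards the count of linear automorphisms of a general Hesse cubic. -/

namespace Groth.Agent.Helper27.Hesse54
open Matrix

/-- sum of cubes -/
noncomputable def S (v : Fin 3 → ℂ) : ℂ := ∑ i, v i ^ 3
/-- product of coordinates -/
noncomputable def P (v : Fin 3 → ℂ) : ℂ := ∏ i, v i
/-- the Hesse cubic as a function -/
noncomputable def Hk (k : ℂ) (v : Fin 3 → ℂ) : ℂ := S v - 3 * k * P v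

lemma S_eq (v : Fin 3 → ℂ) : S v = v 0 ^ 3 + v 1 ^ 3 + v 2 ^ 3 := by
  simp [S, Fin.sum_univ_three]

lemma P_eq (v : Fin 3 → ℂ) : P v = v 0 * v 1 * v 2 := by
  simp [P, Fin.prod_univ_three]

lemma Hk_eq_eval (k : ℂ) (v : Fin 3 → ℂ) :
    Hk k v = MvPolynomial.eval v (HesseCubic.form k) := by
  rw [Hesse.eval_form, Hk, S_eq, P_eq]

lemma mulVec3 (A : Matrix (Fin 3) (Fin 3) ℂ) (v : Fin 3 → ℂ) (i : Fin 3) :
    (A *ᵥ v) i = A i 0 * v 0 + A i 1 * v 1 + A i 2 * v 2 := by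
  simp [Matrix.mulVec, dotProduct, Fin.sum_univ_three]

lemma bridge (A : Matrix (Fin 3) (Fin 3) ℂ) (k c : ℂ) :
    MvPolynomial.aeval (fun i : Fin 3 => ∑ j : Fin 3, MvPolynomial.C (A i j) * MvPolynomial.X j)
        (HesseCubic.form k) = MvPolynomial.C c * HesseCubic.form k ↔
      ∀ v, Hk k (A *ᵥ v) = c * Hk k v := by
  constructor
  · intro h v
    have h1 := congrArg (MvPolynomial.eval v) h
    rw [Hk_eq_eval, Hk_eq_eval, Hesse.eval_form]
    rw [Hesse.eval_form] at *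
    simp only [HesseCubic.form, map_sub, map_add, map_pow, map_mul, MvPolynomial.aeval_X,
      MvPolynomial.aeval_C, MvPolynomial.algebraMap_eq, MvPolynomial.eval_C,
      MvPolynomial.eval_X, Fin.sum_univ_three] at h1
    simp only [mulVec3]
    linear_combination h1
  · intro h
    apply MvPolynomial.funext
    intro v
    have h1 := h v
    rw [Hk_eq_eval, Hk_eq_eval, Hesse.eval_form] at h1
    simp only [mulVec3] at h1
    simp only [HesseCubic.form, map_sub, map_add, map_pow, map_mul, MvPolynomial.aeval_X,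
      MvPolynomial.aeval_C, MvPolynomial.algebraMap_eq, MvPolynomial.eval_C,
      MvPolynomial.eval_X, Fin.sum_univ_three]
    rw [Hesse.eval_form] at h1
    linear_combination h1

/-- a fixed primitive cube root of unity -/
noncomputable def ω : ℂ := Complex.exp (2 * Real.pi * Complex.I / (3 : ℕ))

lemma ω_prim : IsPrimitiveRoot ω 3 := Complex.isPrimitiveRoot_exp 3 (by norm_num)

lemma hω : ω ^ 2 + ω + 1 = 0 := by
  have h := ω_prim.geom_sum_eq_zero (by norm_num)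
  simp only [Finset.sum_range_succ, Finset.sum_range_zero, pow_zero, pow_one, zero_add] at h
  linear_combination h

lemma ω_cube : ω ^ 3 = 1 := ω_prim.pow_eq_one

lemma ω_ne_one : ω ≠ 1 := ω_prim.ne_one (by norm_num)

lemma ω_ne_zero : ω ≠ 0 := ω_prim.ne_zero (by norm_num)

lemma cube_root (x : ℂ) (hx : x ^ 3 = 1) : x = 1 ∨ x = ω ∨ x = ω ^ 2 := by
  have h : (x - 1) * ((x - ω) * (x - ω ^ 2)) = 0 := by
    linear_combination hx + (1 - ω + ω * x - x ^ 2) * hω
  rcases mul_eq_zero.mp h with h | h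
  · left; linear_combination h
  · rcases mul_eq_zero.mp h with h | h
    · right; left; linear_combination h
    · right; right; linear_combination h

lemma vdm (a b c d : ℂ) (h1 : a - b + c - d = 0)
    (h2 : a - ω * b + ω ^ 2 * c - ω ^ 3 * d = 0)
    (h3 : a - ω ^ 2 * b + (ω ^ 2) ^ 2 * c - (ω ^ 2) ^ 3 * d = 0) :
    a = d ∧ b = 0 ∧ c = 0 := by
  refine ⟨?_, ?_, ?_⟩
  · have : 3 * (a - d) = 0 := by
      linear_combination h1 + h2 + h3 +
        (b - c + c*ω - c*ω^2 - 2*d + 2*d*ω - d*ω^3 + d*ω^4) * hω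
    have h3' : (3 : ℂ) ≠ 0 := by norm_num
    linear_combination (1 / 3 : ℂ) * this
  · have : -3 * b = 0 := by
      linear_combination h1 + ω ^ 2 * h2 + ω ^ 4 * h3 +
        (-a + a*ω - a*ω^2 - 2*b + 2*b*ω - b*ω^3 + b*ω^4 - c + c*ω - c*ω^3 + c*ω^5 - c*ω^6 + d
          - d*ω + d*ω^3 - d*ω^4 + d*ω^5 - d*ω^7 + d*ω^8) * hω
    linear_combination (-1 / 3 : ℂ) * this
  · have : 3 * c = 0 := by
      linear_combination h1 + ω * h2 + ω ^ 2 * h3 +
        (-a + b - b*ω + b*ω^2 + 2*c - 2*c*ω + c*ω^3 - c*ω^4 + d - d*ω + d*ω^3 - d*ω^5 + d*ω^6) * hω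
    linear_combination (1 / 3 : ℂ) * this

/-- three binary linear forms whose product vanishes at the three points `(1, -γ)` -/
lemma lemB (a0 a1 a2 b0 b1 b2 : ℂ)
    (h : ∀ γ : ℂ, γ ^ 3 = 1 → (a0 - γ * b0) * (a1 - γ * b1) * (a2 - γ * b2) = 0) :
    a0 * a1 * a2 = b0 * b1 * b2 ∧ a0 * a1 * b2 + a0 * b1 * a2 + b0 * a1 * a2 = 0 ∧
      a0 * b1 * b2 + b0 * a1 * b2 + b0 * b1 * a2 = 0 := by
  have e1 := h 1 (by norm_num)
  have e2 := h ω ω_cube
  have e3 := h (ω ^ 2) (by rw [← pow_mul, mul_comm, pow_mul, ω_cube, one_pow])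
  apply vdm
  · linear_combination e1
  · linear_combination e2
  · linear_combination e3

lemma pencil (A : Matrix (Fin 3) (Fin 3) ℂ)
    (h1 : ∀ γ : ℂ, γ ^ 3 = 1 → P (A *ᵥ ![0, 1, -γ]) = 0)
    (h2 : ∀ γ : ℂ, γ ^ 3 = 1 → P (A *ᵥ ![-γ, 0, 1]) = 0)
    (h3 : ∀ γ : ℂ, γ ^ 3 = 1 → P (A *ᵥ ![1, -γ, 0]) = 0) :
    ∃ α β : ℂ, ∀ v, P (A *ᵥ v) = α * S v + β * P v := by
  obtain ⟨r1a, r1b, r1c⟩ := lemB (A 0 1) (A 1 1) (A 2 1) (A 0 2) (A 1 2) (A 2 2) (by
    intro γ hγ
    have := h1 γ hγ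
    simp only [P_eq, mulVec3] at this
    simp only [Matrix.cons_val_zero, Matrix.cons_val_one, Matrix.cons_val_two,
      Matrix.head_cons, Matrix.tail_cons] at this
    linear_combination this)
  obtain ⟨r2a, r2b, r2c⟩ := lemB (A 0 2) (A 1 2) (A 2 2) (A 0 0) (A 1 0) (A 2 0) (by
    intro γ hγ
    have := h2 γ hγ
    simp only [P_eq, mulVec3] at this
    simp only [Matrix.cons_val_zero, Matrix.cons_val_one, Matrix.cons_val_two,
      Matrix.head_cons, Matrix.tail_cons] at this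
    linear_combination this)
  obtain ⟨r3a, r3b, r3c⟩ := lemB (A 0 0) (A 1 0) (A 2 0) (A 0 1) (A 1 1) (A 2 1) (by
    intro γ hγ
    have := h3 γ hγ
    simp only [P_eq, mulVec3] at this
    simp only [Matrix.cons_val_zero, Matrix.cons_val_one, Matrix.cons_val_two,
      Matrix.head_cons, Matrix.tail_cons] at this
    linear_combination this)
  refine ⟨A 0 0 * A 1 0 * A 2 0,
    A 0 0 * A 1 1 * A 2 2 + A 0 0 * A 1 2 * A 2 1 + A 0 1 * A 1 0 * A 2 2 + A 0 1 * A 1 2 * A 2 0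
      + A 0 2 * A 1 0 * A 2 1 + A 0 2 * A 1 1 * A 2 0, ?_⟩
  intro v
  simp only [P_eq, S_eq, mulVec3]
  linear_combination (-(v 1 ^ 3)) * r3a + (v 2 ^ 3) * r2a + (v 0 ^ 2 * v 1) * r3b
    + (v 0 ^ 2 * v 2) * r2c + (v 0 * v 1 ^ 2) * r3c + (v 1 ^ 2 * v 2) * r1b
    + (v 0 * v 2 ^ 2) * r2b + (v 1 * v 2 ^ 2) * r1c

lemma triangle (A : Matrix (Fin 3) (Fin 3) ℂ) (hdet : A.det ≠ 0) (α β : ℂ)
    (hG : ∀ v, P (A *ᵥ v) = α * S v + β * P v) : α = 0 ∨ β ^ 3 = -27 * α ^ 3 := by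
  have hu : IsUnit A.det := isUnit_iff_ne_zero.mpr hdet
  obtain ⟨v, hv⟩ : ∃ v, v = A⁻¹ *ᵥ ![0, 0, 1] := ⟨_, rfl⟩
  have hAv : A *ᵥ v = ![0, 0, 1] := by
    rw [hv, Matrix.mulVec_mulVec, Matrix.mul_nonsing_inv A hu, Matrix.one_mulVec]
  have hv0 : v ≠ 0 := by
    rintro rfl
    rw [Matrix.mulVec_zero] at hAv
    have := congrFun hAv 2
    simp at this
  have key : ∀ (w : Fin 3 → ℂ) (t : ℂ),
      (t * (A *ᵥ w) 0) * (t * (A *ᵥ w) 1) * (1 + t * (A *ᵥ w) 2) =
        α * S (v + t • w) + β * P (v + t • w) := by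
    intro w t
    have := hG (v + t • w)
    rw [Matrix.mulVec_add, Matrix.mulVec_smul, hAv, P_eq] at this
    simpa using this
  have d0 : 3 * α * v 0 ^ 2 + β * (v 1 * v 2) = 0 := by
    have e1 := key ![1, 0, 0] 1
    have e2 := key ![1, 0, 0] (-1)
    have e3 := key ![1, 0, 0] 2
    have e4 := key ![1, 0, 0] (-2)
    simp only [S_eq, P_eq, Pi.add_apply, Pi.smul_apply, smul_eq_mul, Matrix.cons_val_zero,
      Matrix.cons_val_one, Matrix.cons_val_two, Matrix.head_cons, Matrix.tail_cons] at e1 e2 e3 e4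
    linear_combination (-(8 * (e1 - e2) - (e3 - e4)) / 12)
  have d1 : 3 * α * v 1 ^ 2 + β * (v 0 * v 2) = 0 := by
    have e1 := key ![0, 1, 0] 1
    have e2 := key ![0, 1, 0] (-1)
    have e3 := key ![0, 1, 0] 2
    have e4 := key ![0, 1, 0] (-2)
    simp only [S_eq, P_eq, Pi.add_apply, Pi.smul_apply, smul_eq_mul, Matrix.cons_val_zero,
      Matrix.cons_val_one, Matrix.cons_val_two, Matrix.head_cons, Matrix.tail_cons] at e1 e2 e3 e4
    linear_combination (-(8 * (e1 - e2) - (e3 - e4)) / 12)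
  have d2 : 3 * α * v 2 ^ 2 + β * (v 0 * v 1) = 0 := by
    have e1 := key ![0, 0, 1] 1
    have e2 := key ![0, 0, 1] (-1)
    have e3 := key ![0, 0, 1] 2
    have e4 := key ![0, 0, 1] (-2)
    simp only [S_eq, P_eq, Pi.add_apply, Pi.smul_apply, smul_eq_mul, Matrix.cons_val_zero,
      Matrix.cons_val_one, Matrix.cons_val_two, Matrix.head_cons, Matrix.tail_cons] at e1 e2 e3 e4
    linear_combination (-(8 * (e1 - e2) - (e3 - e4)) / 12)
  by_cases hα : α = 0
  · exact Or.inl hα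
  right
  have hprod : (27 * α ^ 3 + β ^ 3) * (v 0 * v 1 * v 2) ^ 2 = 0 := by
    linear_combination (9 * α ^ 2 * v 1 ^ 2 * v 2 ^ 2) * d0
      + (-(3 * α * v 2 ^ 2 * β * v 1 * v 2)) * d1 + (β ^ 2 * v 1 * v 2 * v 0 * v 2) * d2
  rcases mul_eq_zero.mp hprod with h | h
  · linear_combination h
  · exfalso
    have h' : v 0 * v 1 * v 2 = 0 := pow_eq_zero_iff (two_ne_zero) |>.mp h
    have h3α : (3 : ℂ) * α ≠ 0 := mul_ne_zero (by norm_num) hα
    apply hv0
    rcases mul_eq_zero.mp h' with h'' | h2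
    · rcases mul_eq_zero.mp h'' with h0 | h1
      · have e1 : v 1 = 0 := by
          have : 3 * α * v 1 ^ 2 = 0 := by rw [h0] at d1; linear_combination d1
          exact pow_eq_zero_iff (two_ne_zero) |>.mp ((mul_eq_zero.mp this).resolve_left h3α)
        have e2 : v 2 = 0 := by
          have : 3 * α * v 2 ^ 2 = 0 := by rw [h0] at d2; linear_combination d2
          exact pow_eq_zero_iff (two_ne_zero) |>.mp ((mul_eq_zero.mp this).resolve_left h3α)
        funext i; fin_cases i <;> simp [h0, e1, e2]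
      · have e0 : v 0 = 0 := by
          have : 3 * α * v 0 ^ 2 = 0 := by rw [h1] at d0; linear_combination d0
          exact pow_eq_zero_iff (two_ne_zero) |>.mp ((mul_eq_zero.mp this).resolve_left h3α)
        have e2 : v 2 = 0 := by
          have : 3 * α * v 2 ^ 2 = 0 := by rw [h1] at d2; linear_combination d2
          exact pow_eq_zero_iff (two_ne_zero) |>.mp ((mul_eq_zero.mp this).resolve_left h3α)
        funext i; fin_cases i <;> simp [h1, e0, e2]
    · have e0 : v 0 = 0 := by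
        have : 3 * α * v 0 ^ 2 = 0 := by rw [h2] at d0; linear_combination d0
        exact pow_eq_zero_iff (two_ne_zero) |>.mp ((mul_eq_zero.mp this).resolve_left h3α)
      have e1 : v 1 = 0 := by
        have : 3 * α * v 1 ^ 2 = 0 := by rw [h2] at d1; linear_combination d1
        exact pow_eq_zero_iff (two_ne_zero) |>.mp ((mul_eq_zero.mp this).resolve_left h3α)
      funext i; fin_cases i <;> simp [h2, e0, e1]

end Groth.Agent.Helper27.Hesse54
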