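import Mathlib
import Groth.Agent.Lib.Helper27.CubicM
import Groth.Agent.Lib.Helper27.Hesse54a
import Groth.Agent.Lib.Helper27.Hesse

/-! From the Weierstrass-type normal form to the Hesse normal form: the algebraic core. -/

namespace Groth.Agent.Helper27.Cubic
open Groth.Agent.Helper27.Hesse54 (ω hω)

lemma dft_prod (x a b : ℂ) :
    (x + a + b) * (x + ω * a + ω ^ 2 * b) * (x + ω ^ 2 * a + ω * b) =
      x ^ 3 + a ^ 3 + b ^ 3 - 3 * x * a * b := by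
  linear_combination (-a*b*ω*x + a*b*ω^2*x + 3*a*b*x + a*b^2*ω^2 + a*x^2 + a^2*b*ω^2 + a^2*ω*x
    - a^3 + a^3*ω + b*x^2 + b^2*ω*x - b^3 + b^3*ω) * hω

lemma core_identity (A₀ g₃ g₂ g₁ g₀ x₀ y₀ lam M N : ℂ)
    (hy₀ : y₀ ^ 2 = g₃ * x₀ ^ 3 + g₂ * x₀ ^ 2 + g₁ * x₀ + g₀)
    (hM : M = 3 * g₃ * x₀ ^ 2 + 2 * g₂ * x₀ + g₁) (hN : N = 3 * g₃ * x₀ + g₂)
    (hψ : M ^ 2 = 4 * N * y₀ ^ 2) (hy₀0 : y₀ ≠ 0)
    (hlam : lam ^ 3 * (M ^ 3 - 54 * y₀ ^ 4 * g₃) = M ^ 3) (xh yh zh : ℂ) :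
    A₀ * ((M * y₀ * (ω - ω ^ 2) * (yh - zh)) ^ 2 * (M * (lam * xh + yh + zh))
        - (g₃ * (-6 * y₀ ^ 2 * lam * xh + x₀ * (M * (lam * xh + yh + zh))) ^ 3
          + g₂ * (-6 * y₀ ^ 2 * lam * xh + x₀ * (M * (lam * xh + yh + zh))) ^ 2
              * (M * (lam * xh + yh + zh))
          + g₁ * (-6 * y₀ ^ 2 * lam * xh + x₀ * (M * (lam * xh + yh + zh)))
              * (M * (lam * xh + yh + zh)) ^ 2
          + g₀ * (M * (lam * xh + yh + zh)) ^ 3)) =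
      (-4 * A₀ * y₀ ^ 2 * M ^ 3) * (xh ^ 3 + yh ^ 3 + zh ^ 3 - 3 * lam * (xh * yh * zh)) := by
  obtain ⟨s, hs⟩ : ∃ s, s = -6 * y₀ ^ 2 * lam * xh := ⟨_, rfl⟩
  obtain ⟨z, hz⟩ : ∃ z, z = M * (lam * xh + yh + zh) := ⟨_, rfl⟩
  obtain ⟨y, hy⟩ : ∃ y, y = M * y₀ * (ω - ω ^ 2) * (yh - zh) := ⟨_, rfl⟩
  rw [← hs, ← hz, ← hy]
  -- Step A: Taylor expansion
  have hA : g₃ * (s + x₀ * z) ^ 3 + g₂ * (s + x₀ * z) ^ 2 * z + g₁ * (s + x₀ * z) * z ^ 2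
      + g₀ * z ^ 3 = g₃ * s ^ 3 + N * s ^ 2 * z + M * s * z ^ 2 + y₀ ^ 2 * z ^ 3 := by
    rw [hy₀, hM, hN]; ring
  rw [hA]
  -- Step B
  have hB : z * (-M * s + 2 * y₀ * y - 2 * y₀ ^ 2 * z) * (-M * s - 2 * y₀ * y - 2 * y₀ ^ 2 * z)
      + 4 * y₀ ^ 2 * (y ^ 2 * z - (g₃ * s ^ 3 + N * s ^ 2 * z + M * s * z ^ 2 + y₀ ^ 2 * z ^ 3))
      = -4 * y₀ ^ 2 * g₃ * s ^ 3 := by
    linear_combination (s ^ 2 * z) * hψ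
  -- Step C
  have hC2 : -M * s + 2 * y₀ * y - 2 * y₀ ^ 2 * z =
      4 * M * y₀ ^ 2 * (lam * xh + ω * yh + ω ^ 2 * zh) := by
    rw [hs, hy, hz]
    linear_combination (-2 * M * y₀ ^ 2 * (yh + zh)) * hω
  have hC3 : -M * s - 2 * y₀ * y - 2 * y₀ ^ 2 * z =
      4 * M * y₀ ^ 2 * (lam * xh + ω ^ 2 * yh + ω * zh) := by
    rw [hs, hy, hz]
    linear_combination (-2 * M * y₀ ^ 2 * (yh + zh)) * hω
  rw [hC2, hC3] at hB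
  -- Step D
  have hD := dft_prod (lam * xh) yh zh
  -- Step E
  have h4 : (4 * y₀ ^ 2) * (A₀ * (y ^ 2 * z - (g₃ * s ^ 3 + N * s ^ 2 * z + M * s * z ^ 2
      + y₀ ^ 2 * z ^ 3)) - (-4 * A₀ * y₀ ^ 2 * M ^ 3) *
        (xh ^ 3 + yh ^ 3 + zh ^ 3 - 3 * lam * (xh * yh * zh))) = 0 := by
    have hB' : 4 * y₀ ^ 2 * (y ^ 2 * z - (g₃ * s ^ 3 + N * s ^ 2 * z + M * s * z ^ 2
        + y₀ ^ 2 * z ^ 3)) = -4 * y₀ ^ 2 * g₃ * s ^ 3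
        - 16 * M ^ 3 * y₀ ^ 4 * ((lam * xh + yh + zh) * (lam * xh + ω * yh + ω ^ 2 * zh)
          * (lam * xh + ω ^ 2 * yh + ω * zh)) := by
      linear_combination hB - (16 * M ^ 2 * y₀ ^ 4 * (lam * xh + ω * yh + ω ^ 2 * zh)
        * (lam * xh + ω ^ 2 * yh + ω * zh)) * hz
    rw [hD] at hB'
    subst hs
    linear_combination A₀ * hB' - (16 * A₀ * y₀ ^ 4 * xh ^ 3) * hlam
  have h4y : (4 : ℂ) * y₀ ^ 2 ≠ 0 := mul_ne_zero (by norm_num) (pow_ne_zero 2 hy₀0)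
  exact sub_eq_zero.mp ((mul_eq_zero.mp h4).resolve_left h4y)

open MvPolynomial Matrix in
theorem hesse_normal_form {f : MvPolynomial (Fin 3) ℂ} (hf : f.IsHomogeneous 3)
    (hsm : ∀ v : Fin 3 → ℂ, v ≠ 0 → eval v f = 0 → ∃ i : Fin 3, eval v (pderiv i f) ≠ 0) :
    ∃ (A : Matrix (Fin 3) (Fin 3) ℂ) (k c : ℂ), IsUnit A.det ∧ k ^ 3 ≠ 1 ∧ c ≠ 0 ∧
      ∀ v, eval (A *ᵥ v) f = c * eval v (HesseCubic.form k) := by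
  have hT : (ofPoly f).Smooth := ofPoly_smooth hf hsm
  obtain ⟨v, w, hv0, hfv, h1, h2, hind⟩ := exists_flex hf hT
  obtain ⟨b₁, b₂, b₃, A₀, g₃, g₂, g₁, g₀, hA₀, hg₃, hΦ, hspan, hindep⟩ :=
    weierstrass (ofPoly f) hT v w hv0 hfv h1 h2 hind
  -- squarefree
  have hsq : ∀ t : ℂ, g₃ * t ^ 3 + g₂ * t ^ 2 + g₁ * t + g₀ = 0 →
      3 * g₃ * t ^ 2 + 2 * g₂ * t + g₁ ≠ 0 := by
    intro t ht ht'
    refine no_singular (ofPoly f) b₁ b₂ b₃ A₀ g₃ g₂ g₁ g₀ hΦ hT hspan hindep t 0 1 ?_ ?_ ?_ ?_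
    · rintro ⟨-, -, h⟩; exact one_ne_zero h
    · linear_combination ht'
    · ring
    · linear_combination (-3 : ℂ) * ht + t * ht'
  obtain ⟨x₀, hψ0, hgx₀, hMx₀⟩ := flex_root g₃ g₂ g₁ g₀ hg₃ hsq
  obtain ⟨y₀, hy₀'⟩ := IsAlgClosed.exists_pow_nat_eq
    (g₃ * x₀ ^ 3 + g₂ * x₀ ^ 2 + g₁ * x₀ + g₀) (n := 2) (by norm_num)
  have hy₀ : y₀ ^ 2 = g₃ * x₀ ^ 3 + g₂ * x₀ ^ 2 + g₁ * x₀ + g₀ := hy₀'
  have hy₀0 : y₀ ≠ 0 := by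
    rintro rfl
    apply hgx₀; rw [← hy₀]; ring
  obtain ⟨M, hM⟩ : ∃ M, M = 3 * g₃ * x₀ ^ 2 + 2 * g₂ * x₀ + g₁ := ⟨_, rfl⟩
  obtain ⟨N, hN⟩ : ∃ N, N = 3 * g₃ * x₀ + g₂ := ⟨_, rfl⟩
  have hM0 : M ≠ 0 := by rw [hM]; exact hMx₀
  have hψ : M ^ 2 = 4 * N * y₀ ^ 2 := by
    rw [hM, hN, hy₀]; linear_combination -hψ0
  have hT1 : ∀ s z : ℂ, 3 * g₃ * (s + x₀ * z) ^ 2 + 2 * g₂ * (s + x₀ * z) * z + g₁ * z ^ 2 =
      3 * g₃ * s ^ 2 + 2 * N * s * z + M * z ^ 2 := by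
    intro s z; rw [hM, hN]; ring
  have hT3 : ∀ s z : ℂ, g₂ * (s + x₀ * z) ^ 2 + 2 * g₁ * (s + x₀ * z) * z + 3 * g₀ * z ^ 2 =
      (N * s ^ 2 + 2 * M * s * z + 3 * y₀ ^ 2 * z ^ 2)
        - x₀ * (3 * g₃ * s ^ 2 + 2 * N * s * z + M * z ^ 2) := by
    intro s z; rw [hy₀, hM, hN]; ring
  have hD : M ^ 3 - 54 * y₀ ^ 4 * g₃ ≠ 0 := by
    intro hD
    refine no_singular (ofPoly f) b₁ b₂ b₃ A₀ g₃ g₂ g₁ g₀ hΦ hT hspan hindep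
      (-6 * y₀ ^ 2 + x₀ * M) 0 M ?_ ?_ ?_ ?_
    · rintro ⟨-, -, h⟩; exact hM0 h
    · rw [hT1]; linear_combination (-2 : ℂ) * hD + (3 * M) * hψ
    · ring
    · rw [hT3]; linear_combination (9 * y₀ ^ 2 + 3 * M * x₀) * hψ + (-2 * x₀) * hD
  obtain ⟨lam, hlam0⟩ := IsAlgClosed.exists_pow_nat_eq
    (M ^ 3 / (M ^ 3 - 54 * y₀ ^ 4 * g₃)) (n := 3) (by norm_num)
  have hlam : lam ^ 3 * (M ^ 3 - 54 * y₀ ^ 4 * g₃) = M ^ 3 := by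
    rw [hlam0]; field_simp
  have hk : lam ^ 3 ≠ 1 := by
    intro h1
    rw [h1] at hlam
    have : (54 : ℂ) * y₀ ^ 4 * g₃ = 0 := by linear_combination -hlam
    exact mul_ne_zero (mul_ne_zero (by norm_num) (pow_ne_zero 4 hy₀0)) hg₃ this
  have hc : -4 * A₀ * y₀ ^ 2 * M ^ 3 ≠ 0 :=
    mul_ne_zero (mul_ne_zero (mul_ne_zero (by norm_num) hA₀) (pow_ne_zero 2 hy₀0))
      (pow_ne_zero 3 hM0)
  obtain ⟨β₁, hβ₁⟩ : ∃ β₁ : Fin 3 → ℂ, β₁ = (-6 * y₀ ^ 2 * lam + x₀ * M * lam) • b₁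
      + (M * lam) • b₃ := ⟨_, rfl⟩
  obtain ⟨β₂, hβ₂⟩ : ∃ β₂ : Fin 3 → ℂ, β₂ = (x₀ * M) • b₁ + (M * y₀ * (ω - ω ^ 2)) • b₂
      + M • b₃ := ⟨_, rfl⟩
  obtain ⟨β₃, hβ₃⟩ : ∃ β₃ : Fin 3 → ℂ, β₃ = (x₀ * M) • b₁ - (M * y₀ * (ω - ω ^ 2)) • b₂
      + M • b₃ := ⟨_, rfl⟩
  have hmain : ∀ xh yh zh : ℂ, eval (xh • β₁ + yh • β₂ + zh • β₃) f =
      (-4 * A₀ * y₀ ^ 2 * M ^ 3) * (xh ^ 3 + yh ^ 3 + zh ^ 3 - 3 * lam * (xh * yh * zh)) := by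
    intro xh yh zh
    have e : xh • β₁ + yh • β₂ + zh • β₃ =
        (-6 * y₀ ^ 2 * lam * xh + x₀ * (M * (lam * xh + yh + zh))) • b₁
        + (M * y₀ * (ω - ω ^ 2) * (yh - zh)) • b₂ + (M * (lam * xh + yh + zh)) • b₃ := by
      rw [hβ₁, hβ₂, hβ₃]; module
    rw [← ofPoly_f hf, e, hΦ]
    exact core_identity A₀ g₃ g₂ g₁ g₀ x₀ y₀ lam M N hy₀ hM hN hψ hy₀0 hlam xh yh zh
  obtain ⟨A, hAdef⟩ : ∃ A : Matrix (Fin 3) (Fin 3) ℂ,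
      A = Matrix.of (fun i j => (![β₁, β₂, β₃] : Fin 3 → Fin 3 → ℂ) j i) := ⟨_, rfl⟩
  have hA : ∀ u : Fin 3 → ℂ, A *ᵥ u = u 0 • β₁ + u 1 • β₂ + u 2 • β₃ := by
    intro u
    ext i
    rw [hAdef]
    simp [Matrix.mulVec, dotProduct, Fin.sum_univ_three]
    ring
  have hev : ∀ u : Fin 3 → ℂ, eval (A *ᵥ u) f =
      (-4 * A₀ * y₀ ^ 2 * M ^ 3) * eval u (HesseCubic.form lam) := by
    intro u
    rw [hA, hmain, Hesse.eval_form]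
  refine ⟨A, lam, -4 * A₀ * y₀ ^ 2 * M ^ 3, ?_, hk, hc, hev⟩
  by_contra hdet
  have hdet0 : A.det = 0 := by
    by_contra h; exact hdet (isUnit_iff_ne_zero.mpr h)
  obtain ⟨u, hu0, hAu⟩ := Matrix.exists_mulVec_eq_zero_iff.mpr hdet0
  have hinv : ∀ (x : Fin 3 → ℂ) (t : ℂ), eval (x + t • u) (HesseCubic.form lam) =
      eval x (HesseCubic.form lam) := by
    intro x t
    have h1 := hev (x + t • u)
    rw [Matrix.mulVec_add, Matrix.mulVec_smul, hAu, smul_zero, add_zero, hev] at h1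
    exact (mul_left_cancel₀ hc h1).symm
  apply hu0
  have key : ∀ i : Fin 3, u i = 0 := by
    intro i
    have p1 := hinv (Pi.single i 1) 1
    have p2 := hinv (Pi.single i 1) (-1)
    have p3 := hinv (Pi.single i 1) 2
    simp only [Hesse.eval_form, Pi.add_apply, Pi.smul_apply, smul_eq_mul] at p1 p2 p3
    fin_cases i
    · simp at p1 p2 p3
      show u 0 = 0
      linear_combination (6 * p1 - 2 * p2 - p3) / 18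
    · simp at p1 p2 p3
      show u 1 = 0
      linear_combination (6 * p1 - 2 * p2 - p3) / 18
    · simp at p1 p2 p3
      show u 2 = 0
      linear_combination (6 * p1 - 2 * p2 - p3) / 18
  ext i; exact key i

end Groth.Agent.Helper27.Cubic
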