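import Mathlib
import Groth.Agent.Lib.Helper27.CubicN
import Groth.Agent.S18404

/-! Flexes of a smooth plane cubic: transport to the Hesse form, transitivity. -/

namespace Groth.Agent.Helper27.Cubic
open MvPolynomial Matrix

lemma mulVec_injective_of_isUnit {B : Matrix (Fin 3) (Fin 3) ℂ} (hB : IsUnit B.det)
    {x : Fin 3 → ℂ} (hx : B *ᵥ x = 0) : x = 0 := by
  have := congrArg (fun y => B⁻¹ *ᵥ y) hx
  simpa [Matrix.mulVec_mulVec, Matrix.nonsing_inv_mul B hB] using this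

/-- flexes are carried to flexes by a linear equivalence of forms -/
lemma flex_push (f h : MvPolynomial (Fin 3) ℂ) (B : Matrix (Fin 3) (Fin 3) ℂ)
    (hB : IsUnit B.det) (c₀ : ℂ)
    (hev : ∀ x, eval (B *ᵥ x) f = c₀ * eval x h) (u : Fin 3 → ℂ) (hu : u ≠ 0)
    (hhu : eval u h = 0)
    (hfl : ∃ w : Fin 3 → ℂ, LinearIndependent ℂ ![u, w] ∧
      ∀ t : ℂ, eval (u + t • w) h = t ^ 3 * eval w h) :
    B *ᵥ u ≠ 0 ∧ eval (B *ᵥ u) f = 0 ∧ ∃ w : Fin 3 → ℂ, LinearIndependent ℂ ![B *ᵥ u, w] ∧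
      ∀ t : ℂ, eval (B *ᵥ u + t • w) f = t ^ 3 * eval w f := by
  refine ⟨fun h0 => hu (mulVec_injective_of_isUnit hB h0), by rw [hev, hhu, mul_zero], ?_⟩
  obtain ⟨w, hli, hw⟩ := hfl
  refine ⟨B *ᵥ w, ?_, ?_⟩
  · rw [LinearIndependent.pair_iff] at hli ⊢
    intro s t hst
    apply hli s t
    apply mulVec_injective_of_isUnit hB
    rw [Matrix.mulVec_add, Matrix.mulVec_smul, Matrix.mulVec_smul]
    exact hst
  · intro t
    rw [← Matrix.mulVec_smul, ← Matrix.mulVec_add, hev, hev, hw]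
    ring

/-- the inverse substitution -/
lemma hev_inv (f h : MvPolynomial (Fin 3) ℂ) (B : Matrix (Fin 3) (Fin 3) ℂ)
    (hB : IsUnit B.det) (c₀ : ℂ) (hc₀ : c₀ ≠ 0)
    (hev : ∀ x, eval (B *ᵥ x) f = c₀ * eval x h) :
    ∀ x, eval (B⁻¹ *ᵥ x) h = c₀⁻¹ * eval x f := by
  intro x
  have := hev (B⁻¹ *ᵥ x)
  rw [Matrix.mulVec_mulVec, Matrix.mul_nonsing_inv B hB, Matrix.one_mulVec] at this
  rw [this]
  field_simp

/-- linear automorphisms of the Hesse form -/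
def HAut (k : ℂ) (g : Matrix (Fin 3) (Fin 3) ℂ) : Prop :=
  IsUnit g.det ∧ ∀ x, eval (g *ᵥ x) (HesseCubic.form k) = eval x (HesseCubic.form k)

lemma HAut.mul {k : ℂ} {g g' : Matrix (Fin 3) (Fin 3) ℂ} (hg : HAut k g) (hg' : HAut k g') :
    HAut k (g * g') := by
  refine ⟨by rw [Matrix.det_mul]; exact hg.1.mul hg'.1, fun x => ?_⟩
  rw [← Matrix.mulVec_mulVec, hg.2, hg'.2]

lemma HAut.inv {k : ℂ} {g : Matrix (Fin 3) (Fin 3) ℂ} (hg : HAut k g) : HAut k g⁻¹ := by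
  refine ⟨by rw [Matrix.det_nonsing_inv]; exact hg.1.ringInverse, fun x => ?_⟩
  have := hg.2 (g⁻¹ *ᵥ x)
  rw [Matrix.mulVec_mulVec, Matrix.mul_nonsing_inv g hg.1, Matrix.one_mulVec] at this
  exact this.symm

lemma hesse_orbit (k γ : ℂ) (hγ : γ ^ 3 = 1) :
    (∃ g, HAut k g ∧ g *ᵥ ![0, 1, -1] = γ • ![0, 1, -γ]) ∧
    (∃ g, HAut k g ∧ g *ᵥ ![0, 1, -1] = γ • ![-γ, 0, 1]) ∧
    (∃ g, HAut k g ∧ g *ᵥ ![0, 1, -1] = γ • ![1, -γ, 0]) := by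
  refine ⟨⟨!![1, 0, 0; 0, γ, 0; 0, 0, γ ^ 2], ⟨?_, ?_⟩, ?_⟩,
    ⟨!![0, 0, γ ^ 2; 1, 0, 0; 0, γ, 0], ⟨?_, ?_⟩, ?_⟩,
    ⟨!![0, γ, 0; 0, 0, γ ^ 2; 1, 0, 0], ⟨?_, ?_⟩, ?_⟩⟩
  · rw [Matrix.det_fin_three]; simp
    rintro rfl
    simp at hγ
  · intro x
    simp only [Hesse.eval_form]
    simp [Matrix.mulVec, dotProduct, Fin.sum_univ_three]
    linear_combination (x 1 ^ 3 + (γ ^ 3 + 1) * x 2 ^ 3 - 3 * k * (x 0 * x 1 * x 2)) * hγ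
  · ext i; fin_cases i <;> simp [Matrix.mulVec, dotProduct, Fin.sum_univ_three] <;> ring
  · rw [Matrix.det_fin_three]; simp
    rintro rfl
    simp at hγ
  · intro x
    simp only [Hesse.eval_form]
    simp [Matrix.mulVec, dotProduct, Fin.sum_univ_three]
    linear_combination (x 1 ^ 3 + (γ ^ 3 + 1) * x 2 ^ 3 - 3 * k * (x 0 * x 1 * x 2)) * hγ
  · ext i; fin_cases i <;> simp [Matrix.mulVec, dotProduct, Fin.sum_univ_three] <;> ring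
  · rw [Matrix.det_fin_three]; simp
    rintro rfl
    simp at hγ
  · intro x
    simp only [Hesse.eval_form]
    simp [Matrix.mulVec, dotProduct, Fin.sum_univ_three]
    linear_combination (x 1 ^ 3 + (γ ^ 3 + 1) * x 2 ^ 3 - 3 * k * (x 0 * x 1 * x 2)) * hγ
  · ext i; fin_cases i <;> simp [Matrix.mulVec, dotProduct, Fin.sum_univ_three] <;> ring

/-- every flex of the Hesse cubic is in the orbit of `(0,1,-1)` -/
lemma hesse_flex_orbit (k : ℂ) (hk : k ^ 3 ≠ 1) (u : Fin 3 → ℂ) (hu : u ≠ 0)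
    (hhu : eval u (HesseCubic.form k) = 0)
    (hfl : ∃ w : Fin 3 → ℂ, LinearIndependent ℂ ![u, w] ∧
      ∀ t : ℂ, eval (u + t • w) (HesseCubic.form k) = t ^ 3 * eval w (HesseCubic.form k)) :
    ∃ (g : Matrix (Fin 3) (Fin 3) ℂ) (σ : ℂ), HAut k g ∧ σ ≠ 0 ∧ g *ᵥ ![0, 1, -1] = σ • u := by
  obtain ⟨γ, a, hγ, hcases⟩ := (Groth.Agent.S18404.result k hk u hu hhu).mp hfl
  have ha : a ≠ 0 := by
    rintro rfl
    rcases hcases with h | h | h <;> exact hu (by rw [h, zero_smul])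
  have hγ0 : γ ≠ 0 := by rintro rfl; simp at hγ
  obtain ⟨⟨g1, hg1, e1⟩, ⟨g2, hg2, e2⟩, ⟨g3, hg3, e3⟩⟩ := hesse_orbit k γ hγ
  have hs : (γ / a) * a = γ := by field_simp
  rcases hcases with h | h | h
  · exact ⟨g1, γ / a, hg1, div_ne_zero hγ0 ha, by rw [e1, h, smul_smul, hs]⟩
  · exact ⟨g2, γ / a, hg2, div_ne_zero hγ0 ha, by rw [e2, h, smul_smul, hs]⟩
  · exact ⟨g3, γ / a, hg3, div_ne_zero hγ0 ha, by rw [e3, h, smul_smul, hs]⟩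

theorem flex_transitive {f : MvPolynomial (Fin 3) ℂ} (hf : f.IsHomogeneous 3)
    (hsm : ∀ v : Fin 3 → ℂ, v ≠ 0 → eval v f = 0 → ∃ i : Fin 3, eval v (pderiv i f) ≠ 0)
    (v v' : Fin 3 → ℂ) (hv : v ≠ 0) (hv' : v' ≠ 0) (hfv : eval v f = 0) (hfv' : eval v' f = 0)
    (hflex : ∃ w : Fin 3 → ℂ, LinearIndependent ℂ ![v, w] ∧
      ∀ t : ℂ, eval (v + t • w) f = t ^ 3 * eval w f)
    (hflex' : ∃ w : Fin 3 → ℂ, LinearIndependent ℂ ![v', w] ∧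
      ∀ t : ℂ, eval (v' + t • w) f = t ^ 3 * eval w f) :
    ∃ (A : Matrix (Fin 3) (Fin 3) ℂ) (d : ℂ), IsUnit A.det ∧
      (∀ x, eval (A *ᵥ x) f = 1 * eval x f) ∧ A *ᵥ v = d • v' := by
  obtain ⟨B, k, c₀, hB, hk, hc₀, hev⟩ := hesse_normal_form hf hsm
  have hBi : IsUnit (B⁻¹).det := by rw [Matrix.det_nonsing_inv]; exact hB.ringInverse
  have hevi := hev_inv f _ B hB c₀ hc₀ hev
  obtain ⟨hu0, hhu, hfl⟩ := flex_push (HesseCubic.form k) f B⁻¹ hBi c₀⁻¹ hevi v hv hfv hflex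
  obtain ⟨hu0', hhu', hfl'⟩ :=
    flex_push (HesseCubic.form k) f B⁻¹ hBi c₀⁻¹ hevi v' hv' hfv' hflex'
  obtain ⟨g, σ, hg, hσ, hgσ⟩ := hesse_flex_orbit k hk _ hu0 hhu hfl
  obtain ⟨g', σ', hg', hσ', hgσ'⟩ := hesse_flex_orbit k hk _ hu0' hhu' hfl'
  have hAx : ∀ x, (B * (g' * g⁻¹) * B⁻¹) *ᵥ x = B *ᵥ (g' *ᵥ (g⁻¹ *ᵥ (B⁻¹ *ᵥ x))) := by
    intro x; simp [Matrix.mulVec_mulVec, Matrix.mul_assoc]
  refine ⟨B * (g' * g⁻¹) * B⁻¹, σ' / σ, ?_, ?_, ?_⟩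
  · rw [Matrix.det_mul, Matrix.det_mul]
    exact (hB.mul (hg'.mul hg.inv).1).mul hBi
  · intro x
    rw [hAx, hev, hg'.2, hg.inv.2, hevi]
    field_simp
  · have h1 : g⁻¹ *ᵥ (B⁻¹ *ᵥ v) = σ⁻¹ • ![0, 1, -1] := by
      have : B⁻¹ *ᵥ v = σ⁻¹ • (g *ᵥ ![0, 1, -1]) := by
        rw [hgσ, smul_smul, inv_mul_cancel₀ hσ, one_smul]
      rw [this, Matrix.mulVec_smul, Matrix.mulVec_mulVec, Matrix.nonsing_inv_mul g hg.1,
        Matrix.one_mulVec]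
    rw [hAx, h1, Matrix.mulVec_smul, hgσ', Matrix.mulVec_smul, Matrix.mulVec_smul,
      Matrix.mulVec_mulVec, Matrix.mul_nonsing_inv B hB, Matrix.one_mulVec, smul_smul]
    congr 1
    field_simp

end Groth.Agent.Helper27.Cubic
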