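import Mathlib
import Groth.Agent.Lib.Helper27.CubicO

/-! Faithfulness of the action on flexes. -/

namespace Groth.Agent.Helper27.Cubic
open MvPolynomial Matrix
open Groth.Agent.Helper27.Hesse54 (ω hω ω_cube)

lemma eig_comp (A' : Matrix (Fin 3) (Fin 3) ℂ) (e : Fin 3 → ℂ) (d : ℂ)
    (h : A' *ᵥ e = d • e) (i : Fin 3) :
    A' i 0 * e 0 + A' i 1 * e 1 + A' i 2 * e 2 = d * e i := by
  have := congrFun h i
  simpa [Matrix.mulVec, dotProduct, Fin.sum_univ_three] using this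

lemma three_mul_eq_zero_of (x : ℂ) (h : (ω - 1) * x = 0) : x = 0 := by
  have : (3 : ℂ) * x = 0 := by
    linear_combination (ω ^ 2 - 1) * h - x * (ω - 2) * hω
  exact (mul_eq_zero.mp this).resolve_left (by norm_num)

lemma nine_eigen_scalar (A' : Matrix (Fin 3) (Fin 3) ℂ)
    (h : ∀ γ : ℂ, γ ^ 3 = 1 → (∃ d : ℂ, A' *ᵥ ![0, 1, -γ] = d • ![0, 1, -γ]) ∧
      (∃ d : ℂ, A' *ᵥ ![-γ, 0, 1] = d • ![-γ, 0, 1]) ∧
      (∃ d : ℂ, A' *ᵥ ![1, -γ, 0] = d • ![1, -γ, 0])) :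
    ∃ c : ℂ, A' = c • (1 : Matrix (Fin 3) (Fin 3) ℂ) := by
  obtain ⟨⟨d1, h1⟩, ⟨d2, h2⟩, ⟨d3, h3⟩⟩ := h 1 (by norm_num)
  obtain ⟨⟨d4, h4⟩, ⟨d5, h5⟩, ⟨d6, h6⟩⟩ := h ω ω_cube
  have a10 := eig_comp A' _ d1 h1 0
  have a11 := eig_comp A' _ d1 h1 1
  have a12 := eig_comp A' _ d1 h1 2
  have a20 := eig_comp A' _ d2 h2 0
  have a21 := eig_comp A' _ d2 h2 1
  have a22 := eig_comp A' _ d2 h2 2
  have a30 := eig_comp A' _ d3 h3 0
  have a31 := eig_comp A' _ d3 h3 1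
  have a32 := eig_comp A' _ d3 h3 2
  have a40 := eig_comp A' _ d4 h4 0
  have a51 := eig_comp A' _ d5 h5 1
  have a62 := eig_comp A' _ d6 h6 2
  simp only [Matrix.cons_val_zero, Matrix.cons_val_one, Matrix.cons_val_two, Matrix.head_cons,
    Matrix.tail_cons] at a10 a11 a12 a20 a21 a22 a30 a31 a32 a40 a51 a62
  have h02 : A' 0 2 = 0 := three_mul_eq_zero_of _ (by linear_combination a10 - a40)
  have h01 : A' 0 1 = 0 := by linear_combination a10 + h02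
  have h10 : A' 1 0 = 0 := three_mul_eq_zero_of _ (by linear_combination a21 - a51)
  have h12 : A' 1 2 = 0 := by linear_combination a21 + h10
  have h21 : A' 2 1 = 0 := three_mul_eq_zero_of _ (by linear_combination a32 - a62)
  have h20 : A' 2 0 = 0 := by linear_combination a32 + h21
  have e1 : A' 1 1 = A' 2 2 := by linear_combination a11 + a12 + h12 - h21
  have e2 : A' 0 0 = A' 2 2 := by linear_combination -a20 - a22 + h02 - h20
  refine ⟨A' 2 2, ?_⟩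
  ext i j
  fin_cases i <;> fin_cases j <;> simp [h01, h02, h10, h12, h20, h21, e1, e2]

theorem faithful_on_flexes {f : MvPolynomial (Fin 3) ℂ} (hf : f.IsHomogeneous 3)
    (hsm : ∀ v : Fin 3 → ℂ, v ≠ 0 → eval v f = 0 → ∃ i : Fin 3, eval v (pderiv i f) ≠ 0)
    (A : Matrix (Fin 3) (Fin 3) ℂ)
    (hfix : ∀ v : Fin 3 → ℂ, v ≠ 0 → eval v f = 0 →
      (∃ w : Fin 3 → ℂ, LinearIndependent ℂ ![v, w] ∧
        ∀ t : ℂ, eval (v + t • w) f = t ^ 3 * eval w f) →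
      ∃ d : ℂ, A *ᵥ v = d • v) :
    ∃ c : ℂ, A = c • (1 : Matrix (Fin 3) (Fin 3) ℂ) := by
  obtain ⟨B, k, c₀, hB, hk, hc₀, hev⟩ := hesse_normal_form hf hsm
  have key : ∀ e : Fin 3 → ℂ, e ≠ 0 → eval e (HesseCubic.form k) = 0 →
      (∃ γ c : ℂ, γ ^ 3 = 1 ∧ (e = c • ![0, 1, -γ] ∨ e = c • ![-γ, 0, 1] ∨ e = c • ![1, -γ, 0])) →
      ∃ d : ℂ, (B⁻¹ * A * B) *ᵥ e = d • e := by
    intro e he hhe hnine
    have hfl := (Groth.Agent.S18404.result k hk e he hhe).mpr hnine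
    obtain ⟨h0, hz, hfl'⟩ := flex_push f (HesseCubic.form k) B hB c₀ hev e he hhe hfl
    obtain ⟨d, hd⟩ := hfix _ h0 hz hfl'
    refine ⟨d, ?_⟩
    rw [← Matrix.mulVec_mulVec, ← Matrix.mulVec_mulVec, hd, Matrix.mulVec_smul,
      Matrix.mulVec_mulVec, Matrix.nonsing_inv_mul B hB, Matrix.one_mulVec]
  obtain ⟨c, hc⟩ := nine_eigen_scalar (B⁻¹ * A * B) (by
    intro γ hγ
    refine ⟨key _ ?_ ?_ ⟨γ, 1, hγ, Or.inl (one_smul _ _).symm⟩,
      key _ ?_ ?_ ⟨γ, 1, hγ, Or.inr (Or.inl (one_smul _ _).symm)⟩,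
      key _ ?_ ?_ ⟨γ, 1, hγ, Or.inr (Or.inr (one_smul _ _).symm)⟩⟩
    · intro h; have := congrFun h 1; simp at this
    · rw [Hesse.eval_form]; simp; linear_combination -hγ
    · intro h; have := congrFun h 2; simp at this
    · rw [Hesse.eval_form]; simp; linear_combination -hγ
    · intro h; have := congrFun h 0; simp at this
    · rw [Hesse.eval_form]; simp; linear_combination -hγ)
  refine ⟨c, ?_⟩
  have h1 : A = B * (B⁻¹ * A * B) * B⁻¹ := by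
    rw [Matrix.mul_assoc B⁻¹, ← Matrix.mul_assoc B, Matrix.mul_nonsing_inv B hB, Matrix.one_mul,
      Matrix.mul_assoc, Matrix.mul_nonsing_inv B hB, Matrix.mul_one]
  rw [h1, hc]
  simp [Matrix.mul_nonsing_inv B hB]

end Groth.Agent.Helper27.Cubic
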