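import Mathlib
import Groth.Prelude.Def_W4c5m1nsnscurvesC

set_option autoImplicit false
universe u

namespace Groth.Agent.Helper27.C3

open MvPolynomial

noncomputable def ord : MonomialOrder (Fin 2) where
  syn := Lex (Fin 2 →₀ ℕ)
  toSyn := (Finsupp.domCongr (Equiv.swap (0 : Fin 2) 1)).trans
    { toEquiv := toLex
      map_add' := toLex_add }
  toSyn_monotone := by
    intro a b hab
    apply Finsupp.toLex_monotone
    intro i
    exact hab _

lemma ord_lt_iff (a b : Fin 2 →₀ ℕ) :
    (ord.toSyn a < ord.toSyn b) ↔ a 1 < b 1 ∨ (a 1 = b 1 ∧ a 0 < b 0) := by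
  change toLex (Finsupp.domCongr (Equiv.swap (0 : Fin 2) 1) a) <
    toLex (Finsupp.domCongr (Equiv.swap (0 : Fin 2) 1) b) ↔ _
  rw [Finsupp.Lex.lt_iff]
  simp only [ofLex_toLex, Finsupp.domCongr_apply, Finsupp.equivMapDomain_apply, Equiv.symm_swap]
  constructor
  · rintro ⟨i, h1, h2⟩
    fin_cases i
    · left; simpa using h2
    · right
      refine ⟨?_, by simpa using h2⟩
      simpa using h1 0 (by simp)
  · rintro (h | ⟨h1, h2⟩)
    · exact ⟨0, by simp, by simpa using h⟩
    · refine ⟨1, ?_, by simpa using h2⟩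
      intro j hj
      fin_cases j
      · simpa using h1
      · simp at hj

section general

variable {σ : Type*} (m : MonomialOrder σ) {R : Type u} [CommRing R]

/-- a polynomial supported on standard monomials lying in the principal ideal is zero -/
lemma eq_zero_of_mem_span_of_standard (g : MvPolynomial σ R) (hg : IsUnit (m.leadingCoeff g))
    (r : MvPolynomial σ R) (hr : r ∈ Ideal.span {g})
    (hst : ∀ c ∈ r.support, ¬ m.degree g ≤ c) : r = 0 := by
  rw [Ideal.mem_span_singleton'] at hr
  obtain ⟨q, rfl⟩ := hr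
  by_contra hne
  have hq : q ≠ 0 := by rintro rfl; exact hne (zero_mul _)
  have hdeg : m.degree (q * g) = m.degree q + m.degree g :=
    m.degree_mul_of_isRegular_right hq hg.isRegular
  have hmem := m.degree_mem_support hne
  apply hst _ hmem
  rw [hdeg]
  exact le_add_self

lemma exists_standard_rep (g : MvPolynomial σ R) (hg : IsUnit (m.leadingCoeff g))
    (f : MvPolynomial σ R) :
    ∃ r : MvPolynomial σ R, (∀ c ∈ r.support, ¬ m.degree g ≤ c) ∧ f - r ∈ Ideal.span {g} := by
  obtain ⟨q, r, hfr, -, hr⟩ := m.div_single hg f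
  refine ⟨r, hr, ?_⟩
  rw [hfr, add_sub_cancel_right]
  exact Ideal.mul_mem_left _ _ (Ideal.subset_span rfl)

end general

section three

open W4c5m1nsnscurves

variable (R : Type u) [CommRing R] (a b c d : R)

noncomputable abbrev gpoly : MvPolynomial (Fin 2) R :=
  X 0 * X 1 ^ 2 - X 0 ^ 2 * X 1 - (C a * X 0 * X 1 + C b * X 0 + C c * X 1 + C d)

noncomputable def e1 : Fin 2 →₀ ℕ := Finsupp.single 0 1 + Finsupp.single 1 2

lemma gpoly_eq : gpoly R a b c d =
    monomial (e1) 1 - monomial (Finsupp.single 0 2 + Finsupp.single 1 1) 1 -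
      (monomial (Finsupp.single 0 1 + Finsupp.single 1 1) a + monomial (Finsupp.single 0 1) b + monomial (Finsupp.single 1 1) c +
        monomial 0 d) := by
  simp only [gpoly, e1, X_pow_eq_monomial]
  simp only [X, C_apply, monomial_mul, mul_one, one_mul, zero_add]

lemma coeff_gpoly (s : Fin 2 →₀ ℕ) (hs : coeff s (gpoly R a b c d) ≠ 0) :
    s = e1 ∨ s 1 ≤ 1 := by
  classical
  rw [gpoly_eq] at hs
  simp only [coeff_sub, coeff_add, coeff_monomial] at hs
  by_contra hcon
  push Not at hcon
  obtain ⟨h1, h2⟩ := hcon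
  apply hs
  have n1 : ¬ (e1 = s) := fun h => h1 h.symm
  have n2 : ¬ (Finsupp.single 0 2 + Finsupp.single 1 1 = s) := by
    rintro rfl; simp at h2
  have n3 : ¬ (Finsupp.single 0 1 + Finsupp.single 1 1 = s) := by
    rintro rfl; simp at h2
  have n4 : ¬ (Finsupp.single 0 1 = s) := by
    rintro rfl; simp at h2
  have n5 : ¬ (Finsupp.single 1 1 = s) := by
    rintro rfl; simp at h2
  have n6 : ¬ ((0 : Fin 2 →₀ ℕ) = s) := by
    rintro rfl; simp at h2
  simp [n1, n2, n3, n4, n5, n6]

lemma coeff_e1_gpoly : coeff e1 (gpoly R a b c d) = 1 := by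
  classical
  rw [gpoly_eq]
  simp only [coeff_sub, coeff_add, coeff_monomial]
  have n2 : ¬ (Finsupp.single 0 2 + Finsupp.single 1 1 = (e1 : Fin 2 →₀ ℕ)) := by
    intro h; have := DFunLike.congr_fun h 1; simp [e1] at this
  have n3 : ¬ (Finsupp.single 0 1 + Finsupp.single 1 1 = (e1 : Fin 2 →₀ ℕ)) := by
    intro h; have := DFunLike.congr_fun h 1; simp [e1] at this
  have n4 : ¬ (Finsupp.single 0 1 = (e1 : Fin 2 →₀ ℕ)) := by
    intro h; have := DFunLike.congr_fun h 1; simp [e1] at this
  have n5 : ¬ (Finsupp.single 1 1 = (e1 : Fin 2 →₀ ℕ)) := by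
    intro h; have := DFunLike.congr_fun h 1; simp [e1] at this
  have n6 : ¬ ((0 : Fin 2 →₀ ℕ) = e1) := by
    intro h; have := DFunLike.congr_fun h 1; simp [e1] at this
  simp [n2, n3, n4, n5, n6]

lemma degree_gpoly [Nontrivial R] : ord.degree (gpoly R a b c d) = e1 := by
  apply ord.toSyn.injective
  apply le_antisymm
  · rw [MonomialOrder.degree_le_iff]
    intro s hs
    rw [MvPolynomial.mem_support_iff] at hs
    rcases coeff_gpoly R a b c d s hs with rfl | h
    · exact le_rfl
    · apply le_of_lt
      rw [ord_lt_iff]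
      left
      simp [e1]; omega
  · apply MonomialOrder.le_degree
    rw [MvPolynomial.mem_support_iff, coeff_e1_gpoly]
    exact one_ne_zero

lemma leadingCoeff_gpoly [Nontrivial R] : ord.leadingCoeff (gpoly R a b c d) = 1 := by
  rw [MonomialOrder.leadingCoeff, degree_gpoly, coeff_e1_gpoly]

/-- exponent of the basis monomials -/
noncomputable def expo : Option (ℕ ⊕ (Fin 2 × ℕ)) → (Fin 2 →₀ ℕ)
  | none => 0
  | some (Sum.inl k) => Finsupp.single 0 (k + 1) + Finsupp.single 1 1
  | some (Sum.inr (y, k)) => Finsupp.single y (k + 1)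

lemma cmon3_eq (i : Option (ℕ ⊕ (Fin 2 × ℕ))) :
    cmon3 R a b c d i = Ideal.Quotient.mk _ (monomial (expo i) 1) := by
  rcases i with _ | k | ⟨y, k⟩
  · simp [cmon3, expo]
  · simp only [cmon3, expo, X_pow_eq_monomial]
    simp only [X, monomial_mul, mul_one]
    try rfl
  · simp only [cmon3, expo, X_pow_eq_monomial]

lemma expo_injective : Function.Injective expo := by
  intro i j h
  rcases i with _ | k | ⟨y, k⟩ <;> rcases j with _ | k' | ⟨y', k'⟩
  · rfl
  · have := DFunLike.congr_fun h 1; simp [expo] at this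
  · have := DFunLike.congr_fun h y'; simp [expo] at this
  · have := DFunLike.congr_fun h 1; simp [expo] at this
  · have := DFunLike.congr_fun h 0; simp [expo] at this
    rw [this]
  · have h0 := DFunLike.congr_fun h 0
    have h1 := DFunLike.congr_fun h 1
    fin_cases y' <;> simp [expo] at h0 h1
  · have := DFunLike.congr_fun h y; simp [expo] at this
  · have h0 := DFunLike.congr_fun h 0
    have h1 := DFunLike.congr_fun h 1
    fin_cases y <;> simp [expo] at h0 h1
  · have hy : y = y' := by
      by_contra hne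
      have := DFunLike.congr_fun h y
      simp [expo, Finsupp.single_apply, hne, Ne.symm hne] at this
    subst hy
    have := DFunLike.congr_fun h y
    simp [expo] at this
    rw [this]

lemma expo_standard (i : Option (ℕ ⊕ (Fin 2 × ℕ))) : ¬ (e1 ≤ expo i) := by
  intro h
  have h0 := h 0
  have h1 := h 1
  rcases i with _ | k | ⟨y, k⟩
  · simp [expo, e1] at h1
  · simp [expo, e1] at h1
  · fin_cases y <;> simp [expo, e1] at h0 h1

lemma exists_expo_of_standard (s : Fin 2 →₀ ℕ) (h : ¬ (e1 ≤ s)) : ∃ i, expo i = s := by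
  have hs : s 0 = 0 ∨ s 1 ≤ 1 := by
    by_contra hcon
    push Not at hcon
    apply h
    intro i
    fin_cases i
    · simp [e1]; omega
    · simp [e1]; omega
  by_cases h0 : s 0 = 0
  · by_cases h1 : s 1 = 0
    · refine ⟨none, ?_⟩
      ext i; fin_cases i <;> simp [expo, h0, h1]
    · refine ⟨some (Sum.inr (1, s 1 - 1)), ?_⟩
      ext i; fin_cases i
      · simp [expo, h0]
      · simp [expo]; omega
  · have h1 : s 1 ≤ 1 := by tauto
    by_cases h1' : s 1 = 0
    · refine ⟨some (Sum.inr (0, s 0 - 1)), ?_⟩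
      ext i; fin_cases i
      · simp [expo]; omega
      · simp [expo, h1']
    · refine ⟨some (Sum.inl (s 0 - 1)), ?_⟩
      ext i; fin_cases i
      · simp [expo]; omega
      · simp [expo]; omega

theorem main251 : LinearIndependent R (cmon3 R a b c d) ∧
      Submodule.span R (Set.range (cmon3 R a b c d)) = ⊤ := by
  classical
  rcases subsingleton_or_nontrivial R with hR | hR
  · haveI : Subsingleton (CurveAlg3 R a b c d) :=
      Module.subsingleton R _
    refine ⟨linearIndependent_of_subsingleton, Subsingleton.elim _ _⟩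
  have hunit : IsUnit (ord.leadingCoeff (gpoly R a b c d)) := by
    rw [leadingCoeff_gpoly]; exact isUnit_one
  have hdeg := degree_gpoly R a b c d
  constructor
  · rw [linearIndependent_iff']
    intro s w hw i hi
    set r : MvPolynomial (Fin 2) R := ∑ j ∈ s, monomial (expo j) (w j) with hr
    have hmk : (Ideal.Quotient.mk (Ideal.span {gpoly R a b c d}) r) = 0 := by
      rw [hr, map_sum, ← hw]
      apply Finset.sum_congr rfl
      intro j _
      rw [cmon3_eq, ← Ideal.Quotient.mkₐ_eq_mk R, ← map_smul, smul_monomial, smul_eq_mul, mul_one]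
    rw [Ideal.Quotient.eq_zero_iff_mem] at hmk
    have hco : ∀ j ∈ s, coeff (expo j) r = w j := by
      intro j hj
      rw [hr, coeff_sum]
      rw [Finset.sum_eq_single j]
      · simp
      · intro j' _ hne
        rw [coeff_monomial, if_neg]
        exact fun h => hne (expo_injective h)
      · intro h; exact absurd hj h
    have hsupp : ∀ s' ∈ r.support, ¬ ord.degree (gpoly R a b c d) ≤ s' := by
      intro s' hs'
      rw [hdeg]
      rw [MvPolynomial.mem_support_iff, hr, coeff_sum] at hs'
      obtain ⟨j, _, hj⟩ := Finset.exists_ne_zero_of_sum_ne_zero hs'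
      rw [coeff_monomial] at hj
      split_ifs at hj with h
      · rw [← h]; exact expo_standard j
      · exact absurd rfl hj
    have hr0 := eq_zero_of_mem_span_of_standard ord _ hunit r hmk hsupp
    rw [← hco i hi, hr0, coeff_zero]
  · rw [eq_top_iff]
    rintro x -
    obtain ⟨f, rfl⟩ := Ideal.Quotient.mk_surjective x
    obtain ⟨r, hst, hfr⟩ := exists_standard_rep ord _ hunit f
    have hx : Ideal.Quotient.mk (Ideal.span {gpoly R a b c d}) f = Ideal.Quotient.mk _ r := by
      rw [Ideal.Quotient.eq]; exact hfr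
    change Ideal.Quotient.mk (Ideal.span {gpoly R a b c d}) f ∈ _
    rw [hx, ← r.support_sum_monomial_coeff, map_sum]
    apply Submodule.sum_mem
    intro s' hs'
    obtain ⟨i, hi⟩ := exists_expo_of_standard s' (by rw [← hdeg]; exact hst s' hs')
    have : Ideal.Quotient.mk (Ideal.span {gpoly R a b c d}) (monomial s' (coeff s' r)) =
        coeff s' r • cmon3 R a b c d i := by
      rw [cmon3_eq, hi, ← Ideal.Quotient.mkₐ_eq_mk R, ← map_smul, smul_monomial, smul_eq_mul, mul_one]
    rw [this]
    exact Submodule.smul_mem _ _ (Submodule.subset_span ⟨i, rfl⟩)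

end three

end Groth.Agent.Helper27.C3
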