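import Groth.Agent.Lib.Helper27.PlnH

/-! The ideal of an affine plane curve is principal (towards S11070, S11073). -/

set_option autoImplicit false

namespace Groth.Agent.Helper27.Pol

open FunFld MvPolynomial Groth.Agent.Helper16.FF

variable {k K : Type*} [Field k] [Field K] [Algebra k K]

theorem dim_le_one_aux {a : WithBot ℕ∞} (h : a + 1 ≤ 0 + ((2 : ℕ) : WithBot ℕ∞)) : a ≤ 1 := by
  induction a using WithBot.recBotCoe with
  | bot => exact bot_le
  | coe a =>
    induction a using ENat.recTopCoe with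
    | top =>
      exfalso
      rw [zero_add] at h
      have : ((⊤ : ℕ∞) : WithBot ℕ∞) + 1 = ((⊤ : ℕ∞) : WithBot ℕ∞) := by
        rw [← WithBot.coe_one, ← WithBot.coe_add, top_add]
      rw [this] at h
      have h2 : ((2 : ℕ) : WithBot ℕ∞) = (((2 : ℕ) : ℕ∞) : WithBot ℕ∞) := rfl
      rw [h2, WithBot.coe_le_coe] at h
      exact absurd h (by simp)
    | coe n =>
      rw [zero_add] at h
      have h2 : ((2 : ℕ) : WithBot ℕ∞) = (((2 : ℕ) : ℕ∞) : WithBot ℕ∞) := rfl
      have h3 : (((n : ℕ∞)) : WithBot ℕ∞) + 1 = (((n + 1 : ℕ) : ℕ∞) : WithBot ℕ∞) := by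
        push_cast; rfl
      rw [h2, h3, WithBot.coe_le_coe, Nat.cast_le] at h
      have h4 : (1 : WithBot ℕ∞) = (((1 : ℕ) : ℕ∞) : WithBot ℕ∞) := rfl
      rw [h4, WithBot.coe_le_coe, Nat.cast_le]
      omega

theorem ker_aeval_eq_span [IsAlgClosed k] (hK : IsFunctionField k K) (x y : K)
    (hxy : IntermediateField.adjoin k ({x, y} : Set K) = ⊤) (f : MvPolynomial (Fin 2) k)
    (hf : Irreducible f) (hfxy : aeval ![x, y] f = 0) :
    RingHom.ker (aeval ![x, y] : MvPolynomial (Fin 2) k →ₐ[k] K) = Ideal.span {f} := by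
  classical
  set I := RingHom.ker (aeval ![x, y] : MvPolynomial (Fin 2) k →ₐ[k] K) with hI
  have hIprime : I.IsPrime := RingHom.ker_isPrime _
  have hfI : Ideal.span {f} ≤ I := by
    rw [Ideal.span_singleton_le_iff_mem]
    exact hfxy
  by_contra hne
  have hfp : Prime f := hf.prime
  have hspan : (Ideal.span {f}).IsPrime := (Ideal.span_singleton_prime hf.ne_zero).2 hfp
  have hdim : ringKrullDim (MvPolynomial (Fin 2) k ⧸ Ideal.span {f}) ≤ 1 := by
    have h1 := ringKrullDim_quotient_succ_le_of_nonZeroDivisor (r := f)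
      (mem_nonZeroDivisors_of_ne_zero hf.ne_zero)
    rw [MvPolynomial.ringKrullDim_of_isNoetherianRing, ringKrullDim_eq_zero_of_field,
      Nat.card_eq_fintype_card, Fintype.card_fin] at h1
    exact dim_le_one_aux h1
  have hKD : Ring.KrullDimLE 1 (MvPolynomial (Fin 2) k ⧸ Ideal.span {f}) :=
    Ring.krullDimLE_iff.2 hdim
  have hsurj : Function.Surjective (Ideal.Quotient.mk (Ideal.span {f})) :=
    Ideal.Quotient.mk_surjective
  have hmapne : I.map (Ideal.Quotient.mk (Ideal.span {f})) ≠ ⊥ := by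
    intro h0
    rw [Ideal.map_eq_bot_iff_le_ker, Ideal.mk_ker] at h0
    exact hne (le_antisymm h0 hfI)
  have hmapprime : (I.map (Ideal.Quotient.mk (Ideal.span {f}))).IsPrime :=
    Ideal.map_isPrime_of_surjective hsurj (by rw [Ideal.mk_ker]; exact hfI)
  have hmapmax : (I.map (Ideal.Quotient.mk (Ideal.span {f}))).IsMaximal :=
    Ring.krullDimLE_one_iff_of_noZeroDivisors.1 hKD _ hmapne hmapprime
  have hImax : I.IsMaximal := by
    have h2 := Ideal.comap_map_of_surjective (Ideal.Quotient.mk (Ideal.span {f})) hsurj I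
    have h3 : (⊥ : Ideal _).comap (Ideal.Quotient.mk (Ideal.span {f})) ≤ I := by
      intro p hp
      rw [Ideal.mem_comap, Ideal.mem_bot, Ideal.Quotient.eq_zero_iff_mem] at hp
      exact hfI hp
    rw [sup_eq_left.2 h3] at h2
    rw [← h2]
    exact Ideal.comap_isMaximal_of_surjective _ hsurj
  obtain ⟨a, ha⟩ := (MvPolynomial.isMaximal_iff_eq_vanishingIdeal_singleton).1 hImax
  have hx : x = algebraMap k K (a 0) := by
    have h1 : (X 0 - C (a 0) : MvPolynomial (Fin 2) k) ∈ I := by
      rw [ha, mem_vanishingIdeal_singleton_iff]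
      simp
    rw [hI, RingHom.mem_ker] at h1
    simpa [sub_eq_zero] using h1
  have hy : y = algebraMap k K (a 1) := by
    have h1 : (X 1 - C (a 1) : MvPolynomial (Fin 2) k) ∈ I := by
      rw [ha, mem_vanishingIdeal_singleton_iff]
      simp
    rw [hI, RingHom.mem_ker] at h1
    simpa [sub_eq_zero] using h1
  obtain ⟨⟨t, ht, -⟩, -⟩ := hK
  have htop : (⊤ : IntermediateField k K) = ⊥ := by
    rw [← hxy, eq_bot_iff, IntermediateField.adjoin_le_iff]
    intro w hw
    rcases hw with rfl | hw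
    · rw [hx]; exact IntermediateField.algebraMap_mem _ _
    · rw [Set.mem_singleton_iff] at hw
      rw [hw, hy]; exact IntermediateField.algebraMap_mem _ _
  have : t ∈ (⊥ : IntermediateField k K) := htop ▸ IntermediateField.mem_top
  obtain ⟨c, rfl⟩ := IntermediateField.mem_bot.1 this
  exact ht (isAlgebraic_algebraMap c)

end Groth.Agent.Helper27.Pol
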