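import Mathlib
import Groth.Agent.Lib.Helper27.PolA

set_option autoImplicit false

namespace Groth.Agent.Helper27.Cv

open FunFld MvPolynomial

variable {k K : Type*} [Field k] [Field K] [Algebra k K]

/-- the ideal of an affine plane model is principal (any constant field) -/
theorem ker_aeval_eq_span (t : K) (ht : Transcendental k t) (x y : K)
    (hxy : IntermediateField.adjoin k ({x, y} : Set K) = ⊤) (f : MvPolynomial (Fin 2) k)
    (hf : Irreducible f) (hfxy : aeval ![x, y] f = 0) :
    RingHom.ker (aeval ![x, y] : MvPolynomial (Fin 2) k →ₐ[k] K) = Ideal.span {f} := by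
  classical
  set I := RingHom.ker (aeval ![x, y] : MvPolynomial (Fin 2) k →ₐ[k] K) with hI
  have hIprime : I.IsPrime := RingHom.ker_isPrime _
  have hfI : Ideal.span {f} ≤ I := by
    rw [Ideal.span_singleton_le_iff_mem]
    exact hfxy
  by_contra hne
  have hfp : Prime f := hf.prime
  have hspan : (Ideal.span {f}).IsPrime := (Ideal.span_singleton_prime hf.ne_zero).2 hfp
  have hdim : ringKrullDim (MvPolynomial (Fin 2) k ⧸ Ideal.span {f}) ≤ 1 := by
    have h1 := ringKrullDim_quotient_succ_le_of_nonZeroDivisor (r := f)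
      (mem_nonZeroDivisors_of_ne_zero hf.ne_zero)
    rw [MvPolynomial.ringKrullDim_of_isNoetherianRing, ringKrullDim_eq_zero_of_field,
      Nat.card_eq_fintype_card, Fintype.card_fin] at h1
    exact Pol.dim_le_one_aux h1
  have hKD : Ring.KrullDimLE 1 (MvPolynomial (Fin 2) k ⧸ Ideal.span {f}) :=
    Ring.krullDimLE_iff.2 hdim
  have hsurj : Function.Surjective (Ideal.Quotient.mk (Ideal.span {f})) :=
    Ideal.Quotient.mk_surjective
  have hmapne : I.map (Ideal.Quotient.mk (Ideal.span {f})) ≠ ⊥ := by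
    intro h0
    rw [Ideal.map_eq_bot_iff_le_ker, Ideal.mk_ker] at h0
    exact hne (le_antisymm h0 hfI)
  have hmapprime : (I.map (Ideal.Quotient.mk (Ideal.span {f}))).IsPrime :=
    Ideal.map_isPrime_of_surjective hsurj (by rw [Ideal.mk_ker]; exact hfI)
  have hmapmax : (I.map (Ideal.Quotient.mk (Ideal.span {f}))).IsMaximal :=
    Ring.krullDimLE_one_iff_of_noZeroDivisors.1 hKD _ hmapne hmapprime
  have hImax : I.IsMaximal := by
    have h2 := Ideal.comap_map_of_surjective (Ideal.Quotient.mk (Ideal.span {f})) hsurj I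
    have h3 : (⊥ : Ideal _).comap (Ideal.Quotient.mk (Ideal.span {f})) ≤ I := by
      intro p hp
      rw [Ideal.mem_comap, Ideal.mem_bot, Ideal.Quotient.eq_zero_iff_mem] at hp
      exact hfI hp
    rw [sup_eq_left.2 h3] at h2
    rw [← h2]
    exact Ideal.comap_isMaximal_of_surjective _ hsurj
  letI : Field (MvPolynomial (Fin 2) k ⧸ I) := Ideal.Quotient.field I
  haveI : Module.Finite k (MvPolynomial (Fin 2) k ⧸ I) :=
    finite_of_finite_type_of_isJacobsonRing k _
  haveI : Algebra.IsIntegral k (MvPolynomial (Fin 2) k ⧸ I) := Algebra.IsIntegral.of_finite k _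
  let ψ : (MvPolynomial (Fin 2) k ⧸ I) →ₐ[k] K :=
    Ideal.kerLiftAlg (aeval ![x, y] : MvPolynomial (Fin 2) k →ₐ[k] K)
  have hx : IsIntegral k x := by
    have h1 := (Algebra.IsIntegral.isIntegral (R := k)
      (Ideal.Quotient.mk I (X 0 : MvPolynomial (Fin 2) k))).map ψ
    have h2 : ψ (Ideal.Quotient.mk I (X 0 : MvPolynomial (Fin 2) k)) = x := by
      show Ideal.kerLiftAlg _ (Ideal.Quotient.mk _ _) = _
      rw [Ideal.kerLiftAlg_mk]
      simp
    rwa [h2] at h1
  have hy : IsIntegral k y := by
    have h1 := (Algebra.IsIntegral.isIntegral (R := k)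
      (Ideal.Quotient.mk I (X 1 : MvPolynomial (Fin 2) k))).map ψ
    have h2 : ψ (Ideal.Quotient.mk I (X 1 : MvPolynomial (Fin 2) k)) = y := by
      show Ideal.kerLiftAlg _ (Ideal.Quotient.mk _ _) = _
      rw [Ideal.kerLiftAlg_mk]
      simp
    rwa [h2] at h1
  have halg : Algebra.IsAlgebraic k (IntermediateField.adjoin k ({x, y} : Set K)) := by
    apply IntermediateField.isAlgebraic_adjoin
    intro z hz
    rcases hz with rfl | hz
    · exact hx
    · rw [Set.mem_singleton_iff] at hz
      rw [hz]; exact hy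
  have htm : t ∈ IntermediateField.adjoin k ({x, y} : Set K) := by
    rw [hxy]; exact IntermediateField.mem_top
  have := (halg.isAlgebraic ⟨t, htm⟩)
  apply ht
  have h3 := this.algebraMap (A := K)
  exact h3

end Groth.Agent.Helper27.Cv
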