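import Mathlib
import Groth.Agent.Lib.Helper27.CvA
import Groth.Agent.Lib.Helper16.FF.GeomA
import Groth.Agent.Lib.Helper16.FF.GeomB

set_option autoImplicit false

namespace Groth.Agent.Helper27.Cv

open FunFld MvPolynomial
open scoped TensorProduct

universe u v

variable {k : Type u} {K : Type v} [Field k] [Field K] [Algebra k K]

section coords

variable {k' : Type*} [Field k'] [Algebra k k'] [FiniteDimensional k k']

/-- the `i`-th coordinate polynomial -/
noncomputable def comp {ι : Type*} (b : Module.Basis ι k k') (i : ι)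
    (p : MvPolynomial (Fin 2) k') : MvPolynomial (Fin 2) k :=
  ∑ m ∈ p.support, monomial m (b.coord i (coeff m p))

theorem coeff_comp {ι : Type*} (b : Module.Basis ι k k') (i : ι)
    (p : MvPolynomial (Fin 2) k') (m : Fin 2 →₀ ℕ) :
    coeff m (comp b i p) = b.coord i (coeff m p) := by
  classical
  unfold comp
  rw [coeff_sum]
  simp_rw [coeff_monomial]
  rw [Finset.sum_ite_eq']
  split_ifs with h
  · rfl
  · rw [notMem_support_iff] at h
    rw [h, map_zero]

theorem eq_sum_comp {ι : Type*} [Fintype ι] (b : Module.Basis ι k k')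
    (p : MvPolynomial (Fin 2) k') :
    p = ∑ i, C (b i) * map (algebraMap k k') (comp b i p) := by
  ext m
  rw [coeff_sum]
  simp_rw [coeff_C_mul, coeff_map, coeff_comp]
  conv_lhs => rw [← b.sum_repr (coeff m p)]
  refine Finset.sum_congr rfl (fun i _ => ?_)
  rw [Algebra.smul_def, mul_comm]
  rfl

variable (k K) in
/-- the evaluation into `k' ⊗ K` -/
noncomputable def Phi (x y : K) : MvPolynomial (Fin 2) k' →ₐ[k'] k' ⊗[k] K :=
  aeval ![(1 : k') ⊗ₜ[k] x, (1 : k') ⊗ₜ[k] y]

theorem Phi_map (x y : K) (q : MvPolynomial (Fin 2) k) :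
    Phi k K (k' := k') x y (map (algebraMap k k') q) = (1 : k') ⊗ₜ[k] (aeval ![x, y] q) := by
  unfold Phi
  rw [aeval_map_algebraMap]
  have h1 : (Algebra.TensorProduct.includeRight : K →ₐ[k] k' ⊗[k] K) (aeval ![x, y] q) =
      aeval (fun i => (Algebra.TensorProduct.includeRight : K →ₐ[k] k' ⊗[k] K) (![x, y] i)) q :=
    comp_aeval_apply ![x, y] (Algebra.TensorProduct.includeRight : K →ₐ[k] k' ⊗[k] K) q
  have h2 : (fun i => (Algebra.TensorProduct.includeRight : K →ₐ[k] k' ⊗[k] K) (![x, y] i)) =
      ![(1 : k') ⊗ₜ[k] x, (1 : k') ⊗ₜ[k] y] := by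
    funext i
    fin_cases i <;> rfl
  rw [h2] at h1
  rw [← h1]
  rfl

theorem Phi_eq_sum {ι : Type*} [Fintype ι] (b : Module.Basis ι k k') (x y : K)
    (p : MvPolynomial (Fin 2) k') :
    Phi k K x y p = ∑ i, (b i) ⊗ₜ[k] (aeval ![x, y] (comp b i p)) := by
  conv_lhs => rw [eq_sum_comp b p]
  rw [map_sum]
  refine Finset.sum_congr rfl (fun i _ => ?_)
  rw [map_mul, Phi_map]
  have : Phi k K (k' := k') x y (C (b i)) = (b i) ⊗ₜ[k] (1 : K) := by
    unfold Phi
    rw [aeval_C]
    rfl
  rw [this, Algebra.TensorProduct.tmul_mul_tmul, mul_one, one_mul]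

theorem tmul_coords_eq_zero {ι : Type*} [Fintype ι] [DecidableEq ι] (b : Module.Basis ι k k')
    (z : ι → K) (h : ∑ i, (b i) ⊗ₜ[k] z i = 0) (i : ι) : z i = 0 := by
  have h1 := congrArg (fun t => (TensorProduct.lid k K) ((b.coord i).rTensor K t)) h
  simp only [map_sum, map_zero, LinearMap.rTensor_tmul, TensorProduct.lid_tmul] at h1
  rw [Finset.sum_eq_single i] at h1
  · simpa using h1
  · intro j _ hj
    simp [Module.Basis.coord_apply, Finsupp.single_apply, hj]
  · intro hi
    exact absurd (Finset.mem_univ i) hi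

theorem ker_Phi (x y : K) (f : MvPolynomial (Fin 2) k)
    (hker : RingHom.ker (aeval ![x, y] : MvPolynomial (Fin 2) k →ₐ[k] K) = Ideal.span {f}) :
    RingHom.ker (Phi k K (k' := k') x y) = Ideal.span {map (algebraMap k k') f} := by
  classical
  let b := Module.finBasis k k'
  apply le_antisymm
  · intro p hp
    rw [RingHom.mem_ker, Phi_eq_sum b] at hp
    have h1 : ∀ i, comp b i p ∈ Ideal.span {f} := by
      intro i
      rw [← hker, RingHom.mem_ker]
      exact tmul_coords_eq_zero b _ hp i
    rw [eq_sum_comp b p]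
    refine Ideal.sum_mem _ (fun i _ => ?_)
    obtain ⟨q, hq⟩ := Ideal.mem_span_singleton.1 (h1 i)
    rw [hq, map_mul]
    exact Ideal.mul_mem_left _ _ (Ideal.mul_mem_right _ _ (Ideal.mem_span_singleton_self _))
  · rw [Ideal.span_singleton_le_iff_mem, RingHom.mem_ker, Phi_map]
    have : aeval ![x, y] f = 0 := by
      have : f ∈ RingHom.ker (aeval ![x, y] : MvPolynomial (Fin 2) k →ₐ[k] K) := by
        rw [hker]; exact Ideal.mem_span_singleton_self f
      exact this
    rw [this, TensorProduct.tmul_zero]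

end coords

/-- forward direction of S11008 -/
theorem forward (hK : IsFunctionField k K) (hg : IsGeometric k K) :
    ∃ (x y : K) (f : MvPolynomial (Fin 2) k),
        IntermediateField.adjoin k ({x, y} : Set K) = ⊤ ∧
        (∀ (k' : Type u) [Field k'] [Algebra k k'], FiniteDimensional k k' →
          Irreducible (MvPolynomial.map (algebraMap k k') f)) ∧
        RingHom.ker (MvPolynomial.aeval ![x, y] : MvPolynomial (Fin 2) k →ₐ[k] K) =
          Ideal.span {f} := by
  classical
  obtain ⟨x, hsep⟩ := Groth.Agent.Helper16.FF.exists_separating_of_isGeometric hK hg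
  have hxtr := Groth.Agent.Helper16.FF.transcendental_of_separating hK hsep
  haveI := Groth.Agent.Helper16.FF.finite_of_transcendental hK hxtr
  obtain ⟨y, hy⟩ := Field.exists_primitive_element (IntermediateField.adjoin k ({x} : Set K)) K
  have hxy : IntermediateField.adjoin k ({x, y} : Set K) = ⊤ := by
    have h1 := IntermediateField.adjoin_adjoin_left k ({x} : Set K) ({y} : Set K)
    rw [hy] at h1
    have h2 : ({x} : Set K) ∪ {y} = {x, y} := by
      ext z; simp [or_comm]
    rw [h2] at h1
    rw [← h1]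
    rfl
  -- the kernel is not zero
  set I := RingHom.ker (aeval ![x, y] : MvPolynomial (Fin 2) k →ₐ[k] K) with hI
  have hIprime : I.IsPrime := RingHom.ker_isPrime _
  have hIne : I ≠ ⊥ := by
    intro h0
    have hinj : Function.Injective (aeval ![x, y] : MvPolynomial (Fin 2) k →ₐ[k] K) :=
      (RingHom.injective_iff_ker_eq_bot _).2 h0
    have hind : AlgebraicIndependent k ![x, y] := hinj
    have h1 := hind.transcendental_adjoin (s := {0}) (i := 1) (by simp)
    have h2 : (![x, y] '' ({0} : Set (Fin 2))) = {x} := by simp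
    rw [h2] at h1
    have h3 : Transcendental (IntermediateField.adjoin k ({x} : Set K)) y :=
      IntermediateField.transcendental_adjoin_iff.2 h1
    exact h3 (Algebra.IsAlgebraic.isAlgebraic y)
  obtain ⟨f, hfI, hfp⟩ := hIprime.exists_mem_prime_of_ne_bot hIne
  have hf : Irreducible f := hfp.irreducible
  have hker := ker_aeval_eq_span x hxtr x y hxy f hf hfI
  refine ⟨x, y, f, hxy, ?_, hker⟩
  intro k' _ _ hfin
  have hF := hg k' hfin
  letI : Field (k' ⊗[k] K) := hF.toField
  have hkP := ker_Phi (k' := k') x y f hker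
  have hprime : (RingHom.ker (Phi k K (k' := k') x y)).IsPrime := RingHom.ker_isPrime _
  rw [hkP] at hprime
  have hne : map (algebraMap k k') f ≠ 0 := by
    intro h0
    apply hf.ne_zero
    exact (map_injective _ (algebraMap k k').injective) (by rw [h0, map_zero])
  exact ((Ideal.span_singleton_prime hne).1 hprime).irreducible

end Groth.Agent.Helper27.Cv
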