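import Mathlib
import Groth.Agent.Lib.Helper27.CvB
import Groth.Agent.Lib.Helper16.FF.GeomE

set_option autoImplicit false

namespace Groth.Agent.Helper27.Cv

open FunFld MvPolynomial
open scoped TensorProduct

universe u v

variable {k : Type u} {K : Type v} [Field k] [Field K] [Algebra k K]

theorem algInd_pair {x y : K} (hx : Transcendental k x)
    (hy : Transcendental (Algebra.adjoin k ({x} : Set K)) y) :
    AlgebraicIndependent k ![x, y] := by
  have h1 : AlgebraicIndependent k (fun _ : Unit => x) :=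
    algebraicIndependent_unique_type_iff.2 hx
  have h2 : Set.range (fun _ : Unit => x) = {x} := by
    ext z; simp [eq_comm]
  have h3 : AlgebraicIndependent k (fun o : Option Unit => o.elim y (fun _ : Unit => x)) := by
    rw [AlgebraicIndependent.option_iff]
    refine ⟨h1, ?_⟩
    rw [h2]
    exact hy
  let e : Fin 2 → Option Unit := ![some (), none]
  have he : Function.Injective e := by
    intro i j hij
    fin_cases i <;> fin_cases j <;> simp [e] at hij ⊢
  have h4 := h3.comp e he
  have h5 : (fun o : Option Unit => o.elim y (fun _ : Unit => x)) ∘ e = ![x, y] := by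
    funext i
    fin_cases i <;> rfl
  rw [h5] at h4
  exact h4

section tensor

variable {k' : Type*} [Field k'] [Algebra k k'] [FiniteDimensional k k']

/-- every element of `k' ⊗ K` has a denominator in `k[x, y]` -/
theorem exists_denominator (x y : K) (hxy : IntermediateField.adjoin k ({x, y} : Set K) = ⊤)
    (t : k' ⊗[k] K) :
    ∃ (p : MvPolynomial (Fin 2) k') (s : MvPolynomial (Fin 2) k), aeval ![x, y] s ≠ 0 ∧
      ((1 : k') ⊗ₜ[k] (aeval ![x, y] s)) * t = Phi k K x y p := by
  have hrange : Algebra.adjoin k ({x, y} : Set K) =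
      (aeval ![x, y] : MvPolynomial (Fin 2) k →ₐ[k] K).range := by
    rw [← Algebra.adjoin_range_eq_range_aeval]
    congr 1
    ext z
    simp only [Set.mem_range, Set.mem_insert_iff, Set.mem_singleton_iff]
    constructor
    · rintro (rfl | rfl)
      · exact ⟨0, rfl⟩
      · exact ⟨1, rfl⟩
    · rintro ⟨i, rfl⟩
      fin_cases i
      · left; rfl
      · right; rfl
  induction t using TensorProduct.induction_on with
  | zero => exact ⟨0, 1, by simp, by simp⟩
  | tmul c w =>
    have hw : w ∈ IntermediateField.adjoin k ({x, y} : Set K) := by rw [hxy]; trivial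
    rw [IntermediateField.mem_adjoin_iff_div] at hw
    obtain ⟨r, hr, s, hs, hws⟩ := hw
    rw [hrange] at hr hs
    obtain ⟨a, rfl⟩ := hr
    obtain ⟨s₀, rfl⟩ := hs
    by_cases hs0 : aeval ![x, y] s₀ = 0
    · refine ⟨0, 1, by simp, ?_⟩
      have hw0 : w = 0 := by
        rw [hws]
        show (aeval ![x, y]) a / (aeval ![x, y]) s₀ = 0
        rw [hs0, div_zero]
      rw [hw0]; simp
    · refine ⟨C c * map (algebraMap k k') a, s₀, hs0, ?_⟩
      rw [map_mul, Phi_map, Algebra.TensorProduct.tmul_mul_tmul, one_mul]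
      have : Phi k K (k' := k') x y (C c) = c ⊗ₜ[k] (1 : K) := by
        unfold Phi
        rw [aeval_C]
        simp [Algebra.TensorProduct.algebraMap_apply]
      rw [this, Algebra.TensorProduct.tmul_mul_tmul, mul_one, one_mul]
      congr 1
      rw [hws]
      show (aeval ![x, y]) s₀ * ((aeval ![x, y]) a / (aeval ![x, y]) s₀) = _
      field_simp
  | add t₁ t₂ h₁ h₂ =>
    obtain ⟨p₁, s₁, hs₁, h₁⟩ := h₁
    obtain ⟨p₂, s₂, hs₂, h₂⟩ := h₂
    refine ⟨map (algebraMap k k') s₂ * p₁ + map (algebraMap k k') s₁ * p₂, s₁ * s₂,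
      by rw [map_mul]; exact mul_ne_zero hs₁ hs₂, ?_⟩
    have hL : (aeval ![x, y]) (s₁ * s₂) = (aeval ![x, y]) s₁ * (aeval ![x, y]) s₂ :=
      map_mul _ _ _
    rw [hL, map_add, map_mul, map_mul, Phi_map, Phi_map, ← h₁, ← h₂, mul_add]
    have e : ((1 : k') ⊗ₜ[k] ((aeval ![x, y]) s₁ * (aeval ![x, y]) s₂)) =
        ((1 : k') ⊗ₜ[k] (aeval ![x, y]) s₁) * ((1 : k') ⊗ₜ[k] (aeval ![x, y]) s₂) := by
      rw [Algebra.TensorProduct.tmul_mul_tmul, one_mul]
    rw [e]
    ring

theorem isDomain_tensor (x y : K) (hxy : IntermediateField.adjoin k ({x, y} : Set K) = ⊤)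
    (f : MvPolynomial (Fin 2) k)
    (hker : RingHom.ker (aeval ![x, y] : MvPolynomial (Fin 2) k →ₐ[k] K) = Ideal.span {f})
    (hirr : Irreducible (map (algebraMap k k') f)) : IsDomain (k' ⊗[k] K) := by
  have hkP := ker_Phi (k' := k') x y f hker
  have hprime : (RingHom.ker (Phi k K (k' := k') x y)).IsPrime := by
    rw [hkP, Ideal.span_singleton_prime hirr.ne_zero]
    exact hirr.prime
  have hinj : Function.Injective (Algebra.TensorProduct.includeRight : K →ₐ[k] k' ⊗[k] K) :=
    Algebra.TensorProduct.includeRight_injective (algebraMap k k').injective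
  haveI : Nontrivial (k' ⊗[k] K) := hinj.nontrivial
  have hunit : ∀ z : K, z ≠ 0 → ∀ t : k' ⊗[k] K, ((1 : k') ⊗ₜ[k] z) * t = 0 → t = 0 := by
    intro z hz t ht
    have := congrArg (fun u => ((1 : k') ⊗ₜ[k] z⁻¹) * u) ht
    simp only [mul_zero] at this
    rw [← mul_assoc, Algebra.TensorProduct.tmul_mul_tmul, one_mul, inv_mul_cancel₀ hz] at this
    rw [← this]
    show t = 1 * t
    rw [one_mul]
  haveI : NoZeroDivisors (k' ⊗[k] K) := by
    constructor
    intro t₁ t₂ h12
    obtain ⟨p₁, s₁, hs₁, h₁⟩ := exists_denominator (k' := k') x y hxy t₁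
    obtain ⟨p₂, s₂, hs₂, h₂⟩ := exists_denominator (k' := k') x y hxy t₂
    have h3 : Phi k K x y (p₁ * p₂) = 0 := by
      rw [map_mul, ← h₁, ← h₂]
      have : ((1 : k') ⊗ₜ[k] (aeval ![x, y]) s₁ * t₁) * ((1 : k') ⊗ₜ[k] (aeval ![x, y]) s₂ * t₂) =
          ((1 : k') ⊗ₜ[k] (aeval ![x, y]) s₁) * ((1 : k') ⊗ₜ[k] (aeval ![x, y]) s₂) *
            (t₁ * t₂) := by ring
      rw [this, h12, mul_zero]
    have h4 : p₁ * p₂ ∈ RingHom.ker (Phi k K (k' := k') x y) := h3
    rcases hprime.mem_or_mem h4 with h | h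
    · left
      apply hunit _ hs₁
      rw [h₁]; exact h
    · right
      apply hunit _ hs₂
      rw [h₂]; exact h
  exact NoZeroDivisors.to_isDomain _

theorem isField_tensor (x y : K) (hxy : IntermediateField.adjoin k ({x, y} : Set K) = ⊤)
    (f : MvPolynomial (Fin 2) k)
    (hker : RingHom.ker (aeval ![x, y] : MvPolynomial (Fin 2) k →ₐ[k] K) = Ideal.span {f})
    (hirr : Irreducible (map (algebraMap k k') f)) : IsField (k' ⊗[k] K) := by
  haveI := isDomain_tensor (k' := k') x y hxy f hker hirr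
  let e := Algebra.TensorProduct.comm k K k'
  haveI : IsDomain (K ⊗[k] k') := MulEquiv.isDomain (k' ⊗[k] K) e.toMulEquiv
  haveI : Algebra.IsIntegral K (K ⊗[k] k') := Algebra.IsIntegral.of_finite K _
  have h1 : IsField (K ⊗[k] k') := isField_of_isIntegral_of_isField' (Field.toIsField K)
  exact MulEquiv.isField h1 e.symm.toMulEquiv

end tensor

end Groth.Agent.Helper27.Cv
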