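import Mathlib
import Groth.Agent.Lib.Helper27.CvC

set_option autoImplicit false

namespace Groth.Agent.Helper27.Cv

open FunFld MvPolynomial
open scoped TensorProduct

universe u v

variable {k : Type u} {K : Type v} [Field k] [Field K] [Algebra k K]

theorem finite_of_pair (x y : K) (hxy : IntermediateField.adjoin k ({x, y} : Set K) = ⊤)
    (hy : IsIntegral (IntermediateField.adjoin k ({x} : Set K)) y) :
    FiniteDimensional (IntermediateField.adjoin k ({x} : Set K)) K := by
  have h1 := IntermediateField.adjoin_adjoin_left k ({x} : Set K) ({y} : Set K)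
  have h2 : ({x} : Set K) ∪ {y} = {x, y} := by
    ext z; simp [or_comm]
  rw [h2, hxy] at h1
  have htop : IntermediateField.adjoin (IntermediateField.adjoin k ({x} : Set K)) ({y} : Set K)
      = ⊤ := by
    apply IntermediateField.restrictScalars_injective k
    rw [h1, IntermediateField.restrictScalars_top]
  have h3 : FiniteDimensional (IntermediateField.adjoin k ({x} : Set K))
      (IntermediateField.adjoin (IntermediateField.adjoin k ({x} : Set K)) ({y} : Set K)) :=
    IntermediateField.adjoin.finiteDimensional hy
  rw [htop] at h3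
  exact Module.Finite.equiv (IntermediateField.topEquiv
    (F := IntermediateField.adjoin k ({x} : Set K)) (E := K)).toLinearEquiv

theorem eval_eq_zero_of_mem_ker (a b : k) (p : MvPolynomial (Fin 2) k)
    (hp : aeval ![algebraMap k K a, algebraMap k K b] p = 0) : eval ![a, b] p = 0 := by
  have h1 : aeval ![algebraMap k K a, algebraMap k K b] p =
      algebraMap k K (eval ![a, b] p) := by
    have h2 : (![algebraMap k K a, algebraMap k K b] : Fin 2 → K) =
        algebraMap k K ∘ ![a, b] := by
      funext i
      fin_cases i <;> rfl
    rw [h2, aeval_algebraMap_apply]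
    rfl
  rw [h1] at hp
  exact (map_eq_zero_iff _ (algebraMap k K).injective).1 hp

theorem backward (x y : K) (f : MvPolynomial (Fin 2) k)
    (hxy : IntermediateField.adjoin k ({x, y} : Set K) = ⊤)
    (habs : ∀ (k' : Type u) [Field k'] [Algebra k k'], FiniteDimensional k k' →
      Irreducible (MvPolynomial.map (algebraMap k k') f))
    (hker : RingHom.ker (MvPolynomial.aeval ![x, y] : MvPolynomial (Fin 2) k →ₐ[k] K) =
      Ideal.span {f}) :
    IsFunctionField k K ∧ IsGeometric k K := by
  classical
  have hg : IsGeometric k K := fun k' _ _ hfin =>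
    isField_tensor (k' := k') x y hxy f hker (habs k' hfin)
  have hf : Irreducible f := by
    have := habs k inferInstance
    rwa [Algebra.algebraMap_self, MvPolynomial.map_id] at this
  have hfxy : aeval ![x, y] f = 0 := by
    have : f ∈ RingHom.ker (aeval ![x, y] : MvPolynomial (Fin 2) k →ₐ[k] K) := by
      rw [hker]; exact Ideal.mem_span_singleton_self f
    exact this
  have hconst : ∀ z : K, IsAlgebraic k z → z ∈ Set.range (algebraMap k K) := fun z hz =>
    Groth.Agent.Helper16.FF.mem_range_of_isAlgebraic_of_isGeometric hg hz
  refine ⟨⟨?_, hconst⟩, hg⟩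
  by_cases hx : IsAlgebraic k x
  · by_cases hy : IsAlgebraic k y
    · exfalso
      obtain ⟨a, ha⟩ := hconst x hx
      obtain ⟨b, hb⟩ := hconst y hy
      have h0 : (X 0 - C a : MvPolynomial (Fin 2) k) ∈ Ideal.span {f} := by
        rw [← hker, RingHom.mem_ker]
        simp [ha]
      have h1 : (X 1 - C b : MvPolynomial (Fin 2) k) ∈ Ideal.span {f} := by
        rw [← hker, RingHom.mem_ker]
        simp [hb]
      obtain ⟨g, hg0⟩ := Ideal.mem_span_singleton'.1 h0
      obtain ⟨g', hg1⟩ := Ideal.mem_span_singleton'.1 h1
      have hfab : eval ![a, b] f = 0 := by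
        apply eval_eq_zero_of_mem_ker (K := K)
        rw [ha, hb]; exact hfxy
      have e1 := congrArg (fun p => eval ![a, b] (pderiv 0 p)) hg0
      have e2 := congrArg (fun p => eval ![a, b] (pderiv 1 p)) hg0
      have e3 := congrArg (fun p => eval ![a, b] (pderiv 1 p)) hg1
      simp only [Derivation.leibniz, map_sub, pderiv_C, smul_eq_mul, map_add, map_mul, hfab,
        mul_zero, zero_mul, add_zero, zero_add, sub_zero] at e1 e2 e3
      rw [pderiv_X_self] at e1
      rw [pderiv_X_of_ne (by decide)] at e2
      rw [pderiv_X_self] at e3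
      simp only [map_one, map_zero] at e1 e2 e3
      have hgne : eval ![a, b] g ≠ 0 := by
        intro h
        rw [h] at e1
        simp at e1
      rcases mul_eq_zero.1 e2 with h | h
      · exact hgne h
      · rw [h] at e3
        simp at e3
    · refine ⟨y, hy, ?_⟩
      have hxy' : IntermediateField.adjoin k ({y, x} : Set K) = ⊤ := by
        rw [Set.pair_comm]; exact hxy
      exact finite_of_pair y x hxy' hx.isIntegral.tower_top
  · refine ⟨x, hx, ?_⟩
    have hyalg : IsAlgebraic (IntermediateField.adjoin k ({x} : Set K)) y := by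
      by_contra hytr
      have h1 : Transcendental (Algebra.adjoin k ({x} : Set K)) y :=
        IntermediateField.transcendental_adjoin_iff.1 hytr
      have hind := algInd_pair hx h1
      have hinj : Function.Injective (aeval ![x, y] : MvPolynomial (Fin 2) k →ₐ[k] K) := hind
      exact hf.ne_zero (hinj (by rw [hfxy, map_zero]))
    exact finite_of_pair x y hxy hyalg.isIntegral

theorem main11008 : (IsFunctionField k K ∧ IsGeometric k K) ↔
      ∃ (x y : K) (f : MvPolynomial (Fin 2) k),
        IntermediateField.adjoin k ({x, y} : Set K) = ⊤ ∧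
        (∀ (k' : Type u) [Field k'] [Algebra k k'], FiniteDimensional k k' →
          Irreducible (MvPolynomial.map (algebraMap k k') f)) ∧
        RingHom.ker (MvPolynomial.aeval ![x, y] : MvPolynomial (Fin 2) k →ₐ[k] K) =
          Ideal.span {f} := by
  constructor
  · rintro ⟨hK, hg⟩
    exact forward hK hg
  · rintro ⟨x, y, f, hxy, habs, hker⟩
    exact backward x y f hxy habs hker

end Groth.Agent.Helper27.Cv
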