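import Mathlib
import Groth.Agent.Lib.Helper27.FFExtD

set_option autoImplicit false

namespace Groth.Agent.Helper27.FFExt

open FunFld IntermediateField Polynomial Groth.Agent.Helper16.FFW
open scoped WithZero

theorem main12519 (k K : Type*) [Field k] [Field K] (h2 : ringChar k = 2)
    [Algebra k K] [Algebra (RatFunc k) K] [IsScalarTower k (RatFunc k) K]
    (hdeg : Module.finrank (RatFunc k) K = 2)
    (y : K) (hy : y ∉ Set.range (algebraMap (RatFunc k) K))
    (f : RatFunc k) (heq : y ^ 2 + y = algebraMap (RatFunc k) K f)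
    (P₀ : FunFld.Place k (RatFunc k)) :
    ((P₀.ord f < 0 ∧ Odd (P₀.ord f)) → (∃! P : FunFld.Place k K, FunFld.IsOver P P₀) ∧
      ∀ P : FunFld.Place k K, FunFld.IsOver P P₀ → FunFld.IsOverWith P P₀ 2 ∧ P.deg = P₀.deg) ∧
    (0 ≤ P₀.ord f → ∀ P : FunFld.Place k K, FunFld.IsOver P P₀ → FunFld.IsOverWith P P₀ 1) := by
  haveI : FiniteDimensional (RatFunc k) K := Module.finite_of_finrank_pos (by omega)
  have hK := (isFunctionField_ratFunc (k := k))
  have hy0 : y ≠ 0 := by
    rintro rfl
    exact hy ⟨0, map_zero _⟩
  refine ⟨fun ⟨hneg, hodd⟩ => ?_, fun hnn => ?_⟩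
  · have hf0 : f ≠ 0 := by
      rintro rfl; rw [Place.ord_zero] at hneg; exact lt_irrefl _ hneg
    have hf0' : algebraMap (RatFunc k) K f ≠ 0 := by simpa using hf0
    have hram : ∀ P : FunFld.Place k K, FunFld.IsOver P P₀ → FunFld.IsOverWith P P₀ 2 := by
      rintro P ⟨e, he⟩
      have hele := ramIdx_le_finrank hK he
      rw [hdeg] at hele
      have hepos := isOverWith_pos he
      have hordf : P.ord (algebraMap (RatFunc k) K f) = e * P₀.ord f := ord_of_isOverWith he f
      have hfneg : P.ord (algebraMap (RatFunc k) K f) < 0 := by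
        rw [hordf]; exact mul_neg_of_pos_of_neg (by exact_mod_cast hepos) hneg
      -- `y` has a pole
      have hyv : 1 < P.1 y := by
        by_contra hcon
        push Not at hcon
        have : P.1 (y ^ 2 + y) ≤ 1 :=
          (P.1.map_add _ _).trans (max_le (by rw [map_pow]; exact pow_le_one' hcon 2) hcon)
        rw [heq, Place.val_le_one_iff P hf0'] at this
        omega
      have hlt : P.1 y < P.1 (y ^ 2) := by
        rw [map_pow, pow_two]
        calc P.1 y = 1 * P.1 y := (one_mul _).symm
          _ < P.1 y * P.1 y := by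
            apply mul_lt_mul_of_pos_right hyv
            exact lt_trans zero_lt_one hyv
      have hval : P.1 (y ^ 2 + y) = P.1 (y ^ 2) := Valuation.map_add_eq_of_lt_left _ hlt
      have hord2 : P.ord (algebraMap (RatFunc k) K f) = 2 * P.ord y := by
        rw [← heq]
        unfold Place.ord
        rw [hval, map_pow, WithZero.log_pow]; simp
      have hev : Even ((e : ℤ) * P₀.ord f) := ⟨P.ord y, by rw [← two_mul, ← hord2, hordf]⟩
      have hee : Even (e : ℤ) := by
        rcases Int.even_mul.1 hev with h | h
        · exact h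
        · exact absurd h (Int.not_even_iff_odd.2 hodd)
      have hee' : Even e := by exact_mod_cast hee
      obtain ⟨m, hm⟩ := hee'
      have : e = 2 := by omega
      rw [← this]; exact he
    obtain ⟨P, hP⟩ := exists_isOver (K' := K) hK P₀
    have hP2 := hram P hP
    have htot := totally_ramified hK (hdeg ▸ hP2 : IsOverWith P P₀ (Module.finrank (RatFunc k) K))
    refine ⟨⟨P, hP, fun P' hP' => htot.2 P' hP'⟩, fun P' hP' => ⟨hram P' hP', ?_⟩⟩
    rw [htot.2 P' hP', htot.1]
  · have hfv : P₀.1 f ≤ 1 := by
      by_cases hf0 : f = 0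
      · rw [hf0, map_zero]; exact zero_le
      · exact (Place.val_le_one_iff P₀ hf0).2 hnn
    let u : P₀.O := ⟨f, (Place.mem_O_iff P₀ _).2 hfv⟩
    have htop := adjoin_eq_top_of_finrank_two hdeg hy
    have hmin : minpoly (RatFunc k) y = X ^ 2 + C 1 * X + C (-f) := by
      apply minpoly_quadratic hy
      rw [map_one, one_mul, heq]; simp
    set g : P₀.O[X] := X ^ 2 + X - C u with hg
    have hgm : g.Monic := by rw [hg]; monicity!
    have hgmin : g.map (algebraMap P₀.O (RatFunc k)) = minpoly (RatFunc k) y := by
      rw [hmin, hg, Polynomial.map_sub, Polynomial.map_add, Polynomial.map_pow, Polynomial.map_X,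
        Polynomial.map_C]
      have : algebraMap P₀.O (RatFunc k) u = f := rfl
      rw [this]; simp [sub_eq_add_neg]
    have h2k : (2 : k) = 0 := by
      haveI := ringChar.charP k
      have := CharP.cast_eq_zero k (ringChar k)
      rw [h2] at this
      exact_mod_cast this
    have h2res : (2 : IsLocalRing.ResidueField P₀.O) = 0 := by
      have : (2 : IsLocalRing.ResidueField P₀.O) = algebraMap k _ 2 := (map_ofNat _ 2).symm
      rw [this, h2k, map_zero]
    have hsq : Squarefree (g.map (IsLocalRing.residue P₀.O)) := by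
      rw [hg, Polynomial.map_sub, Polynomial.map_add, Polynomial.map_pow, Polynomial.map_X,
        Polynomial.map_C]
      apply Polynomial.Separable.squarefree
      rw [Polynomial.separable_def]
      have hder : Polynomial.derivative
          (X ^ 2 + X - C (IsLocalRing.residue P₀.O u) : (IsLocalRing.ResidueField P₀.O)[X]) = 1 := by
        rw [derivative_sub, derivative_add, derivative_X_pow, derivative_X, derivative_C]
        have h2n : ((2 : ℕ) : IsLocalRing.ResidueField P₀.O) = 0 := by exact_mod_cast h2res
        rw [h2n, map_zero, zero_mul, zero_add, sub_zero]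
      rw [hder]
      exact isCoprime_one_right
    intro P hP
    have := isOverWith_ramIdx hP
    rwa [ramIdx_eq_one_of_good hK P₀ htop g hgm hgmin hsq P hP] at this

end Groth.Agent.Helper27.FFExt
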