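import Mathlib
import Groth.Agent.Lib.Helper27.DExpF
import Groth.Agent.Lib.Helper27.FFExtF
import Groth.Agent.Lib.Helper27.ASB

set_option autoImplicit false

namespace Groth.Agent.Helper27.DExp

open FunFld LaurentSeries Polynomial
open scoped WithZero

universe u v w

theorem main12588 (k : Type u) (K : Type v) [Field k] [Field K] [Algebra k K]
    [Algebra (RatFunc k) K] [IsScalarTower k (RatFunc k) K]
    (hdeg : Module.finrank (RatFunc k) K = 2) [PerfectField k] (h2 : ringChar k = 2)
    (y : K) (hy : y ∉ Set.range (algebraMap (RatFunc k) K)) (f : RatFunc k)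
    (heq : y ^ 2 + y = algebraMap (RatFunc k) K f)
    (p : FunFld.Place k (RatFunc k)) (hp : 1 < p.1 f) (hodd : Odd (p.ord f))
    (P : FunFld.Place k K) (e : ℕ) (he : FunFld.IsOverWith P p e)
    (F F' : Type w) [Field F] [Algebra k F] [Field F'] [Algebra k F']
    (φ : RatFunc k →ₐ[k] LaurentSeries F) (hφ : LocRes.IsExpansionAt p.1 φ)
    (ψ : K →ₐ[k] LaurentSeries F') (hψ : LocRes.IsExpansionAt P.1 ψ)
    (z : RatFunc k) (hz : LocRes.vDiff φ 1 z ≠ 0)
    (hz' : LocRes.vDiff ψ 1 (algebraMap (RatFunc k) K z) ≠ 0) :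
    LocRes.diffExp φ ψ e z = 1 - p.ord f := by
  have hf0 : f ≠ 0 := by
    rintro rfl; rw [map_zero] at hp; exact absurd hp (by simp)
  have hneg : p.ord f < 0 := (Groth.Agent.Helper16.FFW.one_lt_val_iff' p hf0).1 hp
  have h19 := (Groth.Agent.Helper27.FFExt.main12519 k K h2 hdeg y hy f heq p).1 ⟨hneg, hodd⟩
  have he2 : FunFld.IsOverWith P p 2 := (h19.2 P ⟨e, he⟩).1
  have hee : e = 2 := (Groth.Agent.Helper16.FFW.isOverWith_unique he he2).2
  subst hee
  -- the pole order of y
  have hf0' : algebraMap (RatFunc k) K f ≠ 0 := by simpa using hf0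
  have hy0 : y ≠ 0 := by
    rintro rfl
    exact hy ⟨0, map_zero _⟩
  have hordf : P.ord (algebraMap (RatFunc k) K f) = 2 * p.ord f := by
    have := Groth.Agent.Helper16.FFW.ord_of_isOverWith he f
    simpa using this
  have hyv : 1 < P.1 y := by
    by_contra hcon
    push Not at hcon
    have : P.1 (y ^ 2 + y) ≤ 1 :=
      (P.1.map_add _ _).trans (max_le (by rw [map_pow]; exact pow_le_one' hcon 2) hcon)
    rw [heq, Groth.Agent.Helper16.FFW.Place.val_le_one_iff P hf0'] at this
    omega
  have hlt : P.1 y < P.1 (y ^ 2) := by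
    rw [map_pow, pow_two]
    calc P.1 y = 1 * P.1 y := (one_mul _).symm
      _ < P.1 y * P.1 y := by
        apply mul_lt_mul_of_pos_right hyv
        exact lt_trans zero_lt_one hyv
  have hval : P.1 (y ^ 2 + y) = P.1 (y ^ 2) := Valuation.map_add_eq_of_lt_left _ hlt
  have hord2 : P.ord (algebraMap (RatFunc k) K f) = 2 * P.ord y := by
    rw [← heq]
    unfold Place.ord
    rw [hval, map_pow, WithZero.log_pow]; simp
  have hordy : P.ord y = p.ord f := by omega
  -- d
  obtain ⟨m, hm⟩ := hodd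
  obtain ⟨d, hd⟩ : ∃ d : ℕ, (d : ℤ) = -m := ⟨(-m).toNat, Int.toNat_of_nonneg (by omega)⟩
  have hpf : p.ord f = -2 * d + 1 := by omega
  obtain ⟨π, hπ⟩ := Groth.Agent.Helper16.FFW.Place.exists_uniformizer p
  have hπ0 : π ≠ 0 := by
    rintro rfl; rw [map_zero] at hπ; exact WithZero.exp_ne_zero hπ.symm
  have hordπ : p.ord π = 1 := by
    unfold Place.ord; rw [hπ, WithZero.log_exp]; ring
  set s : K := algebraMap (RatFunc k) K π ^ d * y with hs
  have hπK : algebraMap (RatFunc k) K π ≠ 0 := by simpa using hπ0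
  have hordπK : P.ord (algebraMap (RatFunc k) K π) = 2 := by
    have := Groth.Agent.Helper16.FFW.ord_of_isOverWith he π
    rw [hordπ] at this; simpa using this
  have hsord : P.ord s = 1 := by
    rw [hs, Groth.Agent.Helper16.FFW.Place.ord_mul P (pow_ne_zero _ hπK) hy0,
      Groth.Agent.Helper16.FFW.Place.ord_pow, hordπK, hordy, hpf]
    ring
  have hs0 : s ≠ 0 := mul_ne_zero (pow_ne_zero _ hπK) hy0
  have hsval : P.1 s = WithZero.exp (-1) := by
    rw [Groth.Agent.Helper16.FFW.Place.val_eq_exp_neg_ord P hs0, hsord]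
  -- the polynomial
  set g : (RatFunc k)[X] := X ^ 2 + C (π ^ d) * X + C (π ^ (2 * d) * f) with hg
  have h2K : (2 : K) = 0 := by
    have : (2 : K) = algebraMap (RatFunc k) K 2 := (map_ofNat _ 2).symm
    rw [this, Groth.Agent.Helper27.FFExt.two_eq_zero_ratFunc h2, map_zero]
  have hgs : aeval s g = 0 := by
    rw [hg]
    simp only [map_add, map_mul, map_pow, aeval_X, aeval_C]
    rw [← heq, hs]
    have : (algebraMap (RatFunc k) K π ^ d * y) ^ 2 + algebraMap (RatFunc k) K π ^ d *
        (algebraMap (RatFunc k) K π ^ d * y) + algebraMap (RatFunc k) K π ^ (2 * d) * (y ^ 2 + y) =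
        2 * (algebraMap (RatFunc k) K π ^ (2 * d) * (y ^ 2 + y)) := by ring
    rw [this, h2K, zero_mul]
  have hc0 : g.coeff 0 = π ^ (2 * d) * f := by
    rw [hg, coeff_add, coeff_add, coeff_X_pow, coeff_C_mul_X, coeff_C]; simp
  have hc0v : p.1 (g.coeff 0) = WithZero.exp (-1) := by
    have hne : π ^ (2 * d) * f ≠ 0 := mul_ne_zero (pow_ne_zero _ hπ0) hf0
    rw [hc0, Groth.Agent.Helper16.FFW.Place.val_eq_exp_neg_ord p hne,
      Groth.Agent.Helper16.FFW.Place.ord_mul p (pow_ne_zero _ hπ0) hf0,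
      Groth.Agent.Helper16.FFW.Place.ord_pow, hordπ, hpf]
    congr 1
    push_cast
    ring
  have hπle : p.1 π ≤ 1 := by
    rw [hπ, ← WithZero.exp_zero, WithZero.exp_le_exp]; omega
  have hall : ∀ i, p.1 (g.coeff i) ≤ 1 := by
    intro i
    rcases i with _ | _ | _ | i
    · rw [hc0v, ← WithZero.exp_zero, WithZero.exp_le_exp]; omega
    · have : g.coeff 1 = π ^ d := by
        rw [hg, coeff_add, coeff_add, coeff_X_pow, coeff_C_mul_X, coeff_C]; simp
      rw [this, map_pow]; exact pow_le_one' hπle d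
    · have : g.coeff 2 = 1 := by
        rw [hg, coeff_add, coeff_add, coeff_X_pow, coeff_C_mul_X, coeff_C]; simp
      rw [this, map_one]
    · have : g.coeff (i + 3) = 0 := by
        rw [hg, coeff_add, coeff_add, coeff_X_pow, coeff_C_mul_X, coeff_C]; simp
      rw [this, map_zero]; exact zero_le_one
  have hmain := ord_deriv_of_shape' (Groth.Agent.Helper16.FF.finrank_kaehler_ratFunc k) p P 2 he
    φ hφ ψ hψ z hz hz' s hsval g hgs hc0v hall
  rw [← hmain]
  have hderg : derivative g = C (π ^ d) := by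
    rw [hg, derivative_add, derivative_add, derivative_X_pow, derivative_C, add_zero,
      derivative_mul, derivative_C, derivative_X, zero_mul, zero_add, mul_one]
    have : ((2 : ℕ) : RatFunc k) = 0 := by
      exact_mod_cast Groth.Agent.Helper27.FFExt.two_eq_zero_ratFunc h2
    rw [this, C_0, zero_mul, zero_add]
  have hder : aeval s (derivative g) = algebraMap (RatFunc k) K π ^ d := by
    rw [hderg, aeval_C, map_pow]
  rw [hder, Groth.Agent.Helper16.FFW.Place.ord_pow, hordπK, hpf]
  ring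

end Groth.Agent.Helper27.DExp
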