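import Mathlib

/-! An endomorphism of an object of the derived category with cohomology in `[a, a+n]`
inducing zero on cohomology is nilpotent of order `n + 1`. -/

open CategoryTheory Limits Pretriangulated DerivedCategory

namespace Groth.Agent.Helper27.DerNil
universe w v u
variable {A : Type u} [Category.{v} A] [Abelian A] [HasDerivedCategory.{w} A]

lemma pow_comm_of_comm {C : Type*} [Category C] {X Y : C} (f : End X) (g : End Y) (p : X ⟶ Y)
    (h : f ≫ p = p ≫ g) (k : ℕ) : (f ^ k : End X) ≫ p = p ≫ (g ^ k : End Y) := by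
  induction k with
  | zero => simp [End.one_def]
  | succ k ih =>
    rw [pow_succ, pow_succ, End.mul_def, End.mul_def, Category.assoc, ih, ← Category.assoc, h,
      Category.assoc]

/-- base case -/
lemma eq_zero_of_single (X : DerivedCategory A) (a : ℤ)
    (hX : ∀ i : ℤ, i ≠ a → IsZero ((homologyFunctor A i).obj X))
    (f : X ⟶ X) (hf : (homologyFunctor A a).map f = 0) : f = 0 := by
  have h1 : X.IsGE a := (isGE_iff X a).mpr (fun i hi => hX i (by omega))
  have h2 : X.IsLE a := (isLE_iff X a).mpr (fun i hi => hX i (by omega))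
  obtain ⟨Y, ⟨e⟩⟩ := exists_iso_singleFunctor_obj_of_isGE_of_isLE X a
  obtain ⟨g, hg⟩ := (singleFunctor A a).map_surjective (e.inv ≫ f ≫ e.hom)
  have hg0 : g = 0 := by
    have h1 : (homologyFunctor A a).map ((singleFunctor A a).map g) = 0 := by
      rw [hg, Functor.map_comp, Functor.map_comp, hf]; simp
    have := NatIso.naturality_1 (singleFunctorCompHomologyFunctorIso A a) g
    simp only [Functor.comp_map, Functor.id_map] at this
    rw [← this, h1]; simp
  have h3 : e.inv ≫ f ≫ e.hom = 0 := by rw [← hg, hg0, Functor.map_zero]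
  calc f = e.hom ≫ (e.inv ≫ f ≫ e.hom) ≫ e.inv := by simp
    _ = 0 := by rw [h3]; simp

theorem nilpotent (n : ℕ) : ∀ (X : DerivedCategory A) (a : ℤ)
    (_ : ∀ i : ℤ, i < a ∨ a + n < i → IsZero ((homologyFunctor A i).obj X))
    (f : End X) (_ : ∀ i : ℤ, (homologyFunctor A i).map f = 0),
    f ^ (n + 1) = 0 := by
  induction n with
  | zero =>
    intro X a hX f hf
    rw [zero_add, pow_one]
    exact eq_zero_of_single X a (fun i hi => hX i (by
      rcases lt_or_gt_of_ne hi with h | h
      · exact Or.inl h
      · exact Or.inr (by simpa using h))) f (hf a)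
  | succ n ih =>
    intro X a hX f hf
    obtain ⟨X', X'', hX', hX'', i, p, δ, hT⟩ := TStructure.t.exists_triangle X a (a + 1) rfl
    have iLE : X'.IsLE a := (TStructure.t.le_iff_isLE X' a).mp hX'
    have iGE : X''.IsGE (a + 1) := (TStructure.t.ge_iff_isGE X'' (a + 1)).mp hX''
    -- cohomology of X'
    have hX'z : ∀ j : ℤ, j ≠ a → IsZero ((homologyFunctor A j).obj X') := by
      intro j hj
      rcases lt_or_gt_of_ne hj with h | h
      · have ex := HomologySequence.exact₁ _ hT (j - 1) j (by omega)
        exact ex.isZero_of_both_isZero (isZero_of_isGE X'' (a + 1) (j - 1) (by omega))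
          (hX j (Or.inl h))
      · exact isZero_of_isLE X' a j h
    have hX''z : ∀ j : ℤ, j < a + 1 ∨ a + 1 + n < j →
        IsZero ((homologyFunctor A j).obj X'') := by
      intro j hj
      rcases hj with h | h
      · exact isZero_of_isGE X'' (a + 1) j h
      · have ex := HomologySequence.exact₃ _ hT j (j + 1) rfl
        exact ex.isZero_of_both_isZero (hX j (Or.inr (by push_cast; omega)))
          (isZero_of_isLE X' a (j + 1) (by omega))
    -- the induced endomorphisms
    have hz : (i ≫ f) ≫ p = 0 := TStructure.t.zero _ a (a + 1) (by omega)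
    obtain ⟨f', hf'⟩ : ∃ f' : X' ⟶ X', i ≫ f = f' ≫ i :=
      Triangle.coyoneda_exact₂ _ hT (i ≫ f) hz
    obtain ⟨f'', hf''1⟩ : ∃ f'' : End X'', p ≫ f'' = f ≫ p := by
      obtain ⟨c, hc, -⟩ := complete_distinguished_triangle_morphism _ _ hT hT f' f hf'
      exact ⟨c, hc⟩
    -- f' induces zero on cohomology
    have hf'0 : (homologyFunctor A a).map f' = 0 := by
      have hmono : Mono ((homologyFunctor A a).map i) := by
        have := HomologySequence.mono_homologyMap_mor₁_iff _ hT (a - 1) a (by omega)
        apply this.mpr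
        exact (isZero_of_isGE X'' (a + 1) (a - 1) (by omega)).eq_of_src _ _
      have : (homologyFunctor A a).map f' ≫ (homologyFunctor A a).map i = 0 := by
        rw [← Functor.map_comp, ← hf', Functor.map_comp, hf a, comp_zero]
      exact zero_of_comp_mono _ this
    have hf'z : f' = 0 := eq_zero_of_single X' a hX'z f' hf'0
    have hf''0 : ∀ j : ℤ, (homologyFunctor A j).map f'' = 0 := by
      intro j
      by_cases hj : j < a + 1
      · exact (isZero_of_isGE X'' (a + 1) j hj).eq_of_src _ _
      · have hepi : Epi ((homologyFunctor A j).map p) := by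
          have := HomologySequence.epi_homologyMap_mor₂_iff _ hT j (j + 1) rfl
          apply this.mpr
          exact (isZero_of_isLE X' a (j + 1) (by omega)).eq_of_tgt _ _
        have : (homologyFunctor A j).map p ≫ (homologyFunctor A j).map f'' = 0 := by
          rw [← Functor.map_comp, hf''1, Functor.map_comp, hf j, zero_comp]
        exact zero_of_epi_comp _ this
    have hpow'' : f'' ^ (n + 1) = 0 := ih X'' (a + 1) hX''z f'' hf''0
    -- conclusion
    have hc : (f ^ (n + 1) : End X) ≫ p = 0 := by
      rw [pow_comm_of_comm f f'' p hf''1.symm, hpow'']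
      exact comp_zero
    obtain ⟨g, hg⟩ : ∃ g : X ⟶ X', (f ^ (n + 1) : End X) = g ≫ i :=
      Triangle.coyoneda_exact₂ _ hT (f ^ (n + 1) : End X) hc
    rw [pow_succ', End.mul_def, hg, Category.assoc, hf', hf'z]
    simp

end Groth.Agent.Helper27.DerNil
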