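import Mathlib

set_option autoImplicit false
universe u v

namespace Groth.Agent.Helper27.DC

open AdicCompletion

variable {k : Type u} [Field k] {A : Type v} [CommRing A] [Algebra k A] (I : Ideal A)
  (D : Derivation k A A)

lemma D_mem (n : ℕ) : ∀ a ∈ I ^ (n + 1), D a ∈ I ^ n := by
  induction n with
  | zero => intro a _; simp
  | succ n ih =>
    intro a ha
    rw [pow_succ] at ha
    refine Submodule.mul_induction_on ha ?_ ?_
    · intro r hr s hs
      rw [Derivation.leibniz]
      refine Ideal.add_mem _ ?_ ?_
      · exact Ideal.mul_mem_right _ _ hr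
      · have e : s • D r = D r * s := by rw [smul_eq_mul, mul_comm]
        rw [e, pow_succ]
        exact Ideal.mul_mem_mul (ih r hr) hs
    · intro x y hx hy
      rw [map_add]; exact Ideal.add_mem _ hx hy

lemma smul_top_eq (n : ℕ) : (I ^ n • ⊤ : Submodule A A) = I ^ n := by
  simp

/-- termwise derivative of a Cauchy sequence, shifted -/
def Dtil (f : AdicCauchySequence I A) : AdicCauchySequence I A :=
  ⟨fun n => D (f (n + 1)), by
    intro m n hmn
    rw [SModEq.sub_mem, ← map_sub, smul_top_eq]
    apply D_mem
    have := f.property (Nat.succ_le_succ hmn)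
    rw [SModEq.sub_mem, smul_top_eq] at this
    exact this⟩

lemma mk_eq_iff (f g : AdicCauchySequence I A) :
    AdicCompletion.mk I A f = AdicCompletion.mk I A g ↔ ∀ n, f n - g n ∈ I ^ n := by
  constructor
  · intro h n
    have := congrArg (fun x : AdicCompletion I A => x.val n) h
    simp only [mk_apply_coe, Submodule.mkQ_apply] at this
    rw [Submodule.Quotient.eq, smul_top_eq] at this
    exact this
  · intro h
    apply AdicCompletion.ext
    intro n
    simp only [mk_apply_coe, Submodule.mkQ_apply]
    rw [Submodule.Quotient.eq, smul_top_eq]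
    exact h n

lemma Dtil_congr (f g : AdicCauchySequence I A)
    (h : AdicCompletion.mk I A f = AdicCompletion.mk I A g) :
    AdicCompletion.mk I A (Dtil I D f) = AdicCompletion.mk I A (Dtil I D g) := by
  rw [mk_eq_iff] at h ⊢
  intro n
  change D (f (n + 1)) - D (g (n + 1)) ∈ I ^ n
  rw [← map_sub]
  exact D_mem I D n _ (h (n + 1))

noncomputable def DhatFun (x : AdicCompletion I A) : AdicCompletion I A :=
  AdicCompletion.mk I A (Dtil I D (Function.surjInv (AdicCompletion.mk_surjective I A) x))

lemma DhatFun_mk (f : AdicCauchySequence I A) :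
    DhatFun I D (AdicCompletion.mk I A f) = AdicCompletion.mk I A (Dtil I D f) := by
  apply Dtil_congr
  exact Function.surjInv_eq (AdicCompletion.mk_surjective I A) _

lemma cauchy_succ (f : AdicCauchySequence I A) (n : ℕ) : f (n + 1) - f n ∈ I ^ n := by
  have := f.property (Nat.le_succ n)
  rw [SModEq.sub_mem, smul_top_eq] at this
  have h2 : f (n + 1) - f n = -(f n - f (n + 1)) := by ring
  rw [h2]; exact Ideal.neg_mem_iff _ |>.mpr this

noncomputable def Dhat : Derivation k (AdicCompletion I A) (AdicCompletion I A) :=
  Derivation.mk'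
    { toFun := DhatFun I D
      map_add' := by
        intro x y
        obtain ⟨f, rfl⟩ := AdicCompletion.mk_surjective I A x
        obtain ⟨g, rfl⟩ := AdicCompletion.mk_surjective I A y
        rw [← map_add, DhatFun_mk, DhatFun_mk, DhatFun_mk, ← map_add]
        congr 1
        apply AdicCauchySequence.ext
        intro n
        change D ((f + g) (n + 1)) = D (f (n + 1)) + D (g (n + 1))
        rw [AdicCauchySequence.add_apply, map_add]
      map_smul' := by
        intro c x
        obtain ⟨f, rfl⟩ := AdicCompletion.mk_surjective I A x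
        have e : c • AdicCompletion.mk I A f = AdicCompletion.mk I A (algebraMap k A c • f) := by
          apply AdicCompletion.ext
          intro n
          rw [val_smul_apply]
          simp only [mk_apply_coe, Submodule.mkQ_apply, AdicCauchySequence.smul_apply]
          rw [← Submodule.Quotient.mk_smul]
          congr 1
          rw [Algebra.smul_def, smul_eq_mul]
        rw [e, DhatFun_mk, DhatFun_mk, RingHom.id_apply]
        apply AdicCompletion.ext
        intro n
        rw [val_smul_apply]
        simp only [mk_apply_coe, Submodule.mkQ_apply]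
        rw [← Submodule.Quotient.mk_smul]
        congr 1
        change D ((algebraMap k A c • f) (n + 1)) = c • D (f (n + 1))
        rw [AdicCauchySequence.smul_apply, smul_eq_mul, ← Algebra.smul_def, D.map_smul] }
    (by
      intro x y
      obtain ⟨f, rfl⟩ := AdicCompletion.mk_surjective I A x
      obtain ⟨g, rfl⟩ := AdicCompletion.mk_surjective I A y
      have e : AdicCompletion.mk I A f * AdicCompletion.mk I A g = AdicCompletion.mk I A (f * g) := rfl
      change DhatFun I D _ = _ • DhatFun I D _ + _ • DhatFun I D _
      rw [e, DhatFun_mk, DhatFun_mk, DhatFun_mk, smul_eq_mul, smul_eq_mul]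
      apply AdicCompletion.ext
      intro n
      rw [val_add_apply, val_mul, val_mul]
      simp only [mk_apply_coe, Submodule.mkQ_apply]
      change (Ideal.Quotient.mk _ (D ((f * g) (n + 1))) : A ⧸ (I ^ n • ⊤ : Ideal A)) =
        Ideal.Quotient.mk _ (f n) * Ideal.Quotient.mk _ (D (g (n + 1))) +
          Ideal.Quotient.mk _ (g n) * Ideal.Quotient.mk _ (D (f (n + 1)))
      rw [← map_mul, ← map_mul, ← map_add, Ideal.Quotient.eq, AdicCompletion.mul_apply,
        Derivation.leibniz, smul_top_eq, smul_eq_mul, smul_eq_mul]
      have : f (n + 1) * D (g (n + 1)) + g (n + 1) * D (f (n + 1)) -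
          (f n * D (g (n + 1)) + g n * D (f (n + 1))) =
          (f (n + 1) - f n) * D (g (n + 1)) + (g (n + 1) - g n) * D (f (n + 1)) := by ring
      rw [this]
      exact Ideal.add_mem _ (Ideal.mul_mem_right _ _ (cauchy_succ I f n))
        (Ideal.mul_mem_right _ _ (cauchy_succ I g n)))

lemma Dhat_of (a : A) : Dhat I D (algebraMap A (AdicCompletion I A) a) =
    algebraMap A (AdicCompletion I A) (D a) := by
  change DhatFun I D _ = _
  have e : ∀ b : A, algebraMap A (AdicCompletion I A) b =
      AdicCompletion.mk I A (algebraMap A (AdicCauchySequence I A) b) := by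
    intro b; rfl
  rw [e, e, DhatFun_mk]
  rfl

theorem main156 (k : Type u) [Field k] (A : Type v) [CommRing A] [Algebra k A] [IsLocalRing A]
    (D : Derivation k A A) :
    ∃ Dhat : Derivation k (AdicCompletion (IsLocalRing.maximalIdeal A) A)
        (AdicCompletion (IsLocalRing.maximalIdeal A) A),
      ∀ a : A, Dhat (algebraMap A (AdicCompletion (IsLocalRing.maximalIdeal A) A) a) =
        algebraMap A (AdicCompletion (IsLocalRing.maximalIdeal A) A) (D a) :=
  ⟨Dhat _ D, Dhat_of _ D⟩

end Groth.Agent.Helper27.DC
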