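import Mathlib
import Groth.Agent.Lib.Helper17.FF3

/-! Dehomogenisation `X_j ↦ 1` of multivariate polynomials. -/

set_option autoImplicit false

namespace Groth.Agent.Helper27.Dh

open MvPolynomial

variable {k : Type*} [Field k] {n : ℕ} (j : Fin (n + 1))

/-- the point `(X_0, …, 1, …, X_{n-1})` -/
noncomputable def pt : Fin (n + 1) → MvPolynomial (Fin n) k :=
  Fin.insertNth j (1 : MvPolynomial (Fin n) k) (X : Fin n → MvPolynomial (Fin n) k)

/-- dehomogenisation at `X_j` -/
noncomputable def dh : MvPolynomial (Fin (n + 1)) k →ₐ[k] MvPolynomial (Fin n) k :=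
  aeval (pt j)

@[simp] lemma pt_self : pt (k := k) j j = 1 := by simp [pt]

@[simp] lemma pt_succAbove (i : Fin n) : pt (k := k) j (j.succAbove i) = X i := by simp [pt]

@[simp] lemma dh_X_self : dh (k := k) j (X j) = 1 := by simp [dh]

@[simp] lemma dh_X_succAbove (i : Fin n) : dh (k := k) j (X (j.succAbove i)) = X i := by
  simp [dh]

@[simp] lemma dh_C (c : k) : dh j (C c) = C c := by
  simp [dh]

lemma dh_rename (p : MvPolynomial (Fin n) k) : dh j (rename j.succAbove p) = p := by
  rw [dh, aeval_rename]
  have : pt (k := k) j ∘ j.succAbove = X := by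
    funext i
    simp
  rw [this, aeval_X_left_apply]

lemma insertNth_eq {S : Type*} (y : Fin (n + 1) → S) :
    (Fin.insertNth j (y j) (fun i => y (j.succAbove i)) : Fin (n + 1) → S) = y := by
  funext i
  rcases Fin.eq_self_or_eq_succAbove j i with rfl | ⟨i', rfl⟩
  · simp
  · simp

lemma aeval_dh {S : Type*} [CommRing S] [Algebra k S] (y : Fin n → S)
    (G : MvPolynomial (Fin (n + 1)) k) :
    aeval y (dh j G) = aeval (Fin.insertNth j (1 : S) y : Fin (n + 1) → S) G := by
  show aeval y (bind₁ (pt j) G) = _
  rw [aeval_bind₁]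
  congr 2
  funext i
  rcases Fin.eq_self_or_eq_succAbove j i with rfl | ⟨i', rfl⟩
  · simp
  · simp

/-- every polynomial of degree `≤ a` is the dehomogenisation of a form of degree `a` -/
lemma exists_hom_lift (a : ℕ) (g : MvPolynomial (Fin n) k) (hg : g.totalDegree ≤ a) :
    ∃ G : MvPolynomial (Fin (n + 1)) k, G.IsHomogeneous a ∧ dh j G = g := by
  classical
  refine ⟨∑ m ∈ g.support, X j ^ (a - m.degree) * rename j.succAbove (monomial m (coeff m g)),
    ?_, ?_⟩
  · refine IsHomogeneous.sum _ _ _ fun m hm => ?_
    have h1 : m.degree ≤ a := le_trans (le_totalDegree hm) hg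
    have h2 := (isHomogeneous_X_pow (R := k) j (a - m.degree)).mul
      ((isHomogeneous_monomial (coeff m g) (rfl : m.degree = m.degree)).rename_isHomogeneous
        (f := j.succAbove))
    rwa [Nat.sub_add_cancel h1] at h2
  · rw [map_sum]
    conv_rhs => rw [← support_sum_monomial_coeff g]
    refine Finset.sum_congr rfl fun m _ => ?_
    rw [map_mul, map_pow, dh_X_self, one_pow, one_mul, dh_rename]

/-- dehomogenisation is injective on forms of a fixed degree -/
lemma eq_zero_of_dh_eq_zero [Infinite k] {a : ℕ} {G : MvPolynomial (Fin (n + 1)) k}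
    (hG : G.IsHomogeneous a) (h : dh j G = 0) : G = 0 := by
  have key : X j * G = 0 := by
    apply MvPolynomial.funext
    intro x
    rw [map_mul, eval_X, map_zero]
    by_cases hx : x j = 0
    · rw [hx, zero_mul]
    · have h1 := Groth.Agent.Helper17.aeval_mul_of_isHomogeneous (K := k) G hG (x j)
        (fun i => x i / x j)
      have h2 : (fun i => x j * (x i / x j)) = x := by
        funext i
        field_simp
      rw [h2] at h1
      have h3 : aeval (fun i => x i / x j) G = 0 := by
        have h4 := aeval_dh j (fun i => x (j.succAbove i) / x j) G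
        rw [h, map_zero] at h4
        have h5 : (Fin.insertNth j (1 : k) (fun i => x (j.succAbove i) / x j) :
            Fin (n + 1) → k) = fun i => x i / x j := by
          have := insertNth_eq j (fun i => x i / x j)
          simp only [div_self hx] at this
          exact this
        rw [h5] at h4
        exact h4.symm
      rw [h3, mul_zero] at h1
      have h6 : eval x G = 0 := h1
      rw [h6, mul_zero]
  exact (mul_eq_zero.mp key).resolve_left (X_ne_zero j)

lemma dh_injOn [Infinite k] {a : ℕ} {G H : MvPolynomial (Fin (n + 1)) k}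
    (hG : G.IsHomogeneous a) (hH : H.IsHomogeneous a) (h : dh j G = dh j H) : G = H := by
  apply sub_eq_zero.mp
  apply eq_zero_of_dh_eq_zero j (hG.sub hH)
  rw [map_sub, h, sub_self]

lemma totalDegree_pt_le (i : Fin (n + 1)) : (pt (k := k) j i).totalDegree ≤ 1 := by
  rcases Fin.eq_self_or_eq_succAbove j i with rfl | ⟨i', rfl⟩
  · simp
  · simp

lemma totalDegree_dh_le (G : MvPolynomial (Fin (n + 1)) k) :
    (dh j G).totalDegree ≤ G.totalDegree := by
  rw [dh, aeval_def, eval₂_eq']
  apply totalDegree_finsetSum_le
  intro m hm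
  refine (totalDegree_mul _ _).trans ?_
  rw [algebraMap_eq, totalDegree_C, zero_add]
  refine (totalDegree_finsetProd _ _).trans ?_
  calc ∑ i, (pt (k := k) j i ^ m i).totalDegree ≤ ∑ i, m i := by
        refine Finset.sum_le_sum fun i _ => ?_
        refine (totalDegree_pow _ _).trans ?_
        calc m i * (pt (k := k) j i).totalDegree ≤ m i * 1 :=
              Nat.mul_le_mul_left _ (totalDegree_pt_le j i)
          _ = m i := mul_one _
    _ = m.sum fun _ e => e := by
        rw [Finsupp.sum_fintype]
        intro i; rfl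
    _ ≤ G.totalDegree := le_totalDegree hm

/-- the dehomogenisation of an irreducible form not divisible by `X_j` is irreducible -/
theorem irreducible_dh [Infinite k] {d : ℕ} {f : MvPolynomial (Fin (n + 1)) k}
    (hf : Irreducible f) (hhom : f.IsHomogeneous d) (hX : ¬ X j ∣ f) :
    Irreducible (dh j f) := by
  have hf0 : dh j f ≠ 0 := fun h => hf.ne_zero (eq_zero_of_dh_eq_zero j hhom h)
  have hdeg : (dh j f).totalDegree ≤ d :=
    (totalDegree_dh_le j f).trans hhom.totalDegree_le
  refine ⟨?_, ?_⟩
  · intro hu
    obtain ⟨c, hc, hcf⟩ := (MvPolynomial.isUnit_iff_eq_C_of_isReduced).mp hu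
    have h2 : f = C c * X j ^ d := by
      apply dh_injOn j hhom ((isHomogeneous_X_pow j d).C_mul c)
      rw [map_mul, map_pow, dh_X_self, one_pow, mul_one, dh_C, hcf]
    rcases Nat.eq_zero_or_pos d with hd | hd
    · apply hf.not_isUnit
      rw [h2, hd, pow_zero, mul_one]
      exact hc.map C
    · apply hX
      rw [h2]
      exact Dvd.dvd.mul_left (dvd_pow_self _ hd.ne') _
  · intro g h hgh
    have hg0 : g ≠ 0 := by
      rintro rfl
      rw [zero_mul] at hgh
      exact hf0 hgh
    have hh0 : h ≠ 0 := by
      rintro rfl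
      rw [mul_zero] at hgh
      exact hf0 hgh
    obtain ⟨G, hG, hGg⟩ := exists_hom_lift j g.totalDegree g le_rfl
    obtain ⟨H, hH, hHh⟩ := exists_hom_lift j h.totalDegree h le_rfl
    have hab : g.totalDegree + h.totalDegree ≤ d := by
      rw [← totalDegree_mul_of_isDomain hg0 hh0, ← hgh]
      exact hdeg
    have h1 : f = X j ^ (d - (g.totalDegree + h.totalDegree)) * (G * H) := by
      apply dh_injOn j hhom
      · have := (isHomogeneous_X_pow (R := k) j (d - (g.totalDegree + h.totalDegree))).mul
          (hG.mul hH)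
        rwa [Nat.sub_add_cancel hab] at this
      · rw [map_mul, map_pow, dh_X_self, one_pow, one_mul, map_mul, hGg, hHh, hgh]
    have hd : d - (g.totalDegree + h.totalDegree) = 0 := by
      by_contra hne
      apply hX
      rw [h1]
      exact Dvd.dvd.mul_right (dvd_pow_self _ hne) _
    rw [hd, pow_zero, one_mul] at h1
    rcases hf.isUnit_or_isUnit h1 with hu | hu
    · left
      rw [← hGg]
      exact hu.map (dh j)
    · right
      rw [← hHh]
      exact hu.map (dh j)

end Groth.Agent.Helper27.Dh
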