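import Groth.Agent.Lib.Helper27.PolB

/-! The degree of a plane curve (S11070). -/

set_option autoImplicit false

namespace Groth.Agent.Helper27.Pol

open FunFld MvPolynomial Groth.Agent.Helper16.FF Groth.Agent.Helper27.Pln

variable {k K : Type*} [Field k] [Field K] [Algebra k K]

theorem finrank_count [IsAlgClosed k] (hK : IsFunctionField k K) (x y : K)
    (hxy : IntermediateField.adjoin k ({x, y} : Set K) = ⊤) (f : MvPolynomial (Fin 2) k)
    (hf : Irreducible f) (hfxy : aeval ![x, y] f = 0) (m : ℕ) (hm : f.totalDegree ≤ m) :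
    Module.finrank k (restrictTotalDegree (Fin 2) k m) =
      Module.finrank k (restrictTotalDegree (Fin 2) k (m - f.totalDegree)) +
      Module.finrank k ↥((Submodule.span k (Set.range ![(1 : K), x, y])) ^ m) := by
  classical
  set e₀ := f.totalDegree with he₀
  set Pm := restrictTotalDegree (Fin 2) k m with hPm
  set Pn := restrictTotalDegree (Fin 2) k (m - e₀) with hPn
  set ev := (aeval ![x, y] : MvPolynomial (Fin 2) k →ₐ[k] K).toLinearMap with hev
  set ev' : Pm →ₗ[k] K := ev.domRestrict Pm with hev'
  have hrange : LinearMap.range ev' = (Submodule.span k (Set.range ![(1 : K), x, y])) ^ m := by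
    rw [hev', LinearMap.range_domRestrict, hev, hPm, map_restrict_eq_pow]
  have hmul : ∀ q ∈ Pn, (LinearMap.mulLeft k f) q ∈ Pm := by
    intro q hq
    rw [hPn, mem_restrictTotalDegree] at hq
    rw [hPm, mem_restrictTotalDegree, LinearMap.mulLeft_apply]
    exact (totalDegree_mul f q).trans (by omega)
  set ψ : Pn →ₗ[k] Pm := (LinearMap.mulLeft k f).restrict hmul with hψ
  have hψval : ∀ q : Pn, ((ψ q : Pm) : MvPolynomial (Fin 2) k) = f * (q : MvPolynomial (Fin 2) k) :=
    fun q => rfl
  have hψinj : Function.Injective ψ := by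
    intro a b hab
    have h1 := congrArg Subtype.val hab
    rw [hψval, hψval] at h1
    exact Subtype.ext (mul_left_cancel₀ hf.ne_zero h1)
  have hker : LinearMap.range ψ = LinearMap.ker ev' := by
    ext ⟨p, hp⟩
    constructor
    · rintro ⟨q, hq⟩
      rw [LinearMap.mem_ker]
      have h1 : p = f * (q : MvPolynomial (Fin 2) k) := by
        have := congrArg Subtype.val hq
        rw [hψval] at this
        exact this.symm
      show aeval ![x, y] p = 0
      rw [h1, map_mul, hfxy, zero_mul]
    · intro h
      rw [LinearMap.mem_ker] at h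
      have hpk : p ∈ RingHom.ker (aeval ![x, y] : MvPolynomial (Fin 2) k →ₐ[k] K) := h
      rw [ker_aeval_eq_span hK x y hxy f hf hfxy, Ideal.mem_span_singleton] at hpk
      obtain ⟨q, rfl⟩ := hpk
      by_cases hq0 : q = 0
      · subst hq0
        refine ⟨0, Subtype.ext ?_⟩
        rw [map_zero]
        show (0 : MvPolynomial (Fin 2) k) = f * 0
        rw [mul_zero]
      · have hq : q ∈ Pn := by
          rw [hPm, mem_restrictTotalDegree, totalDegree_mul_of_isDomain hf.ne_zero hq0] at hp
          rw [hPn, mem_restrictTotalDegree]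
          omega
        exact ⟨⟨q, hq⟩, Subtype.ext rfl⟩
  have h1 := LinearMap.finrank_range_add_finrank_ker ev'
  rw [← hker, LinearMap.finrank_range_of_inj hψinj, hrange] at h1
  omega

theorem main11070 [IsAlgClosed k] (hK : IsFunctionField k K) (x y : K)
    (hxy : IntermediateField.adjoin k ({x, y} : Set K) = ⊤) (f : MvPolynomial (Fin 2) k)
    (hf : Irreducible f) (hfxy : aeval ![x, y] f = 0) :
    (mapDiv k ![(1 : K), x, y]).deg = f.totalDegree := by
  obtain ⟨d, Tm, hd0, hdeg, -, hVT, hfr⟩ := plane_data hK x y hxy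
  rw [hdeg]
  set e₀ := f.totalDegree with he₀
  set m := d + e₀ with hm
  have hF : ∀ m, Module.finrank k ↥((Submodule.span k (Set.range ![(1 : K), x, y])) ^ m) =
      ∑ j : Fin d, (m + 1 - (j : ℕ)) := fun m => by rw [hVT m]; exact hfr m
  have hFs : Module.finrank k ↥((Submodule.span k (Set.range ![(1 : K), x, y])) ^ (m + 1)) =
      Module.finrank k ↥((Submodule.span k (Set.range ![(1 : K), x, y])) ^ m) + d := by
    rw [hF, hF]
    have h1 : ∀ j : Fin d, m + 1 + 1 - (j : ℕ) = (m + 1 - (j : ℕ)) + 1 := fun j => by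
      have := j.2
      omega
    simp_rw [h1]
    rw [Finset.sum_add_distrib]
    simp
  have c1 := finrank_count hK x y hxy f hf hfxy m (by omega)
  have c2 := finrank_count hK x y hxy f hf hfxy (m + 1) (by omega)
  have hsub : m + 1 - e₀ = (m - e₀) + 1 := by omega
  rw [← he₀] at c1 c2
  rw [hsub, finrank_succ, finrank_succ, hFs] at c2
  have : d = e₀ := by omega
  exact_mod_cast this

end Groth.Agent.Helper27.Pol
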