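import Groth.Agent.Lib.Helper27.DhA
import Groth.Agent.Lib.Helper27.PolC

/-! The ideal of homogeneous relations of a projective plane curve is principal (S11073). -/

set_option autoImplicit false

namespace Groth.Agent.Helper27.Dh

open MvPolynomial FunFld

variable {k : Type*} [Field k]

theorem aeval_mul_of_isHomogeneous' {S σ : Type*} [CommRing S] [Algebra k S] [Fintype σ]
    (g : MvPolynomial σ k) {d : ℕ} (hg : g.IsHomogeneous d) (c : S) (x : σ → S) :
    aeval (fun i => c * x i) g = c ^ d * aeval x g := by
  rw [aeval_def, aeval_def, eval₂_eq', eval₂_eq', Finset.mul_sum]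
  refine Finset.sum_congr rfl fun m hm => ?_
  have hdeg : ∑ i, m i = d := by
    rw [hg.degree_eq_sum_deg_support hm]
    exact (Finset.sum_subset (Finset.subset_univ _)
      (fun i _ hi => Finsupp.notMem_support_iff.mp hi)).symm
  simp only [mul_pow, Finset.prod_mul_distrib, Finset.prod_pow_eq_pow_sum, hdeg]
  ring

variable {K : Type*} [Field K] [Algebra k K] {σ : Type*} [Fintype σ]

theorem homEval_of_isHomogeneous (φ : σ → K) {G : MvPolynomial σ k} {d : ℕ}
    (hG : G.IsHomogeneous d) :
    aeval (fun i => Polynomial.C (φ i) * Polynomial.X) G =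
      Polynomial.C (aeval φ G) * Polynomial.X ^ d := by
  have h1 : (fun i => Polynomial.C (φ i) * Polynomial.X) =
      fun i => (Polynomial.X : Polynomial K) * Polynomial.C (φ i) := by
    funext i; ring
  rw [h1, aeval_mul_of_isHomogeneous' G hG]
  have h2 : aeval (fun i => Polynomial.C (φ i)) G = Polynomial.C (aeval φ G) := by
    have := aeval_algebraMap_apply (A := K) (B := Polynomial K) φ G
    simpa [Function.comp_def, Polynomial.C_eq_algebraMap] using this
  rw [h2]; ring

theorem homEval_eq_zero_iff (φ : σ → K) (G : MvPolynomial σ k) :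
    aeval (fun i => Polynomial.C (φ i) * Polynomial.X) G = 0 ↔
      ∀ d, aeval φ (homogeneousComponent d G) = 0 := by
  constructor
  · intro h d
    have h1 : aeval (fun i => Polynomial.C (φ i) * Polynomial.X) G =
        ∑ i ∈ Finset.range (G.totalDegree + 1),
          Polynomial.C (aeval φ (homogeneousComponent i G)) * Polynomial.X ^ i := by
      conv_lhs => rw [← sum_homogeneousComponent G]
      rw [map_sum]
      exact Finset.sum_congr rfl fun i _ =>
        homEval_of_isHomogeneous φ (homogeneousComponent_isHomogeneous i G)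
    by_cases hd : d < G.totalDegree + 1
    · have h2 := congrArg (fun p => Polynomial.coeff p d) h1
      simp only [h, Polynomial.coeff_zero, Polynomial.finset_sum_coeff,
        Polynomial.coeff_C_mul_X_pow] at h2
      rw [Finset.sum_ite_eq (Finset.range _) d] at h2
      simp only [Finset.mem_range, hd, if_true] at h2
      exact h2.symm
    · rw [homogeneousComponent_eq_zero _ _ (by omega), map_zero]
  · intro h
    conv_lhs => rw [← sum_homogeneousComponent G]
    rw [map_sum]
    apply Finset.sum_eq_zero
    intro i _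
    rw [homEval_of_isHomogeneous φ (homogeneousComponent_isHomogeneous i G), h i, map_zero,
      zero_mul]

theorem exists_relation [IsAlgClosed k] (hK : IsFunctionField k K) (x y : K)
    (hxy : IntermediateField.adjoin k ({x, y} : Set K) = ⊤) :
    ∃ p : MvPolynomial (Fin 2) k, p ≠ 0 ∧ aeval ![x, y] p = 0 := by
  by_contra hno
  push Not at hno
  have hinj : Function.Injective (aeval ![x, y] : MvPolynomial (Fin 2) k →ₐ[k] K).toLinearMap := by
    rw [← LinearMap.ker_eq_bot, LinearMap.ker_eq_bot']
    intro p hp
    by_contra hp0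
    exact hno p hp0 hp
  obtain ⟨d, Tm, hd0, -, -, hVT, hfr⟩ := Pln.plane_data hK x y hxy
  have h1 := (Submodule.equivMapOfInjective _ hinj (restrictTotalDegree (Fin 2) k d)).finrank_eq
  rw [Pol.map_restrict_eq_pow, hVT, hfr, Pol.finrank_restrictTotalDegree,
    Fin.sum_univ_castSucc] at h1
  simp only [Fin.val_castSucc, Fin.val_last] at h1
  omega

theorem exists_irreducible_relation [IsAlgClosed k] (hK : IsFunctionField k K) (x y : K)
    (hxy : IntermediateField.adjoin k ({x, y} : Set K) = ⊤) :
    ∃ p : MvPolynomial (Fin 2) k, Irreducible p ∧ aeval ![x, y] p = 0 := by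
  obtain ⟨p, hp0, hp⟩ := exists_relation hK x y hxy
  obtain ⟨s, hs, hsp⟩ := UniqueFactorizationMonoid.exists_prime_factors p hp0
  have hI : (RingHom.ker (aeval ![x, y] : MvPolynomial (Fin 2) k →ₐ[k] K)).IsPrime :=
    RingHom.ker_isPrime _
  have hmem : s.prod ∈ RingHom.ker (aeval ![x, y] : MvPolynomial (Fin 2) k →ₐ[k] K) := by
    obtain ⟨u, hu⟩ := hsp.symm
    rw [← hu]
    exact Ideal.mul_mem_right _ _ hp
  obtain ⟨b, hb, hbm⟩ := (Ideal.IsPrime.multiset_prod_mem_iff_exists_mem hI s).1 hmem
  exact ⟨b, (hs b hb).irreducible, hbm⟩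

theorem insertNth_zero_pair (x y : K) :
    (Fin.insertNth 0 (1 : K) ![x, y] : Fin 3 → K) = ![(1 : K), x, y] := by
  funext i
  fin_cases i <;> rfl

theorem main11073 [IsAlgClosed k] (hK : IsFunctionField k K) (x y : K)
    (hxy : IntermediateField.adjoin k ({x, y} : Set K) = ⊤) :
    ∃ f : MvPolynomial (Fin 3) k, Irreducible f ∧ f.IsHomogeneous f.totalDegree ∧
      RingHom.ker (aeval fun i => Polynomial.C (![(1 : K), x, y] i) * Polynomial.X) =
        Ideal.span {f} := by
  obtain ⟨g, hg, hgxy⟩ := exists_irreducible_relation hK x y hxy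
  have hker := Pol.ker_aeval_eq_span hK x y hxy g hg hgxy
  obtain ⟨F, hF, hFg⟩ := exists_hom_lift (0 : Fin 3) g.totalDegree g le_rfl
  have hF0 : F ≠ 0 := by
    rintro rfl
    rw [map_zero] at hFg
    exact hg.ne_zero hFg.symm
  have hFd : F.totalDegree = g.totalDegree := hF.totalDegree hF0
  have hval : ∀ G : MvPolynomial (Fin 3) k, aeval ![(1 : K), x, y] G = aeval ![x, y] (dh 0 G) := by
    intro G
    rw [aeval_dh, insertNth_zero_pair]
  have hI : (RingHom.ker (aeval fun i => Polynomial.C (![(1 : K), x, y] i) * Polynomial.X :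
      MvPolynomial (Fin 3) k →ₐ[k] Polynomial K)).IsPrime := RingHom.ker_isPrime _
  have hspan : RingHom.ker (aeval fun i => Polynomial.C (![(1 : K), x, y] i) * Polynomial.X :
      MvPolynomial (Fin 3) k →ₐ[k] Polynomial K) = Ideal.span {F} := by
    apply le_antisymm
    · intro G hG
      rw [RingHom.mem_ker, homEval_eq_zero_iff] at hG
      rw [← sum_homogeneousComponent G]
      refine Ideal.sum_mem _ fun d _ => ?_
      have hGd := homogeneousComponent_isHomogeneous d G
      have h1 : dh 0 (homogeneousComponent d G) ∈ Ideal.span {g} := by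
        rw [← hker, RingHom.mem_ker, ← hval]
        exact hG d
      obtain ⟨h, hh⟩ := Ideal.mem_span_singleton'.1 h1
      by_cases h0 : h = 0
      · rw [h0, zero_mul] at hh
        rw [eq_zero_of_dh_eq_zero 0 hGd hh.symm]
        exact Ideal.zero_mem _
      · have hdeg : h.totalDegree + g.totalDegree ≤ d := by
          rw [← totalDegree_mul_of_isDomain h0 hg.ne_zero, hh]
          exact (totalDegree_dh_le 0 _).trans hGd.totalDegree_le
        obtain ⟨H, hH, hHh⟩ := exists_hom_lift (0 : Fin 3) (d - g.totalDegree) h (by omega)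
        have h2 : homogeneousComponent d G = H * F := by
          apply dh_injOn 0 hGd
          · have := hH.mul hF
            rwa [Nat.sub_add_cancel (by omega)] at this
          · rw [map_mul, hHh, hFg, hh]
        rw [h2]
        exact Ideal.mul_mem_left _ _ (Ideal.mem_span_singleton_self F)
    · rw [Ideal.span_singleton_le_iff_mem, RingHom.mem_ker, homEval_of_isHomogeneous _ hF, hval,
        hFg, hgxy, map_zero, zero_mul]
  refine ⟨F, ?_, by rw [hFd]; exact hF, hspan⟩
  rw [hspan] at hI
  exact ((Ideal.span_singleton_prime hF0).1 hI).irreducible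

end Groth.Agent.Helper27.Dh
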