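import Mathlib
import Groth.Agent.Lib.Helper27.DtC

/-! S18154, part D: Piola identity and `Λ(det) = 0` for a matrix with closed rows one of
which is a gradient. -/

set_option autoImplicit false

namespace Groth.Agent.Helper27.Dt

open Finset

variable {k : Type*} {A : Type*} [CommRing k] [CommRing A] [Algebra k A]
variable {ι : Type*} [Fintype ι] [DecidableEq ι]

/-- Product rule. -/
theorem der_prod (d : Derivation k A A) (s : Finset ι) (g : ι → A) :
    d (∏ i ∈ s, g i) = ∑ i ∈ s, d (g i) * ∏ l ∈ s.erase i, g l := by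
  induction s using Finset.induction_on with
  | empty => simp
  | insert a s ha ih =>
    rw [Finset.prod_insert ha, Derivation.leibniz, ih, Finset.sum_insert ha,
      Finset.erase_insert ha, smul_eq_mul, smul_eq_mul, Finset.mul_sum, add_comm, mul_comm]
    congr 1
    refine Finset.sum_congr rfl fun i hi => ?_
    have hai : a ≠ i := by rintro rfl; exact ha hi
    rw [Finset.erase_insert_of_ne hai, Finset.prod_insert (fun h => ha (Finset.mem_of_mem_erase h))]
    ring

/-- Piola identity. -/
theorem piola (pd : ι → Derivation k A A) (N : Matrix ι ι A) (i₀ : ι)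
    (hcl : ∀ i, i ≠ i₀ → ∀ j l, pd l (N i j) = pd j (N i l)) :
    ∑ σ : Equiv.Perm ι, Equiv.Perm.sign σ • pd (σ i₀) (∏ i ∈ univ.erase i₀, N i (σ i)) = 0 := by
  simp_rw [der_prod, Finset.smul_sum]
  rw [Finset.sum_comm]
  refine Finset.sum_eq_zero fun i₁ hi₁ => ?_
  have hne : i₁ ≠ i₀ := Finset.ne_of_mem_erase hi₁
  refine Finset.sum_ninvolution (fun σ => σ * Equiv.swap i₀ i₁) (fun σ => ?_) (fun σ _ => ?_)
    (fun σ => Finset.mem_univ _) (fun σ => ?_)
  · have hprod : ∏ l ∈ (univ.erase i₀).erase i₁, N l ((σ * Equiv.swap i₀ i₁) l)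
        = ∏ l ∈ (univ.erase i₀).erase i₁, N l (σ l) := by
      refine Finset.prod_congr rfl fun l hl => ?_
      have h1 : l ≠ i₁ := Finset.ne_of_mem_erase hl
      have h0 : l ≠ i₀ := Finset.ne_of_mem_erase (Finset.mem_of_mem_erase hl)
      rw [Equiv.Perm.mul_apply, Equiv.swap_apply_of_ne_of_ne h0 h1]
    rw [hprod, Equiv.Perm.sign_mul, Equiv.Perm.sign_swap hne.symm, Equiv.Perm.mul_apply,
      Equiv.Perm.mul_apply, Equiv.swap_apply_left, Equiv.swap_apply_right,
      hcl i₁ hne (σ i₀) (σ i₁)]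
    simp
  · intro h
    have : Equiv.swap i₀ i₁ = 1 := by
      have := congrArg (fun τ => σ⁻¹ * τ) h
      simpa using this
    exact hne.symm (Equiv.swap_eq_one_iff.1 this)
  · rw [mul_assoc, Equiv.swap_mul_self, mul_one]

end Groth.Agent.Helper27.Dt
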