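import Mathlib
import Groth.Agent.Lib.Helper27.DtD

/-! S18154, part E: `Λ(det) = 0` for closed rows with a gradient row; the main determinant. -/

set_option autoImplicit false

namespace Groth.Agent.Helper27.Dt

open Finset Nat

variable {k : Type*} {A : Type*} [CommRing k] [CommRing A] [Algebra k A]
variable {ι : Type*} [Fintype ι] [DecidableEq ι]

theorem L_det_eq_zero (pd : ι → Derivation k A A) (L : A →+ A) (hL : ∀ j a, L (pd j a) = 0)
    (N : Matrix ι ι A) (i₀ : ι) (h : A) (hrow : ∀ j, N i₀ j = pd j h)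
    (hcl : ∀ i, i ≠ i₀ → ∀ j l, pd l (N i j) = pd j (N i l)) : L N.det = 0 := by
  have hdet : N.det = ∑ σ : Equiv.Perm ι,
      Equiv.Perm.sign σ • pd (σ i₀) (h * ∏ i ∈ univ.erase i₀, N i (σ i)) := by
    have hP := piola pd N i₀ hcl
    rw [← Matrix.det_transpose, Matrix.det_apply]
    have : ∀ σ : Equiv.Perm ι, Equiv.Perm.sign σ • ∏ i, N.transpose (σ i) i
        = Equiv.Perm.sign σ • pd (σ i₀) (h * ∏ i ∈ univ.erase i₀, N i (σ i))
          - h * (Equiv.Perm.sign σ • pd (σ i₀) (∏ i ∈ univ.erase i₀, N i (σ i))) := by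
      intro σ
      simp only [Matrix.transpose_apply]
      rw [← Finset.mul_prod_erase univ (fun i => N i (σ i)) (Finset.mem_univ i₀), hrow,
        Derivation.leibniz]
      simp only [Units.smul_def, zsmul_eq_mul, smul_eq_mul]
      ring
    rw [Finset.sum_congr rfl fun σ _ => this σ, Finset.sum_sub_distrib, ← Finset.mul_sum, hP,
      mul_zero, sub_zero]
  rw [hdet, map_sum]
  refine Finset.sum_eq_zero fun σ _ => ?_
  rw [Units.smul_def, map_zsmul, hL, smul_zero]

variable {p : ℕ} (C : Coords k A ι p)

/-- Interpolating matrices. -/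
noncomputable def MS (f : ι → A) (S : Finset ι) : Matrix ι ι A :=
  Matrix.of fun i j => (if i = j then C.t i ^ (p - 1) else 0) + (if i ∈ S then C.pd j (f i) else 0)

theorem pd_pow_of_ne {l i : ι} (h : i ≠ l) (m : ℕ) : C.pd l (C.t i ^ m) = 0 := by
  have := C.pd_mul_pow_of_ne h 1 (by simp) m
  simpa using this

theorem MS_closed (f : ι → A) (S : Finset ι) (i j l : ι) :
    C.pd l (MS C f S i j) = C.pd j (MS C f S i l) := by
  simp only [MS, Matrix.of_apply, map_add]
  congr 1
  · by_cases hij : i = j <;> by_cases hil : i = l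
    · subst hij; subst hil; rfl
    · subst hij; simp [hil, pd_pow_of_ne C hil]
    · subst hil; simp [hij, pd_pow_of_ne C hij]
    · simp [hij, hil]
  · by_cases hi : i ∈ S
    · simp only [hi, if_true]; exact C.comm l j (f i)
    · simp [hi]

theorem Lam_det_MS [Fact p.Prime] (f : ι → A) (S : Finset ι) :
    C.Lam univ (MS C f S).det = C.Lam univ (∏ i, C.t i ^ (p - 1)) := by
  induction S using Finset.induction_on with
  | empty =>
    have : MS C f ∅ = Matrix.diagonal (fun i => C.t i ^ (p - 1)) := by
      ext i j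
      simp [MS, Matrix.diagonal_apply]
    rw [this, Matrix.det_diagonal]
  | insert a S ha ih =>
    have h1 : MS C f (insert a S)
        = (MS C f S).updateRow a (MS C f S a + fun j => C.pd j (f a)) := by
      ext i j
      by_cases hia : i = a
      · subst hia
        simp [MS, ha]
      · rw [Matrix.updateRow_ne hia]
        simp [MS, hia]
    rw [h1, Matrix.det_updateRow_add, Matrix.updateRow_eq_self, map_add, ih]
    have h2 : (C.Lam univ : A →ₗ[k] A).toAddMonoidHom
        ((MS C f S).updateRow a (fun j => C.pd j (f a))).det = 0 := by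
      refine L_det_eq_zero C.pd _ (fun j x => C.Lam_pd (Finset.mem_univ j) x) _ a (f a)
        (fun j => by rw [Matrix.updateRow_self]) (fun i hi j l => ?_)
      rw [Matrix.updateRow_ne hi]
      exact MS_closed C f S i j l
    have h3 : C.Lam univ ((MS C f S).updateRow a (fun j => C.pd j (f a))).det = 0 := h2
    rw [h3, add_zero]

theorem Lam_det [Fact p.Prime] (f : ι → A) :
    C.Lam univ (Matrix.of fun i j => (if i = j then C.t i ^ (p - 1) else 0) + C.pd j (f i)).det
      = ((p - 1)! ^ Fintype.card ι) • (1 : A) := by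
  have h1 : (Matrix.of fun i j => (if i = j then C.t i ^ (p - 1) else 0) + C.pd j (f i))
      = MS C f univ := by
    ext i j
    simp [MS]
  rw [h1, Lam_det_MS, ← one_mul (∏ i, C.t i ^ (p - 1)), C.Lam_mul_prod univ 1 (fun j _ => by simp),
    Finset.card_univ]

theorem det_ne_zero [hp : Fact p.Prime] [CharP A p] [IsDomain A] (f : ι → A) :
    (Matrix.of fun i j => (if i = j then C.t i ^ (p - 1) else 0) + C.pd j (f i)).det ≠ 0 := by
  intro h0
  have h := Lam_det C f
  rw [h0, map_zero, nsmul_eq_mul, mul_one] at h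
  have h' : (((p - 1)! ^ Fintype.card ι : ℕ) : A) = 0 := h.symm
  rw [CharP.cast_eq_zero_iff A p] at h'
  have h2 : p ∣ (p - 1)! := hp.out.dvd_of_dvd_pow h'
  rw [hp.out.dvd_factorial] at h2
  have := hp.out.one_le
  omega

end Groth.Agent.Helper27.Dt
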