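import Mathlib
import Groth.Prelude

/-!
# Base change plumbing for one-step dévissages (helper27)
-/

set_option autoImplicit false
set_option linter.style.haveILetI false
set_option linter.unusedSectionVars false
universe u
open TensorProduct

namespace Groth.Agent.Helper27.Dv

section pushout

variable (R S C R' S' C' : Type u) [CommRing R] [CommRing S] [CommRing C]
  [CommRing R'] [CommRing S'] [CommRing C']
  [Algebra R S] [Algebra S C] [Algebra R C] [IsScalarTower R S C]
  [Algebra R R']
  [Algebra R' S'] [Algebra R S'] [Algebra S S'] [IsScalarTower R R' S'] [IsScalarTower R S S']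
  [Algebra R' C'] [Algebra R C'] [Algebra C C'] [IsScalarTower R R' C'] [IsScalarTower R C C']
  [Algebra S' C'] [IsScalarTower R' S' C'] [Algebra S C'] [IsScalarTower S S' C']
  [IsScalarTower S C C']

/-- cancellation of pushout squares: if `S' = R' ⊗ S` and `C' = R' ⊗ C` then `C' = S' ⊗_S C`. -/
theorem isPushout_right [Algebra.IsPushout R R' S S'] [Algebra.IsPushout R R' C C'] :
    Algebra.IsPushout S C S' C' := by
  haveI : Algebra.IsPushout R S R' S' := Algebra.IsPushout.symm inferInstance
  haveI : Algebra.IsPushout R C R' C' := Algebra.IsPushout.symm inferInstance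
  haveI : IsScalarTower R S' C' := IsScalarTower.of_algebraMap_eq fun x => by
    rw [IsScalarTower.algebraMap_apply R R' C', IsScalarTower.algebraMap_apply R' S' C',
      ← IsScalarTower.algebraMap_apply R R' S']
  exact (Algebra.IsPushout.comp_iff R S R' (S' := S') (T := C) (T' := C')).mp inferInstance

end pushout

section modules

variable (S C S' C' : Type u) [CommRing S] [CommRing C] [CommRing S'] [CommRing C']
  [Algebra S C] [Algebra S S'] [Algebra C C'] [Algebra S' C'] [Algebra S C']
  [IsScalarTower S S' C'] [IsScalarTower S C C']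
  (N : Type u) [AddCommGroup N] [Module S N]
  (G : Type u) [AddCommGroup G] [Module C G] [Module S G] [IsScalarTower S C G]
  (N' : Type u) [AddCommGroup N'] [Module S' N'] [Module S N'] [IsScalarTower S S' N']
  (G' : Type u) [AddCommGroup G'] [Module C' G'] [Module S' G'] [IsScalarTower S' C' G']
  [Module C G'] [IsScalarTower C C' G']

/-- the identification `N ≅ G` base changes to `N' ≅ G'`. -/
theorem nonempty_equiv_baseChange [Algebra.IsPushout S C S' C'] (e : N ≃ₗ[S] G)
    (f : N →ₗ[S] N') (hf : IsBaseChange S' f) (g : G →ₗ[C] G') (hg : IsBaseChange C' g) :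
    Nonempty (N' ≃ₗ[S'] G') := by
  haveI : Algebra.IsPushout S S' C C' := Algebra.IsPushout.symm inferInstance
  let e1 : S' ⊗[S] N ≃ₗ[S'] N' := hf.equiv
  let e2 : S' ⊗[S] N ≃ₗ[S'] S' ⊗[S] G :=
    TensorProduct.AlgebraTensorModule.congr (LinearEquiv.refl S' S') e
  let e3 : C' ⊗[C] G ≃ₗ[S'] S' ⊗[S] G := Algebra.IsPushout.cancelBaseChange S S' C C' G
  let e4 : C' ⊗[C] G ≃ₗ[S'] G' := hg.equiv.restrictScalars S'
  exact ⟨e1.symm ≪≫ₗ e2 ≪≫ₗ e3.symm ≪≫ₗ e4⟩

end modules

section spec

open AlgebraicGeometry CategoryTheory

variable (R D R' D' : Type u) [CommRing R] [CommRing D] [CommRing R'] [CommRing D']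
  [Algebra R D] [Algebra R R'] [Algebra R' D'] [Algebra R D'] [Algebra D D']
  [IsScalarTower R R' D'] [IsScalarTower R D D']

/-- the pullback square of spectra attached to a pushout square of rings. -/
theorem isPullback_spec [Algebra.IsPushout R R' D D'] :
    IsPullback (Spec.map (CommRingCat.ofHom (algebraMap D D')))
      (Spec.map (CommRingCat.ofHom (algebraMap R' D')))
      (Spec.map (CommRingCat.ofHom (algebraMap R D)))
      (Spec.map (CommRingCat.ofHom (algebraMap R R'))) := by
  haveI : Algebra.IsPushout R D R' D' := Algebra.IsPushout.symm inferInstance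
  exact isPullback_SpecMap_of_isPushout _ _ _ _ (CommRingCat.isPushout_of_isPushout R D R' D')

theorem smoothRelDim_baseChange [Algebra.IsPushout R R' D D'] (n : ℕ)
    (h : FlatCA.SmoothRelDim n R D) : FlatCA.SmoothRelDim n R' D' :=
  haveI := smoothOfRelativeDimension_isStableUnderBaseChange n
  MorphismProperty.of_isPullback (P := @SmoothOfRelativeDimension n)
    (isPullback_spec R D R' D') h

theorem geomIrredFibres_baseChange [Algebra.IsPushout R R' D D']
    (h : FlatCA.GeomIrredFibres R D) : FlatCA.GeomIrredFibres R' D' :=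
  MorphismProperty.of_isPullback (P := @GeometricallyIrreducible)
    (isPullback_spec R D R' D') h

end spec

end Groth.Agent.Helper27.Dv
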