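import Mathlib
import Groth.Prelude
import Groth.Agent.Lib.Helper4.SuppBC
import Groth.Agent.Lib.Helper14.UOpenFam

/-!
# Dimension of the support of a fibre module under base change (helper27)
-/

set_option autoImplicit false
set_option linter.style.haveILetI false
set_option linter.unusedSectionVars false
universe u
open TensorProduct

namespace Groth.Agent.Helper27.Dv

attribute [local instance] Algebra.TensorProduct.rightAlgebra

/-- the support dimension of a finite module is the topological dimension of its support. -/
theorem supportDim_eq_topologicalKrullDim (F : Type u) [CommRing F] (M : Type u) [AddCommGroup M]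
    [Module F M] [Module.Finite F M] :
    Module.supportDim F M = topologicalKrullDim ↥(Module.support F M) := by
  rw [Module.supportDim_eq_ringKrullDim_quotient_annihilator,
    ← PrimeSpectrum.topologicalKrullDim_eq_ringKrullDim]
  have hemb := (PrimeSpectrum.isClosedEmbedding_comap_of_surjective (F ⧸ Module.annihilator F M)
    (Ideal.Quotient.mk (Module.annihilator F M)) Ideal.Quotient.mk_surjective).isEmbedding
  have hr : Set.range (PrimeSpectrum.comap (Ideal.Quotient.mk (Module.annihilator F M))) =
      Module.support F M := by
    rw [range_comap_of_surjective _ _ Ideal.Quotient.mk_surjective,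
      Ideal.mk_ker, Module.support_eq_zeroLocus]
  have h1 := IsHomeomorph.topologicalKrullDim_eq _ hemb.toHomeomorph.isHomeomorph
  rw [h1]
  exact IsHomeomorph.topologicalKrullDim_eq _ (Homeomorph.setCongr hr).isHomeomorph

section fibre

variable {R : Type u} [CommRing R] (p : Ideal R) [p.IsPrime] (S : Type u) [CommRing S]
  [Algebra R S] (N : Type u) [AddCommGroup N] [Module S N] [Module R N] [IsScalarTower R S N]

theorem isEmbedding_comap_fiber :
    Topology.IsEmbedding (PrimeSpectrum.comap (algebraMap S (p.Fiber S))) :=
  Topology.IsEmbedding.subtypeVal.comp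
    (PrimeSpectrum.preimageHomeomorphFiber R S ⟨p, inferInstance⟩).symm.isEmbedding

theorem range_comap_fiber :
    Set.range (PrimeSpectrum.comap (algebraMap S (p.Fiber S))) =
      PrimeSpectrum.comap (algebraMap R S) ⁻¹' {⟨p, inferInstance⟩} := by
  have h : PrimeSpectrum.comap (algebraMap S (p.Fiber S)) =
      Subtype.val ∘ (PrimeSpectrum.preimageHomeomorphFiber R S ⟨p, inferInstance⟩).symm := rfl
  rw [h, Set.range_comp, (PrimeSpectrum.preimageHomeomorphFiber R S
    ⟨p, inferInstance⟩).symm.surjective.range_eq, Set.image_univ, Subtype.range_coe]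

theorem supportDim_fiberMod [Module.Finite S N] :
    Module.supportDim (p.Fiber S) (FlatCA.fiberMod p S N) =
      topologicalKrullDim ↥(PrimeSpectrum.comap (algebraMap R S) ⁻¹' {⟨p, inferInstance⟩} ∩
        Module.support S N) := by
  haveI : Module.Finite (p.Fiber S) (FlatCA.fiberMod p S N) :=
    inferInstanceAs (Module.Finite (p.Fiber S) ((p.Fiber S) ⊗[S] N))
  rw [supportDim_eq_topologicalKrullDim]
  have hs : Module.support (p.Fiber S) (FlatCA.fiberMod p S N) =
      PrimeSpectrum.comap (algebraMap S (p.Fiber S)) ⁻¹' Module.support S N :=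
    Groth.Agent.Helper4.SuppBC.support_baseChange S (p.Fiber S) N
  rw [hs]
  have h1 := IsHomeomorph.topologicalKrullDim_eq _
    ((isEmbedding_comap_fiber p S).homeomorphImage
      (PrimeSpectrum.comap (algebraMap S (p.Fiber S)) ⁻¹' Module.support S N)).isHomeomorph
  rw [h1]
  have h2 : PrimeSpectrum.comap (algebraMap S (p.Fiber S)) ''
      (PrimeSpectrum.comap (algebraMap S (p.Fiber S)) ⁻¹' Module.support S N) =
      PrimeSpectrum.comap (algebraMap R S) ⁻¹' {⟨p, inferInstance⟩} ∩ Module.support S N := by
    rw [Set.image_preimage_eq_inter_range, range_comap_fiber, Set.inter_comm]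
  exact IsHomeomorph.topologicalKrullDim_eq _ (Homeomorph.setCongr h2).isHomeomorph

end fibre

end Groth.Agent.Helper27.Dv
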