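import Mathlib
import Groth.Prelude
import Groth.Agent.Lib.Helper27.DvA
import Groth.Agent.Lib.Helper27.DvB

/-!
# Dimension of the support of a fibre module under base change, II (helper27)
-/

set_option autoImplicit false
set_option linter.style.haveILetI false
set_option linter.unusedSectionVars false
universe u
open TensorProduct AlgebraicGeometry CategoryTheory

namespace Groth.Agent.Helper27.Dv

attribute [local instance] Algebra.TensorProduct.rightAlgebra

variable (R S : Type u) [CommRing R] [CommRing S] [Algebra R S] [Algebra.FiniteType R S]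
  (N : Type u) [AddCommGroup N] [Module S N] [Module R N] [IsScalarTower R S N] [Module.Finite S N]
  (p : Ideal R) [p.IsPrime]
  (R' : Type u) [CommRing R'] [Algebra R R'] (p' : Ideal R') [p'.IsPrime] [p'.LiesOver p]
  (S' : Type u) [CommRing S']
  [Algebra R' S'] [Algebra R S'] [Algebra S S'] [IsScalarTower R R' S'] [IsScalarTower R S S']
  [Algebra.IsPushout R R' S S']
  (N' : Type u) [AddCommGroup N'] [Module S' N'] [Module R' N'] [IsScalarTower R' S' N']
  [Module S N'] [IsScalarTower S S' N']

theorem support_of_isBaseChange (f : N →ₗ[S] N') (hf : IsBaseChange S' f) :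
    Module.support S' N' = PrimeSpectrum.comap (algebraMap S S') ⁻¹' Module.support S N := by
  rw [← Groth.Agent.Helper4.SuppBC.support_baseChange S S' N]
  exact (LinearEquiv.support_eq hf.equiv).symm

theorem finite_of_isBaseChange (f : N →ₗ[S] N') (hf : IsBaseChange S' f) : Module.Finite S' N' :=
  Module.Finite.equiv hf.equiv

theorem supportDim_fiberMod_baseChange (f : N →ₗ[S] N') (hf : IsBaseChange S' f) :
    Module.supportDim (p'.Fiber S') (FlatCA.fiberMod p' S' N') =
      Module.supportDim (p.Fiber S) (FlatCA.fiberMod p S N) := by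
  haveI := finite_of_isBaseChange S N S' N' f hf
  rw [supportDim_fiberMod, supportDim_fiberMod, support_of_isBaseChange S N S' N' f hf]
  have hsq := isPullback_spec R S R' S'
  haveI : LocallyOfFiniteType (Spec.map (CommRingCat.ofHom (algebraMap R S))) := by
    rw [HasRingHomProperty.Spec_iff (P := @LocallyOfFiniteType)]
    exact RingHom.finiteType_algebraMap.mpr inferInstance
  let y' : ↥(Spec (CommRingCat.of R')) := ⟨p', inferInstance⟩
  have hy : (Spec.map (CommRingCat.ofHom (algebraMap R R'))) y' = ⟨p, inferInstance⟩ := by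
    apply PrimeSpectrum.ext
    show p'.comap (algebraMap R R') = p
    exact (Ideal.over_def p' p).symm
  have key := Groth.Agent.Helper14.UOpenFam.dim_bc hsq
    (Module.support S N : Set ↥(Spec (CommRingCat.of S))) y'
  rw [hy] at key
  have hcl : IsClosed (Module.support S N) := Module.isClosed_support
  have e1 : ∀ (A : Set (PrimeSpectrum S)) (B : Set (PrimeSpectrum S)), IsClosed B →
      A ∩ closure (B ∩ A) = A ∩ B := by
    intro A B hB
    apply Set.Subset.antisymm
    · intro x hx
      exact ⟨hx.1, (closure_minimal Set.inter_subset_left hB) hx.2⟩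
    · intro x hx
      exact ⟨hx.1, subset_closure ⟨hx.2, hx.1⟩⟩
  have e2 : ∀ (A : Set (PrimeSpectrum S')) (B : Set (PrimeSpectrum S')), IsClosed B →
      A ∩ closure (B ∩ A) = A ∩ B := by
    intro A B hB
    apply Set.Subset.antisymm
    · intro x hx
      exact ⟨hx.1, (closure_minimal Set.inter_subset_left hB) hx.2⟩
    · intro x hx
      exact ⟨hx.1, subset_closure ⟨hx.2, hx.1⟩⟩
  have hcl' : IsClosed (PrimeSpectrum.comap (algebraMap S S') ⁻¹' Module.support S N) :=
    hcl.preimage (PrimeSpectrum.continuous_comap (algebraMap S S'))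
  have k1 := e1 (PrimeSpectrum.comap (algebraMap R S) ⁻¹' {⟨p, inferInstance⟩})
    (Module.support S N) hcl
  have k2 := e2 (PrimeSpectrum.comap (algebraMap R' S') ⁻¹' {⟨p', inferInstance⟩})
    (PrimeSpectrum.comap (algebraMap S S') ⁻¹' Module.support S N) hcl'
  rw [← k1, ← k2]
  exact key

end Groth.Agent.Helper27.Dv
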