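import Mathlib
import Groth.Prelude
import Groth.Agent.Lib.Helper27.DvC

/-!
# Base change of a one-step dévissage (helper27)
-/

set_option autoImplicit false
set_option linter.style.haveILetI false
set_option linter.unusedSectionVars false
universe u
open TensorProduct

namespace Groth.Agent.Helper27.Dv

theorem oneStep_baseChange
    (R S : Type u) [CommRing R] [CommRing S] [Algebra R S] [Algebra.FiniteType R S]
    (N : Type u) [AddCommGroup N] [Module S N] [Module R N] [IsScalarTower R S N] [Module.Finite S N]
    (p : Ideal R) [p.IsPrime]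
    (C D G : Type u) [CommRing C] [CommRing D] [Algebra S C] [Algebra R C] [IsScalarTower R S C]
    [Algebra R D] [Algebra D C] [IsScalarTower R D C] [AddCommGroup G] [Module C G] [Module S G]
    [IsScalarTower S C G] (n : ℕ)
    (h : FlatCA.IsOneStepDevissage R S N p C D G n)
    (R' : Type u) [CommRing R'] [Algebra R R'] (p' : Ideal R') [p'.IsPrime] [p'.LiesOver p]
    (S' C' D' : Type u) [CommRing S'] [CommRing C'] [CommRing D']
    [Algebra R' S'] [Algebra R S'] [Algebra S S'] [IsScalarTower R R' S'] [IsScalarTower R S S']
    [Algebra.IsPushout R R' S S']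
    [Algebra R' C'] [Algebra R C'] [Algebra C C'] [IsScalarTower R R' C'] [IsScalarTower R C C']
    [Algebra.IsPushout R R' C C']
    [Algebra R' D'] [Algebra R D'] [Algebra D D'] [IsScalarTower R R' D'] [IsScalarTower R D D']
    [Algebra.IsPushout R R' D D']
    [Algebra S' C'] [IsScalarTower R' S' C'] [Algebra S C'] [IsScalarTower S S' C'] [IsScalarTower S C C']
    [Algebra D' C'] [IsScalarTower R' D' C'] [Algebra D C'] [IsScalarTower D D' C'] [IsScalarTower D C C']
    (N' : Type u) [AddCommGroup N'] [Module S' N'] [Module R' N'] [IsScalarTower R' S' N']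
    [Module S N'] [IsScalarTower S S' N'] (f : N →ₗ[S] N') (hf : IsBaseChange S' f)
    (G' : Type u) [AddCommGroup G'] [Module C' G'] [Module S' G'] [IsScalarTower S' C' G']
    [Module C G'] [IsScalarTower C C' G'] (g : G →ₗ[C] G') (hg : IsBaseChange C' g) :
    FlatCA.IsOneStepDevissage R' S' N' p' C' D' G' n := by
  obtain ⟨⟨e⟩, hsurj, hfp, hfinDC, hfinCG, hsm, hirr, hdim⟩ := h
  haveI hSC : Algebra.IsPushout S C S' C' := isPushout_right R S C R' S' C'
  haveI hDC : Algebra.IsPushout D C D' C' := isPushout_right R D C R' D' C'
  refine ⟨nonempty_equiv_baseChange S C S' C' N G N' G' e f hf g hg, ?_, ?_, ?_, ?_, ?_, ?_, ?_⟩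
  · exact RingHom.surjective_isStableUnderBaseChange S C S' C' hsurj
  · have h1 : (algebraMap S C).FinitePresentation := RingHom.finitePresentation_algebraMap.mpr hfp
    exact RingHom.finitePresentation_algebraMap.mp
      (RingHom.finitePresentation_isStableUnderBaseChange S C S' C' h1)
  · have h1 : (algebraMap D C).Finite := RingHom.finite_algebraMap.mpr hfinDC
    exact RingHom.finite_algebraMap.mp (RingHom.finite_isStableUnderBaseChange D C D' C' h1)
  · haveI := hfinCG
    exact Module.Finite.equiv hg.equiv
  · exact smoothRelDim_baseChange R D R' D' n hsm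
  · exact geomIrredFibres_baseChange R D R' D' hirr
  · rw [supportDim_fiberMod_baseChange R S N p R' p' S' N' f hf]
    exact hdim

end Groth.Agent.Helper27.Dv
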