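import Mathlib
import Groth.Prelude
import Groth.Agent.Lib.Helper27.DvC

/-!
# Fibres over points with the same residue field (helper27)
-/

set_option autoImplicit false
set_option linter.style.haveILetI false
set_option linter.unusedSectionVars false
universe u
open TensorProduct

namespace Groth.Agent.Helper27.Dv

attribute [local instance] Algebra.TensorProduct.rightAlgebra

section fibreIso

variable (R S : Type u) [CommRing R] [CommRing S] [Algebra R S]
  (p : Ideal R) [p.IsPrime]
  (R' : Type u) [CommRing R'] [Algebra R R'] (p' : Ideal R') [p'.IsPrime] [hp' : p'.LiesOver p]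
  (hκ : Function.Bijective (Ideal.ResidueField.mapₐ p p' (Algebra.ofId R R') hp'.over))
  (S' : Type u) [CommRing S']
  [Algebra R' S'] [Algebra R S'] [Algebra S S'] [IsScalarTower R R' S'] [IsScalarTower R S S']
  [Algebra.IsPushout R R' S S']

/-- the fibre rings over `p` and `p'` are isomorphic when `κ(p) = κ(p')`. -/
noncomputable def fibreIso : p.Fiber S ≃+* p'.Fiber S' :=
  let σe : p.ResidueField ≃ₐ[R] p'.ResidueField := AlgEquiv.ofBijective _ hκ
  let e1 : p.ResidueField ⊗[R] S ≃ₐ[R] p'.ResidueField ⊗[R] S :=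
    Algebra.TensorProduct.congr σe AlgEquiv.refl
  let e2 : p'.ResidueField ⊗[R'] (R' ⊗[R] S) ≃ₐ[R'] p'.ResidueField ⊗[R] S :=
    Algebra.TensorProduct.cancelBaseChange R R' R' p'.ResidueField S
  let e3 : R' ⊗[R] S ≃ₐ[R'] S' := Algebra.IsPushout.equiv R R' S S'
  let e4 : p'.ResidueField ⊗[R'] (R' ⊗[R] S) ≃ₐ[R'] p'.ResidueField ⊗[R'] S' :=
    Algebra.TensorProduct.congr AlgEquiv.refl e3
  e1.toRingEquiv.trans (e2.symm.toRingEquiv.trans e4.toRingEquiv)

theorem fibreIso_one_tmul (s : S) :
    fibreIso R S p R' p' hκ S' (1 ⊗ₜ[R] s) = 1 ⊗ₜ[R'] (algebraMap S S' s) := by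
  simp [fibreIso, Algebra.IsPushout.equiv_tmul]

theorem fibreIso_comp_algebraMap :
    (fibreIso R S p R' p' hκ S').toRingHom.comp (algebraMap S (p.Fiber S)) =
      (algebraMap S' (p'.Fiber S')).comp (algebraMap S S') := by
  ext s
  exact fibreIso_one_tmul R S p R' p' hκ S' s

end fibreIso

end Groth.Agent.Helper27.Dv
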