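import Mathlib
import Groth.Prelude
import Groth.Agent.Lib.Helper27.DvE
import Groth.Agent.Lib.Helper14.FibreChart
import Groth.Agent.Lib.Helper10.AssBC

/-!
# Transport along the isomorphism of fibres (helper27)
-/

set_option autoImplicit false
set_option linter.style.haveILetI false
set_option linter.unusedSectionVars false
universe u
open TensorProduct

namespace Groth.Agent.Helper27.Dv

attribute [local instance] Algebra.TensorProduct.rightAlgebra

section transport

variable (R S : Type u) [CommRing R] [CommRing S] [Algebra R S]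
  (N : Type u) [AddCommGroup N] [Module S N] [Module R N] [IsScalarTower R S N]
  (p : Ideal R) [p.IsPrime]
  (R' : Type u) [CommRing R'] [Algebra R R'] (p' : Ideal R') [p'.IsPrime] [hp' : p'.LiesOver p]
  (hκ : Function.Bijective (Ideal.ResidueField.mapₐ p p' (Algebra.ofId R R') hp'.over))
  (S' : Type u) [CommRing S']
  [Algebra R' S'] [Algebra R S'] [Algebra S S'] [IsScalarTower R R' S'] [IsScalarTower R S S']
  [Algebra.IsPushout R R' S S']
  (N' : Type u) [AddCommGroup N'] [Module S' N'] [Module R' N'] [IsScalarTower R' S' N']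
  [Module S N'] [IsScalarTower S S' N']

/-- the homeomorphism of fibres. -/
noncomputable def fibHomeo : PrimeSpectrum (p'.Fiber S') ≃ₜ PrimeSpectrum (p.Fiber S) :=
  (PrimeSpectrum.homeomorphOfRingEquiv (fibreIso R S p R' p' hκ S')).symm

theorem fibHomeo_apply (x' : PrimeSpectrum (p'.Fiber S')) :
    fibHomeo R S p R' p' hκ S' x' =
      PrimeSpectrum.comap (fibreIso R S p R' p' hκ S').toRingHom x' := rfl

theorem comap_fibHomeo (x' : PrimeSpectrum (p'.Fiber S')) :
    PrimeSpectrum.comap (algebraMap S (p.Fiber S)) (fibHomeo R S p R' p' hκ S' x') =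
      PrimeSpectrum.comap (algebraMap S S')
        (PrimeSpectrum.comap (algebraMap S' (p'.Fiber S')) x') := by
  rw [fibHomeo_apply, ← PrimeSpectrum.comap_comp_apply, ← PrimeSpectrum.comap_comp_apply,
    fibreIso_comp_algebraMap]

/-- the point of the fibre ring attached to a prime over `p`. -/
noncomputable def fibPt (q : Ideal S) [q.IsPrime] [q.LiesOver p] : PrimeSpectrum (p.Fiber S) :=
  PrimeSpectrum.preimageEquivFiber R S ⟨p, inferInstance⟩
    ⟨⟨q, inferInstance⟩, PrimeSpectrum.ext (Ideal.over_def q p).symm⟩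

theorem comap_fibPt (q : Ideal S) [q.IsPrime] [q.LiesOver p] :
    PrimeSpectrum.comap (algebraMap S (p.Fiber S)) (fibPt R S p q) = ⟨q, inferInstance⟩ := by
  have h := (PrimeSpectrum.preimageEquivFiber R S ⟨p, inferInstance⟩).left_inv
    ⟨⟨q, inferInstance⟩, PrimeSpectrum.ext (Ideal.over_def q p).symm⟩
  exact congrArg Subtype.val h

theorem fibPt_asIdeal (q : Ideal S) [q.IsPrime] [q.LiesOver p] :
    (fibPt R S p q).asIdeal = FlatCA.fiberIdeal p q := by
  have h := Groth.Agent.Helper10.AssBC.fiberIdeal_comap p (fibPt R S p q).asIdeal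
  have h2 := congrArg PrimeSpectrum.asIdeal (comap_fibPt R S p q)
  rw [← h]
  congr 1

theorem eq_fibPt_of_asIdeal (q : Ideal S) [q.IsPrime] [q.LiesOver p]
    (ξ : PrimeSpectrum (p.Fiber S)) (hξ : ξ.asIdeal = FlatCA.fiberIdeal p q) :
    ξ = fibPt R S p q :=
  PrimeSpectrum.ext (hξ.trans (fibPt_asIdeal R S p q).symm)

include hκ in
/-- a prime of `S'` over `p'` is determined by its contraction to `S`. -/
theorem eq_of_comap_eq (q₁ q₂ : Ideal S') [q₁.IsPrime] [q₂.IsPrime] [q₁.LiesOver p']
    [q₂.LiesOver p'] (h : q₁.comap (algebraMap S S') = q₂.comap (algebraMap S S')) : q₁ = q₂ := by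
  have h1 := comap_fibHomeo R S p R' p' hκ S' (fibPt R' S' p' q₁)
  have h2 := comap_fibHomeo R S p R' p' hκ S' (fibPt R' S' p' q₂)
  rw [comap_fibPt] at h1 h2
  have h3 : PrimeSpectrum.comap (algebraMap S S') ⟨q₁, inferInstance⟩ =
      PrimeSpectrum.comap (algebraMap S S') ⟨q₂, inferInstance⟩ := PrimeSpectrum.ext h
  rw [← h3, ← h1] at h2
  have h4 := (fibHomeo R S p R' p' hκ S').injective
    ((isEmbedding_comap_fiber p S).injective h2)
  have h5 := congrArg (PrimeSpectrum.comap (algebraMap S' (p'.Fiber S'))) h4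
  rw [comap_fibPt, comap_fibPt] at h5
  exact (congrArg PrimeSpectrum.asIdeal h5).symm

theorem support_fiberMod [Module.Finite S N] :
    Module.support (p.Fiber S) (FlatCA.fiberMod p S N) =
      PrimeSpectrum.comap (algebraMap S (p.Fiber S)) ⁻¹' Module.support S N :=
  Groth.Agent.Helper4.SuppBC.support_baseChange S (p.Fiber S) N

theorem mem_support_fibHomeo_iff [Module.Finite S N] (f : N →ₗ[S] N') (hf : IsBaseChange S' f)
    (x' : PrimeSpectrum (p'.Fiber S')) :
    x' ∈ Module.support (p'.Fiber S') (FlatCA.fiberMod p' S' N') ↔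
      fibHomeo R S p R' p' hκ S' x' ∈ Module.support (p.Fiber S) (FlatCA.fiberMod p S N) := by
  haveI := finite_of_isBaseChange S N S' N' f hf
  rw [support_fiberMod, support_fiberMod, Set.mem_preimage, Set.mem_preimage, comap_fibHomeo,
    support_of_isBaseChange S N S' N' f hf, Set.mem_preimage]

theorem localDim_support_fibHomeo [Module.Finite S N] (f : N →ₗ[S] N') (hf : IsBaseChange S' f)
    (x' : PrimeSpectrum (p'.Fiber S'))
    (hx' : x' ∈ Module.support (p'.Fiber S') (FlatCA.fiberMod p' S' N')) :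
    FlatMor.localDim ↥(Module.support (p.Fiber S) (FlatCA.fiberMod p S N))
        ⟨fibHomeo R S p R' p' hκ S' x',
          (mem_support_fibHomeo_iff R S N p R' p' hκ S' N' f hf x').1 hx'⟩ =
      FlatMor.localDim ↥(Module.support (p'.Fiber S') (FlatCA.fiberMod p' S' N')) ⟨x', hx'⟩ := by
  let e : ↥(Module.support (p'.Fiber S') (FlatCA.fiberMod p' S' N')) ≃ₜ
      ↥(Module.support (p.Fiber S) (FlatCA.fiberMod p S N)) :=
    (fibHomeo R S p R' p' hκ S').subtype
      (fun x => mem_support_fibHomeo_iff R S N p R' p' hκ S' N' f hf x)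
  exact Groth.Agent.Helper14.FibreChart.localDim_openEmbedding e e.isOpenEmbedding ⟨x', hx'⟩

end transport

end Groth.Agent.Helper27.Dv
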