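import Mathlib
import Groth.Prelude

/-!
# Transport of purely transcendental residue field extensions (helper27)
-/

set_option autoImplicit false
set_option linter.style.haveILetI false
set_option linter.unusedSectionVars false
universe u

namespace Groth.Agent.Helper27.Dv

theorem transBasis_transport {K L K' L' : Type u} [Field K] [Field L] [Field K'] [Field L']
    (i : K →+* L) (i' : K' →+* L') (σ : K →+* K') (hσ : Function.Surjective σ)
    (ρ : L →+* L') (hρ : Function.Bijective ρ) (hc : ρ.comp i = i'.comp σ)
    (h : letI := i.toAlgebra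
      ∃ (ι : Type u) (x : ι → L), IsTranscendenceBasis K x ∧
        IntermediateField.adjoin K (Set.range x) = ⊤) :
    letI := i'.toAlgebra
    ∃ (ι : Type u) (x : ι → L'), IsTranscendenceBasis K' x ∧
      IntermediateField.adjoin K' (Set.range x) = ⊤ := by
  letI := i.toAlgebra
  letI := i'.toAlgebra
  obtain ⟨ι, x, hx, hadj⟩ := h
  have hc' : RingHom.comp (algebraMap K' L') σ = RingHom.comp ρ (algebraMap K L) := hc.symm
  have hind : AlgebraicIndependent K' (ρ ∘ x) :=
    hx.1.ringHom_of_comp_eq σ ρ hσ hρ.1 hc'
  have hmem : ∀ l ∈ IntermediateField.adjoin K (Set.range x),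
      ρ l ∈ IntermediateField.adjoin K' (Set.range (ρ ∘ x)) := by
    intro l hl
    induction hl using IntermediateField.adjoin_induction with
    | mem y hy =>
      obtain ⟨j, rfl⟩ := hy
      exact IntermediateField.subset_adjoin _ _ ⟨j, rfl⟩
    | algebraMap k =>
      have h1 : ρ (algebraMap K L k) = algebraMap K' L' (σ k) := by
        have h2 := congrArg (fun φ => φ k) hc
        exact h2
      rw [h1]
      exact IntermediateField.algebraMap_mem _ _
    | add a b _ _ ha hb => rw [map_add]; exact add_mem ha hb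
    | inv a _ ha => rw [map_inv₀]; exact inv_mem ha
    | mul a b _ _ ha hb => rw [map_mul]; exact mul_mem ha hb
  have hadj' : IntermediateField.adjoin K' (Set.range (ρ ∘ x)) = ⊤ := by
    rw [eq_top_iff]
    intro l' _
    obtain ⟨l, rfl⟩ := hρ.2 l'
    exact hmem l (by rw [hadj]; trivial)
  refine ⟨ι, ρ ∘ x, ?_, hadj'⟩
  rw [hind.isTranscendenceBasis_iff_isAlgebraic, ← IntermediateField.isAlgebraic_adjoin_iff_top,
    hadj']
  exact ⟨fun l => isAlgebraic_algebraMap (⟨l, trivial⟩ : (⊤ : IntermediateField K' L'))⟩

section residue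

variable (R S : Type u) [CommRing R] [CommRing S] [Algebra R S]
  (p : Ideal R) [p.IsPrime]
  (R' : Type u) [CommRing R'] [Algebra R R'] (p' : Ideal R') [p'.IsPrime] [hp' : p'.LiesOver p]
  (hκ : Function.Bijective (Ideal.ResidueField.mapₐ p p' (Algebra.ofId R R') hp'.over))
  (S' : Type u) [CommRing S']
  [Algebra R' S'] [Algebra R S'] [Algebra S S'] [IsScalarTower R R' S'] [IsScalarTower R S S']
  [Algebra.IsPushout R R' S S']
  (q : Ideal S) [q.IsPrime] [hq : q.LiesOver p] (q' : Ideal S') [q'.IsPrime] [hq' : q'.LiesOver q]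
  [hq'p : q'.LiesOver p']

/-- the square of residue field maps commutes. -/
theorem residue_square :
    (Ideal.ResidueField.map q q' (algebraMap S S') hq'.over).comp
      (Ideal.ResidueField.mapₐ p q (Algebra.ofId R S) hq.over).toRingHom =
    (Ideal.ResidueField.mapₐ p' q' (Algebra.ofId R' S') hq'p.over).toRingHom.comp
      (Ideal.ResidueField.mapₐ p p' (Algebra.ofId R R') hp'.over).toRingHom := by
  apply Ideal.ResidueField.ringHom_ext
  ext r
  simp only [RingHom.coe_comp, Function.comp_apply, AlgHom.toRingHom_eq_coe, RingHom.coe_coe,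
    Ideal.ResidueField.mapₐ_apply, Ideal.ResidueField.map_algebraMap]
  congr 1
  simp only [AlgHom.coe_toRingHom, Algebra.ofId_apply]
  rw [← IsScalarTower.algebraMap_apply, ← IsScalarTower.algebraMap_apply]

include hκ in
theorem residueField_map_bijective :
    Function.Bijective (Ideal.ResidueField.map q q' (algebraMap S S') hq'.over) := by
  refine ⟨RingHom.injective _, ?_⟩
  set ρ := Ideal.ResidueField.map q q' (algebraMap S S') hq'.over with hρ
  have hsq := residue_square R S p R' p' S' q q'
  have key : ∀ a : S', ∃ u : q.ResidueField, ρ u = algebraMap S' q'.ResidueField a := by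
    intro a
    have hbc : IsBaseChange R' (IsScalarTower.toAlgHom R S S').toLinearMap :=
      (Algebra.IsPushout.out : IsBaseChange R' (IsScalarTower.toAlgHom R S S').toLinearMap)
    induction a using hbc.inductionOn with
    | zero => exact ⟨0, by simp⟩
    | tmul m =>
      refine ⟨algebraMap S q.ResidueField m, ?_⟩
      rw [hρ, Ideal.ResidueField.map_algebraMap]
      rfl
    | smul r' n hn =>
      obtain ⟨u, hu⟩ := hn
      obtain ⟨c, hc⟩ := hκ.2 (algebraMap R' p'.ResidueField r')
      refine ⟨(Ideal.ResidueField.mapₐ p q (Algebra.ofId R S) hq.over) c * u, ?_⟩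
      rw [map_mul, hu, Algebra.smul_def, map_mul]
      congr 1
      have h1 := congrArg (fun φ => φ c) hsq
      simp only [RingHom.coe_comp, Function.comp_apply, AlgHom.toRingHom_eq_coe,
        RingHom.coe_coe] at h1
      rw [h1, hc, Ideal.ResidueField.mapₐ_apply, Ideal.ResidueField.map_algebraMap]
      rfl
    | add x y hx hy =>
      obtain ⟨u, hu⟩ := hx
      obtain ⟨v, hv⟩ := hy
      exact ⟨u + v, by rw [map_add, hu, hv, map_add]⟩
  intro z
  obtain ⟨x, y, -, rfl⟩ := IsFractionRing.div_surjective (A := S' ⧸ q') z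
  obtain ⟨a, rfl⟩ := Ideal.Quotient.mk_surjective x
  obtain ⟨b, rfl⟩ := Ideal.Quotient.mk_surjective y
  obtain ⟨u, hu⟩ := key a
  obtain ⟨v, hv⟩ := key b
  refine ⟨u / v, ?_⟩
  rw [map_div₀, hu, hv]
  rfl

include hκ in
theorem purelyTranscendental_baseChange (h4 : FlatCA.PurelyTranscendental p q) :
    FlatCA.PurelyTranscendental p' q' := by
  unfold FlatCA.PurelyTranscendental at h4 ⊢
  exact transBasis_transport
    (Ideal.ResidueField.mapₐ p q (Algebra.ofId R S) hq.over).toRingHom
    (Ideal.ResidueField.mapₐ p' q' (Algebra.ofId R' S') hq'p.over).toRingHom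
    (Ideal.ResidueField.mapₐ p p' (Algebra.ofId R R') hp'.over).toRingHom hκ.2
    (Ideal.ResidueField.map q q' (algebraMap S S') hq'.over)
    (residueField_map_bijective R S p R' p' hκ S' q q')
    (residue_square R S p R' p' S' q q') h4

end residue

end Groth.Agent.Helper27.Dv
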