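import Mathlib
import Groth.Prelude
import Groth.Agent.Lib.Helper27.DvF
import Groth.Agent.Lib.Helper27.DvG

/-!
# One step of the base change of a complete dévissage at a point (helper27)
-/

set_option autoImplicit false
set_option linter.style.haveILetI false
set_option linter.unusedSectionVars false
universe u
open TensorProduct

namespace Groth.Agent.Helper27.Dv

attribute [local instance] Algebra.TensorProduct.rightAlgebra

section primes

variable (R S : Type u) [CommRing R] [CommRing S] [Algebra R S]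
  (p : Ideal R) [p.IsPrime]
  (R' : Type u) [CommRing R'] [Algebra R R'] (p' : Ideal R') [p'.IsPrime] [hp' : p'.LiesOver p]
  (hκ : Function.Bijective (Ideal.ResidueField.mapₐ p p' (Algebra.ofId R R') hp'.over))
  (S' : Type u) [CommRing S']
  [Algebra R' S'] [Algebra R S'] [Algebra S S'] [IsScalarTower R R' S'] [IsScalarTower R S S']
  [Algebra.IsPushout R R' S S']

/-- points of the fibre ring give primes over `p`. -/
theorem comap_fiber_liesOver (x : PrimeSpectrum (p.Fiber S)) :
    ((PrimeSpectrum.comap (algebraMap S (p.Fiber S)) x).asIdeal).LiesOver p := by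
  have h : PrimeSpectrum.comap (algebraMap S (p.Fiber S)) x ∈
      Set.range (PrimeSpectrum.comap (algebraMap S (p.Fiber S))) := ⟨x, rfl⟩
  rw [range_comap_fiber] at h
  have h2 : PrimeSpectrum.comap (algebraMap R S)
      (PrimeSpectrum.comap (algebraMap S (p.Fiber S)) x) = ⟨p, inferInstance⟩ := h
  exact ⟨(congrArg PrimeSpectrum.asIdeal h2).symm⟩

include hκ in
/-- existence of a prime of the base change over a given prime and over `p'`. -/
theorem exists_prime_over (q : Ideal S) [q.IsPrime] [q.LiesOver p] :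
    ∃ q' : Ideal S', q'.IsPrime ∧ q'.LiesOver q ∧ q'.LiesOver p' := by
  let x' : PrimeSpectrum (p'.Fiber S') := (fibHomeo R S p R' p' hκ S').symm (fibPt R S p q)
  refine ⟨(PrimeSpectrum.comap (algebraMap S' (p'.Fiber S')) x').asIdeal,
    (PrimeSpectrum.comap (algebraMap S' (p'.Fiber S')) x').isPrime, ⟨?_⟩,
    comap_fiber_liesOver R' S' p' x'⟩
  have h := comap_fibHomeo R S p R' p' hκ S' x'
  have h2 : fibHomeo R S p R' p' hκ S' x' = fibPt R S p q :=
    (fibHomeo R S p R' p' hκ S').apply_symm_apply _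
  rw [h2, comap_fibPt] at h
  exact congrArg PrimeSpectrum.asIdeal h

end primes

section bc

variable (B A B' A' : Type u) [CommRing B] [CommRing A] [CommRing B'] [CommRing A']
  [Algebra B A] [Algebra B B'] [Algebra A A'] [Algebra B' A'] [Algebra B A']
  [IsScalarTower B B' A'] [IsScalarTower B A A']
  (M : Type u) [AddCommGroup M] [Module A M] [Module B M] [IsScalarTower B A M]
  (M' : Type u) [AddCommGroup M'] [Module A' M'] [Module B' M'] [IsScalarTower B' A' M']
  [Module A M'] [IsScalarTower A A' M'] [Module B M'] [IsScalarTower B B' M']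
  [IsScalarTower B A M']

/-- base change along `A → A'` is base change along `B → B'` when `A' = A ⊗_B B'`. -/
theorem isBaseChange_of_isPushout [Algebra.IsPushout B B' A A'] (g : M →ₗ[A] M')
    (hg : IsBaseChange A' g) : IsBaseChange B' (g.restrictScalars B) := by
  let e1 : A' ⊗[A] M ≃ₗ[B'] B' ⊗[B] M := Algebra.IsPushout.cancelBaseChange B B' A A' M
  let e2 : A' ⊗[A] M ≃ₗ[B'] M' := hg.equiv.restrictScalars B'
  refine IsBaseChange.of_equiv (e1.symm ≪≫ₗ e2) ?_
  intro x
  change e2 (e1.symm (1 ⊗ₜ[B] x)) = g x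
  rw [Algebra.IsPushout.cancelBaseChange_symm_tmul]
  change hg.equiv (algebraMap B' A' 1 ⊗ₜ[A] x) = g x
  rw [IsBaseChange.equiv_tmul, map_one, one_smul]

end bc

section locdim

variable (R S : Type u) [CommRing R] [CommRing S] [Algebra R S]
  (N : Type u) [AddCommGroup N] [Module S N] [Module R N] [IsScalarTower R S N]
  (p : Ideal R) [p.IsPrime]
  (R' : Type u) [CommRing R'] [Algebra R R'] (p' : Ideal R') [p'.IsPrime] [hp' : p'.LiesOver p]
  (hκ : Function.Bijective (Ideal.ResidueField.mapₐ p p' (Algebra.ofId R R') hp'.over))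
  (S' : Type u) [CommRing S']
  [Algebra R' S'] [Algebra R S'] [Algebra S S'] [IsScalarTower R R' S'] [IsScalarTower R S S']
  [Algebra.IsPushout R R' S S']
  (N' : Type u) [AddCommGroup N'] [Module S' N'] [Module R' N'] [IsScalarTower R' S' N']
  [Module S N'] [IsScalarTower S S' N']

include hκ in
/-- the local dimension of the support of the fibre module is invariant under base change with the
same residue field. -/
theorem locDim_baseChange [Module.Finite S N] (f : N →ₗ[S] N') (hf : IsBaseChange S' f)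
    (q : Ideal S) [q.IsPrime] [q.LiesOver p] (q' : Ideal S') [q'.IsPrime] [q'.LiesOver q]
    [q'.LiesOver p'] (n : ℕ)
    (h1 : ∃ (ξ : PrimeSpectrum (p.Fiber S))
      (hξ : ξ ∈ Module.support (p.Fiber S) (FlatCA.fiberMod p S N)),
      ξ.asIdeal = FlatCA.fiberIdeal p q ∧
      FlatMor.localDim (Module.support (p.Fiber S) (FlatCA.fiberMod p S N)) ⟨ξ, hξ⟩ = n) :
    ∃ (ξ' : PrimeSpectrum (p'.Fiber S'))
      (hξ' : ξ' ∈ Module.support (p'.Fiber S') (FlatCA.fiberMod p' S' N')),
      ξ'.asIdeal = FlatCA.fiberIdeal p' q' ∧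
      FlatMor.localDim (Module.support (p'.Fiber S') (FlatCA.fiberMod p' S' N')) ⟨ξ', hξ'⟩ = n := by
  have hq'q : q = q'.comap (algebraMap S S') := (Ideal.over_def q' q)
  obtain ⟨ξ, hξ, hξq, hdim⟩ := h1
  have hξ' : ξ = fibPt R S p q := eq_fibPt_of_asIdeal R S p q ξ hξq
  have h1 := comap_fibHomeo R S p R' p' hκ S' (fibPt R' S' p' q')
  rw [comap_fibPt] at h1
  have h2 : PrimeSpectrum.comap (algebraMap S S') ⟨q', inferInstance⟩ = ⟨q, inferInstance⟩ :=
    PrimeSpectrum.ext hq'q.symm
  rw [h2, ← comap_fibPt R S p q] at h1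
  have h3' : fibHomeo R S p R' p' hκ S' (fibPt R' S' p' q') = ξ := by
    rw [hξ']
    exact (isEmbedding_comap_fiber p S).injective h1
  have hmem : fibPt R' S' p' q' ∈
      Module.support (p'.Fiber S') (FlatCA.fiberMod p' S' N') := by
    rw [mem_support_fibHomeo_iff R S N p R' p' hκ S' N' f hf, h3']
    exact hξ
  refine ⟨fibPt R' S' p' q', hmem, fibPt_asIdeal R' S' p' q', ?_⟩
  rw [← localDim_support_fibHomeo R S N p R' p' hκ S' N' f hf (fibPt R' S' p' q') hmem, ← hdim]
  congr 1
  exact Subtype.ext h3'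

end locdim

end Groth.Agent.Helper27.Dv
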