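import Mathlib
import Groth.Prelude
import Groth.Agent.Lib.Helper27.DvH

/-!
# One step of the base change of a complete dévissage at a point, assembled (helper27)
-/

set_option autoImplicit false
set_option linter.style.haveILetI false
set_option linter.unusedSectionVars false
universe u
open TensorProduct

namespace Groth.Agent.Helper27.Dv

section step

variable (R : Type u) [CommRing R] (p : Ideal R) [p.IsPrime]
  (R' : Type u) [CommRing R'] [Algebra R R'] (p' : Ideal R') [p'.IsPrime] [hp' : p'.LiesOver p]
  (hκ : Function.Bijective (Ideal.ResidueField.mapₐ p p' (Algebra.ofId R R') hp'.over))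
  (B A : Type u) [CommRing B] [CommRing A] [Algebra R B] [Algebra R A] [Algebra B A]
  [IsScalarTower R B A]
  (B' A' : Type u) [CommRing B'] [CommRing A'] [Algebra R' B'] [Algebra R' A'] [Algebra B' A']
  [IsScalarTower R' B' A']
  [Algebra R B'] [Algebra B B'] [IsScalarTower R R' B'] [IsScalarTower R B B']
  [Algebra.IsPushout R R' B B']
  [Algebra R A'] [Algebra A A'] [IsScalarTower R R' A'] [IsScalarTower R A A']
  [Algebra.IsPushout R R' A A']
  [Algebra B A'] [IsScalarTower B A A'] [IsScalarTower B B' A']
  (M : Type u) [AddCommGroup M] [Module A M] [Module B M] [IsScalarTower B A M] [Module R M]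
  [IsScalarTower R B M]
  (M' : Type u) [AddCommGroup M'] [Module A' M'] [Module B' M'] [IsScalarTower B' A' M']
  [Module R' M'] [IsScalarTower R' B' M'] [Module A M'] [IsScalarTower A A' M']
  (g : M →ₗ[A] M') (hg : IsBaseChange A' g) [Module.Finite B M]
  (qB : Ideal B) [qB.IsPrime] [qB.LiesOver p] (qA : Ideal A) [qA.IsPrime] [qA.LiesOver qB]
  (d : ℕ)

include hκ hg in
theorem step (hpt : FlatCA.PurelyTranscendental p qB)
    (huniq : ∀ (Q : Ideal A) [Q.IsPrime], Q.LiesOver qB → Q = qA)
    (hloc : ∃ (x : PrimeSpectrum (p.Fiber B))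
      (hx : x ∈ Module.support (p.Fiber B) (FlatCA.fiberMod p B M)),
      x.asIdeal = FlatCA.fiberIdeal p qB ∧
      FlatMor.localDim (Module.support (p.Fiber B) (FlatCA.fiberMod p B M)) ⟨x, hx⟩ = d) :
    ∃ (qB' : Ideal B') (qA' : Ideal A') (_ : qB'.IsPrime) (_ : qA'.IsPrime)
      (_ : qB'.LiesOver p') (_ : qA'.LiesOver qB'),
      qB'.LiesOver qB ∧ qA'.LiesOver qA ∧ FlatCA.PurelyTranscendental p' qB' ∧
      (∀ (Q : Ideal A') [Q.IsPrime], Q.LiesOver qB' → Q = qA') ∧
      ∃ (x : PrimeSpectrum (p'.Fiber B'))
        (hx : x ∈ Module.support (p'.Fiber B') (FlatCA.fiberMod p' B' M')),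
        x.asIdeal = FlatCA.fiberIdeal p' qB' ∧
        FlatMor.localDim (Module.support (p'.Fiber B') (FlatCA.fiberMod p' B' M')) ⟨x, hx⟩ = d := by
  classical
  haveI : qA.LiesOver p := Ideal.LiesOver.trans qA qB p
  obtain ⟨qB', hqB', hqB'q, hqB'p⟩ := exists_prime_over R B p R' p' hκ B' qB
  obtain ⟨qA', hqA', hqA'q, hqA'p⟩ := exists_prime_over R A p R' p' hκ A' qA
  -- qA' over qB'
  have hAB : qA'.under B' = qB' := by
    haveI : (qA'.under B').IsPrime := Ideal.IsPrime.under B' qA'
    haveI : (qA'.under B').LiesOver p' :=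
      ⟨by rw [Ideal.under_under (B := B') (A := R') qA', ← Ideal.over_def qA' p']⟩
    refine eq_of_comap_eq R B p R' p' hκ B' (qA'.under B') qB' ?_
    rw [← Ideal.under_def, ← Ideal.under_def, Ideal.under_under (B := B') (A := B) qA',
      ← Ideal.under_under (B := A) (A := B) qA', ← Ideal.over_def qA' qA,
      ← Ideal.over_def qA qB, ← Ideal.over_def qB' qB]
  haveI hover : qA'.LiesOver qB' := ⟨hAB.symm⟩
  refine ⟨qB', qA', hqB', hqA', hqB'p, hover, hqB'q, hqA'q,
    purelyTranscendental_baseChange R B p R' p' hκ B' qB qB' hpt, ?_, ?_⟩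
  · intro Q _ hQ
    haveI : (Q.under A).IsPrime := Ideal.IsPrime.under A Q
    have hQA : Q.under A = qA := by
      refine huniq (Q.under A) ⟨?_⟩
      rw [Ideal.under_under (B := A) (A := B) Q, ← Ideal.under_under (B := B') (A := B) Q,
        ← Ideal.over_def Q qB', ← Ideal.over_def qB' qB]
    haveI : Q.LiesOver p' :=
      ⟨by rw [← Ideal.under_under (B := B') (A := R') Q, ← Ideal.over_def Q qB',
        ← Ideal.over_def qB' p']⟩
    refine eq_of_comap_eq R A p R' p' hκ A' Q qA' ?_
    rw [← Ideal.under_def, ← Ideal.under_def, hQA, ← Ideal.over_def qA' qA]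
  · letI : Module B M' := Module.compHom M' (algebraMap B B')
    haveI : IsScalarTower B B' M' := IsScalarTower.of_algebraMap_smul fun r x => rfl
    haveI : IsScalarTower B A M' := IsScalarTower.of_algebraMap_smul fun r x => by
      change algebraMap B A r • x = algebraMap B B' r • x
      rw [← algebraMap_smul A' (algebraMap B A r) x, ← algebraMap_smul A' (algebraMap B B' r) x,
        ← IsScalarTower.algebraMap_apply, ← IsScalarTower.algebraMap_apply]
    haveI : Algebra.IsPushout B B' A A' := by
      haveI : Algebra.IsPushout B A B' A' := isPushout_right R B A R' B' A'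
      exact Algebra.IsPushout.symm inferInstance
    have hg' : IsBaseChange B' (g.restrictScalars B) :=
      isBaseChange_of_isPushout B A B' A' M M' g hg
    exact locDim_baseChange R B M p R' p' hκ B' M' (g.restrictScalars B) hg' qB qB' d hloc

end step

end Groth.Agent.Helper27.Dv
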