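import Mathlib
import Groth.Prelude

/-!
# A switch between two algebras according to a decidable proposition (helper27)
-/

set_option autoImplicit false
universe u

namespace Groth.Agent.Helper27.Dv

/-- the type `T` if `c` holds and `U` otherwise. -/
def Sw (c : Prop) [d : Decidable c] (T U : Type u) : Type u :=
  match d with
  | isTrue _ => T
  | isFalse _ => U

namespace Sw

variable (c : Prop) [d : Decidable c] (T U : Type u)

noncomputable instance instCommRing [CommRing T] [CommRing U] : CommRing (Sw c T U) :=
  match d with
  | isTrue _ => inferInstanceAs (CommRing T)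
  | isFalse _ => inferInstanceAs (CommRing U)

variable (R' : Type u) [CommRing R'] [CommRing T] [CommRing U] [Algebra R' T] [Algebra R' U]

noncomputable instance instAlgebra : Algebra R' (Sw c T U) :=
  match d with
  | isTrue _ => inferInstanceAs (Algebra R' T)
  | isFalse _ => inferInstanceAs (Algebra R' U)

variable {Z : Type u} [CommRing Z] [Algebra R' Z]

/-- maps out of the switch. -/
noncomputable def lift (ψ : T →ₐ[R'] Z) (χ : U →ₐ[R'] Z) : Sw c T U →ₐ[R'] Z :=
  match d with
  | isTrue _ => ψ
  | isFalse _ => χ

/-- the switch is `T` when `c` holds. -/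
noncomputable def equivPos (h : c) : Sw c T U ≃ₐ[R'] T :=
  match d with
  | isTrue _ => AlgEquiv.refl
  | isFalse h' => absurd h h'

theorem lift_eq_pos (h : c) (ψ : T →ₐ[R'] Z) (χ : U →ₐ[R'] Z) :
    lift c T U R' ψ χ = ψ.comp (equivPos c T U R' h).toAlgHom := by
  cases d with
  | isTrue h' => rfl
  | isFalse h' => exact absurd h h'

theorem isPrime_map_pos (h : c) (p' : Ideal R') (hT : (p'.map (algebraMap R' T)).IsPrime) :
    (p'.map (algebraMap R' (Sw c T U))).IsPrime := by
  cases d with
  | isTrue h' => exact hT
  | isFalse h' => exact absurd h h'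

theorem isPrime_map_neg (h : ¬ c) (p' : Ideal R') (hU : (p'.map (algebraMap R' U)).IsPrime) :
    (p'.map (algebraMap R' (Sw c T U))).IsPrime := by
  cases d with
  | isTrue h' => exact absurd h' h
  | isFalse h' => exact hU

end Sw

end Groth.Agent.Helper27.Dv
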