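import Mathlib
import Groth.Prelude
import Groth.Agent.Lib.Helper27.DvA
import Groth.Agent.Lib.Helper14.EtaleReduced

set_option autoImplicit false
universe u
open TensorProduct AlgebraicGeometry

namespace Groth.Agent.Helper27.Dv

theorem isDomain_of_irreducible_of_isReduced (T : Type u) [CommRing T] [IsReduced T]
    [h : IrreducibleSpace (PrimeSpectrum T)] : IsDomain T := by
  have h1 := (PrimeSpectrum.irreducibleSpace_iff_isPrime_nilradical (R := T)).mp h
  rw [nilradical_eq_zero] at h1
  have : IsDomain (T ⧸ (⊥ : Ideal T)) := (Ideal.Quotient.isDomain_iff_prime _).mpr h1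
  exact (RingEquiv.quotientBot T).symm.toMulEquiv.isDomain _

/-- for a smooth algebra with geometrically irreducible fibres, the extension of a prime is
prime. -/
theorem isPrime_map_of_smooth_geomIrred (R B : Type u) [CommRing R] [CommRing B] [Algebra R B]
    [Algebra.Smooth R B] (h : FlatCA.GeomIrredFibres R B) (p : Ideal R) [p.IsPrime] :
    (p.map (algebraMap R B)).IsPrime := by
  let T := (R ⧸ p) ⊗[R] B
  letI : Algebra B T := Algebra.TensorProduct.rightAlgebra
  have hT : FlatCA.GeomIrredFibres (R ⧸ p) T := geomIrredFibres_baseChange R B (R ⧸ p) T h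
  haveI : IsReduced T := Groth.Agent.Helper14.isReduced_of_smooth (R ⧸ p) T
  haveI : IrreducibleSpace (PrimeSpectrum T) := by
    haveI : GeometricallyIrreducible (Spec.map (CommRingCat.ofHom (algebraMap (R ⧸ p) T))) := hT
    haveI : IrreducibleSpace (Spec (CommRingCat.of (R ⧸ p))) := inferInstance
    have hopen : IsOpenMap (Spec.map (CommRingCat.ofHom (algebraMap (R ⧸ p) T))) :=
      PrimeSpectrum.isOpenMap_comap_of_hasGoingDown_of_finitePresentation
    exact GeometricallyIrreducible.irreducibleSpace
      (Spec.map (CommRingCat.ofHom (algebraMap (R ⧸ p) T))) hopen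
  haveI : IsDomain T := isDomain_of_irreducible_of_isReduced T
  have e : (B ⧸ p.map (algebraMap R B)) ≃ₐ[R ⧸ p] T :=
    Algebra.TensorProduct.quotIdealMapEquivQuotTensor B p
  haveI : IsDomain (B ⧸ p.map (algebraMap R B)) := e.toRingEquiv.toMulEquiv.isDomain T
  exact (Ideal.Quotient.isDomain_iff_prime _).mp inferInstance

end Groth.Agent.Helper27.Dv
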