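import Mathlib
import Groth.Prelude

set_option autoImplicit false
universe u
open TensorProduct

namespace Groth.Agent.Helper27.Dv

section coker

variable (B B' : Type u) [CommRing B] [CommRing B'] [Algebra B B']
  (M M₂ : Type u) [AddCommGroup M] [AddCommGroup M₂] [Module B M] [Module B M₂]
  (M' M₂' : Type u) [AddCommGroup M'] [AddCommGroup M₂'] [Module B' M'] [Module B' M₂']
  [Module B M'] [IsScalarTower B B' M'] [Module B M₂'] [IsScalarTower B B' M₂']
  (g : M →ₗ[B] M') (hg : IsBaseChange B' g) (g₂ : M₂ →ₗ[B] M₂') (hg₂ : IsBaseChange B' g₂)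

/-- the `B'`-span of the image of a `B`-span. -/
theorem span_image_span (X : Set M) :
    Submodule.span B' (g '' (Submodule.span B X : Set M)) = Submodule.span B' (g '' X) := by
  apply le_antisymm
  · rw [Submodule.span_le]
    rintro _ ⟨x, hx, rfl⟩
    refine Submodule.span_induction (p := fun x _ => g x ∈ Submodule.span B' (g '' X))
      ?_ ?_ ?_ ?_ hx
    · intro x hx
      exact Submodule.subset_span ⟨x, hx, rfl⟩
    · simp
    · intro x y _ _ h1 h2
      rw [map_add]
      exact Submodule.add_mem _ h1 h2
    · intro b x _ h1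
      rw [map_smul, ← algebraMap_smul B' b (g x)]
      exact Submodule.smul_mem _ _ h1
  · exact Submodule.span_mono (Set.image_mono Submodule.subset_span)

include hg in
theorem span_range_eq_top : Submodule.span B' (Set.range g) = ⊤ := by
  rw [eq_top_iff]
  intro x _
  refine hg.inductionOn x (fun x => x ∈ Submodule.span B' (Set.range g)) ?_ ?_ ?_ ?_
  · exact Submodule.zero_mem _
  · intro m
    exact Submodule.subset_span ⟨m, rfl⟩
  · intro s n h
    exact Submodule.smul_mem _ _ h
  · intro n₁ n₂ h1 h2
    exact Submodule.add_mem _ h1 h2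

include hg₂ in
/-- the base change of a surjection is a surjection. -/
theorem lift_surjective (π : M →ₗ[B] M₂) (hπ : Function.Surjective π) :
    Function.Surjective (hg.lift (g₂ ∘ₗ π)) := by
  rw [← LinearMap.range_eq_top, eq_top_iff, ← span_range_eq_top B B' M₂ M₂' g₂ hg₂,
    Submodule.span_le]
  rintro _ ⟨y, rfl⟩
  obtain ⟨x, rfl⟩ := hπ y
  exact ⟨g x, by rw [hg.lift_eq]; rfl⟩

include hg₂ in
/-- the kernel of the base change of a surjection is generated by the kernel. -/
theorem ker_lift (π : M →ₗ[B] M₂) (hπ : Function.Surjective π) :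
    LinearMap.ker (hg.lift (g₂ ∘ₗ π)) =
      Submodule.span B' (g '' (LinearMap.ker π : Set M)) := by
  apply le_antisymm
  · intro x hx
    have hex : Function.Exact (LinearMap.ker π).subtype π := by
      intro m
      constructor
      · intro h
        exact ⟨⟨m, h⟩, rfl⟩
      · rintro ⟨k, rfl⟩
        exact k.2
    have hex' := lTensor_exact B' hex hπ
    have hcomm : ∀ t : B' ⊗[B] M,
        hg.lift (g₂ ∘ₗ π) (hg.equiv t) = hg₂.equiv (LinearMap.lTensor B' π t) := by
      intro t
      induction t using TensorProduct.induction_on with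
      | zero => simp
      | tmul b m =>
        rw [IsBaseChange.equiv_tmul, map_smul, hg.lift_eq, LinearMap.lTensor_tmul,
          IsBaseChange.equiv_tmul]
        rfl
      | add a b ha hb => rw [map_add, map_add, ha, hb, map_add, map_add]
    have h1 : LinearMap.lTensor B' π (hg.equiv.symm x) = 0 := by
      apply hg₂.equiv.injective
      rw [← hcomm, LinearEquiv.apply_symm_apply, map_zero]
      exact hx
    have key : ∀ s : B' ⊗[B] (LinearMap.ker π),
        hg.equiv (LinearMap.lTensor B' (LinearMap.ker π).subtype s) ∈
          Submodule.span B' (g '' (LinearMap.ker π : Set M)) := by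
      intro s
      induction s using TensorProduct.induction_on with
      | zero => simp
      | tmul b k =>
        rw [LinearMap.lTensor_tmul, IsBaseChange.equiv_tmul]
        exact Submodule.smul_mem _ _ (Submodule.subset_span ⟨k.1, k.2, rfl⟩)
      | add a b ha hb =>
        rw [map_add, map_add]
        exact Submodule.add_mem _ ha hb
    obtain ⟨s, hs⟩ := (hex' _).mp h1
    have h2 : x = hg.equiv (LinearMap.lTensor B' (LinearMap.ker π).subtype s) := by
      rw [hs, LinearEquiv.apply_symm_apply]
    rw [h2]
    exact key s
  · rw [Submodule.span_le]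
    rintro _ ⟨k, hk, rfl⟩
    change hg.lift (g₂ ∘ₗ π) (g k) = 0
    rw [hg.lift_eq]
    change g₂ (π k) = 0
    rw [hk, map_zero]

variable (r : ℕ) (α : (Fin r → B) →ₗ[B] M)

/-- the base change of a map from a finite free module. -/
noncomputable def alphaBC : (Fin r → B') →ₗ[B'] M' :=
  Fintype.linearCombination B' (fun k => g (α (Pi.single k 1)))

theorem range_eq_span (α : (Fin r → B) →ₗ[B] M) :
    LinearMap.range α = Submodule.span B (Set.range fun k => α (Pi.single k 1)) := by
  have h : α = Fintype.linearCombination B (fun k => α (Pi.single k 1)) := by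
    refine LinearMap.pi_ext' fun k => LinearMap.ext_ring ?_
    simp [Fintype.linearCombination_apply_single]
  conv_lhs => rw [h]
  exact Fintype.range_linearCombination B _

theorem range_alphaBC :
    LinearMap.range (alphaBC B B' M M' g r α) =
      Submodule.span B' (g '' (LinearMap.range α : Set M)) := by
  rw [alphaBC, Fintype.range_linearCombination, range_eq_span B M r α, span_image_span,
    ← Set.range_comp]
  rfl

include hg in
theorem alphaBC_surjective (hα : Function.Surjective α) :
    Function.Surjective (alphaBC B B' M M' g r α) := by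
  rw [← LinearMap.range_eq_top, range_alphaBC, LinearMap.range_eq_top.mpr hα]
  rw [Submodule.top_coe, Set.image_univ]
  exact span_range_eq_top B B' M M' g hg

include hg hg₂ in
theorem nonempty_cokerEquiv (π : M →ₗ[B] M₂) (hπ : Function.Surjective π)
    (hker : LinearMap.ker π = LinearMap.range α) :
    Nonempty ((M' ⧸ LinearMap.range (alphaBC B B' M M' g r α)) ≃ₗ[B'] M₂') := by
  have h1 : LinearMap.range (alphaBC B B' M M' g r α) = LinearMap.ker (hg.lift (g₂ ∘ₗ π)) := by
    rw [range_alphaBC, ker_lift B B' M M₂ M' M₂' g hg g₂ hg₂ π hπ, hker]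
  exact ⟨(Submodule.quotEquivOfEq _ _ h1).trans
    ((hg.lift (g₂ ∘ₗ π)).quotKerEquivOfSurjective
      (lift_surjective B B' M M₂ M' M₂' g hg g₂ hg₂ π hπ))⟩

end coker

end Groth.Agent.Helper27.Dv
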