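import Mathlib
import Groth.Prelude

set_option autoImplicit false
universe u
open TensorProduct

namespace Groth.Agent.Helper27.Dv

section comapmap

variable (R B : Type u) [CommRing R] [CommRing B] [Algebra R B]
  (p : Ideal R)
  (R' : Type u) [CommRing R'] [Algebra R R'] (p' : Ideal R')
  (B' : Type u) [CommRing B']
  [Algebra R' B'] [Algebra R B'] [Algebra B B'] [IsScalarTower R R' B'] [IsScalarTower R B B']
  [Algebra.IsPushout R R' B B']

theorem mem_map_iff_tmul_eq_zero (b : B) :
    b ∈ p.map (algebraMap R B) ↔ (1 : R ⧸ p) ⊗ₜ[R] b = 0 := by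
  rw [← Algebra.TensorProduct.quotIdealMapEquivQuotTensor_mk B p b,
    EmbeddingLike.map_eq_zero_iff, Ideal.Quotient.eq_zero_iff_mem]

/-- for a flat algebra, the extension of `p'` to the base change contracts to the extension of
`p = p' ∩ R`. -/
theorem comap_map_of_flat [Module.Flat R B] (hp : p'.comap (algebraMap R R') = p) :
    (p'.map (algebraMap R' B')).comap (algebraMap B B') = p.map (algebraMap R B) := by
  apply le_antisymm
  · intro b hb
    rw [Ideal.mem_comap, mem_map_iff_tmul_eq_zero] at hb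
    rw [mem_map_iff_tmul_eq_zero]
    -- transport to `(R' ⧸ p') ⊗[R] B`
    let e3 : R' ⊗[R] B ≃ₐ[R'] B' := Algebra.IsPushout.equiv R R' B B'
    let Φ : (R' ⧸ p') ⊗[R'] B' →ₗ[R'] (R' ⧸ p') ⊗[R] B :=
      (TensorProduct.AlgebraTensorModule.cancelBaseChange R R' R' (R' ⧸ p') B).toLinearMap ∘ₗ
        (LinearMap.lTensor (R' ⧸ p') e3.symm.toLinearMap)
    have hΦ : Φ ((1 : R' ⧸ p') ⊗ₜ[R'] algebraMap B B' b) = (1 : R' ⧸ p') ⊗ₜ[R] b := by
      change TensorProduct.AlgebraTensorModule.cancelBaseChange R R' R' (R' ⧸ p') B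
        ((1 : R' ⧸ p') ⊗ₜ[R'] e3.symm (algebraMap B B' b)) = _
      rw [Algebra.IsPushout.equiv_symm_algebraMap_right,
        TensorProduct.AlgebraTensorModule.cancelBaseChange_tmul, one_smul]
    have h0 : (1 : R' ⧸ p') ⊗ₜ[R] b = 0 := by rw [← hΦ, hb, map_zero]
    -- the injection `R ⧸ p → R' ⧸ p'`
    let j : (R ⧸ p) →ₐ[R] (R' ⧸ p') :=
      Ideal.Quotient.liftₐ p (Algebra.ofId R (R' ⧸ p')) (by
        intro a ha
        rw [Algebra.ofId_apply, IsScalarTower.algebraMap_apply R R' (R' ⧸ p'),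
          Ideal.Quotient.algebraMap_eq, Ideal.Quotient.eq_zero_iff_mem]
        rw [← hp] at ha
        exact ha)
    have hj : Function.Injective j := by
      rw [injective_iff_map_eq_zero]
      intro x hx
      obtain ⟨a, rfl⟩ := Ideal.Quotient.mk_surjective x
      have : j (Ideal.Quotient.mk p a) = Ideal.Quotient.mk p' (algebraMap R R' a) := by
        change (Algebra.ofId R (R' ⧸ p')) a = _
        rw [Algebra.ofId_apply, IsScalarTower.algebraMap_apply R R' (R' ⧸ p'),
          Ideal.Quotient.algebraMap_eq]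
      rw [this, Ideal.Quotient.eq_zero_iff_mem] at hx
      rw [Ideal.Quotient.eq_zero_iff_mem, ← hp]
      exact hx
    have hinj := Module.Flat.rTensor_preserves_injective_linearMap (M := B) j.toLinearMap hj
    apply hinj
    rw [map_zero, LinearMap.rTensor_tmul]
    change (j 1) ⊗ₜ[R] b = 0
    rw [map_one]
    exact h0
  · rw [← Ideal.map_le_iff_le_comap, Ideal.map_map, ← IsScalarTower.algebraMap_eq,
      IsScalarTower.algebraMap_eq R R' B', ← Ideal.map_map]
    apply Ideal.map_mono
    rw [Ideal.map_le_iff_le_comap, hp]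

end comapmap

end Groth.Agent.Helper27.Dv
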