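import Mathlib
import Groth.Prelude
import Groth.Agent.Lib.Helper27.DvK2

set_option autoImplicit false
universe u
open TensorProduct

namespace Groth.Agent.Helper27.Dv

section fibre

variable (B : Type u) [CommRing B] (K : Type u) [CommRing K] [Algebra B K]
  (M : Type u) [AddCommGroup M] [Module B M] (r : ℕ) (α : (Fin r → B) →ₗ[B] M)

theorem bijective_baseChange_iff :
    Function.Bijective (α.baseChange K) ↔
      Function.Bijective (Fintype.linearCombination K
        (fun k => (1 : K) ⊗ₜ[B] α (Pi.single k 1))) := by
  have h : Fintype.linearCombination K (fun k => (1 : K) ⊗ₜ[B] α (Pi.single k 1)) =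
      (α.baseChange K) ∘ₗ (TensorProduct.piScalarRight B K K (Fin r)).symm.toLinearMap := by
    refine LinearMap.pi_ext fun k x => ?_
    simp [Fintype.linearCombination_apply_single, TensorProduct.smul_tmul']
  rw [h, LinearMap.coe_comp]
  exact (Function.Bijective.of_comp_iff _
    (TensorProduct.piScalarRight B K K (Fin r)).symm.bijective).symm

theorem bijective_linearCombination_baseChange (K' : Type u) [CommRing K'] [Algebra K K']
    (V : Type u) [AddCommGroup V] [Module K V] (v : Fin r → V)
    (h : Function.Bijective (Fintype.linearCombination K v)) :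
    Function.Bijective (Fintype.linearCombination K' (fun k => (1 : K') ⊗ₜ[K] v k)) := by
  classical
  let L : (Fin r → K) ≃ₗ[K] V := LinearEquiv.ofBijective _ h
  let b : Module.Basis (Fin r) K V := Module.Basis.ofEquivFun L.symm
  have hb : ∀ k, b k = v k := by
    intro k
    rw [Module.Basis.coe_ofEquivFun]
    change L (Pi.single k 1) = v k
    simp [L, Fintype.linearCombination_apply_single]
  let b' := b.baseChange K'
  have h2 : ⇑(Fintype.linearCombination K' (fun k => (1 : K') ⊗ₜ[K] v k)) =
      ⇑b'.equivFun.symm := by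
    funext x
    rw [Module.Basis.equivFun_symm_apply, Fintype.linearCombination_apply]
    refine Finset.sum_congr rfl fun k _ => ?_
    rw [Module.Basis.baseChange_apply, hb]
  rw [h2]
  exact b'.equivFun.symm.bijective

end fibre

section transfer

variable (B B' : Type u) [CommRing B] [CommRing B'] [Algebra B B']
  (K K' : Type u) [CommRing K] [CommRing K'] [Algebra B K] [Algebra B' K'] [Algebra K K']
  [Algebra B K'] [IsScalarTower B K K'] [IsScalarTower B B' K']
  (M : Type u) [AddCommGroup M] [Module B M]
  (M' : Type u) [AddCommGroup M'] [Module B' M'] [Module B M'] [IsScalarTower B B' M']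
  (g : M →ₗ[B] M') (hg : IsBaseChange B' g) (r : ℕ) (α : (Fin r → B) →ₗ[B] M)

include hg in
/-- the two base changes of `M` to `K'`. -/
theorem exists_equiv_baseChange :
    ∃ θ : K' ⊗[K] (K ⊗[B] M) ≃ₗ[K'] K' ⊗[B'] M',
      ∀ m : M, θ ((1 : K') ⊗ₜ[K] ((1 : K) ⊗ₜ[B] m)) = (1 : K') ⊗ₜ[B'] g m := by
  have h1 : IsBaseChange K'
      (((TensorProduct.mk K K' (K ⊗[B] M) 1).restrictScalars B).comp
        (TensorProduct.mk B K M 1)) :=
    IsBaseChange.comp (TensorProduct.isBaseChange B M K) (TensorProduct.isBaseChange K (K ⊗[B] M) K')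
  have h2 : IsBaseChange K'
      (((TensorProduct.mk B' K' M' 1).restrictScalars B).comp g) :=
    IsBaseChange.comp hg (TensorProduct.isBaseChange B' M' K')
  refine ⟨h1.equiv.symm.trans h2.equiv, fun m => ?_⟩
  have e1 := h1.equiv_symm_apply m
  have e2 := h2.equiv_tmul (1 : K') m
  rw [one_smul] at e2
  change h2.equiv (h1.equiv.symm ((1 : K') ⊗ₜ[K] ((1 : K) ⊗ₜ[B] m))) = _
  exact (congrArg h2.equiv e1).trans e2

include hg in
/-- bijectivity on the fibre at a prime passes to the base change. -/
theorem bijective_alphaBC_baseChange (h : Function.Bijective (α.baseChange K)) :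
    Function.Bijective ((alphaBC B B' M M' g r α).baseChange K') := by
  rw [bijective_baseChange_iff] at h ⊢
  have h2 := bijective_linearCombination_baseChange K r K' (K ⊗[B] M) _ h
  obtain ⟨θ, hθ⟩ := exists_equiv_baseChange B B' K K' M M' g hg
  have h3 : Fintype.linearCombination K'
      (fun k => (1 : K') ⊗ₜ[B'] (alphaBC B B' M M' g r α) (Pi.single k 1)) =
      θ.toLinearMap ∘ₗ Fintype.linearCombination K'
        (fun k => (1 : K') ⊗ₜ[K] ((1 : K) ⊗ₜ[B] α (Pi.single k 1))) := by
    refine LinearMap.pi_ext fun k x => ?_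
    simp [Fintype.linearCombination_apply_single, alphaBC, hθ]
  rw [h3, LinearMap.coe_comp]
  exact θ.bijective.comp h2

end transfer

end Groth.Agent.Helper27.Dv
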