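import Mathlib
import Groth.Prelude
import Groth.Agent.Lib.Helper27.DvJ
import Groth.Agent.Lib.Helper27.DvI
import Groth.Agent.Lib.Helper27.DvK1
import Groth.Agent.Lib.Helper27.DvK3
import Groth.Agent.Lib.Helper27.DvK4

set_option autoImplicit false
set_option linter.style.haveILetI false
set_option linter.unusedSectionVars false
universe u
open TensorProduct

namespace Groth.Agent.Helper27.Dv

attribute [local instance] Algebra.TensorProduct.rightAlgebra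

section construct

variable {R S : Type u} [CommRing R] [CommRing S] [Algebra R S]
  {N : Type u} [AddCommGroup N] [Module S N]
  {p : Ideal R} [p.IsPrime] (𝒟 : FlatCA.CompleteDevissage R S N p)
  (R' : Type u) [CommRing R'] [Algebra R R']

/-- base change of `A i`. -/
abbrev cA (i : ℕ) : Type u := R' ⊗[R] 𝒟.A i
/-- base change of `B i`. -/
abbrev cT (i : ℕ) : Type u := R' ⊗[R] 𝒟.B i
/-- base change of `B i`, switched to `R'` beyond the length. -/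
abbrev cB (i : ℕ) : Type u := Sw (i < 𝒟.n) (cT 𝒟 R' i) R'
/-- base change of `M i`. -/
abbrev cM (i : ℕ) : Type u := cA 𝒟 R' i ⊗[𝒟.A i] 𝒟.M i

/-- `R' ⊗ B i → R' ⊗ A i`. -/
noncomputable def psi (i : ℕ) : cT 𝒟 R' i →ₐ[R'] cA 𝒟 R' i :=
  Algebra.TensorProduct.map (AlgHom.id R' R') (IsScalarTower.toAlgHom R (𝒟.B i) (𝒟.A i))

/-- `R' ⊗ B i → R' ⊗ A (i+1)`. -/
noncomputable def psi2 (i : ℕ) : cT 𝒟 R' i →ₐ[R'] cA 𝒟 R' (i + 1) :=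
  Algebra.TensorProduct.map (AlgHom.id R' R') (IsScalarTower.toAlgHom R (𝒟.B i) (𝒟.A (i + 1)))

/-- `B' i → A' i`. -/
noncomputable def fB (i : ℕ) : cB 𝒟 R' i →ₐ[R'] cA 𝒟 R' i :=
  Sw.lift (i < 𝒟.n) (cT 𝒟 R' i) R' R' (psi 𝒟 R' i) (Algebra.ofId R' (cA 𝒟 R' i))

/-- `B' i → A' (i+1)`. -/
noncomputable def fB2 (i : ℕ) : cB 𝒟 R' i →ₐ[R'] cA 𝒟 R' (i + 1) :=
  Sw.lift (i < 𝒟.n) (cT 𝒟 R' i) R' R' (psi2 𝒟 R' i) (Algebra.ofId R' (cA 𝒟 R' (i + 1)))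

/-- `B' i = R' ⊗ B i` below the length. -/
noncomputable def eB (i : ℕ) (hi : i < 𝒟.n) : cB 𝒟 R' i ≃ₐ[R'] cT 𝒟 R' i :=
  Sw.equivPos (i < 𝒟.n) (cT 𝒟 R' i) R' R' hi

theorem fB_eq (i : ℕ) (hi : i < 𝒟.n) :
    fB 𝒟 R' i = (psi 𝒟 R' i).comp (eB 𝒟 R' i hi).toAlgHom :=
  Sw.lift_eq_pos _ _ _ _ hi _ _

theorem fB2_eq (i : ℕ) (hi : i < 𝒟.n) :
    fB2 𝒟 R' i = (psi2 𝒟 R' i).comp (eB 𝒟 R' i hi).toAlgHom :=
  Sw.lift_eq_pos _ _ _ _ hi _ _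

noncomputable instance algBA (i : ℕ) : Algebra (cB 𝒟 R' i) (cA 𝒟 R' i) :=
  (fB 𝒟 R' i).toRingHom.toAlgebra

noncomputable instance algBA2 (i : ℕ) : Algebra (cB 𝒟 R' i) (cA 𝒟 R' (i + 1)) :=
  (fB2 𝒟 R' i).toRingHom.toAlgebra

instance towRBA (i : ℕ) : IsScalarTower R' (cB 𝒟 R' i) (cA 𝒟 R' i) :=
  IsScalarTower.of_algebraMap_eq fun x => ((fB 𝒟 R' i).commutes x).symm

instance towRBA2 (i : ℕ) : IsScalarTower R' (cB 𝒟 R' i) (cA 𝒟 R' (i + 1)) :=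
  IsScalarTower.of_algebraMap_eq fun x => ((fB2 𝒟 R' i).commutes x).symm

/-- the base change of `α i`. -/
noncomputable def cAlpha (i : ℕ) : (Fin (𝒟.r i) → cB 𝒟 R' i) →ₗ[cB 𝒟 R' i] cM 𝒟 R' i :=
  Fintype.linearCombination (cB 𝒟 R' i)
    (fun k => (1 : cA 𝒟 R' i) ⊗ₜ[𝒟.A i] 𝒟.α i (Pi.single k 1))

/-- the base change map `M i → M' i`. -/
noncomputable def cG (i : ℕ) : 𝒟.M i →ₗ[𝒟.A i] cM 𝒟 R' i :=
  TensorProduct.mk (𝒟.A i) (cA 𝒟 R' i) (𝒟.M i) 1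

theorem cG_isBaseChange (i : ℕ) : IsBaseChange (cA 𝒟 R' i) (cG 𝒟 R' i) :=
  TensorProduct.isBaseChange (𝒟.A i) (𝒟.M i) (cA 𝒟 R' i)

/-- `B i → B' i` below the length. -/
noncomputable def algBB (i : ℕ) (hi : i < 𝒟.n) : Algebra (𝒟.B i) (cB 𝒟 R' i) :=
  ((eB 𝒟 R' i hi).symm.toAlgHom.toRingHom.comp
    (Algebra.TensorProduct.includeRight : 𝒟.B i →ₐ[R] cT 𝒟 R' i).toRingHom).toAlgebra

/-- `R → B' i`. -/
noncomputable def algRB (i : ℕ) : Algebra R (cB 𝒟 R' i) :=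
  ((algebraMap R' (cB 𝒟 R' i)).comp (algebraMap R R')).toAlgebra

/-- `B i → A' i`. -/
noncomputable def algBA' (i : ℕ) : Algebra (𝒟.B i) (cA 𝒟 R' i) :=
  ((algebraMap (𝒟.A i) (cA 𝒟 R' i)).comp (algebraMap (𝒟.B i) (𝒟.A i))).toAlgebra

/-- `B i → A' (i+1)`. -/
noncomputable def algBA2' (i : ℕ) : Algebra (𝒟.B i) (cA 𝒟 R' (i + 1)) :=
  ((algebraMap (𝒟.A (i + 1)) (cA 𝒟 R' (i + 1))).comp
    (algebraMap (𝒟.B i) (𝒟.A (i + 1)))).toAlgebra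

theorem tow_RRB (i : ℕ) :
    letI := algRB 𝒟 R' i
    IsScalarTower R R' (cB 𝒟 R' i) :=
  letI := algRB 𝒟 R' i
  IsScalarTower.of_algebraMap_eq fun _ => rfl

theorem tow_RBB (i : ℕ) (hi : i < 𝒟.n) :
    letI := algRB 𝒟 R' i
    letI := algBB 𝒟 R' i hi
    IsScalarTower R (𝒟.B i) (cB 𝒟 R' i) :=
  letI := algRB 𝒟 R' i
  letI := algBB 𝒟 R' i hi
  IsScalarTower.of_algebraMap_eq fun x => by
    change algebraMap R' (cB 𝒟 R' i) (algebraMap R R' x) =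
      (eB 𝒟 R' i hi).symm ((1 : R') ⊗ₜ[R] algebraMap R (𝒟.B i) x)
    rw [← (eB 𝒟 R' i hi).symm.commutes]
    congr 1
    rw [Algebra.TensorProduct.algebraMap_apply, Algebra.algebraMap_self_apply,
      Algebra.algebraMap_eq_smul_one, Algebra.algebraMap_eq_smul_one, TensorProduct.smul_tmul]

theorem push_B (i : ℕ) (hi : i < 𝒟.n) :
    letI := algRB 𝒟 R' i
    letI := algBB 𝒟 R' i hi
    haveI : IsScalarTower R R' (cB 𝒟 R' i) := tow_RRB 𝒟 R' i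
    haveI : IsScalarTower R (𝒟.B i) (cB 𝒟 R' i) := tow_RBB 𝒟 R' i hi
    Algebra.IsPushout R R' (𝒟.B i) (cB 𝒟 R' i) :=
  letI := algRB 𝒟 R' i
  letI := algBB 𝒟 R' i hi
  haveI : IsScalarTower R R' (cB 𝒟 R' i) := tow_RRB 𝒟 R' i
  haveI : IsScalarTower R (𝒟.B i) (cB 𝒟 R' i) := tow_RBB 𝒟 R' i hi
  Algebra.IsPushout.of_equiv
    (h := (inferInstance : Algebra.IsPushout R R' (𝒟.B i) (cT 𝒟 R' i)))
    (eB 𝒟 R' i hi).symm (RingHom.ext fun _ => rfl)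

theorem tow_BAA (i : ℕ) :
    letI := algBA' 𝒟 R' i
    IsScalarTower (𝒟.B i) (𝒟.A i) (cA 𝒟 R' i) :=
  letI := algBA' 𝒟 R' i
  IsScalarTower.of_algebraMap_eq fun _ => rfl

theorem tow_BBA (i : ℕ) (hi : i < 𝒟.n) :
    letI := algBB 𝒟 R' i hi
    letI := algBA' 𝒟 R' i
    IsScalarTower (𝒟.B i) (cB 𝒟 R' i) (cA 𝒟 R' i) :=
  letI := algBB 𝒟 R' i hi
  letI := algBA' 𝒟 R' i
  IsScalarTower.of_algebraMap_eq fun b => by
    change (1 : R') ⊗ₜ[R] algebraMap (𝒟.B i) (𝒟.A i) b =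
      fB 𝒟 R' i ((eB 𝒟 R' i hi).symm ((1 : R') ⊗ₜ[R] b))
    rw [fB_eq 𝒟 R' i hi]
    simp [psi]

theorem tow_BAA2 (i : ℕ) :
    letI := algBA2' 𝒟 R' i
    IsScalarTower (𝒟.B i) (𝒟.A (i + 1)) (cA 𝒟 R' (i + 1)) :=
  letI := algBA2' 𝒟 R' i
  IsScalarTower.of_algebraMap_eq fun _ => rfl

theorem tow_BBA2 (i : ℕ) (hi : i < 𝒟.n) :
    letI := algBB 𝒟 R' i hi
    letI := algBA2' 𝒟 R' i
    IsScalarTower (𝒟.B i) (cB 𝒟 R' i) (cA 𝒟 R' (i + 1)) :=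
  letI := algBB 𝒟 R' i hi
  letI := algBA2' 𝒟 R' i
  IsScalarTower.of_algebraMap_eq fun b => by
    change (1 : R') ⊗ₜ[R] algebraMap (𝒟.B i) (𝒟.A (i + 1)) b =
      fB2 𝒟 R' i ((eB 𝒟 R' i hi).symm ((1 : R') ⊗ₜ[R] b))
    rw [fB2_eq 𝒟 R' i hi]
    simp [psi2]

/-- the context of instances for an index below the length. -/
macro "dv_ctx" i:term "," hi:term : tactic => `(tactic| (
  letI aBB : Algebra (𝒟.B $i) (cB 𝒟 R' $i) := algBB 𝒟 R' $i $hi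
  letI aRB : Algebra R (cB 𝒟 R' $i) := algRB 𝒟 R' $i
  haveI tRRB : IsScalarTower R R' (cB 𝒟 R' $i) := tow_RRB 𝒟 R' $i
  haveI tRBB : IsScalarTower R (𝒟.B $i) (cB 𝒟 R' $i) := tow_RBB 𝒟 R' $i $hi
  haveI pB : Algebra.IsPushout R R' (𝒟.B $i) (cB 𝒟 R' $i) := push_B 𝒟 R' $i $hi
  letI aBA' : Algebra (𝒟.B $i) (cA 𝒟 R' $i) := algBA' 𝒟 R' $i
  haveI tBAA : IsScalarTower (𝒟.B $i) (𝒟.A $i) (cA 𝒟 R' $i) := tow_BAA 𝒟 R' $i
  haveI tBBA : IsScalarTower (𝒟.B $i) (cB 𝒟 R' $i) (cA 𝒟 R' $i) := tow_BBA 𝒟 R' $i $hi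
  haveI pBA : Algebra.IsPushout (𝒟.B $i) (𝒟.A $i) (cB 𝒟 R' $i) (cA 𝒟 R' $i) :=
    isPushout_right R (𝒟.B $i) (𝒟.A $i) R' (cB 𝒟 R' $i) (cA 𝒟 R' $i)))

variable (p' : Ideal R') [p'.IsPrime] [p'.LiesOver p]

theorem fact_smooth (i : ℕ) (hi : i < 𝒟.n) : Algebra.Smooth R' (cB 𝒟 R' i) := by
  dv_ctx i, hi
  haveI : Algebra.IsPushout R (𝒟.B i) R' (cB 𝒟 R' i) := Algebra.IsPushout.symm inferInstance
  exact RingHom.smooth_algebraMap.mp (RingHom.Smooth.isStableUnderBaseChange R (𝒟.B i) R'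
    (cB 𝒟 R' i) (RingHom.smooth_algebraMap.mpr (𝒟.smooth i hi)))

theorem fact_geomIrred (i : ℕ) (hi : i < 𝒟.n) : FlatCA.GeomIrredFibres R' (cB 𝒟 R' i) := by
  dv_ctx i, hi
  exact geomIrredFibres_baseChange R (𝒟.B i) R' (cB 𝒟 R' i) (𝒟.geomIrred i hi)

theorem fact_hp (i : ℕ) : (p'.map (algebraMap R' (cB 𝒟 R' i))).IsPrime := by
  by_cases hi : i < 𝒟.n
  · haveI := fact_smooth 𝒟 R' i hi
    exact isPrime_map_of_smooth_geomIrred R' (cB 𝒟 R' i) (fact_geomIrred 𝒟 R' i hi) p'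
  · refine Sw.isPrime_map_neg _ _ _ _ hi p' ?_
    rw [Algebra.algebraMap_self, Ideal.map_id]
    infer_instance

instance instHp (i : ℕ) : (p'.map (algebraMap R' (cB 𝒟 R' i))).IsPrime := fact_hp 𝒟 R' p' i

theorem fact_finiteBA (i : ℕ) (hi : i < 𝒟.n) : Module.Finite (cB 𝒟 R' i) (cA 𝒟 R' i) := by
  dv_ctx i, hi
  have h1 : (algebraMap (𝒟.B i) (𝒟.A i)).Finite :=
    RingHom.finite_algebraMap.mpr (𝒟.finiteBA i hi)
  exact RingHom.finite_algebraMap.mp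
    (RingHom.finite_isStableUnderBaseChange (𝒟.B i) (𝒟.A i) (cB 𝒟 R' i) (cA 𝒟 R' i) h1)

theorem fact_finiteM (i : ℕ) (hi : i < 𝒟.n) : Module.Finite (cA 𝒟 R' i) (cM 𝒟 R' i) := by
  haveI := 𝒟.finiteM i hi
  infer_instance

theorem fact_fibreIso (i : ℕ) (hi : i < 𝒟.n) :
    Function.Bijective ((cAlpha 𝒟 R' i).baseChange
      (p'.map (algebraMap R' (cB 𝒟 R' i))).ResidueField) := by
  dv_ctx i, hi
  haveI := 𝒟.smooth i hi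
  have hover : p.map (algebraMap R (𝒟.B i)) =
      (p'.map (algebraMap R' (cB 𝒟 R' i))).comap (algebraMap (𝒟.B i) (cB 𝒟 R' i)) :=
    (comap_map_of_flat R (𝒟.B i) p R' p' (cB 𝒟 R' i) (Ideal.over_def p' p).symm).symm
  letI aKK : Algebra (p.map (algebraMap R (𝒟.B i))).ResidueField
      (p'.map (algebraMap R' (cB 𝒟 R' i))).ResidueField :=
    (Ideal.ResidueField.map _ _ (algebraMap (𝒟.B i) (cB 𝒟 R' i)) hover).toAlgebra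
  letI aBK : Algebra (𝒟.B i) (p'.map (algebraMap R' (cB 𝒟 R' i))).ResidueField :=
    ((algebraMap (cB 𝒟 R' i) (p'.map (algebraMap R' (cB 𝒟 R' i))).ResidueField).comp
      (algebraMap (𝒟.B i) (cB 𝒟 R' i))).toAlgebra
  haveI : IsScalarTower (𝒟.B i) (cB 𝒟 R' i) (p'.map (algebraMap R' (cB 𝒟 R' i))).ResidueField :=
    IsScalarTower.of_algebraMap_eq fun _ => rfl
  haveI : IsScalarTower (𝒟.B i) (p.map (algebraMap R (𝒟.B i))).ResidueField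
      (p'.map (algebraMap R' (cB 𝒟 R' i))).ResidueField :=
    IsScalarTower.of_algebraMap_eq fun b =>
      (Ideal.ResidueField.map_algebraMap _ _ (algebraMap (𝒟.B i) (cB 𝒟 R' i)) hover b).symm
  haveI : IsScalarTower (𝒟.B i) (cB 𝒟 R' i) (cM 𝒟 R' i) :=
    IsScalarTower.of_algebraMap_smul fun r x => by
      change algebraMap (cB 𝒟 R' i) (cA 𝒟 R' i) (algebraMap (𝒟.B i) (cB 𝒟 R' i) r) • x = r • x
      rw [← IsScalarTower.algebraMap_apply (𝒟.B i) (cB 𝒟 R' i) (cA 𝒟 R' i), algebraMap_smul]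
  haveI : IsScalarTower (𝒟.B i) (𝒟.A i) (cM 𝒟 R' i) :=
    IsScalarTower.of_algebraMap_smul fun r x => by
      rw [← algebraMap_smul (cA 𝒟 R' i) (algebraMap (𝒟.B i) (𝒟.A i) r) x,
        ← IsScalarTower.algebraMap_apply (𝒟.B i) (𝒟.A i) (cA 𝒟 R' i), algebraMap_smul]
  haveI : Algebra.IsPushout (𝒟.B i) (cB 𝒟 R' i) (𝒟.A i) (cA 𝒟 R' i) :=
    Algebra.IsPushout.symm inferInstance
  have hg' : IsBaseChange (cB 𝒟 R' i) ((cG 𝒟 R' i).restrictScalars (𝒟.B i)) :=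
    isBaseChange_of_isPushout (𝒟.B i) (𝒟.A i) (cB 𝒟 R' i) (cA 𝒟 R' i) (𝒟.M i) (cM 𝒟 R' i)
      (cG 𝒟 R' i) (cG_isBaseChange 𝒟 R' i)
  exact bijective_alphaBC_baseChange (𝒟.B i) (cB 𝒟 R' i)
    (p.map (algebraMap R (𝒟.B i))).ResidueField (p'.map (algebraMap R' (cB 𝒟 R' i))).ResidueField
    (𝒟.M i) (cM 𝒟 R' i) ((cG 𝒟 R' i).restrictScalars (𝒟.B i)) hg' (𝒟.r i) (𝒟.α i)
    (𝒟.fibreIso i hi)

/-- the context of instances for the next ring. -/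
macro "dv_ctx2" i:term "," hi:term : tactic => `(tactic| (
  letI aBA2' : Algebra (𝒟.B $i) (cA 𝒟 R' ($i + 1)) := algBA2' 𝒟 R' $i
  haveI tBAA2 : IsScalarTower (𝒟.B $i) (𝒟.A ($i + 1)) (cA 𝒟 R' ($i + 1)) := tow_BAA2 𝒟 R' $i
  haveI tBBA2 : IsScalarTower (𝒟.B $i) (cB 𝒟 R' $i) (cA 𝒟 R' ($i + 1)) :=
    tow_BBA2 𝒟 R' $i $hi
  haveI pBA2 : Algebra.IsPushout (𝒟.B $i) (𝒟.A ($i + 1)) (cB 𝒟 R' $i) (cA 𝒟 R' ($i + 1)) :=
    isPushout_right R (𝒟.B $i) (𝒟.A ($i + 1)) R' (cB 𝒟 R' $i) (cA 𝒟 R' ($i + 1))))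

theorem fact_surjBA' (i : ℕ) (h : i + 1 < 𝒟.n) :
    Function.Surjective (algebraMap (cB 𝒟 R' i) (cA 𝒟 R' (i + 1))) := by
  have hi : i < 𝒟.n := by omega
  dv_ctx i, hi
  dv_ctx2 i, hi
  exact RingHom.surjective_isStableUnderBaseChange (𝒟.B i) (𝒟.A (i + 1)) (cB 𝒟 R' i)
    (cA 𝒟 R' (i + 1)) (𝒟.surjBA' i h)

theorem fact_fpBA' (i : ℕ) (h : i + 1 < 𝒟.n) :
    Algebra.FinitePresentation (cB 𝒟 R' i) (cA 𝒟 R' (i + 1)) := by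
  have hi : i < 𝒟.n := by omega
  dv_ctx i, hi
  dv_ctx2 i, hi
  have h1 : (algebraMap (𝒟.B i) (𝒟.A (i + 1))).FinitePresentation :=
    RingHom.finitePresentation_algebraMap.mpr (𝒟.fpBA' i h)
  exact RingHom.finitePresentation_algebraMap.mp
    (RingHom.finitePresentation_isStableUnderBaseChange (𝒟.B i) (𝒟.A (i + 1)) (cB 𝒟 R' i)
      (cA 𝒟 R' (i + 1)) h1)

/-- towers and the `B i`-linear base change `M i → M' i`, for an index below the length. -/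
macro "dv_ctxM" i:term : tactic => `(tactic| (
  haveI t1 : IsScalarTower (𝒟.B $i) (cB 𝒟 R' $i) (cM 𝒟 R' $i) :=
    IsScalarTower.of_algebraMap_smul fun r x => by
      change algebraMap (cB 𝒟 R' $i) (cA 𝒟 R' $i) (algebraMap (𝒟.B $i) (cB 𝒟 R' $i) r) • x = r • x
      rw [← IsScalarTower.algebraMap_apply (𝒟.B $i) (cB 𝒟 R' $i) (cA 𝒟 R' $i), algebraMap_smul]
  haveI t2 : IsScalarTower (𝒟.B $i) (𝒟.A $i) (cM 𝒟 R' $i) :=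
    IsScalarTower.of_algebraMap_smul fun r x => by
      rw [← algebraMap_smul (cA 𝒟 R' $i) (algebraMap (𝒟.B $i) (𝒟.A $i) r) x,
        ← IsScalarTower.algebraMap_apply (𝒟.B $i) (𝒟.A $i) (cA 𝒟 R' $i), algebraMap_smul]
  haveI pBA' : Algebra.IsPushout (𝒟.B $i) (cB 𝒟 R' $i) (𝒟.A $i) (cA 𝒟 R' $i) :=
    Algebra.IsPushout.symm inferInstance
  have hg' : IsBaseChange (cB 𝒟 R' $i) ((cG 𝒟 R' $i).restrictScalars (𝒟.B $i)) :=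
    isBaseChange_of_isPushout (𝒟.B $i) (𝒟.A $i) (cB 𝒟 R' $i) (cA 𝒟 R' $i) (𝒟.M $i)
      (cM 𝒟 R' $i) (cG 𝒟 R' $i) (cG_isBaseChange 𝒟 R' $i)))

theorem fact_range (i : ℕ) (hi : i < 𝒟.n) :
    LinearMap.range (cAlpha 𝒟 R' i) =
      Submodule.span (cB 𝒟 R' i) ((cG 𝒟 R' i) '' (LinearMap.range (𝒟.α i) : Set (𝒟.M i))) := by
  dv_ctx i, hi
  dv_ctxM i
  exact range_alphaBC (𝒟.B i) (cB 𝒟 R' i) (𝒟.M i) (cM 𝒟 R' i)
    ((cG 𝒟 R' i).restrictScalars (𝒟.B i)) (𝒟.r i) (𝒟.α i)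

theorem fact_cokerLast (i : ℕ) (hi : i < 𝒟.n) (hα : Function.Surjective (𝒟.α i)) :
    Function.Surjective (cAlpha 𝒟 R' i) := by
  dv_ctx i, hi
  dv_ctxM i
  have hg' : IsBaseChange (cB 𝒟 R' i) ((cG 𝒟 R' i).restrictScalars (𝒟.B i)) := by assumption
  exact alphaBC_surjective (𝒟.B i) (cB 𝒟 R' i) (𝒟.M i) (cM 𝒟 R' i)
    ((cG 𝒟 R' i).restrictScalars (𝒟.B i)) hg' (𝒟.r i) (𝒟.α i) hα

theorem fact_isoCoker (i : ℕ) (h : i + 1 < 𝒟.n) :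
    Nonempty ((cM 𝒟 R' i ⧸ LinearMap.range (cAlpha 𝒟 R' i)) ≃ₗ[cB 𝒟 R' i] cM 𝒟 R' (i + 1)) := by
  have hi : i < 𝒟.n := by omega
  dv_ctx i, hi
  dv_ctxM i
  have hg' : IsBaseChange (cB 𝒟 R' i) ((cG 𝒟 R' i).restrictScalars (𝒟.B i)) := by assumption
  dv_ctx2 i, hi
  haveI t3 : IsScalarTower (𝒟.B i) (cB 𝒟 R' i) (cM 𝒟 R' (i + 1)) :=
    IsScalarTower.of_algebraMap_smul fun r x => by
      change algebraMap (cB 𝒟 R' i) (cA 𝒟 R' (i + 1)) (algebraMap (𝒟.B i) (cB 𝒟 R' i) r) • x = r • x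
      rw [← IsScalarTower.algebraMap_apply (𝒟.B i) (cB 𝒟 R' i) (cA 𝒟 R' (i + 1)), algebraMap_smul]
  haveI t4 : IsScalarTower (𝒟.B i) (𝒟.A (i + 1)) (cM 𝒟 R' (i + 1)) :=
    IsScalarTower.of_algebraMap_smul fun r x => by
      rw [← algebraMap_smul (cA 𝒟 R' (i + 1)) (algebraMap (𝒟.B i) (𝒟.A (i + 1)) r) x,
        ← IsScalarTower.algebraMap_apply (𝒟.B i) (𝒟.A (i + 1)) (cA 𝒟 R' (i + 1)), algebraMap_smul]
  haveI : Algebra.IsPushout (𝒟.B i) (cB 𝒟 R' i) (𝒟.A (i + 1)) (cA 𝒟 R' (i + 1)) :=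
    Algebra.IsPushout.symm inferInstance
  have hg₂ : IsBaseChange (cB 𝒟 R' i) ((cG 𝒟 R' (i + 1)).restrictScalars (𝒟.B i)) :=
    isBaseChange_of_isPushout (𝒟.B i) (𝒟.A (i + 1)) (cB 𝒟 R' i) (cA 𝒟 R' (i + 1)) (𝒟.M (i + 1))
      (cM 𝒟 R' (i + 1)) (cG 𝒟 R' (i + 1)) (cG_isBaseChange 𝒟 R' (i + 1))
  let π : 𝒟.M i →ₗ[𝒟.B i] 𝒟.M (i + 1) :=
    (𝒟.isoCoker i h).toLinearMap ∘ₗ (LinearMap.range (𝒟.α i)).mkQ
  have hπ : Function.Surjective π :=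
    (𝒟.isoCoker i h).surjective.comp (Submodule.mkQ_surjective _)
  have hker : LinearMap.ker π = LinearMap.range (𝒟.α i) := by
    rw [LinearMap.ker_comp, LinearEquiv.ker, Submodule.comap_bot, Submodule.ker_mkQ]
  exact nonempty_cokerEquiv (𝒟.B i) (cB 𝒟 R' i) (𝒟.M i) (𝒟.M (i + 1)) (cM 𝒟 R' i)
    (cM 𝒟 R' (i + 1)) ((cG 𝒟 R' i).restrictScalars (𝒟.B i)) hg'
    ((cG 𝒟 R' (i + 1)).restrictScalars (𝒟.B i)) hg₂ (𝒟.r i) (𝒟.α i) π hπ hker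

end construct

end Groth.Agent.Helper27.Dv
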