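import Mathlib
import Groth.Prelude
import Groth.Agent.Lib.Helper27.DvL

set_option autoImplicit false
set_option linter.style.haveILetI false
set_option linter.unusedSectionVars false
universe u
open TensorProduct

namespace Groth.Agent.Helper27.Dv

attribute [local instance] Algebra.TensorProduct.rightAlgebra

section construct2

variable {R S : Type u} [CommRing R] [CommRing S] [Algebra R S]
  {N : Type u} [AddCommGroup N] [Module S N]
  {p : Ideal R} [p.IsPrime] (𝒟 : FlatCA.CompleteDevissage R S N p)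
  (R' : Type u) [CommRing R'] [Algebra R R']
  (S' : Type u) [CommRing S'] [Algebra R' S'] [Algebra R S'] [Algebra S S'] [IsScalarTower R R' S']
  [IsScalarTower R S S'] [Algebra.IsPushout R R' S S']

/-- `S' → A' 0`. -/
noncomputable def sig : S' →ₐ[R'] cA 𝒟 R' 0 :=
  (Algebra.TensorProduct.map (AlgHom.id R' R') (IsScalarTower.toAlgHom R S (𝒟.A 0))).comp
    (Algebra.IsPushout.equiv R R' S S').symm.toAlgHom

/-- the algebra structure of `A' 0` over `S'`. -/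
noncomputable def algSA : Algebra S' (cA 𝒟 R' 0) := (sig 𝒟 R' S').toRingHom.toAlgebra

/-- `S → A' 0`. -/
noncomputable def algSA' : Algebra S (cA 𝒟 R' 0) :=
  ((algebraMap (𝒟.A 0) (cA 𝒟 R' 0)).comp (algebraMap S (𝒟.A 0))).toAlgebra

theorem tow_RSA :
    letI := algSA 𝒟 R' S'
    IsScalarTower R' S' (cA 𝒟 R' 0) :=
  letI := algSA 𝒟 R' S'
  IsScalarTower.of_algebraMap_eq fun x => ((sig 𝒟 R' S').commutes x).symm

theorem tow_SAA :
    letI := algSA' 𝒟 R'
    IsScalarTower S (𝒟.A 0) (cA 𝒟 R' 0) :=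
  letI := algSA' 𝒟 R'
  IsScalarTower.of_algebraMap_eq fun _ => rfl

theorem tow_SSA :
    letI := algSA 𝒟 R' S'
    letI := algSA' 𝒟 R'
    IsScalarTower S S' (cA 𝒟 R' 0) :=
  letI := algSA 𝒟 R' S'
  letI := algSA' 𝒟 R'
  IsScalarTower.of_algebraMap_eq fun s => by
    change (1 : R') ⊗ₜ[R] algebraMap S (𝒟.A 0) s = sig 𝒟 R' S' (algebraMap S S' s)
    simp [sig, Algebra.IsPushout.equiv_symm_algebraMap_right]

/-- the context of instances for `S'`. -/
macro "dv_ctxS" : tactic => `(tactic| (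
  letI aS'A : Algebra S' (cA 𝒟 R' 0) := algSA 𝒟 R' S'
  haveI tRSA : IsScalarTower R' S' (cA 𝒟 R' 0) := tow_RSA 𝒟 R' S'
  letI aSA' : Algebra S (cA 𝒟 R' 0) := algSA' 𝒟 R'
  haveI tSAA : IsScalarTower S (𝒟.A 0) (cA 𝒟 R' 0) := tow_SAA 𝒟 R'
  haveI tSSA : IsScalarTower S S' (cA 𝒟 R' 0) := tow_SSA 𝒟 R' S'
  haveI pSA : Algebra.IsPushout S (𝒟.A 0) S' (cA 𝒟 R' 0) :=
    isPushout_right R S (𝒟.A 0) R' S' (cA 𝒟 R' 0)))

theorem fact_surjSA :
    letI := algSA 𝒟 R' S'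
    Function.Surjective (algebraMap S' (cA 𝒟 R' 0)) := by
  dv_ctxS
  exact RingHom.surjective_isStableUnderBaseChange S (𝒟.A 0) S' (cA 𝒟 R' 0) 𝒟.surjSA

theorem fact_fpSA :
    letI := algSA 𝒟 R' S'
    Algebra.FinitePresentation S' (cA 𝒟 R' 0) := by
  dv_ctxS
  have h1 : (algebraMap S (𝒟.A 0)).FinitePresentation :=
    RingHom.finitePresentation_algebraMap.mpr 𝒟.fpSA
  exact RingHom.finitePresentation_algebraMap.mp
    (RingHom.finitePresentation_isStableUnderBaseChange S (𝒟.A 0) S' (cA 𝒟 R' 0) h1)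

variable (N' : Type u) [AddCommGroup N'] [Module S' N'] [Module S N'] [IsScalarTower S S' N']
  (f : N →ₗ[S] N') (hf : IsBaseChange S' f)

include hf in
theorem exists_isoN :
    letI := algSA 𝒟 R' S'
    ∃ e : N' ≃ₗ[S'] cM 𝒟 R' 0, ∀ x : N, e (f x) = cG 𝒟 R' 0 (𝒟.isoN x) := by
  dv_ctxS
  haveI : Algebra.IsPushout S S' (𝒟.A 0) (cA 𝒟 R' 0) := Algebra.IsPushout.symm inferInstance
  let e1 : S' ⊗[S] N ≃ₗ[S'] N' := hf.equiv
  let e2 : S' ⊗[S] N ≃ₗ[S'] S' ⊗[S] 𝒟.M 0 :=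
    TensorProduct.AlgebraTensorModule.congr (LinearEquiv.refl S' S') 𝒟.isoN
  let e3 : cA 𝒟 R' 0 ⊗[𝒟.A 0] 𝒟.M 0 ≃ₗ[S'] S' ⊗[S] 𝒟.M 0 :=
    Algebra.IsPushout.cancelBaseChange S S' (𝒟.A 0) (cA 𝒟 R' 0) (𝒟.M 0)
  refine ⟨e1.symm ≪≫ₗ e2 ≪≫ₗ e3.symm, fun x => ?_⟩
  change e3.symm (e2 (e1.symm (f x))) = _
  rw [hf.equiv_symm_apply]
  change e3.symm ((1 : S') ⊗ₜ[S] 𝒟.isoN x) = _
  rw [Algebra.IsPushout.cancelBaseChange_symm_tmul, map_one]
  rfl

variable (p' : Ideal R') [p'.IsPrime] [p'.LiesOver p]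

include hf in
/-- the base change of a complete dévissage. -/
@[reducible] noncomputable def bc : FlatCA.CompleteDevissage R' S' N' p' :=
  letI aS := algSA 𝒟 R' S'
  { n := 𝒟.n
    pos := 𝒟.pos
    A := cA 𝒟 R'
    B := cB 𝒟 R'
    M := cM 𝒟 R'
    r := 𝒟.r
    cA := fun _ => inferInstance
    cB := fun _ => inferInstance
    aRA := fun _ => inferInstance
    aRB := fun _ => inferInstance
    aBA := fun i => algBA 𝒟 R' i
    tRBA := fun i => towRBA 𝒟 R' i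
    aSA := aS
    tRSA := tow_RSA 𝒟 R' S'
    aBA' := fun i => algBA2 𝒟 R' i
    tRBA' := fun i => towRBA2 𝒟 R' i
    gM := fun _ => inferInstance
    mAM := fun _ => inferInstance
    mBM := fun _ => inferInstance
    tBAM := fun _ => inferInstance
    mRM := fun _ => inferInstance
    tRBM := fun _ => inferInstance
    mSM := inferInstance
    tSAM := inferInstance
    mB'M := fun _ => inferInstance
    tB'AM := fun _ => inferInstance
    hp := fun i => instHp 𝒟 R' p' i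
    α := cAlpha 𝒟 R'
    surjSA := fact_surjSA 𝒟 R' S'
    fpSA := fact_fpSA 𝒟 R' S'
    surjBA' := fun i h => fact_surjBA' 𝒟 R' i h
    fpBA' := fun i h => fact_fpBA' 𝒟 R' i h
    finiteBA := fun i hi => fact_finiteBA 𝒟 R' i hi
    smooth := fun i hi => fact_smooth 𝒟 R' i hi
    geomIrred := fun i hi => fact_geomIrred 𝒟 R' i hi
    finiteM := fun i hi => fact_finiteM 𝒟 R' i hi
    isoN := Classical.choose (exists_isoN 𝒟 R' S' N' f hf)
    isoCoker := fun i h => Classical.choice (fact_isoCoker 𝒟 R' i h)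
    fibreIso := fun i hi => fact_fibreIso 𝒟 R' p' i hi
    cokerLast := fact_cokerLast 𝒟 R' (𝒟.n - 1) (Nat.sub_lt 𝒟.pos Nat.one_pos) 𝒟.cokerLast }

include hf in
theorem bc_isoN_apply (x : N) :
    (bc 𝒟 R' S' N' f hf p').isoN (f x) = cG 𝒟 R' 0 (𝒟.isoN x) :=
  Classical.choose_spec (exists_isoN 𝒟 R' S' N' f hf) x

/-- `A i → A' i`. -/
noncomputable def algAA (i : ℕ) : Algebra (𝒟.A i) (cA 𝒟 R' i) :=
  Algebra.TensorProduct.rightAlgebra

/-- `R → A' i`. -/
noncomputable def algRA (i : ℕ) : Algebra R (cA 𝒟 R' i) := inferInstance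

theorem tow_RRA (i : ℕ) : IsScalarTower R R' (cA 𝒟 R' i) := inferInstance

theorem tow_RAA (i : ℕ) : IsScalarTower R (𝒟.A i) (cA 𝒟 R' i) := inferInstance

theorem push_A (i : ℕ) : Algebra.IsPushout R R' (𝒟.A i) (cA 𝒟 R' i) := inferInstance

/-- the `A i`-module structure of `M' i`. -/
noncomputable def modAM (i : ℕ) : Module (𝒟.A i) (cM 𝒟 R' i) := inferInstance

theorem tow_AAM (i : ℕ) : IsScalarTower (𝒟.A i) (cA 𝒟 R' i) (cM 𝒟 R' i) := inferInstance

end construct2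

end Groth.Agent.Helper27.Dv
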