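import Mathlib
import Groth.Prelude
import Groth.Agent.Lib.Helper27.DvF

/-!
# Fibre supports under localization (helper27)
-/

set_option autoImplicit false
set_option linter.style.haveILetI false
set_option linter.unusedSectionVars false
universe u
open TensorProduct Topology

namespace Groth.Agent.Helper27.Dv

attribute [local instance] Algebra.TensorProduct.rightAlgebra

/-- local dimension is at most the dimension. -/
theorem localDim_le_dim {X : Type*} [TopologicalSpace X] (x : X) :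
    FlatMor.localDim X x ≤ topologicalKrullDim X := by
  unfold FlatMor.localDim
  refine (iInf_le _ (⟨⊤, trivial⟩ : {U : TopologicalSpace.Opens X // x ∈ U})).trans ?_
  exact IsInducing.subtypeVal.topologicalKrullDim_le

/-- an open neighbourhood of a point of maximal local dimension has full dimension. -/
theorem dim_eq_of_openEmbedding {X₁ X : Type*} [TopologicalSpace X₁] [TopologicalSpace X]
    (j : X₁ → X) (hj : IsOpenEmbedding j) (x₁ : X₁) (n : WithBot ℕ∞)
    (hdim : topologicalKrullDim X = n) (hloc : FlatMor.localDim X (j x₁) = n) :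
    topologicalKrullDim X₁ = n ∧ FlatMor.localDim X₁ x₁ = n := by
  have h1 : FlatMor.localDim X₁ x₁ = n := by
    rw [← Groth.Agent.Helper14.FibreChart.localDim_openEmbedding j hj x₁, hloc]
  refine ⟨le_antisymm ?_ ?_, h1⟩
  · rw [← hdim]
    exact hj.isInducing.topologicalKrullDim_le
  · rw [← h1]
    exact localDim_le_dim x₁

section supp

variable {R : Type u} [CommRing R] (p : Ideal R) [p.IsPrime] (S : Type u) [CommRing S]
  [Algebra R S] (N : Type u) [AddCommGroup N] [Module S N] [Module R N] [IsScalarTower R S N]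

/-- the part of the support of `N` over `p`. -/
def fibSupp : Set (PrimeSpectrum S) :=
  PrimeSpectrum.comap (algebraMap R S) ⁻¹' {⟨p, inferInstance⟩} ∩ Module.support S N

/-- the support of the fibre module as a subspace of `Spec S`. -/
noncomputable def suppHomeo [Module.Finite S N] :
    ↥(Module.support (p.Fiber S) (FlatCA.fiberMod p S N)) ≃ₜ ↥(fibSupp p S N) :=
  have hs : Module.support (p.Fiber S) (FlatCA.fiberMod p S N) =
      PrimeSpectrum.comap (algebraMap S (p.Fiber S)) ⁻¹' Module.support S N :=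
    support_fiberMod R S N p
  have h2 : PrimeSpectrum.comap (algebraMap S (p.Fiber S)) ''
      (PrimeSpectrum.comap (algebraMap S (p.Fiber S)) ⁻¹' Module.support S N) =
      fibSupp p S N := by
    rw [Set.image_preimage_eq_inter_range, range_comap_fiber, Set.inter_comm]
    rfl
  (Homeomorph.setCongr hs).trans
    (((isEmbedding_comap_fiber p S).homeomorphImage
      (PrimeSpectrum.comap (algebraMap S (p.Fiber S)) ⁻¹' Module.support S N)).trans
      (Homeomorph.setCongr h2))

theorem suppHomeo_coe [Module.Finite S N]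
    (ξ : ↥(Module.support (p.Fiber S) (FlatCA.fiberMod p S N))) :
    (suppHomeo p S N ξ : PrimeSpectrum S) =
      PrimeSpectrum.comap (algebraMap S (p.Fiber S)) ξ.1 := rfl

theorem supportDim_eq_dim_fibSupp [Module.Finite S N] :
    Module.supportDim (p.Fiber S) (FlatCA.fiberMod p S N) =
      topologicalKrullDim ↥(fibSupp p S N) :=
  supportDim_fiberMod p S N

theorem localDim_suppHomeo [Module.Finite S N]
    (ξ : ↥(Module.support (p.Fiber S) (FlatCA.fiberMod p S N))) :
    FlatMor.localDim ↥(fibSupp p S N) (suppHomeo p S N ξ) =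
      FlatMor.localDim ↥(Module.support (p.Fiber S) (FlatCA.fiberMod p S N)) ξ :=
  Groth.Agent.Helper14.FibreChart.localDim_openEmbedding (suppHomeo p S N)
    (suppHomeo p S N).isOpenEmbedding ξ

end supp

section loc

variable (R S : Type u) [CommRing R] [CommRing S] [Algebra R S]
  (N : Type u) [AddCommGroup N] [Module S N] [Module R N] [IsScalarTower R S N]
  [Module.Finite S N] (p : Ideal R) [p.IsPrime]
  (R₁ S₁ : Type u) [CommRing R₁] [CommRing S₁] [Algebra R R₁] [Algebra S S₁] [Algebra R₁ S₁]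
  [Algebra R S₁] [IsScalarTower R R₁ S₁] [IsScalarTower R S S₁]
  (g : R) [IsLocalization.Away g R₁] (hX : S) [IsLocalization.Away hX S₁]
  (p₁ : Ideal R₁) [p₁.IsPrime] [p₁.LiesOver p]
  (N₁ : Type u) [AddCommGroup N₁] [Module S₁ N₁] [Module R₁ N₁] [IsScalarTower R₁ S₁ N₁]
  [Module S N₁] [IsScalarTower S S₁ N₁] (fN : N →ₗ[S] N₁) (hfN : IsBaseChange S₁ fN)

include g hfN in
theorem preimage_fibSupp :
    PrimeSpectrum.comap (algebraMap S S₁) ⁻¹' fibSupp p S N = fibSupp p₁ S₁ N₁ := by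
  ext x₁
  have hcomm : PrimeSpectrum.comap (algebraMap R S) (PrimeSpectrum.comap (algebraMap S S₁) x₁) =
      PrimeSpectrum.comap (algebraMap R R₁) (PrimeSpectrum.comap (algebraMap R₁ S₁) x₁) := by
    rw [← PrimeSpectrum.comap_comp_apply, ← PrimeSpectrum.comap_comp_apply,
      ← IsScalarTower.algebraMap_eq, ← IsScalarTower.algebraMap_eq]
  have hp₁ : PrimeSpectrum.comap (algebraMap R R₁) ⟨p₁, inferInstance⟩ = ⟨p, inferInstance⟩ :=
    PrimeSpectrum.ext (Ideal.over_def p₁ p).symm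
  have hsupp := support_of_isBaseChange S N S₁ N₁ fN hfN
  simp only [fibSupp, Set.mem_preimage, Set.mem_inter_iff, Set.mem_singleton_iff]
  rw [hcomm, hsupp, Set.mem_preimage]
  constructor
  · rintro ⟨h1, h2⟩
    refine ⟨?_, h2⟩
    rw [← hp₁] at h1
    exact PrimeSpectrum.localization_comap_injective R₁ (Submonoid.powers g) h1
  · rintro ⟨h1, h2⟩
    exact ⟨by rw [h1, hp₁], h2⟩

include g hX hfN in
/-- the dimension data of the fibre support are unchanged by localization at a point. -/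
theorem fibre_dims_localization (n : ℕ) (q : Ideal S) [q.IsPrime] [q.LiesOver p]
    (q₁ : Ideal S₁) [q₁.IsPrime] [q₁.LiesOver q] [q₁.LiesOver p₁]
    (hdim : Module.supportDim (p.Fiber S) (FlatCA.fiberMod p S N) = n)
    (h1 : ∃ (ξ : PrimeSpectrum (p.Fiber S))
      (hξ : ξ ∈ Module.support (p.Fiber S) (FlatCA.fiberMod p S N)),
      ξ.asIdeal = FlatCA.fiberIdeal p q ∧
      FlatMor.localDim (Module.support (p.Fiber S) (FlatCA.fiberMod p S N)) ⟨ξ, hξ⟩ = n) :
    Module.supportDim (p₁.Fiber S₁) (FlatCA.fiberMod p₁ S₁ N₁) = n ∧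
    ∃ (ξ' : PrimeSpectrum (p₁.Fiber S₁))
      (hξ' : ξ' ∈ Module.support (p₁.Fiber S₁) (FlatCA.fiberMod p₁ S₁ N₁)),
      ξ'.asIdeal = FlatCA.fiberIdeal p₁ q₁ ∧
      FlatMor.localDim (Module.support (p₁.Fiber S₁) (FlatCA.fiberMod p₁ S₁ N₁)) ⟨ξ', hξ'⟩ = n := by
  haveI : Module.Finite S₁ N₁ := finite_of_isBaseChange S N S₁ N₁ fN hfN
  obtain ⟨ξ, hξ, hξq, hloc⟩ := h1
  have hξ' : ξ = fibPt R S p q := eq_fibPt_of_asIdeal R S p q ξ hξq
  subst hξ'
  have hpre := preimage_fibSupp R S N p R₁ S₁ g p₁ N₁ fN hfN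
  -- the open embedding
  let φ := PrimeSpectrum.comap (algebraMap S S₁)
  have hφ : IsOpenEmbedding φ := PrimeSpectrum.localization_away_isOpenEmbedding S₁ hX
  let j : ↥(fibSupp p₁ S₁ N₁) → ↥(fibSupp p S N) :=
    ((fibSupp p S N).restrictPreimage φ) ∘ (Homeomorph.setCongr hpre.symm)
  have hj : IsOpenEmbedding j :=
    (hφ.restrictPreimage (fibSupp p S N)).comp (Homeomorph.setCongr hpre.symm).isOpenEmbedding
  -- the point
  have hq₁q : PrimeSpectrum.comap (algebraMap S S₁) ⟨q₁, inferInstance⟩ = ⟨q, inferInstance⟩ :=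
    PrimeSpectrum.ext (Ideal.over_def q₁ q).symm
  have hqmem : (⟨q, inferInstance⟩ : PrimeSpectrum S) ∈ fibSupp p S N := by
    have := (suppHomeo p S N ⟨fibPt R S p q, hξ⟩).2
    rw [suppHomeo_coe] at this
    rwa [comap_fibPt] at this
  have hq₁mem : (⟨q₁, inferInstance⟩ : PrimeSpectrum S₁) ∈ fibSupp p₁ S₁ N₁ := by
    rw [← hpre, Set.mem_preimage, hq₁q]
    exact hqmem
  have hjx : j ⟨⟨q₁, inferInstance⟩, hq₁mem⟩ = suppHomeo p S N ⟨fibPt R S p q, hξ⟩ := by
    apply Subtype.ext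
    rw [suppHomeo_coe, comap_fibPt]
    exact hq₁q
  have hdimX : topologicalKrullDim ↥(fibSupp p S N) = (n : WithBot ℕ∞) := by
    rw [← supportDim_eq_dim_fibSupp, hdim]
  have hlocX : FlatMor.localDim ↥(fibSupp p S N) (j ⟨⟨q₁, inferInstance⟩, hq₁mem⟩) =
      (n : WithBot ℕ∞) := by
    rw [hjx, localDim_suppHomeo, hloc]
  obtain ⟨hd₁, hl₁⟩ := dim_eq_of_openEmbedding j hj ⟨⟨q₁, inferInstance⟩, hq₁mem⟩ _ hdimX hlocX
  refine ⟨by rw [supportDim_eq_dim_fibSupp, hd₁], ?_⟩
  have hmem₁ : fibPt R₁ S₁ p₁ q₁ ∈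
      Module.support (p₁.Fiber S₁) (FlatCA.fiberMod p₁ S₁ N₁) := by
    rw [support_fiberMod, Set.mem_preimage, comap_fibPt]
    exact hq₁mem.2
  refine ⟨fibPt R₁ S₁ p₁ q₁, hmem₁, fibPt_asIdeal R₁ S₁ p₁ q₁, ?_⟩
  rw [← localDim_suppHomeo, ← hl₁]
  congr 1
  apply Subtype.ext
  rw [suppHomeo_coe, comap_fibPt]

end loc

end Groth.Agent.Helper27.Dv
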