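import Mathlib
import Groth.Prelude
import Groth.Agent.Lib.Helper27.DvG

/-!
# Localization helpers for shrinking a dévissage (helper27)
-/

set_option autoImplicit false
set_option linter.style.haveILetI false
set_option linter.unusedSectionVars false
universe u

namespace Groth.Agent.Helper27.Dv

section primes

variable (A : Type u) [CommRing A] (a : A) (A₁ : Type u) [CommRing A₁] [Algebra A A₁]
  [IsLocalization.Away a A₁]

theorem isPrime_map_away (P : Ideal A) [hP : P.IsPrime] (ha : a ∉ P) :
    (P.map (algebraMap A A₁)).IsPrime :=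
  IsLocalization.isPrime_of_isPrime_disjoint (Submonoid.powers a) A₁ P hP
    ((Ideal.disjoint_powers_iff_notMem_of_isPrime a).mpr ha)

theorem liesOver_map_away (P : Ideal A) [hP : P.IsPrime] (ha : a ∉ P) :
    (P.map (algebraMap A A₁)).LiesOver P :=
  ⟨(IsLocalization.under_map_of_isPrime_disjoint (Submonoid.powers a) A₁ hP
    ((Ideal.disjoint_powers_iff_notMem_of_isPrime a).mpr ha)).symm⟩

include a in
/-- ideals of a localization are determined by their contractions. -/
theorem eq_of_under_eq_away (P₁ P₂ : Ideal A₁) (h : P₁.under A = P₂.under A) : P₁ = P₂ := by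
  rw [← IsLocalization.map_under (Submonoid.powers a) A₁ P₁,
    ← IsLocalization.map_under (Submonoid.powers a) A₁ P₂, h]

include a in
theorem eq_map_of_under_eq_away (P₁ : Ideal A₁) (P : Ideal A) (h : P₁.under A = P) :
    P₁ = P.map (algebraMap A A₁) := by
  rw [← h, IsLocalization.map_under (Submonoid.powers a) A₁ P₁]

end primes

section residue

variable (R S : Type u) [CommRing R] [CommRing S] [Algebra R S]
  (p : Ideal R) [p.IsPrime]
  (R' : Type u) [CommRing R'] [Algebra R R'] (p' : Ideal R') [p'.IsPrime] [hp' : p'.LiesOver p]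
  (S' : Type u) [CommRing S']
  [Algebra R' S'] [Algebra R S'] [Algebra S S'] [IsScalarTower R R' S'] [IsScalarTower R S S']
  (q : Ideal S) [q.IsPrime] [hq : q.LiesOver p] (q' : Ideal S') [q'.IsPrime] [hq' : q'.LiesOver q]
  [hq'p : q'.LiesOver p']

/-- the square of residue field maps commutes. -/
theorem residue_square' :
    (Ideal.ResidueField.map q q' (algebraMap S S') hq'.over).comp
      (Ideal.ResidueField.mapₐ p q (Algebra.ofId R S) hq.over).toRingHom =
    (Ideal.ResidueField.mapₐ p' q' (Algebra.ofId R' S') hq'p.over).toRingHom.comp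
      (Ideal.ResidueField.mapₐ p p' (Algebra.ofId R R') hp'.over).toRingHom := by
  apply Ideal.ResidueField.ringHom_ext
  ext r
  simp only [RingHom.coe_comp, Function.comp_apply, AlgHom.toRingHom_eq_coe, RingHom.coe_coe,
    Ideal.ResidueField.mapₐ_apply, Ideal.ResidueField.map_algebraMap]
  congr 1
  simp only [AlgHom.coe_toRingHom, Algebra.ofId_apply]
  rw [← IsScalarTower.algebraMap_apply, ← IsScalarTower.algebraMap_apply]

/-- purely transcendental residue field extensions are unchanged by localizations. -/
theorem purelyTranscendental_localization (g : R) [IsLocalization.Away g R']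
    (b : S) [IsLocalization.Away b S'] (h4 : FlatCA.PurelyTranscendental p q) :
    FlatCA.PurelyTranscendental p' q' := by
  unfold FlatCA.PurelyTranscendental at h4 ⊢
  have h1 : Function.Bijective (Ideal.ResidueField.map p p' (algebraMap R R') hp'.over) :=
    (RingHom.surjectiveOnStalks_of_isLocalization (M := Submonoid.powers g)
      R').residueFieldMap_bijective p p' hp'.over
  have h2 : Function.Bijective (Ideal.ResidueField.map q q' (algebraMap S S') hq'.over) :=
    (RingHom.surjectiveOnStalks_of_isLocalization (M := Submonoid.powers b)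
      S').residueFieldMap_bijective q q' hq'.over
  exact transBasis_transport
    (Ideal.ResidueField.mapₐ p q (Algebra.ofId R S) hq.over).toRingHom
    (Ideal.ResidueField.mapₐ p' q' (Algebra.ofId R' S') hq'p.over).toRingHom
    (Ideal.ResidueField.mapₐ p p' (Algebra.ofId R R') hp'.over).toRingHom h1.2
    (Ideal.ResidueField.map q q' (algebraMap S S') hq'.over) h2
    (residue_square' R S p R' p' S' q q') h4

end residue

section modules

variable (S C : Type u) [CommRing S] [CommRing C] [Algebra S C]
  (S₁ C₁ : Type u) [CommRing S₁] [CommRing C₁] [Algebra S S₁] [Algebra C C₁]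
  [Algebra S₁ C₁] [Algebra S C₁] [IsScalarTower S S₁ C₁] [IsScalarTower S C C₁]
  (hX : S) [IsLocalization.Away hX S₁] [IsLocalization.Away (algebraMap S C hX) C₁]
  (N G : Type u) [AddCommGroup N] [AddCommGroup G] [Module S N] [Module S G] [Module C G]
  [IsScalarTower S C G]
  (N₁ G₁ : Type u) [AddCommGroup N₁] [AddCommGroup G₁]
  [Module S₁ N₁] [Module S N₁] [IsScalarTower S S₁ N₁]
  [Module C₁ G₁] [Module S₁ G₁] [IsScalarTower S₁ C₁ G₁] [Module C G₁] [IsScalarTower C C₁ G₁]
  [Module S G₁] [IsScalarTower S C G₁] [IsScalarTower S S₁ G₁]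

/-- the identification `N ≅ G` localizes. -/
theorem nonempty_equiv_localized (e : N ≃ₗ[S] G)
    (fN : N →ₗ[S] N₁) [IsLocalizedModule (Submonoid.powers hX) fN]
    (fG : G →ₗ[C] G₁) [IsLocalizedModule (Submonoid.powers (algebraMap S C hX)) fG] :
    Nonempty (N₁ ≃ₗ[S₁] G₁) := by
  haveI : IsLocalizedModule (Submonoid.powers hX) (fG.restrictScalars S) :=
    IsLocalizedModule.restrictScalars_powers hX fG
  haveI : IsLocalizedModule (Submonoid.powers hX)
      ((fG.restrictScalars S) ∘ₗ (e : N →ₗ[S] G)) :=
    IsLocalizedModule.of_linearEquiv_right _ _ e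
  exact ⟨(IsLocalizedModule.linearEquiv (Submonoid.powers hX) fN
    ((fG.restrictScalars S) ∘ₗ (e : N →ₗ[S] G))).extendScalarsOfIsLocalization
      (Submonoid.powers hX) S₁⟩

end modules

end Groth.Agent.Helper27.Dv
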