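import Mathlib
import Groth.Prelude
import Groth.Agent.Lib.Helper27.DvA

/-!
# Smoothness and geometric irreducibility under shrinking (helper27)
-/

set_option autoImplicit false
set_option linter.style.haveILetI false
set_option linter.unusedSectionVars false
universe u
open AlgebraicGeometry CategoryTheory

namespace Groth.Agent.Helper27.Dv

/-- towers over a localization are determined by the base ring. -/
theorem tower_of_isLocalization (A : Type u) [CommRing A] (M : Submonoid A) (L : Type u)
    [CommRing L] [Algebra A L] [IsLocalization M L] (X Y : Type u) [CommRing X] [CommRing Y]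
    [Algebra A X] [Algebra A Y] [Algebra L X] [Algebra L Y] [Algebra X Y]
    [IsScalarTower A L X] [IsScalarTower A L Y] [IsScalarTower A X Y] : IsScalarTower L X Y := by
  refine IsScalarTower.of_algebraMap_eq' ?_
  apply IsLocalization.ringHom_ext M
  rw [RingHom.comp_assoc, ← IsScalarTower.algebraMap_eq A L Y, ← IsScalarTower.algebraMap_eq A L X,
    ← IsScalarTower.algebraMap_eq A X Y]

section away

variable (R D : Type u) [CommRing R] [CommRing D] [Algebra R D]
  (R₁ D₁ : Type u) [CommRing R₁] [CommRing D₁] [Algebra R R₁] [Algebra D D₁] [Algebra R₁ D₁]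
  [Algebra R D₁] [IsScalarTower R R₁ D₁] [IsScalarTower R D D₁]
  (g : R) (hY : D) [IsLocalization.Away g R₁] [IsLocalization.Away hY D₁]

include g hY in
/-- the factorization of `Spec D₁ → Spec R₁` through the base change of `Spec D`. -/
theorem exists_factorization :
    ∃ (D' : Type u) (_ : CommRing D') (_ : Algebra R D') (_ : Algebra D D') (_ : Algebra R₁ D')
      (_ : IsScalarTower R R₁ D') (_ : IsScalarTower R D D')
      (_ : Algebra.IsPushout R R₁ D D') (_ : Algebra D' D₁) (_ : IsScalarTower R₁ D' D₁),
      IsOpenImmersion (Spec.map (CommRingCat.ofHom (algebraMap D' D₁))) := by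
  let D' := Localization.Away (algebraMap R D g)
  have hu : IsUnit (algebraMap R D' g) := by
    rw [IsScalarTower.algebraMap_apply R D D']
    exact IsLocalization.Away.algebraMap_isUnit _
  letI aR₁D' : Algebra R₁ D' := (IsLocalization.Away.lift g hu).toAlgebra
  haveI t1 : IsScalarTower R R₁ D' := IsScalarTower.of_algebraMap_eq fun x =>
    (IsLocalization.Away.lift_eq g hu x).symm
  haveI : IsLocalization (Algebra.algebraMapSubmonoid D (Submonoid.powers g)) D' := by
    rw [Algebra.algebraMapSubmonoid_powers]
    infer_instance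
  haveI pB : Algebra.IsPushout R R₁ D D' :=
    Algebra.IsPushout.symm (Algebra.isPushout_of_isLocalization (Submonoid.powers g) R₁ D D')
  have hu2 : IsUnit (algebraMap D D₁ (algebraMap R D g)) := by
    rw [← IsScalarTower.algebraMap_apply R D D₁, IsScalarTower.algebraMap_apply R R₁ D₁]
    exact (IsLocalization.Away.algebraMap_isUnit g).map _
  letI aD'D₁ : Algebra D' D₁ := (IsLocalization.Away.lift (algebraMap R D g) hu2).toAlgebra
  haveI t2 : IsScalarTower D D' D₁ := IsScalarTower.of_algebraMap_eq fun x =>
    (IsLocalization.Away.lift_eq (algebraMap R D g) hu2 x).symm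
  haveI t3 : IsScalarTower R D' D₁ := IsScalarTower.of_algebraMap_eq fun x => by
    rw [IsScalarTower.algebraMap_apply R D D₁, IsScalarTower.algebraMap_apply D D' D₁,
      ← IsScalarTower.algebraMap_apply R D D']
  haveI t4 : IsScalarTower R₁ D' D₁ :=
    tower_of_isLocalization R (Submonoid.powers g) R₁ D' D₁
  refine ⟨D', inferInstance, inferInstance, inferInstance, aR₁D', t1, inferInstance, pB, aD'D₁, t4,
    ?_⟩
  haveI h1 : IsOpenImmersion (Spec.map (CommRingCat.ofHom (algebraMap D D'))) :=
    IsOpenImmersion.of_isLocalization (algebraMap R D g)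
  haveI h2 : IsOpenImmersion (Spec.map (CommRingCat.ofHom (algebraMap D' D₁)) ≫
      Spec.map (CommRingCat.ofHom (algebraMap D D'))) := by
    rw [← Spec.map_comp, ← CommRingCat.ofHom_comp, ← IsScalarTower.algebraMap_eq]
    exact IsOpenImmersion.of_isLocalization hY
  exact IsOpenImmersion.of_comp _ (Spec.map (CommRingCat.ofHom (algebraMap D D')))

include g hY in
theorem smoothRelDim_away (n : ℕ) (h : FlatCA.SmoothRelDim n R D) :
    FlatCA.SmoothRelDim n R₁ D₁ := by
  obtain ⟨D', _, _, _, _, _, _, _, _, _, hopen⟩ := exists_factorization R D R₁ D₁ g hY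
  have h1 : FlatCA.SmoothRelDim n R₁ D' := smoothRelDim_baseChange R D R₁ D' n h
  unfold FlatCA.SmoothRelDim at h1 ⊢
  have e : Spec.map (CommRingCat.ofHom (algebraMap R₁ D₁)) =
      Spec.map (CommRingCat.ofHom (algebraMap D' D₁)) ≫
        Spec.map (CommRingCat.ofHom (algebraMap R₁ D')) := by
    rw [← Spec.map_comp, ← CommRingCat.ofHom_comp, ← IsScalarTower.algebraMap_eq]
  rw [e]
  haveI := hopen
  haveI := h1
  have h2 : SmoothOfRelativeDimension (0 + n)
      (Spec.map (CommRingCat.ofHom (algebraMap D' D₁)) ≫
        Spec.map (CommRingCat.ofHom (algebraMap R₁ D'))) := inferInstance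
  rwa [Nat.zero_add] at h2

include g hY in
theorem geomIrredFibres_away (h : FlatCA.GeomIrredFibres R D)
    (hsurj : Function.Surjective (PrimeSpectrum.comap (algebraMap R₁ D₁))) :
    FlatCA.GeomIrredFibres R₁ D₁ := by
  obtain ⟨D', _, _, _, _, _, _, _, _, _, hopen⟩ := exists_factorization R D R₁ D₁ g hY
  have h1 : FlatCA.GeomIrredFibres R₁ D' := geomIrredFibres_baseChange R D R₁ D' h
  unfold FlatCA.GeomIrredFibres at h1 ⊢
  have e : Spec.map (CommRingCat.ofHom (algebraMap R₁ D₁)) =
      Spec.map (CommRingCat.ofHom (algebraMap D' D₁)) ≫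
        Spec.map (CommRingCat.ofHom (algebraMap R₁ D')) := by
    rw [← Spec.map_comp, ← CommRingCat.ofHom_comp, ← IsScalarTower.algebraMap_eq]
  haveI := hopen
  haveI := h1
  haveI : Surjective (Spec.map (CommRingCat.ofHom (algebraMap D' D₁)) ≫
      Spec.map (CommRingCat.ofHom (algebraMap R₁ D'))) := by
    rw [← e]
    exact ⟨hsurj⟩
  rw [e]
  infer_instance

end away

end Groth.Agent.Helper27.Dv
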