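import Mathlib
import Groth.Prelude
import Groth.Agent.Lib.Helper27.DvN1
import Groth.Agent.Lib.Helper27.DvN2
import Groth.Agent.Lib.Helper27.DvN3

/-!
# Shrinking a one-step dévissage at a point: the abstract statement (helper27)
-/

set_option autoImplicit false
set_option linter.style.haveILetI false
set_option linter.unusedSectionVars false
universe u

namespace Groth.Agent.Helper27.Dv

theorem shrink_abstract
    (R S : Type u) [CommRing R] [CommRing S] [Algebra R S] [Algebra.FiniteType R S]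
    (N : Type u) [AddCommGroup N] [Module S N] [Module R N] [IsScalarTower R S N] [Module.Finite S N]
    (p : Ideal R) [p.IsPrime] (q : Ideal S) [q.IsPrime] [q.LiesOver p]
    (C D G : Type u) [CommRing C] [CommRing D] [Algebra S C] [Algebra R C] [IsScalarTower R S C]
    [Algebra R D] [Algebra D C] [IsScalarTower R D C] [AddCommGroup G] [Module C G] [Module S G]
    [IsScalarTower S C G] (n : ℕ)
    (h : FlatCA.IsOneStepDevissage R S N p C D G n)
    (z : Ideal C) [z.IsPrime] (y : Ideal D) [y.IsPrime] [z.LiesOver q] [z.LiesOver y] [y.LiesOver p]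
    (h1 : ∃ (ξ : PrimeSpectrum (p.Fiber S)) (hξ : ξ ∈ Module.support (p.Fiber S) (FlatCA.fiberMod p S N)),
      ξ.asIdeal = FlatCA.fiberIdeal p q ∧
      FlatMor.localDim (Module.support (p.Fiber S) (FlatCA.fiberMod p S N)) ⟨ξ, hξ⟩ = n)
    (h3 : ∀ (z₁ : Ideal C) [z₁.IsPrime], z₁.LiesOver y → z₁ = z)
    (h4 : FlatCA.PurelyTranscendental p y)
    (R₁ S₁ C₁ D₁ : Type u) [CommRing R₁] [CommRing S₁] [CommRing C₁] [CommRing D₁]
    [Algebra R R₁] [Algebra S S₁] [Algebra C C₁] [Algebra D D₁]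
    [Algebra R₁ S₁] [Algebra R S₁] [IsScalarTower R R₁ S₁] [IsScalarTower R S S₁]
    [Algebra R₁ C₁] [Algebra R C₁] [IsScalarTower R R₁ C₁] [IsScalarTower R C C₁]
    [Algebra R₁ D₁] [Algebra R D₁] [IsScalarTower R R₁ D₁] [IsScalarTower R D D₁]
    [Algebra S₁ C₁] [Algebra S C₁] [IsScalarTower S S₁ C₁] [IsScalarTower S C C₁]
    [IsScalarTower R₁ S₁ C₁]
    [Algebra D₁ C₁] [Algebra D C₁] [IsScalarTower D D₁ C₁] [IsScalarTower D C C₁]
    [IsScalarTower R₁ D₁ C₁]
    (g : R) (hX : S) (hY : D)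
    [IsLocalization.Away g R₁] [IsLocalization.Away hX S₁]
    [IsLocalization.Away (algebraMap S C hX) C₁] [IsLocalization.Away hY D₁]
    (hC : IsLocalization.Away (algebraMap D C hY) C₁)
    (hg : g ∉ p) (hhX : hX ∉ q) (hhY : hY ∉ y)
    (hsurj : Function.Surjective (PrimeSpectrum.comap (algebraMap R₁ D₁)))
    (N₁ G₁ : Type u) [AddCommGroup N₁] [AddCommGroup G₁]
    [Module S₁ N₁] [Module R₁ N₁] [IsScalarTower R₁ S₁ N₁] [Module S N₁] [IsScalarTower S S₁ N₁]
    [Module C₁ G₁] [Module S₁ G₁] [IsScalarTower S₁ C₁ G₁] [Module C G₁] [IsScalarTower C C₁ G₁]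
    [Module S G₁] [IsScalarTower S C G₁] [IsScalarTower S S₁ G₁]
    (fN : N →ₗ[S] N₁) [IsLocalizedModule (Submonoid.powers hX) fN]
    (fG : G →ₗ[C] G₁) [IsLocalizedModule (Submonoid.powers (algebraMap S C hX)) fG]
    [hp₁ : (p.map (algebraMap R R₁)).IsPrime] [hy₁ : (y.map (algebraMap D D₁)).IsPrime]
    [hy₁p₁ : (y.map (algebraMap D D₁)).LiesOver (p.map (algebraMap R R₁))] :
    FlatCA.IsOneStepDevissage R₁ S₁ N₁ (p.map (algebraMap R R₁)) C₁ D₁ G₁ n ∧
    (∃ (ξ : PrimeSpectrum ((p.map (algebraMap R R₁)).Fiber S₁))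
        (hξ : ξ ∈ Module.support ((p.map (algebraMap R R₁)).Fiber S₁)
          (FlatCA.fiberMod (p.map (algebraMap R R₁)) S₁ N₁)),
      ξ.asIdeal = FlatCA.fiberIdeal (p.map (algebraMap R R₁)) (q.map (algebraMap S S₁)) ∧
      FlatMor.localDim (Module.support ((p.map (algebraMap R R₁)).Fiber S₁)
        (FlatCA.fiberMod (p.map (algebraMap R R₁)) S₁ N₁)) ⟨ξ, hξ⟩ = n) ∧
    (z.map (algebraMap C C₁)).LiesOver (q.map (algebraMap S S₁)) ∧
    (z.map (algebraMap C C₁)).LiesOver (y.map (algebraMap D D₁)) ∧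
    (∀ (z₂ : Ideal C₁) [z₂.IsPrime], z₂.LiesOver (y.map (algebraMap D D₁)) →
      z₂ = z.map (algebraMap C C₁)) ∧
    FlatCA.PurelyTranscendental (p.map (algebraMap R R₁)) (y.map (algebraMap D D₁)) := by
  classical
  obtain ⟨⟨e⟩, hsurjSC, hfp, hfinDC, hfinCG, hsm, hirr, hdim⟩ := h
  -- the points
  have hhZ : algebraMap S C hX ∉ z := by
    intro hmem
    apply hhX
    rw [Ideal.over_def z q]
    exact hmem
  haveI hq₁ : (q.map (algebraMap S S₁)).IsPrime := isPrime_map_away S hX S₁ q hhX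
  haveI hz₁ : (z.map (algebraMap C C₁)).IsPrime :=
    isPrime_map_away C (algebraMap S C hX) C₁ z hhZ
  haveI : (p.map (algebraMap R R₁)).LiesOver p := liesOver_map_away R g R₁ p hg
  haveI : (q.map (algebraMap S S₁)).LiesOver q := liesOver_map_away S hX S₁ q hhX
  haveI : (z.map (algebraMap C C₁)).LiesOver z :=
    liesOver_map_away C (algebraMap S C hX) C₁ z hhZ
  haveI : (y.map (algebraMap D D₁)).LiesOver y := liesOver_map_away D hY D₁ y hhY
  -- z₁ over q₁
  have hzq : (z.map (algebraMap C C₁)).under S₁ = q.map (algebraMap S S₁) := by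
    refine eq_map_of_under_eq_away S hX S₁ _ q ?_
    rw [Ideal.under_under (B := S₁) (A := S) (z.map (algebraMap C C₁)),
      ← Ideal.under_under (B := C) (A := S) (z.map (algebraMap C C₁)),
      ← Ideal.over_def (z.map (algebraMap C C₁)) z, ← Ideal.over_def z q]
  -- z₁ over y₁
  have hzy : (z.map (algebraMap C C₁)).under D₁ = y.map (algebraMap D D₁) := by
    refine eq_map_of_under_eq_away D hY D₁ _ y ?_
    rw [Ideal.under_under (B := D₁) (A := D) (z.map (algebraMap C C₁)),
      ← Ideal.under_under (B := C) (A := D) (z.map (algebraMap C C₁)),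
      ← Ideal.over_def (z.map (algebraMap C C₁)) z, ← Ideal.over_def z y]
  -- q₁ over p₁
  have hqp : (q.map (algebraMap S S₁)).under R₁ = p.map (algebraMap R R₁) := by
    refine eq_map_of_under_eq_away R g R₁ _ p ?_
    rw [Ideal.under_under (B := R₁) (A := R) (q.map (algebraMap S S₁)),
      ← Ideal.under_under (B := S) (A := R) (q.map (algebraMap S S₁)),
      ← Ideal.over_def (q.map (algebraMap S S₁)) q, ← Ideal.over_def q p]
  haveI : (q.map (algebraMap S S₁)).LiesOver (p.map (algebraMap R R₁)) := ⟨hqp.symm⟩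
  -- modules
  have hfN : IsBaseChange S₁ fN := IsLocalizedModule.isBaseChange (Submonoid.powers hX) S₁ fN
  obtain ⟨hdim₁, hloc₁⟩ := fibre_dims_localization R S N p R₁ S₁ g hX (p.map (algebraMap R R₁))
    N₁ fN hfN n q (q.map (algebraMap S S₁)) hdim h1
  -- pushouts
  haveI : IsLocalization (Algebra.algebraMapSubmonoid C (Submonoid.powers hX)) C₁ := by
    rw [Algebra.algebraMapSubmonoid_powers]
    infer_instance
  haveI pSC : Algebra.IsPushout S C S₁ C₁ :=
    Algebra.isPushout_of_isLocalization (Submonoid.powers hX) S₁ C C₁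
  haveI : IsLocalization (Algebra.algebraMapSubmonoid C (Submonoid.powers hY)) C₁ := by
    rw [Algebra.algebraMapSubmonoid_powers]
    exact hC
  refine ⟨⟨nonempty_equiv_localized S C S₁ hX N G N₁ G₁ e fN fG, ?_, ?_, ?_, ?_, ?_, ?_, hdim₁⟩,
    hloc₁, ⟨hzq.symm⟩, ⟨hzy.symm⟩, ?_, ?_⟩
  · exact RingHom.surjective_isStableUnderBaseChange S C S₁ C₁ hsurjSC
  · have h1 : (algebraMap S C).FinitePresentation := RingHom.finitePresentation_algebraMap.mpr hfp
    exact RingHom.finitePresentation_algebraMap.mp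
      (RingHom.finitePresentation_isStableUnderBaseChange S C S₁ C₁ h1)
  · haveI := hfinDC
    exact Module.Finite.of_isLocalization D C (Submonoid.powers hY)
  · haveI := hfinCG
    exact Module.Finite.of_isLocalizedModule (Submonoid.powers (algebraMap S C hX)) (Rₚ := C₁) fG
  · exact smoothRelDim_away R D R₁ D₁ g hY n hsm
  · exact geomIrredFibres_away R D R₁ D₁ g hY hirr hsurj
  · intro z₂ _ hz₂
    refine eq_map_of_under_eq_away C (algebraMap S C hX) C₁ z₂ z ?_
    haveI : (z₂.under C).IsPrime := Ideal.IsPrime.under C z₂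
    refine h3 (z₂.under C) ⟨?_⟩
    rw [Ideal.under_under (B := C) (A := D) z₂, ← Ideal.under_under (B := D₁) (A := D) z₂,
      ← Ideal.over_def z₂ (y.map (algebraMap D D₁)), ← Ideal.over_def (y.map (algebraMap D D₁)) y]
  · exact purelyTranscendental_localization R D p R₁ (p.map (algebraMap R R₁)) D₁ y
      (y.map (algebraMap D D₁)) g hY h4

end Groth.Agent.Helper27.Dv
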