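import Mathlib
import Groth.Prelude
import Groth.Agent.Lib.Helper27.DvN4

/-!
# Concrete localizations for shrinking a dévissage (helper27)
-/

set_option autoImplicit false
set_option linter.style.haveILetI false
set_option linter.unusedSectionVars false
universe u
open AlgebraicGeometry CategoryTheory

namespace Groth.Agent.Helper27.Dv

section awayAlg

variable {A B : Type u} [CommRing A] [CommRing B] [Algebra A B] (a : A) (b : B)

theorem isUnit_away_of_dvd (h : algebraMap A B a ∣ b) :
    IsUnit (algebraMap A (Localization.Away b) a) := by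
  rw [IsScalarTower.algebraMap_apply A B (Localization.Away b)]
  exact isUnit_of_dvd_unit ((algebraMap B (Localization.Away b)).map_dvd h)
    (IsLocalization.Away.algebraMap_isUnit b)

/-- the algebra structure between two localizations away from an element. -/
noncomputable def awayAlg (h : IsUnit (algebraMap A (Localization.Away b) a)) :
    Algebra (Localization.Away a) (Localization.Away b) :=
  (IsLocalization.Away.lift a h).toAlgebra

theorem awayAlg_tower (h : IsUnit (algebraMap A (Localization.Away b) a)) :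
    letI := awayAlg a b h
    IsScalarTower A (Localization.Away a) (Localization.Away b) :=
  letI := awayAlg a b h
  IsScalarTower.of_algebraMap_eq fun x => (IsLocalization.Away.lift_eq a h x).symm

end awayAlg

section openness

variable (R D : Type u) [CommRing R] [CommRing D] [Algebra R D]

/-- a standard open of the base inside the image of a standard open of a smooth algebra. -/
theorem exists_basicOpen_subset_image (n : ℕ) (hsm : FlatCA.SmoothRelDim n R D)
    (p : Ideal R) [p.IsPrime] (y : Ideal D) [y.IsPrime] [y.LiesOver p] (w : D) (hw : w ∉ y) :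
    ∃ g : R, g ∉ p ∧ ∀ P : PrimeSpectrum R, g ∉ P.asIdeal →
      ∃ Q : PrimeSpectrum D, w ∉ Q.asIdeal ∧ PrimeSpectrum.comap (algebraMap R D) Q = P := by
  haveI : SmoothOfRelativeDimension n (Spec.map (CommRingCat.ofHom (algebraMap R D))) := hsm
  haveI : Smooth (Spec.map (CommRingCat.ofHom (algebraMap R D))) :=
    SmoothOfRelativeDimension.smooth n _
  have hopen : IsOpenMap (PrimeSpectrum.comap (algebraMap R D)) :=
    (Spec.map (CommRingCat.ofHom (algebraMap R D))).isOpenMap
  have hU : IsOpen (PrimeSpectrum.comap (algebraMap R D) '' (PrimeSpectrum.basicOpen w : Set _)) :=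
    hopen _ (PrimeSpectrum.basicOpen w).isOpen
  have hp : (⟨p, inferInstance⟩ : PrimeSpectrum R) ∈
      PrimeSpectrum.comap (algebraMap R D) '' (PrimeSpectrum.basicOpen w : Set _) :=
    ⟨⟨y, inferInstance⟩, hw, PrimeSpectrum.ext (Ideal.over_def y p).symm⟩
  obtain ⟨_, ⟨g, rfl⟩, hpg, hsub⟩ :=
    PrimeSpectrum.isTopologicalBasis_basic_opens.exists_subset_of_mem_open hp hU
  refine ⟨g, hpg, fun P hP => ?_⟩
  obtain ⟨Q, hQ, rfl⟩ := hsub hP
  exact ⟨Q, hQ, rfl⟩

/-- surjectivity on spectra after shrinking to the image. -/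
theorem comap_surjective_away (R₁ D₁ : Type u) [CommRing R₁] [CommRing D₁] [Algebra R R₁]
    [Algebra D D₁] [Algebra R₁ D₁] [Algebra R D₁] [IsScalarTower R R₁ D₁] [IsScalarTower R D D₁]
    (g : R) (w : D) [IsLocalization.Away g R₁] [IsLocalization.Away (w * algebraMap R D g) D₁]
    (H : ∀ P : PrimeSpectrum R, g ∉ P.asIdeal →
      ∃ Q : PrimeSpectrum D, w ∉ Q.asIdeal ∧ PrimeSpectrum.comap (algebraMap R D) Q = P) :
    Function.Surjective (PrimeSpectrum.comap (algebraMap R₁ D₁)) := by
  intro P₁
  have hgP : g ∉ (PrimeSpectrum.comap (algebraMap R R₁) P₁).asIdeal := by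
    intro hmem
    exact P₁.isPrime.ne_top (Ideal.eq_top_of_isUnit_mem _ hmem
      (IsLocalization.Away.algebraMap_isUnit g))
  obtain ⟨Q, hwQ, hQ⟩ := H _ hgP
  have hgQ : algebraMap R D g ∉ Q.asIdeal := by
    intro hmem
    apply hgP
    rw [← hQ]
    exact hmem
  have hYQ : w * algebraMap R D g ∉ Q.asIdeal := by
    intro hmem
    rcases Q.isPrime.mem_or_mem hmem with h | h
    · exact hwQ h
    · exact hgQ h
  haveI hQ₁ : (Q.asIdeal.map (algebraMap D D₁)).IsPrime :=
    isPrime_map_away D (w * algebraMap R D g) D₁ Q.asIdeal hYQ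
  haveI : (Q.asIdeal.map (algebraMap D D₁)).LiesOver Q.asIdeal :=
    liesOver_map_away D (w * algebraMap R D g) D₁ Q.asIdeal hYQ
  refine ⟨⟨Q.asIdeal.map (algebraMap D D₁), hQ₁⟩, ?_⟩
  apply PrimeSpectrum.localization_comap_injective R₁ (Submonoid.powers g)
  rw [← hQ, ← PrimeSpectrum.comap_comp_apply,
    ← IsScalarTower.algebraMap_eq, IsScalarTower.algebraMap_eq R D D₁,
    PrimeSpectrum.comap_comp_apply]
  congr 1
  exact PrimeSpectrum.ext (Ideal.over_def (Q.asIdeal.map (algebraMap D D₁)) Q.asIdeal).symm

end openness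

end Groth.Agent.Helper27.Dv
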