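import Mathlib
import Groth.Prelude
import Groth.Agent.Lib.Helper27.DvN5

/-!
# Shrinking inside a given neighbourhood (helper27)
-/

set_option autoImplicit false
set_option linter.style.haveILetI false
set_option linter.unusedSectionVars false
universe u

namespace Groth.Agent.Helper27.Dv

/-- localizations away from elements with the same radical agree. -/
theorem away_of_dvd_of_dvd {C : Type u} [CommRing C] (a b : C) (L : Type u) [CommRing L]
    [Algebra C L] [IsLocalization.Away b L] (h1 : a ∣ b) (h2 : b ∣ a ^ 2) :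
    IsLocalization.Away a L := by
  have hN : IsLocalization (Submonoid.powers a ⊔ Submonoid.powers b) L := by
    refine (IsLocalization.iff_of_le_of_exists_dvd (M := Submonoid.powers b)
      (Submonoid.powers a ⊔ Submonoid.powers b) le_sup_right ?_).mp inferInstance
    intro n hn
    obtain ⟨x, ⟨i, rfl⟩, y, ⟨j, rfl⟩, rfl⟩ := Submonoid.mem_sup.mp hn
    exact ⟨b ^ (i + j), ⟨i + j, rfl⟩, by
      rw [pow_add]
      exact mul_dvd_mul (pow_dvd_pow_of_dvd h1 i) dvd_rfl⟩
  refine (IsLocalization.iff_of_le_of_exists_dvd (M := Submonoid.powers a)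
    (Submonoid.powers a ⊔ Submonoid.powers b) le_sup_left ?_).mpr hN
  intro n hn
  obtain ⟨x, ⟨i, rfl⟩, y, ⟨j, rfl⟩, rfl⟩ := Submonoid.mem_sup.mp hn
  refine ⟨a ^ (i + 2 * j), ⟨i + 2 * j, rfl⟩, ?_⟩
  rw [pow_add, pow_mul]
  exact mul_dvd_mul dvd_rfl (pow_dvd_pow_of_dvd h2 j)

/-- a neighbourhood of the unique point over `y` contains the preimage of a standard open. -/
theorem exists_dvd_of_unique_prime (D C : Type u) [CommRing D] [CommRing C] [Algebra D C]
    [Module.Finite D C] (y : Ideal D) [y.IsPrime] (z : Ideal C) [z.IsPrime]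
    (h3 : ∀ (z₁ : Ideal C) [z₁.IsPrime], z₁.LiesOver y → z₁ = z) (c : C) (hc : c ∉ z) :
    ∃ w : D, w ∉ y ∧ c ∣ algebraMap D C w := by
  by_contra hcon
  push Not at hcon
  have hle : (Ideal.span {c}).comap (algebraMap D C) ≤ y := by
    intro w hw
    by_contra hwy
    exact hcon w hwy (Ideal.mem_span_singleton.mp hw)
  haveI : Algebra.IsIntegral D C := Algebra.IsIntegral.of_finite D C
  obtain ⟨Q, hQ, hQp, hQy⟩ := Ideal.exists_ideal_over_prime_of_isIntegral y (Ideal.span {c}) hle
  have hQz : Q = z := h3 Q ⟨hQy.symm⟩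
  apply hc
  rw [← hQz]
  exact hQ (Ideal.mem_span_singleton_self c)

end Groth.Agent.Helper27.Dv
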