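import Mathlib
import Groth.Prelude
import Groth.Agent.Lib.Helper27.DvN6
import Groth.Agent.Lib.Helper27.DvM

/-!
# Shrinking a complete dévissage: the localized pieces (helper27)
-/

set_option autoImplicit false
set_option linter.style.haveILetI false
set_option linter.unusedSectionVars false
universe u

namespace Groth.Agent.Helper27.Dv

section setup

variable {R S : Type u} [CommRing R] [CommRing S] [Algebra R S]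
  {N : Type u} [AddCommGroup N] [Module S N]
  {p : Ideal R} [p.IsPrime] (𝒟 : FlatCA.CompleteDevissage R S N p)
  (g : R) (b0 : ∀ i, 𝒟.B i)

/-- the elements of `B i` to invert. -/
def bE (i : ℕ) : 𝒟.B i := b0 i * algebraMap R (𝒟.B i) g

/-- the elements of `A i` to invert. -/
def aE : ∀ i, 𝒟.A i
  | 0 => algebraMap (𝒟.B 0) (𝒟.A 0) (bE 𝒟 g b0 0)
  | (i + 1) => algebraMap (𝒟.B i) (𝒟.A (i + 1)) (bE 𝒟 g b0 i) *
      algebraMap (𝒟.B (i + 1)) (𝒟.A (i + 1)) (bE 𝒟 g b0 (i + 1))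

/-- the localized base. -/
abbrev sR : Type u := Localization.Away g
/-- the localized smooth algebras. -/
abbrev sT (i : ℕ) : Type u := Localization.Away (bE 𝒟 g b0 i)
/-- the localized rings. -/
abbrev sA (i : ℕ) : Type u := Localization.Away (aE 𝒟 g b0 i)
/-- the localized modules. -/
abbrev sM (i : ℕ) : Type u := LocalizedModule (Submonoid.powers (aE 𝒟 g b0 i)) (𝒟.M i)

theorem dvd_aE_self (i : ℕ) : algebraMap (𝒟.B i) (𝒟.A i) (bE 𝒟 g b0 i) ∣ aE 𝒟 g b0 i := by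
  cases i with
  | zero => exact dvd_rfl
  | succ j => exact Dvd.intro_left _ rfl

theorem dvd_aE_succ (i : ℕ) :
    algebraMap (𝒟.B i) (𝒟.A (i + 1)) (bE 𝒟 g b0 i) ∣ aE 𝒟 g b0 (i + 1) :=
  Dvd.intro _ rfl

theorem g_dvd_bE (i : ℕ) : algebraMap R (𝒟.B i) g ∣ bE 𝒟 g b0 i := Dvd.intro_left _ rfl

theorem g_dvd_aE (i : ℕ) : algebraMap R (𝒟.A i) g ∣ aE 𝒟 g b0 i := by
  refine dvd_trans ?_ (dvd_aE_self 𝒟 g b0 i)
  rw [IsScalarTower.algebraMap_apply R (𝒟.B i) (𝒟.A i)]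
  exact (algebraMap (𝒟.B i) (𝒟.A i)).map_dvd (g_dvd_bE 𝒟 g b0 i)

theorem uRT (i : ℕ) : IsUnit (algebraMap R (sT 𝒟 g b0 i) g) :=
  isUnit_away_of_dvd g _ (g_dvd_bE 𝒟 g b0 i)

theorem uRA (i : ℕ) : IsUnit (algebraMap R (sA 𝒟 g b0 i) g) :=
  isUnit_away_of_dvd g _ (g_dvd_aE 𝒟 g b0 i)

theorem uTA (i : ℕ) : IsUnit (algebraMap (𝒟.B i) (sA 𝒟 g b0 i) (bE 𝒟 g b0 i)) :=
  isUnit_away_of_dvd _ _ (dvd_aE_self 𝒟 g b0 i)

theorem uTA2 (i : ℕ) : IsUnit (algebraMap (𝒟.B i) (sA 𝒟 g b0 (i + 1)) (bE 𝒟 g b0 i)) :=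
  isUnit_away_of_dvd _ _ (dvd_aE_succ 𝒟 g b0 i)

noncomputable instance sAlgRT (i : ℕ) : Algebra (sR g) (sT 𝒟 g b0 i) :=
  awayAlg g _ (uRT 𝒟 g b0 i)

instance sTowRRT (i : ℕ) : IsScalarTower R (sR g) (sT 𝒟 g b0 i) :=
  awayAlg_tower g _ (uRT 𝒟 g b0 i)

noncomputable instance sAlgRA (i : ℕ) : Algebra (sR g) (sA 𝒟 g b0 i) :=
  awayAlg g _ (uRA 𝒟 g b0 i)

instance sTowRRA (i : ℕ) : IsScalarTower R (sR g) (sA 𝒟 g b0 i) :=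
  awayAlg_tower g _ (uRA 𝒟 g b0 i)

noncomputable instance sAlgTA (i : ℕ) : Algebra (sT 𝒟 g b0 i) (sA 𝒟 g b0 i) :=
  awayAlg _ _ (uTA 𝒟 g b0 i)

instance sTowBTA (i : ℕ) : IsScalarTower (𝒟.B i) (sT 𝒟 g b0 i) (sA 𝒟 g b0 i) :=
  awayAlg_tower _ _ (uTA 𝒟 g b0 i)

instance sTowRTAp (i : ℕ) : IsScalarTower R (sT 𝒟 g b0 i) (sA 𝒟 g b0 i) :=
  IsScalarTower.of_algebraMap_eq fun x => by
    rw [IsScalarTower.algebraMap_apply R (𝒟.B i) (sT 𝒟 g b0 i),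
      ← IsScalarTower.algebraMap_apply (𝒟.B i) (sT 𝒟 g b0 i) (sA 𝒟 g b0 i),
      IsScalarTower.algebraMap_apply (𝒟.B i) (𝒟.A i) (sA 𝒟 g b0 i),
      ← IsScalarTower.algebraMap_apply R (𝒟.B i) (𝒟.A i),
      ← IsScalarTower.algebraMap_apply R (𝒟.A i) (sA 𝒟 g b0 i)]

instance sTowRTA (i : ℕ) : IsScalarTower (sR g) (sT 𝒟 g b0 i) (sA 𝒟 g b0 i) :=
  tower_of_isLocalization R (Submonoid.powers g) (sR g) _ _

noncomputable instance sAlgTA2 (i : ℕ) : Algebra (sT 𝒟 g b0 i) (sA 𝒟 g b0 (i + 1)) :=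
  awayAlg _ _ (uTA2 𝒟 g b0 i)

instance sTowBTA2 (i : ℕ) : IsScalarTower (𝒟.B i) (sT 𝒟 g b0 i) (sA 𝒟 g b0 (i + 1)) :=
  awayAlg_tower _ _ (uTA2 𝒟 g b0 i)

instance sTowRTA2p (i : ℕ) : IsScalarTower R (sT 𝒟 g b0 i) (sA 𝒟 g b0 (i + 1)) :=
  IsScalarTower.of_algebraMap_eq fun x => by
    rw [IsScalarTower.algebraMap_apply R (𝒟.B i) (sT 𝒟 g b0 i),
      ← IsScalarTower.algebraMap_apply (𝒟.B i) (sT 𝒟 g b0 i) (sA 𝒟 g b0 (i + 1)),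
      IsScalarTower.algebraMap_apply (𝒟.B i) (𝒟.A (i + 1)) (sA 𝒟 g b0 (i + 1)),
      ← IsScalarTower.algebraMap_apply R (𝒟.B i) (𝒟.A (i + 1)),
      ← IsScalarTower.algebraMap_apply R (𝒟.A (i + 1)) (sA 𝒟 g b0 (i + 1))]

instance sTowRTA2 (i : ℕ) : IsScalarTower (sR g) (sT 𝒟 g b0 i) (sA 𝒟 g b0 (i + 1)) :=
  tower_of_isLocalization R (Submonoid.powers g) (sR g) _ _

/-- the module structures on the localized modules. -/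
noncomputable instance sModTM (i : ℕ) : Module (sT 𝒟 g b0 i) (sM 𝒟 g b0 i) :=
  Module.compHom _ (algebraMap (sT 𝒟 g b0 i) (sA 𝒟 g b0 i))

instance sTowTAM (i : ℕ) : IsScalarTower (sT 𝒟 g b0 i) (sA 𝒟 g b0 i) (sM 𝒟 g b0 i) :=
  IsScalarTower.of_algebraMap_smul fun _ _ => rfl

noncomputable instance sModRM (i : ℕ) : Module (sR g) (sM 𝒟 g b0 i) :=
  Module.compHom _ (algebraMap (sR g) (sA 𝒟 g b0 i))

instance sTowRAM (i : ℕ) : IsScalarTower (sR g) (sA 𝒟 g b0 i) (sM 𝒟 g b0 i) :=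
  IsScalarTower.of_algebraMap_smul fun _ _ => rfl

instance sTowRTM (i : ℕ) : IsScalarTower (sR g) (sT 𝒟 g b0 i) (sM 𝒟 g b0 i) :=
  IsScalarTower.of_algebraMap_smul fun r x => by
    rw [← algebraMap_smul (sA 𝒟 g b0 i) (algebraMap (sR g) (sT 𝒟 g b0 i) r) x,
      ← IsScalarTower.algebraMap_apply (sR g) (sT 𝒟 g b0 i) (sA 𝒟 g b0 i), algebraMap_smul]

noncomputable instance sModTM2 (i : ℕ) : Module (sT 𝒟 g b0 i) (sM 𝒟 g b0 (i + 1)) :=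
  Module.compHom _ (algebraMap (sT 𝒟 g b0 i) (sA 𝒟 g b0 (i + 1)))

instance sTowTAM2 (i : ℕ) :
    IsScalarTower (sT 𝒟 g b0 i) (sA 𝒟 g b0 (i + 1)) (sM 𝒟 g b0 (i + 1)) :=
  IsScalarTower.of_algebraMap_smul fun _ _ => rfl

instance sTowBAM (i : ℕ) : IsScalarTower (𝒟.B i) (𝒟.A i) (sM 𝒟 g b0 i) := inferInstance

instance sTowBTM (i : ℕ) : IsScalarTower (𝒟.B i) (sT 𝒟 g b0 i) (sM 𝒟 g b0 i) :=
  IsScalarTower.of_algebraMap_smul fun r x => by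
    rw [← algebraMap_smul (sA 𝒟 g b0 i) (algebraMap (𝒟.B i) (sT 𝒟 g b0 i) r) x,
      ← IsScalarTower.algebraMap_apply (𝒟.B i) (sT 𝒟 g b0 i) (sA 𝒟 g b0 i),
      IsScalarTower.algebraMap_apply (𝒟.B i) (𝒟.A i) (sA 𝒟 g b0 i), algebraMap_smul,
      algebraMap_smul]

instance sTowBAM2 (i : ℕ) : IsScalarTower (𝒟.B i) (𝒟.A (i + 1)) (sM 𝒟 g b0 (i + 1)) :=
  inferInstance

instance sTowBTM2 (i : ℕ) : IsScalarTower (𝒟.B i) (sT 𝒟 g b0 i) (sM 𝒟 g b0 (i + 1)) :=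
  IsScalarTower.of_algebraMap_smul fun r x => by
    rw [← algebraMap_smul (sA 𝒟 g b0 (i + 1)) (algebraMap (𝒟.B i) (sT 𝒟 g b0 i) r) x,
      ← IsScalarTower.algebraMap_apply (𝒟.B i) (sT 𝒟 g b0 i) (sA 𝒟 g b0 (i + 1)),
      IsScalarTower.algebraMap_apply (𝒟.B i) (𝒟.A (i + 1)) (sA 𝒟 g b0 (i + 1)), algebraMap_smul,
      algebraMap_smul]

/-- the localization maps of the modules. -/
noncomputable def gE (i : ℕ) : 𝒟.M i →ₗ[𝒟.A i] sM 𝒟 g b0 i :=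
  LocalizedModule.mkLinearMap (Submonoid.powers (aE 𝒟 g b0 i)) (𝒟.M i)

/-- the localization maps as `B i`-linear maps. -/
noncomputable def gEB (i : ℕ) : 𝒟.M i →ₗ[𝒟.B i] sM 𝒟 g b0 i :=
  (gE 𝒟 g b0 i).restrictScalars (𝒟.B i)

/-- the localization maps of the next modules as `B i`-linear maps. -/
noncomputable def gEB2 (i : ℕ) : 𝒟.M (i + 1) →ₗ[𝒟.B i] sM 𝒟 g b0 (i + 1) :=
  (gE 𝒟 g b0 (i + 1)).restrictScalars (𝒟.B i)

/-- the localized maps from the free modules. -/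
noncomputable def alphaE (i : ℕ) : (Fin (𝒟.r i) → sT 𝒟 g b0 i) →ₗ[sT 𝒟 g b0 i] sM 𝒟 g b0 i :=
  alphaBC (𝒟.B i) (sT 𝒟 g b0 i) (𝒟.M i) (sM 𝒟 g b0 i) (gEB 𝒟 g b0 i) (𝒟.r i) (𝒟.α i)

end setup

end Groth.Agent.Helper27.Dv
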