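import Mathlib
import Groth.Prelude
import Groth.Agent.Lib.Helper27.DvS1

/-!
# Shrinking a complete dévissage: the facts for the localized pieces (helper27)
-/

set_option autoImplicit false
set_option linter.style.haveILetI false
set_option linter.unusedSectionVars false
universe u
open TensorProduct Topology

namespace Groth.Agent.Helper27.Dv

section loc

variable (R S : Type u) [CommRing R] [CommRing S] [Algebra R S]
  (N : Type u) [AddCommGroup N] [Module S N] [Module R N] [IsScalarTower R S N]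
  [Module.Finite S N] (p : Ideal R) [p.IsPrime]
  (R₁ S₁ : Type u) [CommRing R₁] [CommRing S₁] [Algebra R R₁] [Algebra S S₁] [Algebra R₁ S₁]
  [Algebra R S₁] [IsScalarTower R R₁ S₁] [IsScalarTower R S S₁]
  (g : R) [IsLocalization.Away g R₁] (hX : S) [IsLocalization.Away hX S₁]
  (p₁ : Ideal R₁) [p₁.IsPrime] [p₁.LiesOver p]
  (N₁ : Type u) [AddCommGroup N₁] [Module S₁ N₁] [Module R₁ N₁] [IsScalarTower R₁ S₁ N₁]
  [Module S N₁] [IsScalarTower S S₁ N₁] (fN : N →ₗ[S] N₁) (hfN : IsBaseChange S₁ fN)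

include g hX hfN in
/-- the local dimension of the fibre support is unchanged by localization at a point. -/
theorem locDim_localization (n : ℕ) (q : Ideal S) [q.IsPrime] [q.LiesOver p]
    (q₁ : Ideal S₁) [q₁.IsPrime] [q₁.LiesOver q] [q₁.LiesOver p₁]
    (h1 : ∃ (ξ : PrimeSpectrum (p.Fiber S))
      (hξ : ξ ∈ Module.support (p.Fiber S) (FlatCA.fiberMod p S N)),
      ξ.asIdeal = FlatCA.fiberIdeal p q ∧
      FlatMor.localDim (Module.support (p.Fiber S) (FlatCA.fiberMod p S N)) ⟨ξ, hξ⟩ = n) :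
    ∃ (ξ' : PrimeSpectrum (p₁.Fiber S₁))
      (hξ' : ξ' ∈ Module.support (p₁.Fiber S₁) (FlatCA.fiberMod p₁ S₁ N₁)),
      ξ'.asIdeal = FlatCA.fiberIdeal p₁ q₁ ∧
      FlatMor.localDim (Module.support (p₁.Fiber S₁) (FlatCA.fiberMod p₁ S₁ N₁)) ⟨ξ', hξ'⟩ = n := by
  haveI : Module.Finite S₁ N₁ := finite_of_isBaseChange S N S₁ N₁ fN hfN
  obtain ⟨ξ, hξ, hξq, hloc⟩ := h1
  have hξ' : ξ = fibPt R S p q := eq_fibPt_of_asIdeal R S p q ξ hξq
  subst hξ'
  have hpre := preimage_fibSupp R S N p R₁ S₁ g p₁ N₁ fN hfN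
  let φ := PrimeSpectrum.comap (algebraMap S S₁)
  have hφ : IsOpenEmbedding φ := PrimeSpectrum.localization_away_isOpenEmbedding S₁ hX
  let j : ↥(fibSupp p₁ S₁ N₁) → ↥(fibSupp p S N) :=
    ((fibSupp p S N).restrictPreimage φ) ∘ (Homeomorph.setCongr hpre.symm)
  have hj : IsOpenEmbedding j :=
    (hφ.restrictPreimage (fibSupp p S N)).comp (Homeomorph.setCongr hpre.symm).isOpenEmbedding
  have hq₁q : PrimeSpectrum.comap (algebraMap S S₁) ⟨q₁, inferInstance⟩ = ⟨q, inferInstance⟩ :=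
    PrimeSpectrum.ext (Ideal.over_def q₁ q).symm
  have hqmem : (⟨q, inferInstance⟩ : PrimeSpectrum S) ∈ fibSupp p S N := by
    have := (suppHomeo p S N ⟨fibPt R S p q, hξ⟩).2
    rw [suppHomeo_coe] at this
    rwa [comap_fibPt] at this
  have hq₁mem : (⟨q₁, inferInstance⟩ : PrimeSpectrum S₁) ∈ fibSupp p₁ S₁ N₁ := by
    rw [← hpre, Set.mem_preimage, hq₁q]
    exact hqmem
  have hjx : j ⟨⟨q₁, inferInstance⟩, hq₁mem⟩ = suppHomeo p S N ⟨fibPt R S p q, hξ⟩ := by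
    apply Subtype.ext
    rw [suppHomeo_coe, comap_fibPt]
    exact hq₁q
  have hlocX : FlatMor.localDim ↥(fibSupp p S N) (j ⟨⟨q₁, inferInstance⟩, hq₁mem⟩) =
      (n : WithBot ℕ∞) := by
    rw [hjx, localDim_suppHomeo, hloc]
  have hl₁ : FlatMor.localDim ↥(fibSupp p₁ S₁ N₁) ⟨⟨q₁, inferInstance⟩, hq₁mem⟩ = n := by
    rw [← Groth.Agent.Helper14.FibreChart.localDim_openEmbedding j hj _, hlocX]
  have hmem₁ : fibPt R₁ S₁ p₁ q₁ ∈
      Module.support (p₁.Fiber S₁) (FlatCA.fiberMod p₁ S₁ N₁) := by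
    rw [support_fiberMod, Set.mem_preimage, comap_fibPt]
    exact hq₁mem.2
  refine ⟨fibPt R₁ S₁ p₁ q₁, hmem₁, fibPt_asIdeal R₁ S₁ p₁ q₁, ?_⟩
  rw [← localDim_suppHomeo, ← hl₁]
  congr 1
  apply Subtype.ext
  rw [suppHomeo_coe, comap_fibPt]

end loc

/-- localizations away from elements with the same radical agree. -/
theorem away_of_dvd_of_dvd_pow {C : Type u} [CommRing C] (a b : C) (L : Type u) [CommRing L]
    [Algebra C L] [IsLocalization.Away b L] (k : ℕ) (h1 : a ∣ b) (h2 : b ∣ a ^ k) :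
    IsLocalization.Away a L := by
  have hN : IsLocalization (Submonoid.powers a ⊔ Submonoid.powers b) L := by
    refine (IsLocalization.iff_of_le_of_exists_dvd (M := Submonoid.powers b)
      (Submonoid.powers a ⊔ Submonoid.powers b) le_sup_right ?_).mp inferInstance
    intro n hn
    obtain ⟨x, ⟨i, rfl⟩, y, ⟨j, rfl⟩, rfl⟩ := Submonoid.mem_sup.mp hn
    exact ⟨b ^ (i + j), ⟨i + j, rfl⟩, by
      rw [pow_add]
      exact mul_dvd_mul (pow_dvd_pow_of_dvd h1 i) dvd_rfl⟩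
  refine (IsLocalization.iff_of_le_of_exists_dvd (M := Submonoid.powers a)
    (Submonoid.powers a ⊔ Submonoid.powers b) le_sup_left ?_).mpr hN
  intro n hn
  obtain ⟨x, ⟨i, rfl⟩, y, ⟨j, rfl⟩, rfl⟩ := Submonoid.mem_sup.mp hn
  refine ⟨a ^ (i + k * j), ⟨i + k * j, rfl⟩, ?_⟩
  rw [pow_add, pow_mul]
  exact mul_dvd_mul dvd_rfl (pow_dvd_pow_of_dvd h2 j)

section facts

variable {R S : Type u} [CommRing R] [CommRing S] [Algebra R S]
  {N : Type u} [AddCommGroup N] [Module S N]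
  {p : Ideal R} [p.IsPrime] {q : Ideal S} [q.IsPrime] (𝒟 : FlatCA.CompleteDevissage R S N p)
  (𝒜 : FlatCA.CompleteDevissageAt R S N p q 𝒟)
  (g : R) (b0 : ∀ i, 𝒟.B i) (hX : S)

/-- the hypotheses for shrinking. -/
structure ShrinkHyp : Prop where
  hg : g ∉ p
  hgX : algebraMap R S g ∣ hX
  hXq : hX ∉ q
  hb : ∀ i, i < 𝒟.n → b0 i ∉ 𝒜.qB i
  hsurj : ∀ i, i < 𝒟.n → ∀ P : PrimeSpectrum R, g ∉ P.asIdeal →
    ∃ Q : PrimeSpectrum (𝒟.B i), b0 i ∉ Q.asIdeal ∧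
      PrimeSpectrum.comap (algebraMap R (𝒟.B i)) Q = P
  locS : IsLocalization.Away (algebraMap S (𝒟.A 0) hX) (sA 𝒟 g b0 0)
  locA : ∀ i, i < 𝒟.n →
    IsLocalization.Away (algebraMap (𝒟.B i) (𝒟.A i) (bE 𝒟 g b0 i)) (sA 𝒟 g b0 i)
  locA2 : ∀ i, i + 1 < 𝒟.n →
    IsLocalization.Away (algebraMap (𝒟.B i) (𝒟.A (i + 1)) (bE 𝒟 g b0 i)) (sA 𝒟 g b0 (i + 1))

variable {𝒟 𝒜 g b0 hX} (H : ShrinkHyp 𝒟 𝒜 g b0 hX)

include H in
theorem g_notMem_qB (i : ℕ) : algebraMap R (𝒟.B i) g ∉ 𝒜.qB i := by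
  intro hmem
  apply H.hg
  haveI := 𝒜.overB i
  rw [Ideal.over_def (𝒜.qB i) p]
  exact hmem

include H in
theorem bE_notMem (i : ℕ) (hi : i < 𝒟.n) : bE 𝒟 g b0 i ∉ 𝒜.qB i := by
  intro hmem
  haveI := 𝒜.hqB i
  rcases (inferInstance : (𝒜.qB i).IsPrime).mem_or_mem hmem with h | h
  · exact H.hb i hi h
  · exact g_notMem_qB H i h

include H in
theorem bE_notMem_qA (i : ℕ) (hi : i < 𝒟.n) :
    algebraMap (𝒟.B i) (𝒟.A i) (bE 𝒟 g b0 i) ∉ 𝒜.qA i := by
  intro hmem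
  apply bE_notMem H i hi
  haveI := 𝒜.overA i
  rw [Ideal.over_def (𝒜.qA i) (𝒜.qB i)]
  exact hmem

include H in
theorem bE_notMem_qA2 (i : ℕ) (hi : i + 1 < 𝒟.n) :
    algebraMap (𝒟.B i) (𝒟.A (i + 1)) (bE 𝒟 g b0 i) ∉ 𝒜.qA (i + 1) := by
  intro hmem
  apply bE_notMem H i (by omega)
  rw [← 𝒜.qStep i hi]
  exact hmem

include H in
theorem aE_notMem (i : ℕ) (hi : i < 𝒟.n) : aE 𝒟 g b0 i ∉ 𝒜.qA i := by
  cases i with
  | zero => exact bE_notMem_qA H 0 hi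
  | succ j =>
    intro hmem
    haveI := 𝒜.hqA (j + 1)
    rcases (inferInstance : (𝒜.qA (j + 1)).IsPrime).mem_or_mem hmem with h | h
    · exact bE_notMem_qA2 H j hi h
    · exact bE_notMem_qA H (j + 1) hi h

end facts

end Groth.Agent.Helper27.Dv
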