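import Mathlib
import Groth.Prelude
import Groth.Agent.Lib.Helper27.DvS2

/-!
# Shrinking a complete dévissage: ring-level facts for the localized pieces (helper27)
-/

set_option autoImplicit false
set_option linter.style.haveILetI false
set_option linter.unusedSectionVars false
universe u
open TensorProduct

namespace Groth.Agent.Helper27.Dv

section facts

variable {R S : Type u} [CommRing R] [CommRing S] [Algebra R S]
  {N : Type u} [AddCommGroup N] [Module S N]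
  {p : Ideal R} [p.IsPrime] {q : Ideal S} [q.IsPrime] {𝒟 : FlatCA.CompleteDevissage R S N p}
  {𝒜 : FlatCA.CompleteDevissageAt R S N p q 𝒟}
  {g : R} {b0 : ∀ i, 𝒟.B i} {hX : S} (H : ShrinkHyp 𝒟 𝒜 g b0 hX)

instance gE_isLocalizedModule (𝒟 : FlatCA.CompleteDevissage R S N p) (g : R) (b0 : ∀ i, 𝒟.B i)
    (i : ℕ) : IsLocalizedModule (Submonoid.powers (aE 𝒟 g b0 i)) (gE 𝒟 g b0 i) :=
  inferInstanceAs (IsLocalizedModule (Submonoid.powers (aE 𝒟 g b0 i))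
    (LocalizedModule.mkLinearMap (Submonoid.powers (aE 𝒟 g b0 i)) (𝒟.M i)))

/-- the extended prime of the base. -/
abbrev sP (p : Ideal R) (g : R) : Ideal (sR g) := p.map (algebraMap R (sR g))

include H in
theorem sP_isPrime : (sP p g).IsPrime := isPrime_map_away R g _ p H.hg

include H in
theorem sP_liesOver : (sP p g).LiesOver p := liesOver_map_away R g _ p H.hg

include H in
theorem push_TA (i : ℕ) (hi : i < 𝒟.n) :
    Algebra.IsPushout (𝒟.B i) (𝒟.A i) (sT 𝒟 g b0 i) (sA 𝒟 g b0 i) := by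
  haveI : IsLocalization (Algebra.algebraMapSubmonoid (𝒟.A i) (Submonoid.powers (bE 𝒟 g b0 i)))
      (sA 𝒟 g b0 i) := by
    rw [Algebra.algebraMapSubmonoid_powers]
    exact H.locA i hi
  exact Algebra.isPushout_of_isLocalization (Submonoid.powers (bE 𝒟 g b0 i)) (sT 𝒟 g b0 i)
    (𝒟.A i) (sA 𝒟 g b0 i)

include H in
theorem push_TA2 (i : ℕ) (hi : i + 1 < 𝒟.n) :
    Algebra.IsPushout (𝒟.B i) (𝒟.A (i + 1)) (sT 𝒟 g b0 i) (sA 𝒟 g b0 (i + 1)) := by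
  haveI : IsLocalization
      (Algebra.algebraMapSubmonoid (𝒟.A (i + 1)) (Submonoid.powers (bE 𝒟 g b0 i)))
      (sA 𝒟 g b0 (i + 1)) := by
    rw [Algebra.algebraMapSubmonoid_powers]
    exact H.locA2 i hi
  exact Algebra.isPushout_of_isLocalization (Submonoid.powers (bE 𝒟 g b0 i)) (sT 𝒟 g b0 i)
    (𝒟.A (i + 1)) (sA 𝒟 g b0 (i + 1))

include H in
theorem gen_finiteBA (i : ℕ) (hi : i < 𝒟.n) : Module.Finite (sT 𝒟 g b0 i) (sA 𝒟 g b0 i) := by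
  haveI : IsLocalization (Algebra.algebraMapSubmonoid (𝒟.A i) (Submonoid.powers (bE 𝒟 g b0 i)))
      (sA 𝒟 g b0 i) := by
    rw [Algebra.algebraMapSubmonoid_powers]
    exact H.locA i hi
  haveI := 𝒟.finiteBA i hi
  exact Module.Finite.of_isLocalization (𝒟.B i) (𝒟.A i) (Submonoid.powers (bE 𝒟 g b0 i))

theorem gen_finiteM (i : ℕ) (hi : i < 𝒟.n) : Module.Finite (sA 𝒟 g b0 i) (sM 𝒟 g b0 i) := by
  haveI := 𝒟.finiteM i hi
  exact Module.Finite.of_isLocalizedModule (Submonoid.powers (aE 𝒟 g b0 i))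
    (Rₚ := sA 𝒟 g b0 i) (gE 𝒟 g b0 i)

include H in
theorem gen_surjBA2 (i : ℕ) (hi : i + 1 < 𝒟.n) :
    Function.Surjective (algebraMap (sT 𝒟 g b0 i) (sA 𝒟 g b0 (i + 1))) := by
  haveI := push_TA2 H i hi
  exact RingHom.surjective_isStableUnderBaseChange (𝒟.B i) (𝒟.A (i + 1)) (sT 𝒟 g b0 i)
    (sA 𝒟 g b0 (i + 1)) (𝒟.surjBA' i hi)

include H in
theorem gen_fpBA2 (i : ℕ) (hi : i + 1 < 𝒟.n) :
    Algebra.FinitePresentation (sT 𝒟 g b0 i) (sA 𝒟 g b0 (i + 1)) := by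
  haveI := push_TA2 H i hi
  have h1 : (algebraMap (𝒟.B i) (𝒟.A (i + 1))).FinitePresentation :=
    RingHom.finitePresentation_algebraMap.mpr (𝒟.fpBA' i hi)
  exact RingHom.finitePresentation_algebraMap.mp
    (RingHom.finitePresentation_isStableUnderBaseChange (𝒟.B i) (𝒟.A (i + 1)) (sT 𝒟 g b0 i)
      (sA 𝒟 g b0 (i + 1)) h1)

theorem gen_smooth (i : ℕ) (hi : i < 𝒟.n) : Algebra.Smooth (sR g) (sT 𝒟 g b0 i) := by
  haveI := 𝒟.smooth i hi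
  haveI : Algebra.Smooth (𝒟.B i) (sT 𝒟 g b0 i) :=
    Algebra.Smooth.of_isLocalization_Away (bE 𝒟 g b0 i)
  haveI : Algebra.Smooth R (sT 𝒟 g b0 i) := Algebra.Smooth.comp R (𝒟.B i) (sT 𝒟 g b0 i)
  haveI : Algebra.FormallySmooth (sR g) (sT 𝒟 g b0 i) :=
    Algebra.FormallySmooth.localization_base (Submonoid.powers g)
  haveI : Algebra.FiniteType R (sR g) := IsLocalization.finiteType_of_monoid_fg
    (Submonoid.powers g) (sR g)
  haveI : Algebra.FinitePresentation (sR g) (sT 𝒟 g b0 i) :=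
    Algebra.FinitePresentation.of_restrict_scalars_finitePresentation R (sR g) (sT 𝒟 g b0 i)
  exact ⟨inferInstance, inferInstance⟩

include H in
theorem gen_surjective_comap (i : ℕ) (hi : i < 𝒟.n) :
    Function.Surjective (PrimeSpectrum.comap (algebraMap (sR g) (sT 𝒟 g b0 i))) := by
  haveI : IsLocalization.Away (b0 i * algebraMap R (𝒟.B i) g) (sT 𝒟 g b0 i) :=
    (inferInstance : IsLocalization.Away (bE 𝒟 g b0 i) (sT 𝒟 g b0 i))
  exact comap_surjective_away R (𝒟.B i) (sR g) (sT 𝒟 g b0 i) g (b0 i) (H.hsurj i hi)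

include H in
theorem gen_geomIrred (i : ℕ) (hi : i < 𝒟.n) : FlatCA.GeomIrredFibres (sR g) (sT 𝒟 g b0 i) :=
  geomIrredFibres_away R (𝒟.B i) (sR g) (sT 𝒟 g b0 i) g (bE 𝒟 g b0 i) (𝒟.geomIrred i hi)
    (gen_surjective_comap H i hi)

theorem gen_relDim (i : ℕ) (hi : i < 𝒟.n) :
    FlatCA.SmoothRelDim (𝒜.d i) (sR g) (sT 𝒟 g b0 i) :=
  smoothRelDim_away R (𝒟.B i) (sR g) (sT 𝒟 g b0 i) g (bE 𝒟 g b0 i) (𝒜.d i) (𝒜.relDim i hi)

theorem sP_map_eq (i : ℕ) :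
    (sP p g).map (algebraMap (sR g) (sT 𝒟 g b0 i)) =
      (p.map (algebraMap R (𝒟.B i))).map (algebraMap (𝒟.B i) (sT 𝒟 g b0 i)) := by
  rw [Ideal.map_map, Ideal.map_map, ← IsScalarTower.algebraMap_eq, ← IsScalarTower.algebraMap_eq]

include H in
theorem bE_notMem_map (i : ℕ) (hi : i < 𝒟.n) :
    bE 𝒟 g b0 i ∉ p.map (algebraMap R (𝒟.B i)) := by
  intro hmem
  apply bE_notMem H i hi
  have hle : p.map (algebraMap R (𝒟.B i)) ≤ 𝒜.qB i := by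
    rw [Ideal.map_le_iff_le_comap]
    haveI := 𝒜.overB i
    exact (Ideal.over_def (𝒜.qB i) p).le
  exact hle hmem

include H in
theorem gen_hp (i : ℕ) (hi : i < 𝒟.n) :
    ((sP p g).map (algebraMap (sR g) (sT 𝒟 g b0 i))).IsPrime := by
  rw [sP_map_eq]
  exact isPrime_map_away (𝒟.B i) (bE 𝒟 g b0 i) _ _ (bE_notMem_map H i hi)

theorem gE_isBaseChange (i : ℕ) : IsBaseChange (sA 𝒟 g b0 i) (gE 𝒟 g b0 i) :=
  IsLocalizedModule.isBaseChange (Submonoid.powers (aE 𝒟 g b0 i)) (sA 𝒟 g b0 i) (gE 𝒟 g b0 i)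

include H in
theorem gEB_isBaseChange (i : ℕ) (hi : i < 𝒟.n) :
    IsBaseChange (sT 𝒟 g b0 i) (gEB 𝒟 g b0 i) := by
  haveI : Algebra.IsPushout (𝒟.B i) (sT 𝒟 g b0 i) (𝒟.A i) (sA 𝒟 g b0 i) :=
    Algebra.IsPushout.symm (push_TA H i hi)
  exact isBaseChange_of_isPushout (𝒟.B i) (𝒟.A i) (sT 𝒟 g b0 i) (sA 𝒟 g b0 i) (𝒟.M i)
    (sM 𝒟 g b0 i) (gE 𝒟 g b0 i) (gE_isBaseChange i)

include H in
theorem gEB2_isBaseChange (i : ℕ) (hi : i + 1 < 𝒟.n) :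
    IsBaseChange (sT 𝒟 g b0 i) (gEB2 𝒟 g b0 i) := by
  haveI : Algebra.IsPushout (𝒟.B i) (sT 𝒟 g b0 i) (𝒟.A (i + 1)) (sA 𝒟 g b0 (i + 1)) :=
    Algebra.IsPushout.symm (push_TA2 H i hi)
  exact isBaseChange_of_isPushout (𝒟.B i) (𝒟.A (i + 1)) (sT 𝒟 g b0 i) (sA 𝒟 g b0 (i + 1))
    (𝒟.M (i + 1)) (sM 𝒟 g b0 (i + 1)) (gE 𝒟 g b0 (i + 1)) (gE_isBaseChange (i + 1))

theorem gen_range (i : ℕ) :
    LinearMap.range (alphaE 𝒟 g b0 i) =
      Submodule.span (sT 𝒟 g b0 i)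
        ((gE 𝒟 g b0 i) '' (LinearMap.range (𝒟.α i) : Set (𝒟.M i))) :=
  range_alphaBC (𝒟.B i) (sT 𝒟 g b0 i) (𝒟.M i) (sM 𝒟 g b0 i) (gEB 𝒟 g b0 i) (𝒟.r i) (𝒟.α i)

include H in
theorem gen_cokerLast (i : ℕ) (hi : i < 𝒟.n) (hα : Function.Surjective (𝒟.α i)) :
    Function.Surjective (alphaE 𝒟 g b0 i) :=
  alphaBC_surjective (𝒟.B i) (sT 𝒟 g b0 i) (𝒟.M i) (sM 𝒟 g b0 i) (gEB 𝒟 g b0 i)
    (gEB_isBaseChange H i hi) (𝒟.r i) (𝒟.α i) hα

include H in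
theorem gen_isoCoker (i : ℕ) (h : i + 1 < 𝒟.n) :
    Nonempty ((sM 𝒟 g b0 i ⧸ LinearMap.range (alphaE 𝒟 g b0 i)) ≃ₗ[sT 𝒟 g b0 i]
      sM 𝒟 g b0 (i + 1)) := by
  have hi : i < 𝒟.n := by omega
  let π : 𝒟.M i →ₗ[𝒟.B i] 𝒟.M (i + 1) :=
    (𝒟.isoCoker i h).toLinearMap ∘ₗ (LinearMap.range (𝒟.α i)).mkQ
  have hπ : Function.Surjective π :=
    (𝒟.isoCoker i h).surjective.comp (Submodule.mkQ_surjective _)
  have hker : LinearMap.ker π = LinearMap.range (𝒟.α i) := by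
    rw [LinearMap.ker_comp, LinearEquiv.ker, Submodule.comap_bot, Submodule.ker_mkQ]
  exact nonempty_cokerEquiv (𝒟.B i) (sT 𝒟 g b0 i) (𝒟.M i) (𝒟.M (i + 1)) (sM 𝒟 g b0 i)
    (sM 𝒟 g b0 (i + 1)) (gEB 𝒟 g b0 i) (gEB_isBaseChange H i hi)
    (gEB2 𝒟 g b0 i) (gEB2_isBaseChange H i h) (𝒟.r i) (𝒟.α i) π hπ hker

include H in
theorem gen_fibreIso (i : ℕ) (hi : i < 𝒟.n)
    [hP : ((sP p g).map (algebraMap (sR g) (sT 𝒟 g b0 i))).IsPrime] :
    Function.Bijective ((alphaE 𝒟 g b0 i).baseChange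
      ((sP p g).map (algebraMap (sR g) (sT 𝒟 g b0 i))).ResidueField) := by
  have hover : p.map (algebraMap R (𝒟.B i)) =
      ((sP p g).map (algebraMap (sR g) (sT 𝒟 g b0 i))).comap
        (algebraMap (𝒟.B i) (sT 𝒟 g b0 i)) := by
    have h1 := (liesOver_map_away (𝒟.B i) (bE 𝒟 g b0 i) (sT 𝒟 g b0 i)
      (p.map (algebraMap R (𝒟.B i))) (bE_notMem_map H i hi)).over
    rw [Ideal.under_def, ← sP_map_eq] at h1
    exact h1
  letI aKK : Algebra (p.map (algebraMap R (𝒟.B i))).ResidueField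
      ((sP p g).map (algebraMap (sR g) (sT 𝒟 g b0 i))).ResidueField :=
    (Ideal.ResidueField.map _ _ (algebraMap (𝒟.B i) (sT 𝒟 g b0 i)) hover).toAlgebra
  letI aBK : Algebra (𝒟.B i) ((sP p g).map (algebraMap (sR g) (sT 𝒟 g b0 i))).ResidueField :=
    ((algebraMap (sT 𝒟 g b0 i)
      ((sP p g).map (algebraMap (sR g) (sT 𝒟 g b0 i))).ResidueField).comp
      (algebraMap (𝒟.B i) (sT 𝒟 g b0 i))).toAlgebra
  haveI : IsScalarTower (𝒟.B i) (sT 𝒟 g b0 i)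
      ((sP p g).map (algebraMap (sR g) (sT 𝒟 g b0 i))).ResidueField :=
    IsScalarTower.of_algebraMap_eq fun _ => rfl
  haveI : IsScalarTower (𝒟.B i) (p.map (algebraMap R (𝒟.B i))).ResidueField
      ((sP p g).map (algebraMap (sR g) (sT 𝒟 g b0 i))).ResidueField :=
    IsScalarTower.of_algebraMap_eq fun b =>
      (Ideal.ResidueField.map_algebraMap _ _ (algebraMap (𝒟.B i) (sT 𝒟 g b0 i)) hover b).symm
  exact bijective_alphaBC_baseChange (𝒟.B i) (sT 𝒟 g b0 i)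
    (p.map (algebraMap R (𝒟.B i))).ResidueField
    ((sP p g).map (algebraMap (sR g) (sT 𝒟 g b0 i))).ResidueField
    (𝒟.M i) (sM 𝒟 g b0 i) (gEB 𝒟 g b0 i) (gEB_isBaseChange H i hi) (𝒟.r i) (𝒟.α i)
    (𝒟.fibreIso i hi)

end facts

end Groth.Agent.Helper27.Dv
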