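import Mathlib
import Groth.Prelude
import Groth.Agent.Lib.Helper27.DvS3

/-!
# Shrinking a complete dévissage: the first ring and the points (helper27)
-/

set_option autoImplicit false
set_option linter.style.haveILetI false
set_option linter.unusedSectionVars false
universe u
open TensorProduct

namespace Groth.Agent.Helper27.Dv

section facts

variable {R S : Type u} [CommRing R] [CommRing S] [Algebra R S]
  {N : Type u} [AddCommGroup N] [Module S N]
  {p : Ideal R} [p.IsPrime] {q : Ideal S} [q.IsPrime] {𝒟 : FlatCA.CompleteDevissage R S N p}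
  {𝒜 : FlatCA.CompleteDevissageAt R S N p q 𝒟}
  {g : R} {b0 : ∀ i, 𝒟.B i} {hX : S} (H : ShrinkHyp 𝒟 𝒜 g b0 hX)

/-- the localized first ring. -/
abbrev sS (hX : S) : Type u := Localization.Away hX

include H in
theorem uRS : IsUnit (algebraMap R (sS hX) g) := isUnit_away_of_dvd g hX H.hgX

include H in
theorem uSA : IsUnit (algebraMap S (sA 𝒟 g b0 0) hX) := by
  haveI := H.locS
  rw [IsScalarTower.algebraMap_apply S (𝒟.A 0) (sA 𝒟 g b0 0)]
  exact IsLocalization.Away.algebraMap_isUnit (algebraMap S (𝒟.A 0) hX)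

/-- `R[1/g] → S[1/hX]`. -/
noncomputable def sAlgRS : Algebra (sR g) (sS hX) := awayAlg g hX (uRS H)

theorem sTowRRS :
    letI := sAlgRS H
    IsScalarTower R (sR g) (sS hX) := awayAlg_tower g hX (uRS H)

/-- `S[1/hX] → A' 0`. -/
noncomputable def sAlgSA : Algebra (sS hX) (sA 𝒟 g b0 0) := awayAlg hX _ (uSA H)

theorem sTowSSA :
    letI := sAlgSA H
    IsScalarTower S (sS hX) (sA 𝒟 g b0 0) := awayAlg_tower hX _ (uSA H)

theorem sTowRSA :
    letI := sAlgRS H
    letI := sAlgSA H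
    IsScalarTower (sR g) (sS hX) (sA 𝒟 g b0 0) := by
  letI := sAlgRS H
  letI := sAlgSA H
  haveI := sTowRRS H
  haveI := sTowSSA H
  haveI : IsScalarTower R (sS hX) (sA 𝒟 g b0 0) :=
    IsScalarTower.of_algebraMap_eq fun x => by
      rw [IsScalarTower.algebraMap_apply R S (sS hX),
        ← IsScalarTower.algebraMap_apply S (sS hX) (sA 𝒟 g b0 0),
        IsScalarTower.algebraMap_apply S (𝒟.A 0) (sA 𝒟 g b0 0),
        ← IsScalarTower.algebraMap_apply R S (𝒟.A 0),
        ← IsScalarTower.algebraMap_apply R (𝒟.A 0) (sA 𝒟 g b0 0)]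
  exact tower_of_isLocalization R (Submonoid.powers g) (sR g) _ _

/-- the context of instances for `S[1/hX]`. -/
macro "sh_ctxS" H:term : tactic => `(tactic| (
  letI aRS : Algebra (sR _) (sS _) := sAlgRS $H
  haveI tRRS : IsScalarTower _ (sR _) (sS _) := sTowRRS $H
  letI aSA : Algebra (sS _) (sA _ _ _ 0) := sAlgSA $H
  haveI tSSA : IsScalarTower _ (sS _) (sA _ _ _ 0) := sTowSSA $H
  haveI tRSA : IsScalarTower (sR _) (sS _) (sA _ _ _ 0) := sTowRSA $H))

include H in
theorem push_SA :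
    letI := sAlgSA H
    haveI := sTowSSA H
    Algebra.IsPushout S (𝒟.A 0) (sS hX) (sA 𝒟 g b0 0) := by
  letI := sAlgSA H
  haveI := sTowSSA H
  haveI : IsLocalization (Algebra.algebraMapSubmonoid (𝒟.A 0) (Submonoid.powers hX))
      (sA 𝒟 g b0 0) := by
    rw [Algebra.algebraMapSubmonoid_powers]
    exact H.locS
  exact Algebra.isPushout_of_isLocalization (Submonoid.powers hX) (sS hX) (𝒟.A 0) (sA 𝒟 g b0 0)

theorem gen_surjSA :
    letI := sAlgSA H
    Function.Surjective (algebraMap (sS hX) (sA 𝒟 g b0 0)) := by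
  letI := sAlgSA H
  haveI := sTowSSA H
  haveI := push_SA H
  exact RingHom.surjective_isStableUnderBaseChange S (𝒟.A 0) (sS hX) (sA 𝒟 g b0 0) 𝒟.surjSA

theorem gen_fpSA :
    letI := sAlgSA H
    Algebra.FinitePresentation (sS hX) (sA 𝒟 g b0 0) := by
  letI := sAlgSA H
  haveI := sTowSSA H
  haveI := push_SA H
  have h1 : (algebraMap S (𝒟.A 0)).FinitePresentation :=
    RingHom.finitePresentation_algebraMap.mpr 𝒟.fpSA
  exact RingHom.finitePresentation_algebraMap.mp
    (RingHom.finitePresentation_isStableUnderBaseChange S (𝒟.A 0) (sS hX) (sA 𝒟 g b0 0) h1)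

/-- the `S[1/hX]`-module structure of `M' 0`. -/
noncomputable def sModSM : Module (sS hX) (sM 𝒟 g b0 0) :=
  letI := sAlgSA H
  Module.compHom _ (algebraMap (sS hX) (sA 𝒟 g b0 0))

theorem sTowSAM :
    letI := sAlgSA H
    letI := sModSM H
    IsScalarTower (sS hX) (sA 𝒟 g b0 0) (sM 𝒟 g b0 0) :=
  letI := sAlgSA H
  letI := sModSM H
  IsScalarTower.of_algebraMap_smul fun _ _ => rfl

theorem sTowSSM :
    letI := sAlgSA H
    letI := sModSM H
    IsScalarTower S (sS hX) (sM 𝒟 g b0 0) := by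
  letI := sAlgSA H
  letI := sModSM H
  haveI := sTowSSA H
  haveI := sTowSAM H
  exact IsScalarTower.of_algebraMap_smul fun r x => by
    rw [← algebraMap_smul (sA 𝒟 g b0 0) (algebraMap S (sS hX) r) x,
      ← IsScalarTower.algebraMap_apply S (sS hX) (sA 𝒟 g b0 0),
      IsScalarTower.algebraMap_apply S (𝒟.A 0) (sA 𝒟 g b0 0), algebraMap_smul,
      algebraMap_smul]

include H in
theorem gen_isoN :
    letI := sModSM H
    ∃ e : LocalizedModule (Submonoid.powers hX) N ≃ₗ[sS hX] sM 𝒟 g b0 0,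
      ∀ x : N, e (LocalizedModule.mkLinearMap (Submonoid.powers hX) N x) =
        gE 𝒟 g b0 0 (𝒟.isoN x) := by
  letI := sAlgSA H
  letI := sModSM H
  haveI := sTowSSA H
  haveI := sTowSAM H
  haveI := sTowSSM H
  haveI := H.locS
  haveI : IsLocalizedModule (Submonoid.powers (algebraMap S (𝒟.A 0) hX)) (gE 𝒟 g b0 0) :=
    (isLocalizedModule_iff_isBaseChange (Submonoid.powers (algebraMap S (𝒟.A 0) hX))
      (sA 𝒟 g b0 0) (gE 𝒟 g b0 0)).mpr (gE_isBaseChange 0)
  haveI : IsLocalizedModule (Submonoid.powers hX) ((gE 𝒟 g b0 0).restrictScalars S) :=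
    IsLocalizedModule.restrictScalars_powers hX (gE 𝒟 g b0 0)
  haveI : IsLocalizedModule (Submonoid.powers hX)
      (((gE 𝒟 g b0 0).restrictScalars S) ∘ₗ (𝒟.isoN : N →ₗ[S] 𝒟.M 0)) :=
    IsLocalizedModule.of_linearEquiv_right _ _ 𝒟.isoN
  refine ⟨(IsLocalizedModule.linearEquiv (Submonoid.powers hX)
    (LocalizedModule.mkLinearMap (Submonoid.powers hX) N)
    (((gE 𝒟 g b0 0).restrictScalars S) ∘ₗ (𝒟.isoN : N →ₗ[S] 𝒟.M 0))).extendScalarsOfIsLocalization
      (Submonoid.powers hX) (sS hX), fun x => ?_⟩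
  rw [LinearEquiv.extendScalarsOfIsLocalization_apply, IsLocalizedModule.linearEquiv_apply]
  rfl

end facts

end Groth.Agent.Helper27.Dv
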