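import Mathlib
import Groth.Prelude
import Groth.Agent.Lib.Helper27.DvS4

/-!
# Shrinking a complete dévissage: the points of the localized pieces (helper27)
-/

set_option autoImplicit false
set_option linter.style.haveILetI false
set_option linter.unusedSectionVars false
universe u
open TensorProduct

namespace Groth.Agent.Helper27.Dv

section facts

variable {R S : Type u} [CommRing R] [CommRing S] [Algebra R S]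
  {N : Type u} [AddCommGroup N] [Module S N]
  {p : Ideal R} [p.IsPrime] {q : Ideal S} [q.IsPrime] {𝒟 : FlatCA.CompleteDevissage R S N p}
  {𝒜 : FlatCA.CompleteDevissageAt R S N p q 𝒟}
  {g : R} {b0 : ∀ i, 𝒟.B i} {hX : S} (H : ShrinkHyp 𝒟 𝒜 g b0 hX)

variable (𝒜 g b0) in
/-- the points of the localized smooth algebras. -/
abbrev qBE (i : ℕ) : Ideal (sT 𝒟 g b0 i) := (𝒜.qB i).map (algebraMap (𝒟.B i) (sT 𝒟 g b0 i))

variable (𝒜 g b0) in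
/-- the points of the localized rings. -/
abbrev qAE (i : ℕ) : Ideal (sA 𝒟 g b0 i) := (𝒜.qA i).map (algebraMap (𝒟.A i) (sA 𝒟 g b0 i))

include H in
theorem qBE_isPrime (i : ℕ) (hi : i < 𝒟.n) : (qBE 𝒜 g b0 i).IsPrime :=
  haveI := 𝒜.hqB i
  isPrime_map_away (𝒟.B i) (bE 𝒟 g b0 i) _ _ (bE_notMem H i hi)

include H in
theorem qBE_liesOver (i : ℕ) (hi : i < 𝒟.n) : (qBE 𝒜 g b0 i).LiesOver (𝒜.qB i) :=
  haveI := 𝒜.hqB i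
  liesOver_map_away (𝒟.B i) (bE 𝒟 g b0 i) _ _ (bE_notMem H i hi)

include H in
theorem qAE_isPrime (i : ℕ) (hi : i < 𝒟.n) : (qAE 𝒜 g b0 i).IsPrime :=
  haveI := 𝒜.hqA i
  isPrime_map_away (𝒟.A i) (aE 𝒟 g b0 i) _ _ (aE_notMem H i hi)

include H in
theorem qAE_liesOver (i : ℕ) (hi : i < 𝒟.n) : (qAE 𝒜 g b0 i).LiesOver (𝒜.qA i) :=
  haveI := 𝒜.hqA i
  liesOver_map_away (𝒟.A i) (aE 𝒟 g b0 i) _ _ (aE_notMem H i hi)

include H in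
theorem qBE_over_sP (i : ℕ) (hi : i < 𝒟.n) : (qBE 𝒜 g b0 i).LiesOver (sP p g) := by
  haveI := qBE_liesOver H i hi
  haveI := 𝒜.overB i
  refine ⟨(eq_map_of_under_eq_away R g (sR g) _ p ?_).symm⟩
  rw [Ideal.under_under (B := sR g) (A := R) (qBE 𝒜 g b0 i),
    ← Ideal.under_under (B := 𝒟.B i) (A := R) (qBE 𝒜 g b0 i),
    ← Ideal.over_def (qBE 𝒜 g b0 i) (𝒜.qB i), ← Ideal.over_def (𝒜.qB i) p]

include H in
theorem qAE_over_qBE (i : ℕ) (hi : i < 𝒟.n) : (qAE 𝒜 g b0 i).LiesOver (qBE 𝒜 g b0 i) := by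
  haveI := qAE_liesOver H i hi
  haveI := 𝒜.overA i
  refine ⟨(eq_map_of_under_eq_away (𝒟.B i) (bE 𝒟 g b0 i) (sT 𝒟 g b0 i) _ (𝒜.qB i) ?_).symm⟩
  rw [Ideal.under_under (B := sT 𝒟 g b0 i) (A := 𝒟.B i) (qAE 𝒜 g b0 i),
    ← Ideal.under_under (B := 𝒟.A i) (A := 𝒟.B i) (qAE 𝒜 g b0 i),
    ← Ideal.over_def (qAE 𝒜 g b0 i) (𝒜.qA i), ← Ideal.over_def (𝒜.qA i) (𝒜.qB i)]

include H in
theorem gen_pureTrans (i : ℕ) (hi : i < 𝒟.n)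
    [hP : (sP p g).IsPrime] [hQ : (qBE 𝒜 g b0 i).IsPrime] [hO : (qBE 𝒜 g b0 i).LiesOver (sP p g)] :
    FlatCA.PurelyTranscendental (sP p g) (qBE 𝒜 g b0 i) := by
  haveI := sP_liesOver H
  haveI := qBE_liesOver H i hi
  haveI := 𝒜.hqB i
  haveI := 𝒜.overB i
  exact purelyTranscendental_localization R (𝒟.B i) p (sR g) (sP p g) (sT 𝒟 g b0 i) (𝒜.qB i)
    (qBE 𝒜 g b0 i) g (bE 𝒟 g b0 i) (𝒜.pureTrans i hi)

include H in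
theorem gen_uniq (i : ℕ) (hi : i < 𝒟.n) (Q : Ideal (sA 𝒟 g b0 i)) [Q.IsPrime]
    (hQ : Q.LiesOver (qBE 𝒜 g b0 i)) : Q = qAE 𝒜 g b0 i := by
  haveI := qBE_liesOver H i hi
  refine eq_map_of_under_eq_away (𝒟.A i) (aE 𝒟 g b0 i) (sA 𝒟 g b0 i) Q (𝒜.qA i) ?_
  haveI : (Q.under (𝒟.A i)).IsPrime := Ideal.IsPrime.under (𝒟.A i) Q
  refine 𝒜.uniq i hi (Q.under (𝒟.A i)) ⟨?_⟩
  rw [Ideal.under_under (B := 𝒟.A i) (A := 𝒟.B i) Q,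
    ← Ideal.under_under (B := sT 𝒟 g b0 i) (A := 𝒟.B i) Q,
    ← Ideal.over_def Q (qBE 𝒜 g b0 i), ← Ideal.over_def (qBE 𝒜 g b0 i) (𝒜.qB i)]

include H in
theorem gen_q0 :
    letI := sAlgSA H
    (qAE 𝒜 g b0 0).comap (algebraMap (sS hX) (sA 𝒟 g b0 0)) =
      q.map (algebraMap S (sS hX)) := by
  letI := sAlgSA H
  haveI := sTowSSA H
  haveI := qAE_liesOver H 0 𝒟.pos
  rw [← Ideal.under_def]
  refine eq_map_of_under_eq_away S hX (sS hX) _ q ?_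
  rw [Ideal.under_under (B := sS hX) (A := S) (qAE 𝒜 g b0 0),
    ← Ideal.under_under (B := 𝒟.A 0) (A := S) (qAE 𝒜 g b0 0),
    ← Ideal.over_def (qAE 𝒜 g b0 0) (𝒜.qA 0)]
  exact 𝒜.q0

include H in
theorem gen_qStep (i : ℕ) (h : i + 1 < 𝒟.n) :
    (qAE 𝒜 g b0 (i + 1)).comap (algebraMap (sT 𝒟 g b0 i) (sA 𝒟 g b0 (i + 1))) =
      qBE 𝒜 g b0 i := by
  haveI := qAE_liesOver H (i + 1) h
  rw [← Ideal.under_def]
  refine eq_map_of_under_eq_away (𝒟.B i) (bE 𝒟 g b0 i) (sT 𝒟 g b0 i) _ (𝒜.qB i) ?_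
  rw [Ideal.under_under (B := sT 𝒟 g b0 i) (A := 𝒟.B i) (qAE 𝒜 g b0 (i + 1)),
    ← Ideal.under_under (B := 𝒟.A (i + 1)) (A := 𝒟.B i) (qAE 𝒜 g b0 (i + 1)),
    ← Ideal.over_def (qAE 𝒜 g b0 (i + 1)) (𝒜.qA (i + 1))]
  exact 𝒜.qStep i h

include H in
theorem gen_locDim (i : ℕ) (hi : i < 𝒟.n)
    [hP : (sP p g).IsPrime] :
    ∃ (x : PrimeSpectrum ((sP p g).Fiber (sT 𝒟 g b0 i)))
      (hx : x ∈ Module.support ((sP p g).Fiber (sT 𝒟 g b0 i))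
        (FlatCA.fiberMod (sP p g) (sT 𝒟 g b0 i) (sM 𝒟 g b0 i))),
      x.asIdeal = FlatCA.fiberIdeal (sP p g) (qBE 𝒜 g b0 i) ∧
      FlatMor.localDim (Module.support ((sP p g).Fiber (sT 𝒟 g b0 i))
        (FlatCA.fiberMod (sP p g) (sT 𝒟 g b0 i) (sM 𝒟 g b0 i))) ⟨x, hx⟩ = 𝒜.d i := by
  haveI := sP_liesOver H
  haveI := qBE_isPrime H i hi
  haveI := qBE_liesOver H i hi
  haveI := qBE_over_sP H i hi
  haveI := 𝒜.hqB i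
  haveI := 𝒜.overB i
  haveI : Module.Finite (𝒟.B i) (𝒟.A i) := 𝒟.finiteBA i hi
  haveI : Module.Finite (𝒟.A i) (𝒟.M i) := 𝒟.finiteM i hi
  haveI : Module.Finite (𝒟.B i) (𝒟.M i) := Module.Finite.trans (𝒟.A i) (𝒟.M i)
  exact locDim_localization R (𝒟.B i) (𝒟.M i) p (sR g) (sT 𝒟 g b0 i) g (bE 𝒟 g b0 i) (sP p g)
    (sM 𝒟 g b0 i) (gEB 𝒟 g b0 i) (gEB_isBaseChange H i hi) (𝒜.d i) (𝒜.qB i) (qBE 𝒜 g b0 i)
    (𝒜.locDim i hi)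

end facts

end Groth.Agent.Helper27.Dv
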