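import Mathlib
import Groth.Prelude
import Groth.Agent.Lib.Helper27.DvS5

/-!
# Shrinking a complete dévissage: the switched families (helper27)
-/

set_option autoImplicit false
set_option linter.style.haveILetI false
set_option linter.unusedSectionVars false
universe u
open TensorProduct

namespace Groth.Agent.Helper27.Dv

/-- the type `P` if `c` holds and `Q` otherwise (for modules). -/
def SwM (c : Prop) [d : Decidable c] (P Q : Type u) : Type u :=
  match d with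
  | isTrue _ => P
  | isFalse _ => Q

namespace Sw

variable (c : Prop) [d : Decidable c] (T U : Type u)
  (R' : Type u) [CommRing R'] [CommRing T] [CommRing U] [Algebra R' T] [Algebra R' U]
  {T' U' : Type u} [CommRing T'] [CommRing U'] [Algebra R' T'] [Algebra R' U']

/-- maps between switches. -/
noncomputable def map (f : T →ₐ[R'] T') (g : U →ₐ[R'] U') : Sw c T U →ₐ[R'] Sw c T' U' :=
  match d with
  | isTrue _ => f
  | isFalse _ => g

/-- maps into a switch. -/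
noncomputable def into {Z : Type u} [CommRing Z] [Algebra R' Z] (f : Z →ₐ[R'] T)
    (g : Z →ₐ[R'] U) : Z →ₐ[R'] Sw c T U :=
  match d with
  | isTrue _ => f
  | isFalse _ => g

/-- ideals of a switch. -/
def ideal (I : Ideal T) (J : Ideal U) : Ideal (Sw c T U) :=
  match d with
  | isTrue _ => I
  | isFalse _ => J

end Sw

namespace SwM

variable (c : Prop) [d : Decidable c] (T U : Type u) [CommRing T] [CommRing U]
  (P Q : Type u) [AddCommGroup P] [AddCommGroup Q] [Module T P] [Module U Q]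

noncomputable instance instAddCommGroup : AddCommGroup (SwM c P Q) :=
  match d with
  | isTrue _ => inferInstanceAs (AddCommGroup P)
  | isFalse _ => inferInstanceAs (AddCommGroup Q)

noncomputable instance instModule : Module (Sw c T U) (SwM c P Q) :=
  match d with
  | isTrue _ => inferInstanceAs (Module T P)
  | isFalse _ => inferInstanceAs (Module U Q)

/-- elements of a switch. -/
def elem (x : P) (y : Q) : SwM c P Q :=
  match d with
  | isTrue _ => x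
  | isFalse _ => y

end SwM

section switched

variable {R S : Type u} [CommRing R] [CommRing S] [Algebra R S]
  {N : Type u} [AddCommGroup N] [Module S N]
  {p : Ideal R} [p.IsPrime] (𝒟 : FlatCA.CompleteDevissage R S N p)
  (g : R) (b0 : ∀ i, 𝒟.B i)

/-- the switched smooth algebras. -/
abbrev wB (i : ℕ) [Decidable (i < 𝒟.n)] : Type u := Sw (i < 𝒟.n) (sT 𝒟 g b0 i) (sR g)

/-- the switched rings. -/
abbrev wA (X : Type u) (i : ℕ) [Decidable (i < 𝒟.n)] : Type u :=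
  Sw (i < 𝒟.n) (sA 𝒟 g b0 i) X

/-- the switched modules. -/
abbrev wM (X : Type u) (i : ℕ) [Decidable (i < 𝒟.n)] : Type u :=
  SwM (i < 𝒟.n) (sM 𝒟 g b0 i) X

section same

variable (X : Type u) [CommRing X] [Algebra (sR g) X] (i : ℕ) [d : Decidable (i < 𝒟.n)]

/-- `B' i → A' i`. -/
noncomputable def wfBA : wB 𝒟 g b0 i →ₐ[sR g] wA 𝒟 g b0 X i :=
  Sw.map (i < 𝒟.n) (sT 𝒟 g b0 i) (sR g) (sR g)
    (IsScalarTower.toAlgHom (sR g) (sT 𝒟 g b0 i) (sA 𝒟 g b0 i)) (Algebra.ofId (sR g) X)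

noncomputable instance wAlgBA : Algebra (wB 𝒟 g b0 i) (wA 𝒟 g b0 X i) :=
  (wfBA 𝒟 g b0 X i).toRingHom.toAlgebra

instance wTowRBA : IsScalarTower (sR g) (wB 𝒟 g b0 i) (wA 𝒟 g b0 X i) :=
  IsScalarTower.of_algebraMap_eq fun x => ((wfBA 𝒟 g b0 X i).commutes x).symm

noncomputable instance wModBM : Module (wB 𝒟 g b0 i) (wM 𝒟 g b0 X i) :=
  Module.compHom _ (algebraMap (wB 𝒟 g b0 i) (wA 𝒟 g b0 X i))

instance wTowBAM : IsScalarTower (wB 𝒟 g b0 i) (wA 𝒟 g b0 X i) (wM 𝒟 g b0 X i) :=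
  IsScalarTower.of_algebraMap_smul fun _ _ => rfl

noncomputable instance wModRM : Module (sR g) (wM 𝒟 g b0 X i) :=
  Module.compHom _ (algebraMap (sR g) (wA 𝒟 g b0 X i))

instance wTowRAM : IsScalarTower (sR g) (wA 𝒟 g b0 X i) (wM 𝒟 g b0 X i) :=
  IsScalarTower.of_algebraMap_smul fun _ _ => rfl

instance wTowRBM : IsScalarTower (sR g) (wB 𝒟 g b0 i) (wM 𝒟 g b0 X i) :=
  IsScalarTower.of_algebraMap_smul fun r x => by
    rw [← algebraMap_smul (wA 𝒟 g b0 X i) (algebraMap (sR g) (wB 𝒟 g b0 i) r) x,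
      ← IsScalarTower.algebraMap_apply (sR g) (wB 𝒟 g b0 i) (wA 𝒟 g b0 X i), algebraMap_smul]

/-- the switched maps from the free modules. -/
noncomputable def wAlpha : (Fin (𝒟.r i) → wB 𝒟 g b0 i) →ₗ[wB 𝒟 g b0 i] wM 𝒟 g b0 X i :=
  Fintype.linearCombination (wB 𝒟 g b0 i)
    (fun k => SwM.elem (i < 𝒟.n) (sM 𝒟 g b0 i) X (gE 𝒟 g b0 i (𝒟.α i (Pi.single k 1))) 0)

end same

section next

variable (i : ℕ) [d1 : Decidable (i < 𝒟.n)] [d2 : Decidable (i + 1 < 𝒟.n)]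

/-- `B' i → A' (i+1)`. -/
noncomputable def wfBA2 : wB 𝒟 g b0 i →ₐ[sR g] wA 𝒟 g b0 (wB 𝒟 g b0 i) (i + 1) :=
  Sw.into (i + 1 < 𝒟.n) (sA 𝒟 g b0 (i + 1)) (wB 𝒟 g b0 i) (sR g)
    (Sw.lift (i < 𝒟.n) (sT 𝒟 g b0 i) (sR g) (sR g)
      (IsScalarTower.toAlgHom (sR g) (sT 𝒟 g b0 i) (sA 𝒟 g b0 (i + 1)))
      (Algebra.ofId (sR g) (sA 𝒟 g b0 (i + 1))))
    (AlgHom.id (sR g) (wB 𝒟 g b0 i))

noncomputable instance wAlgBA2 : Algebra (wB 𝒟 g b0 i) (wA 𝒟 g b0 (wB 𝒟 g b0 i) (i + 1)) :=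
  (wfBA2 𝒟 g b0 i).toRingHom.toAlgebra

instance wTowRBA2 : IsScalarTower (sR g) (wB 𝒟 g b0 i) (wA 𝒟 g b0 (wB 𝒟 g b0 i) (i + 1)) :=
  IsScalarTower.of_algebraMap_eq fun x => ((wfBA2 𝒟 g b0 i).commutes x).symm

noncomputable instance wModBM2 : Module (wB 𝒟 g b0 i) (wM 𝒟 g b0 (wB 𝒟 g b0 i) (i + 1)) :=
  Module.compHom _ (algebraMap (wB 𝒟 g b0 i) (wA 𝒟 g b0 (wB 𝒟 g b0 i) (i + 1)))

instance wTowBAM2 : IsScalarTower (wB 𝒟 g b0 i) (wA 𝒟 g b0 (wB 𝒟 g b0 i) (i + 1))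
    (wM 𝒟 g b0 (wB 𝒟 g b0 i) (i + 1)) :=
  IsScalarTower.of_algebraMap_smul fun _ _ => rfl

end next

/-- the tail rings. -/
def tX : ℕ → Type u
  | 0 => sR g
  | (j + 1) => wB 𝒟 g b0 j

noncomputable instance tXring : ∀ i, CommRing (tX 𝒟 g b0 i)
  | 0 => inferInstanceAs (CommRing (sR g))
  | (j + 1) => inferInstanceAs (CommRing (wB 𝒟 g b0 j))

noncomputable instance tXalg : ∀ i, Algebra (sR g) (tX 𝒟 g b0 i)
  | 0 => inferInstanceAs (Algebra (sR g) (sR g))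
  | (j + 1) => inferInstanceAs (Algebra (sR g) (wB 𝒟 g b0 j))

end switched

end Groth.Agent.Helper27.Dv
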