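import Mathlib
import Groth.Prelude
import Groth.Agent.Lib.Helper27.DvS6

/-!
# Shrinking a complete dévissage: facts for the switched families (helper27)
-/

set_option autoImplicit false
set_option linter.style.haveILetI false
set_option linter.unusedSectionVars false
universe u
open TensorProduct

namespace Groth.Agent.Helper27.Dv

section facts

variable {R S : Type u} [CommRing R] [CommRing S] [Algebra R S]
  {N : Type u} [AddCommGroup N] [Module S N]
  {p : Ideal R} [p.IsPrime] {q : Ideal S} [q.IsPrime] {𝒟 : FlatCA.CompleteDevissage R S N p}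
  {𝒜 : FlatCA.CompleteDevissageAt R S N p q 𝒟}
  {g : R} {b0 : ∀ i, 𝒟.B i} {hX : S} (H : ShrinkHyp 𝒟 𝒜 g b0 hX)
  (X : Type u) [CommRing X] [Algebra (sR g) X]

include H in
theorem w_finiteBA (i : ℕ) (hi : i < 𝒟.n) [d : Decidable (i < 𝒟.n)] :
    Module.Finite (wB 𝒟 g b0 i) (wA 𝒟 g b0 X i) := by
  cases d with
  | isFalse h => exact absurd hi h
  | isTrue h => exact gen_finiteBA H i hi

include H in
theorem w_hp (i : ℕ) [d : Decidable (i < 𝒟.n)] [hP : (sP p g).IsPrime] :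
    ((sP p g).map (algebraMap (sR g) (wB 𝒟 g b0 i))).IsPrime := by
  cases d with
  | isFalse h =>
    change ((sP p g).map (algebraMap (sR g) (sR g))).IsPrime
    rw [Algebra.algebraMap_self, Ideal.map_id]
    exact hP
  | isTrue h => exact gen_hp H i h

include H in
theorem w_fibreIso (i : ℕ) (hi : i < 𝒟.n) [d : Decidable (i < 𝒟.n)]
    [hP : ((sP p g).map (algebraMap (sR g) (wB 𝒟 g b0 i))).IsPrime] :
    Function.Bijective ((wAlpha 𝒟 g b0 X i).baseChange
      ((sP p g).map (algebraMap (sR g) (wB 𝒟 g b0 i))).ResidueField) := by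
  cases d with
  | isFalse h => exact absurd hi h
  | isTrue h => exact gen_fibreIso H i hi (hP := hP)

theorem w_finiteM (i : ℕ) (hi : i < 𝒟.n) [d : Decidable (i < 𝒟.n)] :
    Module.Finite (wA 𝒟 g b0 X i) (wM 𝒟 g b0 X i) := by
  cases d with
  | isFalse h => exact absurd hi h
  | isTrue h => exact gen_finiteM i hi

theorem w_smooth (i : ℕ) (hi : i < 𝒟.n) [d : Decidable (i < 𝒟.n)] :
    Algebra.Smooth (sR g) (wB 𝒟 g b0 i) := by
  cases d with
  | isFalse h => exact absurd hi h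
  | isTrue h => exact gen_smooth i hi

include H in
theorem w_geomIrred (i : ℕ) (hi : i < 𝒟.n) [d : Decidable (i < 𝒟.n)] :
    FlatCA.GeomIrredFibres (sR g) (wB 𝒟 g b0 i) := by
  cases d with
  | isFalse h => exact absurd hi h
  | isTrue h => exact gen_geomIrred H i hi

theorem w_relDim (i : ℕ) (hi : i < 𝒟.n) [d : Decidable (i < 𝒟.n)] :
    FlatCA.SmoothRelDim (𝒜.d i) (sR g) (wB 𝒟 g b0 i) := by
  cases d with
  | isFalse h => exact absurd hi h
  | isTrue h => exact gen_relDim i hi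

include H in
theorem w_cokerLast (i : ℕ) (hi : i < 𝒟.n) [d : Decidable (i < 𝒟.n)]
    (hα : Function.Surjective (𝒟.α i)) : Function.Surjective (wAlpha 𝒟 g b0 X i) := by
  cases d with
  | isFalse h => exact absurd hi h
  | isTrue h => exact gen_cokerLast H i hi hα

include H in
theorem w_surjBA2 (i : ℕ) (hi : i + 1 < 𝒟.n) [d1 : Decidable (i < 𝒟.n)]
    [d2 : Decidable (i + 1 < 𝒟.n)] :
    Function.Surjective (algebraMap (wB 𝒟 g b0 i) (wA 𝒟 g b0 (wB 𝒟 g b0 i) (i + 1))) := by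
  cases d2 with
  | isFalse h => exact absurd hi h
  | isTrue h =>
    cases d1 with
    | isFalse h' => exact absurd (Nat.lt_of_succ_lt hi) h'
    | isTrue h' => exact gen_surjBA2 H i hi

include H in
theorem w_fpBA2 (i : ℕ) (hi : i + 1 < 𝒟.n) [d1 : Decidable (i < 𝒟.n)]
    [d2 : Decidable (i + 1 < 𝒟.n)] :
    Algebra.FinitePresentation (wB 𝒟 g b0 i) (wA 𝒟 g b0 (wB 𝒟 g b0 i) (i + 1)) := by
  cases d2 with
  | isFalse h => exact absurd hi h
  | isTrue h =>
    cases d1 with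
    | isFalse h' => exact absurd (Nat.lt_of_succ_lt hi) h'
    | isTrue h' => exact gen_fpBA2 H i hi

include H in
theorem w_isoCoker (i : ℕ) (hi : i + 1 < 𝒟.n) [d1 : Decidable (i < 𝒟.n)]
    [d2 : Decidable (i + 1 < 𝒟.n)] :
    Nonempty ((wM 𝒟 g b0 X i ⧸ LinearMap.range (wAlpha 𝒟 g b0 X i)) ≃ₗ[wB 𝒟 g b0 i]
      wM 𝒟 g b0 (wB 𝒟 g b0 i) (i + 1)) := by
  cases d2 with
  | isFalse h => exact absurd hi h
  | isTrue h =>
    cases d1 with
    | isFalse h' => exact absurd (Nat.lt_of_succ_lt hi) h'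
    | isTrue h' => exact gen_isoCoker H i hi

include H in
theorem w_locDim (i : ℕ) (hi : i < 𝒟.n) [d : Decidable (i < 𝒟.n)] [hP : (sP p g).IsPrime]
    (qB' : Ideal (wB 𝒟 g b0 i))
    (hq : qB' = Sw.ideal (i < 𝒟.n) (sT 𝒟 g b0 i) (sR g) (qBE 𝒜 g b0 i) (sP p g)) :
    ∃ (x : PrimeSpectrum ((sP p g).Fiber (wB 𝒟 g b0 i)))
      (hx : x ∈ Module.support ((sP p g).Fiber (wB 𝒟 g b0 i))
        (FlatCA.fiberMod (sP p g) (wB 𝒟 g b0 i) (wM 𝒟 g b0 X i))),
      x.asIdeal = FlatCA.fiberIdeal (sP p g) qB' ∧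
      FlatMor.localDim (Module.support ((sP p g).Fiber (wB 𝒟 g b0 i))
        (FlatCA.fiberMod (sP p g) (wB 𝒟 g b0 i) (wM 𝒟 g b0 X i))) ⟨x, hx⟩ = 𝒜.d i := by
  subst hq
  cases d with
  | isFalse h => exact absurd hi h
  | isTrue h => exact gen_locDim H i hi

end facts

end Groth.Agent.Helper27.Dv
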