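import Mathlib
import Groth.Prelude
import Groth.Agent.Lib.Helper27.DvS7

/-!
# Shrinking a complete dévissage: the first ring, the comparison maps and the points (helper27)
-/

set_option autoImplicit false
set_option linter.style.haveILetI false
set_option linter.unusedSectionVars false
universe u
open TensorProduct

namespace Groth.Agent.Helper27.Dv

section facts

variable {R S : Type u} [CommRing R] [CommRing S] [Algebra R S]
  {N : Type u} [AddCommGroup N] [Module S N]
  {p : Ideal R} [p.IsPrime] {q : Ideal S} [q.IsPrime] {𝒟 : FlatCA.CompleteDevissage R S N p}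
  {𝒜 : FlatCA.CompleteDevissageAt R S N p q 𝒟}
  {g : R} {b0 : ∀ i, 𝒟.B i} {hX : S} (H : ShrinkHyp 𝒟 𝒜 g b0 hX)
  (X : Type u) [CommRing X] [Algebra (sR g) X]

section zero

variable [d : Decidable (0 < 𝒟.n)]

/-- `S[1/hX] → A' 0`. -/
noncomputable def wAlgSA : Algebra (sS hX) (wA 𝒟 g b0 X 0) :=
  match d with
  | isTrue _ => sAlgSA H
  | isFalse h => absurd 𝒟.pos h

theorem wTowRSA :
    letI := sAlgRS H
    letI := wAlgSA H X
    IsScalarTower (sR g) (sS hX) (wA 𝒟 g b0 X 0) := by
  cases d with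
  | isFalse h => exact absurd 𝒟.pos h
  | isTrue h => exact sTowRSA H

/-- `S → A' 0`. -/
noncomputable def wAlgSA' : Algebra S (wA 𝒟 g b0 X 0) :=
  match d with
  | isTrue _ => inferInstanceAs (Algebra S (sA 𝒟 g b0 0))
  | isFalse h => absurd 𝒟.pos h

theorem wTowSSA :
    letI := wAlgSA H X
    letI := wAlgSA' (𝒟 := 𝒟) (g := g) (b0 := b0) X
    IsScalarTower S (sS hX) (wA 𝒟 g b0 X 0) := by
  cases d with
  | isFalse h => exact absurd 𝒟.pos h
  | isTrue h => exact sTowSSA H

/-- the `S[1/hX]`-module structure of `M' 0`. -/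
noncomputable def wModSM : Module (sS hX) (wM 𝒟 g b0 X 0) :=
  letI := wAlgSA H X
  Module.compHom _ (algebraMap (sS hX) (wA 𝒟 g b0 X 0))

theorem wTowSAM :
    letI := wAlgSA H X
    letI := wModSM H X
    IsScalarTower (sS hX) (wA 𝒟 g b0 X 0) (wM 𝒟 g b0 X 0) :=
  letI := wAlgSA H X
  letI := wModSM H X
  IsScalarTower.of_algebraMap_smul fun _ _ => rfl

theorem w_surjSA :
    letI := wAlgSA H X
    Function.Surjective (algebraMap (sS hX) (wA 𝒟 g b0 X 0)) := by
  cases d with
  | isFalse h => exact absurd 𝒟.pos h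
  | isTrue h => exact gen_surjSA H

theorem w_fpSA :
    letI := wAlgSA H X
    Algebra.FinitePresentation (sS hX) (wA 𝒟 g b0 X 0) := by
  cases d with
  | isFalse h => exact absurd 𝒟.pos h
  | isTrue h => exact gen_fpSA H

end zero

section fin

variable (i : ℕ) (hi : i < 𝒟.n) [d : Decidable (i < 𝒟.n)]

/-- `A i → A' i`. -/
noncomputable def wAlgAA : Algebra (𝒟.A i) (wA 𝒟 g b0 X i) :=
  match d with
  | isTrue _ => inferInstanceAs (Algebra (𝒟.A i) (sA 𝒟 g b0 i))
  | isFalse h => absurd hi h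

/-- `R → A' i`. -/
noncomputable def wAlgRA : Algebra R (wA 𝒟 g b0 X i) :=
  match d with
  | isTrue _ => inferInstanceAs (Algebra R (sA 𝒟 g b0 i))
  | isFalse h => absurd hi h

/-- `B i → A' i`. -/
noncomputable def wAlgBA' : Algebra (𝒟.B i) (wA 𝒟 g b0 X i) :=
  match d with
  | isTrue _ => inferInstanceAs (Algebra (𝒟.B i) (sA 𝒟 g b0 i))
  | isFalse h => absurd hi h

/-- `B i → B' i`. -/
noncomputable def wAlgBB : Algebra (𝒟.B i) (wB 𝒟 g b0 i) :=
  match d with
  | isTrue _ => inferInstanceAs (Algebra (𝒟.B i) (sT 𝒟 g b0 i))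
  | isFalse h => absurd hi h

/-- `R → B' i`. -/
noncomputable def wAlgRB : Algebra R (wB 𝒟 g b0 i) :=
  match d with
  | isTrue _ => inferInstanceAs (Algebra R (sT 𝒟 g b0 i))
  | isFalse h => absurd hi h

/-- the `A i`-module structure of `M' i`. -/
noncomputable def wModAM' : Module (𝒟.A i) (wM 𝒟 g b0 X i) :=
  match d with
  | isTrue _ => inferInstanceAs (Module (𝒟.A i) (sM 𝒟 g b0 i))
  | isFalse h => absurd hi h

/-- the comparison maps `M i → M' i`. -/
noncomputable def wG :
    letI := wModAM' (g := g) (b0 := b0) X i hi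
    𝒟.M i →ₗ[𝒟.A i] wM 𝒟 g b0 X i :=
  match d with
  | isTrue _ => gE 𝒟 g b0 i
  | isFalse h => absurd hi h

theorem wTow_RRA :
    letI := wAlgRA (g := g) (b0 := b0) X i hi
    IsScalarTower R (sR g) (wA 𝒟 g b0 X i) := by
  cases d with
  | isFalse h => exact absurd hi h
  | isTrue h => exact sTowRRA 𝒟 g b0 i

theorem wTow_RAA :
    letI := wAlgRA (g := g) (b0 := b0) X i hi
    letI := wAlgAA (g := g) (b0 := b0) X i hi
    IsScalarTower R (𝒟.A i) (wA 𝒟 g b0 X i) := by
  cases d with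
  | isFalse h => exact absurd hi h
  | isTrue h => exact (inferInstance : IsScalarTower R (𝒟.A i) (sA 𝒟 g b0 i))

theorem wTow_RRB :
    letI := wAlgRB (g := g) (b0 := b0) i hi
    IsScalarTower R (sR g) (wB 𝒟 g b0 i) := by
  cases d with
  | isFalse h => exact absurd hi h
  | isTrue h => exact sTowRRT 𝒟 g b0 i

theorem wTow_RBB :
    letI := wAlgRB (g := g) (b0 := b0) i hi
    letI := wAlgBB (g := g) (b0 := b0) i hi
    IsScalarTower R (𝒟.B i) (wB 𝒟 g b0 i) := by
  cases d with
  | isFalse h => exact absurd hi h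
  | isTrue h => exact (inferInstance : IsScalarTower R (𝒟.B i) (sT 𝒟 g b0 i))

theorem wTow_BAA :
    letI := wAlgBA' (g := g) (b0 := b0) X i hi
    letI := wAlgAA (g := g) (b0 := b0) X i hi
    IsScalarTower (𝒟.B i) (𝒟.A i) (wA 𝒟 g b0 X i) := by
  cases d with
  | isFalse h => exact absurd hi h
  | isTrue h => exact (inferInstance : IsScalarTower (𝒟.B i) (𝒟.A i) (sA 𝒟 g b0 i))

theorem wTow_BBA :
    letI := wAlgBA' (g := g) (b0 := b0) X i hi
    letI := wAlgBB (g := g) (b0 := b0) i hi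
    IsScalarTower (𝒟.B i) (wB 𝒟 g b0 i) (wA 𝒟 g b0 X i) := by
  cases d with
  | isFalse h => exact absurd hi h
  | isTrue h => exact sTowBTA 𝒟 g b0 i

theorem wTow_AAM :
    letI := wAlgAA (g := g) (b0 := b0) X i hi
    letI := wModAM' (g := g) (b0 := b0) X i hi
    IsScalarTower (𝒟.A i) (wA 𝒟 g b0 X i) (wM 𝒟 g b0 X i) := by
  cases d with
  | isFalse h => exact absurd hi h
  | isTrue h => exact (inferInstance : IsScalarTower (𝒟.A i) (sA 𝒟 g b0 i) (sM 𝒟 g b0 i))

theorem w_locA :
    letI := wAlgAA (g := g) (b0 := b0) X i hi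
    IsLocalization.Away (aE 𝒟 g b0 i) (wA 𝒟 g b0 X i) := by
  cases d with
  | isFalse h => exact absurd hi h
  | isTrue h => exact (inferInstance : IsLocalization.Away (aE 𝒟 g b0 i) (sA 𝒟 g b0 i))

theorem w_locB :
    letI := wAlgBB (g := g) (b0 := b0) i hi
    IsLocalization.Away (bE 𝒟 g b0 i) (wB 𝒟 g b0 i) := by
  cases d with
  | isFalse h => exact absurd hi h
  | isTrue h => exact (inferInstance : IsLocalization.Away (bE 𝒟 g b0 i) (sT 𝒟 g b0 i))

theorem w_locM :
    letI := wModAM' (g := g) (b0 := b0) X i hi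
    IsLocalizedModule (Submonoid.powers (aE 𝒟 g b0 i)) (wG (g := g) (b0 := b0) X i hi) := by
  cases d with
  | isFalse h => exact absurd hi h
  | isTrue h => exact gE_isLocalizedModule 𝒟 g b0 i

theorem w_range :
    letI := wModAM' (g := g) (b0 := b0) X i hi
    LinearMap.range (wAlpha 𝒟 g b0 X i) =
      Submodule.span (wB 𝒟 g b0 i)
        ((wG (g := g) (b0 := b0) X i hi) '' (LinearMap.range (𝒟.α i) : Set (𝒟.M i))) := by
  cases d with
  | isFalse h => exact absurd hi h
  | isTrue h => exact gen_range i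

end fin

end facts

end Groth.Agent.Helper27.Dv
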