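import Mathlib
import Groth.Prelude
import Groth.Agent.Lib.Helper27.DvS8

/-!
# Shrinking a complete dévissage: the points of the switched families (helper27)
-/

set_option autoImplicit false
set_option linter.style.haveILetI false
set_option linter.unusedSectionVars false
universe u
open TensorProduct

namespace Groth.Agent.Helper27.Dv

section facts

variable {R S : Type u} [CommRing R] [CommRing S] [Algebra R S]
  {N : Type u} [AddCommGroup N] [Module S N]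
  {p : Ideal R} [p.IsPrime] {q : Ideal S} [q.IsPrime] {𝒟 : FlatCA.CompleteDevissage R S N p}
  {𝒜 : FlatCA.CompleteDevissageAt R S N p q 𝒟}
  {g : R} {b0 : ∀ i, 𝒟.B i} {hX : S} (H : ShrinkHyp 𝒟 𝒜 g b0 hX)
  (X : Type u) [CommRing X] [Algebra (sR g) X]

variable (𝒜 g b0) in
/-- the switched points of the smooth algebras. -/
def wqB (i : ℕ) [d : Decidable (i < 𝒟.n)] : Ideal (wB 𝒟 g b0 i) :=
  Sw.ideal (i < 𝒟.n) (sT 𝒟 g b0 i) (sR g) (qBE 𝒜 g b0 i) (sP p g)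

variable (𝒜 g b0) in
/-- the switched points of the rings. -/
def wqA (i : ℕ) [d : Decidable (i < 𝒟.n)] (J : Ideal X) : Ideal (wA 𝒟 g b0 X i) :=
  Sw.ideal (i < 𝒟.n) (sA 𝒟 g b0 i) X (qAE 𝒜 g b0 i) J

variable (𝒜 g b0) in
/-- the tail points. -/
def tQ : ∀ i, Ideal (tX 𝒟 g b0 i)
  | 0 => sP p g
  | (j + 1) => wqB 𝒜 g b0 j

include H in
theorem w_qB_isPrime (i : ℕ) [d : Decidable (i < 𝒟.n)] : (wqB 𝒜 g b0 i).IsPrime := by
  cases d with
  | isFalse h => exact sP_isPrime H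
  | isTrue h => exact qBE_isPrime H i h

theorem liesOver_self {A : Type u} [CommRing A] (I : Ideal A) : I.LiesOver I :=
  ⟨by rw [Ideal.under_def, Algebra.algebraMap_self, Ideal.comap_id]⟩

include H in
theorem w_qB_over (i : ℕ) [d : Decidable (i < 𝒟.n)] :
    (wqB 𝒜 g b0 i).LiesOver (sP p g) := by
  cases d with
  | isFalse h => exact liesOver_self (sP p g)
  | isTrue h => exact qBE_over_sP H i h

include H in
theorem tQ_isPrime (i : ℕ) : (tQ 𝒜 g b0 i).IsPrime := by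
  cases i with
  | zero => exact sP_isPrime H
  | succ j => exact w_qB_isPrime H j

include H in
theorem tQ_over (i : ℕ) : (tQ 𝒜 g b0 i).LiesOver (sP p g) := by
  cases i with
  | zero => exact liesOver_self (sP p g)
  | succ j => exact w_qB_over H j

include H in
theorem w_qA_isPrime (i : ℕ) [d : Decidable (i < 𝒟.n)] (J : Ideal X) (hJ : J.IsPrime) :
    (wqA 𝒜 g b0 X i J).IsPrime := by
  cases d with
  | isFalse h => exact hJ
  | isTrue h => exact qAE_isPrime H i h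

include H in
theorem w_qA_over (i : ℕ) [d : Decidable (i < 𝒟.n)] (J : Ideal X) (hJ : J.LiesOver (sP p g)) :
    (wqA 𝒜 g b0 X i J).LiesOver (wqB 𝒜 g b0 i) := by
  cases d with
  | isFalse h => exact ⟨hJ.over⟩
  | isTrue h => exact qAE_over_qBE H i h

include H in
theorem w_pureTrans (i : ℕ) (hi : i < 𝒟.n) [d : Decidable (i < 𝒟.n)]
    [hP : (sP p g).IsPrime] [hQ : (wqB 𝒜 g b0 i).IsPrime]
    [hO : (wqB 𝒜 g b0 i).LiesOver (sP p g)] :
    FlatCA.PurelyTranscendental (sP p g) (wqB 𝒜 g b0 i) := by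
  cases d with
  | isFalse h => exact absurd hi h
  | isTrue h => exact gen_pureTrans H i hi (hP := hP) (hQ := hQ) (hO := hO)

include H in
theorem w_uniq (i : ℕ) (hi : i < 𝒟.n) [d : Decidable (i < 𝒟.n)] (J : Ideal X)
    (Q : Ideal (wA 𝒟 g b0 X i)) [hQ : Q.IsPrime] (hQo : Q.LiesOver (wqB 𝒜 g b0 i)) :
    Q = wqA 𝒜 g b0 X i J := by
  cases d with
  | isFalse h => exact absurd hi h
  | isTrue h =>
    have key : ∀ (Q' : Ideal (sA 𝒟 g b0 i)) (_ : Q'.IsPrime), Q'.LiesOver (qBE 𝒜 g b0 i) →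
        Q' = qAE 𝒜 g b0 i := fun Q' hQ' hQo' => by
      haveI := hQ'
      exact gen_uniq H i hi Q' hQo'
    exact key Q hQ hQo

include H in
theorem w_q0 [d : Decidable (0 < 𝒟.n)] (J : Ideal X) :
    letI := wAlgSA H X
    (wqA 𝒜 g b0 X 0 J).comap (algebraMap (sS hX) (wA 𝒟 g b0 X 0)) =
      q.map (algebraMap S (sS hX)) := by
  cases d with
  | isFalse h => exact absurd 𝒟.pos h
  | isTrue h => exact gen_q0 H

include H in
theorem w_qStep (i : ℕ) (hi : i + 1 < 𝒟.n) [d1 : Decidable (i < 𝒟.n)]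
    [d2 : Decidable (i + 1 < 𝒟.n)] :
    (wqA 𝒜 g b0 (wB 𝒟 g b0 i) (i + 1) (wqB 𝒜 g b0 i)).comap
      (algebraMap (wB 𝒟 g b0 i) (wA 𝒟 g b0 (wB 𝒟 g b0 i) (i + 1))) = wqB 𝒜 g b0 i := by
  cases d2 with
  | isFalse h => exact absurd hi h
  | isTrue h =>
    cases d1 with
    | isFalse h' => exact absurd (Nat.lt_of_succ_lt hi) h'
    | isTrue h' => exact gen_qStep H i hi

include H in
theorem w_qB_liesOver (i : ℕ) (hi : i < 𝒟.n) [d : Decidable (i < 𝒟.n)] :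
    letI := wAlgBB (g := g) (b0 := b0) i hi
    (wqB 𝒜 g b0 i).LiesOver (𝒜.qB i) := by
  cases d with
  | isFalse h => exact absurd hi h
  | isTrue h => exact qBE_liesOver H i hi

include H in
theorem w_qA_liesOver (i : ℕ) (hi : i < 𝒟.n) [d : Decidable (i < 𝒟.n)] (J : Ideal X) :
    letI := wAlgAA (g := g) (b0 := b0) X i hi
    (wqA 𝒜 g b0 X i J).LiesOver (𝒜.qA i) := by
  cases d with
  | isFalse h => exact absurd hi h
  | isTrue h => exact qAE_liesOver H i hi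

include H in
theorem w_isoN [d : Decidable (0 < 𝒟.n)] :
    letI := wModSM H X
    letI := wModAM' (g := g) (b0 := b0) X 0 𝒟.pos
    ∃ e : LocalizedModule (Submonoid.powers hX) N ≃ₗ[sS hX] wM 𝒟 g b0 X 0,
      ∀ x : N, e (LocalizedModule.mkLinearMap (Submonoid.powers hX) N x) =
        wG (g := g) (b0 := b0) X 0 𝒟.pos (𝒟.isoN x) := by
  cases d with
  | isFalse h => exact absurd 𝒟.pos h
  | isTrue h => exact gen_isoN H

theorem wTow_SAA [d : Decidable (0 < 𝒟.n)] :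
    letI := wAlgSA' (𝒟 := 𝒟) (g := g) (b0 := b0) X
    letI := wAlgAA (g := g) (b0 := b0) X 0 𝒟.pos
    IsScalarTower S (𝒟.A 0) (wA 𝒟 g b0 X 0) := by
  cases d with
  | isFalse h => exact absurd 𝒟.pos h
  | isTrue h => exact (inferInstance : IsScalarTower S (𝒟.A 0) (sA 𝒟 g b0 0))

/-- `B i → A' (i+1)`. -/
noncomputable def wAlgBA2' (i : ℕ) (hi : i < 𝒟.n) [d1 : Decidable (i < 𝒟.n)]
    [d2 : Decidable (i + 1 < 𝒟.n)] : Algebra (𝒟.B i) (wA 𝒟 g b0 (wB 𝒟 g b0 i) (i + 1)) :=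
  letI := wAlgBB (g := g) (b0 := b0) i hi
  ((algebraMap (wB 𝒟 g b0 i) (wA 𝒟 g b0 (wB 𝒟 g b0 i) (i + 1))).comp
    (algebraMap (𝒟.B i) (wB 𝒟 g b0 i))).toAlgebra

theorem wTow_BBA2 (i : ℕ) (hi : i < 𝒟.n) [d1 : Decidable (i < 𝒟.n)]
    [d2 : Decidable (i + 1 < 𝒟.n)] :
    letI := wAlgBB (g := g) (b0 := b0) i hi
    letI := wAlgBA2' (g := g) (b0 := b0) i hi
    IsScalarTower (𝒟.B i) (wB 𝒟 g b0 i) (wA 𝒟 g b0 (wB 𝒟 g b0 i) (i + 1)) :=
  letI := wAlgBB (g := g) (b0 := b0) i hi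
  letI := wAlgBA2' (g := g) (b0 := b0) i hi
  IsScalarTower.of_algebraMap_eq fun _ => rfl

theorem wTow_BAA2 (i : ℕ) (hi : i < 𝒟.n) (h : i + 1 < 𝒟.n) [d1 : Decidable (i < 𝒟.n)]
    [d2 : Decidable (i + 1 < 𝒟.n)] :
    letI := wAlgBA2' (g := g) (b0 := b0) i hi
    letI := wAlgAA (g := g) (b0 := b0) (wB 𝒟 g b0 i) (i + 1) h
    IsScalarTower (𝒟.B i) (𝒟.A (i + 1)) (wA 𝒟 g b0 (wB 𝒟 g b0 i) (i + 1)) := by
  cases d2 with
  | isFalse h' => exact absurd h h'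
  | isTrue h' =>
    cases d1 with
    | isFalse h'' => exact absurd hi h''
    | isTrue h'' =>
      exact @IsScalarTower.of_algebraMap_eq (𝒟.B i) (𝒟.A (i + 1)) (sA 𝒟 g b0 (i + 1)) _ _ _
        (𝒟.aBA' i) (inferInstanceAs (Algebra (𝒟.A (i + 1)) (sA 𝒟 g b0 (i + 1))))
        (((algebraMap (sT 𝒟 g b0 i) (sA 𝒟 g b0 (i + 1))).comp
          (algebraMap (𝒟.B i) (sT 𝒟 g b0 i))).toAlgebra) (fun b => by
        change algebraMap (sT 𝒟 g b0 i) (sA 𝒟 g b0 (i + 1))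
            (algebraMap (𝒟.B i) (sT 𝒟 g b0 i) b) =
          algebraMap (𝒟.A (i + 1)) (sA 𝒟 g b0 (i + 1)) (algebraMap (𝒟.B i) (𝒟.A (i + 1)) b)
        rw [← IsScalarTower.algebraMap_apply (𝒟.B i) (sT 𝒟 g b0 i) (sA 𝒟 g b0 (i + 1)),
          ← IsScalarTower.algebraMap_apply (𝒟.B i) (𝒟.A (i + 1)) (sA 𝒟 g b0 (i + 1))])

end facts

end Groth.Agent.Helper27.Dv
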