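import Mathlib
import Groth.Prelude
import Groth.Agent.Lib.Helper27.DvS9

/-!
# Shrinking a complete dévissage: the shrunken dévissage (helper27)
-/

set_option autoImplicit false
set_option linter.style.haveILetI false
set_option linter.unusedSectionVars false
universe u
open TensorProduct

namespace Groth.Agent.Helper27.Dv

section build

variable {R S : Type u} [CommRing R] [CommRing S] [Algebra R S]
  {N : Type u} [AddCommGroup N] [Module S N]
  {p : Ideal R} [p.IsPrime] {q : Ideal S} [q.IsPrime] {𝒟 : FlatCA.CompleteDevissage R S N p}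
  {𝒜 : FlatCA.CompleteDevissageAt R S N p q 𝒟}
  {g : R} {b0 : ∀ i, 𝒟.B i} {hX : S} (H : ShrinkHyp 𝒟 𝒜 g b0 hX)

/-- the `R[1/g]`-module structure of `N[1/hX]`. -/
noncomputable def sModRN : Module (sR g) (LocalizedModule (Submonoid.powers hX) N) :=
  letI := sAlgRS H
  Module.compHom _ (algebraMap (sR g) (sS hX))

theorem sTowRSN :
    letI := sAlgRS H
    letI := sModRN (N := N) H
    IsScalarTower (sR g) (sS hX) (LocalizedModule (Submonoid.powers hX) N) :=
  letI := sAlgRS H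
  letI := sModRN (N := N) H
  IsScalarTower.of_algebraMap_smul fun _ _ => rfl

/-- the shrunken complete dévissage. -/
@[reducible] noncomputable def shrinkD :
    letI := sAlgRS H
    haveI := sP_isPrime H
    FlatCA.CompleteDevissage (sR g) (sS hX) (LocalizedModule (Submonoid.powers hX) N) (sP p g) :=
  letI := sAlgRS H
  haveI := sP_isPrime H
  { n := 𝒟.n
    pos := 𝒟.pos
    A := fun i => wA 𝒟 g b0 (tX 𝒟 g b0 i) i
    B := fun i => wB 𝒟 g b0 i
    M := fun i => wM 𝒟 g b0 (tX 𝒟 g b0 i) i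
    r := 𝒟.r
    cA := fun _ => inferInstance
    cB := fun _ => inferInstance
    aRA := fun _ => inferInstance
    aRB := fun _ => inferInstance
    aBA := fun i => wAlgBA 𝒟 g b0 (tX 𝒟 g b0 i) i
    tRBA := fun i => wTowRBA 𝒟 g b0 (tX 𝒟 g b0 i) i
    aSA := wAlgSA H (tX 𝒟 g b0 0)
    tRSA := wTowRSA H (tX 𝒟 g b0 0)
    aBA' := fun i => wAlgBA2 𝒟 g b0 i
    tRBA' := fun i => wTowRBA2 𝒟 g b0 i
    gM := fun _ => inferInstance
    mAM := fun _ => inferInstance
    mBM := fun i => wModBM 𝒟 g b0 (tX 𝒟 g b0 i) i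
    tBAM := fun i => wTowBAM 𝒟 g b0 (tX 𝒟 g b0 i) i
    mRM := fun i => wModRM 𝒟 g b0 (tX 𝒟 g b0 i) i
    tRBM := fun i => wTowRBM 𝒟 g b0 (tX 𝒟 g b0 i) i
    mSM := wModSM H (tX 𝒟 g b0 0)
    tSAM := wTowSAM H (tX 𝒟 g b0 0)
    mB'M := fun i => wModBM2 𝒟 g b0 i
    tB'AM := fun i => wTowBAM2 𝒟 g b0 i
    hp := fun i => w_hp H i
    α := fun i => wAlpha 𝒟 g b0 (tX 𝒟 g b0 i) i
    surjSA := w_surjSA H (tX 𝒟 g b0 0)
    fpSA := w_fpSA H (tX 𝒟 g b0 0)
    surjBA' := fun i h => w_surjBA2 H i h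
    fpBA' := fun i h => w_fpBA2 H i h
    finiteBA := fun i hi => w_finiteBA H (tX 𝒟 g b0 i) i hi
    smooth := fun i hi => w_smooth i hi
    geomIrred := fun i hi => w_geomIrred H i hi
    finiteM := fun i hi => w_finiteM (tX 𝒟 g b0 i) i hi
    isoN := Classical.choose (w_isoN H (tX 𝒟 g b0 0))
    isoCoker := fun i h => Classical.choice (w_isoCoker H (tX 𝒟 g b0 i) i h)
    fibreIso := fun i hi => w_fibreIso H (tX 𝒟 g b0 i) i hi (hP := w_hp H i)
    cokerLast := w_cokerLast H (tX 𝒟 g b0 (𝒟.n - 1)) (𝒟.n - 1)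
      (Nat.sub_lt 𝒟.pos Nat.one_pos) 𝒟.cokerLast }

end build

end Groth.Agent.Helper27.Dv
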