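import Mathlib
import Groth.Prelude
import Groth.Agent.Lib.Helper27.DvS10

/-!
# Shrinking a complete dévissage: the main statement (helper27)
-/

set_option autoImplicit false
set_option linter.style.haveILetI false
set_option linter.unusedSectionVars false
universe u
open TensorProduct

namespace Groth.Agent.Helper27.Dv

section build

variable {R S : Type u} [CommRing R] [CommRing S] [Algebra R S]
  {N : Type u} [AddCommGroup N] [Module S N]
  {p : Ideal R} [p.IsPrime] {q : Ideal S} [q.IsPrime] {𝒟 : FlatCA.CompleteDevissage R S N p}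
  {𝒜 : FlatCA.CompleteDevissageAt R S N p q 𝒟}
  {g : R} {b0 : ∀ i, 𝒟.B i} {hX : S} (H : ShrinkHyp 𝒟 𝒜 g b0 hX)

include H in
theorem sQ_isPrime : (q.map (algebraMap S (sS hX))).IsPrime :=
  isPrime_map_away S hX (sS hX) q H.hXq

/-- the shrunken datum at the point. -/
@[reducible] noncomputable def shrinkA :
    letI := sAlgRS H
    haveI := sP_isPrime H
    haveI := sQ_isPrime H
    FlatCA.CompleteDevissageAt (sR g) (sS hX) (LocalizedModule (Submonoid.powers hX) N) (sP p g)
      (q.map (algebraMap S (sS hX))) (shrinkD H) :=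
  letI := sAlgRS H
  haveI := sP_isPrime H
  haveI := sQ_isPrime H
  { qB := fun i => wqB 𝒜 g b0 i
    qA := fun i => wqA 𝒜 g b0 (tX 𝒟 g b0 i) i (tQ 𝒜 g b0 i)
    hqB := fun i => w_qB_isPrime H i
    hqA := fun i => w_qA_isPrime H (tX 𝒟 g b0 i) i (tQ 𝒜 g b0 i) (tQ_isPrime H i)
    overB := fun i => w_qB_over H i
    overA := fun i => w_qA_over H (tX 𝒟 g b0 i) i (tQ 𝒜 g b0 i) (tQ_over H i)
    pureTrans := fun i hi => w_pureTrans H i hi (hP := sP_isPrime H) (hQ := w_qB_isPrime H i)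
      (hO := w_qB_over H i)
    uniq := fun i hi Q hQ hQo => w_uniq H (tX 𝒟 g b0 i) i hi (tQ 𝒜 g b0 i) Q hQo
    q0 := w_q0 H (tX 𝒟 g b0 0) (tQ 𝒜 g b0 0)
    qStep := fun i h => w_qStep H i h
    d := 𝒜.d
    relDim := fun i hi => w_relDim (𝒜 := 𝒜) (g := g) (b0 := b0) i hi
    locDim := fun i hi => w_locDim H (tX 𝒟 g b0 i) i hi (wqB 𝒜 g b0 i) rfl }

end build

end Groth.Agent.Helper27.Dv
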