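import Mathlib
import Groth.Prelude
import Groth.Agent.Lib.Helper27.DvS11

/-!
# Shrinking a complete dévissage: the main statement (helper27)
-/

set_option autoImplicit false
set_option linter.style.haveILetI false
set_option linter.unusedSectionVars false
universe u
open TensorProduct

namespace Groth.Agent.Helper27.Dv

section build

variable {R S : Type u} [CommRing R] [CommRing S] [Algebra R S]
  {N : Type u} [AddCommGroup N] [Module S N]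
  {p : Ideal R} [p.IsPrime] {q : Ideal S} [q.IsPrime] {𝒟 : FlatCA.CompleteDevissage R S N p}
  {𝒜 : FlatCA.CompleteDevissageAt R S N p q 𝒟}
  {g : R} {b0 : ∀ i, 𝒟.B i} {hX : S} (H : ShrinkHyp 𝒟 𝒜 g b0 hX)

include H in
/-- the shrunken complete dévissage at the point, with all its comparison data. -/
theorem shrink_main :
      ∃ (_ : Algebra (Localization.Away g) (Localization.Away hX)) (_ : IsScalarTower R (Localization.Away g) (Localization.Away hX))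
        (_ : Module (Localization.Away g) (LocalizedModule (Submonoid.powers hX) N)) (_ : IsScalarTower (Localization.Away g) (Localization.Away hX) (LocalizedModule (Submonoid.powers hX) N))
        (_ : (Ideal.map (algebraMap R (Localization.Away g)) p).IsPrime) (_ : (Ideal.map (algebraMap S (Localization.Away hX)) q).IsPrime)
        (𝒟' : FlatCA.CompleteDevissage (Localization.Away g) (Localization.Away hX) (LocalizedModule (Submonoid.powers hX) N) (Ideal.map (algebraMap R (Localization.Away g)) p))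
        (𝒜' : FlatCA.CompleteDevissageAt (Localization.Away g) (Localization.Away hX) (LocalizedModule (Submonoid.powers hX) N) (Ideal.map (algebraMap R (Localization.Away g)) p) (Ideal.map (algebraMap S (Localization.Away hX)) q) 𝒟')
      (aA : ∀ i : Fin 𝒟.n, Algebra (𝒟.A i) (𝒟'.A i)) (rA : ∀ i : Fin 𝒟.n, Algebra R (𝒟'.A i))
      (_t1 : ∀ i : Fin 𝒟.n, IsScalarTower R (Localization.Away g) (𝒟'.A i)) (_t2 : ∀ i : Fin 𝒟.n, IsScalarTower R (𝒟.A i) (𝒟'.A i))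
      (aB : ∀ i : Fin 𝒟.n, Algebra (𝒟.B i) (𝒟'.B i)) (rB : ∀ i : Fin 𝒟.n, Algebra R (𝒟'.B i))
      (_t3 : ∀ i : Fin 𝒟.n, IsScalarTower R (Localization.Away g) (𝒟'.B i)) (_t4 : ∀ i : Fin 𝒟.n, IsScalarTower R (𝒟.B i) (𝒟'.B i))
      (bA : ∀ i : Fin 𝒟.n, Algebra (𝒟.B i) (𝒟'.A i)) (_t5 : ∀ i : Fin 𝒟.n, IsScalarTower (𝒟.B i) (𝒟.A i) (𝒟'.A i))
      (_t6 : ∀ i : Fin 𝒟.n, IsScalarTower (𝒟.B i) (𝒟'.B i) (𝒟'.A i))
      (bA' : ∀ i : Fin 𝒟.n, Algebra (𝒟.B i) (𝒟'.A (i + 1)))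
      (_t7 : ∀ i : Fin 𝒟.n, IsScalarTower (𝒟.B i) (𝒟'.B i) (𝒟'.A (i + 1)))
      (sA : Algebra S (𝒟'.A 0)) (_t8 : IsScalarTower S (Localization.Away hX) (𝒟'.A 0))
      (mA : ∀ i : Fin 𝒟.n, Module (𝒟.A i) (𝒟'.M i)) (_t9 : ∀ i : Fin 𝒟.n, IsScalarTower (𝒟.A i) (𝒟'.A i) (𝒟'.M i))
      (gM : ∀ i : Fin 𝒟.n, 𝒟.M i →ₗ[𝒟.A i] 𝒟'.M i),
        𝒟'.n = 𝒟.n ∧ 𝒟'.r = 𝒟.r ∧ 𝒜'.d = 𝒜.d ∧
        (letI := aA ⟨0, 𝒟.pos⟩; IsScalarTower S (𝒟.A 0) (𝒟'.A 0)) ∧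
      (∀ x : N, 𝒟'.isoN (LocalizedModule.mkLinearMap (Submonoid.powers hX) N x) = gM ⟨0, 𝒟.pos⟩ (𝒟.isoN x)) ∧
      (∀ (i : Fin 𝒟.n) (h : (i : ℕ) + 1 < 𝒟.n),
        letI := aA ⟨i + 1, h⟩; IsScalarTower (𝒟.B i) (𝒟.A (i + 1)) (𝒟'.A (i + 1))) ∧
        ∀ i : Fin 𝒟.n,
          aE 𝒟 g b0 i ∉ 𝒜.qA i ∧ bE 𝒟 g b0 i ∉ 𝒜.qB i ∧
          IsLocalization.Away (aE 𝒟 g b0 i) (𝒟'.A i) ∧ IsLocalization.Away (bE 𝒟 g b0 i) (𝒟'.B i) ∧
          IsLocalizedModule (Submonoid.powers (aE 𝒟 g b0 i)) (gM i) ∧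
          (𝒜'.qA i).LiesOver (𝒜.qA i) ∧ (𝒜'.qB i).LiesOver (𝒜.qB i) ∧
          LinearMap.range (𝒟'.α i) =
            Submodule.span (𝒟'.B i) ((gM i) '' (LinearMap.range (𝒟.α i) : Set (𝒟.M i))) := by
  refine ⟨sAlgRS H, sTowRRS H, sModRN H, sTowRSN H, sP_isPrime H, sQ_isPrime H, shrinkD H, shrinkA H,
    fun i => wAlgAA (g := g) (b0 := b0) (tX 𝒟 g b0 i) i i.2,
    fun i => wAlgRA (g := g) (b0 := b0) (tX 𝒟 g b0 i) i i.2,
    fun i => wTow_RRA (g := g) (b0 := b0) (tX 𝒟 g b0 i) i i.2,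
    fun i => wTow_RAA (g := g) (b0 := b0) (tX 𝒟 g b0 i) i i.2,
    fun i => wAlgBB (g := g) (b0 := b0) i i.2,
    fun i => wAlgRB (g := g) (b0 := b0) i i.2,
    fun i => wTow_RRB (g := g) (b0 := b0) i i.2,
    fun i => wTow_RBB (g := g) (b0 := b0) i i.2,
    fun i => wAlgBA' (g := g) (b0 := b0) (tX 𝒟 g b0 i) i i.2,
    fun i => wTow_BAA (g := g) (b0 := b0) (tX 𝒟 g b0 i) i i.2,
    fun i => wTow_BBA (g := g) (b0 := b0) (tX 𝒟 g b0 i) i i.2,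
    fun i => wAlgBA2' (g := g) (b0 := b0) i i.2,
    fun i => wTow_BBA2 (g := g) (b0 := b0) i i.2,
    wAlgSA' (𝒟 := 𝒟) (g := g) (b0 := b0) (tX 𝒟 g b0 0), wTowSSA H (tX 𝒟 g b0 0),
    fun i => wModAM' (g := g) (b0 := b0) (tX 𝒟 g b0 i) i i.2,
    fun i => wTow_AAM (g := g) (b0 := b0) (tX 𝒟 g b0 i) i i.2,
    fun i => wG (g := g) (b0 := b0) (tX 𝒟 g b0 i) i i.2,
    rfl, rfl, rfl, wTow_SAA (g := g) (b0 := b0) (tX 𝒟 g b0 0), ?_, ?_, ?_⟩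
  · intro x
    exact Classical.choose_spec (w_isoN H (tX 𝒟 g b0 0)) x
  · intro i h
    exact wTow_BAA2 (g := g) (b0 := b0) i i.2 h
  · intro i
    exact ⟨aE_notMem H i i.2, bE_notMem H i i.2,
      w_locA (g := g) (b0 := b0) (tX 𝒟 g b0 i) i i.2, w_locB (g := g) (b0 := b0) i i.2,
      w_locM (g := g) (b0 := b0) (tX 𝒟 g b0 i) i i.2,
      w_qA_liesOver H (tX 𝒟 g b0 i) i i.2 (tQ 𝒜 g b0 i), w_qB_liesOver H i i.2,
      w_range (g := g) (b0 := b0) (tX 𝒟 g b0 i) i i.2⟩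

end build

end Groth.Agent.Helper27.Dv
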