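import Mathlib
import Groth.Prelude
import Groth.Agent.Lib.Helper27.DvS5

/-!
# Shrinking a complete dévissage: checking the hypotheses (helper27)
-/

set_option autoImplicit false
set_option linter.style.haveILetI false
set_option linter.unusedSectionVars false
universe u
open TensorProduct

namespace Groth.Agent.Helper27.Dv

/-- localizations away from elements with the same radical agree. -/
theorem away_of_same_radical {C : Type u} [CommRing C] (a b : C) (L : Type u) [CommRing L]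
    [Algebra C L] [IsLocalization.Away b L] (k m : ℕ) (h1 : a ∣ b ^ k) (h2 : b ∣ a ^ m) :
    IsLocalization.Away a L := by
  have hN : IsLocalization (Submonoid.powers a ⊔ Submonoid.powers b) L := by
    refine (IsLocalization.iff_of_le_of_exists_dvd (M := Submonoid.powers b)
      (Submonoid.powers a ⊔ Submonoid.powers b) le_sup_right ?_).mp inferInstance
    intro n hn
    obtain ⟨x, ⟨i, rfl⟩, y, ⟨j, rfl⟩, rfl⟩ := Submonoid.mem_sup.mp hn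
    exact ⟨b ^ (k * i + j), ⟨k * i + j, rfl⟩, by
      rw [pow_add, pow_mul]
      exact mul_dvd_mul (pow_dvd_pow_of_dvd h1 i) dvd_rfl⟩
  refine (IsLocalization.iff_of_le_of_exists_dvd (M := Submonoid.powers a)
    (Submonoid.powers a ⊔ Submonoid.powers b) le_sup_left ?_).mpr hN
  intro n hn
  obtain ⟨x, ⟨i, rfl⟩, y, ⟨j, rfl⟩, rfl⟩ := Submonoid.mem_sup.mp hn
  refine ⟨a ^ (i + m * j), ⟨i + m * j, rfl⟩, ?_⟩
  rw [pow_add, pow_mul]
  exact mul_dvd_mul dvd_rfl (pow_dvd_pow_of_dvd h2 j)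

section hyp

variable {R S : Type u} [CommRing R] [CommRing S] [Algebra R S]
  {N : Type u} [AddCommGroup N] [Module S N]
  {p : Ideal R} [p.IsPrime] {q : Ideal S} [q.IsPrime] {𝒟 : FlatCA.CompleteDevissage R S N p}
  {𝒜 : FlatCA.CompleteDevissageAt R S N p q 𝒟}
  {g : R} {b0 : ∀ i, 𝒟.B i} {hX : S}

theorem bE_map (i : ℕ) :
    algebraMap (𝒟.B i) (𝒟.A i) (bE 𝒟 g b0 i) =
      algebraMap (𝒟.B i) (𝒟.A i) (b0 i) * algebraMap R (𝒟.A i) g := by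
  rw [bE, map_mul, ← IsScalarTower.algebraMap_apply R (𝒟.B i) (𝒟.A i)]

theorem bE_map2 (i : ℕ) :
    algebraMap (𝒟.B i) (𝒟.A (i + 1)) (bE 𝒟 g b0 i) =
      algebraMap (𝒟.B i) (𝒟.A (i + 1)) (b0 i) * algebraMap R (𝒟.A (i + 1)) g := by
  rw [bE, map_mul, ← IsScalarTower.algebraMap_apply R (𝒟.B i) (𝒟.A (i + 1))]

/-- the hypotheses for shrinking from divisibility conditions. -/
theorem shrinkHyp_of (hg : g ∉ p) (hgX : algebraMap R S g ∣ hX)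
    (hb : ∀ i, i < 𝒟.n → b0 i ∉ 𝒜.qB i)
    (hsurj : ∀ i, i < 𝒟.n → ∀ P : PrimeSpectrum R, g ∉ P.asIdeal →
      ∃ Q : PrimeSpectrum (𝒟.B i), b0 i ∉ Q.asIdeal ∧
        PrimeSpectrum.comap (algebraMap R (𝒟.B i)) Q = P)
    (hS1 : algebraMap S (𝒟.A 0) hX ∣ (aE 𝒟 g b0 0) ^ 2)
    (hS2 : aE 𝒟 g b0 0 ∣ algebraMap S (𝒟.A 0) hX)
    (hC1 : ∀ i, i + 1 < 𝒟.n → algebraMap (𝒟.B (i + 1)) (𝒟.A (i + 1)) (b0 (i + 1)) ∣
      algebraMap (𝒟.B i) (𝒟.A (i + 1)) (b0 i))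
    (hC2 : ∀ i, i + 1 < 𝒟.n → algebraMap (𝒟.B i) (𝒟.A (i + 1)) (b0 i) ∣
      (algebraMap (𝒟.B (i + 1)) (𝒟.A (i + 1)) (b0 (i + 1))) ^ 2) :
    ShrinkHyp 𝒟 𝒜 g b0 hX := by
  have hgB : ∀ i, algebraMap R (𝒟.B i) g ∉ 𝒜.qB i := by
    intro i hmem
    apply hg
    haveI := 𝒜.overB i
    rw [Ideal.over_def (𝒜.qB i) p]
    exact hmem
  have hbE : ∀ i, i < 𝒟.n → bE 𝒟 g b0 i ∉ 𝒜.qB i := by
    intro i hi hmem
    haveI := 𝒜.hqB i
    rcases (inferInstance : (𝒜.qB i).IsPrime).mem_or_mem hmem with h | h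
    · exact hb i hi h
    · exact hgB i h
  have hXq : hX ∉ q := by
    intro hmem
    have h1 : algebraMap S (𝒟.A 0) hX ∈ 𝒜.qA 0 := by
      have : hX ∈ (𝒜.qA 0).comap (algebraMap S (𝒟.A 0)) := by rw [𝒜.q0]; exact hmem
      exact this
    have h2 : (aE 𝒟 g b0 0) ^ 2 ∈ 𝒜.qA 0 := Ideal.mem_of_dvd _ hS1 h1
    haveI := 𝒜.hqA 0
    have h3 : aE 𝒟 g b0 0 ∈ 𝒜.qA 0 := (inferInstance : (𝒜.qA 0).IsPrime).mem_of_pow_mem 2 h2
    apply hbE 0 𝒟.pos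
    haveI := 𝒜.overA 0
    rw [Ideal.over_def (𝒜.qA 0) (𝒜.qB 0)]
    exact h3
  -- divisibilities for the elements with `g`
  have hD1 : ∀ i, i + 1 < 𝒟.n → algebraMap (𝒟.B (i + 1)) (𝒟.A (i + 1)) (bE 𝒟 g b0 (i + 1)) ∣
      algebraMap (𝒟.B i) (𝒟.A (i + 1)) (bE 𝒟 g b0 i) := by
    intro i hi
    rw [bE_map, bE_map2]
    exact mul_dvd_mul (hC1 i hi) dvd_rfl
  have hD2 : ∀ i, i + 1 < 𝒟.n → algebraMap (𝒟.B i) (𝒟.A (i + 1)) (bE 𝒟 g b0 i) ∣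
      (algebraMap (𝒟.B (i + 1)) (𝒟.A (i + 1)) (bE 𝒟 g b0 (i + 1))) ^ 2 := by
    intro i hi
    rw [bE_map, bE_map2, mul_pow]
    exact mul_dvd_mul (hC2 i hi) (Dvd.intro_left _ (sq _).symm)
  refine ⟨hg, hgX, hXq, hb, hsurj, ?_, ?_, ?_⟩
  · exact away_of_same_radical (algebraMap S (𝒟.A 0) hX) (aE 𝒟 g b0 0) _ 2 1 hS1
      (by rw [pow_one]; exact hS2)
  · intro i hi
    cases i with
    | zero => exact (inferInstance : IsLocalization.Away (aE 𝒟 g b0 0) (sA 𝒟 g b0 0))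
    | succ j =>
      refine away_of_same_radical (algebraMap (𝒟.B (j + 1)) (𝒟.A (j + 1)) (bE 𝒟 g b0 (j + 1)))
        (aE 𝒟 g b0 (j + 1)) _ 1 3 ?_ ?_
      · rw [pow_one]
        exact dvd_aE_self 𝒟 g b0 (j + 1)
      · change _ * _ ∣ _
        rw [pow_succ]
        exact mul_dvd_mul (hD2 j hi) dvd_rfl
  · intro i hi
    refine away_of_same_radical (algebraMap (𝒟.B i) (𝒟.A (i + 1)) (bE 𝒟 g b0 i))
      (aE 𝒟 g b0 (i + 1)) _ 1 2 ?_ ?_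
    · rw [pow_one]
      exact dvd_aE_succ 𝒟 g b0 i
    · change _ * _ ∣ _
      rw [sq]
      exact mul_dvd_mul dvd_rfl (hD1 i hi)

end hyp

end Groth.Agent.Helper27.Dv
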