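import Mathlib
import Groth.Prelude
import Groth.Agent.Lib.Helper27.DvS13

/-!
# Shrinking a complete dévissage: choosing the elements (helper27)
-/

set_option autoImplicit false
set_option linter.style.haveILetI false
set_option linter.unusedSectionVars false
universe u
open TensorProduct

namespace Groth.Agent.Helper27.Dv

section choose

variable {R S : Type u} [CommRing R] [CommRing S] [Algebra R S]
  {N : Type u} [AddCommGroup N] [Module S N]
  {p : Ideal R} [p.IsPrime] {q : Ideal S} [q.IsPrime] (𝒟 : FlatCA.CompleteDevissage R S N p)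
  (𝒜 : FlatCA.CompleteDevissageAt R S N p q 𝒟)

/-- a standard open of the base inside the images of all the standard opens `D(b0 i)`. -/
theorem exists_g (b0 : ∀ i, 𝒟.B i) (hb : ∀ i, i < 𝒟.n → b0 i ∉ 𝒜.qB i) :
    ∃ g : R, g ∉ p ∧ ∀ i, i < 𝒟.n → ∀ P : PrimeSpectrum R, g ∉ P.asIdeal →
      ∃ Q : PrimeSpectrum (𝒟.B i), b0 i ∉ Q.asIdeal ∧
        PrimeSpectrum.comap (algebraMap R (𝒟.B i)) Q = P := by
  classical
  have key : ∀ i, ∃ gi : R, gi ∉ p ∧ (i < 𝒟.n → ∀ P : PrimeSpectrum R, gi ∉ P.asIdeal →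
      ∃ Q : PrimeSpectrum (𝒟.B i), b0 i ∉ Q.asIdeal ∧
        PrimeSpectrum.comap (algebraMap R (𝒟.B i)) Q = P) := by
    intro i
    by_cases hi : i < 𝒟.n
    · haveI := 𝒜.hqB i
      haveI := 𝒜.overB i
      obtain ⟨gi, hgi, Hgi⟩ := exists_basicOpen_subset_image R (𝒟.B i) (𝒜.d i) (𝒜.relDim i hi) p
        (𝒜.qB i) (b0 i) (hb i hi)
      exact ⟨gi, hgi, fun _ => Hgi⟩
    · exact ⟨1, (Ideal.ne_top_iff_one p).mp (inferInstance : p.IsPrime).ne_top,
        fun h => absurd h hi⟩
  choose gi hgi Hgi using key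
  refine ⟨∏ i ∈ Finset.range 𝒟.n, gi i, ?_, ?_⟩
  · intro hmem
    obtain ⟨i, _, hi⟩ := ((inferInstance : p.IsPrime).prod_mem_iff).mp hmem
    exact hgi i hi
  · intro i hi P hP
    refine Hgi i hi P ?_
    intro hmem
    apply hP
    exact Ideal.mem_of_dvd _ (Finset.dvd_prod_of_mem gi (Finset.mem_range.mpr hi)) hmem

/-- lifting an element of the last smooth algebra up the dévissage. -/
theorem exists_b0 (c : ∀ i, 𝒟.B i) (hc : ∀ i, i < 𝒟.n → c i ∉ 𝒜.qB i) (w : 𝒟.B (𝒟.n - 1))
    (hw : w ∉ 𝒜.qB (𝒟.n - 1)) (hcw : c (𝒟.n - 1) ∣ w) :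
    ∃ b0 : ∀ i, 𝒟.B i, b0 (𝒟.n - 1) = w ∧
      (∀ i, i + 1 < 𝒟.n → algebraMap (𝒟.B i) (𝒟.A (i + 1)) (b0 i) =
        algebraMap (𝒟.B i) (𝒟.A (i + 1)) (c i) *
          algebraMap (𝒟.B (i + 1)) (𝒟.A (i + 1)) (b0 (i + 1))) ∧
      (∀ i, i < 𝒟.n → c i ∣ b0 i) ∧ ∀ i, i < 𝒟.n → b0 i ∉ 𝒜.qB i := by
  classical
  have hpos := 𝒟.pos
  have key : ∀ k, ∃ b0 : ∀ i, 𝒟.B i, b0 (𝒟.n - 1) = w ∧
      (∀ i, 𝒟.n - k ≤ i → i + 1 < 𝒟.n → algebraMap (𝒟.B i) (𝒟.A (i + 1)) (b0 i) =
        algebraMap (𝒟.B i) (𝒟.A (i + 1)) (c i) *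
          algebraMap (𝒟.B (i + 1)) (𝒟.A (i + 1)) (b0 (i + 1))) ∧
      (∀ i, 𝒟.n - k ≤ i → i < 𝒟.n → c i ∣ b0 i) ∧
      ∀ i, 𝒟.n - k ≤ i → i < 𝒟.n → b0 i ∉ 𝒜.qB i := by
    intro k
    induction k with
    | zero =>
      refine ⟨Function.update (fun i => c i) (𝒟.n - 1) w, Function.update_self _ _ _, ?_, ?_, ?_⟩
      · intro i h1 h2
        omega
      · intro i h1 h2
        omega
      · intro i h1 h2
        omega
    | succ k ih =>
      obtain ⟨b0, h1, h2, h3, h4⟩ := ih
      by_cases hk : 𝒟.n - k = 0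
      · refine ⟨b0, h1, ?_, ?_, ?_⟩
        · intro i hi1 hi2
          exact h2 i (by omega) hi2
        · intro i hi1 hi2
          exact h3 i (by omega) hi2
        · intro i hi1 hi2
          exact h4 i (by omega) hi2
      · obtain ⟨m, hm⟩ : ∃ m, 𝒟.n - (k + 1) = m ∧ m + 1 = 𝒟.n - k := ⟨𝒟.n - (k + 1), rfl, by omega⟩
        obtain ⟨hm1, hm2⟩ := hm
        rw [hm1]
        rw [← hm2] at h2 h3 h4
        by_cases hmn : m + 1 < 𝒟.n
        · obtain ⟨t, ht⟩ := 𝒟.surjBA' m hmn (algebraMap (𝒟.B (m + 1)) (𝒟.A (m + 1)) (b0 (m + 1)))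
          have hne : m ≠ 𝒟.n - 1 := by omega
          have hne2 : m + 1 ≠ m := by omega
          refine ⟨Function.update b0 m (c m * t), ?_, ?_, ?_, ?_⟩
          · rw [Function.update_of_ne hne.symm]
            exact h1
          · intro i hi1 hi2
            by_cases him : i = m
            · subst him
              rw [Function.update_self, Function.update_of_ne hne2, map_mul, ht]
            · have h5 : i ≠ m := him
              have h6 : i + 1 ≠ m := by omega
              rw [Function.update_of_ne h5, Function.update_of_ne h6]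
              exact h2 i (by omega) hi2
          · intro i hi1 hi2
            by_cases him : i = m
            · subst him
              rw [Function.update_self]
              exact Dvd.intro _ rfl
            · rw [Function.update_of_ne him]
              exact h3 i (by omega) hi2
          · intro i hi1 hi2
            by_cases him : i = m
            · subst him
              rw [Function.update_self]
              intro hmem
              have h7 : algebraMap (𝒟.B i) (𝒟.A (i + 1)) (c i * t) ∈ 𝒜.qA (i + 1) := by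
                have : c i * t ∈ (𝒜.qA (i + 1)).comap (algebraMap (𝒟.B i) (𝒟.A (i + 1))) := by
                  rw [𝒜.qStep i hmn]
                  exact hmem
                exact this
              rw [map_mul, ht] at h7
              haveI := 𝒜.hqA (i + 1)
              rcases (inferInstance : (𝒜.qA (i + 1)).IsPrime).mem_or_mem h7 with h8 | h8
              · apply hc i hi2
                rw [← 𝒜.qStep i hmn]
                exact h8
              · apply h4 (i + 1) le_rfl hmn
                haveI := 𝒜.overA (i + 1)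
                rw [Ideal.over_def (𝒜.qA (i + 1)) (𝒜.qB (i + 1))]
                exact h8
            · rw [Function.update_of_ne him]
              exact h4 i (by omega) hi2
        · refine ⟨b0, h1, ?_, ?_, ?_⟩
          · intro i hi1 hi2
            omega
          · intro i hi1 hi2
            obtain rfl : i = 𝒟.n - 1 := by omega
            rw [h1]
            exact hcw
          · intro i hi1 hi2
            obtain rfl : i = 𝒟.n - 1 := by omega
            rw [h1]
            exact hw
  obtain ⟨b0, h1, h2, h3, h4⟩ := key 𝒟.n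
  refine ⟨b0, h1, fun i hi => h2 i (by omega) hi, fun i hi => h3 i (by omega) hi,
    fun i hi => h4 i (by omega) hi⟩

/-- descending a neighbourhood of the point down the dévissage. -/
theorem exists_c (u : S) (hu : u ∉ q) :
    ∃ c : ∀ i, 𝒟.B i, (∀ i, i < 𝒟.n → c i ∉ 𝒜.qB i) ∧
      algebraMap S (𝒟.A 0) u ∣ algebraMap (𝒟.B 0) (𝒟.A 0) (c 0) ∧
      ∀ i, i + 1 < 𝒟.n → algebraMap (𝒟.B i) (𝒟.A (i + 1)) (c i) ∣
        algebraMap (𝒟.B (i + 1)) (𝒟.A (i + 1)) (c (i + 1)) := by
  classical
  have key : ∀ m, ∃ c : ∀ i, 𝒟.B i, (∀ i, i ≤ m → i < 𝒟.n → c i ∉ 𝒜.qB i) ∧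
      algebraMap S (𝒟.A 0) u ∣ algebraMap (𝒟.B 0) (𝒟.A 0) (c 0) ∧
      ∀ i, i + 1 ≤ m → i + 1 < 𝒟.n → algebraMap (𝒟.B i) (𝒟.A (i + 1)) (c i) ∣
        algebraMap (𝒟.B (i + 1)) (𝒟.A (i + 1)) (c (i + 1)) := by
    intro m
    induction m with
    | zero =>
      have hu' : algebraMap S (𝒟.A 0) u ∉ 𝒜.qA 0 := by
        intro hmem
        apply hu
        rw [← 𝒜.q0]
        exact hmem
      haveI := 𝒜.hqB 0
      haveI := 𝒜.hqA 0
      haveI := 𝒟.finiteBA 0 𝒟.pos
      obtain ⟨c0, hc0, hdvd⟩ := exists_dvd_of_unique_prime (𝒟.B 0) (𝒟.A 0) (𝒜.qB 0) (𝒜.qA 0)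
        (𝒜.uniq 0 𝒟.pos) _ hu'
      refine ⟨Function.update (fun i => 1) 0 c0, ?_, ?_, ?_⟩
      · intro i hi1 hi2
        obtain rfl : i = 0 := by omega
        rw [Function.update_self]
        exact hc0
      · rw [Function.update_self]
        exact hdvd
      · intro i hi1 hi2
        omega
    | succ m ih =>
      obtain ⟨c, h1, h2, h3⟩ := ih
      by_cases hmn : m + 1 < 𝒟.n
      · have hcm : algebraMap (𝒟.B m) (𝒟.A (m + 1)) (c m) ∉ 𝒜.qA (m + 1) := by
          intro hmem
          apply h1 m le_rfl (by omega)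
          rw [← 𝒜.qStep m hmn]
          exact hmem
        haveI := 𝒜.hqB (m + 1)
        haveI := 𝒜.hqA (m + 1)
        haveI := 𝒟.finiteBA (m + 1) hmn
        obtain ⟨c', hc', hdvd⟩ := exists_dvd_of_unique_prime (𝒟.B (m + 1)) (𝒟.A (m + 1))
          (𝒜.qB (m + 1)) (𝒜.qA (m + 1)) (𝒜.uniq (m + 1) hmn) _ hcm
        have hne0 : (0 : ℕ) ≠ m + 1 := by omega
        refine ⟨Function.update c (m + 1) c', ?_, ?_, ?_⟩
        · intro i hi1 hi2
          by_cases him : i = m + 1
          · subst him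
            rw [Function.update_self]
            exact hc'
          · rw [Function.update_of_ne him]
            exact h1 i (by omega) hi2
        · rw [Function.update_of_ne hne0]
          exact h2
        · intro i hi1 hi2
          by_cases him : i = m
          · subst him
            have hne : i ≠ i + 1 := by omega
            rw [Function.update_self, Function.update_of_ne hne]
            exact hdvd
          · have h5 : i ≠ m + 1 := by omega
            have h6 : i + 1 ≠ m + 1 := by omega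
            rw [Function.update_of_ne h5, Function.update_of_ne h6]
            exact h3 i (by omega) hi2
      · refine ⟨c, ?_, h2, ?_⟩
        · intro i hi1 hi2
          exact h1 i (by omega) hi2
        · intro i hi1 hi2
          exact h3 i (by omega) hi2
  obtain ⟨c, h1, h2, h3⟩ := key 𝒟.n
  exact ⟨c, fun i hi => h1 i (by omega) hi, h2, fun i hi => h3 i (by omega) hi⟩

end choose

end Groth.Agent.Helper27.Dv
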