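import Mathlib
import Groth.Prelude

/-!
# Flatness over a base through towers: étale descent and faithfully flat descent (helper27)
-/

set_option autoImplicit false
set_option linter.style.haveILetI false
set_option linter.unusedSectionVars false
universe u
open TensorProduct

namespace Groth.Agent.Helper27.Dv

section tower

variable (R A T M : Type u) [CommRing R] [CommRing A] [CommRing T] [Algebra R A] [Algebra A T]
  [Algebra R T] [IsScalarTower R A T]
  [AddCommGroup M] [Module R M] [Module A M] [IsScalarTower R A M]

/-- the comparison square for tensoring a tower. -/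
theorem assoc_lTensor {X Y : Type u} [AddCommGroup X] [AddCommGroup Y] [Module R X] [Module R Y]
    (f : X →ₗ[R] Y) (x : (T ⊗[A] M) ⊗[R] X) :
    TensorProduct.AlgebraTensorModule.assoc R A T T M Y (LinearMap.lTensor (T ⊗[A] M) f x) =
      LinearMap.lTensor T (TensorProduct.AlgebraTensorModule.lTensor A M f)
        (TensorProduct.AlgebraTensorModule.assoc R A T T M X x) := by
  induction x using TensorProduct.induction_on with
  | zero => simp
  | add a b ha hb => simp only [map_add, ha, hb]
  | tmul tm x =>
    induction tm using TensorProduct.induction_on with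
    | zero => simp
    | add a b ha hb => simp only [TensorProduct.add_tmul, map_add, ha, hb]
    | tmul t m => simp

/-- flatness over the base passes to a flat base change of the middle ring. -/
theorem flat_tensor_of_flat [Module.Flat R M] [Module.Flat A T] : Module.Flat R (T ⊗[A] M) := by
  rw [Module.Flat.iff_lTensor_preserves_injective_linearMap]
  intro X Y _ _ _ _ f hf
  have h1 : Function.Injective (TensorProduct.AlgebraTensorModule.lTensor A M f) :=
    Module.Flat.lTensor_preserves_injective_linearMap (M := M) f hf
  have h2 : Function.Injective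
      (LinearMap.lTensor T (TensorProduct.AlgebraTensorModule.lTensor A M f)) :=
    Module.Flat.lTensor_preserves_injective_linearMap (M := T) _ h1
  intro x y hxy
  apply (TensorProduct.AlgebraTensorModule.assoc R A T T M X).injective
  apply h2
  rw [← assoc_lTensor, ← assoc_lTensor, hxy]

/-- flatness over the base descends along a faithfully flat base change of the middle ring. -/
theorem flat_of_flat_tensor [Module.FaithfullyFlat A T] [Module.Flat R (T ⊗[A] M)] :
    Module.Flat R M := by
  rw [Module.Flat.iff_lTensor_preserves_injective_linearMap]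
  intro X Y _ _ _ _ f hf
  have h0 : Function.Injective (LinearMap.lTensor (T ⊗[A] M) f) :=
    Module.Flat.lTensor_preserves_injective_linearMap (M := T ⊗[A] M) f hf
  have h2 : Function.Injective
      (LinearMap.lTensor T (TensorProduct.AlgebraTensorModule.lTensor A M f)) := by
    intro x y hxy
    obtain ⟨x', rfl⟩ := (TensorProduct.AlgebraTensorModule.assoc R A T T M X).surjective x
    obtain ⟨y', rfl⟩ := (TensorProduct.AlgebraTensorModule.assoc R A T T M X).surjective y
    rw [← assoc_lTensor, ← assoc_lTensor] at hxy
    rw [h0 ((TensorProduct.AlgebraTensorModule.assoc R A T T M Y).injective hxy)]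
  exact (Module.FaithfullyFlat.lTensor_injective_iff_injective A T
    (TensorProduct.AlgebraTensorModule.lTensor A M f)).mp h2

end tower

section transfer

variable (R A₁ A₂ : Type u) [CommRing R] [CommRing A₁] [CommRing A₂] [Algebra R A₁]
  [Algebra A₁ A₂] [Algebra R A₂] [IsScalarTower R A₁ A₂]
  (M₁ M₂ : Type u) [AddCommGroup M₁] [AddCommGroup M₂] [Module R M₁] [Module A₁ M₁]
  [IsScalarTower R A₁ M₁] [Module R M₂] [Module A₁ M₂] [Module A₂ M₂] [IsScalarTower A₁ A₂ M₂]
  [IsScalarTower R A₂ M₂] (h : M₁ →ₗ[A₁] M₂) (hh : IsBaseChange A₂ h)

include hh in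
theorem flat_of_isBaseChange_of_flat [Module.Flat R M₁] [Module.Flat A₁ A₂] :
    Module.Flat R M₂ := by
  haveI := flat_tensor_of_flat R A₁ A₂ M₁
  exact Module.Flat.of_linearEquiv (hh.equiv.restrictScalars R).symm

include hh in
theorem flat_of_isBaseChange_of_faithfullyFlat [Module.Flat R M₂] [Module.FaithfullyFlat A₁ A₂] :
    Module.Flat R M₁ := by
  haveI : Module.Flat R (A₂ ⊗[A₁] M₁) :=
    Module.Flat.of_linearEquiv (hh.equiv.restrictScalars R)
  exact flat_of_flat_tensor R A₁ A₂ M₁

end transfer

end Groth.Agent.Helper27.Dv
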