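import Mathlib
import Groth.Prelude

/-!
# A module over an étale algebra which is flat over the base is flat over the algebra (helper27)
-/

set_option autoImplicit false
set_option linter.style.haveILetI false
set_option linter.unusedSectionVars false
universe u
open TensorProduct

namespace Groth.Agent.Helper27.Dv

section etale

variable (R R' : Type u) [CommRing R] [CommRing R'] [Algebra R R']
  (M : Type u) [AddCommGroup M] [Module R M] [Module R' M] [IsScalarTower R R' M]
  (X : Type u) [AddCommGroup X] [Module R X] [Module R' X] [IsScalarTower R R' X]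

/-- `a ⊗ b ↦ a x ⊗ b m`. -/
noncomputable def etPhi (x : X) (m : M) : R' ⊗[R] R' →ₗ[R] X ⊗[R] M :=
  TensorProduct.map ((LinearMap.toSpanSingleton R' X x).restrictScalars R)
    ((LinearMap.toSpanSingleton R' M m).restrictScalars R)

@[simp]
theorem etPhi_tmul (x : X) (m : M) (a b : R') :
    etPhi R R' M X x m (a ⊗ₜ[R] b) = (a • x) ⊗ₜ[R] (b • m) := by
  simp [etPhi]

theorem etPhi_smul_left (x : X) (m : M) (s : R') (u : R' ⊗[R] R') :
    etPhi R R' M X (s • x) m u = etPhi R R' M X x m ((s ⊗ₜ[R] (1 : R')) * u) := by
  induction u using TensorProduct.induction_on with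
  | zero => simp
  | add a b ha hb => simp only [map_add, mul_add, ha, hb]
  | tmul a b =>
    rw [Algebra.TensorProduct.tmul_mul_tmul, etPhi_tmul, etPhi_tmul, one_mul, smul_smul, mul_comm]

theorem etPhi_smul_right (x : X) (m : M) (s : R') (u : R' ⊗[R] R') :
    etPhi R R' M X x (s • m) u = etPhi R R' M X x m (((1 : R') ⊗ₜ[R] s) * u) := by
  induction u using TensorProduct.induction_on with
  | zero => simp
  | add a b ha hb => simp only [map_add, mul_add, ha, hb]
  | tmul a b =>
    rw [Algebra.TensorProduct.tmul_mul_tmul, etPhi_tmul, etPhi_tmul, one_mul, smul_smul, mul_comm]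

theorem etPhi_smul (x : X) (m : M) (s : R') (u : R' ⊗[R] R') :
    etPhi R R' M X (s • x) m u = s • etPhi R R' M X x m u := by
  induction u using TensorProduct.induction_on with
  | zero => simp
  | add a b ha hb => simp only [map_add, smul_add, ha, hb]
  | tmul a b =>
    rw [etPhi_tmul, etPhi_tmul, TensorProduct.smul_tmul', smul_comm]

theorem etPhi_add_left (x x' : X) (m : M) (u : R' ⊗[R] R') :
    etPhi R R' M X (x + x') m u = etPhi R R' M X x m u + etPhi R R' M X x' m u := by
  induction u using TensorProduct.induction_on with
  | zero => simp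
  | add a b ha hb => simp only [map_add, ha, hb]; abel
  | tmul a b => simp [smul_add, TensorProduct.add_tmul]

theorem etPhi_add_right (x : X) (m m' : M) (u : R' ⊗[R] R') :
    etPhi R R' M X x (m + m') u = etPhi R R' M X x m u + etPhi R R' M X x m' u := by
  induction u using TensorProduct.induction_on with
  | zero => simp
  | add a b ha hb => simp only [map_add, ha, hb]; abel
  | tmul a b => simp [smul_add, TensorProduct.tmul_add]

variable [Algebra.EssFiniteType R R'] [Algebra.FormallyUnramified R R']

/-- the section of `X ⊗[R] M → X ⊗[R'] M`. -/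
noncomputable def etSigma : X ⊗[R'] M →ₗ[R'] X ⊗[R] M :=
  TensorProduct.lift (LinearMap.mk₂ R'
    (fun x m => etPhi R R' M X x m (Algebra.FormallyUnramified.elem R R'))
    (fun x x' m => etPhi_add_left R R' M X x x' m _)
    (fun s x m => etPhi_smul R R' M X x m s _)
    (fun x m m' => etPhi_add_right R R' M X x m m' _)
    (fun s x m => by
      rw [etPhi_smul_right, Algebra.FormallyUnramified.one_tmul_mul_elem, ← etPhi_smul_left,
        etPhi_smul]))

@[simp]
theorem etSigma_tmul (x : X) (m : M) :
    etSigma R R' M X (x ⊗ₜ[R'] m) =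
      etPhi R R' M X x m (Algebra.FormallyUnramified.elem R R') := by
  simp [etSigma]

theorem mapOfCompat_etPhi (x : X) (m : M) (u : R' ⊗[R] R') :
    TensorProduct.mapOfCompatibleSMul R' R R' X M (etPhi R R' M X x m u) =
      x ⊗ₜ[R'] (Algebra.TensorProduct.lmul' R u • m) := by
  induction u using TensorProduct.induction_on with
  | zero => simp
  | add a b ha hb => simp only [map_add, add_smul, TensorProduct.tmul_add, ha, hb]
  | tmul a b =>
    rw [etPhi_tmul, TensorProduct.mapOfCompatibleSMul_tmul, Algebra.TensorProduct.lmul'_apply_tmul,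
      TensorProduct.smul_tmul, smul_smul]

theorem mapOfCompat_etSigma (ξ : X ⊗[R'] M) :
    TensorProduct.mapOfCompatibleSMul R' R R' X M (etSigma R R' M X ξ) = ξ := by
  induction ξ using TensorProduct.induction_on with
  | zero => simp
  | add a b ha hb => simp only [map_add, ha, hb]
  | tmul x m =>
    rw [etSigma_tmul, mapOfCompat_etPhi, Algebra.FormallyUnramified.lmul_elem, one_smul]

variable (Y : Type u) [AddCommGroup Y] [Module R Y] [Module R' Y] [IsScalarTower R R' Y]

theorem rTensor_etPhi (i : X →ₗ[R'] Y) (x : X) (m : M) (u : R' ⊗[R] R') :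
    LinearMap.rTensor M (i.restrictScalars R) (etPhi R R' M X x m u) =
      etPhi R R' M Y (i x) m u := by
  induction u using TensorProduct.induction_on with
  | zero => simp
  | add a b ha hb => simp only [map_add, ha, hb]
  | tmul a b => simp

theorem rTensor_etSigma (i : X →ₗ[R'] Y) (ξ : X ⊗[R'] M) :
    LinearMap.rTensor M (i.restrictScalars R) (etSigma R R' M X ξ) =
      etSigma R R' M Y (LinearMap.rTensor M i ξ) := by
  induction ξ using TensorProduct.induction_on with
  | zero => simp
  | add a b ha hb => simp only [map_add, ha, hb]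
  | tmul x m => simp [rTensor_etPhi]

end etale

/-- a module over an étale algebra which is flat over the base is flat over the algebra. -/
theorem flat_of_etale_of_flat (R R' : Type u) [CommRing R] [CommRing R'] [Algebra R R']
    [Algebra.Etale R R'] (M : Type u) [AddCommGroup M] [Module R M] [Module R' M]
    [IsScalarTower R R' M] [Module.Flat R M] : Module.Flat R' M := by
  rw [Module.Flat.iff_rTensor_preserves_injective_linearMap]
  intro X Y _ _ _ _ i hi
  letI : Module R X := Module.compHom X (algebraMap R R')
  letI : Module R Y := Module.compHom Y (algebraMap R R')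
  haveI : IsScalarTower R R' X := IsScalarTower.of_algebraMap_smul fun _ _ => rfl
  haveI : IsScalarTower R R' Y := IsScalarTower.of_algebraMap_smul fun _ _ => rfl
  have h1 : Function.Injective (LinearMap.rTensor M (i.restrictScalars R)) :=
    Module.Flat.rTensor_preserves_injective_linearMap (M := M) (i.restrictScalars R) hi
  intro ξ ξ' hξ
  have h2 : etSigma R R' M X ξ = etSigma R R' M X ξ' := by
    apply h1
    rw [rTensor_etSigma, rTensor_etSigma, hξ]
  rw [← mapOfCompat_etSigma R R' M X ξ, ← mapOfCompat_etSigma R R' M X ξ', h2]

end Groth.Agent.Helper27.Dv
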