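import Mathlib
import Groth.Prelude
import Groth.Agent.Lib.Helper27.DvT1
import Groth.Agent.Lib.Helper27.DvT2

/-!
# Flatness at a point and étale neighbourhoods (helper27)
-/

set_option autoImplicit false
set_option linter.style.haveILetI false
set_option linter.unusedSectionVars false
universe u
open TensorProduct

namespace Groth.Agent.Helper27.Dv

section point

variable (R R' S S' : Type u) [CommRing R] [CommRing R'] [CommRing S] [CommRing S']
  [Algebra R R'] [Algebra R S] [Algebra R' S'] [Algebra R S'] [Algebra S S']
  [IsScalarTower R R' S'] [IsScalarTower R S S'] [Algebra.Etale R R'] [Module.Flat S S']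
  (q : Ideal S) [q.IsPrime] (q' : Ideal S') [q'.IsPrime] [q'.LiesOver q]
  (N : Type u) [AddCommGroup N] [Module S N] [Module R N] [IsScalarTower R S N]
  (W : Type u) [AddCommGroup W] [Module S' W] [Module R' W] [IsScalarTower R' S' W]
  [Module S W] [IsScalarTower S S' W] [Module R W] [IsScalarTower R S' W] [IsScalarTower R R' W]
  [IsScalarTower R S W]
  (φ : N →ₗ[S] W) (hφ : IsBaseChange S' φ)

include hφ in
/-- flatness of `N` at `q` over `R` is flatness of the base change at `q'` over `R'`. -/
theorem flatAt_iff_of_isBaseChange :
    Module.Flat R (LocalizedModule q.primeCompl N) ↔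
      Module.Flat R' (LocalizedModule q'.primeCompl W) := by
  letI aAL : Algebra (Localization.AtPrime q) (Localization.AtPrime q') :=
    Localization.AtPrime.algebraOfLiesOver q q'
  haveI : IsLocalHom (algebraMap (Localization.AtPrime q) (Localization.AtPrime q')) :=
    Localization.isLocalHom_localRingHom q q' (algebraMap S S') Ideal.LiesOver.over
  haveI : Module.FaithfullyFlat (Localization.AtPrime q) (Localization.AtPrime q') :=
    Module.FaithfullyFlat.of_flat_of_isLocalHom
  letI mAW : Module (Localization.AtPrime q) (LocalizedModule q'.primeCompl W) :=
    Module.compHom _ (algebraMap (Localization.AtPrime q) (Localization.AtPrime q'))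
  haveI tALW : IsScalarTower (Localization.AtPrime q) (Localization.AtPrime q')
      (LocalizedModule q'.primeCompl W) := IsScalarTower.of_algebraMap_smul fun _ _ => rfl
  haveI tSLW : IsScalarTower S (Localization.AtPrime q') (LocalizedModule q'.primeCompl W) :=
    IsScalarTower.of_algebraMap_smul fun s x => by
      rw [IsScalarTower.algebraMap_apply S S' (Localization.AtPrime q'), algebraMap_smul,
        algebraMap_smul]
  haveI tSAW : IsScalarTower S (Localization.AtPrime q) (LocalizedModule q'.primeCompl W) :=
    IsScalarTower.of_algebraMap_smul fun s x => by
      rw [← algebraMap_smul (Localization.AtPrime q') (algebraMap S (Localization.AtPrime q) s) x,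
        ← IsScalarTower.algebraMap_apply S (Localization.AtPrime q) (Localization.AtPrime q'),
        algebraMap_smul]
  haveI tRLW : IsScalarTower R (Localization.AtPrime q') (LocalizedModule q'.primeCompl W) :=
    IsScalarTower.of_algebraMap_smul fun r x => by
      rw [IsScalarTower.algebraMap_apply R S' (Localization.AtPrime q'), algebraMap_smul,
        algebraMap_smul]
  haveI tRAN : IsScalarTower R (Localization.AtPrime q) (LocalizedModule q.primeCompl N) :=
    IsScalarTower.of_algebraMap_smul fun r x => by
      rw [IsScalarTower.algebraMap_apply R S (Localization.AtPrime q), algebraMap_smul,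
        algebraMap_smul]
  -- the base changes
  have h1 : IsBaseChange (Localization.AtPrime q) (LocalizedModule.mkLinearMap q.primeCompl N) :=
    IsLocalizedModule.isBaseChange q.primeCompl _ _
  have h2 : IsBaseChange (Localization.AtPrime q')
      (LocalizedModule.mkLinearMap q'.primeCompl W) :=
    IsLocalizedModule.isBaseChange q'.primeCompl _ _
  have hψ : IsBaseChange (Localization.AtPrime q')
      (((LocalizedModule.mkLinearMap q'.primeCompl W).restrictScalars S).comp φ) :=
    IsBaseChange.comp hφ h2
  have hh : IsBaseChange (Localization.AtPrime q')
      (h1.lift (((LocalizedModule.mkLinearMap q'.primeCompl W).restrictScalars S).comp φ)) := by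
    refine IsBaseChange.of_comp h1 ?_
    rw [IsBaseChange.lift_comp]
    exact hψ
  constructor
  · intro hfl
    haveI := hfl
    haveI : Module.Flat R (LocalizedModule q'.primeCompl W) :=
      flat_of_isBaseChange_of_flat R (Localization.AtPrime q) (Localization.AtPrime q')
        (LocalizedModule q.primeCompl N) (LocalizedModule q'.primeCompl W) _ hh
    exact flat_of_etale_of_flat R R' (LocalizedModule q'.primeCompl W)
  · intro hfl
    haveI := hfl
    haveI : Module.Flat R (LocalizedModule q'.primeCompl W) :=
      Module.Flat.trans R R' (LocalizedModule q'.primeCompl W)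
    exact flat_of_isBaseChange_of_faithfullyFlat R (Localization.AtPrime q)
      (Localization.AtPrime q') (LocalizedModule q.primeCompl N)
      (LocalizedModule q'.primeCompl W) _ hh

end point

end Groth.Agent.Helper27.Dv
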