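import Mathlib
import Groth.Prelude
import Groth.Agent.Lib.Helper27.DvT1
import Groth.Agent.Lib.Helper27.DvT2

/-!
# Transfer of flatness over a base between two base changes of a module (helper27)
-/

set_option autoImplicit false
set_option linter.style.haveILetI false
set_option linter.unusedSectionVars false
universe u
open TensorProduct

namespace Groth.Agent.Helper27.Dv

section general

variable (R S A₁ A₂ : Type u) [CommRing R] [CommRing S] [CommRing A₁] [CommRing A₂]
  [Algebra S A₁] [Algebra S A₂] [Algebra A₁ A₂] [IsScalarTower S A₁ A₂]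
  [Algebra R A₁] [Algebra R A₂] [IsScalarTower R A₁ A₂]
  (N M₁ M₂ : Type u) [AddCommGroup N] [AddCommGroup M₁] [AddCommGroup M₂]
  [Module S N] [Module S M₁] [Module A₁ M₁] [IsScalarTower S A₁ M₁]
  [Module S M₂] [Module A₂ M₂] [IsScalarTower S A₂ M₂]
  [Module R M₁] [IsScalarTower R A₁ M₁] [Module R M₂] [IsScalarTower R A₂ M₂]
  (f₁ : N →ₗ[S] M₁) (hf₁ : IsBaseChange A₁ f₁) (f₂ : N →ₗ[S] M₂) (hf₂ : IsBaseChange A₂ f₂)

include hf₁ hf₂ in
theorem flat_transfer [Module.Flat R M₁] [Module.Flat A₁ A₂] : Module.Flat R M₂ := by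
  letI : Module A₁ M₂ := Module.compHom M₂ (algebraMap A₁ A₂)
  haveI : IsScalarTower A₁ A₂ M₂ := IsScalarTower.of_algebraMap_smul fun _ _ => rfl
  haveI : IsScalarTower S A₁ M₂ := IsScalarTower.of_algebraMap_smul fun s x => by
    rw [← algebraMap_smul A₂ (algebraMap S A₁ s) x, ← IsScalarTower.algebraMap_apply S A₁ A₂,
      algebraMap_smul]
  have hh : IsBaseChange A₂ (hf₁.lift f₂) := by
    refine IsBaseChange.of_comp hf₁ ?_
    rw [IsBaseChange.lift_comp]
    exact hf₂
  exact flat_of_isBaseChange_of_flat R A₁ A₂ M₁ M₂ _ hh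

include hf₁ hf₂ in
theorem flat_descent [Module.Flat R M₂] [Module.FaithfullyFlat A₁ A₂] : Module.Flat R M₁ := by
  letI : Module A₁ M₂ := Module.compHom M₂ (algebraMap A₁ A₂)
  haveI : IsScalarTower A₁ A₂ M₂ := IsScalarTower.of_algebraMap_smul fun _ _ => rfl
  haveI : IsScalarTower S A₁ M₂ := IsScalarTower.of_algebraMap_smul fun s x => by
    rw [← algebraMap_smul A₂ (algebraMap S A₁ s) x, ← IsScalarTower.algebraMap_apply S A₁ A₂,
      algebraMap_smul]
  have hh : IsBaseChange A₂ (hf₁.lift f₂) := by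
    refine IsBaseChange.of_comp hf₁ ?_
    rw [IsBaseChange.lift_comp]
    exact hf₂
  exact flat_of_isBaseChange_of_faithfullyFlat R A₁ A₂ M₁ M₂ _ hh

end general

end Groth.Agent.Helper27.Dv
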