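import Mathlib
import Groth.Prelude
import Groth.Agent.Lib.Helper27.DvT4
import Groth.Agent.Lib.Helper27.DvN5

/-!
# Flatness on standard opens and étale neighbourhoods (helper27)
-/

set_option autoImplicit false
set_option linter.style.haveILetI false
set_option linter.unusedSectionVars false
universe u
open TensorProduct

namespace Groth.Agent.Helper27.Dv

section shrinkOpen

variable (R C : Type u) [CommRing R] [CommRing C] [Algebra R C]
  (G : Type u) [AddCommGroup G] [Module C G] [Module R G] [IsScalarTower R C G]

theorem tower_base_localizedModule (T : Submonoid C) :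
    IsScalarTower R (Localization T) (LocalizedModule T G) :=
  IsScalarTower.of_algebraMap_smul fun r x => by
    rw [IsScalarTower.algebraMap_apply R C (Localization T), algebraMap_smul, algebraMap_smul]

/-- flatness over the base passes to smaller standard opens. -/
theorem flat_away_of_dvd (c c₂ : C) (h : c ∣ c₂)
    [Module.Flat R (LocalizedModule (Submonoid.powers c) G)] :
    Module.Flat R (LocalizedModule (Submonoid.powers c₂) G) := by
  have hu : IsUnit (algebraMap C (Localization.Away c₂) c) :=
    isUnit_away_of_dvd c c₂ (by rw [Algebra.algebraMap_self_apply]; exact h)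
  letI : Algebra (Localization.Away c) (Localization.Away c₂) := awayAlg c c₂ hu
  haveI : IsScalarTower C (Localization.Away c) (Localization.Away c₂) := awayAlg_tower c c₂ hu
  haveI : IsScalarTower R (Localization.Away c) (Localization.Away c₂) :=
    IsScalarTower.of_algebraMap_eq fun r => by
      rw [IsScalarTower.algebraMap_apply R C (Localization.Away c₂),
        IsScalarTower.algebraMap_apply C (Localization.Away c) (Localization.Away c₂),
        ← IsScalarTower.algebraMap_apply R C (Localization.Away c)]
  haveI := tower_base_localizedModule R C G (Submonoid.powers c)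
  haveI := tower_base_localizedModule R C G (Submonoid.powers c₂)
  haveI : Module.Flat (Localization.Away c) (Localization.Away c₂) :=
    (Module.flat_iff_of_isLocalization (Localization.Away c) (Submonoid.powers c)
      (Localization.Away c₂)).mpr (IsLocalization.flat (Localization.Away c₂)
        (Submonoid.powers c₂))
  exact flat_transfer R C (Localization.Away c) (Localization.Away c₂) G
    (LocalizedModule (Submonoid.powers c) G) (LocalizedModule (Submonoid.powers c₂) G)
    (LocalizedModule.mkLinearMap (Submonoid.powers c) G)
    (IsLocalizedModule.isBaseChange (Submonoid.powers c) _ _)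
    (LocalizedModule.mkLinearMap (Submonoid.powers c₂) G)
    (IsLocalizedModule.isBaseChange (Submonoid.powers c₂) _ _)

end shrinkOpen

section opens

variable (R R' S S' : Type u) [CommRing R] [CommRing R'] [CommRing S] [CommRing S']
  [Algebra R R'] [Algebra R S] [Algebra R' S'] [Algebra R S'] [Algebra S S']
  [IsScalarTower R R' S'] [IsScalarTower R S S'] [Algebra.Etale R R'] [Module.Flat S S']
  (N : Type u) [AddCommGroup N] [Module S N] [Module R N] [IsScalarTower R S N]
  (W : Type u) [AddCommGroup W] [Module S' W] [Module R' W] [IsScalarTower R' S' W]
  [Module S W] [IsScalarTower S S' W] [Module R W] [IsScalarTower R S' W] [IsScalarTower R R' W]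
  [IsScalarTower R S W]
  (φ : N →ₗ[S] W) (hφ : IsBaseChange S' φ)

include hφ in
/-- flatness of `N` over `R` on a standard open gives flatness of the base change over `R'`. -/
theorem flat_away_baseChange (g : S) [Module.Flat R (LocalizedModule (Submonoid.powers g) N)] :
    Module.Flat R' (LocalizedModule (Submonoid.powers (algebraMap S S' g)) W) := by
  have hu : IsUnit (algebraMap S (Localization.Away (algebraMap S S' g)) g) :=
    isUnit_away_of_dvd g _ dvd_rfl
  letI : Algebra (Localization.Away g) (Localization.Away (algebraMap S S' g)) :=
    awayAlg g _ hu
  haveI : IsScalarTower S (Localization.Away g) (Localization.Away (algebraMap S S' g)) :=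
    awayAlg_tower g _ hu
  haveI : IsScalarTower R (Localization.Away g) (Localization.Away (algebraMap S S' g)) :=
    IsScalarTower.of_algebraMap_eq fun r => by
      rw [IsScalarTower.algebraMap_apply R S (Localization.Away (algebraMap S S' g)),
        IsScalarTower.algebraMap_apply S (Localization.Away g)
          (Localization.Away (algebraMap S S' g)),
        ← IsScalarTower.algebraMap_apply R S (Localization.Away g)]
  haveI := tower_base_localizedModule R S N (Submonoid.powers g)
  haveI := tower_base_localizedModule R S' W (Submonoid.powers (algebraMap S S' g))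
  haveI : IsScalarTower S (Localization.Away (algebraMap S S' g))
      (LocalizedModule (Submonoid.powers (algebraMap S S' g)) W) :=
    tower_base_localizedModule S S' W (Submonoid.powers (algebraMap S S' g))
  haveI : Module.Flat S (Localization.Away (algebraMap S S' g)) :=
    Module.Flat.trans S S' _
  haveI : Module.Flat (Localization.Away g) (Localization.Away (algebraMap S S' g)) :=
    (Module.flat_iff_of_isLocalization (Localization.Away g) (Submonoid.powers g)
      (Localization.Away (algebraMap S S' g))).mpr inferInstance
  haveI : Module.Flat R (LocalizedModule (Submonoid.powers (algebraMap S S' g)) W) :=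
    flat_transfer R S (Localization.Away g) (Localization.Away (algebraMap S S' g)) N
      (LocalizedModule (Submonoid.powers g) N)
      (LocalizedModule (Submonoid.powers (algebraMap S S' g)) W)
      (LocalizedModule.mkLinearMap (Submonoid.powers g) N)
      (IsLocalizedModule.isBaseChange (Submonoid.powers g) _ _)
      (((LocalizedModule.mkLinearMap (Submonoid.powers (algebraMap S S' g)) W).restrictScalars
        S).comp φ)
      (IsBaseChange.comp hφ (IsLocalizedModule.isBaseChange
        (Submonoid.powers (algebraMap S S' g)) _ _))
  exact flat_of_etale_of_flat R R' _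

include hφ in
/-- flatness of the base change over `R'` on a standard open around `q'` gives flatness of `N`
over `R` on a standard open around `q`. -/
theorem exists_flat_away_of_baseChange [Algebra.FinitePresentation S S']
    (q : Ideal S) [q.IsPrime] (q' : Ideal S') [q'.IsPrime] [q'.LiesOver q]
    (s' : S') (hs' : s' ∉ q')
    [Module.Flat R' (LocalizedModule (Submonoid.powers s') W)] :
    ∃ g : S, g ∉ q ∧ Module.Flat R (LocalizedModule (Submonoid.powers g) N) := by
  -- openness
  have hopen : IsOpenMap (PrimeSpectrum.comap (algebraMap S S')) :=
    PrimeSpectrum.isOpenMap_comap_of_hasGoingDown_of_finitePresentation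
  have hU : IsOpen (PrimeSpectrum.comap (algebraMap S S') ''
      (PrimeSpectrum.basicOpen s' : Set _)) := hopen _ (PrimeSpectrum.basicOpen s').isOpen
  have hq : (⟨q, inferInstance⟩ : PrimeSpectrum S) ∈
      PrimeSpectrum.comap (algebraMap S S') '' (PrimeSpectrum.basicOpen s' : Set _) :=
    ⟨⟨q', inferInstance⟩, hs', PrimeSpectrum.ext (Ideal.over_def q' q).symm⟩
  obtain ⟨_, ⟨g, rfl⟩, hqg, hsub⟩ :=
    PrimeSpectrum.isTopologicalBasis_basic_opens.exists_subset_of_mem_open hq hU
  refine ⟨g, hqg, ?_⟩
  have Hg : ∀ P : PrimeSpectrum S, g ∉ P.asIdeal →
      ∃ Q : PrimeSpectrum S', s' ∉ Q.asIdeal ∧ PrimeSpectrum.comap (algebraMap S S') Q = P := by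
    intro P hP
    obtain ⟨Q, hQ, rfl⟩ := hsub hP
    exact ⟨Q, hQ, rfl⟩
  -- the rings
  have hu : IsUnit (algebraMap S (Localization.Away (s' * algebraMap S S' g)) g) :=
    isUnit_away_of_dvd g _ (Dvd.intro_left _ rfl)
  letI : Algebra (Localization.Away g) (Localization.Away (s' * algebraMap S S' g)) :=
    awayAlg g _ hu
  haveI : IsScalarTower S (Localization.Away g) (Localization.Away (s' * algebraMap S S' g)) :=
    awayAlg_tower g _ hu
  haveI : IsScalarTower R (Localization.Away g) (Localization.Away (s' * algebraMap S S' g)) :=
    IsScalarTower.of_algebraMap_eq fun r => by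
      rw [IsScalarTower.algebraMap_apply R S (Localization.Away (s' * algebraMap S S' g)),
        IsScalarTower.algebraMap_apply S (Localization.Away g)
          (Localization.Away (s' * algebraMap S S' g)),
        ← IsScalarTower.algebraMap_apply R S (Localization.Away g)]
  haveI := tower_base_localizedModule R S N (Submonoid.powers g)
  haveI := tower_base_localizedModule R S' W (Submonoid.powers (s' * algebraMap S S' g))
  haveI : IsScalarTower S (Localization.Away (s' * algebraMap S S' g))
      (LocalizedModule (Submonoid.powers (s' * algebraMap S S' g)) W) :=
    tower_base_localizedModule S S' W (Submonoid.powers (s' * algebraMap S S' g))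
  haveI : Module.Flat S (Localization.Away (s' * algebraMap S S' g)) :=
    Module.Flat.trans S S' _
  haveI : Module.Flat (Localization.Away g) (Localization.Away (s' * algebraMap S S' g)) :=
    (Module.flat_iff_of_isLocalization (Localization.Away g) (Submonoid.powers g)
      (Localization.Away (s' * algebraMap S S' g))).mpr inferInstance
  haveI : Module.FaithfullyFlat (Localization.Away g)
      (Localization.Away (s' * algebraMap S S' g)) :=
    Module.FaithfullyFlat.of_comap_surjective
      (comap_surjective_away S S' (Localization.Away g)
        (Localization.Away (s' * algebraMap S S' g)) g s' Hg)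
  -- flatness over `R` of the smaller open
  haveI : Module.Flat R (LocalizedModule (Submonoid.powers s') W) :=
    Module.Flat.trans R R' _
  haveI : Module.Flat R (LocalizedModule (Submonoid.powers (s' * algebraMap S S' g)) W) :=
    flat_away_of_dvd R S' W s' _ (Dvd.intro _ rfl)
  exact flat_descent R S (Localization.Away g) (Localization.Away (s' * algebraMap S S' g)) N
    (LocalizedModule (Submonoid.powers g) N)
    (LocalizedModule (Submonoid.powers (s' * algebraMap S S' g)) W)
    (LocalizedModule.mkLinearMap (Submonoid.powers g) N)
    (IsLocalizedModule.isBaseChange (Submonoid.powers g) _ _)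
    (((LocalizedModule.mkLinearMap (Submonoid.powers (s' * algebraMap S S' g)) W).restrictScalars
      S).comp φ)
    (IsBaseChange.comp hφ (IsLocalizedModule.isBaseChange
      (Submonoid.powers (s' * algebraMap S S' g)) _ _))

end opens

end Groth.Agent.Helper27.Dv
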