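import Mathlib
import Groth.Prelude
import Groth.Agent.Lib.Helper27.DvT5
import Groth.Agent.Lib.Helper27.DvN6

/-!
# Comparing localizations of a module over different rings (helper27)
-/

set_option autoImplicit false
set_option linter.style.haveILetI false
set_option linter.unusedSectionVars false
universe u
open TensorProduct

namespace Groth.Agent.Helper27.Dv

section locEquiv

variable (R C : Type u) [CommRing R] [CommRing C] [Algebra R C]
  (G : Type u) [AddCommGroup G] [Module C G] [Module R G] [IsScalarTower R C G]
  (P : Type u) [AddCommGroup P] [Module C P] [Module R P] [IsScalarTower R C P]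

/-- flatness over the base of a localized module can be tested on any model. -/
theorem flat_iff_of_isLocalizedModule (T : Submonoid C) (f : G →ₗ[C] P) [IsLocalizedModule T f] :
    Module.Flat R (LocalizedModule T G) ↔ Module.Flat R P :=
  Module.Flat.equiv_iff ((IsLocalizedModule.iso T f).restrictScalars R)

end locEquiv

section compat

variable (R A C : Type u) [CommRing R] [CommRing A] [CommRing C] [Algebra R A] [Algebra A C]
  [Algebra R C] [IsScalarTower R A C]
  (G : Type u) [AddCommGroup G] [Module C G] [Module A G] [IsScalarTower A C G]
  [Module R G] [IsScalarTower R C G] [IsScalarTower R A G]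

/-- localizing at an element of `A` or at its image in `C`. -/
theorem flat_away_algebraMap_iff (a : A) :
    Module.Flat R (LocalizedModule (Submonoid.powers a) G) ↔
      Module.Flat R (LocalizedModule (Submonoid.powers (algebraMap A C a)) G) := by
  haveI := IsLocalizedModule.restrictScalars_powers a
    (LocalizedModule.mkLinearMap (Submonoid.powers (algebraMap A C a)) G)
  exact flat_iff_of_isLocalizedModule R A G
    (LocalizedModule (Submonoid.powers (algebraMap A C a)) G) (Submonoid.powers a)
    ((LocalizedModule.mkLinearMap (Submonoid.powers (algebraMap A C a)) G).restrictScalars A)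

/-- localizing at a prime of `A` or at the prime of a quotient `C` above it. -/
theorem flatAt_surj_iff (hsurj : Function.Surjective (algebraMap A C))
    (q' : Ideal A) [q'.IsPrime] (z : Ideal C) [z.IsPrime] [z.LiesOver q'] :
    Module.Flat R (LocalizedModule q'.primeCompl G) ↔
      Module.Flat R (LocalizedModule z.primeCompl G) := by
  have hT : Algebra.algebraMapSubmonoid C q'.primeCompl = z.primeCompl := by
    ext c
    constructor
    · rintro ⟨s, hs, rfl⟩
      intro hz
      exact hs ((Ideal.mem_of_liesOver z q' s).mpr hz)
    · intro hc
      obtain ⟨s, rfl⟩ := hsurj c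
      refine ⟨s, ?_, rfl⟩
      intro hs
      exact hc ((Ideal.mem_of_liesOver z q' s).mp hs)
  haveI : IsLocalizedModule (Algebra.algebraMapSubmonoid C q'.primeCompl)
      (LocalizedModule.mkLinearMap z.primeCompl G) := by
    rw [hT]; infer_instance
  haveI := IsLocalizedModule.restrictScalars q'.primeCompl
    (LocalizedModule.mkLinearMap z.primeCompl G)
  exact flat_iff_of_isLocalizedModule R A G (LocalizedModule z.primeCompl G) q'.primeCompl
    ((LocalizedModule.mkLinearMap z.primeCompl G).restrictScalars A)

/-- localizing at a prime `y` of `A` or at the unique prime of a finite algebra `C` above it. -/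
theorem flatAt_finite_unique_iff [Module.Finite A C]
    (y : Ideal A) [y.IsPrime] (z : Ideal C) [z.IsPrime] [z.LiesOver y]
    (huniq : ∀ (z₁ : Ideal C) [z₁.IsPrime], z₁.LiesOver y → z₁ = z) :
    Module.Flat R (LocalizedModule y.primeCompl G) ↔
      Module.Flat R (LocalizedModule z.primeCompl G) := by
  have hle : Algebra.algebraMapSubmonoid C y.primeCompl ≤ z.primeCompl := by
    rintro _ ⟨d, hd, rfl⟩
    intro hz
    exact hd ((Ideal.mem_of_liesOver z y d).mpr hz)
  have hdvd : ∀ x : z.primeCompl, ∃ m : C, m * x ∈ Algebra.algebraMapSubmonoid C y.primeCompl := by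
    rintro ⟨c, hc⟩
    obtain ⟨w, hw, m, hm⟩ := exists_dvd_of_unique_prime A C y z huniq c hc
    exact ⟨m, w, hw, by rw [hm, mul_comm]⟩
  haveI : IsLocalizedModule z.primeCompl
      (LocalizedModule.mkLinearMap (Algebra.algebraMapSubmonoid C y.primeCompl) G) :=
    IsLocalizedModule.of_exists_mul_mem _ _ hle hdvd _
  have h1 := flat_iff_of_isLocalizedModule R C G
    (LocalizedModule (Algebra.algebraMapSubmonoid C y.primeCompl) G) z.primeCompl
    (LocalizedModule.mkLinearMap (Algebra.algebraMapSubmonoid C y.primeCompl) G)
  haveI := IsLocalizedModule.restrictScalars y.primeCompl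
    (LocalizedModule.mkLinearMap (Algebra.algebraMapSubmonoid C y.primeCompl) G)
  have h2 := flat_iff_of_isLocalizedModule R A G
    (LocalizedModule (Algebra.algebraMapSubmonoid C y.primeCompl) G) y.primeCompl
    ((LocalizedModule.mkLinearMap (Algebra.algebraMapSubmonoid C y.primeCompl) G).restrictScalars A)
  exact h2.trans h1.symm

end compat

end Groth.Agent.Helper27.Dv
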