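import Mathlib
import Groth.Prelude

/-!
# Finite presentation of modules under change of rings (helper27)
-/

set_option autoImplicit false
set_option linter.style.haveILetI false
set_option linter.unusedSectionVars false
universe u
open TensorProduct

namespace Groth.Agent.Helper27.Dv

section descent

variable {R : Type u} [CommRing R] (T : Type u) [CommRing T] [Algebra R T]

/-- finite presentation of modules descends along faithfully flat ring maps. -/
theorem fp_of_faithfullyFlat_tensor {M : Type u} [AddCommGroup M] [Module R M]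
    [Module.FaithfullyFlat R T] [Module.FinitePresentation T (T ⊗[R] M)] :
    Module.FinitePresentation R M := by
  haveI : Module.Finite R M := Module.Finite.of_finite_tensorProduct_of_faithfullyFlat T
  obtain ⟨n, f, hf⟩ := Module.Finite.exists_fin' R M
  have hfT : Function.Surjective (AlgebraTensorModule.lTensor T T f) :=
    LinearMap.lTensor_surjective T hf
  have hker : (LinearMap.ker (AlgebraTensorModule.lTensor T T f)).FG :=
    Module.FinitePresentation.fg_ker _ hfT
  rw [Module.Flat.ker_lTensor_eq] at hker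
  have hinj : Function.Injective (AlgebraTensorModule.lTensor T T (LinearMap.ker f).subtype) :=
    Module.Flat.lTensor_preserves_injective_linearMap _ (Submodule.injective_subtype _)
  haveI : Module.Finite T (T ⊗[R] (LinearMap.ker f)) := by
    have e := LinearEquiv.ofInjective _ hinj
    rw [Module.Finite.equiv_iff e, Module.Finite.iff_fg]
    exact hker
  haveI : Module.Finite R (LinearMap.ker f) :=
    Module.Finite.of_finite_tensorProduct_of_faithfullyFlat T
  exact Module.finitePresentation_of_surjective f hf (Module.Finite.iff_fg.1 inferInstance)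

end descent

section finiteType

variable (A B : Type u) [CommRing A] [CommRing B] [Algebra A B]
  (M : Type u) [AddCommGroup M] [Module B M] [Module A M] [IsScalarTower A B M]

/-- the multiplication map `B ⊗[A] M → M`. -/
noncomputable def mulMap : B ⊗[A] M →ₗ[B] M :=
  (TensorProduct.isBaseChange A M B).lift (LinearMap.id : M →ₗ[A] M)

theorem mulMap_tmul (b : B) (m : M) : mulMap A B M (b ⊗ₜ[A] m) = b • m := by
  have h1 : mulMap A B M ((1 : B) ⊗ₜ[A] m) = m :=
    (TensorProduct.isBaseChange A M B).lift_eq (LinearMap.id : M →ₗ[A] M) m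
  have h2 : b ⊗ₜ[A] m = b • ((1 : B) ⊗ₜ[A] m) := by
    rw [TensorProduct.smul_tmul', smul_eq_mul, mul_one]
  rw [h2, map_smul, h1]

/-- a module over a finite type `A`-algebra `B` which is finitely presented over `A` is finitely
presented over `B`. -/
theorem fp_of_fp_of_finiteType [Algebra.FiniteType A B] [Module.FinitePresentation A M] :
    Module.FinitePresentation B M := by
  classical
  obtain ⟨X, hX⟩ := (Algebra.FiniteType.out : (⊤ : Subalgebra A B).FG)
  obtain ⟨Y, hY⟩ := (Module.Finite.fg_top : (⊤ : Submodule A M).FG)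
  set K : Submodule B (B ⊗[A] M) := Submodule.span B
    ((fun xm : B × M => xm.1 ⊗ₜ[A] xm.2 - (1 : B) ⊗ₜ[A] (xm.1 • xm.2)) '' (X ×ˢ Y : Finset (B × M)))
    with hK
  have hKfg : K.FG := Submodule.fg_span ((Finset.finite_toSet _).image _)
  -- the generators for elements of `X`
  have hXm : ∀ x ∈ X, ∀ m : M, x ⊗ₜ[A] m - (1 : B) ⊗ₜ[A] (x • m) ∈ K := by
    intro x hx m
    have hm : m ∈ Submodule.span A (Y : Set M) := by rw [hY]; trivial
    induction hm using Submodule.span_induction with
    | mem y hy =>
      exact Submodule.subset_span ⟨(x, y), by simpa using ⟨hx, hy⟩, rfl⟩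
    | zero => simp
    | add m₁ m₂ _ _ h₁ h₂ =>
      have : x ⊗ₜ[A] (m₁ + m₂) - (1 : B) ⊗ₜ[A] (x • (m₁ + m₂)) =
          (x ⊗ₜ[A] m₁ - (1 : B) ⊗ₜ[A] (x • m₁)) + (x ⊗ₜ[A] m₂ - (1 : B) ⊗ₜ[A] (x • m₂)) := by
        rw [TensorProduct.tmul_add, smul_add, TensorProduct.tmul_add]; abel
      rw [this]
      exact K.add_mem h₁ h₂
    | smul a m₁ _ h₁ =>
      have : x ⊗ₜ[A] (a • m₁) - (1 : B) ⊗ₜ[A] (x • a • m₁) =
          a • (x ⊗ₜ[A] m₁ - (1 : B) ⊗ₜ[A] (x • m₁)) := by
        rw [smul_sub, smul_comm x a m₁, TensorProduct.tmul_smul, TensorProduct.tmul_smul]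
      rw [this]
      exact K.smul_of_tower_mem a h₁
  -- all elements of `B`
  have hall : ∀ (b : B) (m : M), b ⊗ₜ[A] m - (1 : B) ⊗ₜ[A] (b • m) ∈ K := by
    intro b
    have hb : b ∈ Algebra.adjoin A (X : Set B) := by rw [hX]; trivial
    induction hb using Algebra.adjoin_induction with
    | mem x hx => exact hXm x hx
    | algebraMap a =>
      intro m
      have : (algebraMap A B a) ⊗ₜ[A] m - (1 : B) ⊗ₜ[A] ((algebraMap A B a) • m) = 0 := by
        rw [algebraMap_smul, Algebra.algebraMap_eq_smul_one, TensorProduct.smul_tmul, sub_self]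
      rw [this]
      exact K.zero_mem
    | add b c _ _ hb hc =>
      intro m
      have : (b + c) ⊗ₜ[A] m - (1 : B) ⊗ₜ[A] ((b + c) • m) =
          (b ⊗ₜ[A] m - (1 : B) ⊗ₜ[A] (b • m)) + (c ⊗ₜ[A] m - (1 : B) ⊗ₜ[A] (c • m)) := by
        rw [TensorProduct.add_tmul, add_smul, TensorProduct.tmul_add]; abel
      rw [this]
      exact K.add_mem (hb m) (hc m)
    | mul b c _ _ hb hc =>
      intro m
      have : (b * c) ⊗ₜ[A] m - (1 : B) ⊗ₜ[A] ((b * c) • m) =
          b • (c ⊗ₜ[A] m - (1 : B) ⊗ₜ[A] (c • m)) +
            (b ⊗ₜ[A] (c • m) - (1 : B) ⊗ₜ[A] (b • c • m)) := by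
        rw [smul_sub, TensorProduct.smul_tmul', TensorProduct.smul_tmul', smul_eq_mul,
          smul_eq_mul, mul_one, mul_smul]
        abel
      rw [this]
      exact K.add_mem (K.smul_mem b (hc m)) (hb (c • m))
  -- every tensor is congruent to `1 ⊗ μ t`
  have hcong : ∀ t : B ⊗[A] M, t - (1 : B) ⊗ₜ[A] (mulMap A B M t) ∈ K := by
    intro t
    induction t using TensorProduct.induction_on with
    | zero => simp
    | tmul b m => rw [mulMap_tmul]; exact hall b m
    | add t₁ t₂ h₁ h₂ =>
      have : t₁ + t₂ - (1 : B) ⊗ₜ[A] (mulMap A B M (t₁ + t₂)) =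
          (t₁ - (1 : B) ⊗ₜ[A] (mulMap A B M t₁)) + (t₂ - (1 : B) ⊗ₜ[A] (mulMap A B M t₂)) := by
        rw [map_add, TensorProduct.tmul_add]; abel
      rw [this]
      exact K.add_mem h₁ h₂
  have hker : LinearMap.ker (mulMap A B M) = K := by
    apply le_antisymm
    · intro t ht
      have := hcong t
      rw [LinearMap.mem_ker.mp ht, TensorProduct.tmul_zero, sub_zero] at this
      exact this
    · rw [hK, Submodule.span_le]
      rintro _ ⟨⟨x, m⟩, -, rfl⟩
      simp only [SetLike.mem_coe, LinearMap.mem_ker, map_sub, mulMap_tmul, one_smul, sub_self]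
  have hsurj : Function.Surjective (mulMap A B M) := fun m => ⟨(1 : B) ⊗ₜ[A] m, by
    rw [mulMap_tmul, one_smul]⟩
  exact Module.finitePresentation_of_surjective (mulMap A B M) hsurj (by rw [hker]; exact hKfg)

/-- over a finite and finitely presented algebra, finite presentation of a module may be tested
over the base. -/
theorem fp_iff_of_fp_module [Algebra.FiniteType A B] [Module.FinitePresentation A B] :
    Module.FinitePresentation A M ↔ Module.FinitePresentation B M :=
  ⟨fun _ => fp_of_fp_of_finiteType A B M, fun _ => Module.FinitePresentation.trans A M B⟩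

end finiteType

end Groth.Agent.Helper27.Dv
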