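import Mathlib
import Groth.Prelude
import Groth.Agent.Lib.Helper27.DvU1
import Groth.Agent.Lib.Helper27.DvT5

/-!
# Finite presentation of localized modules over a finite finitely presented algebra (helper27)
-/

set_option autoImplicit false
set_option linter.style.haveILetI false
set_option linter.unusedSectionVars false
universe u
open TensorProduct

namespace Groth.Agent.Helper27.Dv

section locConverse

variable {R : Type*} [CommSemiring R] {M N : Type*} [AddCommMonoid M] [Module R M]
  [AddCommMonoid N] [Module R N]

/-- a localization at `T` is a localization at a cofinal smaller submonoid. -/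
theorem isLocalizedModule_of_le_of_exists_mul_mem (S T : Submonoid R) (h : S ≤ T)
    (h' : ∀ x : T, ∃ m : R, m * x ∈ S) (f : M →ₗ[R] N) [IsLocalizedModule T f] :
    IsLocalizedModule S f where
  map_units x := IsLocalizedModule.map_units f ⟨x.1, h x.2⟩
  surj y := by
    obtain ⟨⟨x, t⟩, e⟩ := IsLocalizedModule.surj T f y
    obtain ⟨m, hm⟩ := h' t
    refine ⟨⟨m • x, ⟨m * t, hm⟩⟩, ?_⟩
    simp only [Submonoid.smul_def] at e ⊢
    rw [mul_smul, e, map_smul]
  exists_of_eq {x₁ x₂} e := by
    obtain ⟨c, hc⟩ := IsLocalizedModule.exists_of_eq (S := T) (f := f) e
    obtain ⟨m, hm⟩ := h' c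
    refine ⟨⟨m * c, hm⟩, ?_⟩
    simp only [Submonoid.smul_def] at hc ⊢
    rw [mul_smul, hc, ← mul_smul]

end locConverse

section fpLoc

variable (A B : Type u) [CommRing A] [CommRing B] [Algebra A B] [Module.Finite A B]
  [Module.FinitePresentation A B]
  (M : Type u) [AddCommGroup M] [Module B M] [Module A M] [IsScalarTower A B M]
  (T : Submonoid A) (T' : Submonoid B)

/-- finite presentation of a localized module over a finite, finitely presented algebra may be
tested over the localized base. -/
theorem fp_localization_iff (hle : Algebra.algebraMapSubmonoid B T ≤ T')
    (hdvd : ∀ x : T', ∃ m : B, m * x ∈ Algebra.algebraMapSubmonoid B T) :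
    Module.FinitePresentation (Localization T) (LocalizedModule T M) ↔
      Module.FinitePresentation (Localization T') (LocalizedModule T' M) := by
  haveI hloc : IsLocalization (Algebra.algebraMapSubmonoid B T) (Localization T') :=
    (IsLocalization.iff_of_le_of_exists_dvd (M := Algebra.algebraMapSubmonoid B T) T' hle
      (fun n hn => by
        obtain ⟨m, hm⟩ := hdvd ⟨n, hn⟩
        exact ⟨m * n, hm, Dvd.intro_left m rfl⟩)).mpr inferInstance
  letI aLL : Algebra (Localization T) (Localization T') := localizationAlgebra T B
  haveI tALL : IsScalarTower A (Localization T) (Localization T') :=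
    isScalarTower_localizationAlgebra T B
  haveI : Module.Finite (Localization T) (Localization T') := Module.Finite.of_isLocalization A B T
  haveI : Algebra.FiniteType (Localization T) (Localization T') := inferInstance
  haveI : Module.FinitePresentation (Localization T) (Localization T') :=
    FinitePresentation.of_isBaseChange (IsScalarTower.toAlgHom A B (Localization T')).toLinearMap
      (IsLocalizedModule.isBaseChange T (Localization T) _)
  letI mLM : Module (Localization T) (LocalizedModule T' M) :=
    Module.compHom _ (algebraMap (Localization T) (Localization T'))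
  haveI t1 : IsScalarTower (Localization T) (Localization T') (LocalizedModule T' M) :=
    IsScalarTower.of_algebraMap_smul fun _ _ => rfl
  haveI t0 : IsScalarTower A (Localization T') (LocalizedModule T' M) :=
    tower_base_localizedModule A B M T'
  haveI t2 : IsScalarTower A (Localization T) (LocalizedModule T' M) :=
    IsScalarTower.of_algebraMap_smul fun a x => by
      rw [← algebraMap_smul (Localization T') (algebraMap A (Localization T) a) x,
        ← IsScalarTower.algebraMap_apply A (Localization T) (Localization T'), algebraMap_smul]
  haveI : IsLocalizedModule (Algebra.algebraMapSubmonoid B T)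
      (LocalizedModule.mkLinearMap T' M) :=
    isLocalizedModule_of_le_of_exists_mul_mem _ T' hle hdvd _
  haveI := IsLocalizedModule.restrictScalars T (LocalizedModule.mkLinearMap T' M)
  let e : LocalizedModule T M ≃ₗ[A] LocalizedModule T' M :=
    IsLocalizedModule.iso T ((LocalizedModule.mkLinearMap T' M).restrictScalars A)
  let e' : LocalizedModule T M ≃ₗ[Localization T] LocalizedModule T' M :=
    e.extendScalarsOfIsLocalization T (Localization T)
  have h1 : Module.FinitePresentation (Localization T) (LocalizedModule T M) ↔
      Module.FinitePresentation (Localization T) (LocalizedModule T' M) :=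
    ⟨fun _ => Module.FinitePresentation.of_equiv e',
      fun _ => Module.FinitePresentation.of_equiv e'.symm⟩
  exact h1.trans (fp_iff_of_fp_module (Localization T) (Localization T') (LocalizedModule T' M))

end fpLoc

end Groth.Agent.Helper27.Dv
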