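import Mathlib
import Groth.Prelude
import Groth.Agent.Lib.Helper27.DvU1
import Groth.Agent.Lib.Helper27.DvT5

/-!
# Finite presentation of modules and flat base change (helper27)
-/

set_option autoImplicit false
set_option linter.style.haveILetI false
set_option linter.unusedSectionVars false
universe u
open TensorProduct

namespace Groth.Agent.Helper27.Dv

section general

variable (S A₁ A₂ : Type u) [CommRing S] [CommRing A₁] [CommRing A₂]
  [Algebra S A₁] [Algebra S A₂] [Algebra A₁ A₂] [IsScalarTower S A₁ A₂]
  (N M₁ M₂ : Type u) [AddCommGroup N] [AddCommGroup M₁] [AddCommGroup M₂]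
  [Module S N] [Module S M₁] [Module A₁ M₁] [IsScalarTower S A₁ M₁]
  [Module S M₂] [Module A₂ M₂] [IsScalarTower S A₂ M₂]
  (f₁ : N →ₗ[S] M₁) (hf₁ : IsBaseChange A₁ f₁) (f₂ : N →ₗ[S] M₂) (hf₂ : IsBaseChange A₂ f₂)

include hf₁ hf₂ in
theorem fp_transfer [Module.FinitePresentation A₁ M₁] : Module.FinitePresentation A₂ M₂ := by
  letI : Module A₁ M₂ := Module.compHom M₂ (algebraMap A₁ A₂)
  haveI : IsScalarTower A₁ A₂ M₂ := IsScalarTower.of_algebraMap_smul fun _ _ => rfl
  haveI : IsScalarTower S A₁ M₂ := IsScalarTower.of_algebraMap_smul fun s x => by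
    rw [← algebraMap_smul A₂ (algebraMap S A₁ s) x, ← IsScalarTower.algebraMap_apply S A₁ A₂,
      algebraMap_smul]
  have hh : IsBaseChange A₂ (hf₁.lift f₂) := by
    refine IsBaseChange.of_comp hf₁ ?_
    rw [IsBaseChange.lift_comp]
    exact hf₂
  exact FinitePresentation.of_isBaseChange _ hh

include hf₁ hf₂ in
theorem fp_descent [Module.FinitePresentation A₂ M₂] [Module.FaithfullyFlat A₁ A₂] :
    Module.FinitePresentation A₁ M₁ := by
  letI : Module A₁ M₂ := Module.compHom M₂ (algebraMap A₁ A₂)
  haveI : IsScalarTower A₁ A₂ M₂ := IsScalarTower.of_algebraMap_smul fun _ _ => rfl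
  haveI : IsScalarTower S A₁ M₂ := IsScalarTower.of_algebraMap_smul fun s x => by
    rw [← algebraMap_smul A₂ (algebraMap S A₁ s) x, ← IsScalarTower.algebraMap_apply S A₁ A₂,
      algebraMap_smul]
  have hh : IsBaseChange A₂ (hf₁.lift f₂) := by
    refine IsBaseChange.of_comp hf₁ ?_
    rw [IsBaseChange.lift_comp]
    exact hf₂
  haveI : Module.FinitePresentation A₂ (A₂ ⊗[A₁] M₁) :=
    Module.FinitePresentation.of_equiv hh.equiv.symm
  exact fp_of_faithfullyFlat_tensor A₂

end general

section point

variable (S S' : Type u) [CommRing S] [CommRing S'] [Algebra S S'] [Module.Flat S S']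
  (q : Ideal S) [q.IsPrime] (q' : Ideal S') [q'.IsPrime] [q'.LiesOver q]
  (N : Type u) [AddCommGroup N] [Module S N]
  (W : Type u) [AddCommGroup W] [Module S' W] [Module S W] [IsScalarTower S S' W]
  (φ : N →ₗ[S] W) (hφ : IsBaseChange S' φ)

include hφ in
/-- finite presentation of `N` at `q` is finite presentation of the base change at `q'`. -/
theorem fpAt_iff_of_isBaseChange :
    Module.FinitePresentation (Localization.AtPrime q) (LocalizedModule q.primeCompl N) ↔
      Module.FinitePresentation (Localization.AtPrime q') (LocalizedModule q'.primeCompl W) := by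
  letI aAL : Algebra (Localization.AtPrime q) (Localization.AtPrime q') :=
    Localization.AtPrime.algebraOfLiesOver q q'
  haveI : IsLocalHom (algebraMap (Localization.AtPrime q) (Localization.AtPrime q')) :=
    Localization.isLocalHom_localRingHom q q' (algebraMap S S') Ideal.LiesOver.over
  haveI : Module.FaithfullyFlat (Localization.AtPrime q) (Localization.AtPrime q') :=
    Module.FaithfullyFlat.of_flat_of_isLocalHom
  haveI tSLW : IsScalarTower S (Localization.AtPrime q') (LocalizedModule q'.primeCompl W) :=
    IsScalarTower.of_algebraMap_smul fun s x => by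
      rw [IsScalarTower.algebraMap_apply S S' (Localization.AtPrime q'), algebraMap_smul,
        algebraMap_smul]
  have h1 : IsBaseChange (Localization.AtPrime q) (LocalizedModule.mkLinearMap q.primeCompl N) :=
    IsLocalizedModule.isBaseChange q.primeCompl _ _
  have h2 : IsBaseChange (Localization.AtPrime q')
      (LocalizedModule.mkLinearMap q'.primeCompl W) :=
    IsLocalizedModule.isBaseChange q'.primeCompl _ _
  have hψ : IsBaseChange (Localization.AtPrime q')
      (((LocalizedModule.mkLinearMap q'.primeCompl W).restrictScalars S).comp φ) :=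
    IsBaseChange.comp hφ h2
  constructor
  · intro hfp
    haveI := hfp
    exact fp_transfer S (Localization.AtPrime q) (Localization.AtPrime q') N
      (LocalizedModule q.primeCompl N) (LocalizedModule q'.primeCompl W) _ h1 _ hψ
  · intro hfp
    haveI := hfp
    exact fp_descent S (Localization.AtPrime q) (Localization.AtPrime q') N
      (LocalizedModule q.primeCompl N) (LocalizedModule q'.primeCompl W) _ h1 _ hψ

end point

section shrinkOpen

variable (C : Type u) [CommRing C] (G : Type u) [AddCommGroup G] [Module C G]

/-- finite presentation passes to smaller standard opens. -/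
theorem fp_away_of_dvd (c c₂ : C) (h : c ∣ c₂)
    [Module.FinitePresentation (Localization.Away c) (LocalizedModule (Submonoid.powers c) G)] :
    Module.FinitePresentation (Localization.Away c₂)
      (LocalizedModule (Submonoid.powers c₂) G) := by
  have hu : IsUnit (algebraMap C (Localization.Away c₂) c) :=
    isUnit_away_of_dvd c c₂ (by rw [Algebra.algebraMap_self_apply]; exact h)
  letI : Algebra (Localization.Away c) (Localization.Away c₂) := awayAlg c c₂ hu
  haveI : IsScalarTower C (Localization.Away c) (Localization.Away c₂) := awayAlg_tower c c₂ hu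
  exact fp_transfer C (Localization.Away c) (Localization.Away c₂) G
    (LocalizedModule (Submonoid.powers c) G) (LocalizedModule (Submonoid.powers c₂) G)
    (LocalizedModule.mkLinearMap (Submonoid.powers c) G)
    (IsLocalizedModule.isBaseChange (Submonoid.powers c) _ _)
    (LocalizedModule.mkLinearMap (Submonoid.powers c₂) G)
    (IsLocalizedModule.isBaseChange (Submonoid.powers c₂) _ _)

end shrinkOpen

section opens

variable (S S' : Type u) [CommRing S] [CommRing S'] [Algebra S S'] [Module.Flat S S']
  (N : Type u) [AddCommGroup N] [Module S N]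
  (W : Type u) [AddCommGroup W] [Module S' W] [Module S W] [IsScalarTower S S' W]
  (φ : N →ₗ[S] W) (hφ : IsBaseChange S' φ)

include hφ in
/-- finite presentation of `N` on a standard open gives that of the base change. -/
theorem fp_away_baseChange (g : S)
    [Module.FinitePresentation (Localization.Away g) (LocalizedModule (Submonoid.powers g) N)] :
    Module.FinitePresentation (Localization.Away (algebraMap S S' g))
      (LocalizedModule (Submonoid.powers (algebraMap S S' g)) W) := by
  have hu : IsUnit (algebraMap S (Localization.Away (algebraMap S S' g)) g) :=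
    isUnit_away_of_dvd g _ dvd_rfl
  letI : Algebra (Localization.Away g) (Localization.Away (algebraMap S S' g)) :=
    awayAlg g _ hu
  haveI : IsScalarTower S (Localization.Away g) (Localization.Away (algebraMap S S' g)) :=
    awayAlg_tower g _ hu
  haveI : IsScalarTower S (Localization.Away (algebraMap S S' g))
      (LocalizedModule (Submonoid.powers (algebraMap S S' g)) W) :=
    tower_base_localizedModule S S' W (Submonoid.powers (algebraMap S S' g))
  exact fp_transfer S (Localization.Away g) (Localization.Away (algebraMap S S' g)) N
      (LocalizedModule (Submonoid.powers g) N)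
      (LocalizedModule (Submonoid.powers (algebraMap S S' g)) W)
      (LocalizedModule.mkLinearMap (Submonoid.powers g) N)
      (IsLocalizedModule.isBaseChange (Submonoid.powers g) _ _)
      (((LocalizedModule.mkLinearMap (Submonoid.powers (algebraMap S S' g)) W).restrictScalars
        S).comp φ)
      (IsBaseChange.comp hφ (IsLocalizedModule.isBaseChange
        (Submonoid.powers (algebraMap S S' g)) _ _))

include hφ in
/-- finite presentation of the base change on a standard open around `q'` gives finite
presentation of `N` on a standard open around `q`. -/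
theorem exists_fp_away_of_baseChange [Algebra.FinitePresentation S S']
    (q : Ideal S) [q.IsPrime] (q' : Ideal S') [q'.IsPrime] [q'.LiesOver q]
    (s' : S') (hs' : s' ∉ q')
    [Module.FinitePresentation (Localization.Away s') (LocalizedModule (Submonoid.powers s') W)] :
    ∃ g : S, g ∉ q ∧ Module.FinitePresentation (Localization.Away g)
      (LocalizedModule (Submonoid.powers g) N) := by
  have hopen : IsOpenMap (PrimeSpectrum.comap (algebraMap S S')) :=
    PrimeSpectrum.isOpenMap_comap_of_hasGoingDown_of_finitePresentation
  have hU : IsOpen (PrimeSpectrum.comap (algebraMap S S') ''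
      (PrimeSpectrum.basicOpen s' : Set _)) := hopen _ (PrimeSpectrum.basicOpen s').isOpen
  have hq : (⟨q, inferInstance⟩ : PrimeSpectrum S) ∈
      PrimeSpectrum.comap (algebraMap S S') '' (PrimeSpectrum.basicOpen s' : Set _) :=
    ⟨⟨q', inferInstance⟩, hs', PrimeSpectrum.ext (Ideal.over_def q' q).symm⟩
  obtain ⟨_, ⟨g, rfl⟩, hqg, hsub⟩ :=
    PrimeSpectrum.isTopologicalBasis_basic_opens.exists_subset_of_mem_open hq hU
  refine ⟨g, hqg, ?_⟩
  have Hg : ∀ P : PrimeSpectrum S, g ∉ P.asIdeal →
      ∃ Q : PrimeSpectrum S', s' ∉ Q.asIdeal ∧ PrimeSpectrum.comap (algebraMap S S') Q = P := by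
    intro P hP
    obtain ⟨Q, hQ, rfl⟩ := hsub hP
    exact ⟨Q, hQ, rfl⟩
  have hu : IsUnit (algebraMap S (Localization.Away (s' * algebraMap S S' g)) g) :=
    isUnit_away_of_dvd g _ (Dvd.intro_left _ rfl)
  letI : Algebra (Localization.Away g) (Localization.Away (s' * algebraMap S S' g)) :=
    awayAlg g _ hu
  haveI : IsScalarTower S (Localization.Away g) (Localization.Away (s' * algebraMap S S' g)) :=
    awayAlg_tower g _ hu
  haveI : IsScalarTower S (Localization.Away (s' * algebraMap S S' g))
      (LocalizedModule (Submonoid.powers (s' * algebraMap S S' g)) W) :=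
    tower_base_localizedModule S S' W (Submonoid.powers (s' * algebraMap S S' g))
  haveI : Module.Flat S (Localization.Away (s' * algebraMap S S' g)) :=
    Module.Flat.trans S S' _
  haveI : Module.Flat (Localization.Away g) (Localization.Away (s' * algebraMap S S' g)) :=
    (Module.flat_iff_of_isLocalization (Localization.Away g) (Submonoid.powers g)
      (Localization.Away (s' * algebraMap S S' g))).mpr inferInstance
  haveI : Module.FaithfullyFlat (Localization.Away g)
      (Localization.Away (s' * algebraMap S S' g)) :=
    Module.FaithfullyFlat.of_comap_surjective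
      (comap_surjective_away S S' (Localization.Away g)
        (Localization.Away (s' * algebraMap S S' g)) g s' Hg)
  haveI : Module.FinitePresentation (Localization.Away (s' * algebraMap S S' g))
      (LocalizedModule (Submonoid.powers (s' * algebraMap S S' g)) W) :=
    fp_away_of_dvd S' W s' _ (Dvd.intro _ rfl)
  exact fp_descent S (Localization.Away g) (Localization.Away (s' * algebraMap S S' g)) N
    (LocalizedModule (Submonoid.powers g) N)
    (LocalizedModule (Submonoid.powers (s' * algebraMap S S' g)) W)
    (LocalizedModule.mkLinearMap (Submonoid.powers g) N)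
    (IsLocalizedModule.isBaseChange (Submonoid.powers g) _ _)
    (((LocalizedModule.mkLinearMap (Submonoid.powers (s' * algebraMap S S' g)) W).restrictScalars
      S).comp φ)
    (IsBaseChange.comp hφ (IsLocalizedModule.isBaseChange
      (Submonoid.powers (s' * algebraMap S S' g)) _ _))

end opens

end Groth.Agent.Helper27.Dv
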