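import Mathlib
import Groth.Prelude
import Groth.Agent.Lib.Helper27.DvU2
import Groth.Agent.Lib.Helper27.DvN6

/-!
# Comparing finite presentation of localizations over different rings (helper27)
-/

set_option autoImplicit false
set_option linter.style.haveILetI false
set_option linter.unusedSectionVars false
universe u
open TensorProduct

namespace Groth.Agent.Helper27.Dv

section compatFP

variable (A C : Type u) [CommRing A] [CommRing C] [Algebra A C] [Module.Finite A C]
  [Module.FinitePresentation A C]
  (G : Type u) [AddCommGroup G] [Module C G] [Module A G] [IsScalarTower A C G]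

/-- localizing at an element of `A` or at its image in `C`. -/
theorem fp_away_algebraMap_iff (a : A) :
    Module.FinitePresentation (Localization.Away a) (LocalizedModule (Submonoid.powers a) G) ↔
      Module.FinitePresentation (Localization.Away (algebraMap A C a))
        (LocalizedModule (Submonoid.powers (algebraMap A C a)) G) := by
  have hT : Algebra.algebraMapSubmonoid C (Submonoid.powers a) =
      Submonoid.powers (algebraMap A C a) := Algebra.algebraMapSubmonoid_powers a
  exact fp_localization_iff A C G (Submonoid.powers a) (Submonoid.powers (algebraMap A C a))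
    (le_of_eq hT) (fun x => ⟨1, by rw [one_mul, hT]; exact x.2⟩)

/-- localizing at a prime of `A` or at the prime of a quotient `C` above it. -/
theorem fpAt_surj_iff (hsurj : Function.Surjective (algebraMap A C))
    (q' : Ideal A) [q'.IsPrime] (z : Ideal C) [z.IsPrime] [z.LiesOver q'] :
    Module.FinitePresentation (Localization.AtPrime q') (LocalizedModule q'.primeCompl G) ↔
      Module.FinitePresentation (Localization.AtPrime z) (LocalizedModule z.primeCompl G) := by
  have hT : Algebra.algebraMapSubmonoid C q'.primeCompl = z.primeCompl := by
    ext c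
    constructor
    · rintro ⟨s, hs, rfl⟩
      intro hz
      exact hs ((Ideal.mem_of_liesOver z q' s).mpr hz)
    · intro hc
      obtain ⟨s, rfl⟩ := hsurj c
      refine ⟨s, ?_, rfl⟩
      intro hs
      exact hc ((Ideal.mem_of_liesOver z q' s).mp hs)
  exact fp_localization_iff A C G q'.primeCompl z.primeCompl
    (le_of_eq hT) (fun x => ⟨1, by rw [one_mul, hT]; exact x.2⟩)

/-- localizing at a prime `y` of `A` or at the unique prime of a finite algebra `C` above it. -/
theorem fpAt_finite_unique_iff
    (y : Ideal A) [y.IsPrime] (z : Ideal C) [z.IsPrime] [z.LiesOver y]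
    (huniq : ∀ (z₁ : Ideal C) [z₁.IsPrime], z₁.LiesOver y → z₁ = z) :
    Module.FinitePresentation (Localization.AtPrime y) (LocalizedModule y.primeCompl G) ↔
      Module.FinitePresentation (Localization.AtPrime z) (LocalizedModule z.primeCompl G) := by
  have hle : Algebra.algebraMapSubmonoid C y.primeCompl ≤ z.primeCompl := by
    rintro _ ⟨d, hd, rfl⟩
    intro hz
    exact hd ((Ideal.mem_of_liesOver z y d).mpr hz)
  have hdvd : ∀ x : z.primeCompl, ∃ m : C, m * x ∈ Algebra.algebraMapSubmonoid C y.primeCompl := by
    rintro ⟨c, hc⟩
    obtain ⟨w, hw, m, hm⟩ := exists_dvd_of_unique_prime A C y z huniq c hc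
    exact ⟨m, w, hw, by rw [hm, mul_comm]⟩
  exact fp_localization_iff A C G y.primeCompl z.primeCompl hle hdvd

end compatFP

end Groth.Agent.Helper27.Dv
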