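import Mathlib
import Groth.Prelude
import Groth.Agent.Lib.Helper27.DvF

/-!
# The generic point of a fibre and the dimension of supports of fibre modules (helper27)
-/

set_option autoImplicit false
set_option linter.style.haveILetI false
set_option linter.unusedSectionVars false
universe u
open TensorProduct

namespace Groth.Agent.Helper27.Dv

attribute [local instance] Algebra.TensorProduct.rightAlgebra

section order

/-- prepending a strict lower bound raises the Krull dimension. -/
theorem krullDim_add_one_le_of_strictMono {X Y : Type*} [Preorder X] [Preorder Y] (f : X → Y)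
    (hf : StrictMono f) (η : Y) (hη : ∀ x, η < f x) :
    Order.krullDim X + 1 ≤ Order.krullDim Y := by
  by_cases hX : IsEmpty X
  · rw [Order.krullDim_eq_bot]
    simp
  · rw [not_isEmpty_iff] at hX
    haveI : Nonempty Y := ⟨η⟩
    rw [Order.krullDim_eq_iSup_length, Order.krullDim_eq_iSup_length (α := Y),
      ← WithBot.coe_one, ← WithBot.coe_add, WithBot.coe_le_coe, ENat.iSup_add]
    refine iSup_le fun p => ?_
    have h0 : η < (p.map f hf).head := by
      rw [LTSeries.head_map]
      exact hη _
    refine le_trans ?_ (le_iSup (fun q : LTSeries Y => (q.length : ℕ∞)) ((p.map f hf).cons η h0))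
    simp

end order

section generic

variable (R D : Type u) [CommRing R] [CommRing D] [Algebra R D]
  (p : Ideal R) [p.IsPrime] [hP : (p.map (algebraMap R D)).IsPrime]
  [hO : (p.map (algebraMap R D)).LiesOver p]

/-- the generic point of the fibre ring. -/
noncomputable def genPt : PrimeSpectrum (p.Fiber D) := fibPt R D p (p.map (algebraMap R D))

theorem comap_genPt :
    PrimeSpectrum.comap (algebraMap D (p.Fiber D)) (genPt R D p) =
      ⟨p.map (algebraMap R D), inferInstance⟩ :=
  comap_fibPt R D p (p.map (algebraMap R D))

theorem genPt_le (Q : PrimeSpectrum (p.Fiber D)) : genPt R D p ≤ Q := by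
  obtain ⟨q, rfl⟩ := (PrimeSpectrum.preimageOrderIsoFiber R D ⟨p, inferInstance⟩).surjective Q
  have h : (⟨⟨p.map (algebraMap R D), inferInstance⟩,
      PrimeSpectrum.ext (Ideal.over_def (p.map (algebraMap R D)) p).symm⟩ :
      ↥(PrimeSpectrum.comap (algebraMap R D) ⁻¹' {(⟨p, inferInstance⟩ : PrimeSpectrum R)})) ≤ q := by
    change p.map (algebraMap R D) ≤ q.1.asIdeal
    rw [Ideal.map_le_iff_le_comap]
    have := congrArg PrimeSpectrum.asIdeal q.2
    exact le_of_eq this.symm
  exact (PrimeSpectrum.preimageOrderIsoFiber R D ⟨p, inferInstance⟩).monotone h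

variable (M : Type u) [AddCommGroup M] [Module D M] [Module R M] [IsScalarTower R D M]
  [Module.Finite D M]

theorem genPt_mem_support_iff :
    genPt R D p ∈ Module.support (p.Fiber D) (FlatCA.fiberMod p D M) ↔
      (⟨p.map (algebraMap R D), inferInstance⟩ : PrimeSpectrum D) ∈ Module.support D M := by
  rw [support_fiberMod R D M p, Set.mem_preimage, comap_genPt]

/-- if the generic point of the fibre is not in the support, the support has smaller dimension
than the fibre. -/
theorem supportDim_add_one_le_ringKrullDim
    (h : (⟨p.map (algebraMap R D), inferInstance⟩ : PrimeSpectrum D) ∉ Module.support D M) :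
    Module.supportDim (p.Fiber D) (FlatCA.fiberMod p D M) + 1 ≤ ringKrullDim (p.Fiber D) := by
  unfold Module.supportDim ringKrullDim
  refine krullDim_add_one_le_of_strictMono
    (fun x : ↥(Module.support (p.Fiber D) (FlatCA.fiberMod p D M)) => x.1)
    (fun _ _ hab => hab) (genPt R D p) fun x => ?_
  refine lt_of_le_of_ne (genPt_le R D p x.1) fun heq => h ?_
  rw [← genPt_mem_support_iff R D p M, heq]
  exact x.2

variable (M' : Type u) [AddCommGroup M'] [Module D M'] [Module R M'] [IsScalarTower R D M']
  [Module.Finite D M']

/-- a module supported inside the support of `M` and away from the generic point of the fibre has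
a fibre support of smaller dimension. -/
theorem supportDim_add_one_le_supportDim
    (hsub : Module.support D M' ⊆ Module.support D M)
    (hin : (⟨p.map (algebraMap R D), inferInstance⟩ : PrimeSpectrum D) ∈ Module.support D M)
    (hout : (⟨p.map (algebraMap R D), inferInstance⟩ : PrimeSpectrum D) ∉ Module.support D M') :
    Module.supportDim (p.Fiber D) (FlatCA.fiberMod p D M') + 1 ≤
      Module.supportDim (p.Fiber D) (FlatCA.fiberMod p D M) := by
  have hsub' : Module.support (p.Fiber D) (FlatCA.fiberMod p D M') ⊆
      Module.support (p.Fiber D) (FlatCA.fiberMod p D M) := by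
    rw [support_fiberMod R D M p, support_fiberMod R D M' p]
    exact Set.preimage_mono hsub
  unfold Module.supportDim
  refine krullDim_add_one_le_of_strictMono (Set.inclusion hsub')
    (fun _ _ hab => hab) ⟨genPt R D p, (genPt_mem_support_iff R D p M).mpr hin⟩ fun x => ?_
  refine lt_of_le_of_ne (genPt_le R D p x.1) fun heq => hout ?_
  rw [← genPt_mem_support_iff R D p M']
  have : genPt R D p = x.1 := congrArg Subtype.val heq
  rw [this]
  exact x.2

end generic

end Groth.Agent.Helper27.Dv
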