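import Mathlib
import Groth.Prelude
import Groth.Agent.Lib.Helper16.Sch.RingFibDim
import Groth.Agent.Lib.Helper14.FibreSmooth
import Groth.Agent.Lib.Helper9.TopDim

/-!
# The fibres of a smooth algebra of relative dimension `n` have dimension at most `n` (helper27)
-/

set_option autoImplicit false
set_option linter.style.haveILetI false
set_option linter.unusedSectionVars false
universe u
open TensorProduct AlgebraicGeometry

namespace Groth.Agent.Helper27.Dv

section fibreDim

variable (R D : Type u) [CommRing R] [CommRing D] [Algebra R D]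

theorem localDim_fiber_eq (q : PrimeSpectrum D) (P : PrimeSpectrum R)
    (hP : PrimeSpectrum.comap (algebraMap R D) q = P)
    (Q : PrimeSpectrum (P.asIdeal.Fiber D))
    (hQ : Q.asIdeal.comap (Algebra.TensorProduct.includeRight.toRingHom) = q.asIdeal) :
    FlatMor.localDim (PrimeSpectrum (P.asIdeal.Fiber D)) Q =
      FlatMor.fibreDimAt (Groth.Agent.Helper16.RingFibDim.specMap R D) q := by
  subst hP
  exact Groth.Agent.Helper16.RingFibDim.localDim_eq_fibreDimAt R D q Q hQ

theorem fibreDimAt_of_smoothRelDim (n : ℕ) (h : FlatCA.SmoothRelDim n R D) (q : PrimeSpectrum D) :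
    FlatMor.fibreDimAt (Groth.Agent.Helper16.RingFibDim.specMap R D) q = n := by
  haveI : SmoothOfRelativeDimension n (Groth.Agent.Helper16.RingFibDim.specMap R D) := h
  obtain ⟨U, hU, V, hV, hxV, e, hstd⟩ :=
    SmoothOfRelativeDimension.exists_isStandardSmoothOfRelativeDimension (n := n)
      (f := Groth.Agent.Helper16.RingFibDim.specMap R D) q
  exact Groth.Agent.Helper14.FibreSmooth.fibreDimAt_of_isStandardSmoothOfRelativeDimension
    (Groth.Agent.Helper16.RingFibDim.specMap R D) hU hV e n hstd q hxV

/-- the fibre rings of a smooth algebra of relative dimension `n` have dimension at most `n`. -/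
theorem ringKrullDim_fiber_le (n : ℕ) (h : FlatCA.SmoothRelDim n R D) (p : Ideal R) [p.IsPrime] :
    ringKrullDim (p.Fiber D) ≤ n := by
  rw [← PrimeSpectrum.topologicalKrullDim_eq_ringKrullDim,
    Groth.Agent.Helper9.TopDim.dim_eq_iSup_localDim]
  refine iSup_le fun Q => ?_
  have hq : PrimeSpectrum.comap (algebraMap R D)
      ((PrimeSpectrum.preimageEquivFiber R D ⟨p, inferInstance⟩).symm Q).1 = ⟨p, inferInstance⟩ :=
    ((PrimeSpectrum.preimageEquivFiber R D ⟨p, inferInstance⟩).symm Q).2
  have := localDim_fiber_eq R D ((PrimeSpectrum.preimageEquivFiber R D ⟨p, inferInstance⟩).symm Q).1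
    ⟨p, inferInstance⟩ hq Q rfl
  rw [fibreDimAt_of_smoothRelDim R D n h] at this
  exact le_of_eq this

end fibreDim

end Groth.Agent.Helper27.Dv
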