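import Mathlib
import Groth.Prelude
import Groth.Agent.Lib.Helper27.DvN1

/-!
# Dimension of the fibre support along finite maps (helper27)
-/

set_option autoImplicit false
set_option linter.style.haveILetI false
set_option linter.unusedSectionVars false
universe u
open TensorProduct

namespace Groth.Agent.Helper27.Dv

attribute [local instance] Algebra.TensorProduct.rightAlgebra

section orderIso

variable (R A : Type u) [CommRing R] [CommRing A] [Algebra R A] (p : Ideal R) [p.IsPrime]
  (M : Type u) [AddCommGroup M] [Module A M] [Module R M] [IsScalarTower R A M]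
  [Module.Finite A M]

/-- the support dimension of the fibre module is the dimension of the poset of primes over `p`
in the support. -/
theorem supportDim_fiberMod_eq_krullDim :
    Module.supportDim (p.Fiber A) (FlatCA.fiberMod p A M) = Order.krullDim ↥(fibSupp p A M) := by
  unfold Module.supportDim
  have hs := support_fiberMod R A M p
  have hcomap : ∀ y : PrimeSpectrum (p.Fiber A),
      (((PrimeSpectrum.preimageOrderIsoFiber R A ⟨p, inferInstance⟩).symm y).1 :
        PrimeSpectrum A) = PrimeSpectrum.comap (algebraMap A (p.Fiber A)) y := fun y => rfl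
  apply le_antisymm
  · refine Order.krullDim_le_of_strictMono
      (fun y : ↥(Module.support (p.Fiber A) (FlatCA.fiberMod p A M)) =>
        (⟨((PrimeSpectrum.preimageOrderIsoFiber R A ⟨p, inferInstance⟩).symm y.1).1,
          ⟨((PrimeSpectrum.preimageOrderIsoFiber R A ⟨p, inferInstance⟩).symm y.1).2,
            (Set.ext_iff.mp hs y.1).mp y.2⟩⟩ : ↥(fibSupp p A M))) ?_
    intro a b hab
    exact (PrimeSpectrum.preimageOrderIsoFiber R A ⟨p, inferInstance⟩).symm.strictMono hab
  · refine Order.krullDim_le_of_strictMono
      (fun x : ↥(fibSupp p A M) =>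
        (⟨PrimeSpectrum.preimageOrderIsoFiber R A ⟨p, inferInstance⟩ ⟨x.1, x.2.1⟩,
          (Set.ext_iff.mp hs _).mpr (by
            rw [Set.mem_preimage, ← hcomap, OrderIso.symm_apply_apply]
            exact x.2.2)⟩ : ↥(Module.support (p.Fiber A) (FlatCA.fiberMod p A M)))) ?_
    intro a b hab
    exact (PrimeSpectrum.preimageOrderIsoFiber R A ⟨p, inferInstance⟩).strictMono hab

end orderIso

section transfer

variable (R A B : Type u) [CommRing R] [CommRing A] [CommRing B] [Algebra R A] [Algebra R B]
  [Algebra A B] [IsScalarTower R A B] [Module.Finite A B]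
  (p : Ideal R) [p.IsPrime]
  (M : Type u) [AddCommGroup M] [Module B M] [Module A M] [IsScalarTower A B M] [Module R M]
  [IsScalarTower R B M] [IsScalarTower R A M] [Module.Finite B M]

theorem comap_mem_support (Q : PrimeSpectrum B) (hQ : Q ∈ Module.support B M) :
    PrimeSpectrum.comap (algebraMap A B) Q ∈ Module.support A M := by
  rw [Module.mem_support_iff_exists_annihilator] at hQ ⊢
  obtain ⟨m, hm⟩ := hQ
  refine ⟨m, fun a ha => ?_⟩
  apply hm
  rw [Submodule.mem_annihilator_span_singleton] at ha ⊢
  rw [algebraMap_smul]
  exact ha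

theorem krullDim_fibSupp_eq_of_finite :
    Order.krullDim ↥(fibSupp p A M) = Order.krullDim ↥(fibSupp p B M) := by
  haveI : Module.Finite A M := Module.Finite.trans B M
  haveI : Algebra.IsIntegral A B := Algebra.IsIntegral.of_finite A B
  have hcomapP : ∀ Q : PrimeSpectrum B,
      PrimeSpectrum.comap (algebraMap R A) (PrimeSpectrum.comap (algebraMap A B) Q) =
        PrimeSpectrum.comap (algebraMap R B) Q := fun Q => by
    rw [← PrimeSpectrum.comap_comp_apply, ← IsScalarTower.algebraMap_eq]
  apply le_antisymm
  · unfold Order.krullDim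
    refine iSup_le fun l => ?_
    have hP0 : l.head.1 ∈ Module.support A M := l.head.2.2
    rw [Module.mem_support_iff_of_finite] at hP0
    have hle : (Module.annihilator B M).comap (algebraMap A B) ≤ l.head.1.asIdeal := by
      refine le_trans (fun a ha => ?_) hP0
      rw [Ideal.mem_comap, Module.mem_annihilator] at ha
      rw [Module.mem_annihilator]
      intro m
      rw [← algebraMap_smul B a m]
      exact ha m
    obtain ⟨Q0, hQ0ann, hQ0p, hQ0⟩ :=
      Ideal.exists_ideal_over_prime_of_isIntegral l.head.1.asIdeal (Module.annihilator B M) hle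
    haveI := hQ0p
    haveI : Q0.LiesOver (RelSeries.head (l.map Subtype.val (fun _ _ h => h))).asIdeal :=
      ⟨by rw [LTSeries.head_map]; exact hQ0.symm⟩
    obtain ⟨L, hLlen, hLhead, hLmap⟩ :=
      Ideal.exists_ltSeries_of_hasGoingUp (l.map Subtype.val (fun _ _ h => h)) Q0
    have hmem : ∀ i, L i ∈ fibSupp p B M := by
      intro i
      constructor
      · have h1 : PrimeSpectrum.comap (algebraMap A B) (L i) ∈
            (l.map Subtype.val (fun _ _ h => h)).toList := by
          rw [← hLmap]
          exact List.mem_map_of_mem (RelSeries.mem_toList.mpr ⟨i, rfl⟩)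
        rw [RelSeries.mem_toList] at h1
        obtain ⟨j, hj⟩ := h1
        rw [Set.mem_preimage, ← hcomapP, ← hj]
        exact (l j).2.1
      · rw [Module.mem_support_iff_of_finite]
        have h2 : L.head ≤ L i := LTSeries.head_le L i
        rw [hLhead] at h2
        exact hQ0ann.trans h2
    let L' : LTSeries ↥(fibSupp p B M) :=
      { length := L.length
        toFun := fun i => ⟨L i, hmem i⟩
        step := fun i => L.step i }
    have hlen : l.length = L'.length := by
      change l.length = L.length
      rw [hLlen]
      rfl
    rw [hlen]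
    exact le_iSup (fun q : LTSeries ↥(fibSupp p B M) => (q.length : WithBot ℕ∞)) L'
  · refine Order.krullDim_le_of_strictMono
      (fun Q : ↥(fibSupp p B M) =>
        (⟨PrimeSpectrum.comap (algebraMap A B) Q.1,
          ⟨by rw [Set.mem_preimage, hcomapP]; exact Q.2.1,
            comap_mem_support A B M Q.1 Q.2.2⟩⟩ : ↥(fibSupp p A M))) ?_
    intro Q₁ Q₂ h
    have hlt : Q₁.1.asIdeal < Q₂.1.asIdeal := h
    exact Ideal.IsIntegral.comap_lt_comap (R := A) hlt

/-- the dimension of the fibre support of a module over a finite algebra may be computed over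
the base algebra. -/
theorem supportDim_fiberMod_eq_of_finite :
    Module.supportDim (p.Fiber A) (FlatCA.fiberMod p A M) =
      Module.supportDim (p.Fiber B) (FlatCA.fiberMod p B M) := by
  haveI : Module.Finite A M := Module.Finite.trans B M
  rw [supportDim_fiberMod_eq_krullDim, supportDim_fiberMod_eq_krullDim,
    krullDim_fibSupp_eq_of_finite R A B p M]

end transfer

section congr

variable (R A : Type u) [CommRing R] [CommRing A] [Algebra R A] (p : Ideal R) [p.IsPrime]
  (M N : Type u) [AddCommGroup M] [Module A M] [Module R M] [IsScalarTower R A M]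
  [Module.Finite A M] [AddCommGroup N] [Module A N] [Module R N] [IsScalarTower R A N]
  [Module.Finite A N]

theorem supportDim_fiberMod_congr (e : M ≃ₗ[A] N) :
    Module.supportDim (p.Fiber A) (FlatCA.fiberMod p A M) =
      Module.supportDim (p.Fiber A) (FlatCA.fiberMod p A N) := by
  rw [supportDim_fiberMod_eq_krullDim, supportDim_fiberMod_eq_krullDim]
  unfold fibSupp
  rw [e.support_eq]

end congr

end Groth.Agent.Helper27.Dv
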