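import Mathlib
import Groth.Prelude
import Groth.Agent.Lib.Helper27.DvV1
import Groth.Agent.Lib.Helper27.DvK3
import Groth.Agent.Lib.Helper27.DvK4

/-!
# Fibre bases and the dimension drop of the cokernel (helper27)
-/

set_option autoImplicit false
set_option linter.style.haveILetI false
set_option linter.unusedSectionVars false
universe u
open TensorProduct AlgebraicGeometry

namespace Groth.Agent.Helper27.Dv

attribute [local instance] Algebra.TensorProduct.rightAlgebra

section smooth

variable (R D : Type u) [CommRing R] [CommRing D] [Algebra R D]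

theorem smooth_of_smoothRelDim (n : ℕ) (h : FlatCA.SmoothRelDim n R D) : Algebra.Smooth R D := by
  haveI : SmoothOfRelativeDimension n (Spec.map (CommRingCat.ofHom (algebraMap R D))) := h
  haveI : Smooth (Spec.map (CommRingCat.ofHom (algebraMap R D))) :=
    SmoothOfRelativeDimension.smooth n _
  have h1 : Smooth (Spec.map (CommRingCat.ofHom (algebraMap R D))) := inferInstance
  rw [HasRingHomProperty.Spec_iff (P := @Smooth)] at h1
  exact RingHom.smooth_algebraMap.mp h1

/-- for a flat algebra, a prime extension `pD` lies over `p`. -/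
theorem liesOver_map_of_flat [Module.Flat R D] (p : Ideal R) [p.IsPrime]
    [hP : (p.map (algebraMap R D)).IsPrime] : (p.map (algebraMap R D)).LiesOver p := by
  constructor
  apply le_antisymm
  · exact Ideal.le_comap_map
  · intro a ha
    by_contra hap
    have ha' : algebraMap R D a ∈ p.map (algebraMap R D) := ha
    rw [mem_map_iff_tmul_eq_zero] at ha'
    have hne : (Ideal.Quotient.mk p a) ≠ 0 := by
      rwa [Ne, Ideal.Quotient.eq_zero_iff_mem]
    have hinj0 : Function.Injective (LinearMap.lsmul R (R ⧸ p) a) := by
      intro x y hxy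
      simp only [LinearMap.lsmul_apply] at hxy
      rw [Algebra.smul_def, Algebra.smul_def, Ideal.Quotient.algebraMap_eq] at hxy
      exact mul_left_cancel₀ hne hxy
    have hinj := Module.Flat.rTensor_preserves_injective_linearMap (M := D)
      (LinearMap.lsmul R (R ⧸ p) a) hinj0
    have h1 : (LinearMap.lsmul R (R ⧸ p) a).rTensor D ((1 : R ⧸ p) ⊗ₜ[R] (1 : D)) = 0 := by
      rw [LinearMap.rTensor_tmul, LinearMap.lsmul_apply, TensorProduct.smul_tmul,
        ← Algebra.algebraMap_eq_smul_one]
      exact ha'
    have h2 : (1 : R ⧸ p) ⊗ₜ[R] (1 : D) = 0 := hinj (by rw [h1, map_zero])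
    rw [← mem_map_iff_tmul_eq_zero] at h2
    exact hP.ne_top ((Ideal.eq_top_iff_one _).mpr h2)

end smooth

section main

variable (R D : Type u) [CommRing R] [CommRing D] [Algebra R D]
  (p : Ideal R) [p.IsPrime] [hP : (p.map (algebraMap R D)).IsPrime]
  [hO : (p.map (algebraMap R D)).LiesOver p]
  (G : Type u) [AddCommGroup G] [Module D G] [Module R G] [IsScalarTower R D G]
  [Module.Finite D G] (n : ℕ)

/-- if the fibre support of `G` has the dimension of the fibre, the generic point of the fibre is
in the support. -/
theorem genPt_mem_support_of_dim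
    (hdimG : Module.supportDim (p.Fiber D) (FlatCA.fiberMod p D G) = n)
    (hdimF : ringKrullDim (p.Fiber D) ≤ n) :
    (⟨p.map (algebraMap R D), inferInstance⟩ : PrimeSpectrum D) ∈ Module.support D G := by
  by_contra h
  have h1 := supportDim_add_one_le_ringKrullDim R D p G h
  rw [hdimG] at h1
  have h2 := h1.trans hdimF
  have h3 : n + 1 ≤ n := by exact_mod_cast h2
  omega

theorem exists_alpha_bijective
    (hin : (⟨p.map (algebraMap R D), inferInstance⟩ : PrimeSpectrum D) ∈ Module.support D G) :
    ∃ (r : ℕ) (α : (Fin r → D) →ₗ[D] G), 0 < r ∧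
      Function.Bijective (α.baseChange (p.map (algebraMap R D)).ResidueField) := by
  classical
  haveI : Nontrivial ((p.map (algebraMap R D)).ResidueField ⊗[D] G) :=
    (Module.mem_support_iff_nontrivial_residueField_tensorProduct
      (⟨p.map (algebraMap R D), inferInstance⟩ : PrimeSpectrum D)).mp hin
  have hspan : Submodule.span (p.map (algebraMap R D)).ResidueField
      (Set.range fun g : G => (1 : (p.map (algebraMap R D)).ResidueField) ⊗ₜ[D] g) = ⊤ := by
    rw [eq_top_iff]
    intro x hx
    clear hx
    induction x using TensorProduct.induction_on with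
    | zero => exact Submodule.zero_mem _
    | tmul k g =>
      have : k ⊗ₜ[D] g = k • ((1 : (p.map (algebraMap R D)).ResidueField) ⊗ₜ[D] g) := by
        rw [TensorProduct.smul_tmul', smul_eq_mul, mul_one]
      rw [this]
      exact Submodule.smul_mem _ _ (Submodule.subset_span ⟨g, rfl⟩)
    | add x y hx hy => exact Submodule.add_mem _ hx hy
  obtain ⟨b, hbsub, hbspan, hbli⟩ := exists_linearIndependent
    (p.map (algebraMap R D)).ResidueField
    (Set.range fun g : G => (1 : (p.map (algebraMap R D)).ResidueField) ⊗ₜ[D] g)
  have hb_top : Submodule.span (p.map (algebraMap R D)).ResidueField b = ⊤ := by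
    rw [hbspan, hspan]
  let Bs : Module.Basis b (p.map (algebraMap R D)).ResidueField
      ((p.map (algebraMap R D)).ResidueField ⊗[D] G) :=
    Module.Basis.mk hbli (by rw [Subtype.range_coe]; exact hb_top.ge)
  haveI : Fintype b := FiniteDimensional.fintypeBasisIndex Bs
  let e : Fin (Fintype.card b) ≃ b := (Fintype.equivFin b).symm
  choose gsel hgsel using fun x : b => hbsub x.2
  let α : (Fin (Fintype.card b) → D) →ₗ[D] G :=
    Fintype.linearCombination D (fun k => gsel (e k))
  refine ⟨Fintype.card b, α, ?_, ?_⟩
  · rw [Fintype.card_pos_iff]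
    by_contra hempty
    rw [not_nonempty_iff] at hempty
    haveI := hempty
    haveI : Subsingleton ((p.map (algebraMap R D)).ResidueField ⊗[D] G) :=
      Bs.repr.toEquiv.subsingleton
    exact not_subsingleton _ ‹_›
  · rw [bijective_baseChange_iff]
    have hfun : (fun k => (1 : (p.map (algebraMap R D)).ResidueField) ⊗ₜ[D]
        α (Pi.single k 1)) = fun k => (Bs.reindex e.symm) k := by
      funext k
      have h1 : α (Pi.single k 1) = gsel (e k) := by
        simp [α, Fintype.linearCombination_apply_single]
      rw [h1, Module.Basis.reindex_apply, Equiv.symm_symm, Module.Basis.mk_apply]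
      exact hgsel (e k)
    rw [hfun]
    have heq : (Fintype.linearCombination (p.map (algebraMap R D)).ResidueField
        (fun k => (Bs.reindex e.symm) k)) = (Bs.reindex e.symm).equivFun.symm.toLinearMap := by
      ext v
      simp [Fintype.linearCombination_apply, Module.Basis.equivFun_symm_apply]
    rw [heq]
    exact (Bs.reindex e.symm).equivFun.symm.bijective

theorem not_mem_support_coker (r : ℕ) (α : (Fin r → D) →ₗ[D] G)
    (hα : Function.Bijective (α.baseChange (p.map (algebraMap R D)).ResidueField)) :
    (⟨p.map (algebraMap R D), inferInstance⟩ : PrimeSpectrum D) ∉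
      Module.support D (G ⧸ LinearMap.range α) := by
  rw [Module.mem_support_iff_nontrivial_residueField_tensorProduct,
    not_nontrivial_iff_subsingleton]
  have hsurjQ : Function.Surjective
      ((LinearMap.range α).mkQ.lTensor (p.map (algebraMap R D)).ResidueField) :=
    LinearMap.lTensor_surjective _ (Submodule.mkQ_surjective _)
  have hzero : ∀ x : (p.map (algebraMap R D)).ResidueField ⊗[D] G,
      (LinearMap.range α).mkQ.lTensor (p.map (algebraMap R D)).ResidueField x = 0 := by
    intro x
    obtain ⟨y, rfl⟩ := hα.2 x
    rw [LinearMap.baseChange_eq_ltensor, ← LinearMap.comp_apply, ← LinearMap.lTensor_comp]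
    have : (LinearMap.range α).mkQ ∘ₗ α = 0 := by
      ext v
      simp
    rw [this, LinearMap.lTensor_zero, LinearMap.zero_apply]
  refine ⟨fun a b => ?_⟩
  obtain ⟨a', rfl⟩ := hsurjQ a
  obtain ⟨b', rfl⟩ := hsurjQ b
  rw [hzero, hzero]

theorem supportDim_coker_lt
    (hin : (⟨p.map (algebraMap R D), inferInstance⟩ : PrimeSpectrum D) ∈ Module.support D G)
    (hdimG : Module.supportDim (p.Fiber D) (FlatCA.fiberMod p D G) = n)
    (r : ℕ) (α : (Fin r → D) →ₗ[D] G)
    (hα : Function.Bijective (α.baseChange (p.map (algebraMap R D)).ResidueField)) :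
    Module.supportDim (p.Fiber D) (FlatCA.fiberMod p D (G ⧸ LinearMap.range α)) <
      (n : WithBot ℕ∞) := by
  have hout := not_mem_support_coker R D p G r α hα
  have hsub : Module.support D (G ⧸ LinearMap.range α) ⊆ Module.support D G :=
    Module.support_subset_of_surjective (LinearMap.range α).mkQ (Submodule.mkQ_surjective _)
  have h1 := supportDim_add_one_le_supportDim R D p G (G ⧸ LinearMap.range α) hsub hin hout
  rw [hdimG] at h1
  generalize Module.supportDim (p.Fiber D) (FlatCA.fiberMod p D (G ⧸ LinearMap.range α)) = x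
    at h1 ⊢
  induction x using WithBot.recBotCoe with
  | bot => exact WithBot.bot_lt_coe _
  | coe m =>
    have h2 : (m + 1 : ℕ∞) ≤ (n : ℕ∞) := by exact_mod_cast h1
    have hm : m ≠ ⊤ := by
      rintro rfl
      simp at h2
    have h3 : m < (n : ℕ∞) := (ENat.add_one_le_iff hm).mp h2
    exact_mod_cast h3

end main

end Groth.Agent.Helper27.Dv
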