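import Mathlib

/-! Elliptic curves with the same `j ≠ 0, 1728` are étale-locally isomorphic (S14292), part A:
predicates and transport lemmas. -/

set_option autoImplicit false

universe u

namespace Groth.Agent.Helper27.Ej

open WeierstrassCurve

section basic

variable {A : Type u} [CommRing A] {B : Type u} [CommRing B]

/-- `c₄`, `c₆`, `Δ` are units. -/
def Good (W : WeierstrassCurve A) : Prop := IsUnit W.c₄ ∧ IsUnit W.c₆ ∧ IsUnit W.Δ

/-- Same `j`-invariant, cross-multiplied. -/
def SameJ (W W' : WeierstrassCurve A) : Prop := W.c₄ ^ 3 * W'.Δ = W'.c₄ ^ 3 * W.Δ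

theorem Good.map {W : WeierstrassCurve A} (h : Good W) (f : A →+* B) : Good (W.map f) := by
  refine ⟨?_, ?_, ?_⟩
  · rw [map_c₄]; exact h.1.map f
  · rw [map_c₆]; exact h.2.1.map f
  · rw [map_Δ]; exact h.2.2.map f

theorem SameJ.map {W W' : WeierstrassCurve A} (h : SameJ W W') (f : A →+* B) :
    SameJ (W.map f) (W'.map f) := by
  unfold SameJ at h ⊢
  rw [map_c₄, map_c₄, map_Δ, map_Δ, ← map_pow, ← map_pow, ← map_mul, ← map_mul, h]

theorem Good.smul {W : WeierstrassCurve A} (h : Good W) (C : VariableChange A) : Good (C • W) := by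
  refine ⟨?_, ?_, ?_⟩
  · rw [variableChange_c₄]; exact (C.u⁻¹ ^ 4).isUnit.mul h.1
  · rw [variableChange_c₆]; exact (C.u⁻¹ ^ 6).isUnit.mul h.2.1
  · rw [variableChange_Δ]; exact (C.u⁻¹ ^ 12).isUnit.mul h.2.2

theorem SameJ.smul_left {W W' : WeierstrassCurve A} (h : SameJ W W') (C : VariableChange A) :
    SameJ (C • W) W' := by
  unfold SameJ at h ⊢
  rw [variableChange_c₄, variableChange_Δ]
  linear_combination ((C.u⁻¹ : Aˣ) : A) ^ 12 * h

theorem SameJ.symm {W W' : WeierstrassCurve A} (h : SameJ W W') : SameJ W' W := by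
  unfold SameJ at h ⊢
  exact h.symm

theorem SameJ.smul_right {W W' : WeierstrassCurve A} (h : SameJ W W') (C : VariableChange A) :
    SameJ W (C • W') := (h.symm.smul_left C).symm

theorem good_of_j {W : WeierstrassCurve A} [W.IsElliptic] (h0 : IsUnit W.j)
    (h1728 : IsUnit (W.j - 1728)) : Good W := by
  have hΔ : IsUnit W.Δ := W.isUnit_Δ
  have hj : W.Δ * W.j = W.c₄ ^ 3 := by
    rw [j, ← coe_Δ', ← mul_assoc, Units.mul_inv, one_mul]
  have h4 : IsUnit (W.c₄ ^ 3) := hj ▸ hΔ.mul h0
  have h6 : IsUnit (W.c₆ ^ 2) := by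
    have : W.c₆ ^ 2 = W.Δ * (W.j - 1728) := by
      have := W.c_relation
      linear_combination this - hj
    rw [this]
    exact hΔ.mul h1728
  exact ⟨(isUnit_pow_iff (by norm_num)).1 h4, (isUnit_pow_iff (by norm_num)).1 h6, hΔ⟩

theorem sameJ_of_j {W W' : WeierstrassCurve A} [W.IsElliptic] [W'.IsElliptic] (h : W.j = W'.j) :
    SameJ W W' := by
  have hj : W.Δ * W.j = W.c₄ ^ 3 := by
    rw [j, ← coe_Δ', ← mul_assoc, Units.mul_inv, one_mul]
  have hj' : W'.Δ * W'.j = W'.c₄ ^ 3 := by
    rw [j, ← coe_Δ', ← mul_assoc, Units.mul_inv, one_mul]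
  unfold SameJ
  rw [← hj, ← hj', h]
  ring

end basic

section LocIso

variable {A : Type u} [CommRing A]

/-- The conclusion of the statement. -/
def LocIso (p : PrimeSpectrum A) (W W' : WeierstrassCurve A) : Prop :=
  ∃ (B : Type u) (_ : CommRing B) (_ : Algebra A B), Algebra.Etale A B ∧
      p ∈ Set.range (PrimeSpectrum.comap (algebraMap A B)) ∧
      ∃ C : WeierstrassCurve.VariableChange B,
        C • (W.map (algebraMap A B)) = W'.map (algebraMap A B)

theorem LocIso.of_smul_eq {p : PrimeSpectrum A} {W W' : WeierstrassCurve A}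
    (C : VariableChange A) (h : C • W = W') : LocIso p W W' := by
  refine ⟨A, inferInstance, inferInstance, inferInstance, ⟨p, ?_⟩, C, ?_⟩
  · ext x; simp
  · simpa [WeierstrassCurve.map_id] using h

/-- Pass to an étale neighbourhood and change variables on the left. -/
theorem LocIso.step_left {p : PrimeSpectrum A} {W W' : WeierstrassCurve A}
    (B : Type u) [CommRing B] [Algebra A B] [Algebra.Etale A B] (q : PrimeSpectrum B)
    (hq : PrimeSpectrum.comap (algebraMap A B) q = p) (C : VariableChange B)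
    (h : LocIso q (C • W.map (algebraMap A B)) (W'.map (algebraMap A B))) : LocIso p W W' := by
  obtain ⟨B', _, _, hE, ⟨q', hq'⟩, C', hC'⟩ := h
  letI : Algebra A B' := ((algebraMap B B').comp (algebraMap A B)).toAlgebra
  haveI : IsScalarTower A B B' := IsScalarTower.of_algebraMap_eq (fun _ => rfl)
  refine ⟨B', inferInstance, inferInstance, Algebra.Etale.comp A B B', ⟨q', ?_⟩,
    C' * C.map (algebraMap B B'), ?_⟩
  · rw [← hq, ← hq']
    rfl
  · rw [mul_smul]
    have e1 : W.map (algebraMap A B') = (W.map (algebraMap A B)).map (algebraMap B B') := by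
      rw [WeierstrassCurve.map_map]; rfl
    have e2 : W'.map (algebraMap A B') = (W'.map (algebraMap A B)).map (algebraMap B B') := by
      rw [WeierstrassCurve.map_map]; rfl
    rw [e1, e2, WeierstrassCurve.map_variableChange, hC']

/-- Pass to an étale neighbourhood and change variables on the right. -/
theorem LocIso.step_right {p : PrimeSpectrum A} {W W' : WeierstrassCurve A}
    (B : Type u) [CommRing B] [Algebra A B] [Algebra.Etale A B] (q : PrimeSpectrum B)
    (hq : PrimeSpectrum.comap (algebraMap A B) q = p) (C : VariableChange B)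
    (h : LocIso q (W.map (algebraMap A B)) (C • W'.map (algebraMap A B))) : LocIso p W W' := by
  obtain ⟨B', _, _, hE, ⟨q', hq'⟩, C', hC'⟩ := h
  letI : Algebra A B' := ((algebraMap B B').comp (algebraMap A B)).toAlgebra
  haveI : IsScalarTower A B B' := IsScalarTower.of_algebraMap_eq (fun _ => rfl)
  refine ⟨B', inferInstance, inferInstance, Algebra.Etale.comp A B B', ⟨q', ?_⟩,
    (C.map (algebraMap B B'))⁻¹ * C', ?_⟩
  · rw [← hq, ← hq']
    rfl
  · rw [mul_smul]
    have e1 : W.map (algebraMap A B') = (W.map (algebraMap A B)).map (algebraMap B B') := by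
      rw [WeierstrassCurve.map_map]; rfl
    have e2 : W'.map (algebraMap A B') = (W'.map (algebraMap A B)).map (algebraMap B B') := by
      rw [WeierstrassCurve.map_map]; rfl
    rw [e1, e2, hC', ← WeierstrassCurve.map_variableChange, inv_smul_smul]

end LocIso

end Groth.Agent.Helper27.Ej
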