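import Mathlib
import Groth.Agent.Lib.Helper27.EjA

/-! S14292, part B: lifting primes to étale neighbourhoods. -/

set_option autoImplicit false

universe u

namespace Groth.Agent.Helper27.Ej

open WeierstrassCurve Polynomial

variable {A : Type u} [CommRing A]

/-- A prime of `A[1/g]` over `p` when `g ∉ p`. -/
theorem exists_prime_away (p : PrimeSpectrum A) (g : A) (hg : g ∉ p.asIdeal) :
    ∃ q : PrimeSpectrum (Localization.Away g),
      PrimeSpectrum.comap (algebraMap A (Localization.Away g)) q = p := by
  have h := PrimeSpectrum.localization_away_comap_range (Localization.Away g) g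
  have hp : p ∈ Set.range (PrimeSpectrum.comap (algebraMap A (Localization.Away g))) := by
    rw [h]
    exact hg
  exact hp

/-- The algebraic closure of the residue field at `p`. -/
abbrev KK (p : PrimeSpectrum A) : Type u := AlgebraicClosure p.asIdeal.ResidueField

/-- The map `A → KK p`. -/
noncomputable def toKK (p : PrimeSpectrum A) : A →+* KK p :=
  (algebraMap p.asIdeal.ResidueField (KK p)).comp (algebraMap A p.asIdeal.ResidueField)

theorem toKK_eq_zero_iff (p : PrimeSpectrum A) (a : A) : toKK p a = 0 ↔ a ∈ p.asIdeal := by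
  rw [toKK, RingHom.comp_apply, map_eq_zero_iff _ (algebraMap p.asIdeal.ResidueField (KK p)).injective,
    ← RingHom.mem_ker, Ideal.ker_algebraMap_residueField]

theorem toKK_ne_zero_of_isUnit (p : PrimeSpectrum A) {a : A} (ha : IsUnit a) : toKK p a ≠ 0 :=
  (ha.map (toKK p)).ne_zero

/-- A prime of a standard étale algebra over `p`, from a geometric point. -/
theorem exists_prime_standardEtale (p : PrimeSpectrum A) (P : StandardEtalePair A) (x : KK p)
    (hf : (P.f.map (toKK p)).eval x = 0) (hg : (P.g.map (toKK p)).eval x ≠ 0) :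
    ∃ q : PrimeSpectrum P.Ring, PrimeSpectrum.comap (algebraMap A P.Ring) q = p := by
  letI : Algebra A (KK p) := (toKK p).toAlgebra
  have hmap : P.HasMap x := by
    refine ⟨?_, ?_⟩
    · rw [← hf, Polynomial.eval_map]; rfl
    · rw [isUnit_iff_ne_zero]
      intro h
      apply hg
      rw [← h, Polynomial.eval_map]; rfl
  let φ : P.Ring →ₐ[A] KK p := P.lift x hmap
  refine ⟨⟨RingHom.ker φ.toRingHom, RingHom.ker_isPrime _⟩, ?_⟩
  ext a
  change φ (algebraMap A P.Ring a) = 0 ↔ a ∈ p.asIdeal
  rw [AlgHom.commutes]
  exact toKK_eq_zero_iff p a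

end Groth.Agent.Helper27.Ej
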