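import Mathlib
import Groth.Agent.Lib.Helper27.EjB

/-! S14292, part C: comparing two normal forms `y² + xy = x³ + a₂x² + a₆`. -/

set_option autoImplicit false

universe u

namespace Groth.Agent.Helper27.Ej

open WeierstrassCurve Polynomial

variable {A : Type u} [CommRing A]

/-- Normal form `a₁ = 1`, `a₃ = 0`, `a₄ = 0`. -/
def NF (W : WeierstrassCurve A) : Prop := W.a₁ = 1 ∧ W.a₃ = 0 ∧ W.a₄ = 0

theorem NF.map {B : Type u} [CommRing B] {W : WeierstrassCurve A} (h : NF W) (f : A →+* B) :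
    NF (W.map f) := by
  refine ⟨?_, ?_, ?_⟩
  · change f W.a₁ = 1; rw [h.1, map_one]
  · change f W.a₃ = 0; rw [h.2.1, map_zero]
  · change f W.a₄ = 0; rw [h.2.2, map_zero]

theorem NF.b₂ {W : WeierstrassCurve A} (h : NF W) : W.b₂ = 1 + 4 * W.a₂ := by
  rw [WeierstrassCurve.b₂, h.1]; ring

theorem NF.c₄ {W : WeierstrassCurve A} (h : NF W) : W.c₄ = W.b₂ ^ 2 := by
  rw [WeierstrassCurve.c₄, WeierstrassCurve.b₄, h.1, h.2.1, h.2.2]; ring

theorem NF.c₆ {W : WeierstrassCurve A} (h : NF W) : W.c₆ = -W.b₂ ^ 3 - 864 * W.a₆ := by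
  rw [WeierstrassCurve.c₆, WeierstrassCurve.b₄, WeierstrassCurve.b₆, h.1, h.2.1, h.2.2]; ring

theorem NF.Δ {W : WeierstrassCurve A} (h : NF W) : W.Δ = -W.b₂ ^ 3 * W.a₆ - 432 * W.a₆ ^ 2 := by
  rw [WeierstrassCurve.Δ, WeierstrassCurve.b₈, WeierstrassCurve.b₄, WeierstrassCurve.b₆, h.b₂,
    h.1, h.2.1, h.2.2]; ring

theorem NF.isUnit_b₂ {W : WeierstrassCurve A} (h : NF W) (hG : Good W) : IsUnit W.b₂ := by
  have := hG.1
  rw [h.c₄] at this
  exact (isUnit_pow_iff (by norm_num)).1 this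

/-- The standard étale pair `s² + s + c`, when `1 - 4c` is a unit. -/
noncomputable def pairS (c dinv : A) (hd : (1 - 4 * c) * dinv = 1) : StandardEtalePair A where
  f := X ^ 2 + X + C c
  monic_f := by
    have : (X ^ 2 + X + C c : A[X]) = X ^ 2 + (X + C c) := by ring
    rw [this]
    nontriviality A
    apply monic_X_pow_add
    rw [degree_X_add_C]
    norm_num
  g := 1
  cond := ⟨C dinv * (2 * X + 1), - (4 * C dinv), 0, by
    have hder : derivative (X ^ 2 + X + C c : A[X]) = 2 * X + 1 := by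
      simp only [derivative_add, derivative_X_pow, derivative_X, derivative_C, add_zero]
      norm_num
      rw [← map_ofNat C 2]
    rw [hder, pow_zero]
    calc (2 * X + 1) * (C dinv * (2 * X + 1)) + (X ^ 2 + X + C c) * -(4 * C dinv)
        = C ((1 - 4 * c) * dinv) := by
          simp only [map_mul, map_sub, map_one, map_ofNat]; ring
      _ = 1 := by rw [hd, map_one]⟩


theorem pairS_f (c dinv : A) (hd : (1 - 4 * c) * dinv = 1) :
    (pairS c dinv hd).f = X ^ 2 + X + C c := rfl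

theorem pairS_g (c dinv : A) (hd : (1 - 4 * c) * dinv = 1) :
    (pairS c dinv hd).g = 1 := rfl

theorem degree_quad_ne_zero {K : Type u} [Field K] (b c : K) :
    (X ^ 2 + C b * X + C c : K[X]).degree ≠ 0 := by
  have : (X ^ 2 + C b * X + C c : K[X]) = C 1 * X ^ 2 + C b * X + C c := by
    rw [map_one, one_mul]
  rw [this, degree_quadratic one_ne_zero]
  norm_num

/-- Two normal forms with `b₂³ a₆' = b₂'³ a₆` are étale-locally isomorphic. -/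
theorem locIso_of_nf_eq (p : PrimeSpectrum A) (W W' : WeierstrassCurve A) (hG : Good W)
    (hG' : Good W') (hN : NF W) (hN' : NF W')
    (hXY : W.b₂ ^ 3 * W'.a₆ = W'.b₂ ^ 3 * W.a₆) : LocIso p W W' := by
  obtain ⟨b, hb⟩ := (hN'.isUnit_b₂ hG').exists_right_inv
  obtain ⟨b0, hb0⟩ := (hN.isUnit_b₂ hG).exists_right_inv
  have hb' : (1 + 4 * W'.a₂) * b = 1 := by rw [← hN'.b₂]; exact hb
  have hb0' : (1 + 4 * W.a₂) * b0 = 1 := by rw [← hN.b₂]; exact hb0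
  set c := b * (W'.a₂ - W.a₂) with hc
  have hd0 : 1 - 4 * c = b * W.b₂ := by
    rw [hN.b₂, hc]; linear_combination (-1 : A) * hb'
  have hd : (1 - 4 * c) * (W'.b₂ * b0) = 1 := by
    rw [hd0]; linear_combination W.b₂ * b0 * hb + hb0
  have hA2 : W.a₂ + c = (1 - 4 * c) * W'.a₂ := by
    rw [hc]; linear_combination (W'.a₂ - W.a₂) * hb'
  have hA6 : W.a₆ = (1 - 4 * c) ^ 3 * W'.a₆ := by
    rw [hd0]
    have h3 : (W'.b₂ * b) ^ 3 = 1 := by rw [hb, one_pow]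
    linear_combination (-W.a₆) * h3 - b ^ 3 * hXY
  let P := pairS c (W'.b₂ * b0) hd
  let φ : A →+* P.Ring := algebraMap A P.Ring
  have hs : P.X ^ 2 + P.X + φ c = 0 := by
    have := P.hasMap_X.1
    rw [pairS_f] at this
    simpa using this
  have hu2 : (1 + 2 * P.X) ^ 2 = φ (1 - 4 * c) := by
    rw [map_sub, map_mul, map_one, map_ofNat]; linear_combination 4 * hs
  have hdφ : φ (1 - 4 * c) * φ (W'.b₂ * b0) = 1 := by rw [← map_mul, hd, map_one]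
  have huv : (1 + 2 * P.X) * ((1 + 2 * P.X) * φ (W'.b₂ * b0)) = 1 := by
    linear_combination φ (W'.b₂ * b0) * hu2 + hdφ
  let uu : P.Ringˣ := ⟨1 + 2 * P.X, (1 + 2 * P.X) * φ (W'.b₂ * b0), huv, by rw [mul_comm]; exact huv⟩
  have hvu : ((uu⁻¹ : P.Ringˣ) : P.Ring) * (1 + 2 * P.X) = 1 := uu.inv_mul
  have hvun : ∀ n : ℕ, ((uu⁻¹ : P.Ringˣ) : P.Ring) ^ n * (1 + 2 * P.X) ^ n = 1 := by
    intro n; rw [← mul_pow, hvu, one_pow]
  have hA2φ : φ W.a₂ + φ c = φ (1 - 4 * c) * φ W'.a₂ := by rw [← map_add, hA2, map_mul]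
  have hA6φ : φ W.a₆ = φ (1 - 4 * c) ^ 3 * φ W'.a₆ := by rw [← map_pow, ← map_mul, ← hA6]
  refine ⟨P.Ring, inferInstance, inferInstance, inferInstance, ?_, ⟨uu, 0, P.X, 0⟩, ?_⟩
  · obtain ⟨x, hx⟩ := IsAlgClosed.exists_root ((X ^ 2 + C 1 * X + C (toKK p c) : (KK p)[X]))
      (degree_quad_ne_zero _ _)
    obtain ⟨q, hq⟩ := exists_prime_standardEtale p P x (by
      rw [pairS_f]
      simpa [Polynomial.IsRoot] using hx) (by
      rw [pairS_g]; simp)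
    exact ⟨q, hq⟩
  · ext
    · rw [variableChange_a₁]
      change ((uu⁻¹ : P.Ringˣ) : P.Ring) * (φ W.a₁ + 2 * P.X) = φ W'.a₁
      rw [hN.1, hN'.1, map_one]; exact hvu
    · rw [variableChange_a₂]
      change ((uu⁻¹ : P.Ringˣ) : P.Ring) ^ 2 * (φ W.a₂ - P.X * φ W.a₁ + 3 * 0 - P.X ^ 2) = φ W'.a₂
      rw [hN.1, map_one]
      have e : φ W.a₂ - P.X * 1 + 3 * 0 - P.X ^ 2 = (1 + 2 * P.X) ^ 2 * φ W'.a₂ := by
        rw [hu2]; linear_combination hA2φ - hs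
      rw [e, ← mul_assoc, hvun, one_mul]
    · rw [variableChange_a₃]
      change ((uu⁻¹ : P.Ringˣ) : P.Ring) ^ 3 * (φ W.a₃ + 0 * φ W.a₁ + 2 * 0) = φ W'.a₃
      rw [hN.2.1, hN'.2.1, map_zero]; ring
    · rw [variableChange_a₄]
      change ((uu⁻¹ : P.Ringˣ) : P.Ring) ^ 4 * (φ W.a₄ - P.X * φ W.a₃ + 2 * 0 * φ W.a₂
        - (0 + 0 * P.X) * φ W.a₁ + 3 * 0 ^ 2 - 2 * P.X * 0) = φ W'.a₄
      rw [hN.2.1, hN.2.2, hN'.2.2, map_zero]; ring
    · rw [variableChange_a₆]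
      change ((uu⁻¹ : P.Ringˣ) : P.Ring) ^ 6 * (φ W.a₆ + 0 * φ W.a₄ + 0 ^ 2 * φ W.a₂ + 0 ^ 3
        - 0 * φ W.a₃ - 0 ^ 2 - 0 * 0 * φ W.a₁) = φ W'.a₆
      have e : φ W.a₆ + 0 * φ W.a₄ + 0 ^ 2 * φ W.a₂ + 0 ^ 3 - 0 * φ W.a₃ - 0 ^ 2 - 0 * 0 * φ W.a₁
          = (1 + 2 * P.X) ^ 6 * φ W'.a₆ := by
        have : (1 + 2 * P.X) ^ 6 = φ (1 - 4 * c) ^ 3 := by rw [← hu2]; ring
        rw [this, ← hA6φ]; ring
      rw [e, ← mul_assoc, hvun, one_mul]

end Groth.Agent.Helper27.Ej
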