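import Mathlib
import Groth.Agent.Lib.Helper27.EjC

/-! S14292, part D: comparing two normal forms, general case. -/

set_option autoImplicit false

universe u

namespace Groth.Agent.Helper27.Ej

open WeierstrassCurve Polynomial

variable {A : Type u} [CommRing A]

theorem isUnit_algebraMap_away (g : A) : IsUnit (algebraMap A (Localization.Away g) g) :=
  IsLocalization.Away.algebraMap_isUnit g

/-- In `A[1/g]`, `x * g = 0` implies `x = 0`. -/
theorem eq_zero_of_mul_eq_zero_away (g x : A) (h : x * g = 0) :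
    algebraMap A (Localization.Away g) x = 0 := by
  have hu := isUnit_algebraMap_away g
  have : algebraMap A (Localization.Away g) x * algebraMap A (Localization.Away g) g = 0 := by
    rw [← map_mul, h, map_zero]
  exact (hu.mul_left_eq_zero).1 this

/-- Two normal forms with the same `j` are étale-locally isomorphic. -/
theorem locIso_of_nf (p : PrimeSpectrum A) (W W' : WeierstrassCurve A) (hG : Good W)
    (hG' : Good W') (hJ : SameJ W W') (hN : NF W) (hN' : NF W') : LocIso p W W' := by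
  -- the key identity
  have key : (W.b₂ ^ 3 * W'.a₆ - W'.b₂ ^ 3 * W.a₆) *
      (W.b₂ ^ 3 * W'.b₂ ^ 3 + 432 * (W'.b₂ ^ 3 * W.a₆ + W.b₂ ^ 3 * W'.a₆)) = 0 := by
    have := hJ
    unfold SameJ at this
    rw [hN.c₄, hN'.c₄, hN.Δ, hN'.Δ] at this
    linear_combination (-1 : A) * this
  by_cases hg : (W.b₂ ^ 3 * W'.b₂ ^ 3 + 432 * (W'.b₂ ^ 3 * W.a₆ + W.b₂ ^ 3 * W'.a₆)) ∈ p.asIdeal
  · -- case B
    have hXY : (W.b₂ ^ 3 * W'.a₆ - W'.b₂ ^ 3 * W.a₆) ∉ p.asIdeal := by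
      intro hmem
      have h6 : W'.b₂ ^ 3 * W.c₆ ∈ p.asIdeal := by
        have : W'.b₂ ^ 3 * W.c₆ = -(W.b₂ ^ 3 * W'.b₂ ^ 3 + 432 * (W'.b₂ ^ 3 * W.a₆ + W.b₂ ^ 3 * W'.a₆))
            + 432 * (W.b₂ ^ 3 * W'.a₆ - W'.b₂ ^ 3 * W.a₆) := by
          rw [hN.c₆]; ring
        rw [this]
        exact p.asIdeal.add_mem (p.asIdeal.neg_mem hg) (p.asIdeal.mul_mem_left _ hmem)
      have hu : IsUnit (W'.b₂ ^ 3 * W.c₆) := ((hN'.isUnit_b₂ hG').pow 3).mul hG.2.1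
      exact p.2.ne_top (p.asIdeal.eq_top_of_isUnit_mem h6 hu)
    set d := W.b₂ ^ 3 * W'.a₆ - W'.b₂ ^ 3 * W.a₆ with hd
    obtain ⟨q, hq⟩ := exists_prime_away p d hXY
    let φ : A →+* Localization.Away d := algebraMap A (Localization.Away d)
    have hg0 : φ (W.b₂ ^ 3 * W'.b₂ ^ 3 + 432 * (W'.b₂ ^ 3 * W.a₆ + W.b₂ ^ 3 * W'.a₆)) = 0 :=
      eq_zero_of_mul_eq_zero_away d _ (by rw [mul_comm]; exact key)
    -- 432 is a unit
    have hN3 : IsUnit (φ (W.b₂ ^ 3 * W'.b₂ ^ 3)) :=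
      (((hN.isUnit_b₂ hG).pow 3).mul ((hN'.isUnit_b₂ hG').pow 3)).map φ
    have h432 : IsUnit (432 : Localization.Away d) := by
      have e : (432 : Localization.Away d) * (-(φ (W'.b₂ ^ 3 * W.a₆ + W.b₂ ^ 3 * W'.a₆))) =
          φ (W.b₂ ^ 3 * W'.b₂ ^ 3) := by
        have : φ (W.b₂ ^ 3 * W'.b₂ ^ 3) + 432 * φ (W'.b₂ ^ 3 * W.a₆ + W.b₂ ^ 3 * W'.a₆) = 0 := by
          rw [← map_ofNat φ 432, ← map_mul, ← map_add]; exact hg0
        linear_combination (-1 : Localization.Away d) * this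
      exact isUnit_of_mul_isUnit_left (e ▸ hN3)
    have h12 : IsUnit (12 : Localization.Away d) := by
      have : (432 : Localization.Away d) = 12 * 36 := by norm_num
      rw [this] at h432
      exact isUnit_of_mul_isUnit_left h432
    obtain ⟨i12, hi12⟩ := h12.exists_right_inv
    set t₀ : Localization.Away d := φ W'.b₂ * i12 with ht₀
    have ht12 : 12 * t₀ = φ W'.b₂ := by rw [ht₀]; linear_combination φ W'.b₂ * hi12
    let C₀ : VariableChange (Localization.Away d) := ⟨1, -2 * t₀, 0, t₀⟩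
    have hWφ : NF (W.map φ) := hN.map φ
    have hW'φ : NF (W'.map φ) := hN'.map φ
    have hb2' : (W'.map φ).b₂ = φ W'.b₂ := map_b₂ _ _
    have hW'' : NF (C₀ • W'.map φ) := by
      refine ⟨?_, ?_, ?_⟩
      · rw [variableChange_a₁]
        change ((1⁻¹ : (Localization.Away d)ˣ) : Localization.Away d) * ((W'.map φ).a₁ + 2 * 0) = 1
        rw [hW'φ.1]; simp
      · rw [variableChange_a₃]
        change ((1⁻¹ : (Localization.Away d)ˣ) : Localization.Away d) ^ 3 *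
          ((W'.map φ).a₃ + -2 * t₀ * (W'.map φ).a₁ + 2 * t₀) = 0
        rw [hW'φ.1, hW'φ.2.1]; ring
      · rw [variableChange_a₄]
        change ((1⁻¹ : (Localization.Away d)ˣ) : Localization.Away d) ^ 4 *
          ((W'.map φ).a₄ - 0 * (W'.map φ).a₃ + 2 * (-2 * t₀) * (W'.map φ).a₂
            - (t₀ + -2 * t₀ * 0) * (W'.map φ).a₁ + 3 * (-2 * t₀) ^ 2 - 2 * 0 * t₀) = 0
        rw [hW'φ.1, hW'φ.2.1, hW'φ.2.2]
        have hb : φ W'.b₂ = 1 + 4 * (W'.map φ).a₂ := by rw [← hb2', hW'φ.b₂]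
        simp only [inv_one, Units.val_one, one_pow, one_mul]
        linear_combination t₀ * ht12 + t₀ * hb
    refine LocIso.step_right (Localization.Away d) q hq C₀ ?_
    refine locIso_of_nf_eq q (W.map φ) (C₀ • W'.map φ) (hG.map φ) ((hG'.map φ).smul C₀) hWφ hW'' ?_
    -- the equation b₂³ a₆'' = b₂''³ a₆
    have e2 : (C₀ • W'.map φ).b₂ = - φ W'.b₂ := by
      rw [variableChange_b₂, hb2']
      change ((1⁻¹ : (Localization.Away d)ˣ) : Localization.Away d) ^ 2 * (φ W'.b₂ + 12 * (-2 * t₀)) = _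
      simp only [inv_one, Units.val_one, one_pow, one_mul]
      linear_combination (-2 : Localization.Away d) * ht12
    have e6 : (C₀ • W'.map φ).a₆ = φ W'.a₆ + φ W'.b₂ * t₀ ^ 2 - 8 * t₀ ^ 3 := by
      rw [variableChange_a₆]
      change ((1⁻¹ : (Localization.Away d)ˣ) : Localization.Away d) ^ 6 *
        ((W'.map φ).a₆ + -2 * t₀ * (W'.map φ).a₄ + (-2 * t₀) ^ 2 * (W'.map φ).a₂ + (-2 * t₀) ^ 3
          - t₀ * (W'.map φ).a₃ - t₀ ^ 2 - -2 * t₀ * t₀ * (W'.map φ).a₁) = _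
      rw [hW'φ.1, hW'φ.2.1, hW'φ.2.2]
      have hb : φ W'.b₂ = 1 + 4 * (W'.map φ).a₂ := by rw [← hb2', hW'φ.b₂]
      simp only [inv_one, Units.val_one, one_pow, one_mul]
      change φ W'.a₆ + -2 * t₀ * 0 + (-2 * t₀) ^ 2 * (W'.map φ).a₂ + (-2 * t₀) ^ 3 - t₀ * 0 - t₀ ^ 2
        - -2 * t₀ * t₀ * 1 = _
      linear_combination (-(t₀ ^ 2)) * hb
    rw [e2, e6, map_b₂]
    change φ W.b₂ ^ 3 * (φ W'.a₆ + φ W'.b₂ * t₀ ^ 2 - 8 * t₀ ^ 3) = (-φ W'.b₂) ^ 3 * φ W.a₆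
    have hg0' : φ W.b₂ ^ 3 * φ W'.b₂ ^ 3 + 432 * (φ W'.b₂ ^ 3 * φ W.a₆ + φ W.b₂ ^ 3 * φ W'.a₆) = 0 := by
      have := hg0
      simpa only [map_add, map_mul, map_pow, map_ofNat] using this
    have h432G : (432 : Localization.Away d) *
        (φ W.b₂ ^ 3 * (φ W'.a₆ + φ W'.b₂ * t₀ ^ 2 - 8 * t₀ ^ 3) - (-φ W'.b₂) ^ 3 * φ W.a₆) = 0 := by
      linear_combination hg0' - φ W.b₂ ^ 3 * (12 * t₀ - φ W'.b₂) * (24 * t₀ + φ W'.b₂) * ht12
    exact sub_eq_zero.1 ((h432.mul_right_eq_zero).1 h432G)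
  · -- case A
    set g := W.b₂ ^ 3 * W'.b₂ ^ 3 + 432 * (W'.b₂ ^ 3 * W.a₆ + W.b₂ ^ 3 * W'.a₆) with hgdef
    obtain ⟨q, hq⟩ := exists_prime_away p g hg
    let φ : A →+* Localization.Away g := algebraMap A (Localization.Away g)
    have h0 : φ (W.b₂ ^ 3 * W'.a₆ - W'.b₂ ^ 3 * W.a₆) = 0 :=
      eq_zero_of_mul_eq_zero_away g _ key
    refine LocIso.step_left (Localization.Away g) q hq 1 ?_
    rw [one_smul]
    refine locIso_of_nf_eq q (W.map φ) (W'.map φ) (hG.map φ) (hG'.map φ) (hN.map φ) (hN'.map φ) ?_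
    rw [map_b₂, map_b₂]
    change φ W.b₂ ^ 3 * φ W'.a₆ = φ W'.b₂ ^ 3 * φ W.a₆
    have := h0
    rw [map_sub, map_mul, map_mul, map_pow, map_pow] at this
    exact sub_eq_zero.1 this

end Groth.Agent.Helper27.Ej
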