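import Mathlib
import Groth.Agent.Lib.Helper27.EjD

/-! S14292, part E: bringing a curve with `c₄` a unit to normal form étale-locally. -/

set_option autoImplicit false

universe u

namespace Groth.Agent.Helper27.Ej

open WeierstrassCurve Polynomial

variable {A : Type u} [CommRing A]

/-- Step 1: make `a₁ = 1` and `a₃ = 0` Zariski-locally. -/
theorem exists_a1_a3 (p : PrimeSpectrum A) (W : WeierstrassCurve A) (hG : Good W) :
    ∃ (B : Type u) (_ : CommRing B) (_ : Algebra A B), Algebra.Etale A B ∧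
      ∃ q : PrimeSpectrum B, PrimeSpectrum.comap (algebraMap A B) q = p ∧
      ∃ C : VariableChange B, (C • W.map (algebraMap A B)).a₁ = 1 ∧
        (C • W.map (algebraMap A B)).a₃ = 0 := by
  by_cases h2 : (2 : A) ∈ p.asIdeal
  · -- then `a₁ ∉ p`
    have ha1 : W.a₁ ∉ p.asIdeal := by
      intro hmem
      have hc4 : W.c₄ ∈ p.asIdeal := by
        have : W.c₄ = W.a₁ * (W.a₁ ^ 3 + 8 * W.a₁ * W.a₂) + 2 * (8 * W.a₂ ^ 2 - 12 * W.b₄) := by
          rw [WeierstrassCurve.c₄, WeierstrassCurve.b₂]; ring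
        rw [this]
        exact p.asIdeal.add_mem (p.asIdeal.mul_mem_right _ hmem) (p.asIdeal.mul_mem_right _ h2)
      exact p.2.ne_top (p.asIdeal.eq_top_of_isUnit_mem hc4 hG.1)
    obtain ⟨q, hq⟩ := exists_prime_away p W.a₁ ha1
    let φ : A →+* Localization.Away W.a₁ := algebraMap A (Localization.Away W.a₁)
    have hu : IsUnit (φ W.a₁) := isUnit_algebraMap_away W.a₁
    let uu : (Localization.Away W.a₁)ˣ := hu.unit
    have huu : (uu : Localization.Away W.a₁) = φ W.a₁ := rfl
    have hvu : ((uu⁻¹ : (Localization.Away W.a₁)ˣ) : Localization.Away W.a₁) * φ W.a₁ = 1 := by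
      rw [← huu]; exact uu.inv_mul
    refine ⟨Localization.Away W.a₁, inferInstance, inferInstance, inferInstance, q, hq,
      ⟨uu, -(φ W.a₃ * ((uu⁻¹ : (Localization.Away W.a₁)ˣ) : Localization.Away W.a₁)), 0, 0⟩, ?_, ?_⟩
    · rw [variableChange_a₁]
      change ((uu⁻¹ : (Localization.Away W.a₁)ˣ) : Localization.Away W.a₁) * (φ W.a₁ + 2 * 0) = 1
      rw [mul_zero, add_zero]; exact hvu
    · rw [variableChange_a₃]
      change ((uu⁻¹ : (Localization.Away W.a₁)ˣ) : Localization.Away W.a₁) ^ 3 *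
        (φ W.a₃ + -(φ W.a₃ * ((uu⁻¹ : (Localization.Away W.a₁)ˣ) : Localization.Away W.a₁)) * φ W.a₁
          + 2 * 0) = 0
      linear_combination (-(((uu⁻¹ : (Localization.Away W.a₁)ˣ) : Localization.Away W.a₁) ^ 3
        * φ W.a₃)) * hvu
  · obtain ⟨q, hq⟩ := exists_prime_away p 2 h2
    let φ : A →+* Localization.Away (2 : A) := algebraMap A (Localization.Away (2 : A))
    have hu : IsUnit (φ 2) := isUnit_algebraMap_away 2
    obtain ⟨i2, hi2⟩ := hu.exists_right_inv
    have hi2' : (2 : Localization.Away (2 : A)) * i2 = 1 := by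
      rw [← hi2, map_ofNat]
    refine ⟨Localization.Away (2 : A), inferInstance, inferInstance, inferInstance, q, hq,
      ⟨1, 0, (1 - φ W.a₁) * i2, -(φ W.a₃ * i2)⟩, ?_, ?_⟩
    · rw [variableChange_a₁]
      change ((1⁻¹ : (Localization.Away (2 : A))ˣ) : Localization.Away (2 : A)) *
        (φ W.a₁ + 2 * ((1 - φ W.a₁) * i2)) = 1
      simp only [inv_one, Units.val_one, one_mul]
      linear_combination (1 - φ W.a₁) * hi2'
    · rw [variableChange_a₃]
      change ((1⁻¹ : (Localization.Away (2 : A))ˣ) : Localization.Away (2 : A)) ^ 3 *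
        (φ W.a₃ + 0 * φ W.a₁ + 2 * -(φ W.a₃ * i2)) = 0
      simp only [inv_one, Units.val_one, one_pow, one_mul]
      linear_combination (-(φ W.a₃)) * hi2'


/-- The standard étale pair `y² - b₂ y + 6 b₄`, localized at `y`. -/
noncomputable def pairY (b2 b4 cinv : A) (hc : (b2 ^ 2 - 24 * b4) * cinv = 1) :
    StandardEtalePair A where
  f := X ^ 2 - C b2 * X + C (6 * b4)
  monic_f := by
    have : (X ^ 2 - C b2 * X + C (6 * b4) : A[X]) = X ^ 2 + (C (-b2) * X + C (6 * b4)) := by
      rw [map_neg]; ring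
    rw [this]
    nontriviality A
    apply monic_X_pow_add
    exact lt_of_le_of_lt degree_linear_le (by norm_num)
  g := X
  cond := ⟨C cinv * (2 * X - C b2), - (4 * C cinv), 0, by
    have hder : derivative (X ^ 2 - C b2 * X + C (6 * b4) : A[X]) = 2 * X - C b2 := by
      simp only [derivative_add, derivative_sub, derivative_X_pow, derivative_X, derivative_C,
        derivative_mul, add_zero, zero_mul, mul_one, zero_add]
      norm_num
      rw [← map_ofNat C 2]
    rw [hder, pow_zero]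
    calc (2 * X - C b2) * (C cinv * (2 * X - C b2)) + (X ^ 2 - C b2 * X + C (6 * b4)) * -(4 * C cinv)
        = C ((b2 ^ 2 - 24 * b4) * cinv) := by
          simp only [map_mul, map_sub, map_pow, map_ofNat]; ring
      _ = 1 := by rw [hc, map_one]⟩

theorem pairY_f (b2 b4 cinv : A) (hc : (b2 ^ 2 - 24 * b4) * cinv = 1) :
    (pairY b2 b4 cinv hc).f = X ^ 2 - C b2 * X + C (6 * b4) := rfl

theorem pairY_g (b2 b4 cinv : A) (hc : (b2 ^ 2 - 24 * b4) * cinv = 1) :
    (pairY b2 b4 cinv hc).g = X := rfl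

/-- Step 2: with `a₁ = 1` and `a₃ = 0`, make `a₄ = 0` étale-locally. -/
theorem exists_a4 (p : PrimeSpectrum A) (W : WeierstrassCurve A) (hG : Good W)
    (h1 : W.a₁ = 1) (h3 : W.a₃ = 0) :
    ∃ (B : Type u) (_ : CommRing B) (_ : Algebra A B), Algebra.Etale A B ∧
      ∃ q : PrimeSpectrum B, PrimeSpectrum.comap (algebraMap A B) q = p ∧
      ∃ C : VariableChange B, NF (C • W.map (algebraMap A B)) := by
  obtain ⟨cinv, hcinv⟩ := hG.1.exists_right_inv
  have hc : (W.b₂ ^ 2 - 24 * W.b₄) * cinv = 1 := hcinv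
  let P := pairY W.b₂ W.b₄ cinv hc
  let φ : A →+* P.Ring := algebraMap A P.Ring
  have hy : P.X ^ 2 - φ W.b₂ * P.X + φ (6 * W.b₄) = 0 := by
    have := P.hasMap_X.1
    rw [pairY_f] at this
    simpa using this
  have hyu : IsUnit P.X := by
    have := P.hasMap_X.2
    rw [pairY_g] at this
    simpa using this
  obtain ⟨v, hv⟩ := hyu.exists_right_inv
  have hb2 : φ W.b₂ = 1 + 4 * φ W.a₂ := by
    rw [WeierstrassCurve.b₂, h1]
    simp only [map_add, map_mul, map_pow, map_one, map_ofNat, one_pow]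
  have hb4 : φ (6 * W.b₄) = 12 * φ W.a₄ := by
    rw [WeierstrassCurve.b₄, h1, h3]
    simp only [map_add, map_mul, map_ofNat, map_one, map_zero]; ring
  have hq : ∃ q : PrimeSpectrum P.Ring, PrimeSpectrum.comap (algebraMap A P.Ring) q = p := by
    -- a geometric point
    have hroot : ∃ x : KK p, (x ^ 2 - toKK p W.b₂ * x + toKK p (6 * W.b₄) = 0) ∧ x ≠ 0 := by
      obtain ⟨x, hx⟩ := IsAlgClosed.exists_root
        ((X ^ 2 + C (-(toKK p W.b₂)) * X + C (toKK p (6 * W.b₄)) : (KK p)[X]))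
        (degree_quad_ne_zero _ _)
      have hx' : x ^ 2 - toKK p W.b₂ * x + toKK p (6 * W.b₄) = 0 := by
        have := hx
        simp only [Polynomial.IsRoot, eval_add, eval_mul, eval_pow, eval_X, eval_C] at this
        linear_combination this
      by_cases hx0 : x = 0
      · refine ⟨toKK p W.b₂, ?_, ?_⟩
        · rw [hx0] at hx'
          linear_combination hx'
        · intro hb
          have hc4 : toKK p W.c₄ ≠ 0 := toKK_ne_zero_of_isUnit p hG.1
          apply hc4
          rw [hx0] at hx'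
          have h6 : toKK p (6 * W.b₄) = 0 := by linear_combination hx'
          have : toKK p W.c₄ = toKK p W.b₂ ^ 2 - 4 * toKK p (6 * W.b₄) := by
            rw [WeierstrassCurve.c₄]; simp only [map_sub, map_mul, map_pow, map_ofNat]; ring
          rw [this, hb, h6]; ring
      · exact ⟨x, hx', hx0⟩
    obtain ⟨x, hx, hx0⟩ := hroot
    obtain ⟨q, hq⟩ := exists_prime_standardEtale p P x (by
      rw [pairY_f]
      simpa using hx) (by
      rw [pairY_g]; simpa using hx0)
    exact ⟨q, hq⟩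
  obtain ⟨q, hq⟩ := hq
  · set t : P.Ring := φ W.a₄ * v with ht
    refine ⟨P.Ring, inferInstance, inferInstance, inferInstance, q, hq, ⟨1, -2 * t, 0, t⟩, ?_, ?_, ?_⟩
    · rw [variableChange_a₁]
      change ((1⁻¹ : P.Ringˣ) : P.Ring) * (φ W.a₁ + 2 * 0) = 1
      rw [h1]; simp
    · rw [variableChange_a₃]
      change ((1⁻¹ : P.Ringˣ) : P.Ring) ^ 3 * (φ W.a₃ + -2 * t * φ W.a₁ + 2 * t) = 0
      rw [h1, h3]; simp
    · rw [variableChange_a₄]
      change ((1⁻¹ : P.Ringˣ) : P.Ring) ^ 4 * (φ W.a₄ - 0 * φ W.a₃ + 2 * (-2 * t) * φ W.a₂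
        - (t + -2 * t * 0) * φ W.a₁ + 3 * (-2 * t) ^ 2 - 2 * 0 * t) = 0
      rw [h1, h3, map_one, map_zero]
      simp only [inv_one, Units.val_one, one_pow, one_mul]
      rw [hb4, hb2] at hy
      rw [ht]
      linear_combination (φ W.a₄ * v ^ 2) * hy +
        (-(φ W.a₄ * (1 + v * P.X) - φ W.a₄ * v * (1 + 4 * φ W.a₂))) * hv

/-- Normal form étale-locally. -/
theorem exists_nf (p : PrimeSpectrum A) (W : WeierstrassCurve A) (hG : Good W) :
    ∃ (B : Type u) (_ : CommRing B) (_ : Algebra A B), Algebra.Etale A B ∧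
      ∃ q : PrimeSpectrum B, PrimeSpectrum.comap (algebraMap A B) q = p ∧
      ∃ C : VariableChange B, NF (C • W.map (algebraMap A B)) := by
  obtain ⟨B, _, _, hE, q, hq, C, h1, h3⟩ := exists_a1_a3 p W hG
  obtain ⟨B', _, _, hE', q', hq', C', hNF⟩ :=
    exists_a4 q (C • W.map (algebraMap A B)) ((hG.map _).smul C) h1 h3
  letI : Algebra A B' := ((algebraMap B B').comp (algebraMap A B)).toAlgebra
  haveI : IsScalarTower A B B' := IsScalarTower.of_algebraMap_eq (fun _ => rfl)
  refine ⟨B', inferInstance, inferInstance, Algebra.Etale.comp A B B', q', ?_,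
    C' * C.map (algebraMap B B'), ?_⟩
  · rw [← hq, ← hq']; rfl
  · have e1 : W.map (algebraMap A B') = (W.map (algebraMap A B)).map (algebraMap B B') := by
      rw [WeierstrassCurve.map_map]; rfl
    rw [mul_smul, e1, WeierstrassCurve.map_variableChange]
    exact hNF

end Groth.Agent.Helper27.Ej
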