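import Mathlib
import Groth.Agent.Lib.Helper27.EjE

/-! S14292, part F: main theorem. -/

set_option autoImplicit false

universe u

namespace Groth.Agent.Helper27.Ej

open WeierstrassCurve Polynomial

variable {A : Type u} [CommRing A]

theorem locIso_main (p : PrimeSpectrum A) (W W' : WeierstrassCurve A) (hG : Good W)
    (hG' : Good W') (hJ : SameJ W W') : LocIso p W W' := by
  obtain ⟨B, _, _, hE, q, hq, C, hN⟩ := exists_nf p W hG
  haveI := hE
  refine LocIso.step_left B q hq C ?_
  obtain ⟨B', _, _, hE', q', hq', C', hN'⟩ := exists_nf q (W'.map (algebraMap A B)) (hG'.map _)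
  haveI := hE'
  refine LocIso.step_right B' q' hq' C' ?_
  exact locIso_of_nf q' _ _ (((hG.map _).smul C).map _) (((hG'.map _).map _).smul C')
    ((((hJ.map (algebraMap A B)).smul_left C).map (algebraMap B B')).smul_right C')
    (hN.map _) hN'

theorem main (W₁ W₂ : WeierstrassCurve A) [W₁.IsElliptic] [W₂.IsElliptic] (hj : W₁.j = W₂.j)
    (h0 : IsUnit W₁.j) (h1728 : IsUnit (W₁.j - 1728)) (p : PrimeSpectrum A) :
    ∃ (B : Type u) (_ : CommRing B) (_ : Algebra A B), Algebra.Etale A B ∧
      p ∈ Set.range (PrimeSpectrum.comap (algebraMap A B)) ∧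
      ∃ C : WeierstrassCurve.VariableChange B,
        C • (W₁.map (algebraMap A B)) = W₂.map (algebraMap A B) :=
  locIso_main p W₁ W₂ (good_of_j h0 h1728) (good_of_j (hj ▸ h0) (hj ▸ h1728)) (sameJ_of_j hj)

end Groth.Agent.Helper27.Ej
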