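import Mathlib

/-!
# Spreading out a retraction from the local ring at a prime to a basic open neighbourhood
(helper27; used for S16583)
-/

namespace Groth.Agent.Helper27.Es

open scoped Classical

/-- Let `B` be a finitely presented `A`-algebra, `p` a prime of `A`, `L` the localization of `A`
at `p`, and `τ : B → L` an `A`-algebra retraction. Then `τ` spreads out to an `A`-algebra map
`σ : B → A_g` for some `g ∉ p`. -/
theorem spread {A B L : Type*} [CommRing A] [CommRing B] [CommRing L] [Algebra A B] [Algebra A L]
    [Algebra.FinitePresentation A B] (p : Ideal A) [p.IsPrime] [IsLocalization.AtPrime L p]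
    (τ : B →+* L) (hτ : τ.comp (algebraMap A B) = algebraMap A L) :
    ∃ (g : A) (hg : IsUnit (algebraMap A L g)) (σ : B →+* Localization.Away g), g ∉ p ∧
      σ.comp (algebraMap A B) = algebraMap A (Localization.Away g) ∧
      (IsLocalization.Away.lift g hg).comp σ = τ := by
  obtain ⟨n, f, hf, hfg⟩ := Algebra.FinitePresentation.out (R := A) (A := B)
  obtain ⟨S, hS⟩ := hfg
  have h1 : ∀ i : Fin n, ∃ (a : A) (s : p.primeCompl),
      τ (f (MvPolynomial.X i)) * algebraMap A L s = algebraMap A L a := by
    intro i
    obtain ⟨⟨a, s⟩, h⟩ := IsLocalization.surj p.primeCompl (τ (f (MvPolynomial.X i)))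
    exact ⟨a, s, h⟩
  choose a s has using h1
  set s0 : A := ∏ i, (s i : A) with hs0def
  have hs0 : s0 ∈ p.primeCompl := by
    rw [hs0def]
    exact Submonoid.prod_mem _ (fun i _ => (s i).2)
  have hs0L : IsUnit (algebraMap A L s0) := IsLocalization.map_units L ⟨s0, hs0⟩
  have hu : ∀ i, IsUnit (algebraMap A (Localization.Away s0) (s i)) := fun i =>
    IsLocalization.Away.isUnit_of_dvd s0 (Finset.dvd_prod_of_mem _ (Finset.mem_univ i))
  let t : Fin n → Localization.Away s0 := fun i =>
    algebraMap A (Localization.Away s0) (a i) * ↑(hu i).unit⁻¹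
  let ψ₀ : MvPolynomial (Fin n) A →+* Localization.Away s0 :=
    MvPolynomial.eval₂Hom (algebraMap A (Localization.Away s0)) t
  let ιs : Localization.Away s0 →+* L := IsLocalization.Away.lift s0 hs0L
  have hιs : ∀ x : A, ιs (algebraMap A (Localization.Away s0) x) = algebraMap A L x := fun x =>
    IsLocalization.Away.lift_eq s0 hs0L x
  have hcomm : ιs.comp ψ₀ = τ.comp f.toRingHom := by
    apply MvPolynomial.ringHom_ext
    · intro x
      have : f (MvPolynomial.C x) = algebraMap A B x := by
        rw [← MvPolynomial.algebraMap_eq, AlgHom.commutes]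
      simp only [RingHom.comp_apply, ψ₀, MvPolynomial.coe_eval₂Hom, MvPolynomial.eval₂_C,
        AlgHom.toRingHom_eq_coe, RingHom.coe_coe, this]
      rw [hιs]
      exact (RingHom.congr_fun hτ x).symm
    · intro i
      simp only [RingHom.comp_apply, ψ₀, MvPolynomial.coe_eval₂Hom, MvPolynomial.eval₂_X,
        AlgHom.toRingHom_eq_coe, RingHom.coe_coe]
      have hunit : IsUnit (algebraMap A L (s i)) := IsLocalization.map_units L (s i)
      apply hunit.mul_right_cancel
      rw [has i, ← hιs (s i), ← map_mul]
      have : t i * algebraMap A (Localization.Away s0) (s i) =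
          algebraMap A (Localization.Away s0) (a i) := by
        simp only [t]
        rw [mul_assoc, IsUnit.val_inv_mul, mul_one]
      rw [this, hιs]
  -- kill the relations
  have h2 : ∀ r : MvPolynomial (Fin n) A, ∃ u : p.primeCompl,
      r ∈ S → algebraMap A (Localization.Away s0) u * ψ₀ r = 0 := by
    intro r
    by_cases hr : r ∈ S
    · have hfr : f r = 0 := by
        have : r ∈ RingHom.ker f.toRingHom := by
          rw [← hS]; exact Ideal.subset_span hr
        simpa using this
      have h0 : ιs (ψ₀ r) = 0 := by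
        have := RingHom.congr_fun hcomm r
        simp only [RingHom.comp_apply, AlgHom.toRingHom_eq_coe, RingHom.coe_coe] at this
        rw [this, hfr, map_zero]
      obtain ⟨k, b, hb⟩ := IsLocalization.Away.surj s0 (ψ₀ r)
      have hb0 : algebraMap A L b = 0 := by
        rw [← hιs, ← hb, map_mul, h0, zero_mul]
      obtain ⟨u, hu0⟩ := (IsLocalization.map_eq_zero_iff p.primeCompl L b).mp hb0
      refine ⟨u, fun _ => ?_⟩
      have hunit : IsUnit (algebraMap A (Localization.Away s0) s0 ^ k) :=
        IsLocalization.Away.algebraMap_pow_isUnit s0 k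
      apply hunit.mul_left_cancel
      rw [mul_zero, mul_comm, mul_assoc, hb, ← map_mul, hu0, map_zero]
    · exact ⟨1, fun h => absurd h hr⟩
  choose u hu0 using h2
  set g : A := s0 * ∏ r ∈ S, (u r : A) with hgdef
  have hgmem : g ∈ p.primeCompl := by
    rw [hgdef]
    exact Submonoid.mul_mem _ hs0 (Submonoid.prod_mem _ (fun r _ => (u r).2))
  have hgL : IsUnit (algebraMap A L g) := IsLocalization.map_units L ⟨g, hgmem⟩
  have hs0g : IsUnit (algebraMap A (Localization.Away g) s0) :=
    IsLocalization.Away.isUnit_of_dvd g (Dvd.intro _ rfl)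
  let κ : Localization.Away s0 →+* Localization.Away g := IsLocalization.Away.lift s0 hs0g
  have hκ : ∀ x : A, κ (algebraMap A (Localization.Away s0) x) =
      algebraMap A (Localization.Away g) x := fun x => IsLocalization.Away.lift_eq s0 hs0g x
  let ψ : MvPolynomial (Fin n) A →+* Localization.Away g := κ.comp ψ₀
  have hker : RingHom.ker f.toRingHom ≤ RingHom.ker ψ := by
    rw [← hS, Ideal.span_le]
    intro r hr
    have hr' : r ∈ S := hr
    have hug : IsUnit (algebraMap A (Localization.Away g) (u r)) :=
      IsLocalization.Away.isUnit_of_dvd g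
        (Dvd.dvd.mul_left (Finset.dvd_prod_of_mem _ hr') _)
    show ψ r = 0
    apply hug.mul_left_cancel
    rw [mul_zero]
    show algebraMap A (Localization.Away g) (u r) * κ (ψ₀ r) = 0
    rw [← hκ, ← map_mul, hu0 r hr', map_zero]
  let σ : B →+* Localization.Away g := f.toRingHom.liftOfSurjective hf ⟨ψ, hker⟩
  have hσ : ∀ x, σ (f x) = ψ x := fun x =>
    RingHom.liftOfSurjective_comp_apply f.toRingHom hf ⟨ψ, hker⟩ x
  have hικ : (IsLocalization.Away.lift g hgL).comp κ = ιs := by
    apply IsLocalization.ringHom_ext (Submonoid.powers s0)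
    ext x
    simp only [RingHom.comp_apply]
    rw [hκ, IsLocalization.Away.lift_eq, hιs]
  refine ⟨g, hgL, σ, hgmem, ?_, ?_⟩
  · ext x
    have : algebraMap A B x = f (MvPolynomial.C x) := by
      rw [← MvPolynomial.algebraMap_eq, AlgHom.commutes]
    rw [RingHom.comp_apply, this, hσ]
    show κ (ψ₀ (MvPolynomial.C x)) = _
    simp only [ψ₀, MvPolynomial.coe_eval₂Hom, MvPolynomial.eval₂_C]
    rw [hκ]
  · ext b
    obtain ⟨x, rfl⟩ := hf b
    rw [RingHom.comp_apply, hσ]
    show (IsLocalization.Away.lift g hgL) (κ (ψ₀ x)) = _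
    have h1 := RingHom.congr_fun hικ (ψ₀ x)
    rw [RingHom.comp_apply] at h1
    rw [h1]
    have h2 := RingHom.congr_fun hcomm x
    simpa using h2

end Groth.Agent.Helper27.Es
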