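import Mathlib
import Groth.Agent.Lib.Helper27.EsA

/-!
# Etale algebra over a ring whose localization at `p` is a field with algebraically closed
residue field: retraction to the local ring (helper27; used for S16583)
-/

namespace Groth.Agent.Helper27.Es

theorem tauLoc {A B : Type*} [CommRing A] [CommRing B] [Algebra A B] [Algebra.Etale A B]
    (p : Ideal A) [p.IsPrime] (q : Ideal B) [q.IsPrime] [q.LiesOver p]
    (hF : IsField (Localization.AtPrime p)) (hAC : IsAlgClosed p.ResidueField) :
    ∃ τ : B →+* Localization.AtPrime p,
      τ.comp (algebraMap A B) = algebraMap A (Localization.AtPrime p) ∧ RingHom.ker τ = q := by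
  letI := Localization.AtPrime.algebraOfLiesOver p q
  haveI : Algebra.FormallyUnramified B (Localization.AtPrime q) :=
    Algebra.FormallyUnramified.of_isLocalization q.primeCompl
  haveI : Algebra.IsUnramifiedAt A q := Algebra.FormallyUnramified.comp A B _
  haveI : Module.Finite p.ResidueField q.ResidueField := inferInstance
  haveI : Algebra.IsIntegral p.ResidueField q.ResidueField := inferInstance
  have hbij : Function.Bijective (algebraMap p.ResidueField q.ResidueField) :=
    IsAlgClosed.algebraMap_bijective_of_isIntegral
  have hres : Function.Bijective (algebraMap (Localization.AtPrime p) p.ResidueField) := by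
    constructor
    · rw [injective_iff_map_eq_zero]
      intro x hx
      rw [IsLocalRing.ResidueField.algebraMap_eq, IsLocalRing.residue_eq_zero_iff] at hx
      have := (IsLocalRing.isField_iff_maximalIdeal_eq.mp hF)
      rw [this] at hx
      simpa using hx
    · exact IsLocalRing.residue_surjective
  let e1 : Localization.AtPrime p ≃+* p.ResidueField := RingEquiv.ofBijective _ hres
  let e2 : p.ResidueField ≃+* q.ResidueField := RingEquiv.ofBijective _ hbij
  refine ⟨(e1.symm.toRingHom.comp e2.symm.toRingHom).comp (algebraMap B q.ResidueField), ?_, ?_⟩
  · ext a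
    simp only [RingHom.comp_apply, RingEquiv.toRingHom_eq_coe, RingHom.coe_coe]
    rw [RingEquiv.symm_apply_eq, RingEquiv.symm_apply_eq]
    simp only [e1, e2, RingEquiv.ofBijective_apply]
    rw [← IsScalarTower.algebraMap_apply, ← IsScalarTower.algebraMap_apply,
      ← IsScalarTower.algebraMap_apply]
  · ext b
    simp only [RingHom.mem_ker, RingHom.comp_apply, RingEquiv.toRingHom_eq_coe, RingHom.coe_coe]
    rw [map_eq_zero_iff _ e1.symm.injective, map_eq_zero_iff _ e2.symm.injective]
    exact Ideal.algebraMap_residueField_eq_zero

end Groth.Agent.Helper27.Es
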