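import Mathlib
import Groth.Agent.Lib.Helper27.EsB

/-!
# Local sections of étale algebras at primes with field local ring and algebraically closed
residue field (helper27; used for S16583)
-/

universe u

namespace Groth.Agent.Helper27.Es

theorem exists_section_alg {A B : Type u} [CommRing A] [CommRing B] [Algebra A B]
    [Algebra.Etale A B]
    (p : Ideal A) [p.IsPrime] (q : Ideal B) [q.IsPrime] [q.LiesOver p]
    (hF : IsField (Localization.AtPrime p)) (hAC : IsAlgClosed p.ResidueField) :
    ∃ (g : A), g ∉ p ∧ ∀ (Ag : Type u) [CommRing Ag] [Algebra A Ag] [IsLocalization.Away g Ag],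
      ∃ (σ : B →+* Ag) (P : Ideal Ag), P.IsPrime ∧
        σ.comp (algebraMap A B) = algebraMap A Ag ∧ P.comap σ = q := by
  obtain ⟨τ, hτ, hker⟩ := tauLoc p q hF hAC
  obtain ⟨g, hg, σ, hgp, hσ, hστ⟩ := spread p τ hτ
  haveI : IsDomain (Localization.AtPrime p) := hF.isDomain
  refine ⟨g, hgp, ?_⟩
  intro Ag _ _ _
  let e : Localization.Away g ≃ₐ[A] Ag := IsLocalization.algEquiv (Submonoid.powers g) _ _
  refine ⟨(e : Localization.Away g →+* Ag).comp σ,
    (RingHom.ker (IsLocalization.Away.lift g hg)).comap (e.symm : Ag →+* Localization.Away g),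
    ?_, ?_, ?_⟩
  · haveI : (RingHom.ker (IsLocalization.Away.lift (S := Localization.Away g) g hg)).IsPrime :=
      RingHom.ker_isPrime _
    exact Ideal.comap_isPrime _ _
  · ext a
    simp only [RingHom.comp_apply]
    rw [← RingHom.comp_apply σ, hσ]
    simp
  · rw [Ideal.comap_comap]
    have : (e.symm : Ag →+* Localization.Away g).comp
        ((e : Localization.Away g →+* Ag).comp σ) = σ := by
      ext b
      simp
    rw [this, RingHom.comap_ker, hστ, hker]

end Groth.Agent.Helper27.Es
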