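import Mathlib
import Groth.Agent.Lib.Helper27.EsC

/-!
# Étale maps to schemes whose local rings are fields with algebraically closed residue fields are
Zariski-locally trivial (helper27; S16583)
-/

universe u

open AlgebraicGeometry CategoryTheory Opposite TopologicalSpace

namespace Groth.Agent.Helper27.Es

theorem main (X Y : Scheme.{u}) (hX : ∀ x : X, IsField (X.presheaf.stalk x))
    (hX' : ∀ x : X, IsAlgClosed (X.residueField x))
    (f : Y ⟶ X) [Etale f] (y : Y) :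
    ∃ (V : X.Opens) (s : (V : Scheme.{u}) ⟶ Y), f.base y ∈ V ∧ s ≫ f = V.ι ∧
      y ∈ Set.range s.base := by
  obtain ⟨_, ⟨U, hU, rfl⟩, hxU, -⟩ :=
    X.isBasis_affineOpens.exists_subset_of_mem_open (Set.mem_univ (f.base y)) isOpen_univ
  have hyU : y ∈ f ⁻¹ᵁ U := hxU
  obtain ⟨_, ⟨V, hV, rfl⟩, hyV, hVU⟩ :=
    Y.isBasis_affineOpens.exists_subset_of_mem_open hyU (f ⁻¹ᵁ U).2
  have hVU' : V ≤ f ⁻¹ᵁ U := hVU
  let φ := f.appLE U V hVU'
  have hφ : φ.hom.Etale :=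
    HasRingHomProperty.appLE (P := @Etale) f inferInstance ⟨U, hU⟩ ⟨V, hV⟩ hVU'
  letI : Algebra Γ(X, U) Γ(Y, V) := φ.hom.toAlgebra
  haveI : Algebra.Etale Γ(X, U) Γ(Y, V) := hφ
  let p := hU.primeIdealOf ⟨f.base y, hxU⟩
  let q := hV.primeIdealOf ⟨y, hyV⟩
  have hpq : q.comap φ.hom = p := IsAffineOpen.comap_primeIdealOf_appLE U hU V hV hVU' hyV
  haveI : q.asIdeal.LiesOver p.asIdeal := ⟨by
    rw [← hpq]; rfl⟩
  letI := X.presheaf.algebra_section_stalk ⟨f.base y, hxU⟩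
  haveI := hU.isLocalization_stalk ⟨f.base y, hxU⟩
  let e : Localization.AtPrime p.asIdeal ≃ₐ[Γ(X, U)] X.presheaf.stalk (f.base y) :=
    IsLocalization.algEquiv p.asIdeal.primeCompl _ _
  have hF : IsField (Localization.AtPrime p.asIdeal) := e.toMulEquiv.isField (hX _)
  have hAC : IsAlgClosed p.asIdeal.ResidueField := by
    haveI := hX' (f.base y)
    exact IsAlgClosed.of_ringEquiv (X.residueField (f.base y)) _
      (IsLocalRing.ResidueField.mapEquiv e.toRingEquiv).symm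
  obtain ⟨g, hgp, H⟩ := exists_section_alg p.asIdeal q.asIdeal hF hAC
  have hW : IsAffineOpen (X.basicOpen g) := hU.basicOpen g
  haveI := hU.isLocalization_basicOpen g
  obtain ⟨σ, P, hP, hσ, hPq⟩ := H Γ(X, X.basicOpen g)
  let s : ((X.basicOpen g : X.Opens) : Scheme.{u}) ⟶ Y :=
    hW.isoSpec.hom ≫ Spec.map (CommRingCat.ofHom σ) ≫ hV.fromSpec
  refine ⟨X.basicOpen g, s, ?_, ?_, ?_⟩
  · have h1 : hU.fromSpec.base p = f.base y := hU.fromSpec_primeIdealOf ⟨f.base y, hxU⟩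
    have h2 : p ∈ hU.fromSpec ⁻¹ᵁ X.basicOpen g := by
      rw [hU.fromSpec_preimage_basicOpen]
      exact hgp
    rw [← h1]
    exact h2
  · have h1 : φ ≫ CommRingCat.ofHom σ =
        X.presheaf.map (homOfLE (X.basicOpen_le g)).op := by
      ext a
      exact RingHom.congr_fun hσ a
    simp only [s, Category.assoc]
    rw [← hU.SpecMap_appLE_fromSpec f hV hVU', ← Spec.map_comp_assoc]
    show hW.isoSpec.hom ≫ Spec.map (φ ≫ CommRingCat.ofHom σ) ≫ hU.fromSpec = _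
    rw [h1, hU.map_fromSpec hW, hW.isoSpec_hom_fromSpec]
  · refine ⟨hW.isoSpec.inv.base ⟨P, hP⟩, ?_⟩
    have h1 : hW.isoSpec.inv ≫ s = Spec.map (CommRingCat.ofHom σ) ≫ hV.fromSpec := by
      simp only [s, Iso.inv_hom_id_assoc]
    have h2 : s.base (hW.isoSpec.inv.base ⟨P, hP⟩) = (hW.isoSpec.inv ≫ s).base ⟨P, hP⟩ := by
      simp
    rw [h2, h1]
    have h3 : (Spec.map (CommRingCat.ofHom σ)).base ⟨P, hP⟩ = q := by
      apply PrimeSpectrum.ext
      exact hPq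
    have h4 : (Spec.map (CommRingCat.ofHom σ) ≫ hV.fromSpec).base ⟨P, hP⟩ =
        hV.fromSpec.base ((Spec.map (CommRingCat.ofHom σ)).base ⟨P, hP⟩) := by
      simp
    rw [h4, h3]
    exact hV.fromSpec_primeIdealOf ⟨y, hyV⟩

end Groth.Agent.Helper27.Es
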