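import Mathlib
import Groth.Prelude.Def_W4c5stcicurvesp3Euclid

set_option autoImplicit false

namespace Groth.Agent.Helper27

open W4c5stcicurvesp3

theorem irem_zero (a b : ℕ) : irem a b 0 = b := rfl
theorem irem_one (a b : ℕ) : irem a b 1 = a % b := rfl
theorem irem_succ_succ (a b n : ℕ) :
    irem a b (n + 2) = if irem a b (n + 1) = 0 then 0 else irem a b n % irem a b (n + 1) := rfl
theorem idiv_zero (a b : ℕ) : idiv a b 0 = 0 := rfl
theorem idiv_one (a b : ℕ) : idiv a b 1 = a / b := rfl
theorem idiv_succ_succ (a b n : ℕ) :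
    idiv a b (n + 2) = if irem a b (n + 1) = 0 then 0 else irem a b n / irem a b (n + 1) := rfl

/-- shift lemma for remainders -/
theorem irem_shift (a b : ℕ) (h : a % b ≠ 0) : ∀ n, irem a b (n + 1) = irem b (a % b) n := by
  have key : ∀ n, irem a b (n + 1) = irem b (a % b) n ∧ irem a b (n + 2) = irem b (a % b) (n + 1) := by
    intro n
    induction n with
    | zero =>
      refine ⟨rfl, ?_⟩
      rw [irem_succ_succ, irem_one, irem_zero, irem_one, if_neg h]
    | succ n ih =>
      refine ⟨ih.2, ?_⟩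
      rw [irem_succ_succ, ih.1, ih.2, ← irem_succ_succ]
  exact fun n => (key n).1

theorem idiv_shift (a b : ℕ) (h : a % b ≠ 0) : ∀ n, idiv a b (n + 2) = idiv b (a % b) (n + 1) := by
  intro n
  rcases n with _ | n
  · rw [idiv_succ_succ, irem_one, irem_zero, idiv_one, if_neg h]
  · rw [idiv_succ_succ, idiv_succ_succ, irem_shift a b h, irem_shift a b h]

theorem irem_succ_le (a b : ℕ) (hb : 0 < b) : ∀ n, irem a b (n + 1) ≤ irem a b n := by
  intro n
  rcases n with _ | n
  · rw [irem_one, irem_zero]; exact (Nat.mod_lt _ hb).le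
  · rw [irem_succ_succ]
    split_ifs with h0
    · exact Nat.zero_le _
    · exact (Nat.mod_lt _ (Nat.pos_of_ne_zero h0)).le

theorem irem_succ_lt (a b : ℕ) (hb : 0 < b) (n : ℕ) (hn : irem a b n ≠ 0) :
    irem a b (n + 1) < irem a b n := by
  rcases n with _ | n
  · rw [irem_one, irem_zero]; exact Nat.mod_lt _ hb
  · rw [irem_succ_succ, if_neg hn]
    exact Nat.mod_lt _ (Nat.pos_of_ne_zero hn)

theorem sum_idiv_mul_gcd_le : ∀ (t k N : ℕ) (hk : 0 < k) (hkN : k ≤ N) (ht : 0 < t)
    (hzero : irem N k t = 0) (hmin : ∀ i, 0 < i → i < t → irem N k i ≠ 0),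
    (∑ i ∈ Finset.Icc 1 t, idiv N k i) * Nat.gcd k N ≤ N := by
  intro t
  induction t with
  | zero => intro k N hk hkN ht; omega
  | succ t ih =>
    intro k N hk hkN _ hzero hmin
    rcases t with _ | t
    · -- t = 1
      simp only [zero_add, Finset.Icc_self, Finset.sum_singleton, idiv_one]
      rw [irem_one] at hzero
      have hdvd : k ∣ N := Nat.dvd_of_mod_eq_zero hzero
      rw [Nat.gcd_eq_left hdvd, Nat.div_mul_cancel hdvd]
    · -- t + 2
      have hr : N % k ≠ 0 := by
        have := hmin 1 (by omega) (by omega)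
        rwa [irem_one] at this
      set r := N % k with hr_def
      have hrpos : 0 < r := Nat.pos_of_ne_zero hr
      have hrk : r < k := Nat.mod_lt _ hk
      have hz' : irem k r (t + 1) = 0 := by
        rw [← irem_shift N k hr]; exact hzero
      have hmin' : ∀ i, 0 < i → i < t + 1 → irem k r i ≠ 0 := by
        intro i hi hit
        rw [← irem_shift N k hr]
        exact hmin (i + 1) (by omega) (by omega)
      have IH := ih r k hrpos hrk.le (by omega) hz' hmin'
      -- split the sum
      have hsum : ∑ i ∈ Finset.Icc 1 (t + 1 + 1), idiv N k i = N / k + ∑ i ∈ Finset.Icc 1 (t + 1), idiv k r i := by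
        rw [← Finset.sum_Ioc_add_eq_sum_Icc (by omega : 1 ≤ t + 1 + 1), idiv_one, add_comm]
        congr 1
        have : Finset.Ioc 1 (t + 1 + 1) = (Finset.Icc 1 (t + 1)).image (· + 1) := by
          ext x
          simp only [Finset.mem_Ioc, Finset.mem_image, Finset.mem_Icc]
          constructor
          · intro ⟨h1, h2⟩
            exact ⟨x - 1, ⟨by omega, by omega⟩, by omega⟩
          · rintro ⟨y, ⟨h1, h2⟩, rfl⟩
            omega
        rw [this, Finset.sum_image (by intro x _ y _ h; simpa using h)]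
        apply Finset.sum_congr rfl
        intro i hi
        have hi1 : 1 ≤ i := (Finset.mem_Icc.mp hi).1
        obtain ⟨j, rfl⟩ : ∃ j, i = j + 1 := ⟨i - 1, by omega⟩
        exact idiv_shift N k hr j
      rw [hsum]
      have hgcd : Nat.gcd k N = Nat.gcd r k := by rw [Nat.gcd_rec k N]
      rw [hgcd]
      set g := Nat.gcd r k with hg
      set S := ∑ i ∈ Finset.Icc 1 (t + 1), idiv k r i with hS
      have hgr : g ≤ r := Nat.le_of_dvd hrpos (Nat.gcd_dvd_left r k)
      have hq : 1 ≤ N / k := Nat.div_pos hkN hk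
      have hN : N = k * (N / k) + r := (Nat.div_add_mod N k).symm
      set q := N / k with hq_def
      -- (q + S) g ≤ q g + k ≤ q k + r = N
      have h1 : (q + S) * g = q * g + S * g := by ring
      rw [h1, hN]
      obtain ⟨d', hd'⟩ : ∃ d', r = g + d' := ⟨r - g, by omega⟩
      obtain ⟨d, hd⟩ : ∃ d, k = r + 1 + d := ⟨k - r - 1, by omega⟩
      have : q * g + k ≤ k * q + r := by
        rw [hd, hd']
        have : (g + d' + 1 + d) * q = q * g + (d' + 1 + d) * q := by ring
        rw [this]
        have : (d' + 1 + d) ≤ (d' + 1 + d) * q := Nat.le_mul_of_pos_right _ hq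
        omega
      omega

theorem ineq51 (A B x y k N : ℚ) (hA : 2 ≤ A) (hB : B = 1 ∨ 2 ≤ B) (hy : 0 ≤ y) (hxy : y < x)
    (hk : k = B * x + y) (hN : N = A * k + x) :
    (k - x) / A + (x - y) / (A + B) + y / (A + B + 1) ≤ k ^ 2 / N := by
  have hx : 0 < x := lt_of_le_of_lt hy hxy
  have hB0 : 0 < B := by rcases hB with h | h <;> linarith
  have hk0 : 0 < k := by rw [hk]; positivity
  have hN0 : 0 < N := by rw [hN]; positivity
  have hA0 : 0 < A := by linarith
  rw [← sub_nonneg]
  have hid : k ^ 2 / N - ((k - x) / A + (x - y) / (A + B) + y / (A + B + 1)) =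
      (x * ((A * B - A - B) * k + B * x) * (A + B + 1) + y * A * N) / (A * N * (A + B) * (A + B + 1)) := by
    have : A + B ≠ 0 := by positivity
    have : A + B + 1 ≠ 0 := by positivity
    field_simp
    rw [hN]
    ring
  rw [hid]
  apply div_nonneg _ (by positivity)
  rcases hB with h | h
  · subst h
    rw [hN, hk]
    have : x * ((A * 1 - A - 1) * (1 * x + y) + 1 * x) * (A + 1 + 1) + y * A * (A * (1 * x + y) + x) =
        y * (A ^ 2 * x + A ^ 2 * y - 2 * x) := by ring
    rw [this]
    apply mul_nonneg hy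
    nlinarith
  · have h1 : 0 ≤ A * B - A - B := by nlinarith
    positivity

/-- basic facts on the first two steps -/
theorem euclid_facts (k N : ℕ) (hk : 0 < k) (hkN : 2 * k ≤ N) (h1 : irem N k 1 ≠ 0) :
    2 ≤ idiv N k 1 ∧ 1 ≤ idiv N k 2 ∧ N = idiv N k 1 * k + irem N k 1 ∧
      k = idiv N k 2 * irem N k 1 + irem N k 2 ∧ irem N k 2 < irem N k 1 ∧ irem N k 1 < k := by
  rw [irem_one] at h1
  have hr1pos : 0 < N % k := Nat.pos_of_ne_zero h1
  have hr1k : N % k < k := Nat.mod_lt _ hk
  refine ⟨?_, ?_, ?_, ?_, ?_, ?_⟩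
  · rw [idiv_one]; exact (Nat.le_div_iff_mul_le hk).mpr hkN
  · rw [idiv_succ_succ, irem_one, irem_zero, if_neg h1]
    exact Nat.div_pos hr1k.le hr1pos
  · rw [idiv_one, irem_one, mul_comm]; exact (Nat.div_add_mod N k).symm
  · rw [idiv_succ_succ, irem_succ_succ, irem_one, irem_zero, if_neg h1, if_neg h1, mul_comm]
    exact (Nat.div_add_mod k (N % k)).symm
  · rw [irem_succ_succ, irem_one, irem_zero, if_neg h1]
    exact Nat.mod_lt _ hr1pos
  · rw [irem_one]; exact hr1k

theorem euclid_three_step (k N : ℕ) (hk : 0 < k) (hkN : 2 * k ≤ N)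
    (h1 : irem N k 1 ≠ 0) (h2 : irem N k 2 ≠ 0) :
    ((irem N k 0 : ℚ) - irem N k 1) / (idiv N k 1)
      + ((irem N k 1 : ℚ) - irem N k 2) / ((idiv N k 1 : ℚ) + idiv N k 2)
      + (irem N k 2 : ℚ) / ((idiv N k 1 : ℚ) + idiv N k 2 + 1)
      ≤ (k : ℚ) ^ 2 / N := by
  obtain ⟨hd1, hd2, hN, hk', hr21, hr1k⟩ := euclid_facts k N hk hkN h1
  rw [irem_zero]
  apply ineq51 (idiv N k 1) (idiv N k 2) (irem N k 1) (irem N k 2) k N
  · exact_mod_cast hd1
  · rcases (show idiv N k 2 = 1 ∨ 2 ≤ idiv N k 2 by omega) with h | h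
    · left; exact_mod_cast h
    · right; exact_mod_cast h
  · positivity
  · exact_mod_cast hr21
  · exact_mod_cast hk'
  · exact_mod_cast hN

theorem euclid_telescoping (k N t : ℕ) (hk : 0 < k) (hkN : 2 * k ≤ N) (ht : 0 < t)
    (hzero : irem N k t = 0) (hmin : ∀ i, 0 < i → i < t → irem N k i ≠ 0) :
    ∑ i ∈ Finset.range t, ((irem N k i : ℚ) - irem N k (i + 1)) / (∑ j ∈ Finset.Icc 1 (i + 1), (idiv N k j : ℚ))
      ≤ (k : ℚ) ^ 2 / N := by
  have hkQ : (0 : ℚ) < k := by exact_mod_cast hk
  have hNpos : 0 < N := by omega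
  have hNQ : (0 : ℚ) < N := by exact_mod_cast hNpos
  rcases t with _ | _ | _ | t
  · omega
  · -- t = 1
    simp only [zero_add, Finset.range_one, Finset.sum_singleton, Finset.Icc_self, hzero, irem_zero, idiv_one]
    rw [irem_one] at hzero
    have hdvd : k ∣ N := Nat.dvd_of_mod_eq_zero hzero
    obtain ⟨q, hq⟩ := hdvd
    have hqpos : 0 < q := by
      rcases Nat.eq_zero_or_pos q with h | h
      · subst h; omega
      · exact h
    have : N / k = q := by rw [hq, Nat.mul_div_cancel_left _ hk]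
    rw [this, hq]
    have hqQ : (0 : ℚ) < q := by exact_mod_cast hqpos
    push_cast
    rw [sub_zero, div_le_div_iff₀ hqQ (by positivity)]
    ring_nf
    exact le_refl _
  · -- t = 2
    have h1 : irem N k 1 ≠ 0 := hmin 1 (by omega) (by omega)
    obtain ⟨hd1, hd2, hN, hk', hr21, hr1k⟩ := euclid_facts k N hk hkN h1
    have hI2 : Finset.Icc 1 2 = {1, 2} := by decide
    simp only [zero_add, Finset.sum_range_succ, Finset.range_one, Finset.sum_singleton, Finset.Icc_self, 
      hI2, Finset.sum_insert (show (1:ℕ) ∉ ({2} : Finset ℕ) by decide), irem_zero]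
    have hz : irem N k (1 + 1) = 0 := hzero
    rw [hz]
    have := ineq51 (idiv N k 1) (idiv N k 2) (irem N k 1) (irem N k 2) k N (by exact_mod_cast hd1)
      (by rcases (show idiv N k 2 = 1 ∨ 2 ≤ idiv N k 2 by omega) with h | h
          · left; exact_mod_cast h
          · right; exact_mod_cast h) (by positivity) (by exact_mod_cast hr21) (by exact_mod_cast hk')
      (by exact_mod_cast hN)
    rw [show irem N k 2 = 0 from hzero] at this
    simpa using this
  · -- t + 3
    have h1 : irem N k 1 ≠ 0 := hmin 1 (by omega) (by omega)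
    have h2 : irem N k 2 ≠ 0 := hmin 2 (by omega) (by omega)
    obtain ⟨hd1, hd2, hN, hk', hr21, hr1k⟩ := euclid_facts k N hk hkN h1
    have hd3 : 1 ≤ idiv N k 3 := by
      rw [show (3:ℕ) = 1 + 2 from rfl, idiv_succ_succ, if_neg h2]
      exact Nat.div_pos hr21.le (Nat.pos_of_ne_zero h2)
    rw [Finset.sum_range_succ', Finset.sum_range_succ']
    have hI2 : Finset.Icc 1 2 = {1, 2} := by decide
    simp only [zero_add, Finset.Icc_self, Finset.sum_singleton, irem_zero]
    have hI2' : ∑ j ∈ Finset.Icc 1 (1 + 1), (idiv N k j : ℚ) = idiv N k 1 + idiv N k 2 := by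
      rw [show (1:ℕ) + 1 = 2 from rfl, hI2, Finset.sum_insert (by decide), Finset.sum_singleton]
    rw [hI2']
    -- bound the tail
    set E : ℚ := (idiv N k 1 : ℚ) + idiv N k 2 + 1 with hE
    have hEpos : 0 < E := by positivity
    have htail : ∑ i ∈ Finset.range (t + 1), ((irem N k (i + 1 + 1) : ℚ) - irem N k (i + 1 + 1 + 1)) /
          (∑ j ∈ Finset.Icc 1 (i + 1 + 1 + 1), (idiv N k j : ℚ)) ≤ (irem N k 2 : ℚ) / E := by
      have hterm : ∀ i ∈ Finset.range (t + 1), ((irem N k (i + 1 + 1) : ℚ) - irem N k (i + 1 + 1 + 1)) /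
          (∑ j ∈ Finset.Icc 1 (i + 1 + 1 + 1), (idiv N k j : ℚ)) ≤ 
          ((irem N k (i + 2) : ℚ) - irem N k (i + 2 + 1)) / E := by
        intro i _
        have hnum : (0 : ℚ) ≤ (irem N k (i + 2) : ℚ) - irem N k (i + 2 + 1) := by
          rw [sub_nonneg]; exact_mod_cast irem_succ_le N k hk (i + 2)
        have hden : E ≤ ∑ j ∈ Finset.Icc 1 (i + 1 + 1 + 1), (idiv N k j : ℚ) := by
          have hsub : Finset.Icc 1 3 ⊆ Finset.Icc 1 (i + 1 + 1 + 1) := by
            apply Finset.Icc_subset_Icc le_rfl; omega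
          have h3 : ∑ j ∈ Finset.Icc 1 3, (idiv N k j : ℚ) = idiv N k 1 + idiv N k 2 + idiv N k 3 := by
            have : Finset.Icc 1 3 = {1, 2, 3} := by decide
            rw [this, Finset.sum_insert (by decide), Finset.sum_insert (by decide), Finset.sum_singleton]
            ring
          calc E ≤ (idiv N k 1 : ℚ) + idiv N k 2 + idiv N k 3 := by
                rw [hE]; have : (1 : ℚ) ≤ idiv N k 3 := by exact_mod_cast hd3
                linarith
            _ = ∑ j ∈ Finset.Icc 1 3, (idiv N k j : ℚ) := h3.symm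
            _ ≤ _ := Finset.sum_le_sum_of_subset_of_nonneg hsub (fun j _ _ => by positivity)
        exact div_le_div_of_nonneg_left hnum hEpos hden
      refine le_trans (Finset.sum_le_sum hterm) ?_
      rw [← Finset.sum_div, Finset.sum_range_sub' (fun i => (irem N k (i + 2) : ℚ))]
      have : irem N k (t + 1 + 2) = 0 := hzero
      simp [this]
    have hmain := ineq51 (idiv N k 1) (idiv N k 2) (irem N k 1) (irem N k 2) k N (by exact_mod_cast hd1)
      (by rcases (show idiv N k 2 = 1 ∨ 2 ≤ idiv N k 2 by omega) with h | h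
          · left; exact_mod_cast h
          · right; exact_mod_cast h) (by positivity) (by exact_mod_cast hr21) (by exact_mod_cast hk')
      (by exact_mod_cast hN)
    have hr2 : irem N k (1 + 1) = irem N k 2 := rfl
    rw [hr2]
    rw [hE] at htail
    linarith

end Groth.Agent.Helper27
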