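import Mathlib

set_option autoImplicit false

namespace Groth.Agent.Helper27.Hasse

open PowerSeries Finset

section Taylor

variable {R : Type*} [CommRing R]

/-- `j`-th Hasse derivative of a power series -/
noncomputable def hd (j : ℕ) (f : R⟦X⟧) : R⟦X⟧ :=
  PowerSeries.mk fun b => ((b + j).choose j : R) * coeff (b + j) f

@[simp] theorem coeff_hd (j b : ℕ) (f : R⟦X⟧) :
    coeff b (hd j f) = ((b + j).choose j : R) * coeff (b + j) f := by
  simp [hd]

theorem hd_coe (j : ℕ) (p : Polynomial R) :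
    hd j (p : R⟦X⟧) = ((Polynomial.hasseDeriv j p : Polynomial R) : R⟦X⟧) := by
  ext b
  rw [coeff_hd, Polynomial.coeff_coe, Polynomial.coeff_coe, Polynomial.hasseDeriv_coeff]

theorem hd_zero (f : R⟦X⟧) : hd 0 f = f := by
  ext b; simp

theorem hd_add (j : ℕ) (f g : R⟦X⟧) : hd j (f + g) = hd j f + hd j g := by
  ext b; simp [mul_add]

theorem hd_mul (j : ℕ) (f g : R⟦X⟧) :
    hd j (f * g) = ∑ ac ∈ antidiagonal j, hd ac.1 f * hd ac.2 g := by
  ext b
  set N := b + j + 1 with hN
  have h1 : coeff (b + j) (f * g) =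
      coeff (b + j) (((trunc N f * trunc N g : Polynomial R)) : R⟦X⟧) := by
    rw [Polynomial.coe_mul]
    exact coeff_mul_eq_coeff_trunc_mul_trunc f g (by omega)
  rw [coeff_hd, h1, ← coeff_hd, hd_coe, Polynomial.hasseDeriv_mul,
    ← Polynomial.coeToPowerSeries.ringHom_apply, map_sum, map_sum, map_sum]
  refine Finset.sum_congr rfl fun ac hac => ?_
  rw [Polynomial.coeToPowerSeries.ringHom_apply, Polynomial.coe_mul, ← hd_coe, ← hd_coe,
    coeff_mul, coeff_mul]
  refine Finset.sum_congr rfl fun bb hbb => ?_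
  have hac' := mem_antidiagonal.1 hac
  have hbb' := mem_antidiagonal.1 hbb
  rw [coeff_hd, coeff_hd, coeff_hd, coeff_hd, coeff_coe_trunc_of_lt (by omega),
    coeff_coe_trunc_of_lt (by omega)]

theorem hd_one (j : ℕ) : hd j (1 : R⟦X⟧) = if j = 0 then 1 else 0 := by
  ext b
  rw [coeff_hd, coeff_one]
  split_ifs with h1 h2 h2
  · subst h2; simp at h1; subst h1; simp
  · omega
  · subst h2; simp only [add_zero] at h1; simp [coeff_one, h1]
  · simp

/-- The Taylor shift `f(T) ↦ f(T + U)` as a ring hom `R⟦T⟧ → R⟦T⟧⟦U⟧`. -/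
noncomputable def taylor : R⟦X⟧ →+* (R⟦X⟧)⟦X⟧ where
  toFun f := PowerSeries.mk fun j => hd j f
  map_one' := by
    ext j : 1
    rw [coeff_mk, hd_one, coeff_one]
  map_mul' f g := by
    ext j : 1
    rw [coeff_mk, hd_mul, coeff_mul]
    refine Finset.sum_congr rfl fun ac _ => ?_
    rw [coeff_mk, coeff_mk]
  map_zero' := by
    ext j : 1
    rw [coeff_mk, map_zero]
    ext b; simp
  map_add' f g := by
    ext j : 1
    rw [coeff_mk, hd_add, map_add, coeff_mk, coeff_mk]

@[simp] theorem coeff_taylor (j : ℕ) (f : R⟦X⟧) : coeff j (taylor f) = hd j f := by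
  simp [taylor]

theorem constantCoeff_taylor (f : R⟦X⟧) : constantCoeff (taylor f) = f := by
  rw [← coeff_zero_eq_constantCoeff_apply, coeff_taylor, hd_zero]

theorem taylor_C (r : R) : taylor (C r : R⟦X⟧) = C (C r) := by
  ext j b
  rw [coeff_taylor, coeff_hd, coeff_C, coeff_C]
  by_cases hj : j = 0
  · subst hj; simp [coeff_C]
  · have : b + j ≠ 0 := by omega
    simp [hj, this]

theorem taylor_X : taylor (X : R⟦X⟧) = C X + X := by
  ext j b
  rw [coeff_taylor, coeff_hd, map_add, map_add, coeff_C, coeff_X, coeff_X]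
  rcases j with _ | _ | j
  · simp [coeff_X]
  · by_cases hb : b = 0
    · subst hb; simp
    · have : b + 1 ≠ 1 := by omega
      simp [this, hb, coeff_one]
  · have : b + (j + 1 + 1) ≠ 1 := by omega
    simp [this]

end Taylor

end Groth.Agent.Helper27.Hasse
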