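import Mathlib
import Groth.Agent.Lib.Helper27.HasseA
import Groth.Agent.Lib.Helper27.HasseB

set_option autoImplicit false

namespace Groth.Agent.Helper27.Hasse

open PowerSeries Finset FunFld

section Split

theorem sum_antidiag_split {A : Type*} [AddCommMonoid A] (f : ℕ × ℕ → A) (m : ℕ) :
    ∑ ij ∈ antidiagonal (m + 1), f ij =
      f (0, m + 1) + f (m + 1, 0) + ∑ i ∈ range m, f (i + 1, m - i) := by
  rw [Finset.Nat.sum_antidiagonal_succ, Finset.Nat.sum_antidiagonal_eq_sum_range_succ_mk,
    Finset.sum_range_succ, Nat.sub_self]
  abel

end Split

section Unique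

variable {k : Type*} {K : Type*} {A : Type*} [Field k] [Field K] [Algebra k K] [CommRing A]

/-- Uniqueness of lifts to power series along a one-dimensional module of differentials. -/
theorem lift_unique (h1 : Module.finrank K (Ω[K⁄k]) = 1) (s : K)
    (hds : KaehlerDifferential.D k K s ≠ 0) (ι : K →+* A) (α β : K →+* A⟦X⟧)
    (hα : ∀ y, constantCoeff (α y) = ι y) (hβ : ∀ y, constantCoeff (β y) = ι y)
    (hk : ∀ c : k, α (algebraMap k K c) = β (algebraMap k K c)) (hs : α s = β s) :
    α = β := by
  have key : ∀ n : ℕ, ∀ y : K, coeff n (α y) = coeff n (β y) := by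
    intro n
    induction n using Nat.strong_induction_on with
    | _ n ih =>
      rcases n with _ | m
      · intro y
        rw [coeff_zero_eq_constantCoeff_apply, coeff_zero_eq_constantCoeff_apply, hα, hβ]
      · intro y
        set δ : K → A := fun y => coeff (m + 1) (α y) - coeff (m + 1) (β y) with hδ
        have hadd : ∀ a b, δ (a + b) = δ a + δ b := by
          intro a b; simp only [hδ, map_add]; ring
        have hmul : ∀ a b, δ (a * b) = ι a * δ b + ι b * δ a := by
          intro a b
          simp only [hδ, map_mul, coeff_mul]
          rw [sum_antidiag_split, sum_antidiag_split]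
          have hmid : ∑ i ∈ range m, coeff (i + 1) (α a) * coeff (m - i) (α b) =
              ∑ i ∈ range m, coeff (i + 1) (β a) * coeff (m - i) (β b) := by
            refine Finset.sum_congr rfl fun i hi => ?_
            have hi' := Finset.mem_range.1 hi
            rw [ih (i + 1) (by omega), ih (m - i) (by omega)]
          rw [hmid]
          simp only [coeff_zero_eq_constantCoeff_apply, hα, hβ]
          ring
        have hk' : ∀ c : k, δ (algebraMap k K c) = 0 := by
          intro c; simp only [hδ, hk c, sub_self]
        obtain ⟨c, hc⟩ := (finrank_eq_one_iff_of_nonzero' (KaehlerDifferential.D k K s) hds).1 h1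
          (KaehlerDifferential.D k K y)
        have := twisted_deriv (k := k) ι δ hadd hmul hk' s y c hc.symm
        have hs0 : δ s = 0 := by simp only [hδ, hs, sub_self]
        rw [hs0, mul_zero] at this
        exact sub_eq_zero.1 this
  ext y n
  exact key n y

end Unique

end Groth.Agent.Helper27.Hasse
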