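import Mathlib
import Groth.Agent.Lib.Helper27.HasseC
import Groth.Agent.Lib.Helper16.FF.Basic

set_option autoImplicit false

namespace Groth.Agent.Helper27.Hasse

open PowerSeries Finset FunFld

variable {k : Type*} {K : Type*} [Field k] [Field K] [Algebra k K]

theorem H_algebraMap (H : K →ₐ[k] K⟦X⟧) (c : k) :
    H (algebraMap k K c) = C (algebraMap k K c) := by
  rw [H.commutes, PowerSeries.algebraMap_apply]

theorem coeff_one_mul (H : K →ₐ[k] K⟦X⟧) (h0 : ∀ y, constantCoeff (H y) = y) (a b : K) :
    coeff 1 (H (a * b)) = a * coeff 1 (H b) + b * coeff 1 (H a) := by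
  rw [map_mul, coeff_mul, sum_antidiag_split]
  simp only [Finset.range_zero, Finset.sum_empty, add_zero, coeff_zero_eq_constantCoeff_apply, h0]
  ring

theorem ds_ne_zero (s : K) (H : K →ₐ[k] K⟦X⟧) (hH : LocRes.IsHasseFamily s H) :
    KaehlerDifferential.D k K s ≠ 0 := by
  intro h0
  have := twisted_deriv (k := k) (RingHom.id K) (fun y => coeff 1 (H y))
    (fun a b => by simp only [map_add])
    (fun a b => by simpa using coeff_one_mul H hH.2 a b)
    (fun c => by simp only [H_algebraMap]; rw [coeff_C]; simp) s s 0 (by rw [h0, smul_zero])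
  simp only [map_zero, zero_mul] at this
  rw [hH.1] at this
  simp [coeff_C, coeff_X] at this

theorem hasse_unique (h1 : Module.finrank K (Ω[K⁄k]) = 1) (s : K) (H : K →ₐ[k] K⟦X⟧)
    (hH : LocRes.IsHasseFamily s H) (H' : K →ₐ[k] K⟦X⟧) (h0 : ∀ y, constantCoeff (H' y) = y)
    (hs : H' s = H s) : H' = H := by
  have := lift_unique (k := k) h1 s (ds_ne_zero s H hH) (RingHom.id K) (H' : K →+* K⟦X⟧)
    (H : K →+* K⟦X⟧) (fun y => h0 y) (fun y => hH.2 y)
    (fun c => by
      show H' (algebraMap k K c) = H (algebraMap k K c)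
      rw [H_algebraMap, H_algebraMap]) hs
  ext y : 1
  exact congrArg (fun f : K →+* K⟦X⟧ => f y) this

/-- iterativity of the Hasse derivatives -/
theorem hasse_iter (h1 : Module.finrank K (Ω[K⁄k]) = 1) (s : K) (H : K →ₐ[k] K⟦X⟧)
    (hH : LocRes.IsHasseFamily s H) (y : K) (b j : ℕ) :
    coeff b (H (coeff j (H y))) = ((b + j).choose j : K) * coeff (b + j) (H y) := by
  have := lift_unique (k := k) (A := K⟦X⟧) h1 s (ds_ne_zero s H hH) (H : K →+* K⟦X⟧)
    ((PowerSeries.map (H : K →+* K⟦X⟧)).comp (H : K →+* K⟦X⟧))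
    (taylor.comp (H : K →+* K⟦X⟧))
    (fun y => by
      simp only [RingHom.comp_apply, RingHom.coe_coe]
      rw [← coeff_zero_eq_constantCoeff_apply, coeff_map, coeff_zero_eq_constantCoeff_apply,
        hH.2]; rfl)
    (fun y => by
      simp only [RingHom.comp_apply, RingHom.coe_coe]
      rw [constantCoeff_taylor])
    (fun c => by
      simp only [RingHom.comp_apply, RingHom.coe_coe]
      rw [H_algebraMap, taylor_C, map_C]
      congr 1
      exact H_algebraMap H c)
    (by
      simp only [RingHom.comp_apply, RingHom.coe_coe]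
      rw [hH.1, map_add, map_add, taylor_C, taylor_X, map_C, map_X]
      have : (H : K →+* K⟦X⟧) s = H s := rfl
      rw [this, hH.1, map_add]
      ring)
  have h2 := congrArg (fun f : K →+* (K⟦X⟧)⟦X⟧ => coeff b (coeff j (f y))) this
  simp only [RingHom.comp_apply, RingHom.coe_coe, coeff_map, coeff_taylor, coeff_hd] at h2
  exact h2

/-- The field of constants of a Hasse family is `k`. -/
theorem hasse_const (hK : IsFunctionField k K) (s : K) (H : K →ₐ[k] K⟦X⟧)
    (hH : LocRes.IsHasseFamily s H) (y : K) (hy : H y = C y) :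
    y ∈ Set.range (algebraMap k K) := by
  by_contra hyr
  have hytr : Transcendental k y := fun h => hyr (hK.2 y h)
  haveI := Groth.Agent.Helper16.FF.finite_of_transcendental hK hytr
  -- field of constants
  let K₀ : IntermediateField k K :=
    { carrier := {z | H z = C z}
      mul_mem' := fun {a b} ha hb => by
        show H (a * b) = C (a * b)
        rw [map_mul, map_mul, ha, hb]
      add_mem' := fun {a b} ha hb => by
        show H (a + b) = C (a + b)
        rw [map_add, map_add, ha, hb]
      algebraMap_mem' := fun c => H_algebraMap H c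
      inv_mem' := fun a ha => by
        show H a⁻¹ = C a⁻¹
        by_cases ha0 : a = 0
        · subst ha0; simp
        · have e1 : H a⁻¹ * H a = 1 := by rw [← map_mul, inv_mul_cancel₀ ha0, map_one]
          have e2 : (C a : K⟦X⟧) * C a⁻¹ = 1 := by rw [← map_mul, mul_inv_cancel₀ ha0, map_one]
          have ha' : H a = C a := ha
          calc H a⁻¹ = H a⁻¹ * (C a * C a⁻¹) := by rw [e2, mul_one]
            _ = (H a⁻¹ * H a) * C a⁻¹ := by rw [ha']; ring
            _ = C a⁻¹ := by rw [e1, one_mul] }
  set E := IntermediateField.adjoin k ({y} : Set K) with hE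
  have hEle : E ≤ K₀ := by
    rw [hE, IntermediateField.adjoin_le_iff]
    rintro z (rfl : z = y); exact hy
  have hsint : IsIntegral E s := Algebra.IsIntegral.isIntegral s
  set p := minpoly E s with hp
  have hp0 : p ≠ 0 := minpoly.ne_zero hsint
  set q : Polynomial K := p.map (algebraMap E K) with hq
  have hq0 : q ≠ 0 := (Polynomial.map_ne_zero_iff (algebraMap E K).injective).2 hp0
  have hqs : q.eval s = 0 := by
    rw [hq, Polynomial.eval_map_algebraMap]; exact minpoly.aeval E s
  have hqc : ∀ i, H (q.coeff i) = C (q.coeff i) := by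
    intro i
    rw [hq, Polynomial.coeff_map]
    exact hEle (p.coeff i).2
  -- apply H
  have h3 : Polynomial.eval₂ (C : K →+* K⟦X⟧) (C s + X) q = 0 := by
    have := congrArg H hqs
    rw [map_zero, Polynomial.eval_eq_sum_range, map_sum] at this
    rw [Polynomial.eval₂_eq_sum_range]
    rw [← this]
    refine Finset.sum_congr rfl fun i _ => ?_
    rw [map_mul, map_pow, hqc, hH.1]
  set r : Polynomial K := Polynomial.C s + Polynomial.X with hr
  have h4 : ((q.comp r : Polynomial K) : K⟦X⟧) = 0 := by
    rw [Polynomial.comp, ← Polynomial.coeToPowerSeries.ringHom_apply, Polynomial.hom_eval₂]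
    convert h3 using 2
    · ext a : 1
      simp [Polynomial.coe_C]
    · rw [Polynomial.coeToPowerSeries.ringHom_apply, hr, Polynomial.coe_add, Polynomial.coe_C,
        Polynomial.coe_X]
  have h5 : q.comp r = 0 := Polynomial.coe_injective K (by rw [h4]; rfl)
  rcases Polynomial.comp_eq_zero_iff.1 h5 with h | ⟨-, h⟩
  · exact hq0 h
  · have := congrArg Polynomial.natDegree h
    rw [Polynomial.natDegree_C, hr, Polynomial.natDegree_C_add, Polynomial.natDegree_X] at this
    exact one_ne_zero this

end Groth.Agent.Helper27.Hasse
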