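import Mathlib
import Groth.Agent.Lib.Helper27.HasseB

set_option autoImplicit false

namespace Groth.Agent.Helper27.Hasse

open PowerSeries Finset
open scoped LaurentSeries

variable {F : Type*} [Field F]

theorem hasseDeriv_single_mul (n : ℕ) (a : ℤ) (r : F) (x : F⸨X⸩) :
    LaurentSeries.hasseDeriv F n (HahnSeries.single a r * x) =
      ∑ ij ∈ antidiagonal n, HahnSeries.single (a - ij.1) (Ring.choose a ij.1 • r) *
        LaurentSeries.hasseDeriv F ij.2 x := by
  ext m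
  rw [LaurentSeries.hasseDeriv_coeff, HahnSeries.coeff_single_mul, HahnSeries.coeff_sum]
  have hV := Ring.add_choose_eq n (Commute.all a (m - a + n))
  have e : a + (m - a + n) = m + n := by ring
  rw [e] at hV
  rw [hV, Finset.sum_smul]
  refine Finset.sum_congr rfl fun ij hij => ?_
  rw [HahnSeries.coeff_single_mul, LaurentSeries.hasseDeriv_coeff]
  have h1 : m - (a - ij.1) + ij.2 = m - a + n := by
    have := mem_antidiagonal.1 hij
    rw [← this]; push_cast; ring
  rw [h1, smul_mul_smul_comm, show m + (n : ℤ) - a = m - a + n by ring]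

/-- The Laurent Taylor map, as a function. -/
noncomputable def ltaylor (f : F⸨X⸩) : (F⸨X⸩)⟦X⟧ :=
  PowerSeries.mk fun n => LaurentSeries.hasseDeriv F n f

@[simp] theorem coeff_ltaylor (n : ℕ) (f : F⸨X⸩) :
    coeff n (ltaylor f) = LaurentSeries.hasseDeriv F n f := by
  simp [ltaylor]

theorem ltaylor_add (f g : F⸨X⸩) : ltaylor (f + g) = ltaylor f + ltaylor g := by
  ext1 n; simp

theorem ltaylor_single_mul (a : ℤ) (r : F) (x : F⸨X⸩) :
    ltaylor (HahnSeries.single a r * x) = ltaylor (HahnSeries.single a r) * ltaylor x := by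
  ext1 n
  rw [coeff_ltaylor, coeff_mul, hasseDeriv_single_mul]
  refine Finset.sum_congr rfl fun ij _ => ?_
  rw [coeff_ltaylor, coeff_ltaylor, LaurentSeries.hasseDeriv_single]

theorem hasseDeriv_coe (n : ℕ) (G : F⟦X⟧) :
    LaurentSeries.hasseDeriv F n (G : F⸨X⸩) = ((hd n G : F⟦X⟧) : F⸨X⸩) := by
  ext m
  rw [LaurentSeries.hasseDeriv_coeff, PowerSeries.coeff_coe, PowerSeries.coeff_coe]
  rcases lt_or_ge m 0 with hm | hm
  · rw [if_pos hm]
    by_cases h2 : m + n < 0
    · rw [if_pos h2, smul_zero]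
    · rw [if_neg h2]
      obtain ⟨p, hp⟩ : ∃ p : ℕ, m + n = p := ⟨(m + n).toNat, by omega⟩
      rw [hp, Ring.choose_natCast, Nat.choose_eq_zero_of_lt (by omega)]
      simp
  · rw [if_neg (by omega), if_neg (by omega)]
    lift m to ℕ using hm
    rw [Int.natAbs_natCast, coeff_hd]
    have : ((m : ℤ) + n) = ((m + n : ℕ) : ℤ) := by push_cast; ring
    rw [this, Ring.choose_natCast, Int.natAbs_natCast]
    simp

theorem ltaylor_coe (G : F⟦X⟧) :
    ltaylor (G : F⸨X⸩) = PowerSeries.map (HahnSeries.ofPowerSeries ℤ F) (taylor G) := by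
  ext1 n
  rw [coeff_ltaylor, coeff_map, coeff_taylor, hasseDeriv_coe]

theorem ltaylor_mul (f g : F⸨X⸩) : ltaylor (f * g) = ltaylor f * ltaylor g := by
  obtain ⟨a, Ff, rfl⟩ : ∃ (a : ℤ) (Ff : F⟦X⟧), f = HahnSeries.single a 1 * (Ff : F⸨X⸩) :=
    ⟨_, _, f.single_order_mul_powerSeriesPart.symm⟩
  obtain ⟨b, G, rfl⟩ : ∃ (b : ℤ) (G : F⟦X⟧), g = HahnSeries.single b 1 * (G : F⸨X⸩) :=
    ⟨_, _, g.single_order_mul_powerSeriesPart.symm⟩
  have e1 : HahnSeries.single a (1 : F) * (Ff : F⸨X⸩) * (HahnSeries.single b 1 * (G : F⸨X⸩)) =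
      HahnSeries.single a 1 * (HahnSeries.single b 1 * (((Ff * G : F⟦X⟧)) : F⸨X⸩)) := by
    push_cast; ring
  rw [e1, ltaylor_single_mul, ltaylor_single_mul, ltaylor_single_mul a, ltaylor_single_mul b,
    ltaylor_coe, ltaylor_coe, ltaylor_coe, map_mul, map_mul]
  ring

theorem ltaylor_one : ltaylor (1 : F⸨X⸩) = 1 := by
  have : (1 : F⸨X⸩) = ((1 : F⟦X⟧) : F⸨X⸩) := by simp
  rw [this, ltaylor_coe, map_one, map_one]

/-- The Laurent Taylor map as a ring homomorphism. -/
noncomputable def ltaylorHom : F⸨X⸩ →+* (F⸨X⸩)⟦X⟧ where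
  toFun := ltaylor
  map_one' := ltaylor_one
  map_mul' := ltaylor_mul
  map_zero' := by ext1 n; simp
  map_add' := ltaylor_add

@[simp] theorem ltaylorHom_apply (f : F⸨X⸩) : ltaylorHom f = ltaylor f := rfl

end Groth.Agent.Helper27.Hasse
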