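import Mathlib
import Groth.Agent.Lib.Helper27.HasseL
import Groth.Agent.Lib.Helper27.HasseD
import Groth.Agent.Lib.Helper16.FF.GeomB

set_option autoImplicit false

namespace Groth.Agent.Helper27.Hasse

open PowerSeries Finset FunFld
open scoped LaurentSeries

universe u v w

variable {k : Type u} {K : Type v} [Field k] [Field K] [Algebra k K]

theorem expansion_hasseD (h1 : Module.finrank K (Ω[K⁄k]) = 1)
    (F : Type w) [Field F] [Algebra k F]
    (φ : K →ₐ[k] LaurentSeries F)
    (t : K) (ht : φ t = HahnSeries.single 1 1)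
    (H : K →ₐ[k] PowerSeries K) (hH : LocRes.IsHasseFamily t H)
    (x : K) (n : ℕ) :
    φ (LocRes.hasseD H n x) = LaurentSeries.hasseDeriv F n (φ x) := by
  have := lift_unique (k := k) h1 t (ds_ne_zero t H hH) (φ : K →+* F⸨X⸩)
    ((PowerSeries.map (φ : K →+* F⸨X⸩)).comp (H : K →+* K⟦X⟧))
    (ltaylorHom.comp (φ : K →+* F⸨X⸩))
    (fun y => by
      show constantCoeff (PowerSeries.map (φ : K →+* F⸨X⸩) (H y)) = φ y
      rw [← coeff_zero_eq_constantCoeff_apply, coeff_map, coeff_zero_eq_constantCoeff_apply, hH.2]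
      rfl)
    (fun y => by
      show constantCoeff (ltaylor (φ y)) = φ y
      rw [← coeff_zero_eq_constantCoeff_apply, coeff_ltaylor, LaurentSeries.hasseDeriv_zero]
      rfl)
    (fun c => by
      show PowerSeries.map (φ : K →+* F⸨X⸩) (H (algebraMap k K c)) = ltaylor (φ (algebraMap k K c))
      have hc : φ (algebraMap k K c) =
          ((PowerSeries.C (algebraMap k F c) : F⟦X⟧) : F⸨X⸩) := by
        rw [φ.commutes, HahnSeries.algebraMap_apply' ℤ c, PowerSeries.algebraMap_apply]
      rw [H_algebraMap, map_C, hc, ltaylor_coe, taylor_C, map_C]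
      congr 1)
    (by
      show PowerSeries.map (φ : K →+* F⸨X⸩) (H t) = ltaylor (φ t)
      rw [hH.1, map_add, map_C, map_X, ht, ← PowerSeries.coe_X, ltaylor_coe, taylor_X, map_add,
        map_C, map_X]
      have ht' : (φ : K →+* F⸨X⸩) t = (HahnSeries.ofPowerSeries ℤ F) X := by
        show φ t = _
        rw [ht]; exact PowerSeries.coe_X.symm
      rw [ht'])
  have h2 := congrArg (fun f : K →+* (F⸨X⸩)⟦X⟧ => coeff n (f x)) this
  simp only [RingHom.comp_apply, ltaylorHom_apply, coeff_ltaylor, coeff_map] at h2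
  exact h2

end Groth.Agent.Helper27.Hasse
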