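import Mathlib
import Groth.Agent.Lib.Helper27.ExpC
import Groth.Agent.Lib.Helper27.HasseM
import Groth.Agent.Lib.Helper27.HasseA
import Groth.Agent.Lib.Helper16.FF.Residue
import Groth.Prelude.Def_W4bk4goldsch45p2

set_option autoImplicit false

namespace Groth.Agent.Helper27.Expn

open PowerSeries WithZero FunFld
open scoped LaurentSeries
open Groth.Agent.Helper16.FF Groth.Agent.Helper27.Hasse

variable {k K : Type*} [Field k] [Field K] [Algebra k K]

theorem evalP_of_le (P : Place k K) {z : K} (h : P.1 z ≤ 1) :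
    evalP P z = IsLocalRing.residue P.O ⟨z, (Place.mem_O_iff P z).2 h⟩ := by
  unfold evalP
  rw [dif_pos h]

theorem evalP_eq_zero_iff (P : Place k K) {z : K} (h : P.1 z ≤ 1) :
    evalP P z = 0 ↔ P.1 z < 1 := by
  rw [evalP_of_le P h, Place.residue_eq_zero_iff]

theorem evalP_algebraMap (P : Place k K) (c : k) :
    evalP P (algebraMap k K c) = algebraMap k (IsLocalRing.ResidueField P.O) c := by
  rw [evalP_of_le P (P.2.1 c)]
  rfl

theorem evalP_add (P : Place k K) {y z : K} (hy : P.1 y ≤ 1) (hz : P.1 z ≤ 1) :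
    evalP P (y + z) = evalP P y + evalP P z := by
  have hyz : P.1 (y + z) ≤ 1 := Valuation.map_add_le _ hy hz
  rw [evalP_of_le P hy, evalP_of_le P hz, evalP_of_le P hyz, ← map_add]
  rfl

theorem evalP_mul (P : Place k K) {y z : K} (hy : P.1 y ≤ 1) (hz : P.1 z ≤ 1) :
    evalP P (y * z) = evalP P y * evalP P z := by
  have hyz : P.1 (y * z) ≤ 1 := by rw [map_mul]; exact mul_le_one' hy hz
  rw [evalP_of_le P hy, evalP_of_le P hz, evalP_of_le P hyz, ← map_mul]
  rfl

theorem evalP_sub (P : Place k K) {y z : K} (hy : P.1 y ≤ 1) (hz : P.1 z ≤ 1) :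
    evalP P (y - z) = evalP P y - evalP P z := by
  have hyz : P.1 (y - z) ≤ 1 := Valuation.map_sub_le _ hy hz
  rw [evalP_of_le P hy, evalP_of_le P hz, evalP_of_le P hyz, ← map_sub]
  rfl

section Exp

variable {P : Place k K} {ε : K →ₐ[k] k⸨X⸩}

theorem coeff_neg_eq_zero (hε : LocRes.IsExpansionAt P.1 ε) {y : K} (hy : P.1 y ≤ 1) (n : ℤ)
    (hn : n < 0) : (ε y).coeff n = 0 := by
  have h1 : Valued.v (ε y) ≤ exp (-(0 : ℤ)) := by rw [hε.1]; simpa using hy
  exact (LaurentSeries.valuation_le_iff_coeff_lt_eq_zero k).1 h1 n hn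

theorem val_lt_one_iff_coeff_zero (hε : LocRes.IsExpansionAt P.1 ε) {y : K} (hy : P.1 y ≤ 1) :
    P.1 y < 1 ↔ (ε y).coeff 0 = 0 := by
  rw [lt_one_iff_le_exp, ← hε.1, show (-1 : ℤ) = -(1 : ℤ) from rfl,
    LaurentSeries.valuation_le_iff_coeff_lt_eq_zero k]
  constructor
  · intro h; exact h 0 (by norm_num)
  · intro h n hn
    rcases lt_or_eq_of_le (show n ≤ 0 by omega) with h' | h'
    · exact coeff_neg_eq_zero hε hy n h'
    · rw [h']; exact h

theorem coeff_zero_algebraMap (ε : K →ₐ[k] k⸨X⸩) (c : k) : (ε (algebraMap k K c)).coeff 0 = c := by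
  rw [LocRes.map_algebraMap]
  simp

theorem evalP_eq_coeff (hε : LocRes.IsExpansionAt P.1 ε) {y : K} (hy : P.1 y ≤ 1) :
    evalP P y = algebraMap k (IsLocalRing.ResidueField P.O) ((ε y).coeff 0) := by
  set c := (ε y).coeff 0 with hc
  have hz : P.1 (y - algebraMap k K c) ≤ 1 := Valuation.map_sub_le _ hy (P.2.1 c)
  have h0 : (ε (y - algebraMap k K c)).coeff 0 = 0 := by
    rw [map_sub, HahnSeries.coeff_sub, coeff_zero_algebraMap, ← hc, sub_self]
  have h1 := (evalP_eq_zero_iff P hz).2 ((val_lt_one_iff_coeff_zero hε hz).2 h0)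
  rw [evalP_sub P hy (P.2.1 c), evalP_algebraMap, sub_eq_zero] at h1
  exact h1

theorem exists_coe_eq (hε : LocRes.IsExpansionAt P.1 ε) {y : K} (hy : P.1 y ≤ 1) :
    ∃ f : k⟦X⟧, ε y = (f : k⸨X⸩) := by
  have h1 : Valued.v (ε y) ≤ 1 := by rw [hε.1]; exact hy
  obtain ⟨f, hf⟩ := (LaurentSeries.val_le_one_iff_eq_coe k _).1 h1
  exact ⟨f, hf.symm⟩

theorem hasseD_integral (h1 : Module.finrank K (Ω[K⁄k]) = 1)
    (hε : LocRes.IsExpansionAt P.1 ε) {t : K} (ht : ε t = HahnSeries.single 1 1)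
    (H : K →ₐ[k] K⟦X⟧) (hH : LocRes.IsHasseFamily t H) {y : K} (hy : P.1 y ≤ 1) (j : ℕ) :
    P.1 (LocRes.hasseD H j y) ≤ 1 ∧
      evalP P (LocRes.hasseD H j y) =
        algebraMap k (IsLocalRing.ResidueField P.O) ((ε y).coeff (j : ℤ)) := by
  obtain ⟨f, hf⟩ := exists_coe_eq hε hy
  have h2 := expansion_hasseD h1 k ε t ht H hH y j
  rw [hf, hasseDeriv_coe] at h2
  have h3 : P.1 (LocRes.hasseD H j y) ≤ 1 := by
    rw [← hε.1, h2, LaurentSeries.val_le_one_iff_eq_coe]; exact ⟨_, rfl⟩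
  refine ⟨h3, ?_⟩
  rw [evalP_eq_coeff hε h3, h2, hf]
  congr 1
  have e1 : ((hd j f : k⟦X⟧) : k⸨X⸩).coeff 0 = coeff 0 (hd j f) := by
    have := PowerSeries.coeff_coe (R := k) (f := hd j f) (0 : ℤ)
    simpa using this
  have e2 : ((f : k⟦X⟧) : k⸨X⸩).coeff (j : ℤ) = coeff j f := by
    have := PowerSeries.coeff_coe (R := k) (f := f) (j : ℤ)
    simpa using this
  rw [e1, e2, coeff_hd]
  simp

end Exp

theorem algebraMap_residue_surjective [IsAlgClosed k] (hK : IsFunctionField k K) (P : Place k K) :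
    Function.Surjective (algebraMap k (IsLocalRing.ResidueField P.O)) := by
  intro l
  obtain ⟨z, rfl⟩ := IsLocalRing.residue_surjective l
  obtain ⟨c, hc⟩ := exists_const_sub_lt_one hK (Place.deg_eq_one hK P)
    ((Place.mem_O_iff P _).1 z.2)
  refine ⟨c, ?_⟩
  have h1 := (evalP_eq_zero_iff P (Valuation.map_sub_le _ ((Place.mem_O_iff P _).1 z.2)
    (P.2.1 c))).2 hc
  rw [evalP_sub P ((Place.mem_O_iff P _).1 z.2) (P.2.1 c), evalP_algebraMap, sub_eq_zero,
    evalP_of_le P ((Place.mem_O_iff P _).1 z.2)] at h1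
  exact h1.symm

theorem main12599 [IsAlgClosed k] (hK : IsFunctionField k K) {n : ℕ} (φ : Fin (n + 1) → K)
    (hφ : LinearIndependent k φ) (P : Place k K) (hint : ∀ i, P.1 (φ i) ≤ 1) (t : K)
    (ht : P.1 t = exp (-1)) (Ht : K →ₐ[k] K⟦X⟧) (hHt : LocRes.IsHasseFamily t Ht) :
    LinearIndependent (IsLocalRing.ResidueField P.O)
      (fun i : Fin (n + 1) => fun j : ℕ => evalP P (LocRes.hasseD Ht j (φ i))) := by
  obtain ⟨ε, hε, hεt⟩ := exists_expansion hK P t ht
  have h1 := finrank_kaehler_of_isAlgClosed hK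
  rw [Fintype.linearIndependent_iff]
  intro g hg
  have hsurj := algebraMap_residue_surjective hK P
  choose c hc using fun i => hsurj (g i)
  set y : K := ∑ i, c i • φ i with hy
  have hyint : P.1 y ≤ 1 := by
    apply Valuation.map_sum_le
    intro i _
    rw [Algebra.smul_def, map_mul]
    exact mul_le_one' (P.2.1 _) (hint i)
  have hcoef : ∀ m : ℤ, (ε y).coeff m = ∑ i, c i * (ε (φ i)).coeff m := by
    intro m
    rw [hy, map_sum, HahnSeries.coeff_sum]
    refine Finset.sum_congr rfl fun i _ => ?_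
    rw [Algebra.smul_def, map_mul, LocRes.map_algebraMap, HahnSeries.C_mul_eq_smul,
      HahnSeries.coeff_smul, smul_eq_mul]
    rfl
  have hzero : ε y = 0 := by
    ext m
    rw [HahnSeries.coeff_zero]
    rcases lt_or_ge m 0 with hm | hm
    · exact coeff_neg_eq_zero hε hyint m hm
    · lift m to ℕ using hm
      have h2 := congrFun hg m
      simp only [Finset.sum_apply, Pi.smul_apply, smul_eq_mul, Pi.zero_apply] at h2
      have h3 : ∑ i, g i * evalP P (LocRes.hasseD Ht m (φ i)) =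
          algebraMap k (IsLocalRing.ResidueField P.O) (∑ i, c i * (ε (φ i)).coeff (m : ℤ)) := by
        rw [map_sum]
        refine Finset.sum_congr rfl fun i _ => ?_
        rw [map_mul, hc, (hasseD_integral h1 hε hεt Ht hHt (hint i) m).2]
      rw [h3] at h2
      rw [hcoef]
      exact (_root_.map_eq_zero _).1 h2
  have hy0 : y = 0 := (_root_.map_eq_zero ε).1 hzero
  have hc0 := (Fintype.linearIndependent_iff.1 hφ) c hy0
  intro i
  rw [← hc i, hc0 i, map_zero]

end Groth.Agent.Helper27.Expn
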