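import Mathlib

set_option autoImplicit false
universe u
open CategoryTheory

namespace Groth.Agent.Helper27.Ext1

/-- in a reduced ring, an element outside all minimal primes is a non-zero-divisor -/
lemma mem_nonZeroDivisors_of_notMem_minimalPrimes {A : Type*} [CommRing A] [IsReduced A] (x : A)
    (hx : ∀ p ∈ minimalPrimes A, x ∉ p) : x ∈ nonZeroDivisors A := by
  rw [mem_nonZeroDivisors_iff_right]
  intro y hy
  have : y ∈ sInf (minimalPrimes A) := by
    rw [Submodule.mem_sInf]
    intro p hp
    have hpp : Ideal.IsPrime p := hp.1.1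
    have : y * x ∈ p := by rw [hy]; exact Ideal.zero_mem p
    exact (hpp.mem_or_mem this).resolve_right (hx p hp)
  rw [minimalPrimes, Ideal.sInf_minimalPrimes] at this
  have h2 : (⊥ : Ideal A).radical = ⊥ := by
    have := nilradical_eq_zero A
    rw [nilradical] at this
    exact this
  rw [h2] at this
  exact this

/-- a one-dimensional reduced Noetherian local ring contains a non-zero-divisor in its maximal ideal -/
lemma exists_nzd_mem_maximalIdeal {A : Type*} [CommRing A] [IsNoetherianRing A] [IsLocalRing A]
    [IsReduced A] (hdim : ringKrullDim A = 1) :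
    ∃ x ∈ IsLocalRing.maximalIdeal A, x ∈ nonZeroDivisors A := by
  have hfin : (minimalPrimes A).Finite := minimalPrimes.finite_of_isNoetherianRing A
  by_contra hcon
  push Not at hcon
  have hsub : (IsLocalRing.maximalIdeal A : Set A) ⊆ ⋃ p ∈ (↑hfin.toFinset : Set (Ideal A)), (p : Set A) := by
    intro x hx
    have := hcon x hx
    by_contra hx'
    apply this
    apply mem_nonZeroDivisors_of_notMem_minimalPrimes
    intro p hp hxp
    apply hx'
    simp only [Set.mem_iUnion]
    exact ⟨p, by simpa using hp, hxp⟩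
  rw [Ideal.subset_union_prime (R := A) (s := hfin.toFinset) (f := fun p => p)
    ⊥ ⊥ (fun p hp _ _ => (hfin.mem_toFinset.mp hp).1.1)] at hsub
  obtain ⟨p, hp, hmp⟩ := hsub
  have hpmin : p ∈ minimalPrimes A := hfin.mem_toFinset.mp hp
  have hpp : p.IsPrime := hpmin.1.1
  have hpm : p = IsLocalRing.maximalIdeal A :=
    le_antisymm (IsLocalRing.le_maximalIdeal hpp.ne_top) hmp
  have : Ring.KrullDimLE 0 A := by
    apply Ring.KrullDimLE.mk₀
    intro q hq
    have h1 : q ≤ p := hpm ▸ IsLocalRing.le_maximalIdeal hq.ne_top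
    have h2 : p ≤ q := hpmin.2 ⟨hq, bot_le⟩ h1
    have : q = IsLocalRing.maximalIdeal A := (le_antisymm h1 h2).trans hpm
    rw [this]; infer_instance
  have h0 : ringKrullDim A ≤ 0 := Ring.krullDimLE_iff.mp this
  rw [hdim] at h0
  norm_num at h0

end Groth.Agent.Helper27.Ext1
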