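import Mathlib
import Groth.Agent.Lib.Helper27.Ext1aLib

set_option autoImplicit false
set_option linter.style.haveILetI false
set_option linter.unusedSectionVars false
universe u
open CategoryTheory

namespace Groth.Agent.Helper27.Ext1

variable {R : Type u} [CommRing R] [IsNoetherianRing R] [IsLocalRing R]

/-- a prime containing `Q` and an element that is a nonzerodivisor mod `Q` is the maximal ideal -/
lemma prime_eq_max (Q : Ideal R) [IsReduced (R ⧸ Q)] (hQdim : ringKrullDim (R ⧸ Q) = 1)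
    (r : R) (hr : Ideal.Quotient.mk Q r ∈ nonZeroDivisors (R ⧸ Q))
    (p : Ideal R) [hp : p.IsPrime] (hQp : Q ≤ p) (hrp : r ∈ p) : p = IsLocalRing.maximalIdeal R := by
  have hQtop : Q ≠ ⊤ := fun h => hp.ne_top (top_le_iff.mp (h ▸ hQp))
  haveI : Nontrivial (R ⧸ Q) := Ideal.Quotient.nontrivial_iff.mpr hQtop
  haveI : IsLocalRing (R ⧸ Q) :=
    IsLocalRing.of_surjective' (Ideal.Quotient.mk Q) Ideal.Quotient.mk_surjective
  let p' : Ideal (R ⧸ Q) := p.map (Ideal.Quotient.mk Q)
  haveI hp' : p'.IsPrime :=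
    Ideal.map_isPrime_of_surjective Ideal.Quotient.mk_surjective (by rwa [Ideal.mk_ker])
  have h1 : 1 ≤ p'.height := by
    refine le_trans (Ideal.one_le_height_span_singleton_of_mem_nonZeroDivisors hr)
      (Ideal.height_mono ?_)
    rw [Ideal.span_singleton_le_iff_mem]
    exact Ideal.mem_map_of_mem _ hrp
  have hle : p' ≤ IsLocalRing.maximalIdeal (R ⧸ Q) := IsLocalRing.le_maximalIdeal hp'.ne_top
  have hmax : (IsLocalRing.maximalIdeal (R ⧸ Q)).height = 1 := by
    have := IsLocalRing.maximalIdeal_height_eq_ringKrullDim (R := R ⧸ Q)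
    rw [hQdim] at this
    exact_mod_cast this
  have heq : p' = IsLocalRing.maximalIdeal (R ⧸ Q) := by
    by_contra hne
    have hlt : p' < IsLocalRing.maximalIdeal (R ⧸ Q) := lt_of_le_of_ne hle hne
    have h3 := Ideal.height_add_one_le_of_lt_of_isPrime hlt
    rw [hmax] at h3
    have h2 : (1 : ℕ∞) + 1 ≤ 1 := le_trans (by gcongr) h3
    norm_num at h2
  have hpc : p = p'.comap (Ideal.Quotient.mk Q) := by
    rw [Ideal.comap_map_of_surjective _ Ideal.Quotient.mk_surjective, ← RingHom.ker_eq_comap_bot,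
      Ideal.mk_ker, sup_eq_left.mpr hQp]
  haveI : p.IsMaximal := by
    rw [hpc, heq]
    exact Ideal.comap_isMaximal_of_surjective _ Ideal.Quotient.mk_surjective
  exact IsLocalRing.eq_maximalIdeal ‹_›


variable (P Q : Ideal R) (I J : Type u) [AddCommGroup I] [Module R I] [Module.Finite R I] [Nontrivial I]
    [AddCommGroup J] [Module R J] [Module.Finite R J] [Nontrivial J]

/-- Step 2 : every homomorphism `I → J` vanishes -/
lemma hom_eq_zero (hPQ : ∃ n : ℕ, IsLocalRing.maximalIdeal R ^ n ≤ P ⊔ Q)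
    (hPI : ∀ p ∈ P, ∀ x : I, p • x = 0) (hQJ : ∀ q ∈ Q, ∀ y : J, q • y = 0)
    (r : R) (hrm : r ∈ IsLocalRing.maximalIdeal R) (hrJ : ∀ y : J, r • y = 0 → y = 0)
    (φ : I →ₗ[R] J) : φ = 0 := by
  obtain ⟨n, hn⟩ := hPQ
  ext x
  have h1 : r ^ n ∈ P ⊔ Q := hn (Ideal.pow_mem_pow hrm n)
  obtain ⟨p, hp, q, hq, hpq⟩ := Submodule.mem_sup.mp h1
  have h2 : r ^ n • φ x = 0 := by
    rw [← hpq, add_smul, ← map_smul, hPI p hp x, map_zero, hQJ q hq, add_zero]
  have h3 : ∀ (m : ℕ) (y : J), r ^ m • y = 0 → y = 0 := by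
    intro m
    induction m with
    | zero => intro y hy; simpa using hy
    | succ m ih =>
      intro y hy
      apply ih
      apply hrJ
      rw [smul_smul, ← pow_succ']
      exact hy
  exact h3 n _ h2

/-- Step 3a : a nonzero f.g. module over a local ring surjects onto the residue field -/
lemma exists_surj_residue : ∃ f : I →ₗ[R] (R ⧸ IsLocalRing.maximalIdeal R), Function.Surjective f := by
  obtain ⟨I', hI'⟩ : ∃ I' : Submodule R I, IsCoatom I' := by
    rcases IsCoatomic.eq_top_or_exists_le_coatom (⊥ : Submodule R I) with h | ⟨I', hI', -⟩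
    · exact absurd h bot_ne_top
    · exact ⟨I', hI'⟩
  haveI : IsSimpleModule R (I ⧸ I') := isSimpleModule_iff_isCoatom.mpr hI'
  obtain ⟨𝔪, h𝔪, ⟨e⟩⟩ := isSimpleModule_iff_quot_maximal.mp (inferInstance : IsSimpleModule R (I ⧸ I'))
  have : 𝔪 = IsLocalRing.maximalIdeal R := IsLocalRing.eq_maximalIdeal h𝔪
  subst this
  exact ⟨e.toLinearMap ∘ₗ I'.mkQ, e.surjective.comp (Submodule.mkQ_surjective I')⟩

/-- Step 3 : a nonzero map `I → N` whenever `N` has a nonzero element killed by the maximal ideal -/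
lemma exists_nonzero_hom_of_socle (N : Type u) [AddCommGroup N] [Module R N] (y : N) (hy : y ≠ 0)
    (hmy : ∀ a ∈ IsLocalRing.maximalIdeal R, a • y = 0) : ∃ ψ : I →ₗ[R] N, ψ ≠ 0 := by
  obtain ⟨f, hf⟩ := exists_surj_residue (R := R) I
  let g : (R ⧸ IsLocalRing.maximalIdeal R) →ₗ[R] N :=
    Submodule.liftQ (IsLocalRing.maximalIdeal R) (LinearMap.toSpanSingleton R N y) (by
      intro a ha
      rw [LinearMap.mem_ker, LinearMap.toSpanSingleton_apply]
      exact hmy a ha)
  refine ⟨g ∘ₗ f, ?_⟩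
  intro h0
  obtain ⟨z, hz⟩ := hf (Submodule.Quotient.mk 1)
  have := congrArg (fun ψ : I →ₗ[R] N => ψ z) h0
  simp only [LinearMap.comp_apply, hz, LinearMap.zero_apply] at this
  have h1 : g (Submodule.Quotient.mk 1) = y := by
    change (Submodule.liftQ _ _ _) (Submodule.Quotient.mk 1) = y
    rw [Submodule.liftQ_apply, LinearMap.toSpanSingleton_apply, one_smul]
  exact hy (h1 ▸ this)

end Groth.Agent.Helper27.Ext1
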