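import Mathlib
import Groth.Agent.Lib.Helper27.Ext1bLib

set_option autoImplicit false
set_option linter.style.haveILetI false
set_option linter.unusedSectionVars false
universe u
open CategoryTheory

namespace Groth.Agent.Helper27.Ext1

variable {R : Type u} [CommRing R] [IsNoetherianRing R] [IsLocalRing R]

variable (Q : Ideal R) (J : Type u)
    [AddCommGroup J] [Module R J] [Module.Finite R J] [Nontrivial J]

/-- socle element of `J / rJ` -/
lemma exists_socle [IsReduced (R ⧸ Q)] (hQdim : ringKrullDim (R ⧸ Q) = 1)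
    (hQJ : ∀ q ∈ Q, ∀ y : J, q • y = 0)
    (r : R) (hrm : r ∈ IsLocalRing.maximalIdeal R)
    (hr : Ideal.Quotient.mk Q r ∈ nonZeroDivisors (R ⧸ Q)) :
    ∃ y : J ⧸ LinearMap.range (LinearMap.lsmul R J r), y ≠ 0 ∧
      ∀ a ∈ IsLocalRing.maximalIdeal R, a • y = 0 := by
  have hne : LinearMap.range (LinearMap.lsmul R J r) ≠ ⊤ := by
    intro htop
    have h1 : (⊤ : Submodule R J) ≤ IsLocalRing.maximalIdeal R • (⊤ : Submodule R J) := by
      intro x _
      have hx : x ∈ LinearMap.range (LinearMap.lsmul R J r) := by rw [htop]; exact Submodule.mem_top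
      obtain ⟨y, rfl⟩ := hx
      exact Submodule.smul_mem_smul hrm Submodule.mem_top
    have h2 := Submodule.eq_bot_of_le_smul_of_le_jacobson_bot (IsLocalRing.maximalIdeal R)
      (⊤ : Submodule R J) Module.Finite.fg_top h1
      (by rw [IsLocalRing.jacobson_eq_maximalIdeal _ bot_ne_top])
    exact top_ne_bot h2
  haveI : Nontrivial (J ⧸ LinearMap.range (LinearMap.lsmul R J r)) :=
    Submodule.Quotient.nontrivial_iff.mpr hne
  obtain ⟨p, hp⟩ := associatedPrimes.nonempty R (J ⧸ LinearMap.range (LinearMap.lsmul R J r))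
  rw [AssociatedPrimes.mem_iff, isAssociatedPrime_iff] at hp
  obtain ⟨hpp, y, hy⟩ := hp
  have hmem : ∀ a, a ∈ p ↔ a • y = 0 := by
    intro a
    rw [hy, Submodule.mem_colon_singleton, Submodule.mem_bot]
  have hQp : Q ≤ p := by
    intro q hq
    rw [hmem]
    induction y using Submodule.Quotient.induction_on with
    | H z =>
      rw [← Submodule.Quotient.mk_smul, hQJ q hq z, Submodule.Quotient.mk_zero]
  have hrp : r ∈ p := by
    rw [hmem]
    induction y using Submodule.Quotient.induction_on with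
    | H z =>
      rw [← Submodule.Quotient.mk_smul, Submodule.Quotient.mk_eq_zero]
      exact ⟨z, rfl⟩
  have hpm := prime_eq_max Q hQdim r hr p hQp hrp
  refine ⟨y, ?_, ?_⟩
  · rintro rfl
    apply hpp.ne_top
    rw [Ideal.eq_top_iff_one, hmem, smul_zero]
  · intro a ha
    rw [← hmem, hpm]
    exact ha


open CategoryTheory.Abelian in
theorem main363
    (P Q : Ideal R) (hPQ : ∃ n : ℕ, IsLocalRing.maximalIdeal R ^ n ≤ P ⊔ Q)
    [IsReduced (R ⧸ Q)]
    (hQdim : ringKrullDim (R ⧸ Q) = 1)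
    (I J : Type u) [AddCommGroup I] [Module R I] [Module.Finite R I] [Nontrivial I]
    [AddCommGroup J] [Module R J] [Module.Finite R J] [Nontrivial J]
    (hPI : ∀ p ∈ P, ∀ x : I, p • x = 0) (hQJ : ∀ q ∈ Q, ∀ y : J, q • y = 0)
    (hJtf : ∀ r : R, Ideal.Quotient.mk Q r ∈ nonZeroDivisors (R ⧸ Q) → ∀ y : J, r • y = 0 → y = 0) :
    Nontrivial (Abelian.Ext (ModuleCat.of R I) (ModuleCat.of R J) 1) := by
  -- the regular element
  have hQtop : Q ≠ ⊤ := by
    rintro rfl
    haveI : Subsingleton (R ⧸ (⊤ : Ideal R)) := Ideal.Quotient.subsingleton_iff.mpr rfl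
    have := ringKrullDim_eq_bot_of_subsingleton (R := R ⧸ (⊤ : Ideal R))
    rw [hQdim] at this
    exact absurd this (by decide)
  haveI : Nontrivial (R ⧸ Q) := Ideal.Quotient.nontrivial_iff.mpr hQtop
  haveI : IsLocalRing (R ⧸ Q) :=
    IsLocalRing.of_surjective' (Ideal.Quotient.mk Q) Ideal.Quotient.mk_surjective
  obtain ⟨r', hr'm, hr'⟩ := exists_nzd_mem_maximalIdeal (A := R ⧸ Q) hQdim
  obtain ⟨r, rfl⟩ := Ideal.Quotient.mk_surjective r'
  have hrm : r ∈ IsLocalRing.maximalIdeal R := by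
    rw [IsLocalRing.mem_maximalIdeal, mem_nonunits_iff] at hr'm ⊢
    exact fun h => hr'm (h.map _)
  have hrJ := hJtf r hr'
  -- the short exact sequence
  let f : J →ₗ[R] J := LinearMap.lsmul R J r
  let S : ShortComplex (ModuleCat.{u} R) :=
    ShortComplex.moduleCatMk f (LinearMap.range f).mkQ (by
      ext y
      simp only [LinearMap.comp_apply, Submodule.mkQ_apply, LinearMap.zero_apply,
        Submodule.Quotient.mk_eq_zero]
      exact ⟨y, rfl⟩)
  have hS : S.ShortExact := by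
    refine ShortComplex.ShortExact.mk' ?_ ?_ ?_
    · rw [ShortComplex.moduleCat_exact_iff]
      intro x₂ hx₂
      have : (LinearMap.range f).mkQ x₂ = 0 := hx₂
      rw [Submodule.mkQ_apply, Submodule.Quotient.mk_eq_zero] at this
      exact this
    · rw [ModuleCat.mono_iff_injective]
      intro a b hab
      have h1 : r • (a - b) = 0 := by
        rw [smul_sub]
        exact sub_eq_zero.mpr hab
      exact sub_eq_zero.mp (hrJ _ h1)
    · rw [ModuleCat.epi_iff_surjective]
      exact Submodule.mkQ_surjective _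
  obtain ⟨y, hy0, hmy⟩ := exists_socle Q J hQdim hQJ r hrm hr'
  obtain ⟨ψ, hψ⟩ := exists_nonzero_hom_of_socle (R := R) I _ y hy0 hmy
  by_contra hnt
  rw [not_nontrivial_iff_subsingleton] at hnt
  let x₃ : Ext (ModuleCat.of R I) S.X₃ 0 := Ext.mk₀ (ModuleCat.ofHom ψ)
  haveI hnt' : Subsingleton (Ext (ModuleCat.of R I) S.X₁ 1) := hnt
  obtain ⟨x₂, hx₂⟩ := Ext.covariant_sequence_exact₃ (ModuleCat.of R I) hS x₃ (zero_add 1)
    (Subsingleton.elim _ _)
  obtain ⟨φ, rfl⟩ := (Ext.mk₀_bijective _ _).2 x₂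
  have hφ : φ = 0 := by
    apply ModuleCat.hom_ext
    exact hom_eq_zero P Q I J hPQ hPI hQJ r hrm hrJ φ.hom
  rw [hφ, Ext.mk₀_zero, Ext.zero_comp] at hx₂
  have : ModuleCat.ofHom ψ = 0 := (Ext.mk₀_eq_zero_iff _).mp hx₂.symm
  apply hψ
  have := congrArg ModuleCat.Hom.hom this
  simpa using this

end Groth.Agent.Helper27.Ext1
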