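import Mathlib
import Groth.Agent.Lib.Helper16.FF.AlgClosed
import Groth.Agent.Lib.Helper16.FF.Riemann
import Groth.Agent.Lib.Helper16.FF.Deg
import Groth.Agent.Lib.Helper16.FF.AutA

set_option autoImplicit false
set_option linter.style.haveILetI false

namespace Groth.Agent.Helper27.LLS

open FunFld
open Groth.Agent.Helper16.FF

variable {k K : Type*} [Field k] [Field K] [Algebra k K]

/-- dimension of `V(-nP)` -/
noncomputable def av (V : Submodule k K) (D : Divisor k K) (P : Place k K) (n : ℤ) : ℕ :=
  Module.finrank k ↥(V ⊓ L (D - Finsupp.single P n))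

lemma av_def (V : Submodule k K) (D : Divisor k K) (P : Place k K) (n : ℤ) :
    Module.finrank k ↥(V ⊓ L (D - Finsupp.single P n)) = av V D P n := rfl

theorem fd_of_le (hK : IsFunctionField k K) {V : Submodule k K} {D : Divisor k K} (hV : V ≤ L D) :
    FiniteDimensional k V := by
  have := finiteDimensional_L hK D
  exact Submodule.finiteDimensional_of_le hV

theorem sub_single_le {D : Divisor k K} (P : Place k K) {n n' : ℤ} (h : n ≤ n') :
    D - Finsupp.single P n' ≤ D - Finsupp.single P n := by
  classical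
  intro Q
  rw [Finsupp.sub_apply, Finsupp.sub_apply, Finsupp.single_apply, Finsupp.single_apply]
  split_ifs <;> omega

theorem av_anti (hK : IsFunctionField k K) {V : Submodule k K} {D : Divisor k K} (hV : V ≤ L D)
    (P : Place k K) {n n' : ℤ} (h : n ≤ n') : av V D P n' ≤ av V D P n := by
  have := fd_of_le hK hV
  have : FiniteDimensional k ↥(V ⊓ L (D - Finsupp.single P n)) :=
    Submodule.finiteDimensional_of_le inf_le_left
  exact Submodule.finrank_mono (inf_le_inf_left V (L_mono (sub_single_le P h)))

theorem av_le (hK : IsFunctionField k K) {V : Submodule k K} {D : Divisor k K} (hV : V ≤ L D)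
    (P : Place k K) (n : ℤ) : av V D P n ≤ Module.finrank k V := by
  have := fd_of_le hK hV
  exact Submodule.finrank_mono inf_le_left

theorem av_zero {V : Submodule k K} {D : Divisor k K} (hV : V ≤ L D) (P : Place k K) :
    av V D P 0 = Module.finrank k V := by
  unfold av
  rw [Finsupp.single_zero, sub_zero, inf_eq_left.mpr hV]

theorem deg_sub_single [IsAlgClosed k] (hK : IsFunctionField k K) (D : Divisor k K) (P : Place k K)
    (n : ℤ) : (D - Finsupp.single P n).deg = D.deg - n := by
  rw [Divisor.deg_sub, Divisor.deg_single, Place.deg_eq_one hK P]; simp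

theorem av_eq_zero [IsAlgClosed k] (hK : IsFunctionField k K) (V : Submodule k K) {D : Divisor k K}
    (P : Place k K) {n : ℤ} (h : D.deg < n) : av V D P n = 0 := by
  unfold av
  rw [L_eq_bot_of_deg_neg hK (by rw [deg_sub_single hK]; omega), inf_bot_eq]
  exact finrank_bot k K

/-- generic: intersecting with `W` does not increase relative dimension -/
theorem finrank_inf_add_le {M : Type*} [AddCommGroup M] [Module k M] (W A B : Submodule k M)
    [FiniteDimensional k B] (hAB : A ≤ B) :
    Module.finrank k ↥(W ⊓ B) + Module.finrank k A ≤ Module.finrank k B + Module.finrank k ↥(W ⊓ A) := by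
  have : FiniteDimensional k A := Submodule.finiteDimensional_of_le hAB
  have : FiniteDimensional k ↥(W ⊓ B) := Submodule.finiteDimensional_of_le inf_le_right
  have h1 := Submodule.finrank_sup_add_finrank_inf_eq (W ⊓ B) A
  have h2 : (W ⊓ B) ⊓ A = W ⊓ A := by
    rw [inf_assoc, inf_eq_right.mpr hAB]
  have h3 : Module.finrank k ↥((W ⊓ B) ⊔ A) ≤ Module.finrank k B :=
    Submodule.finrank_mono (sup_le inf_le_right hAB)
  rw [h2] at h1
  omega

theorem av_le_succ [IsAlgClosed k] (hK : IsFunctionField k K) (V : Submodule k K) (D : Divisor k K)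
    (P : Place k K) (n : ℤ) : av V D P n ≤ av V D P (n + 1) + 1 := by
  have hle : D - Finsupp.single P (n + 1) ≤ D - Finsupp.single P n := sub_single_le P (by omega)
  have := finiteDimensional_L hK (D - Finsupp.single P n)
  have h1 := finrank_inf_add_le V _ _ (L_mono (k := k) hle)
  have h2 := ell_sub_le hK hle
  rw [deg_sub_single hK, deg_sub_single hK] at h2
  unfold ell at h2
  unfold av
  omega

/-- `L(D - nP) ⊓ L(D - mQ) ≤ L(D - nP - mQ)` -/
theorem L_inf_le {D : Divisor k K} {P Q : Place k K} (hPQ : P ≠ Q) (n m : ℤ) :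
    L (D - Finsupp.single P n) ⊓ L (D - Finsupp.single Q m) ≤
      L (D - Finsupp.single P n - Finsupp.single Q m) := by
  classical
  rintro x ⟨hx1, hx2⟩ R
  have h1 := hx1 R
  have h2 := hx2 R
  by_cases hR : R = Q
  · subst hR
    refine h2.trans_eq ?_
    congr 1
    simp [Finsupp.single_apply, hPQ]
  · refine h1.trans_eq ?_
    congr 1
    simp [Finsupp.single_apply, Ne.symm hR]

theorem av_add_le [IsAlgClosed k] (hK : IsFunctionField k K) {V : Submodule k K} {D : Divisor k K}
    (hV : V ≤ L D) {P Q : Place k K} (hPQ : P ≠ Q) {n m : ℤ} (hnm : D.deg < n + m) :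
    av V D P n + av V D Q m ≤ Module.finrank k V := by
  have := fd_of_le hK hV
  have f1 : FiniteDimensional k ↥(V ⊓ L (D - Finsupp.single P n)) :=
    Submodule.finiteDimensional_of_le inf_le_left
  have f2 : FiniteDimensional k ↥(V ⊓ L (D - Finsupp.single Q m)) :=
    Submodule.finiteDimensional_of_le inf_le_left
  have h1 := Submodule.finrank_sup_add_finrank_inf_eq (V ⊓ L (D - Finsupp.single P n))
    (V ⊓ L (D - Finsupp.single Q m))
  have h2 : (V ⊓ L (D - Finsupp.single P n)) ⊓ (V ⊓ L (D - Finsupp.single Q m)) = ⊥ := by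
    rw [eq_bot_iff]
    have hb : L (D - Finsupp.single P n - Finsupp.single Q m) = ⊥ := by
      apply L_eq_bot_of_deg_neg hK
      rw [deg_sub_single hK, deg_sub_single hK]; omega
    rw [← hb]
    refine le_trans ?_ (L_inf_le hPQ n m)
    exact inf_le_inf inf_le_right inf_le_right
  have h3 : Module.finrank k ↥((V ⊓ L (D - Finsupp.single P n)) ⊔ (V ⊓ L (D - Finsupp.single Q m))) ≤
      Module.finrank k V := Submodule.finrank_mono (sup_le inf_le_left inf_le_left)
  rw [h2, finrank_bot] at h1
  unfold av
  omega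

/-- if the dimensions add up to more than `dim V`, a common nonzero member exists -/
theorem exists_common (hK : IsFunctionField k K) {V : Submodule k K} {D : Divisor k K}
    (hV : V ≤ L D) (P Q : Place k K) {n m : ℤ}
    (h : Module.finrank k V < av V D P n + av V D Q m) :
    ∃ x : K, x ≠ 0 ∧ x ∈ V ∧ x ∈ L (D - Finsupp.single P n) ∧ x ∈ L (D - Finsupp.single Q m) := by
  have := fd_of_le hK hV
  have f1 : FiniteDimensional k ↥(V ⊓ L (D - Finsupp.single P n)) :=
    Submodule.finiteDimensional_of_le inf_le_left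
  have f2 : FiniteDimensional k ↥(V ⊓ L (D - Finsupp.single Q m)) :=
    Submodule.finiteDimensional_of_le inf_le_left
  have h1 := Submodule.finrank_sup_add_finrank_inf_eq (V ⊓ L (D - Finsupp.single P n))
    (V ⊓ L (D - Finsupp.single Q m))
  have h3 : Module.finrank k ↥((V ⊓ L (D - Finsupp.single P n)) ⊔ (V ⊓ L (D - Finsupp.single Q m))) ≤
      Module.finrank k V := Submodule.finrank_mono (sup_le inf_le_left inf_le_left)
  unfold av at h
  have h4 : 0 < Module.finrank k
      ↥((V ⊓ L (D - Finsupp.single P n)) ⊓ (V ⊓ L (D - Finsupp.single Q m))) := by omega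
  have f3 : FiniteDimensional k
      ↥((V ⊓ L (D - Finsupp.single P n)) ⊓ (V ⊓ L (D - Finsupp.single Q m))) :=
    Submodule.finiteDimensional_of_le (inf_le_left.trans inf_le_left)
  rw [Module.finrank_pos_iff_exists_ne_zero] at h4
  obtain ⟨⟨x, hx⟩, hx0⟩ := h4
  refine ⟨x, fun h0 => hx0 (Subtype.ext h0), hx.1.1, hx.1.2, hx.2.2⟩

/-! ### weights -/

/-- `∑_{n=1}^{d} dim V(-nP)` -/
noncomputable def wt (V : Submodule k K) (D : Divisor k K) (P : Place k K) (d : ℕ) : ℕ :=
  ∑ j ∈ Finset.range d, av V D P ((j : ℤ) + 1)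

lemma wt_def (V : Submodule k K) (D : Divisor k K) (P : Place k K) (d : ℕ) :
    ∑ j ∈ Finset.range d, Module.finrank k ↥(V ⊓ L (D - Finsupp.single P ((j : ℤ) + 1))) =
      wt V D P d := rfl

/-- reflected form of the weight -/
lemma wt_reflect (V : Submodule k K) (D : Divisor k K) (P : Place k K) (d : ℕ) :
    wt V D P d = ∑ j ∈ Finset.range d, av V D P ((d : ℤ) - j) := by
  unfold wt
  rw [← Finset.sum_range_reflect]
  apply Finset.sum_congr rfl
  intro j hj
  rw [Finset.mem_range] at hj
  congr 1
  have : ((d - 1 - j : ℕ) : ℤ) = (d : ℤ) - 1 - j := by omega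
  rw [this]; ring

theorem wt_add_le [IsAlgClosed k] (hK : IsFunctionField k K) {V : Submodule k K} {D : Divisor k K}
    (hV : V ≤ L D) {P Q : Place k K} (hPQ : P ≠ Q) {d : ℕ} (hD : D.deg = d) :
    wt V D P d + wt V D Q d ≤ Module.finrank k V * d := by
  rw [wt_reflect V D Q d]
  unfold wt
  rw [← Finset.sum_add_distrib]
  calc _ ≤ ∑ _j ∈ Finset.range d, Module.finrank k V := by
        apply Finset.sum_le_sum
        intro j _
        exact av_add_le hK hV hPQ (by rw [hD]; omega)
    _ = Module.finrank k V * d := by rw [Finset.sum_const, Finset.card_range, smul_eq_mul, mul_comm]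

end Groth.Agent.Helper27.LLS
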