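import Mathlib
import Groth.Agent.Lib.Helper27.LLSa
import Groth.Agent.Lib.Helper16.FF.AutB

set_option autoImplicit false
set_option linter.style.haveILetI false

namespace Groth.Agent.Helper27.LLS

open FunFld
open Groth.Agent.Helper16.FF
open scoped WithZero

variable {k K : Type*} [Field k] [Field K] [Algebra k K]

/-- an effective divisor of degree `≤ 0` is zero (alg. closed base) -/
theorem eq_zero_of_nonneg_of_deg_le [IsAlgClosed k] (hK : IsFunctionField k K) {E : Divisor k K}
    (hE : 0 ≤ E) (hdeg : E.deg ≤ 0) : E = 0 := by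
  classical
  ext R
  have h1 : Finsupp.single R (E R) ≤ E := by
    intro S
    rw [Finsupp.single_apply]
    split_ifs with h
    · subst h; exact le_rfl
    · exact hE S
  have h2 := Divisor.deg_mono h1
  rw [Divisor.deg_single, Place.deg_eq_one hK R] at h2
  have h3 : 0 ≤ E R := hE R
  simp only [Nat.cast_one, mul_one] at h2
  rw [Finsupp.zero_apply]
  omega

theorem const_of_div_eq_zero (hK : IsFunctionField k K) {x : K} (hx : x ≠ 0) (h : div k x = 0) :
    ∃ c : k, c ≠ 0 ∧ x = algebraMap k K c := by
  have hx' : x ∈ L (0 : Divisor k K) := by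
    rw [mem_L_iff hK _ hx, h, neg_zero]
  rw [L_zero_eq_one hK, Submodule.mem_one] at hx'
  obtain ⟨c, rfl⟩ := hx'
  refine ⟨c, ?_, rfl⟩
  rintro rfl
  simp at hx

theorem div_div (hK : IsFunctionField k K) {x y : K} (hx : x ≠ 0) (hy : y ≠ 0) :
    div k (x / y) = div k x - div k y := by
  rw [div_eq_mul_inv, div_mul hK hx (inv_ne_zero hy), div_inv hK, sub_eq_add_neg]

theorem algebraMap_mem_L (hK : IsFunctionField k K) {D : Divisor k K} (hD : 0 ≤ D) (c : k) :
    algebraMap k K c ∈ L D := by
  apply L_mono hD
  rw [L_zero_eq_one hK, Submodule.mem_one]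
  exact ⟨c, rfl⟩

/-- on a genus zero curve any two distinct points are the zero and pole of a function -/
theorem exists_coord [IsAlgClosed k] (hK : IsFunctionField k K) (hg : genus k K = 0)
    {P P' : Place k K} (hPP' : P ≠ P') :
    ∃ t : K, t ≠ 0 ∧ div k t = Finsupp.single P 1 - Finsupp.single P' 1 := by
  classical
  have h1 := riemann_le hK (Finsupp.single P' 1 : Divisor k K)
  rw [Divisor.deg_single, Place.deg_eq_one hK P', hg] at h1
  have h2 : 2 ≤ ell (Finsupp.single P' 1 : Divisor k K) := by
    have : (2 : ℤ) ≤ ell (Finsupp.single P' 1 : Divisor k K) := by simp at h1; omega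
    exact_mod_cast this
  obtain ⟨x, hxL, hxc⟩ := exists_nonconstant_mem_L hK h2
  have hxP : P.1 x ≤ 1 := by
    have := hxL P
    rwa [Finsupp.single_apply, if_neg (Ne.symm hPP'), WithZero.exp_zero] at this
  obtain ⟨c, hc⟩ := exists_const_sub_lt_one hK (Place.deg_eq_one hK P) hxP
  have hpos : (0 : Divisor k K) ≤ Finsupp.single P' 1 := single_nonneg P' (by norm_num)
  set t := x - algebraMap k K c with ht
  have ht0 : t ≠ 0 := by
    intro h0
    apply hxc
    exact ⟨c, (sub_eq_zero.mp h0).symm⟩
  have htL : t ∈ L (Finsupp.single P' 1 : Divisor k K) :=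
    Submodule.sub_mem _ hxL (algebraMap_mem_L hK hpos c)
  refine ⟨t, ht0, ?_⟩
  rw [mem_L_iff hK _ ht0] at htL
  have hordP : 0 < (div k t) P := by
    rw [div_apply hK]
    exact (Place.val_lt_one_iff P ht0).mp hc
  have hE : 0 ≤ div k t + Finsupp.single P' 1 - Finsupp.single P 1 := by
    intro R
    have h3 := htL R
    simp only [Finsupp.coe_neg, Pi.neg_apply, Finsupp.single_apply] at h3
    simp only [Finsupp.coe_sub, Finsupp.coe_add, Pi.sub_apply, Pi.add_apply, Finsupp.single_apply,
      Finsupp.coe_zero, Pi.zero_apply]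
    by_cases hR : P = R
    · subst hR
      rw [if_neg (Ne.symm hPP'), if_pos rfl]
      omega
    · rw [if_neg hR]
      split_ifs at h3 ⊢ <;> omega
  have hdeg : (div k t + Finsupp.single P' 1 - Finsupp.single P 1).deg ≤ 0 := by
    rw [Divisor.deg_sub, Divisor.deg_add, deg_div hK, Divisor.deg_single, Divisor.deg_single,
      Place.deg_eq_one hK, Place.deg_eq_one hK]
    simp
  have := eq_zero_of_nonneg_of_deg_le hK hE hdeg
  have h4 : div k t = (div k t + Finsupp.single P' 1 - Finsupp.single P 1) +
      (Finsupp.single P 1 - Finsupp.single P' 1) := by abel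
  rw [h4, this, zero_add]

/-- `t - τ` is a uniformizer at `Q` if `t` has a unique simple pole elsewhere -/
theorem val_sub_const_eq [IsAlgClosed k] (hK : IsFunctionField k K) {P P' Q : Place k K}
    (hQP' : Q ≠ P') {t : K} (ht : div k t = Finsupp.single P 1 - Finsupp.single P' 1)
    (hPP' : P ≠ P') {τ : k} (hτ : Q.1 (t - algebraMap k K τ) < 1) :
    Q.1 (t - algebraMap k K τ) = WithZero.exp (-1 : ℤ) := by
  classical
  have hpos : (0 : Divisor k K) ≤ Finsupp.single P' 1 := single_nonneg P' (by norm_num)
  have ht0 : t ≠ 0 := by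
    rintro rfl
    rw [div_zero hK] at ht
    have := congrArg (fun E : Divisor k K => E P) ht
    simp [Finsupp.single_apply, Ne.symm hPP'] at this
  have htL : t ∈ L (Finsupp.single P' 1 : Divisor k K) := by
    rw [mem_L_iff hK _ ht0, ht]
    intro R
    simp only [Finsupp.coe_neg, Pi.neg_apply, Finsupp.coe_sub, Pi.sub_apply, Finsupp.single_apply]
    split_ifs <;> omega
  set s := t - algebraMap k K τ with hs
  have hs0 : s ≠ 0 := by
    intro h0
    have h1 : t = algebraMap k K τ := sub_eq_zero.mp h0
    rw [h1, div_algebraMap hK] at ht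
    have := congrArg (fun E : Divisor k K => E P) ht
    simp [Finsupp.single_apply, Ne.symm hPP'] at this
  have hsL : s ∈ L (Finsupp.single P' 1 : Divisor k K) :=
    Submodule.sub_mem _ htL (algebraMap_mem_L hK hpos τ)
  rw [mem_L_iff hK _ hs0] at hsL
  have hord1 : 0 < Q.ord s := (Place.val_lt_one_iff Q hs0).mp hτ
  have hord2 : Q.ord s ≤ 1 := by
    by_contra hcon
    push Not at hcon
    have hE : 0 ≤ div k s + Finsupp.single P' 1 - Finsupp.single Q 2 := by
      intro R
      have h3 := hsL R
      simp only [Finsupp.coe_neg, Pi.neg_apply, Finsupp.single_apply] at h3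
      simp only [Finsupp.coe_sub, Finsupp.coe_add, Pi.sub_apply, Pi.add_apply, Finsupp.single_apply,
        Finsupp.coe_zero, Pi.zero_apply]
      by_cases hR : Q = R
      · subst hR
        rw [if_neg (Ne.symm hQP'), if_pos rfl, div_apply hK]
        omega
      · rw [if_neg hR]
        split_ifs at h3 ⊢ <;> omega
    have := Divisor.deg_mono hE
    rw [Divisor.deg_zero, Divisor.deg_sub, Divisor.deg_add, deg_div hK, Divisor.deg_single,
      Divisor.deg_single, Place.deg_eq_one hK, Place.deg_eq_one hK] at this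
    simp at this
  have : Q.ord s = 1 := by omega
  rw [Place.val_eq_exp_neg_ord Q hs0, this]

end Groth.Agent.Helper27.LLS
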