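import Mathlib
import Groth.Agent.Lib.Helper27.LLSb

set_option autoImplicit false
set_option linter.style.haveILetI false

namespace Groth.Agent.Helper27.LLS

open FunFld
open Groth.Agent.Helper16.FF
open scoped WithZero

variable {k K : Type*} [Field k] [Field K] [Algebra k K]

/-- second-order expansion of `(s + τ)^m` with integral remainder -/
theorem exists_expansion (Q : Place k K) (s : K) (τ : k) (hs : Q.1 s ≤ 1) (m : ℕ) :
    ∃ w : K, Q.1 w ≤ 1 ∧ (s + algebraMap k K τ) ^ (m + 1) =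
      algebraMap k K (τ ^ (m + 1)) + algebraMap k K ((m + 1 : ℕ) * τ ^ m) * s + s ^ 2 * w := by
  induction m with
  | zero => exact ⟨0, by simp, by simp; ring⟩
  | succ m ih =>
    obtain ⟨w, hw, he⟩ := ih
    refine ⟨algebraMap k K ((m + 1 : ℕ) * τ ^ m) + w * (s + algebraMap k K τ), ?_, ?_⟩
    · refine (Q.1.map_add _ _).trans (max_le (Q.2.1 _) ?_)
      rw [map_mul]
      have h1 : Q.1 (s + algebraMap k K τ) ≤ 1 :=
        (Q.1.map_add _ _).trans (max_le hs (Q.2.1 _))
      exact mul_le_one' hw h1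
    · rw [pow_succ, he]
      simp only [map_mul, map_pow, map_add, map_one, map_natCast, Nat.cast_add, Nat.cast_one]
      ring

/-- the key local computation: `e t^m - c` cannot vanish doubly at `Q` (char. zero) -/
theorem not_double [CharZero k] (Q : Place k K) {s : K} (hs : Q.1 s = WithZero.exp (-1 : ℤ))
    {τ : k} (hτ : τ ≠ 0) {e : k} (he : e ≠ 0) (c : k) (m : ℕ) :
    ¬ Q.1 (algebraMap k K e * (s + algebraMap k K τ) ^ (m + 1) - algebraMap k K c) ≤ WithZero.exp (-2 : ℤ) := by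
  have hs1 : Q.1 s ≤ 1 := by
    rw [hs, ← WithZero.exp_zero]; exact WithZero.exp_le_exp.mpr (by norm_num)
  obtain ⟨w, hw, hexp⟩ := exists_expansion Q s τ hs1 m
  set X : K := algebraMap k K (e * τ ^ (m + 1) - c) with hX
  set Y : K := algebraMap k K (e * ((m + 1 : ℕ) * τ ^ m)) * s with hY
  set Z : K := algebraMap k K e * s ^ 2 * w with hZ
  have htot : algebraMap k K e * (s + algebraMap k K τ) ^ (m + 1) - algebraMap k K c = X + (Y + Z) := by
    rw [hexp, hX, hY, hZ]
    simp only [map_mul, map_sub, map_pow]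
    ring
  have hcoef : e * ((m + 1 : ℕ) * τ ^ m) ≠ 0 := by
    apply mul_ne_zero he
    apply mul_ne_zero
    · exact_mod_cast Nat.succ_ne_zero m
    · exact pow_ne_zero _ hτ
  have hvY : Q.1 Y = WithZero.exp (-1 : ℤ) := by
    rw [hY, map_mul, Place.val_algebraMap Q hcoef, one_mul, hs]
  have hvZ : Q.1 Z ≤ WithZero.exp (-2 : ℤ) := by
    rw [hZ, map_mul, map_mul, map_pow, Place.val_algebraMap Q he, one_mul, hs]
    calc WithZero.exp (-1 : ℤ) ^ 2 * Q.1 w ≤ WithZero.exp (-1 : ℤ) ^ 2 * 1 := by gcongr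
      _ = WithZero.exp (-2 : ℤ) := by rw [mul_one, ← WithZero.exp_nsmul]; norm_num
  have hlt : WithZero.exp (-2 : ℤ) < WithZero.exp (-1 : ℤ) := WithZero.exp_lt_exp.mpr (by norm_num)
  have hvYZ : Q.1 (Y + Z) = WithZero.exp (-1 : ℤ) := by
    rw [Valuation.map_add_eq_of_lt_left _ (by rw [hvY]; exact lt_of_le_of_lt hvZ hlt), hvY]
  rw [htot]
  intro hcon
  by_cases hX0 : e * τ ^ (m + 1) - c = 0
  · rw [hX, hX0, map_zero, zero_add, hvYZ] at hcon
    exact absurd hcon (not_le.mpr hlt)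
  · have hvX : Q.1 X = 1 := Place.val_algebraMap Q hX0
    have h1 : WithZero.exp (-1 : ℤ) < (1 : ℤᵐ⁰) := by
      rw [← WithZero.exp_zero]; exact WithZero.exp_lt_exp.mpr (by norm_num)
    rw [Valuation.map_add_eq_of_lt_left _ (by rw [hvX, hvYZ]; exact h1), hvX] at hcon
    exact absurd hcon (not_le.mpr (lt_trans hlt h1))

end Groth.Agent.Helper27.LLS
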