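import Mathlib
import Groth.Agent.Lib.Helper27.LLSc

set_option autoImplicit false
set_option linter.style.haveILetI false

namespace Groth.Agent.Helper27.LLS

open FunFld
open Groth.Agent.Helper16.FF
open scoped WithZero

variable {k K : Type*} [Field k] [Field K] [Algebra k K]

theorem cusp_contra [IsAlgClosed k] [CharZero k] (hK : IsFunctionField k K) (hg0 : genus k K = 0)
    {r : ℕ} {D : Divisor k K} {V : Submodule k K} (hV : V ≤ L D)
    (hVr : Module.finrank k V = r + 1) {Q : Place k K} (hcusp : r ≤ av V D Q 2)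
    {P P' : Place k K} (hP : P ≠ Q) (hP' : P' ≠ Q) (hPP' : P ≠ P')
    {x y : K} (hx : x ∈ V) (hy : y ∈ V) (hx0 : x ≠ 0) (hy0 : y ≠ 0)
    (hyQ : (div k y + D) Q = 0) (n : ℕ)
    (hdiv : div k (x / y) = Finsupp.single P ((n : ℤ) + 1) - Finsupp.single P' ((n : ℤ) + 1)) :
    False := by
  classical
  have hfd := fd_of_le hK hV
  have hxy0 : x / y ≠ 0 := div_ne_zero hx0 hy0
  -- x / y is not constant
  have hnc : ∀ c : k, x / y ≠ algebraMap k K c := by
    intro c hc
    rw [hc, div_algebraMap hK] at hdiv
    have := congrArg (fun E : Divisor k K => E P) hdiv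
    simp only [Finsupp.coe_zero, Pi.zero_apply, Finsupp.coe_sub, Pi.sub_apply,
      Finsupp.single_apply, if_pos, if_neg (Ne.symm hPP')] at this
    omega
  -- linear independence
  have hli : LinearIndependent k ![x, y] := by
    rw [LinearIndependent.pair_iff]
    intro a b hab
    by_cases ha : a = 0
    · subst ha
      rw [zero_smul, zero_add] at hab
      exact ⟨rfl, (smul_eq_zero.mp hab).resolve_right hy0⟩
    · exfalso
      apply hnc (-(b / a))
      rw [div_eq_iff hy0, Algebra.smul_def, Algebra.smul_def] at *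
      have h1 : algebraMap k K a * x = - (algebraMap k K b * y) := eq_neg_of_add_eq_zero_left hab
      have ha' : algebraMap k K a ≠ 0 := by simpa using ha
      rw [map_neg, map_div₀]
      field_simp
      linear_combination h1
  set W : Submodule k K := Submodule.span k (Set.range ![x, y]) with hW
  have hWr : Module.finrank k W = 2 := by
    rw [hW, finrank_span_eq_card hli]; simp
  have hWV : W ≤ V := by
    rw [hW, Submodule.span_le]
    rintro _ ⟨i, rfl⟩
    fin_cases i
    · exact hx
    · exact hy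
  have hWfd : FiniteDimensional k W := Submodule.finiteDimensional_of_le hWV
  have hCfd : FiniteDimensional k ↥(V ⊓ L (D - Finsupp.single Q 2)) :=
    Submodule.finiteDimensional_of_le inf_le_left
  have h1 := Submodule.finrank_sup_add_finrank_inf_eq W (V ⊓ L (D - Finsupp.single Q 2))
  have h3 : Module.finrank k ↥(W ⊔ (V ⊓ L (D - Finsupp.single Q 2))) ≤ Module.finrank k V :=
    Submodule.finrank_mono (sup_le hWV inf_le_left)
  unfold av at hcusp
  have h4 : 0 < Module.finrank k ↥(W ⊓ (V ⊓ L (D - Finsupp.single Q 2))) := by omega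
  have f3 : FiniteDimensional k ↥(W ⊓ (V ⊓ L (D - Finsupp.single Q 2))) :=
    Submodule.finiteDimensional_of_le inf_le_left
  rw [Module.finrank_pos_iff_exists_ne_zero] at h4
  obtain ⟨⟨h, hh⟩, hh0⟩ := h4
  have hh0' : h ≠ 0 := fun h0 => hh0 (Subtype.ext h0)
  have hhW : h ∈ W := hh.1
  have hhL : h ∈ L (D - Finsupp.single Q 2) := hh.2.2
  rw [hW, Matrix.range_cons, Matrix.range_cons, Matrix.range_empty, Set.union_empty,
    Set.union_singleton, Submodule.mem_span_pair] at hhW
  obtain ⟨a, b, hab⟩ := hhW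
  -- valuations at Q
  have hvy : Q.1 y = WithZero.exp (D Q) := by
    rw [Place.val_eq_exp_neg_ord Q hy0]
    congr 1
    rw [Finsupp.add_apply, div_apply hK] at hyQ
    omega
  have hvh : Q.1 h ≤ WithZero.exp (D Q - 2) := by
    have := hhL Q
    rwa [Finsupp.sub_apply, Finsupp.single_apply, if_pos rfl] at this
  have hvhy : Q.1 (h / y) ≤ WithZero.exp (-2 : ℤ) := by
    rw [map_div₀, hvy, div_eq_mul_inv, ← WithZero.exp_neg]
    calc Q.1 h * WithZero.exp (-(D Q)) ≤ WithZero.exp (D Q - 2) * WithZero.exp (-(D Q)) := by gcongr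
      _ = WithZero.exp (-2 : ℤ) := by rw [← WithZero.exp_add]; congr 1; ring
  -- the coordinate
  obtain ⟨t, ht0, ht⟩ := exists_coord hK hg0 hPP'
  have hdt : div k (t ^ (n + 1)) =
      Finsupp.single P ((n : ℤ) + 1) - Finsupp.single P' ((n : ℤ) + 1) := by
    rw [div_pow hK, ht, smul_sub, Finsupp.smul_single, Finsupp.smul_single]
    simp
  have hdiv2 : div k ((x / y) / t ^ (n + 1)) = 0 := by
    rw [div_div hK hxy0 (pow_ne_zero _ ht0), hdiv, hdt, sub_self]
  obtain ⟨e, he0, he⟩ := const_of_div_eq_zero hK (div_ne_zero hxy0 (pow_ne_zero _ ht0)) hdiv2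
  have hxy : x / y = algebraMap k K e * t ^ (n + 1) := by
    rw [div_eq_iff (pow_ne_zero _ ht0)] at he
    exact he
  have hvt : Q.1 t = 1 := by
    rw [Place.val_eq_exp_neg_ord Q ht0, ← div_apply hK, ht]
    simp [Finsupp.single_apply, hP, hP']
  obtain ⟨τ, hτ⟩ := exists_const_sub_lt_one hK (Place.deg_eq_one hK Q) (le_of_eq hvt)
  have hτ0 : τ ≠ 0 := by
    rintro rfl
    rw [map_zero, sub_zero, hvt] at hτ
    exact lt_irrefl _ hτ
  have hvs := val_sub_const_eq hK (Ne.symm hP') ht hPP' hτ
  have hts : t = (t - algebraMap k K τ) + algebraMap k K τ := by ring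
  have hhy : h / y = algebraMap k K b * (x / y) + algebraMap k K a := by
    rw [← hab, Algebra.smul_def, Algebra.smul_def]
    field_simp
    ring
  by_cases hb : b = 0
  · subst hb
    rw [map_zero, zero_mul, zero_add] at hhy
    by_cases ha : a = 0
    · subst ha
      rw [zero_smul, zero_smul, zero_add] at hab
      exact hh0' hab.symm
    · rw [hhy, Place.val_algebraMap Q ha] at hvhy
      have : WithZero.exp (-2 : ℤ) < (1 : ℤᵐ⁰) := by
        rw [← WithZero.exp_zero]; exact WithZero.exp_lt_exp.mpr (by norm_num)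
      exact absurd hvhy (not_le.mpr this)
  · have hbe : b * e ≠ 0 := mul_ne_zero hb he0
    apply not_double Q hvs hτ0 hbe (-a) n
    rw [← hts]
    have : algebraMap k K (b * e) * t ^ (n + 1) - algebraMap k K (-a) = h / y := by
      rw [hhy, hxy, map_mul, map_neg]; ring
    rw [this]
    exact hvhy

end Groth.Agent.Helper27.LLS
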