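import Mathlib
import Groth.Agent.Lib.Helper27.LLSd

set_option autoImplicit false
set_option linter.style.haveILetI false

namespace Groth.Agent.Helper27.LLS

open FunFld
open Groth.Agent.Helper16.FF
open scoped WithZero

variable {k K : Type*} [Field k] [Field K] [Algebra k K]

/-- a degree zero divisor supported on `{P, P'}` -/
theorem eq_single_sub_single [IsAlgClosed k] (hK : IsFunctionField k K) {E : Divisor k K}
    {P P' : Place k K} (hPP' : P ≠ P') (hsupp : ∀ R, R ≠ P → R ≠ P' → E R = 0) (hdeg : E.deg = 0) :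
    E = Finsupp.single P (E P) - Finsupp.single P' (E P) := by
  classical
  have h1 : E = Finsupp.single P (E P) + Finsupp.single P' (E P') := by
    ext R
    simp only [Finsupp.coe_add, Pi.add_apply, Finsupp.single_apply]
    by_cases h1 : P = R
    · subst h1; rw [if_pos rfl, if_neg (Ne.symm hPP')]; ring
    · by_cases h2 : P' = R
      · subst h2; rw [if_neg h1, if_pos rfl]; ring
      · rw [if_neg h1, if_neg h2, hsupp R (Ne.symm h1) (Ne.symm h2)]; ring
  have h2 : E P + E P' = 0 := by
    have := congrArg Divisor.deg h1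
    rw [hdeg, Divisor.deg_add, Divisor.deg_single, Divisor.deg_single, Place.deg_eq_one hK,
      Place.deg_eq_one hK] at this
    simp at this
    omega
  have h3 : E P' = - E P := by omega
  conv_lhs => rw [h1, h3]
  rw [Finsupp.single_neg, sub_eq_add_neg]

theorem eq_zero_of_supp_single [IsAlgClosed k] (hK : IsFunctionField k K) {E : Divisor k K}
    {P : Place k K} (hsupp : ∀ R, R ≠ P → E R = 0) (hdeg : E.deg = 0) : E = 0 := by
  classical
  have h1 : E = Finsupp.single P (E P) := by
    ext R
    simp only [Finsupp.single_apply]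
    by_cases h1 : P = R
    · subst h1; rw [if_pos rfl]
    · rw [if_neg h1, hsupp R (Ne.symm h1)]
  have := congrArg Divisor.deg h1
  rw [hdeg, Divisor.deg_single, Place.deg_eq_one hK] at this
  simp at this
  rw [h1, ← this, Finsupp.single_zero]

/-- S18175 -/
theorem dep_of_cusp [IsAlgClosed k] [CharZero k] (hK : IsFunctionField k K) (hg0 : genus k K = 0)
    {r : ℕ} {D : Divisor k K} {V : Submodule k K} (hV : V ≤ L D)
    (hVr : Module.finrank k V = r + 1) {Q : Place k K} (hcusp : r ≤ av V D Q 2)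
    {P P' : Place k K} (hP : P ≠ Q) (hP' : P' ≠ Q)
    {f g : K} (hf : f ∈ V) (hg : g ∈ V) (hf0 : f ≠ 0) (hg0' : g ≠ 0)
    (hfs : ∀ R : Place k K, R ≠ P → R ≠ P' → (div k f + D) R = 0)
    (hgs : ∀ R : Place k K, R ≠ P → R ≠ P' → (div k g + D) R = 0) :
    ∃ c : k, g = c • f := by
  classical
  have hgf0 : g / f ≠ 0 := div_ne_zero hg0' hf0
  have hE : ∀ R, R ≠ P → R ≠ P' → (div k (g / f)) R = 0 := by
    intro R h1 h2
    have a1 := hfs R h1 h2
    have a2 := hgs R h1 h2
    rw [div_div hK hg0' hf0]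
    simp only [Finsupp.coe_add, Pi.add_apply, Finsupp.coe_sub, Pi.sub_apply] at *
    omega
  have hdeg : (div k (g / f)).deg = 0 := deg_div hK _
  have hconst : div k (g / f) = 0 → ∃ c : k, g = c • f := by
    intro h0
    obtain ⟨c, -, hc⟩ := const_of_div_eq_zero hK hgf0 h0
    refine ⟨c, ?_⟩
    rw [div_eq_iff hf0] at hc
    rw [hc, Algebra.smul_def]
  by_cases hPP' : P = P'
  · subst hPP'
    exact hconst (eq_zero_of_supp_single hK (fun R hR => hE R hR hR) hdeg)
  · have hm := eq_single_sub_single hK hPP' hE hdeg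
    set m := (div k (g / f)) P with hm'
    rcases lt_trichotomy m 0 with hneg | hzero | hpos
    · -- use f / g
      exfalso
      obtain ⟨n, hn⟩ : ∃ n : ℕ, -m = (n : ℤ) + 1 := ⟨(-m - 1).toNat, by omega⟩
      have hfg : div k (f / g) = Finsupp.single P ((n : ℤ) + 1) - Finsupp.single P' ((n : ℤ) + 1) := by
        have : f / g = (g / f)⁻¹ := by rw [inv_div]
        rw [this, div_inv hK, hm, ← hn, Finsupp.single_neg, Finsupp.single_neg]
        abel
      exact cusp_contra hK hg0 hV hVr hcusp hP hP' hPP' hf hg hf0 hg0' (hgs Q (Ne.symm hP) (Ne.symm hP')) n hfg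
    · apply hconst
      rw [hm, hzero, Finsupp.single_zero, Finsupp.single_zero, sub_zero]
    · exfalso
      obtain ⟨n, hn⟩ : ∃ n : ℕ, m = (n : ℤ) + 1 := ⟨(m - 1).toNat, by omega⟩
      rw [hn] at hm
      exact cusp_contra hK hg0 hV hVr hcusp hP hP' hPP' hg hf hg0' hf0 (hfs Q (Ne.symm hP) (Ne.symm hP')) n hm

end Groth.Agent.Helper27.LLS
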