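import Mathlib
import Groth.Agent.Lib.Helper27.LLSe

set_option autoImplicit false
set_option linter.style.haveILetI false

namespace Groth.Agent.Helper27.LLS

open FunFld
open Groth.Agent.Helper16.FF
open scoped WithZero

variable {k K : Type*} [Field k] [Field K] [Algebra k K]

theorem exact_div [IsAlgClosed k] (hK : IsFunctionField k K) {D : Divisor k K} {P Q : Place k K}
    (hPQ : P ≠ Q) {n m : ℤ} (hnm : n + m = D.deg) {h : K} (h0 : h ≠ 0)
    (h1 : h ∈ L (D - Finsupp.single P n)) (h2 : h ∈ L (D - Finsupp.single Q m)) :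
    div k h + D = Finsupp.single P n + Finsupp.single Q m := by
  have hL := L_inf_le hPQ n m ⟨h1, h2⟩
  rw [mem_L_iff hK _ h0] at hL
  have hE : 0 ≤ div k h + D - Finsupp.single P n - Finsupp.single Q m := by
    have := sub_nonneg.mpr hL
    have e : div k h - -(D - Finsupp.single P n - Finsupp.single Q m) =
        div k h + D - Finsupp.single P n - Finsupp.single Q m := by abel
    rwa [e] at this
  have hdeg : (div k h + D - Finsupp.single P n - Finsupp.single Q m).deg ≤ 0 := by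
    rw [Divisor.deg_sub, Divisor.deg_sub, Divisor.deg_add, deg_div hK, Divisor.deg_single,
      Divisor.deg_single, Place.deg_eq_one hK, Place.deg_eq_one hK]
    simp; omega
  have := eq_zero_of_nonneg_of_deg_le hK hE hdeg
  have e : div k h + D = (div k h + D - Finsupp.single P n - Finsupp.single Q m) +
      (Finsupp.single P n + Finsupp.single Q m) := by abel
  rw [e, this, zero_add]

/-- counting lemma -/
theorem exists_two_of_sum {d M : ℕ} (c : ℕ → ℕ) (hc : ∀ n ≤ d, c n ≤ M + 1)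
    (hs : M * (d + 1) + 2 ≤ ∑ n ∈ Finset.range (d + 1), c n) :
    ∃ n₁ n₂, n₁ < n₂ ∧ n₂ ≤ d ∧ M + 1 ≤ c n₁ ∧ M + 1 ≤ c n₂ := by
  classical
  set S := (Finset.range (d + 1)).filter (fun n => M + 1 ≤ c n) with hS
  have h1 : ∑ n ∈ Finset.range (d + 1), c n ≤
      ∑ n ∈ Finset.range (d + 1), (M + if M + 1 ≤ c n then 1 else 0) := by
    apply Finset.sum_le_sum
    intro n hn
    rw [Finset.mem_range] at hn
    have := hc n (by omega)
    split_ifs <;> omega
  rw [Finset.sum_add_distrib, Finset.sum_const, Finset.card_range, smul_eq_mul,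
    Finset.sum_boole] at h1
  have h2 : 1 < S.card := by
    have : ((Finset.range (d + 1)).filter (fun n => M + 1 ≤ c n)).card = S.card := rfl
    simp only [Nat.cast_id] at h1
    nlinarith
  obtain ⟨a, ha, b, hb, hab⟩ := Finset.one_lt_card.mp h2
  rw [hS, Finset.mem_filter, Finset.mem_range] at ha hb
  rcases lt_or_gt_of_ne hab with h | h
  · exact ⟨a, b, h, by omega, ha.2, hb.2⟩
  · exact ⟨b, a, h, by omega, hb.2, ha.2⟩

theorem sum_av_eq (V : Submodule k K) (D : Divisor k K) (P : Place k K) (d : ℕ) :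
    ∑ n ∈ Finset.range (d + 1), av V D P (n : ℤ) = wt V D P d + av V D P 0 := by
  rw [Finset.sum_range_succ']
  unfold wt
  congr 1

theorem sum_av_reflect (V : Submodule k K) (D : Divisor k K) (P : Place k K) (d : ℕ) :
    ∑ n ∈ Finset.range (d + 1), av V D P ((d : ℤ) - n) = wt V D P d + av V D P 0 := by
  rw [← sum_av_eq, ← Finset.sum_range_reflect]
  apply Finset.sum_congr rfl
  intro j hj
  rw [Finset.mem_range] at hj
  congr 1
  omega

theorem two_sections [IsAlgClosed k] (hK : IsFunctionField k K) {d r : ℕ} {D : Divisor k K}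
    (hD : D.deg = d) {V : Submodule k K} (hV : V ≤ L D) (hVr : Module.finrank k V = r + 1)
    {P Q : Place k K} (hPQ : P ≠ Q) (hw : (r + 1) * d + 1 ≤ wt V D P d + wt V D Q d + r) :
    ∃ n₁ n₂ : ℕ, n₁ < n₂ ∧ n₂ ≤ d ∧ ∃ h₁ h₂ : K, h₁ ∈ V ∧ h₂ ∈ V ∧ h₁ ≠ 0 ∧ h₂ ≠ 0 ∧
      div k h₁ + D = Finsupp.single P (n₁ : ℤ) + Finsupp.single Q ((d : ℤ) - n₁) ∧
      div k h₂ + D = Finsupp.single P (n₂ : ℤ) + Finsupp.single Q ((d : ℤ) - n₂) := by
  set c : ℕ → ℕ := fun n => av V D P (n : ℤ) + av V D Q ((d : ℤ) - n) with hc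
  have hc1 : ∀ n ≤ d, c n ≤ (r + 1) + 1 := by
    intro n _
    have h1 := av_le_succ hK V D P (n : ℤ)
    have h2 := av_add_le hK hV hPQ (n := (n : ℤ) + 1) (m := (d : ℤ) - n) (by rw [hD]; omega)
    rw [hVr] at h2
    simp only [hc]
    omega
  have hs : (r + 1) * (d + 1) + 2 ≤ ∑ n ∈ Finset.range (d + 1), c n := by
    simp only [hc]
    rw [Finset.sum_add_distrib, sum_av_eq, sum_av_reflect, av_zero hV, av_zero hV, hVr]
    nlinarith
  obtain ⟨n₁, n₂, h12, h2d, hn1, hn2⟩ := exists_two_of_sum c hc1 hs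
  have key : ∀ n : ℕ, n ≤ d → (r + 1) + 1 ≤ c n → ∃ h : K, h ∈ V ∧ h ≠ 0 ∧
      div k h + D = Finsupp.single P (n : ℤ) + Finsupp.single Q ((d : ℤ) - n) := by
    intro n _ hn
    obtain ⟨h, h0, hhV, hh1, hh2⟩ := exists_common hK hV P Q (n := (n : ℤ)) (m := (d : ℤ) - n)
      (by rw [hVr]; simp only [hc] at hn; omega)
    exact ⟨h, hhV, h0, exact_div hK hPQ (by rw [hD]; ring) h0 hh1 hh2⟩
  obtain ⟨h₁, hv1, h10, hd1⟩ := key n₁ (by omega) hn1
  obtain ⟨h₂, hv2, h20, hd2⟩ := key n₂ h2d hn2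
  exact ⟨n₁, n₂, h12, h2d, h₁, h₂, hv1, hv2, h10, h20, hd1, hd2⟩

/-- S18177 -/
theorem torsion_of_weights [IsAlgClosed k] (hK : IsFunctionField k K) {d r : ℕ} {D : Divisor k K}
    (hD : D.deg = d) {V : Submodule k K} (hV : V ≤ L D) (hVr : Module.finrank k V = r + 1)
    {P Q : Place k K} (hPQ : P ≠ Q) (hw : (r + 1) * d + 1 ≤ wt V D P d + wt V D Q d + r) :
    ∃ m : ℕ, 1 ≤ m ∧ m ≤ d ∧ ∃ h : K, h ≠ 0 ∧
      div k h = Finsupp.single Q (m : ℤ) - Finsupp.single P (m : ℤ) := by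
  obtain ⟨n₁, n₂, h12, h2d, h₁, h₂, -, -, h10, h20, hd1, hd2⟩ := two_sections hK hD hV hVr hPQ hw
  refine ⟨n₂ - n₁, by omega, by omega, h₁ / h₂, div_ne_zero h10 h20, ?_⟩
  rw [div_div hK h10 h20]
  have e : div k h₁ - div k h₂ = (div k h₁ + D) - (div k h₂ + D) := by abel
  rw [e, hd1, hd2]
  have e2 : ((n₂ - n₁ : ℕ) : ℤ) = (n₂ : ℤ) - n₁ := by omega
  rw [e2, Finsupp.single_sub, Finsupp.single_sub, Finsupp.single_sub, Finsupp.single_sub]
  abel

/-- three point inequality with a cusp -/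
theorem wt_add_le_of_cusp [IsAlgClosed k] [CharZero k] (hK : IsFunctionField k K)
    (hg0 : genus k K = 0) {d r : ℕ} {D : Divisor k K} (hD : D.deg = d) {V : Submodule k K}
    (hV : V ≤ L D) (hVr : Module.finrank k V = r + 1) {Q : Place k K} (hcusp : r ≤ av V D Q 2)
    {A B : Place k K} (hAB : A ≠ B) (hA : A ≠ Q) (hB : B ≠ Q) :
    wt V D A d + wt V D B d + r ≤ (r + 1) * d := by
  classical
  by_contra hcon
  push Not at hcon
  obtain ⟨n₁, n₂, h12, h2d, h₁, h₂, hv1, hv2, h10, h20, hd1, hd2⟩ :=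
    two_sections hK hD hV hVr hAB (by omega)
  have hs1 : ∀ R : Place k K, R ≠ A → R ≠ B → (div k h₁ + D) R = 0 := by
    intro R hRA hRB
    rw [hd1]; simp [Finsupp.single_apply, Ne.symm hRA, Ne.symm hRB]
  have hs2 : ∀ R : Place k K, R ≠ A → R ≠ B → (div k h₂ + D) R = 0 := by
    intro R hRA hRB
    rw [hd2]; simp [Finsupp.single_apply, Ne.symm hRA, Ne.symm hRB]
  obtain ⟨c, hc⟩ := dep_of_cusp hK hg0 hV hVr hcusp hA hB hv1 hv2 h10 h20 hs1 hs2
  have hc0 : c ≠ 0 := by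
    rintro rfl
    rw [zero_smul] at hc
    exact h20 hc
  have hdd : div k h₂ = div k h₁ := by
    rw [hc, Algebra.smul_def, Groth.Agent.Helper16.FF.div_mul hK (by simpa using hc0) h10, div_algebraMap hK, zero_add]
  have : (div k h₁ + D) A = (div k h₂ + D) A := by rw [hdd]
  rw [hd1, hd2] at this
  simp [Finsupp.single_apply, Ne.symm hAB] at this
  omega

end Groth.Agent.Helper27.LLS
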