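import Mathlib
import Groth.Agent.Lib.Helper27.LLSf

set_option autoImplicit false

namespace Groth.Agent.Helper27.LLS

open FunFld
open Groth.Agent.Helper16.FF
open scoped WithZero

variable {k K : Type*} [Field k] [Field K] [Algebra k K]

theorem ell_def (D : Divisor k K) : Module.finrank k ↥(L D) = ell D := rfl

/-- a nonzero member of `L D` with `deg D = 0` has divisor `-D`. -/
theorem div_eq_of_mem_L_of_deg [IsAlgClosed k] (hK : IsFunctionField k K) {D : Divisor k K} {x : K}
    (hx0 : x ≠ 0) (hx : x ∈ L D) (hdeg : D.deg = 0) : div k x = -D := by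
  rw [mem_L_iff hK _ hx0] at hx
  have hE : 0 ≤ div k x + D := by
    have := sub_nonneg.mpr hx
    rwa [sub_neg_eq_add] at this
  have hdeg' : (div k x + D).deg ≤ 0 := by
    rw [Divisor.deg_add, deg_div hK, hdeg]; simp
  have := eq_zero_of_nonneg_of_deg_le hK hE hdeg'
  exact eq_neg_of_add_eq_zero_left this

theorem exists_div_eq_neg [IsAlgClosed k] (hK : IsFunctionField k K) {D : Divisor k K}
    (hdeg : D.deg = 0) (hpos : 0 < ell D) : ∃ x : K, x ≠ 0 ∧ div k x = -D := by
  obtain ⟨x, hx0, hx⟩ := exists_ne_zero_mem_L hK hpos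
  exact ⟨x, hx0, div_eq_of_mem_L_of_deg hK hx0 hx hdeg⟩

/-- if `ℓ(E) = 1` with `E ≥ 0` then `L(E)` consists of constants. -/
theorem div_eq_zero_of_ell_one (hK : IsFunctionField k K) {E : Divisor k K} (hE : 0 ≤ E)
    (h1 : ell E = 1) {x : K} (hx : x ∈ L E) : div k x = 0 := by
  have hle : L (0 : Divisor k K) ≤ L E := L_mono hE
  have hf := finiteDimensional_L hK E
  have heq : L (0 : Divisor k K) = L E := by
    apply Submodule.eq_of_le_of_finrank_eq hle
    have := ell_zero hK (k := k) (K := K)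
    unfold ell at this h1
    rw [this, h1]
  rw [← heq, L_zero_eq_one hK, Submodule.mem_one] at hx
  obtain ⟨c, rfl⟩ := hx
  exact div_algebraMap hK c

/-- an effective divisor of degree one is a place. -/
theorem eq_single_of_nonneg_of_deg_one [IsAlgClosed k] (hK : IsFunctionField k K) {E : Divisor k K}
    (hE : 0 ≤ E) (hdeg : E.deg = 1) : ∃ R : Place k K, E = Finsupp.single R 1 := by
  classical
  have hne : E ≠ 0 := by
    rintro rfl
    rw [Divisor.deg_zero] at hdeg
    omega
  obtain ⟨R, hR⟩ : ∃ R, E R ≠ 0 := by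
    by_contra h
    push Not at h
    exact hne (Finsupp.ext h)
  have hR1 : 1 ≤ E R := by
    have := hE R
    simp only [Finsupp.coe_zero, Pi.zero_apply] at this
    omega
  refine ⟨R, ?_⟩
  have h0 : 0 ≤ E - Finsupp.single R 1 := by
    intro S
    rw [Finsupp.sub_apply, Finsupp.single_apply]
    simp only [Finsupp.coe_zero, Pi.zero_apply]
    split_ifs with h
    · subst h; omega
    · have := hE S
      simp only [Finsupp.coe_zero, Pi.zero_apply] at this
      omega
  have hd : (E - Finsupp.single R 1).deg ≤ 0 := by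
    rw [Divisor.deg_sub, Divisor.deg_single, Place.deg_eq_one hK, hdeg]; simp
  have := eq_zero_of_nonneg_of_deg_le hK h0 hd
  exact sub_eq_zero.1 this

theorem deg_single' [IsAlgClosed k] (hK : IsFunctionField k K) (P : Place k K) (n : ℤ) :
    Divisor.deg (Finsupp.single P n : Divisor k K) = n := by
  rw [Divisor.deg_single, Place.deg_eq_one hK]; simp

/-- S17249 -/
theorem main17249 [IsAlgClosed k] (hK : IsFunctionField k K) (hg : genus k K = 2)
    (C : Divisor k K) (hC : IsCanonical k K C)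
    (A P Q : Place k K) (hA : Module.finrank k ↥(L (Finsupp.single A (2 : ℤ))) = 1) (hQ : Q ≠ A) :
    ¬ (Module.finrank k ↥(L (C + Finsupp.single A (2 : ℤ) - Finsupp.single P (1 : ℤ) -
        Finsupp.single Q (3 : ℤ))) = 1 ∧
       Module.finrank k ↥(L (C + Finsupp.single A (2 : ℤ) - Finsupp.single P (1 : ℤ) -
        Finsupp.single Q (1 : ℤ))) = 2) := by
  classical
  rintro ⟨-, h2⟩
  rw [ell_def] at h2 hA
  obtain ⟨-, hCdeg⟩ := canonical_ell_deg hK hC
  rw [hg] at hCdeg
  have hrr := riemann_roch hK hC (C + Finsupp.single A (2 : ℤ) - Finsupp.single P (1 : ℤ) -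
        Finsupp.single Q (1 : ℤ))
  rw [h2, hg, Divisor.deg_sub, Divisor.deg_sub, Divisor.deg_add, hCdeg, deg_single' hK,
    deg_single' hK, deg_single' hK] at hrr
  have e : C - (C + Finsupp.single A (2 : ℤ) - Finsupp.single P (1 : ℤ) -
        Finsupp.single Q (1 : ℤ)) =
      Finsupp.single P (1 : ℤ) + Finsupp.single Q (1 : ℤ) - Finsupp.single A (2 : ℤ) := by abel
  rw [e] at hrr
  have hpos : 0 < ell (Finsupp.single P (1 : ℤ) + Finsupp.single Q (1 : ℤ) -
      Finsupp.single A (2 : ℤ) : Divisor k K) := by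
    have : (0 : ℤ) < ell (Finsupp.single P (1 : ℤ) + Finsupp.single Q (1 : ℤ) -
      Finsupp.single A (2 : ℤ) : Divisor k K) := by push_cast at hrr; omega
    exact_mod_cast this
  have hdeg0 : Divisor.deg (Finsupp.single P (1 : ℤ) + Finsupp.single Q (1 : ℤ) -
      Finsupp.single A (2 : ℤ) : Divisor k K) = 0 := by
    rw [Divisor.deg_sub, Divisor.deg_add, deg_single' hK, deg_single' hK, deg_single' hK]; norm_num
  obtain ⟨x, hx0, hx⟩ := exists_div_eq_neg hK hdeg0 hpos
  have hxi : x⁻¹ ∈ L (Finsupp.single A (2 : ℤ) : Divisor k K) := by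
    rw [mem_L_iff hK _ (inv_ne_zero hx0), div_inv hK, hx, neg_neg]
    intro R
    simp only [Finsupp.coe_neg, Pi.neg_apply, Finsupp.coe_sub, Finsupp.coe_add, Pi.sub_apply,
      Pi.add_apply, Finsupp.single_apply]
    split_ifs <;> omega
  have h0 := div_eq_zero_of_ell_one hK (single_nonneg A (by norm_num)) hA hxi
  rw [div_inv hK, hx, neg_neg] at h0
  have := DFunLike.congr_fun h0 Q
  simp only [Finsupp.coe_sub, Finsupp.coe_add, Pi.sub_apply, Pi.add_apply, Finsupp.single_apply,
    Finsupp.coe_zero, Pi.zero_apply, if_neg (Ne.symm hQ), if_true] at this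
  split_ifs at this <;> omega

/-- S17250 -/
theorem main17250 [IsAlgClosed k] (hK : IsFunctionField k K) (hg : genus k K = 2)
    (C : Divisor k K) (hC : IsCanonical k K C)
    (A P Q : Place k K) (hP : P ≠ A) :
    ¬ (Module.finrank k ↥(L (C + Finsupp.single A (3 : ℤ) - Finsupp.single P (1 : ℤ) -
        Finsupp.single Q (4 : ℤ))) = 1 ∧
       Module.finrank k ↥(L (C + Finsupp.single A (3 : ℤ) - Finsupp.single P (1 : ℤ) -
        Finsupp.single Q (2 : ℤ))) = 2) := by
  classical
  rintro ⟨h1, h2⟩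
  rw [ell_def] at h1 h2
  obtain ⟨-, hCdeg⟩ := canonical_ell_deg hK hC
  rw [hg] at hCdeg
  -- E₂ = P + 2Q - 3A has ℓ = 1
  have hrr2 := riemann_roch hK hC (C + Finsupp.single A (3 : ℤ) - Finsupp.single P (1 : ℤ) -
        Finsupp.single Q (2 : ℤ))
  rw [h2, hg, Divisor.deg_sub, Divisor.deg_sub, Divisor.deg_add, hCdeg, deg_single' hK,
    deg_single' hK, deg_single' hK] at hrr2
  have e2 : C - (C + Finsupp.single A (3 : ℤ) - Finsupp.single P (1 : ℤ) -
        Finsupp.single Q (2 : ℤ)) =
      Finsupp.single P (1 : ℤ) + Finsupp.single Q (2 : ℤ) - Finsupp.single A (3 : ℤ) := by abel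
  rw [e2] at hrr2
  have hpos2 : 0 < ell (Finsupp.single P (1 : ℤ) + Finsupp.single Q (2 : ℤ) -
      Finsupp.single A (3 : ℤ) : Divisor k K) := by
    have : (0 : ℤ) < ell (Finsupp.single P (1 : ℤ) + Finsupp.single Q (2 : ℤ) -
      Finsupp.single A (3 : ℤ) : Divisor k K) := by push_cast at hrr2; omega
    exact_mod_cast this
  have hdeg2 : Divisor.deg (Finsupp.single P (1 : ℤ) + Finsupp.single Q (2 : ℤ) -
      Finsupp.single A (3 : ℤ) : Divisor k K) = 0 := by
    rw [Divisor.deg_sub, Divisor.deg_add, deg_single' hK, deg_single' hK, deg_single' hK]; norm_num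
  obtain ⟨x, hx0, hx⟩ := exists_div_eq_neg hK hdeg2 hpos2
  -- E₁ = P + 4Q - 3A has ℓ = 2
  have hrr1 := riemann_roch hK hC (C + Finsupp.single A (3 : ℤ) - Finsupp.single P (1 : ℤ) -
        Finsupp.single Q (4 : ℤ))
  rw [h1, hg, Divisor.deg_sub, Divisor.deg_sub, Divisor.deg_add, hCdeg, deg_single' hK,
    deg_single' hK, deg_single' hK] at hrr1
  have e1 : C - (C + Finsupp.single A (3 : ℤ) - Finsupp.single P (1 : ℤ) -
        Finsupp.single Q (4 : ℤ)) =
      Finsupp.single P (1 : ℤ) + Finsupp.single Q (4 : ℤ) - Finsupp.single A (3 : ℤ) := by abel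
  rw [e1] at hrr1
  have hell1 : ell (Finsupp.single P (1 : ℤ) + Finsupp.single Q (4 : ℤ) -
      Finsupp.single A (3 : ℤ) : Divisor k K) = 2 := by
    have : (ell (Finsupp.single P (1 : ℤ) + Finsupp.single Q (4 : ℤ) -
      Finsupp.single A (3 : ℤ) : Divisor k K) : ℤ) = 2 := by push_cast at hrr1; omega
    exact_mod_cast this
  have hcan1 : IsCanonical k K (Finsupp.single P (1 : ℤ) + Finsupp.single Q (4 : ℤ) -
      Finsupp.single A (3 : ℤ)) := by
    rw [isCanonical_iff hK, hg, hell1]
    refine ⟨rfl, ?_⟩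
    rw [Divisor.deg_sub, Divisor.deg_add, deg_single' hK, deg_single' hK, deg_single' hK]; norm_num
  -- 3A - P is canonical
  have hcan : IsCanonical k K (Finsupp.single A (3 : ℤ) - Finsupp.single P (1 : ℤ)) := by
    have := isCanonical_add_div hK hcan1 (x := x * x) (mul_ne_zero hx0 hx0)
    rw [div_mul hK hx0 hx0, hx] at this
    convert this using 1
    ext R
    simp only [Finsupp.coe_add, Finsupp.coe_sub, Finsupp.coe_neg, Pi.add_apply,
      Pi.sub_apply, Pi.neg_apply, Finsupp.single_apply]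
    split_ifs <;> omega
  obtain ⟨hl, -⟩ := canonical_ell_deg hK hcan
  rw [hg] at hl
  have hl3 : ell (Finsupp.single A (3 : ℤ) : Divisor k K) = 2 := by
    have := ell_eq_of_large hK (D := (Finsupp.single A (3 : ℤ) : Divisor k K))
      (by rw [deg_single' hK, hg]; norm_num)
    rw [deg_single' hK, hg] at this
    have : (ell (Finsupp.single A (3 : ℤ) : Divisor k K) : ℤ) = 2 := by rw [this]; norm_num
    exact_mod_cast this
  have hle : L (Finsupp.single A (3 : ℤ) - Finsupp.single P (1 : ℤ) : Divisor k K) ≤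
      L (Finsupp.single A (3 : ℤ) : Divisor k K) := by
    apply L_mono
    have := single_nonneg P (show (0 : ℤ) ≤ 1 by norm_num)
    exact sub_le_self _ this
  have hf := finiteDimensional_L hK (Finsupp.single A (3 : ℤ) : Divisor k K)
  have heq := Submodule.eq_of_le_of_finrank_eq hle (by rw [ell_def, ell_def, hl, hl3])
  have h1mem : (1 : K) ∈ L (Finsupp.single A (3 : ℤ) : Divisor k K) := by
    have := algebraMap_mem_L hK (single_nonneg A (show (0 : ℤ) ≤ 3 by norm_num)) (1 : k)
    simpa using this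
  rw [← heq, mem_L_iff hK _ one_ne_zero] at h1mem
  have hd1 : div k (1 : K) = 0 := by
    have := div_algebraMap hK (1 : k) (K := K)
    simpa using this
  rw [hd1] at h1mem
  have := h1mem P
  simp only [Finsupp.coe_neg, Pi.neg_apply, Finsupp.coe_sub, Pi.sub_apply, Finsupp.single_apply,
    Finsupp.coe_zero, Pi.zero_apply, if_neg (Ne.symm hP), if_true] at this
  omega

/-- S17251 -/
theorem main17251 [IsAlgClosed k] (hK : IsFunctionField k K) (hg : genus k K = 2)
    (C : Divisor k K) (hC : IsCanonical k K C)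
    (B Q : Place k K) (hB : Module.finrank k ↥(L (Finsupp.single B (2 : ℤ))) = 1) (hQ : Q ≠ B) :
    ¬ (Module.finrank k ↥(L (C + Finsupp.single B (1 : ℤ) - Finsupp.single Q (2 : ℤ))) = 1 ∧
       Module.finrank k ↥(L (C + Finsupp.single B (3 : ℤ) - Finsupp.single Q (4 : ℤ))) = 1) := by
  classical
  rintro ⟨h1, h2⟩
  rw [ell_def] at h1 h2 hB
  obtain ⟨-, hCdeg⟩ := canonical_ell_deg hK hC
  rw [hg] at hCdeg
  -- ℓ(2Q - B) = 1
  have hrr1 := riemann_roch hK hC (C + Finsupp.single B (1 : ℤ) - Finsupp.single Q (2 : ℤ))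
  rw [h1, hg, Divisor.deg_sub, Divisor.deg_add, hCdeg, deg_single' hK, deg_single' hK] at hrr1
  have e1 : C - (C + Finsupp.single B (1 : ℤ) - Finsupp.single Q (2 : ℤ)) =
      Finsupp.single Q (2 : ℤ) - Finsupp.single B (1 : ℤ) := by abel
  rw [e1] at hrr1
  have hpos1 : 0 < ell (Finsupp.single Q (2 : ℤ) - Finsupp.single B (1 : ℤ) : Divisor k K) := by
    have : (0 : ℤ) < ell (Finsupp.single Q (2 : ℤ) - Finsupp.single B (1 : ℤ) : Divisor k K) := by
      push_cast at hrr1; omega
    exact_mod_cast this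
  -- ℓ(4Q - 3B) = 1
  have hrr2 := riemann_roch hK hC (C + Finsupp.single B (3 : ℤ) - Finsupp.single Q (4 : ℤ))
  rw [h2, hg, Divisor.deg_sub, Divisor.deg_add, hCdeg, deg_single' hK, deg_single' hK] at hrr2
  have e2 : C - (C + Finsupp.single B (3 : ℤ) - Finsupp.single Q (4 : ℤ)) =
      Finsupp.single Q (4 : ℤ) - Finsupp.single B (3 : ℤ) := by abel
  rw [e2] at hrr2
  have hpos2 : 0 < ell (Finsupp.single Q (4 : ℤ) - Finsupp.single B (3 : ℤ) : Divisor k K) := by
    have : (0 : ℤ) < ell (Finsupp.single Q (4 : ℤ) - Finsupp.single B (3 : ℤ) : Divisor k K) := by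
      push_cast at hrr2; omega
    exact_mod_cast this
  obtain ⟨x, hx0, hx⟩ := exists_ne_zero_mem_L hK hpos1
  obtain ⟨y, hy0, hy⟩ := exists_ne_zero_mem_L hK hpos2
  -- div x = R + B - 2Q
  have hxE : ∃ R : Place k K, div k x = Finsupp.single R (1 : ℤ) + Finsupp.single B (1 : ℤ) -
      Finsupp.single Q (2 : ℤ) := by
    have hx' := (mem_L_iff hK _ hx0).1 hx
    have hE : 0 ≤ div k x + (Finsupp.single Q (2 : ℤ) - Finsupp.single B (1 : ℤ)) := by
      have := sub_nonneg.mpr hx'
      rwa [sub_neg_eq_add] at this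
    have hd : (div k x + (Finsupp.single Q (2 : ℤ) - Finsupp.single B (1 : ℤ))).deg = 1 := by
      rw [Divisor.deg_add, deg_div hK, Divisor.deg_sub, deg_single' hK, deg_single' hK]; norm_num
    obtain ⟨R, hR⟩ := eq_single_of_nonneg_of_deg_one hK hE hd
    refine ⟨R, ?_⟩
    rw [← hR]; abel
  obtain ⟨R, hxR⟩ := hxE
  have hyE : ∃ R' : Place k K, div k y = Finsupp.single R' (1 : ℤ) + Finsupp.single B (3 : ℤ) -
      Finsupp.single Q (4 : ℤ) := by
    have hy' := (mem_L_iff hK _ hy0).1 hy
    have hE : 0 ≤ div k y + (Finsupp.single Q (4 : ℤ) - Finsupp.single B (3 : ℤ)) := by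
      have := sub_nonneg.mpr hy'
      rwa [sub_neg_eq_add] at this
    have hd : (div k y + (Finsupp.single Q (4 : ℤ) - Finsupp.single B (3 : ℤ))).deg = 1 := by
      rw [Divisor.deg_add, deg_div hK, Divisor.deg_sub, deg_single' hK, deg_single' hK]; norm_num
    obtain ⟨R', hR'⟩ := eq_single_of_nonneg_of_deg_one hK hE hd
    refine ⟨R', ?_⟩
    rw [← hR']; abel
  obtain ⟨R', hyR⟩ := hyE
  -- Step A: ℓ(2Q) = 2
  have h2Qnn : (0 : Divisor k K) ≤ Finsupp.single Q (2 : ℤ) := single_nonneg Q (by norm_num)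
  have hl2Q : ell (Finsupp.single Q (2 : ℤ) : Divisor k K) = 2 := by
    have hrr := riemann_roch hK hC (Finsupp.single Q (2 : ℤ) : Divisor k K)
    rw [hg, deg_single' hK] at hrr
    have hge1 : 1 ≤ ell (Finsupp.single Q (2 : ℤ) : Divisor k K) := by
      have := ell_mono hK h2Qnn
      rwa [ell_zero hK] at this
    have hle : ell (C - Finsupp.single Q (2 : ℤ) : Divisor k K) ≤ 1 := by
      by_contra hcon
      push Not at hcon
      obtain ⟨z, hz0, hz⟩ := exists_div_eq_neg hK (D := C - Finsupp.single Q (2 : ℤ))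
        (by rw [Divisor.deg_sub, hCdeg, deg_single' hK]; norm_num) (by omega)
      -- then C - 2Q ~ 0 so ℓ = ℓ(0) = 1
      have hmul : ∀ w ∈ L (C - Finsupp.single Q (2 : ℤ) : Divisor k K), div k (w * z⁻¹) = 0 ∨ w = 0 := by
        intro w hw
        by_cases hw0 : w = 0
        · exact Or.inr hw0
        · left
          rw [div_mul hK hw0 (inv_ne_zero hz0), div_inv hK, hz, neg_neg,
            div_eq_of_mem_L_of_deg hK hw0 hw
              (by rw [Divisor.deg_sub, hCdeg, deg_single' hK]; norm_num)]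
          abel
      have hfin := finiteDimensional_L hK (C - Finsupp.single Q (2 : ℤ) : Divisor k K)
      have : ell (C - Finsupp.single Q (2 : ℤ) : Divisor k K) ≤ 1 := by
        unfold ell
        rw [finrank_le_one_iff]
        refine ⟨⟨z, by rw [mem_L_iff hK _ hz0, hz]⟩, ?_⟩
        rintro ⟨w, hw⟩
        rcases hmul w hw with h0 | h0
        · by_cases hw0 : w = 0
          · exact ⟨0, by ext; simp [hw0]⟩
          · obtain ⟨c, -, hc⟩ := const_of_div_eq_zero hK (mul_ne_zero hw0 (inv_ne_zero hz0)) h0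
            refine ⟨c, ?_⟩
            ext
            simp only [SetLike.val_smul, Algebra.smul_def, ← hc]
            field_simp
        · exact ⟨0, by ext; simp [h0]⟩
      omega
    have : (ell (Finsupp.single Q (2 : ℤ) : Divisor k K) : ℤ) ≤ 2 := by
      have : (ell (C - Finsupp.single Q (2 : ℤ) : Divisor k K) : ℤ) ≤ 1 := by exact_mod_cast hle
      omega
    have hle2 : ell (Finsupp.single Q (2 : ℤ) : Divisor k K) ≤ 2 := by exact_mod_cast this
    by_contra hne
    have hl1 : ell (Finsupp.single Q (2 : ℤ) : Divisor k K) = 1 := by omega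
    have hxm : x ∈ L (Finsupp.single Q (2 : ℤ) : Divisor k K) := by
      refine L_mono ?_ hx
      exact sub_le_self _ (single_nonneg B (by norm_num))
    have h0 := div_eq_zero_of_ell_one hK h2Qnn hl1 hxm
    rw [hxR] at h0
    have := DFunLike.congr_fun h0 B
    simp only [Finsupp.coe_sub, Finsupp.coe_add, Pi.sub_apply, Pi.add_apply, Finsupp.single_apply,
      Finsupp.coe_zero, Pi.zero_apply, if_neg hQ, if_true] at this
    split_ifs at this <;> omega
  have hcan2Q : IsCanonical k K (Finsupp.single Q (2 : ℤ)) := by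
    rw [isCanonical_iff hK, hg, hl2Q]
    refine ⟨rfl, ?_⟩
    rw [deg_single' hK]; norm_num
  -- Step B: B + R canonical
  have hcanBR : IsCanonical k K (Finsupp.single B (1 : ℤ) + Finsupp.single R (1 : ℤ)) := by
    have := isCanonical_add_div hK hcan2Q hx0
    rw [hxR] at this
    convert this using 1
    abel
  have hRB : R ≠ B := by
    rintro rfl
    have hrr := riemann_roch hK hcanBR (Finsupp.single R (2 : ℤ) : Divisor k K)
    rw [hg, deg_single' hK, hB] at hrr
    have e : Finsupp.single R (1 : ℤ) + Finsupp.single R (1 : ℤ) - Finsupp.single R (2 : ℤ) =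
        (0 : Divisor k K) := by
      rw [← Finsupp.single_add]; norm_num
    rw [e, ell_zero hK] at hrr
    omega
  have hl2R : ell (Finsupp.single R (2 : ℤ) : Divisor k K) = 1 := by
    have hrr := riemann_roch hK hcanBR (Finsupp.single R (2 : ℤ) : Divisor k K)
    rw [hg, deg_single' hK] at hrr
    have hz : ell (Finsupp.single B (1 : ℤ) + Finsupp.single R (1 : ℤ) - Finsupp.single R (2 : ℤ) :
        Divisor k K) = 0 := by
      by_contra hne
      obtain ⟨z, hz0, hz⟩ := exists_div_eq_neg hK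
        (D := Finsupp.single B (1 : ℤ) + Finsupp.single R (1 : ℤ) - Finsupp.single R (2 : ℤ))
        (by rw [Divisor.deg_sub, Divisor.deg_add, deg_single' hK, deg_single' hK, deg_single' hK]
            norm_num) (by omega)
      -- z⁻¹ ∈ L(R - B) ⊆ ... use RR for 2B
      have hrrB := riemann_roch hK hcanBR (Finsupp.single B (2 : ℤ) : Divisor k K)
      rw [hg, deg_single' hK, hB] at hrrB
      have hzi : z⁻¹ ∈ L (Finsupp.single B (1 : ℤ) + Finsupp.single R (1 : ℤ) -
          Finsupp.single B (2 : ℤ) : Divisor k K) := by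
        rw [mem_L_iff hK _ (inv_ne_zero hz0), div_inv hK, hz]
        intro S
        simp only [Finsupp.coe_neg, Pi.neg_apply, Finsupp.coe_sub, Finsupp.coe_add, Pi.sub_apply,
          Pi.add_apply, Finsupp.single_apply]
        split_ifs <;> omega
      have hfin := finiteDimensional_L hK (Finsupp.single B (1 : ℤ) + Finsupp.single R (1 : ℤ) -
          Finsupp.single B (2 : ℤ) : Divisor k K)
      have hpos : 0 < ell (Finsupp.single B (1 : ℤ) + Finsupp.single R (1 : ℤ) -
          Finsupp.single B (2 : ℤ) : Divisor k K) := by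
        unfold ell
        rw [Module.finrank_pos_iff_exists_ne_zero]
        exact ⟨⟨z⁻¹, hzi⟩, fun h => inv_ne_zero hz0 (congrArg Subtype.val h)⟩
      omega
    rw [hz] at hrr
    have : (ell (Finsupp.single R (2 : ℤ) : Divisor k K) : ℤ) = 1 := by push_cast at hrr ⊢; omega
    exact_mod_cast this
  -- Step C
  have hz0 : y * (x * x)⁻¹ ≠ 0 := mul_ne_zero hy0 (inv_ne_zero (mul_ne_zero hx0 hx0))
  have hdz : div k (y * (x * x)⁻¹) = Finsupp.single R' (1 : ℤ) + Finsupp.single B (1 : ℤ) -
      Finsupp.single R (2 : ℤ) := by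
    rw [div_mul hK hy0 (inv_ne_zero (mul_ne_zero hx0 hx0)), div_inv hK, div_mul hK hx0 hx0, hxR, hyR]
    ext S
    simp only [Finsupp.coe_add, Finsupp.coe_sub, Finsupp.coe_neg, Pi.add_apply,
      Pi.sub_apply, Pi.neg_apply, Finsupp.single_apply]
    split_ifs <;> omega
  have hzm : y * (x * x)⁻¹ ∈ L (Finsupp.single R (2 : ℤ) : Divisor k K) := by
    rw [mem_L_iff hK _ hz0, hdz]
    intro S
    simp only [Finsupp.coe_neg, Pi.neg_apply, Finsupp.coe_sub, Finsupp.coe_add, Pi.sub_apply,
      Pi.add_apply, Finsupp.single_apply]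
    split_ifs <;> omega
  have h0 := div_eq_zero_of_ell_one hK (single_nonneg R (by norm_num)) hl2R hzm
  rw [hdz] at h0
  have := DFunLike.congr_fun h0 B
  simp only [Finsupp.coe_sub, Finsupp.coe_add, Pi.sub_apply, Pi.add_apply, Finsupp.single_apply,
    Finsupp.coe_zero, Pi.zero_apply, if_neg hRB, if_true] at this
  split_ifs at this <;> omega

end Groth.Agent.Helper27.LLS
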