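import Mathlib
import Groth.Agent.Lib.Helper27.FFg
import Groth.Agent.Lib.Helper16.FF.GenusOneA

set_option autoImplicit false

namespace Groth.Agent.Helper27.LLS

open FunFld
open Groth.Agent.Helper16.FF
open scoped WithZero

variable {k K : Type*} [Field k] [Field K] [Algebra k K]

theorem single_le_single (A : Place k K) {a b : ℤ} (h : a ≤ b) :
    (Finsupp.single A a : Divisor k K) ≤ Finsupp.single A b := by
  classical
  intro S
  simp only [Finsupp.single_apply]
  split_ifs <;> omega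

/-- S17248 -/
theorem main17248 [IsAlgClosed k] (hK : IsFunctionField k K) (hg1 : genus k K = 1)
    (g : ℕ) (h3 : 3 ≤ g) (A : Place k K)
    (V₁ : Submodule k K) (hlo : L (Finsupp.single A ((g : ℤ) - 2)) ≤ V₁)
    (hhi : V₁ ≤ L (Finsupp.single A (g : ℤ))) (hdim : Module.finrank k ↥V₁ + 1 = g) :
    ∃ ε : ℕ, ε ≤ 1 ∧
      (∑ n ∈ Finset.range (2 * g - 2), Module.finrank k
        ↥(V₁ ⊓ L (Finsupp.single A (2 * (g : ℤ) - 2) - Finsupp.single A ((n : ℤ) + 1)))) =
      (g - 1).choose 2 + (g - 1) ^ 2 + ε := by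
  classical
  obtain ⟨t, rfl⟩ : ∃ t, g = t + 3 := ⟨g - 3, by omega⟩
  have hA1 : A.deg = 1 := Place.deg_eq_one hK A
  have hfd : FiniteDimensional k V₁ := by
    have := finiteDimensional_L hK (Finsupp.single A ((t + 3 : ℕ) : ℤ) : Divisor k K)
    exact Submodule.finiteDimensional_of_le hhi
  set F : ℕ → ℕ := fun j => Module.finrank k ↥(V₁ ⊓ L (Finsupp.single A (j : ℤ))) with hF
  -- rewrite the sum
  have hsum : (∑ n ∈ Finset.range (2 * (t + 3) - 2), Module.finrank k
        ↥(V₁ ⊓ L (Finsupp.single A (2 * ((t + 3 : ℕ) : ℤ) - 2) - Finsupp.single A ((n : ℤ) + 1)))) =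
      ∑ j ∈ Finset.range (2 * (t + 3) - 2), F j := by
    rw [← Finset.sum_range_reflect]
    refine Finset.sum_congr rfl fun n hn => ?_
    rw [Finset.mem_range] at hn
    simp only [hF]
    rw [← Finsupp.single_sub]
    have e : (2 * ((t + 3 : ℕ) : ℤ) - 2 - (((2 * (t + 3) - 2 - 1 - n : ℕ) : ℤ) + 1)) = (n : ℤ) := by
      omega
    rw [e]
  rw [hsum]
  -- values of F
  have hF0 : F 0 = 1 := by
    simp only [hF]
    have : (Finsupp.single A ((0 : ℕ) : ℤ) : Divisor k K) = 0 := by simp
    rw [this, inf_eq_right.2 ((L_mono (single_nonneg A (by omega))).trans hlo), ell_def, ell_zero hK]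
  have hFlow : ∀ j, 1 ≤ j → j ≤ t + 1 → F j = j := by
    intro j h1 h2
    simp only [hF]
    rw [inf_eq_right.2 ((L_mono (single_le_single A (by push_cast; omega))).trans hlo), ell_def,
      ell_single_of_genus_one hK hg1 hA1 h1]
  have hFhigh : ∀ j, t + 3 ≤ j → F j = t + 2 := by
    intro j h1
    simp only [hF]
    rw [inf_eq_left.2 (hhi.trans (L_mono (single_le_single A (by push_cast; omega))))]
    omega
  have hFmid1 : t + 1 ≤ F (t + 2) := by
    simp only [hF]
    have hle : L (Finsupp.single A (((t + 3 : ℕ) : ℤ) - 2) : Divisor k K) ≤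
        V₁ ⊓ L (Finsupp.single A ((t + 2 : ℕ) : ℤ)) :=
      le_inf hlo (L_mono (single_le_single A (by push_cast; omega)))
    have hfin : FiniteDimensional k ↥(V₁ ⊓ L (Finsupp.single A ((t + 2 : ℕ) : ℤ))) :=
      Submodule.finiteDimensional_of_le inf_le_left
    have := Submodule.finrank_mono hle
    have e : (((t + 3 : ℕ) : ℤ) - 2) = ((t + 1 : ℕ) : ℤ) := by push_cast; omega
    rw [e, ell_def, ell_single_of_genus_one hK hg1 hA1 (by omega)] at this
    exact this
  have hFmid2 : F (t + 2) ≤ t + 2 := by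
    simp only [hF]
    have := Submodule.finrank_mono (inf_le_left :
      V₁ ⊓ L (Finsupp.single A ((t + 2 : ℕ) : ℤ)) ≤ V₁)
    omega
  refine ⟨F (t + 2) - (t + 1), by omega, ?_⟩
  have e2 : 2 * (t + 3) - 2 = (t + 2) + (t + 2) := by omega
  rw [e2, Finset.sum_range_add, Finset.sum_range_succ' (fun x => F (t + 2 + x))]
  have s1 : ∑ j ∈ Finset.range (t + 2), F j = (t + 2).choose 2 + 1 := by
    rw [Finset.sum_range_succ', hF0]
    congr 1
    rw [← (Finset.sum_range_id (t + 2)).trans (Nat.choose_two_right (t + 2)).symm,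
      Finset.sum_range_succ' (fun i => i)]
    simp only [add_zero]
    refine Finset.sum_congr rfl fun j hj => ?_
    rw [Finset.mem_range] at hj
    exact hFlow (j + 1) (by omega) (by omega)
  have s2 : ∑ i ∈ Finset.range (t + 1), F (t + 2 + (i + 1)) = (t + 1) * (t + 2) := by
    rw [Finset.sum_congr rfl (fun i _ => hFhigh (t + 2 + (i + 1)) (by omega))]
    simp
  rw [s1, s2]
  simp only [add_zero]
  have e3 : t + 3 - 1 = t + 2 := by omega
  rw [e3]
  have : F (t + 2) = (t + 1) + (F (t + 2) - (t + 1)) := by omega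
  rw [this]
  ring_nf
  omega

theorem ell_le_one_of_deg_zero [IsAlgClosed k] (hK : IsFunctionField k K) {D : Divisor k K}
    (hdeg : D.deg = 0) : ell D ≤ 1 := by
  by_contra hcon
  push Not at hcon
  obtain ⟨z, hz0, hz⟩ := exists_div_eq_neg hK hdeg (by omega)
  have hfin := finiteDimensional_L hK D
  have : ell D ≤ 1 := by
    unfold ell
    rw [finrank_le_one_iff]
    refine ⟨⟨z, by rw [mem_L_iff hK _ hz0, hz]⟩, ?_⟩
    rintro ⟨w, hw⟩
    by_cases hw0 : w = 0
    · exact ⟨0, by ext; simp [hw0]⟩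
    · have h0 : div k (w * z⁻¹) = 0 := by
        rw [div_mul hK hw0 (inv_ne_zero hz0), div_inv hK, hz, neg_neg,
          div_eq_of_mem_L_of_deg hK hw0 hw hdeg]
        abel
      obtain ⟨c, -, hc⟩ := const_of_div_eq_zero hK (mul_ne_zero hw0 (inv_ne_zero hz0)) h0
      refine ⟨c, ?_⟩
      ext
      simp only [SetLike.val_smul, Algebra.smul_def, ← hc]
      field_simp
  omega

theorem ell_of_deg_pos_genus_one (hK : IsFunctionField k K) (hg1 : genus k K = 1)
    {D : Divisor k K} (hdeg : 1 ≤ D.deg) : (ell D : ℤ) = D.deg := by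
  have := ell_eq_of_large hK (D := D) (by rw [hg1]; push_cast; omega)
  rw [hg1] at this
  push_cast at this
  omega

theorem sum_tri (t : ℕ) : (∑ n ∈ Finset.range t, (t + 1 - n)) + 1 = (t + 2).choose 2 := by
  induction t with
  | zero => simp
  | succ t ih =>
    rw [Finset.sum_range_succ']
    have : ∑ n ∈ Finset.range t, (t + 1 + 1 - (n + 1)) = ∑ n ∈ Finset.range t, (t + 1 - n) := by
      refine Finset.sum_congr rfl fun n _ => by omega
    rw [this]
    have e : (t + 1 + 2).choose 2 = (t + 2).choose 1 + (t + 2).choose 2 := by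
      rw [show t + 1 + 2 = (t + 2) + 1 by ring, Nat.choose_succ_succ]
    rw [e, Nat.choose_one_right]
    omega

theorem finrank_add_le_of_le {V₁ X Y : Submodule k K} [FiniteDimensional k V₁] (hX : X ≤ V₁)
    (hY : Y ≤ V₁) :
    Module.finrank k X + Module.finrank k Y ≤ Module.finrank k V₁ + Module.finrank k ↥(X ⊓ Y) := by
  have f1 : FiniteDimensional k X := Submodule.finiteDimensional_of_le hX
  have f2 : FiniteDimensional k Y := Submodule.finiteDimensional_of_le hY
  have h1 := Submodule.finrank_sup_add_finrank_inf_eq X Y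
  have h2 : Module.finrank k ↥(X ⊔ Y) ≤ Module.finrank k V₁ := Submodule.finrank_mono (sup_le hX hY)
  omega

/-- S17247 -/
theorem main17247 [IsAlgClosed k] (hK : IsFunctionField k K) (hg1 : genus k K = 1)
    (g : ℕ) (hodd : Odd g) (h3 : 3 ≤ g) (A : Place k K)
    (V₁ : Submodule k K) (hlo : L (Finsupp.single A ((g : ℤ) - 2)) ≤ V₁)
    (hhi : V₁ ≤ L (Finsupp.single A (g : ℤ))) (hdim : Module.finrank k ↥V₁ + 1 = g)
    (Q : Place k K) (hQ : Q ≠ A) :
    (∑ n ∈ Finset.range (2 * g - 2), Module.finrank k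
        ↥(V₁ ⊓ L (Finsupp.single A (2 * (g : ℤ) - 2) - Finsupp.single Q ((n : ℤ) + 1)))) ≤
      (g - 1).choose 2 + 2 := by
  classical
  obtain ⟨t, rfl⟩ : ∃ t, g = t + 3 := ⟨g - 3, by omega⟩
  have hfd : FiniteDimensional k V₁ := by
    have := finiteDimensional_L hK (Finsupp.single A ((t + 3 : ℕ) : ℤ) : Divisor k K)
    exact Submodule.finiteDimensional_of_le hhi
  set G : ℕ → ℕ := fun m => Module.finrank k
    ↥(V₁ ⊓ L (Finsupp.single A ((t + 3 : ℕ) : ℤ) - Finsupp.single Q (m : ℤ))) with hG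
  have hdegD : ∀ m : ℕ, Divisor.deg (Finsupp.single A ((t + 3 : ℕ) : ℤ) - Finsupp.single Q (m : ℤ) :
      Divisor k K) = (t : ℤ) + 3 - m := by
    intro m
    rw [Divisor.deg_sub, deg_single' hK, deg_single' hK]; push_cast; ring
  -- the terms
  have hterm : ∀ n : ℕ, Module.finrank k
        ↥(V₁ ⊓ L (Finsupp.single A (2 * ((t + 3 : ℕ) : ℤ) - 2) - Finsupp.single Q ((n : ℤ) + 1))) =
      G (n + 1) := by
    intro n
    simp only [hG]
    have : V₁ ⊓ L (Finsupp.single A (2 * ((t + 3 : ℕ) : ℤ) - 2) - Finsupp.single Q ((n : ℤ) + 1)) =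
        V₁ ⊓ L (Finsupp.single A ((t + 3 : ℕ) : ℤ) - Finsupp.single Q ((n + 1 : ℕ) : ℤ)) := by
      apply le_antisymm
      · refine le_inf inf_le_left ?_
        intro x hx
        have h1 : x ∈ L (Finsupp.single A (2 * ((t + 3 : ℕ) : ℤ) - 2) -
            Finsupp.single A (((t + 3 : ℕ) : ℤ) - 2) : Divisor k K) := by
          rw [← Finsupp.single_sub]
          have e : (2 * ((t + 3 : ℕ) : ℤ) - 2 - (((t + 3 : ℕ) : ℤ) - 2)) = ((t + 3 : ℕ) : ℤ) := by ring
          rw [e]
          exact hhi hx.1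
        have h2 := L_inf_le (Ne.symm hQ) (((t + 3 : ℕ) : ℤ) - 2) ((n : ℤ) + 1) ⟨h1, hx.2⟩
        rw [← Finsupp.single_sub] at h2
        have e : (2 * ((t + 3 : ℕ) : ℤ) - 2 - (((t + 3 : ℕ) : ℤ) - 2)) = ((t + 3 : ℕ) : ℤ) := by ring
        rw [e] at h2
        have e' : ((n + 1 : ℕ) : ℤ) = (n : ℤ) + 1 := by push_cast; ring
        rw [e']
        exact h2
      · refine inf_le_inf_left _ (L_mono ?_)
        push_cast
        exact sub_le_sub_right (single_le_single A (by push_cast; omega)) _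
    rw [this]
  rw [Finset.sum_congr rfl (fun n _ => hterm n)]
  -- bounds on G
  have hGzero : ∀ m, t + 4 ≤ m → G m = 0 := by
    intro m hm
    simp only [hG]
    rw [L_eq_bot_of_deg_neg hK (by rw [hdegD]; omega), inf_bot_eq]
    exact finrank_bot k K
  have hfinD : ∀ m : ℕ, FiniteDimensional k
      ↥(L (Finsupp.single A ((t + 3 : ℕ) : ℤ) - Finsupp.single Q (m : ℤ) : Divisor k K)) :=
    fun m => finiteDimensional_L hK _
  have hGle : ∀ m, G m ≤ ell (Finsupp.single A ((t + 3 : ℕ) : ℤ) - Finsupp.single Q (m : ℤ) :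
      Divisor k K) := by
    intro m
    simp only [hG]
    have := hfinD m
    exact Submodule.finrank_mono inf_le_right
  have hellD : ∀ m : ℕ, m ≤ t + 2 → ell (Finsupp.single A ((t + 3 : ℕ) : ℤ) -
      Finsupp.single Q (m : ℤ) : Divisor k K) = t + 3 - m := by
    intro m hm
    have := ell_of_deg_pos_genus_one hK hg1 (D := Finsupp.single A ((t + 3 : ℕ) : ℤ) -
      Finsupp.single Q (m : ℤ)) (by rw [hdegD]; omega)
    rw [hdegD] at this
    omega
  have hGg : G (t + 3) ≤ 1 :=
    (hGle (t + 3)).trans (ell_le_one_of_deg_zero hK (by rw [hdegD]; push_cast; ring))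
  -- if `G m` is maximal then `L(D_m) ≤ V₁`
  have hfull : ∀ m : ℕ, m ≤ t + 2 → t + 3 - m ≤ G m →
      L (Finsupp.single A ((t + 3 : ℕ) : ℤ) - Finsupp.single Q (m : ℤ) : Divisor k K) ≤ V₁ := by
    intro m hm hge
    have := hfinD m
    have heq := Submodule.eq_of_le_of_finrank_le (inf_le_right :
      V₁ ⊓ L (Finsupp.single A ((t + 3 : ℕ) : ℤ) - Finsupp.single Q (m : ℤ) : Divisor k K) ≤ _)
      (by rw [ell_def, hellD m hm]; exact hge)
    rw [← heq]
    exact inf_le_left
  have hXell : ell (Finsupp.single A (((t + 3 : ℕ) : ℤ) - 2) : Divisor k K) = t + 1 := by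
    have e : (((t + 3 : ℕ) : ℤ) - 2) = ((t + 1 : ℕ) : ℤ) := by push_cast; omega
    rw [e, ell_single_of_genus_one hK hg1 (Place.deg_eq_one hK A) (by omega)]
  -- the key inequality
  have hkey : ∀ m : ℕ, m ≤ t + 2 → t + 3 - m ≤ G m →
      t + 2 - m ≤ ell (Finsupp.single A (((t + 3 : ℕ) : ℤ) - 2) - Finsupp.single Q (m : ℤ) :
        Divisor k K) := by
    intro m hm hge
    have hY := hfull m hm hge
    have h1 := finrank_add_le_of_le hlo hY
    rw [ell_def, ell_def, hXell, hellD m hm] at h1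
    have h2 : L (Finsupp.single A (((t + 3 : ℕ) : ℤ) - 2) : Divisor k K) ⊓
        L (Finsupp.single A ((t + 3 : ℕ) : ℤ) - Finsupp.single Q (m : ℤ) : Divisor k K) ≤
        L (Finsupp.single A (((t + 3 : ℕ) : ℤ) - 2) - Finsupp.single Q (m : ℤ) : Divisor k K) := by
      have := L_inf_le (D := (Finsupp.single A ((t + 3 : ℕ) : ℤ) : Divisor k K)) (Ne.symm hQ) 2 (m : ℤ)
      rw [← Finsupp.single_sub] at this
      exact this
    have hfin2 := finiteDimensional_L hK (Finsupp.single A (((t + 3 : ℕ) : ℤ) - 2) -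
      Finsupp.single Q (m : ℤ) : Divisor k K)
    have h3 := Submodule.finrank_mono h2
    rw [ell_def] at h3
    omega
  have hGlow : ∀ m : ℕ, 1 ≤ m → m ≤ t → G m ≤ t + 2 - m := by
    intro m h1 hm
    by_contra hcon
    push Not at hcon
    have h2 := hkey m (by omega) (by omega)
    have hd : Divisor.deg (Finsupp.single A (((t + 3 : ℕ) : ℤ) - 2) -
      Finsupp.single Q (m : ℤ) : Divisor k K) = (t : ℤ) + 1 - m := by
      rw [Divisor.deg_sub, deg_single' hK, deg_single' hK]; push_cast; ring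
    have h3 := ell_of_deg_pos_genus_one hK hg1 (D := Finsupp.single A (((t + 3 : ℕ) : ℤ) - 2) -
      Finsupp.single Q (m : ℤ)) (by rw [hd]; omega)
    rw [hd] at h3
    omega
  have hG1 : G (t + 1) ≤ 2 := by
    have := hGle (t + 1)
    rw [hellD (t + 1) (by omega)] at this
    omega
  have hG2 : G (t + 2) ≤ 1 := by
    have := hGle (t + 2)
    rw [hellD (t + 2) (by omega)] at this
    omega
  -- not all three maximal
  have hnot : ¬ (G (t + 1) = 2 ∧ G (t + 3) = 1) := by
    rintro ⟨e1, e3⟩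
    have hk := hkey (t + 1) (by omega) (by omega)
    have hd1 : Divisor.deg (Finsupp.single A (((t + 3 : ℕ) : ℤ) - 2) -
        Finsupp.single Q ((t + 1 : ℕ) : ℤ) : Divisor k K) = 0 := by
      rw [Divisor.deg_sub, deg_single' hK, deg_single' hK]; push_cast; ring
    obtain ⟨h', hh'0, hh'⟩ := exists_div_eq_neg hK hd1 (by omega)
    have hd3 : Divisor.deg (Finsupp.single A ((t + 3 : ℕ) : ℤ) -
        Finsupp.single Q ((t + 3 : ℕ) : ℤ) : Divisor k K) = 0 := by
      rw [hdegD]; push_cast; ring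
    have hpos3 : 0 < ell (Finsupp.single A ((t + 3 : ℕ) : ℤ) -
        Finsupp.single Q ((t + 3 : ℕ) : ℤ) : Divisor k K) := by
      have := hGle (t + 3)
      omega
    obtain ⟨h, hh0, hh⟩ := exists_div_eq_neg hK hd3 hpos3
    -- t is even
    obtain ⟨s, hs⟩ := hodd
    have hs' : t = 2 * (s - 1) ∧ 1 ≤ s := by omega
    set u := s - 1 with hu
    have hw0 : h' / h ≠ 0 := div_ne_zero hh'0 hh0
    have hz0 : h * (h' / h) ^ (u + 1) ≠ 0 := mul_ne_zero hh0 (pow_ne_zero _ hw0)
    have hdz : div k (h * (h' / h) ^ (u + 1)) = Finsupp.single Q (1 : ℤ) - Finsupp.single A (1 : ℤ) := by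
      rw [div_mul hK hh0 (pow_ne_zero _ hw0), div_pow hK, div_div hK hh'0 hh0]
      ext S
      have e1 := DFunLike.congr_fun hh S
      have e2 := DFunLike.congr_fun hh' S
      simp only [Finsupp.coe_neg, Finsupp.coe_sub, Pi.neg_apply, Pi.sub_apply,
        Finsupp.single_apply] at e1 e2
      rw [Finsupp.add_apply, Finsupp.smul_apply, Finsupp.sub_apply, e1, e2, Finsupp.sub_apply,
        Finsupp.single_apply, Finsupp.single_apply, nsmul_eq_mul]
      have ht : (t : ℤ) = 2 * u := by omega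
      by_cases h1 : A = S
      · have h2 : ¬ Q = S := fun h => hQ (h.trans h1.symm)
        simp only [if_pos h1, if_neg h2]
        push_cast
        rw [ht]
        ring
      · by_cases h2 : Q = S
        · simp only [if_neg h1, if_pos h2]
          push_cast
          rw [ht]
          ring
        · simp only [if_neg h1, if_neg h2]
          simp
    have hzi : (h * (h' / h) ^ (u + 1))⁻¹ ∈ L (Finsupp.single Q (1 : ℤ) : Divisor k K) := by
      rw [mem_L_iff hK _ (inv_ne_zero hz0), div_inv hK, hdz]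
      intro S
      simp only [Finsupp.coe_neg, Pi.neg_apply, Finsupp.coe_sub, Pi.sub_apply, Finsupp.single_apply]
      split_ifs <;> omega
    have hlQ : ell (Finsupp.single Q (1 : ℤ) : Divisor k K) = 1 :=
      ell_single_of_genus_one hK hg1 (Place.deg_eq_one hK Q) (n := 1) le_rfl
    have h0 := div_eq_zero_of_ell_one hK (single_nonneg Q (by norm_num)) hlQ hzi
    rw [div_inv hK, hdz] at h0
    have := DFunLike.congr_fun h0 A
    simp only [Finsupp.coe_neg, Pi.neg_apply, Finsupp.coe_sub, Pi.sub_apply, Finsupp.single_apply,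
      Finsupp.coe_zero, Pi.zero_apply, if_neg hQ, if_true] at this
    omega
  -- the sum
  have e2 : 2 * (t + 3) - 2 = t + (t + 4) := by omega
  rw [e2, Finset.sum_range_add]
  have s1 : ∑ n ∈ Finset.range t, G (n + 1) ≤ ∑ n ∈ Finset.range t, (t + 1 - n) := by
    refine Finset.sum_le_sum fun n hn => ?_
    rw [Finset.mem_range] at hn
    have := hGlow (n + 1) (by omega) (by omega)
    omega
  have s2 : ∑ i ∈ Finset.range (t + 4), G (t + i + 1) = G (t + 1) + G (t + 2) + G (t + 3) := by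
    rw [Finset.sum_range_succ', Finset.sum_range_succ', Finset.sum_range_succ']
    have : ∑ i ∈ Finset.range (t + 1), G (t + (i + 1 + 1 + 1) + 1) = 0 := by
      refine Finset.sum_eq_zero fun i _ => hGzero _ (by omega)
    rw [this]
    simp only [zero_add, add_zero]
    ring_nf
  rw [s2]
  have s3 := sum_tri t
  have e3 : t + 3 - 1 = t + 2 := by omega
  rw [e3]
  by_cases hc : G (t + 1) = 2 ∧ G (t + 3) = 1
  · exact absurd hc hnot
  · rw [not_and_or] at hc
    rcases hc with hc | hc <;> omega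

end Groth.Agent.Helper27.LLS
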