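import Mathlib
import Groth.Agent.Lib.Helper16.FF.NSI
import Groth.Agent.Lib.Helper27.FFh

set_option autoImplicit false

namespace Groth.Agent.Helper27.FFDer

open FunFld Groth.Agent.Helper16.FF
open scoped WithZero

variable {k K : Type*} [Field k] [Field K] [Algebra k K]

/-- a finite generating family of a function field, starting with `1` -/
theorem exists_family (hK : IsFunctionField k K) :
    ∃ (n : ℕ) (φ : Fin (n + 1) → K), φ 0 = 1 ∧
      IntermediateField.adjoin k (Set.range fun i => φ i / φ 0) = ⊤ := by
  obtain ⟨⟨x, hx, hfin⟩, _⟩ := id hK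
  have : FiniteDimensional (IntermediateField.adjoin k ({x} : Set K)) K := hfin
  let b := Module.finBasis (IntermediateField.adjoin k ({x} : Set K)) K
  set n' := Module.finrank (IntermediateField.adjoin k ({x} : Set K)) K with hn'
  let φ : Fin (n' + 1 + 1) → K := Fin.cons 1 (Fin.cons x (fun i => b i))
  have h0 : φ 0 = 1 := rfl
  refine ⟨n' + 1, φ, h0, ?_⟩
  have hrange : ∀ i, φ i ∈ Set.range fun i => φ i / φ 0 := fun i => ⟨i, by show φ i / φ 0 = φ i; rw [h0, div_one]⟩
  rw [eq_top_iff]
  intro z _
  rw [← b.sum_repr z]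
  refine sum_mem fun i _ => ?_
  have hsm : (b.repr z i) • b i = ((b.repr z i : IntermediateField.adjoin k ({x} : Set K)) : K) * b i :=
    rfl
  rw [hsm]
  refine mul_mem ?_ ?_
  · have hle : IntermediateField.adjoin k ({x} : Set K) ≤
        IntermediateField.adjoin k (Set.range fun i => φ i / φ 0) := by
      apply IntermediateField.adjoin.mono
      rw [Set.singleton_subset_iff]
      exact hrange 1
    exact hle (b.repr z i).2
  · exact IntermediateField.subset_adjoin _ _ (hrange i.succ.succ)

theorem essFiniteType (hK : IsFunctionField k K) : Algebra.EssFiniteType k K := by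
  classical
  obtain ⟨n, φ, _, hφ⟩ := exists_family hK
  rw [← IntermediateField.fg_top_iff]
  refine ⟨Finset.image (fun i => φ i / φ 0) Finset.univ, ?_⟩
  rw [Finset.coe_image, Finset.coe_univ, Set.image_univ]
  exact hφ

/-- a derivation of `K/k` whose constants are exactly `k` -/
theorem exists_derivation [CharZero k] (hK : IsFunctionField k K) :
    ∃ δ : Derivation k K K, ∀ z : K, δ z = 0 → z ∈ Set.range (algebraMap k K) := by
  obtain ⟨⟨x, hx, -⟩, hK2⟩ := id hK
  have := essFiniteType hK
  -- Ω is nontrivial
  have hnt : ¬ Subsingleton (Ω[K⁄k]) := by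
    intro hs
    have : Algebra.FormallyUnramified k K := ⟨hs⟩
    have hsep := Algebra.FormallyUnramified.isSeparable k K
    exact hx (hsep.isAlgebraic.isAlgebraic x)
  obtain ⟨z0, hz0⟩ : ∃ z0 : K, KaehlerDifferential.D k K z0 ≠ 0 := by
    by_contra hall
    push Not at hall
    apply hnt
    have hspan := KaehlerDifferential.span_range_derivation k K
    have : Submodule.span K (Set.range (KaehlerDifferential.D k K)) = ⊥ := by
      rw [Submodule.span_eq_bot]
      rintro _ ⟨z, rfl⟩
      exact hall z
    rw [this] at hspan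
    exact ⟨fun a b => by
      have ha : a ∈ (⊥ : Submodule K (Ω[K⁄k])) := by rw [hspan]; trivial
      have hb : b ∈ (⊥ : Submodule K (Ω[K⁄k])) := by rw [hspan]; trivial
      rw [Submodule.mem_bot] at ha hb
      rw [ha, hb]⟩
  obtain ⟨ℓ, hℓ⟩ : ∃ ℓ : Module.Dual K (Ω[K⁄k]), ℓ (KaehlerDifferential.D k K z0) ≠ 0 := by
    by_contra hall
    push Not at hall
    exact hz0 ((Module.forall_dual_apply_eq_zero_iff K _).1 hall)
  let δ : Derivation k K K := ℓ.compDer (KaehlerDifferential.D k K)
  have hδz0 : δ z0 ≠ 0 := hℓ
  refine ⟨δ, fun w hw => ?_⟩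
  by_contra hwk
  have hwtr : Transcendental k w := transcendental_of_not_mem_range hK hwk
  have hfin : FiniteDimensional (IntermediateField.adjoin k ({w} : Set K)) K :=
    finite_of_transcendental hK hwtr
  -- δ vanishes on k(w)
  have hvan : ∀ a : IntermediateField.adjoin k ({w} : Set K), δ (a : K) = 0 := by
    intro a
    obtain ⟨r, s, hrs⟩ := (IntermediateField.mem_adjoin_simple_iff k (a : K)).1 a.2
    have h1 : ∀ p : Polynomial k, δ (Polynomial.aeval w p) = 0 := by
      intro p
      rw [Derivation.map_aeval, hw, smul_zero]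
    rw [hrs, Derivation.leibniz_div, h1, h1, smul_zero, smul_zero, sub_zero, smul_zero]
  -- δ as a derivation over k(w)
  let L' : K →ₗ[IntermediateField.adjoin k ({w} : Set K)] K :=
    { toFun := δ
      map_add' := fun a b => map_add δ a b
      map_smul' := fun a z => by
        show δ ((a : K) * z) = (a : K) * δ z
        rw [Derivation.leibniz, hvan a, smul_zero, add_zero, smul_eq_mul] }
  let δ' : Derivation (IntermediateField.adjoin k ({w} : Set K)) K K :=
    Derivation.mk' L' (fun a b => Derivation.leibniz δ a b)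
  have : Algebra.FormallyUnramified (IntermediateField.adjoin k ({w} : Set K)) K :=
    Algebra.FormallyUnramified.of_isSeparable _ K
  apply hδz0
  have h0 : KaehlerDifferential.D (IntermediateField.adjoin k ({w} : Set K)) K z0 = 0 :=
    Subsingleton.elim _ _
  have : δ' z0 = 0 := by
    rw [← Derivation.liftKaehlerDifferential_comp_D δ' z0, h0, map_zero]
  exact this

end Groth.Agent.Helper27.FFDer
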