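import Mathlib
import Groth.Agent.Lib.Helper27.FFDerA

set_option autoImplicit false

namespace Groth.Agent.Helper27.FFDer

open FunFld Groth.Agent.Helper16.FF
open scoped WithZero

variable {k K : Type*} [Field k] [Field K] [Algebra k K]

/-- a place is good for the derivation `δ` if `δ` preserves the valuation ring -/
def Good (δ : Derivation k K K) (Q : Place k K) : Prop := ∀ u : K, Q.1 u ≤ 1 → Q.1 (δ u) ≤ 1

theorem val_nsmul_le (Q : Place k K) (n : ℕ) (y : K) : Q.1 (n • y) ≤ Q.1 y := by
  have : n • y = (n : k) • y := by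
    rw [Nat.cast_smul_eq_nsmul]
  rw [this]
  exact Place.val_smul_le Q _ y

theorem finite_not_good [IsAlgClosed k] (hK : IsFunctionField k K) (δ : Derivation k K K) :
    {Q : Place k K | ¬ Good δ Q}.Finite := by
  classical
  obtain ⟨n, φ, h0, hφ⟩ := exists_family hK
  have hφ0 : φ 0 ≠ 0 := by rw [h0]; exact one_ne_zero
  have hsing := finite_singular hK φ 0 hφ0 hφ
  have hpoles : {Q : Place k K | ∃ i j, ¬ Q.1 (δ (φ i / φ j)) ≤ 1}.Finite := by
    have : {Q : Place k K | ∃ i j, ¬ Q.1 (δ (φ i / φ j)) ≤ 1} =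
        ⋃ i, ⋃ j, {Q : Place k K | ¬ Q.1 (δ (φ i / φ j)) ≤ 1} := by
      ext Q; simp
    rw [this]
    exact Set.finite_iUnion fun i => Set.finite_iUnion fun j => finite_poles hK _
  apply (hsing.union hpoles).subset
  intro Q hQ
  by_contra hnot
  rw [Set.mem_union, not_or] at hnot
  obtain ⟨hns, hnp⟩ := hnot
  rw [Set.mem_ofPred_eq, not_not] at hns
  rw [Set.mem_ofPred_eq] at hnp
  push Not at hnp
  apply hQ
  intro z hz
  obtain ⟨j, hj0, hjmax, u, hu, w, hw, hw1, hzw⟩ := hns z hz
  -- all elements of the affine ring are integral with integral derivative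
  have key : ∀ a ∈ Algebra.adjoin k (Set.range fun i => φ i / φ j),
      Q.1 a ≤ 1 ∧ Q.1 (δ a) ≤ 1 := by
    intro a ha
    induction ha using Algebra.adjoin_induction with
    | mem x hx =>
      obtain ⟨i, rfl⟩ := hx
      refine ⟨?_, hnp i j⟩
      show Q.1 (φ i / φ j) ≤ 1
      rw [map_div₀]
      have hj0' : Q.1 (φ j) ≠ 0 := (Valuation.ne_zero_iff _).2 hj0
      rw [div_le_one₀ (zero_lt_iff.2 hj0')]
      exact hjmax i
    | algebraMap c =>
      refine ⟨Q.2.1 c, ?_⟩
      rw [Derivation.map_algebraMap, map_zero]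
      exact zero_le
    | add x y _ _ hx hy =>
      refine ⟨(Q.1.map_add _ _).trans (max_le hx.1 hy.1), ?_⟩
      rw [map_add]
      exact (Q.1.map_add _ _).trans (max_le hx.2 hy.2)
    | mul x y _ _ hx hy =>
      refine ⟨by rw [map_mul]; exact mul_le_one' hx.1 hy.1, ?_⟩
      rw [Derivation.leibniz, smul_eq_mul, smul_eq_mul]
      refine (Q.1.map_add _ _).trans (max_le ?_ ?_)
      · rw [map_mul]; exact mul_le_one' hx.1 hy.2
      · rw [map_mul]; exact mul_le_one' hy.1 hx.2
  have hw0 : w ≠ 0 := by
    rintro rfl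
    rw [map_zero] at hw1
    exact zero_ne_one hw1
  have hzu : z = u / w := by rw [← hzw]; field_simp
  rw [hzu, Derivation.leibniz_div, smul_eq_mul, smul_eq_mul, smul_eq_mul, map_mul, map_pow,
    map_inv₀, hw1, inv_one, one_pow, one_mul]
  refine (Q.1.map_sub _ _).trans (max_le ?_ ?_)
  · rw [map_mul]; exact mul_le_one' (key w hw).1 (key u hu).2
  · rw [map_mul]; exact mul_le_one' (key u hu).1 (key w hw).2

/-- the derivative lowers the vanishing order by at most one at a good place -/
theorem val_deriv_le {δ : Derivation k K K} {Q : Place k K} (hQ : Good δ Q) (n : ℕ) {h : K}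
    (hh : Q.1 h ≤ WithZero.exp (-((n : ℤ) + 1))) : Q.1 (δ h) ≤ WithZero.exp (-(n : ℤ)) := by
  obtain ⟨t, ht⟩ := Place.exists_uniformizer Q
  have ht0 : t ≠ 0 := by
    rintro rfl
    rw [map_zero] at ht
    exact WithZero.exp_ne_zero ht.symm
  have htn : ∀ m : ℕ, Q.1 (t ^ m) = WithZero.exp (-(m : ℤ)) := by
    intro m
    rw [map_pow, ht, ← WithZero.exp_nsmul]
    congr 1
    simp
  set u := h / t ^ (n + 1) with hu
  have hu1 : Q.1 u ≤ 1 := by
    rw [hu, map_div₀, htn]
    rw [div_le_one₀ WithZero.exp_pos]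
    exact_mod_cast hh
  have hh' : h = t ^ (n + 1) * u := by
    rw [hu]; field_simp
  have ht1 : Q.1 t ≤ 1 := by
    rw [ht, ← WithZero.exp_zero, WithZero.exp_le_exp]; norm_num
  rw [hh', Derivation.leibniz, Derivation.leibniz_pow, smul_eq_mul, smul_eq_mul, smul_eq_mul,
    Nat.add_sub_cancel]
  refine (Q.1.map_add _ _).trans (max_le ?_ ?_)
  · rw [map_mul, htn]
    calc WithZero.exp (-((n + 1 : ℕ) : ℤ)) * Q.1 (δ u) ≤ WithZero.exp (-((n + 1 : ℕ) : ℤ)) * 1 :=
          mul_le_mul' le_rfl (hQ u hu1)
      _ = WithZero.exp (-((n + 1 : ℕ) : ℤ)) := mul_one _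
      _ ≤ WithZero.exp (-(n : ℤ)) := by rw [WithZero.exp_le_exp]; push_cast; omega
  · rw [map_mul]
    have h2 : Q.1 ((n + 1) • (t ^ n * δ t)) ≤ WithZero.exp (-(n : ℤ)) := by
      refine (val_nsmul_le Q _ _).trans ?_
      rw [map_mul, htn]
      calc WithZero.exp (-(n : ℤ)) * Q.1 (δ t) ≤ WithZero.exp (-(n : ℤ)) * 1 :=
            mul_le_mul' le_rfl (hQ t ht1)
        _ = _ := mul_one _
    calc Q.1 u * Q.1 ((n + 1) • (t ^ n * δ t)) ≤ 1 * WithZero.exp (-(n : ℤ)) := mul_le_mul' hu1 h2
      _ = _ := one_mul _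

/-- finiteness of the places where a nonzero member of an `m`-dimensional space of functions
vanishes to order at least `m` (good places only) -/
theorem finite_osc_good [IsAlgClosed k] (hK : IsFunctionField k K) (δ : Derivation k K K)
    (hδ : ∀ z : K, δ z = 0 → z ∈ Set.range (algebraMap k K)) :
    ∀ (m : ℕ) (f : Fin m → K), LinearIndependent k f →
      {Q : Place k K | Good δ Q ∧ ∃ c : Fin m → k, c ≠ 0 ∧
        Q.1 (∑ i, c i • f i) ≤ WithZero.exp (-(m : ℤ))}.Finite := by
  intro m
  induction m with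
  | zero =>
    intro f _
    have : {Q : Place k K | Good δ Q ∧ ∃ c : Fin 0 → k, c ≠ 0 ∧
        Q.1 (∑ i, c i • f i) ≤ WithZero.exp (-((0 : ℕ) : ℤ))} = ∅ := by
      ext Q
      simp only [Set.mem_ofPred_eq, Set.mem_empty_iff_false, iff_false, not_and, not_exists]
      intro _ c hc
      exact absurd (Subsingleton.elim c 0) hc
    rw [this]; exact Set.finite_empty
  | succ m ih =>
    intro f hf
    have hf0 : f 0 ≠ 0 := hf.ne_zero 0
    set g : Fin m → K := fun i => δ (f i.succ / f 0) with hg
    have hgind : LinearIndependent k g := by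
      rw [Fintype.linearIndependent_iff]
      intro c hc
      have h1 : δ (∑ i, c i • (f i.succ / f 0)) = 0 := by
        rw [map_sum, ← hc]
        refine Finset.sum_congr rfl fun i _ => ?_
        rw [Derivation.map_smul]
      obtain ⟨c', hc'⟩ := hδ _ h1
      have h2 : ∑ j : Fin (m + 1), (Fin.cons (-c') c : Fin (m + 1) → k) j • f j = 0 := by
        rw [Fin.sum_univ_succ]
        simp only [Fin.cons_zero, Fin.cons_succ]
        have h3 : ∑ i : Fin m, c i • f i.succ = (∑ i, c i • (f i.succ / f 0)) * f 0 := by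
          rw [Finset.sum_mul]
          refine Finset.sum_congr rfl fun i _ => ?_
          rw [smul_mul_assoc, div_mul_cancel₀ _ hf0]
        rw [h3, ← hc', Algebra.smul_def, map_neg]
        ring
      have h4 := (Fintype.linearIndependent_iff.1 hf) _ h2
      intro i
      have := h4 i.succ
      rwa [Fin.cons_succ] at this
    have hfin1 := ih g hgind
    have hfin2 : {Q : Place k K | Q.1 (f 0) ≠ 1}.Finite := by
      apply ((finite_zeros' hK hf0).union (finite_poles hK (f 0))).subset
      intro Q hQ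
      rcases lt_or_gt_of_ne hQ with h | h
      · exact Or.inl h
      · exact Or.inr (not_le.2 h)
    apply (hfin1.union hfin2).subset
    rintro Q ⟨hgood, c, hc0, hcv⟩
    by_cases hQ1 : Q.1 (f 0) = 1
    · left
      refine ⟨hgood, fun i => c i.succ, ?_, ?_⟩
      · intro hzero
        have hc00 : c 0 ≠ 0 := by
          intro h00
          apply hc0
          funext j
          refine Fin.cases h00 (fun i => ?_) j
          exact congrFun hzero i
        rw [Fin.sum_univ_succ] at hcv
        have : ∑ i : Fin m, c i.succ • f i.succ = 0 := by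
          refine Finset.sum_eq_zero fun i _ => ?_
          have := congrFun hzero i
          simp only [Pi.zero_apply] at this
          rw [this, zero_smul]
        rw [this, add_zero, Algebra.smul_def, map_mul, hQ1, mul_one,
          Place.val_algebraMap Q hc00, ← WithZero.exp_zero, WithZero.exp_le_exp] at hcv
        push_cast at hcv
        omega
      · have hh : Q.1 ((∑ j, c j • f j) / f 0) ≤ WithZero.exp (-((m : ℤ) + 1)) := by
          rw [map_div₀, hQ1, div_one]
          exact_mod_cast hcv
        have h5 := val_deriv_le hgood m hh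
        have h6 : δ ((∑ j, c j • f j) / f 0) = ∑ i, c i.succ • g i := by
          rw [Fin.sum_univ_succ, add_div, smul_div_assoc, div_self hf0, map_add,
            Algebra.smul_def, mul_one, Derivation.map_algebraMap, zero_add, Finset.sum_div, map_sum]
          refine Finset.sum_congr rfl fun i _ => ?_
          rw [smul_div_assoc, Derivation.map_smul]
        rwa [h6] at h5
    · right; exact hQ1

/-- finiteness of osculating places in characteristic zero -/
theorem finite_osc [IsAlgClosed k] [CharZero k] (hK : IsFunctionField k K) (m : ℕ) (f : Fin m → K)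
    (hf : LinearIndependent k f) :
    {Q : Place k K | ∃ c : Fin m → k, c ≠ 0 ∧
      Q.1 (∑ i, c i • f i) ≤ WithZero.exp (-(m : ℤ))}.Finite := by
  obtain ⟨δ, hδ⟩ := exists_derivation hK
  apply ((finite_osc_good hK δ hδ m f hf).union (finite_not_good hK δ)).subset
  intro Q hQ
  by_cases hg : Good δ Q
  · exact Or.inl ⟨hg, hQ⟩
  · exact Or.inr hg

end Groth.Agent.Helper27.FFDer
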