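import Mathlib
import Groth.Agent.Lib.Helper27.FFDerB
import Groth.Agent.Lib.Helper27.GrSectA

set_option autoImplicit false

namespace Groth.Agent.Helper27.FFDer

open FunFld Groth.Agent.Helper16.FF Groth.Agent.Helper27.LLS
open scoped WithZero

variable {k K : Type*} [Field k] [Field K] [Algebra k K]

/-- finitely many places `Q` with `m (Q - P)` principal, in genus one and characteristic zero -/
theorem finite_torsion [IsAlgClosed k] [CharZero k] (hK : IsFunctionField k K)
    (hg1 : genus k K = 1) (P : Place k K) {m : ℕ} (hm : 1 ≤ m) :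
    {Q : Place k K | ∃ g : K, g ∈ L (Finsupp.single P (m : ℤ) : Divisor k K) ∧ g ≠ 0 ∧
      Q.1 g ≤ WithZero.exp (-(m : ℤ))}.Finite := by
  have hP := Place.deg_eq_one hK P
  have hfr : Module.finrank k ↥(L (Finsupp.single P (m : ℤ) : Divisor k K)) = m :=
    ell_single_of_genus_one hK hg1 hP hm
  have hfd := finiteDimensional_L hK (Finsupp.single P (m : ℤ) : Divisor k K)
  let b := Module.finBasisOfFinrankEq k ↥(L (Finsupp.single P (m : ℤ) : Divisor k K)) hfr
  set f : Fin m → K := fun i => ((b i : ↥(L (Finsupp.single P (m : ℤ) : Divisor k K))) : K) with hf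
  have hfind : LinearIndependent k f := by
    have := b.linearIndependent.map' (L (Finsupp.single P (m : ℤ) : Divisor k K)).subtype
      (Submodule.ker_subtype _)
    exact this
  apply (finite_osc hK m f hfind).subset
  rintro Q ⟨g, hg, hg0, hgv⟩
  refine ⟨fun i => b.repr ⟨g, hg⟩ i, ?_, ?_⟩
  · intro h0
    apply hg0
    have : (⟨g, hg⟩ : ↥(L (Finsupp.single P (m : ℤ) : Divisor k K))) = 0 := by
      rw [← b.sum_repr ⟨g, hg⟩]
      refine Finset.sum_eq_zero fun i _ => ?_
      have := congrFun h0 i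
      simp only [Pi.zero_apply] at this
      rw [this, zero_smul]
    exact congrArg Subtype.val this
  · have hsum : ∑ i, (b.repr ⟨g, hg⟩ i) • f i = g := by
      have h1 := congrArg (L (Finsupp.single P (m : ℤ) : Divisor k K)).subtype (b.sum_repr ⟨g, hg⟩)
      rw [map_sum] at h1
      simp only [map_smul, Submodule.subtype_apply] at h1
      exact h1
    rw [hsum]; exact hgv

theorem mem_L_sub_sub {P Q : Place k K} (hPQ : Q ≠ P) (D : Divisor k K) (a b : ℤ) {x : K}
    (h1 : x ∈ L (D - Finsupp.single P a)) (h2 : x ∈ L (D - Finsupp.single Q b)) :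
    x ∈ L (D - Finsupp.single P a - Finsupp.single Q b) := by
  classical
  intro R
  by_cases hRQ : R = Q
  · subst hRQ
    have := h2 R
    simp only [Finsupp.sub_apply, Finsupp.single_apply] at this ⊢
    rw [if_neg (Ne.symm hPQ)]
    simpa using this
  · have := h1 R
    simp only [Finsupp.sub_apply, Finsupp.single_apply] at this ⊢
    rw [if_neg (Ne.symm hRQ)]
    simpa using this

/-- a nonzero member of `L E` with `deg E = 0` has valuation exactly `exp (E R)` everywhere -/
theorem val_eq_of_mem_L_deg_zero [IsAlgClosed k] (hK : IsFunctionField k K) {E : Divisor k K}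
    {s : K} (hs0 : s ≠ 0) (hs : s ∈ L E) (hdeg : E.deg = 0) (R : Place k K) :
    R.1 s = WithZero.exp (E R) := by
  have h1 := div_eq_of_mem_L_of_deg hK hs0 hs hdeg
  have h2 := div_apply hK s R
  rw [h1, Finsupp.neg_apply] at h2
  rw [Place.val_eq_exp_neg_ord R hs0, ← h2, neg_neg]

/-- the core step of S18182 -/
theorem exists_torsion_of_weights [IsAlgClosed k] (hK : IsFunctionField k K)
    {P Q : Place k K} (hPQ : Q ≠ P) (d r : ℕ) (D : Divisor k K) (V : Submodule k K)
    (hdeg : D.deg = d) (hV : V ≤ L D) (hdim : Module.finrank k ↥V = r + 1)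
    (hw : (r + 1) * d + 1 ≤
      (∑ n ∈ Finset.range d, Module.finrank k ↥(V ⊓ L (D - Finsupp.single P ((n : ℤ) + 1)))) +
        (∑ n ∈ Finset.range d, Module.finrank k ↥(V ⊓ L (D - Finsupp.single Q ((n : ℤ) + 1)))) + r) :
    ∃ m : ℕ, 1 ≤ m ∧ m ≤ d ∧ ∃ g : K, g ∈ L (Finsupp.single P (m : ℤ) : Divisor k K) ∧ g ≠ 0 ∧
      Q.1 g ≤ WithZero.exp (-(m : ℤ)) := by
  classical
  have hfdL := finiteDimensional_L hK D
  haveI hfdV : FiniteDimensional k ↥V := Submodule.finiteDimensional_of_le hV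
  set α : ℕ → ℕ := fun n => Module.finrank k ↥(V ⊓ L (D - Finsupp.single P (n : ℤ))) with hα
  set β : ℕ → ℕ := fun n => Module.finrank k ↥(V ⊓ L (D - Finsupp.single Q (n : ℤ))) with hβ
  have hα0 : α 0 = r + 1 := by
    show Module.finrank k ↥(V ⊓ L (D - Finsupp.single P ((0 : ℕ) : ℤ))) = r + 1
    rw [Nat.cast_zero, Finsupp.single_zero, sub_zero, inf_eq_left.2 hV, hdim]
  have hβ0 : β 0 = r + 1 := by
    show Module.finrank k ↥(V ⊓ L (D - Finsupp.single Q ((0 : ℕ) : ℤ))) = r + 1
    rw [Nat.cast_zero, Finsupp.single_zero, sub_zero, inf_eq_left.2 hV, hdim]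
  have hαs : ∑ n ∈ Finset.range d, Module.finrank k ↥(V ⊓ L (D - Finsupp.single P ((n : ℤ) + 1))) =
      ∑ n ∈ Finset.range d, α (n + 1) := by
    refine Finset.sum_congr rfl fun n _ => ?_
    show _ = Module.finrank k ↥(V ⊓ L (D - Finsupp.single P ((n + 1 : ℕ) : ℤ)))
    rw [Nat.cast_succ]
  have hβs : ∑ n ∈ Finset.range d, Module.finrank k ↥(V ⊓ L (D - Finsupp.single Q ((n : ℤ) + 1))) =
      ∑ n ∈ Finset.range d, β (n + 1) := by
    refine Finset.sum_congr rfl fun n _ => ?_
    show _ = Module.finrank k ↥(V ⊓ L (D - Finsupp.single Q ((n + 1 : ℕ) : ℤ)))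
    rw [Nat.cast_succ]
  rw [hαs, hβs] at hw
  -- the degree-zero divisors
  have hEdeg : ∀ a b : ℕ, a + b = d →
      (D - Finsupp.single P (a : ℤ) - Finsupp.single Q (b : ℤ)).deg = 0 := by
    intro a b hab
    rw [Divisor.deg_sub, Divisor.deg_sub, deg_single' hK, deg_single' hK, hdeg]
    have : ((a + b : ℕ) : ℤ) = d := by rw [hab]
    push_cast at this
    omega
  -- the intersection
  have hinter : ∀ a b : ℕ, a + b = d →
      (V ⊓ L (D - Finsupp.single P (a : ℤ))) ⊓ (V ⊓ L (D - Finsupp.single Q (b : ℤ))) ≤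
        L (D - Finsupp.single P (a : ℤ) - Finsupp.single Q (b : ℤ)) := by
    intro a b _ x hx
    exact mem_L_sub_sub hPQ D a b hx.1.2 hx.2.2
  have hF1 : ∀ a b : ℕ, a + b = d → α a + β b ≤ r + 2 := by
    intro a b hab
    have h1 := finrank_add_le_of_le (V₁ := V)
      (inf_le_left : V ⊓ L (D - Finsupp.single P (a : ℤ)) ≤ V)
      (inf_le_left : V ⊓ L (D - Finsupp.single Q (b : ℤ)) ≤ V)
    have hfdE := finiteDimensional_L hK (D - Finsupp.single P (a : ℤ) - Finsupp.single Q (b : ℤ))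
    have h2 := Submodule.finrank_mono (hinter a b hab)
    have h3 := ell_le_one_of_deg_zero hK (hEdeg a b hab)
    unfold ell at h3
    simp only [hα, hβ]
    rw [hdim] at h1
    omega
  have hF2 : ∀ a b : ℕ, a + b = d → r + 2 ≤ α a + β b →
      ∃ s : K, s ≠ 0 ∧ s ∈ L (D - Finsupp.single P (a : ℤ) - Finsupp.single Q (b : ℤ)) := by
    intro a b hab hge
    have h1 := finrank_add_le_of_le (V₁ := V)
      (inf_le_left : V ⊓ L (D - Finsupp.single P (a : ℤ)) ≤ V)
      (inf_le_left : V ⊓ L (D - Finsupp.single Q (b : ℤ)) ≤ V)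
    rw [hdim] at h1
    simp only [hα, hβ] at hge
    have hpos : 0 < Module.finrank k
        ↥((V ⊓ L (D - Finsupp.single P (a : ℤ))) ⊓ (V ⊓ L (D - Finsupp.single Q (b : ℤ)))) := by
      omega
    obtain ⟨s, hs⟩ := Module.finrank_pos_iff_exists_ne_zero.1 hpos
    exact ⟨s, fun h0 => hs (Subtype.ext h0), hinter a b hab s.2⟩
  -- counting
  set T : ℕ → ℕ := fun a => α a + β (d - a) with hT
  have hsumT : ∑ a ∈ Finset.range (d + 1), T a =
      2 * (r + 1) + ∑ n ∈ Finset.range d, α (n + 1) + ∑ n ∈ Finset.range d, β (n + 1) := by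
    simp only [hT]
    rw [Finset.sum_add_distrib]
    have hrefl : ∑ a ∈ Finset.range (d + 1), β (d - a) = ∑ a ∈ Finset.range (d + 1), β a := by
      have := Finset.sum_range_reflect β (d + 1)
      simpa using this
    rw [hrefl, Finset.sum_range_succ' α, Finset.sum_range_succ' β, hα0, hβ0]
    ring
  have hTle : ∀ a ∈ Finset.range (d + 1), T a ≤ r + 2 := by
    intro a ha
    rw [Finset.mem_range] at ha
    exact hF1 a (d - a) (by omega)
  obtain ⟨a, a', ha, ha', hlt, hTa, hTa'⟩ : ∃ a a' : ℕ, a ≤ d ∧ a' ≤ d ∧ a' < a ∧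
      r + 2 ≤ T a ∧ r + 2 ≤ T a' := by
    by_contra hcon
    push Not at hcon
    set E := (Finset.range (d + 1)).filter (fun a => r + 2 ≤ T a) with hE
    have hEcard : E.card ≤ 1 := by
      rw [Finset.card_le_one]
      intro x hx y hy
      rw [hE, Finset.mem_filter, Finset.mem_range] at hx hy
      by_contra hne
      rcases lt_or_gt_of_ne hne with h | h
      · exact absurd hx.2 (not_le.2 (hcon y x (by omega) (by omega) h hy.2))
      · exact absurd hy.2 (not_le.2 (hcon x y (by omega) (by omega) h hx.2))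
    have hbound : ∑ a ∈ Finset.range (d + 1), T a ≤
        ∑ a ∈ Finset.range (d + 1), ((r + 1) + if r + 2 ≤ T a then 1 else 0) := by
      refine Finset.sum_le_sum fun a ha => ?_
      have := hTle a ha
      split_ifs with h <;> omega
    have hR : ∑ a ∈ Finset.range (d + 1), ((r + 1) + if r + 2 ≤ T a then 1 else 0) =
        (d + 1) * (r + 1) + E.card := by
      rw [Finset.sum_add_distrib, Finset.sum_const, Finset.card_range, smul_eq_mul,
        Finset.sum_boole, hE]
      simp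
    rw [hR, hsumT] at hbound
    have e1 : (d + 1) * (r + 1) = (r + 1) * d + r + 1 := by ring
    rw [e1] at hbound
    omega
  -- the two functions
  obtain ⟨s, hs0, hs⟩ := hF2 a (d - a) (by omega) hTa
  obtain ⟨s', hs0', hs'⟩ := hF2 a' (d - a') (by omega) hTa'
  have hv := val_eq_of_mem_L_deg_zero hK hs0 hs (hEdeg a (d - a) (by omega))
  have hv' := val_eq_of_mem_L_deg_zero hK hs0' hs' (hEdeg a' (d - a') (by omega))
  have hg : ∀ R : Place k K, R.1 (s' / s) = WithZero.exp
      (((a : ℤ) - a') * (if P = R then 1 else 0) - ((a : ℤ) - a') * (if Q = R then 1 else 0)) := by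
    intro R
    rw [map_div₀, hv R, hv' R, ← WithZero.exp_sub]
    congr 1
    simp only [Finsupp.sub_apply, Finsupp.single_apply]
    have e1 : ((d - a : ℕ) : ℤ) = (d : ℤ) - a := by rw [Nat.cast_sub ha]
    have e2 : ((d - a' : ℕ) : ℤ) = (d : ℤ) - a' := by rw [Nat.cast_sub ha']
    rw [e1, e2]
    split_ifs <;> ring
  refine ⟨a - a', by omega, by omega, s' / s, ?_, div_ne_zero hs0' hs0, ?_⟩
  · rw [Groth.Agent.Helper27.GrSect.mem_L_single_iff]
    have e : ((a - a' : ℕ) : ℤ) = (a : ℤ) - a' := by rw [Nat.cast_sub hlt.le]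
    constructor
    · rw [hg P, if_pos rfl, if_neg hPQ, e, WithZero.exp_le_exp]
      ring_nf
      exact le_refl _
    · intro R hR
      rw [hg R, if_neg (Ne.symm hR), ← WithZero.exp_zero, WithZero.exp_le_exp]
      have : (0 : ℤ) ≤ (a : ℤ) - a' := by omega
      split_ifs
      · nlinarith
      · simp
  · have e : ((a - a' : ℕ) : ℤ) = (a : ℤ) - a' := by rw [Nat.cast_sub hlt.le]
    rw [hg Q, if_pos rfl, if_neg (Ne.symm hPQ), e, WithZero.exp_le_exp]
    ring_nf
    exact le_refl _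

/-- S18182 -/
theorem main18182 [IsAlgClosed k] [CharZero k] (hK : IsFunctionField k K) (hg1 : genus k K = 1)
    (P : Place k K) (d r : ℕ) :
    Set.Finite {Q : Place k K | Q ≠ P ∧ ∃ (D : Divisor k K) (V : Submodule k K),
      D.deg = d ∧ V ≤ L D ∧ Module.finrank k ↥V = r + 1 ∧
      (r + 1) * d + 1 ≤
        (∑ n ∈ Finset.range d, Module.finrank k ↥(V ⊓ L (D - Finsupp.single P ((n : ℤ) + 1)))) +
          (∑ n ∈ Finset.range d, Module.finrank k ↥(V ⊓ L (D - Finsupp.single Q ((n : ℤ) + 1)))) + r} := by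
  have hfin : (⋃ m ∈ Finset.Icc 1 d, {Q : Place k K | ∃ g : K,
      g ∈ L (Finsupp.single P (m : ℤ) : Divisor k K) ∧ g ≠ 0 ∧
        Q.1 g ≤ WithZero.exp (-(m : ℤ))}).Finite := by
    refine Set.Finite.biUnion (Finset.finite_toSet _) fun m hm => ?_
    rw [Finset.mem_coe, Finset.mem_Icc] at hm
    exact finite_torsion hK hg1 P hm.1
  apply hfin.subset
  rintro Q ⟨hQP, D, V, hdeg, hV, hdim, hw⟩
  obtain ⟨m, hm1, hmd, g, hg, hg0, hgv⟩ := exists_torsion_of_weights hK hQP d r D V hdeg hV hdim hw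
  rw [Set.mem_iUnion₂]
  exact ⟨m, Finset.mem_Icc.2 ⟨hm1, hmd⟩, g, hg, hg0, hgv⟩

end Groth.Agent.Helper27.FFDer
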