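import Mathlib
import Groth.Agent.Lib.Helper27.FFExtD

set_option autoImplicit false

namespace Groth.Agent.Helper27.FFExt

open FunFld IntermediateField Polynomial Groth.Agent.Helper16.FFW
open scoped WithZero

section Hyper

variable {k K : Type*} [Field k] [Field K] [Algebra k K]
    [Algebra (RatFunc k) K] [IsScalarTower k (RatFunc k) K]

theorem isOverWith_one_of_ramIdx {K' : Type*} [Field K'] [Algebra k K'] {F : Type*} [Field F]
    [Algebra k F] [Algebra F K'] [IsScalarTower k F K']
    {Q : Place k K'} {P : Place k F} (h : IsOver Q P) (h1 : ramIdx Q P = 1) : IsOverWith Q P 1 := by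
  have := isOverWith_ramIdx h
  rwa [h1] at this

theorem two_ne_zero_residue (h2 : ringChar k ≠ 2) (P₀ : Place k (RatFunc k)) :
    (2 : IsLocalRing.ResidueField P₀.O) ≠ 0 := by
  have h2k : (2 : k) ≠ 0 := Ring.two_ne_zero h2
  have : (2 : IsLocalRing.ResidueField P₀.O) = algebraMap k _ 2 := (map_ofNat _ 2).symm
  rw [this]
  exact (_root_.map_ne_zero _).2 h2k

theorem main12516 (k K : Type*) [Field k] [Field K] (h2 : ringChar k ≠ 2) [Algebra k K]
    [Algebra (RatFunc k) K] [IsScalarTower k (RatFunc k) K]
    (hdeg : Module.finrank (RatFunc k) K = 2) (y : K) (f : Polynomial k) (hf : Squarefree f)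
    (hd : 1 ≤ f.natDegree)
    (heq : y ^ 2 = algebraMap (RatFunc k) K (algebraMap (Polynomial k) (RatFunc k) f))
    (Pinf : FunFld.Place k (RatFunc k)) (hinf : Pinf.ord (RatFunc.X : RatFunc k) < 0) :
    (Odd f.natDegree → (∃! P : FunFld.Place k K, FunFld.IsOver P Pinf) ∧
      ∀ P : FunFld.Place k K, FunFld.IsOver P Pinf → FunFld.IsOverWith P Pinf 2 ∧ P.deg = 1) ∧
    (Even f.natDegree → (FunFld.conorm K (Finsupp.single Pinf 1)).deg = 2 ∧
      ∀ P : FunFld.Place k K, FunFld.IsOver P Pinf → FunFld.IsOverWith P Pinf 1) := by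
  haveI : FiniteDimensional (RatFunc k) K := Module.finite_of_finrank_pos (by omega)
  have hK := (isFunctionField_ratFunc (k := k))
  have hf0 : f ≠ 0 := hf.ne_zero
  have hf0' : algebraMap k[X] (RatFunc k) f ≠ 0 := by simpa using hf0
  have hXord := ord_X_inf Pinf hinf
  have hford : Pinf.ord (algebraMap k[X] (RatFunc k) f) = -(f.natDegree : ℤ) := by
    rw [ord_poly_inf Pinf hinf hf0, hXord]; ring
  have hdegP := deg_inf Pinf hinf
  refine ⟨fun hodd => ?_, fun heven => ?_⟩
  · have hram : ∀ P : FunFld.Place k K, FunFld.IsOver P Pinf → FunFld.IsOverWith P Pinf 2 := by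
      rintro P ⟨e, he⟩
      have h2' := two_mul_ord_eq heq he
      rw [hford] at h2'
      have hele := ramIdx_le_finrank hK he
      rw [hdeg] at hele
      have hepos := isOverWith_pos he
      have hev : Even ((e : ℤ) * (f.natDegree : ℤ)) := ⟨-P.ord y, by rw [← two_mul]; linarith⟩
      have hodd' : ¬ Even (f.natDegree : ℤ) := by
        rw [Int.not_even_iff_odd]; exact_mod_cast hodd
      have hee : Even (e : ℤ) := by
        rcases Int.even_mul.1 hev with h | h
        · exact h
        · exact absurd h hodd'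
      have hee' : Even e := by exact_mod_cast hee
      obtain ⟨m, hm⟩ := hee'
      have : e = 2 := by omega
      rw [← this]; exact he
    obtain ⟨P, hP⟩ := exists_isOver (K' := K) hK Pinf
    have hP2 := hram P hP
    have htot := totally_ramified hK (hdeg ▸ hP2 : IsOverWith P Pinf (Module.finrank (RatFunc k) K))
    refine ⟨⟨P, hP, fun P' hP' => htot.2 P' hP'⟩, fun P' hP' => ⟨hram P' hP', ?_⟩⟩
    rw [htot.2 P' hP', htot.1, hdegP]
  · obtain ⟨m, hm⟩ := heven
    refine ⟨?_, ?_⟩
    · rw [deg_conorm hK, hdeg, Divisor.deg_single, hdegP]; norm_num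
    · -- unramified
      set Xk : RatFunc k := RatFunc.X with hXk
      have hX0 : Xk ≠ 0 := RatFunc.X_ne_zero
      set u₀ : RatFunc k := algebraMap k[X] (RatFunc k) f / Xk ^ (2 * m) with hu₀
      have hu₀0 : u₀ ≠ 0 := div_ne_zero hf0' (pow_ne_zero _ hX0)
      have hu₀ord : Pinf.ord u₀ = 0 := by
        rw [hu₀, div_eq_mul_inv, Place.ord_mul Pinf hf0' (inv_ne_zero (pow_ne_zero _ hX0)),
          Place.ord_inv, Place.ord_pow, hford, hXord, hm]
        push_cast; ring
      have hu₀val : Pinf.1 u₀ = 1 := by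
        have := Place.val_eq_exp_neg_ord Pinf hu₀0
        rw [this, hu₀ord]; simp
      let u : Pinf.O := ⟨u₀, (Place.mem_O_iff Pinf _).2 hu₀val.le⟩
      have hures : IsLocalRing.residue Pinf.O u ≠ 0 := by
        rw [Ne, Place.residue_eq_zero_iff]
        show ¬ Pinf.1 u₀ < 1
        rw [hu₀val]; exact lt_irrefl _
      set x : K := algebraMap (RatFunc k) K Xk with hx
      have hx0 : x ≠ 0 := by rw [hx]; simpa using hX0
      set z : K := y / x ^ m with hz
      have hz2 : z ^ 2 = algebraMap (RatFunc k) K u₀ := by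
        rw [hz, _root_.div_pow, heq, hu₀, map_div₀, map_pow, ← pow_mul, mul_comm m 2]
      -- `z ∉ F`
      have hyF : y ∉ Set.range (algebraMap (RatFunc k) K) := by
        rintro ⟨y₀, rfl⟩
        rw [← map_pow] at heq
        have hy₀ : y₀ ^ 2 = algebraMap k[X] (RatFunc k) f := (algebraMap (RatFunc k) K).injective heq
        have hy₀0 : y₀ ≠ 0 := by
          rintro rfl
          rw [zero_pow (by norm_num)] at hy₀
          exact hf0' hy₀.symm
        rcases sq_mul_ne_const hf hd y₀⁻¹ 1 with h | h
        · apply h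
          rw [← hy₀, inv_pow, inv_mul_cancel₀ (pow_ne_zero _ hy₀0), map_one]
        · exact inv_ne_zero hy₀0 h
      have hzF : z ∉ Set.range (algebraMap (RatFunc k) K) := by
        rintro ⟨z₀, hz₀⟩
        apply hyF
        refine ⟨z₀ * Xk ^ m, ?_⟩
        rw [map_mul, map_pow, hz₀, hz, ← hx]
        field_simp
      have htop := adjoin_eq_top_of_finrank_two hdeg hzF
      have hmin : minpoly (RatFunc k) z = X ^ 2 + C 0 * X + C (-u₀) := by
        apply minpoly_quadratic hzF
        rw [hz2]; simp
      set g : Pinf.O[X] := X ^ 2 - C u with hg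
      have hgm : g.Monic := monic_X_pow_sub_C u (by norm_num)
      have hgmin : g.map (algebraMap Pinf.O (RatFunc k)) = minpoly (RatFunc k) z := by
        rw [hmin, hg, Polynomial.map_sub, Polynomial.map_pow, Polynomial.map_X, Polynomial.map_C]
        have : algebraMap Pinf.O (RatFunc k) u = u₀ := rfl
        rw [this]; simp [sub_eq_add_neg]
      have hsq : Squarefree (g.map (IsLocalRing.residue Pinf.O)) := by
        rw [hg, Polynomial.map_sub, Polynomial.map_pow, Polynomial.map_X, Polynomial.map_C]
        apply Polynomial.Separable.squarefree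
        apply Polynomial.separable_X_pow_sub_C _ _ hures
        exact_mod_cast two_ne_zero_residue h2 Pinf
      intro P hP
      exact isOverWith_one_of_ramIdx hP (ramIdx_eq_one_of_good hK Pinf htop g hgm hgmin hsq P hP)

end Hyper

end Groth.Agent.Helper27.FFExt
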