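import Mathlib
import Groth.Agent.Lib.Helper16.FF.GeomD

set_option autoImplicit false

namespace Groth.Agent.Helper27.FFExt

open FunFld IntermediateField Polynomial Groth.Agent.Helper16.FF KaehlerDifferential

universe u v

theorem main12520 (k₀ k : Type u) (K₀ K : Type v) [Field k₀] [Field k] [Field K₀] [Field K]
    [Algebra k₀ k] [Algebra k₀ K₀] [Algebra k₀ K] [Algebra k K] [Algebra K₀ K]
    [IsScalarTower k₀ k K] [IsScalarTower k₀ K₀ K]
    (p : ℕ) [Fact p.Prime] [CharP K p]
    (hK : FunFld.IsFunctionField k K) (hg : FunFld.IsGeometric k K)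
    (hK₀ : FunFld.IsFunctionField k₀ K₀) (hg₀ : FunFld.IsGeometric k₀ K₀) :
    (Set.range (algebraMap K₀ K) ⊆ ↑(IntermediateField.adjoin k (Set.range fun y : K => y ^ p)) →
      KaehlerDifferential.map k₀ k K₀ K = 0) ∧
    (¬ Set.range (algebraMap K₀ K) ⊆ ↑(IntermediateField.adjoin k (Set.range fun y : K => y ^ p)) →
      Function.Injective (KaehlerDifferential.map k₀ k K₀ K)) := by
  have hmem := fun x => (mem_kKp_iff p hK hg x).1
  refine ⟨fun hsub => ?_, fun hnsub => ?_⟩
  · apply LinearMap.ext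
    intro ω
    have hω : ω ∈ Submodule.span K₀ (Set.range (D k₀ K₀)) := by
      rw [KaehlerDifferential.span_range_derivation]; trivial
    induction hω using Submodule.span_induction with
    | mem x hx =>
      obtain ⟨z, rfl⟩ := hx
      rw [KaehlerDifferential.map_D, LinearMap.zero_apply]
      exact (hmem _).1 (hsub ⟨z, rfl⟩)
    | zero => simp
    | add x y _ _ hx hy => rw [map_add, hx, hy]; simp
    | smul c x _ hx => rw [map_smul, hx]; simp
  · rw [Set.not_subset] at hnsub
    obtain ⟨_, ⟨z₀, rfl⟩, hz₀⟩ := hnsub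
    have hD : D k K (algebraMap K₀ K z₀) ≠ 0 := fun h => hz₀ ((hmem _).2 h)
    have hD₀ : D k₀ K₀ z₀ ≠ 0 := by
      intro h
      apply hD
      rw [← KaehlerDifferential.map_D k₀ k K₀ K, h, map_zero]
    have hrank := finrank_kaehler_of_isGeometric hK₀ hg₀
    have hgen := (finrank_eq_one_iff_of_nonzero' _ hD₀).1 hrank
    rw [injective_iff_map_eq_zero]
    intro ω hω
    obtain ⟨c, rfl⟩ := hgen ω
    rw [map_smul, KaehlerDifferential.map_D, ← algebraMap_smul K c, smul_eq_zero] at hω
    rcases hω with h | h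
    · rw [(_root_.map_eq_zero _).1 h, zero_smul]
    · exact absurd h hD

end Groth.Agent.Helper27.FFExt
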