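import Mathlib
import Groth.Agent.Lib.Helper16.FF.GeomD
import Groth.Agent.Lib.Helper16.FFW.Residue
import Groth.Agent.Lib.Helper16.FFW.Approx

set_option autoImplicit false

namespace Groth.Agent.Helper27.FFExt

open FunFld IntermediateField KaehlerDifferential
open scoped WithZero

universe u v

section PowSpan

variable {k : Type u} {K : Type v} [Field k] [Field K] [Algebra k K]

/-- the `k`-span of the `p`-th powers -/
def powSpan (k : Type u) (K : Type v) [Field k] [Field K] [Algebra k K] (p : ℕ) : Submodule k K :=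
  Submodule.span k (Set.range fun y : K => y ^ p)

theorem pow_mem_powSpan (p : ℕ) (y : K) : y ^ p ∈ powSpan k K p := Submodule.subset_span ⟨y, rfl⟩

theorem mul_mem_powSpan (p : ℕ) {a b : K} (ha : a ∈ powSpan k K p) (hb : b ∈ powSpan k K p) :
    a * b ∈ powSpan k K p := by
  have h1 : a * b ∈ powSpan k K p * powSpan k K p := Submodule.mul_mem_mul ha hb
  have h2 : powSpan k K p * powSpan k K p ≤ powSpan k K p := by
    unfold powSpan
    rw [Submodule.span_mul_span]
    apply Submodule.span_mono
    rintro _ ⟨_, ⟨y, rfl⟩, _, ⟨z, rfl⟩, rfl⟩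
    exact ⟨y * z, by simp [mul_pow]⟩
  exact h2 h1

theorem one_mem_powSpan (p : ℕ) : (1 : K) ∈ powSpan k K p := by
  have := pow_mem_powSpan (k := k) p (1 : K)
  rwa [one_pow] at this

theorem npow_mem_powSpan (p : ℕ) {a : K} (ha : a ∈ powSpan k K p) (n : ℕ) :
    a ^ n ∈ powSpan k K p := by
  induction n with
  | zero => rw [pow_zero]; exact one_mem_powSpan p
  | succ n ih => rw [pow_succ]; exact mul_mem_powSpan p ih ha

theorem kKp_le_powSpan (p : ℕ) (hp : 0 < p) {x : K}
    (hx : x ∈ IntermediateField.adjoin k (Set.range fun y : K => y ^ p)) : x ∈ powSpan k K p := by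
  induction hx using IntermediateField.adjoin_induction with
  | mem x hx => exact Submodule.subset_span hx
  | algebraMap c =>
    rw [Algebra.algebraMap_eq_smul_one]
    exact Submodule.smul_mem _ _ (one_mem_powSpan p)
  | add x y _ _ hx hy => exact Submodule.add_mem _ hx hy
  | inv x _ hx =>
    by_cases hx0 : x = 0
    · rw [hx0, inv_zero]; exact Submodule.zero_mem _
    have : x⁻¹ = x ^ (p - 1) * (x⁻¹) ^ p := by
      rw [inv_pow]
      field_simp
      rw [← pow_succ']
      congr 1; omega
    rw [this]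
    exact mul_mem_powSpan p (npow_mem_powSpan p hx _) (pow_mem_powSpan p _)
  | mul x y _ _ hx hy => exact mul_mem_powSpan p hx hy

/-- representation of elements of the span -/
theorem exists_rep_of_mem_powSpan (p : ℕ) {x : K} (hx : x ∈ powSpan k K p) :
    ∃ (ι : Type v) (_ : Fintype ι) (b : ι → k) (y : ι → K), x = ∑ j, b j • (y j) ^ p := by
  classical
  unfold powSpan at hx
  rw [Finsupp.mem_span_range_iff_exists_finsupp] at hx
  obtain ⟨c, rfl⟩ := hx
  refine ⟨c.support, inferInstance, fun j => c j, fun j => j, ?_⟩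
  rw [Finsupp.sum, ← Finset.sum_coe_sort]

end PowSpan

section Elim

variable {k : Type u} {K : Type v} [Field k] [Field K] [Algebra k K]

/-- `p`-independence of a family of elements of `k` -/
def PIndep (p : ℕ) {ι : Type*} [Fintype ι] (b : ι → k) : Prop :=
  ∀ a : ι → k, ∑ j, (a j) ^ p * b j = 0 → ∀ j, a j = 0

theorem exists_smaller_rep (p : ℕ) [hp : Fact p.Prime] [CharP K p] {ι : Type v} [Fintype ι]
    (b : ι → k) (y : ι → K) (hb : ¬ PIndep p b) :
    ∃ (ι' : Type v) (_ : Fintype ι') (b' : ι' → k) (y' : ι' → K),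
      Fintype.card ι' < Fintype.card ι ∧ ∑ j, b j • (y j) ^ p = ∑ j, b' j • (y' j) ^ p := by
  classical
  unfold PIndep at hb
  push Not at hb
  obtain ⟨a, ha, j₀, hj₀⟩ := hb
  refine ⟨{j // j ≠ j₀}, inferInstance, fun j => b j, fun j => y j - (a j / a j₀) • y j₀, ?_, ?_⟩
  · rw [Fintype.card_subtype_compl, Fintype.card_subtype_eq]
    have : 0 < Fintype.card ι := Fintype.card_pos_iff.2 ⟨j₀⟩
    omega
  · -- b j₀ = - ∑_{j ≠ j₀} (a j / a j₀)^p b j
    have hsplit : ∀ f : ι → K, ∑ j, f j = f j₀ + ∑ j : {j // j ≠ j₀}, f j := by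
      intro f
      rw [← Finset.add_sum_erase Finset.univ f (Finset.mem_univ j₀)]
      congr 1
      rw [← Finset.sum_subtype (Finset.univ.erase j₀) (fun j => by simp) f]
    have hsplitk : ∀ f : ι → k, ∑ j, f j = f j₀ + ∑ j : {j // j ≠ j₀}, f j := by
      intro f
      rw [← Finset.add_sum_erase Finset.univ f (Finset.mem_univ j₀)]
      congr 1
      rw [← Finset.sum_subtype (Finset.univ.erase j₀) (fun j => by simp) f]
    have hb₀ : b j₀ = - ∑ j : {j // j ≠ j₀}, (a j / a j₀) ^ p * b j := by
      rw [hsplitk] at ha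
      have h1 : b j₀ = - (∑ j : {j // j ≠ j₀}, a j ^ p * b j) / a j₀ ^ p := by
        field_simp
        linear_combination ha
      rw [h1, neg_div, Finset.sum_div]
      congr 1
      refine Finset.sum_congr rfl fun j _ => ?_
      rw [div_pow]; field_simp
    rw [hsplit]
    have hterm : ∀ j : {j // j ≠ j₀}, b j • (y j - (a j / a j₀) • y j₀) ^ p =
        b j • (y j) ^ p - ((a j / a j₀) ^ p * b j) • (y j₀) ^ p := by
      intro j
      rw [sub_pow_char, smul_pow, smul_sub, smul_smul, mul_comm]
    simp_rw [hterm]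
    rw [Finset.sum_sub_distrib, ← Finset.sum_smul, hb₀, neg_smul]
    ring

end Elim

section Sep

variable {k : Type u} {F : Type*} [Field k] [Field F] [Algebra k F]

theorem eq_zero_of_pIndep (p : ℕ) [hp : Fact p.Prime] [CharP k p] [FiniteDimensional k F]
    [Algebra.IsSeparable k F] {ι : Type*} [Fintype ι] (b : ι → k) (hb : PIndep p b) (r : ι → F)
    (hr : ∑ j, b j • (r j) ^ p = 0) : ∀ j, r j = 0 := by
  classical
  haveI : ExpChar k p := ExpChar.prime hp.out
  haveI : CharP F p := charP_of_injective_algebraMap (algebraMap k F).injective p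
  let e := Module.finBasis k F
  have hli : LinearIndependent k (fun i => (e i) ^ p) := by
    have := LinearIndependent.map_pow_expChar_pow_of_isSeparable (F := k) (E := F) p 1 e.linearIndependent
    simpa using this
  have hpow : ∀ j, (r j) ^ p = ∑ i, ((e.repr (r j) i) ^ p) • (e i) ^ p := by
    intro j
    conv_lhs => rw [← e.sum_repr (r j)]
    rw [sum_pow_char]
    refine Finset.sum_congr rfl fun i _ => ?_
    rw [smul_pow]
  have hsum : ∑ i, (∑ j, (e.repr (r j) i) ^ p * b j) • (e i) ^ p = 0 := by
    rw [← hr]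
    simp_rw [hpow, Finset.smul_sum, Finset.sum_smul, smul_smul]
    rw [Finset.sum_comm]
    refine Finset.sum_congr rfl fun j _ => Finset.sum_congr rfl fun i _ => ?_
    rw [mul_comm]
  have hcoef := fun i => linearIndependent_iff'.1 hli Finset.univ _ hsum i (Finset.mem_univ i)
  intro j
  have : ∀ i, e.repr (r j) i = 0 := fun i => hb (fun j => e.repr (r j) i) (hcoef i) j
  rw [← e.sum_repr (r j)]
  simp [this]

end Sep

end Groth.Agent.Helper27.FFExt
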