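import Mathlib
import Groth.Agent.Lib.Helper27.FFExtH

set_option autoImplicit false

namespace Groth.Agent.Helper27.FFExt

open FunFld IntermediateField KaehlerDifferential Groth.Agent.Helper16.FFW
open scoped WithZero

universe u v

variable {k : Type u} {K : Type v} [Field k] [Field K] [Algebra k K]

theorem ord_uniformizer (P : Place k K) {t : K} (ht : P.1 t = WithZero.exp (-1 : ℤ)) :
    P.ord t = 1 := by
  unfold Place.ord; rw [ht, WithZero.log_exp]; norm_num

theorem dvd_ord_of_rep (hKw : IsWeakFF k K) (p : ℕ) [hp : Fact p.Prime] [CharP K p] (P : Place k K)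
    [Algebra.IsSeparable k (IsLocalRing.ResidueField P.O)] :
    ∀ (n : ℕ) (ι : Type v) [Fintype ι], Fintype.card ι = n → ∀ (b : ι → k) (y : ι → K),
      ∑ j, b j • (y j) ^ p ≠ 0 → (p : ℤ) ∣ P.ord (∑ j, b j • (y j) ^ p) := by
  classical
  intro n
  induction n using Nat.strong_induction_on with
  | _ n ih =>
  intro ι _ hcard b y hw
  by_cases hb : PIndep p b
  swap
  · obtain ⟨ι', _, b', y', hlt, heq⟩ := exists_smaller_rep (K := K) p b y hb
    rw [heq] at hw ⊢
    exact ih _ (hcard ▸ hlt) ι' rfl b' y' hw
  haveI : CharP k p := (algebraMap k K).charP (algebraMap k K).injective p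
  haveI hfd : @Module.Finite k (IsLocalRing.ResidueField P.O) _ _ (Algebra.toModule) :=
    Place.finiteDimensional_residueField hKw P
  have hp0 : p ≠ 0 := hp.out.ne_zero
  set w := ∑ j, b j • (y j) ^ p with hwdef
  -- nonzero terms
  have hne : (Finset.univ.filter fun j => y j ≠ 0).Nonempty := by
    by_contra hcon
    rw [Finset.not_nonempty_iff_eq_empty, Finset.filter_eq_empty_iff] at hcon
    apply hw
    rw [hwdef]
    apply Finset.sum_eq_zero
    intro j _
    have : y j = 0 := by
      by_contra h; exact hcon (Finset.mem_univ j) h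
    rw [this, zero_pow hp0, smul_zero]
  obtain ⟨j₀, hj₀, hmin⟩ := Finset.exists_min_image _ (fun j => P.ord (y j)) hne
  rw [Finset.mem_filter] at hj₀
  set m := P.ord (y j₀) with hm
  obtain ⟨t, ht⟩ := Place.exists_uniformizer P
  have ht0 : t ≠ 0 := by
    rintro rfl; rw [map_zero] at ht; exact WithZero.exp_ne_zero.symm ht
  set u : ι → K := fun j => y j * t ^ (-m) with hu
  have huval : ∀ j, y j ≠ 0 → P.1 (u j) = WithZero.exp (m - P.ord (y j)) := by
    intro j hj
    rw [hu]
    simp only
    rw [map_mul, Place.val_eq_exp_neg_ord P hj, Place.val_zpow_uniformizer P ht, ← WithZero.exp_add]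
    congr 1; ring
  have hval : ∀ j, P.1 (u j) ≤ 1 := by
    intro j
    by_cases hj : y j = 0
    · rw [hu]; simp only; rw [hj, zero_mul, map_zero]; exact zero_le
    · rw [huval j hj, ← WithZero.exp_zero, WithZero.exp_le_exp]
      have := hmin j (Finset.mem_filter.2 ⟨Finset.mem_univ _, hj⟩)
      omega
  have hval0 : P.1 (u j₀) = 1 := by
    rw [huval j₀ hj₀.2, ← WithZero.exp_zero]; congr 1; omega
  let U : ι → P.O := fun j => ⟨u j, (Place.mem_O_iff P _).2 (hval j)⟩
  set W : P.O := ∑ j, b j • (U j) ^ p with hW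
  have hWcoe : (W : K) = ∑ j, b j • (u j) ^ p := by
    rw [hW, AddSubmonoidClass.coe_finsetSum]
    refine Finset.sum_congr rfl fun j _ => ?_
    rw [Place.coe_smul_O]
    rfl
  have hres : IsLocalRing.residue P.O W = ∑ j, b j • (IsLocalRing.residue P.O (U j)) ^ p := by
    rw [hW, map_sum]
    refine Finset.sum_congr rfl fun j _ => ?_
    rw [Place.residue_smul, map_pow]
  have hresne : IsLocalRing.residue P.O W ≠ 0 := by
    intro h0
    rw [hres] at h0
    have := eq_zero_of_pIndep p b hb (fun j => IsLocalRing.residue P.O (U j)) h0 j₀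
    rw [Place.residue_eq_zero_iff] at this
    have h1 : P.1 (u j₀) < 1 := this
    rw [hval0] at h1
    exact lt_irrefl _ h1
  have hWval : P.1 (W : K) = 1 := by
    apply le_antisymm ((Place.mem_O_iff P _).1 W.2)
    by_contra hlt
    push Not at hlt
    exact hresne ((Place.residue_eq_zero_iff P W).2 hlt)
  have hW0 : (W : K) ≠ 0 := by
    intro h; rw [h, map_zero] at hWval; exact zero_ne_one hWval
  have hWord : P.ord (W : K) = 0 := by
    unfold Place.ord; rw [hWval]; simp
  have hyu : ∀ j, y j = u j * t ^ m := by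
    intro j
    rw [hu]; simp only
    rw [mul_assoc, ← zpow_add₀ ht0]; simp
  have hweq : w = t ^ ((p : ℤ) * m) * (W : K) := by
    rw [hwdef, hWcoe, Finset.mul_sum]
    refine Finset.sum_congr rfl fun j _ => ?_
    rw [hyu j, mul_pow, mul_smul_comm, ← zpow_natCast (t ^ m) p, ← zpow_mul, mul_comm m]
    rw [mul_comm]
  rw [hweq, Place.ord_mul P (zpow_ne_zero _ ht0) hW0, hWord, add_zero, Place.ord_zpow,
    ord_uniformizer P ht, mul_one]
  exact dvd_mul_right _ _

theorem uniformizer_not_mem_kKp (hKw : IsWeakFF k K) (p : ℕ) [hp : Fact p.Prime] [CharP K p]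
    (P : Place k K) [Algebra.IsSeparable k (IsLocalRing.ResidueField P.O)] {t : K}
    (ht : P.1 t = WithZero.exp (-1 : ℤ)) :
    t ∉ IntermediateField.adjoin k (Set.range fun y : K => y ^ p) := by
  intro hmem
  have ht0 : t ≠ 0 := by
    rintro rfl; rw [map_zero] at ht; exact WithZero.exp_ne_zero.symm ht
  obtain ⟨ι, _, b, y, hrep⟩ := exists_rep_of_mem_powSpan p (kKp_le_powSpan p hp.out.pos hmem)
  have := dvd_ord_of_rep hKw p P _ ι rfl b y (hrep ▸ ht0)
  rw [← hrep, ord_uniformizer P ht] at this
  have h1 : p ∣ 1 := by exact_mod_cast this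
  exact hp.out.one_lt.ne' (Nat.dvd_one.1 h1)

theorem main11030 (k : Type u) (K : Type v) [Field k] [Field K] [Algebra k K]
    (hK : FunFld.IsFunctionField k K) (hg : FunFld.IsGeometric k K) (P : FunFld.Place k K)
    [Algebra.IsSeparable k (IsLocalRing.ResidueField P.O)] (t : K) (ht : P.1 t = WithZero.exp (-1)) :
    KaehlerDifferential.D k K t ≠ 0 := by
  have hKw : IsWeakFF k K := hK.1
  have ht0 : t ≠ 0 := by
    rintro rfl; rw [map_zero] at ht; exact WithZero.exp_ne_zero.symm ht
  obtain ⟨p, hcp⟩ := CharP.exists K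
  rcases CharP.char_is_prime_or_zero K p with hp | hp
  · haveI : Fact p.Prime := ⟨hp⟩
    intro hD
    exact uniformizer_not_mem_kKp hKw p P ht
      (((Groth.Agent.Helper16.FF.mem_kKp_iff p hK hg t).1).2 hD)
  · subst hp
    haveI : CharZero K := CharP.charP_to_charZero K
    have httr : Transcendental k t := by
      apply Place.transcendental_of_val_ne_one hKw P ht0
      rw [ht, ← WithZero.exp_zero, Ne, WithZero.exp_inj]; norm_num
    haveI := Groth.Agent.Helper16.FF.finite_of_transcendental hK httr
    haveI : CharZero (IntermediateField.adjoin k ({t} : Set K)) :=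
      ⟨fun a b hab => by
        have := congrArg (algebraMap (IntermediateField.adjoin k ({t} : Set K)) K) hab
        simpa using this⟩
    have hsep : Algebra.IsSeparable (IntermediateField.adjoin k ({t} : Set K)) K := inferInstance
    exact Groth.Agent.Helper16.FF.D_ne_zero_of_separating httr hsep

end Groth.Agent.Helper27.FFExt
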