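import Mathlib
import Groth.Agent.Lib.Helper16.FF.GeomD

set_option autoImplicit false

namespace Groth.Agent.Helper27.FFExt

open FunFld IntermediateField KaehlerDifferential

universe u v

theorem main11026 (k k' : Type u) (K K' : Type v) [Field k] [Field k'] [Field K] [Field K']
    [Algebra k k'] [Algebra k K] [Algebra K K'] [Algebra k' K'] [Algebra k K']
    [IsScalarTower k k' K'] [IsScalarTower k K K'] [FiniteDimensional K K']
    (hK : FunFld.IsFunctionField k K) (hg : FunFld.IsGeometric k K)
    (hK' : FunFld.IsFunctionField k' K') (hg' : FunFld.IsGeometric k' K')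
    (hw : Function.Injective (KaehlerDifferential.map k k' K K')) :
    Algebra.IsSeparable (IntermediateField.adjoin K (Set.range (algebraMap k' K'))) K' := by
  set E := IntermediateField.adjoin K (Set.range (algebraMap k' K')) with hE
  obtain ⟨p, hcp⟩ := CharP.exists K'
  rcases CharP.char_is_prime_or_zero K' p with hp | hp
  · haveI : Fact p.Prime := ⟨hp⟩
    obtain ⟨x, hsep⟩ := Groth.Agent.Helper16.FF.exists_separating_of_isGeometric hK hg
    have hD : D k K x ≠ 0 := Groth.Agent.Helper16.FF.D_ne_zero_of_separating
      (Groth.Agent.Helper16.FF.transcendental_of_separating hK hsep) hsep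
    set x' : K' := algebraMap K K' x with hx'
    have hD' : D k' K' x' ≠ 0 := by
      rw [hx', ← KaehlerDifferential.map_D k k' K K']
      intro h
      exact hD (hw (h.trans (map_zero _).symm))
    have hnot : x' ∉ Groth.Agent.Helper16.FF.kKp k' K' p := fun h =>
      hD' (((Groth.Agent.Helper16.FF.mem_kKp_iff p hK' hg' x').1).1 h)
    have hsep' := Groth.Agent.Helper16.FF.separating_of_not_mem_kKp p hK' hg' hnot
    set F₁ := IntermediateField.adjoin k' ({x'} : Set K') with hF₁
    have hle : ∀ a : K', a ∈ F₁ → a ∈ E := by
      intro a ha
      induction ha using IntermediateField.adjoin_induction with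
      | mem a ha =>
        rw [Set.mem_singleton_iff] at ha
        rw [ha]
        exact E.algebraMap_mem x
      | algebraMap c => exact IntermediateField.subset_adjoin K _ ⟨c, rfl⟩
      | add a b _ _ ha hb => exact E.add_mem ha hb
      | inv a _ ha => exact E.inv_mem ha
      | mul a b _ _ ha hb => exact E.mul_mem ha hb
    let ι : F₁ →+* E :=
      { toFun := fun a => ⟨a.1, hle a.1 a.2⟩
        map_one' := rfl
        map_mul' := fun _ _ => rfl
        map_zero' := rfl
        map_add' := fun _ _ => rfl }
    letI : Algebra F₁ E := ι.toAlgebra
    haveI : IsScalarTower F₁ E K' := IsScalarTower.of_algebraMap_eq (fun a => rfl)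
    exact Algebra.isSeparable_tower_top_of_isSeparable F₁ E K'
  · subst hp
    haveI : CharZero K' := CharP.charP_to_charZero K'
    haveI : CharZero E := ⟨fun a b hab => by
        have := congrArg (algebraMap E K') hab
        simpa using this⟩
    haveI : FiniteDimensional E K' := IntermediateField.finiteDimensional_right E
    infer_instance

end Groth.Agent.Helper27.FFExt
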