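import Mathlib
import Groth.Agent.Lib.Helper16.FF.PlaneA
import Groth.Agent.Lib.Helper16.FF.RR

set_option autoImplicit false

namespace Groth.Agent.Helper27.FFRie

open FunFld Groth.Agent.Helper16.FF Polynomial
open scoped WithZero

variable {k K : Type*} [Field k] [Field K] [Algebra k K]

theorem transcendental_of_finrank_pos (hK : IsFunctionField k K) {x : K}
    (hx : 0 < Module.finrank (IntermediateField.adjoin k ({x} : Set K)) K) : Transcendental k x := by
  intro halg
  obtain ⟨⟨x₀, hx₀, -⟩, hK2⟩ := id hK
  obtain ⟨c, hc⟩ := hK2 x halg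
  have hbot : IntermediateField.adjoin k ({x} : Set K) = ⊥ := by
    rw [IntermediateField.adjoin_simple_eq_bot_iff, IntermediateField.mem_bot]
    exact ⟨c, hc⟩
  rw [hbot, IntermediateField.finrank_bot'] at hx
  have : FiniteDimensional k K := Module.finite_of_finrank_pos hx
  exact hx₀ (Algebra.IsAlgebraic.isAlgebraic x₀)

theorem aeval_mem_L (hK : IsFunctionField k K) (x : K) (a : ℕ) (p : k[X])
    (hp : p ∈ Polynomial.degreeLT k (a + 1)) : aeval x p ∈ L (a • (poleDiv x : Divisor k K)) := by
  rw [Polynomial.mem_degreeLT] at hp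
  have hnd : p.natDegree < a + 1 := by
    rcases eq_or_ne p 0 with rfl | h0
    · simp
    · exact (Polynomial.natDegree_lt_iff_degree_lt h0).2 hp
  rw [aeval_eq_sum_range' hnd]
  refine Submodule.sum_mem _ fun i hi => ?_
  rw [Finset.mem_range] at hi
  apply Submodule.smul_mem
  have h1 := pow_mem_L_nsmul (mem_L_poleDiv hK x) i
  refine L_mono ?_ h1
  intro Q
  simp only [Finsupp.smul_apply, smul_eq_mul, nsmul_eq_mul]
  have := poleDiv_nonneg (k := k) x Q
  simp only [Finsupp.zero_apply] at this
  have hia : (i : ℤ) ≤ a := by exact_mod_cast (by omega : i ≤ a)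
  nlinarith

theorem aeval_mem_adjoin (x : K) (p : k[X]) :
    aeval x p ∈ IntermediateField.adjoin k ({x} : Set K) :=
  IntermediateField.algebra_adjoin_le_adjoin k _ (Polynomial.aeval_mem_adjoin_singleton k x)

/-- Riemann's inequality in the special case of two functions of degree two -/
theorem eq_of_finrank_two (hK : IsFunctionField k K) (hg : 2 ≤ genus k K) (x x' : K)
    (hx : Module.finrank (IntermediateField.adjoin k ({x} : Set K)) K = 2)
    (hx' : Module.finrank (IntermediateField.adjoin k ({x'} : Set K)) K = 2) :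
    IntermediateField.adjoin k ({x} : Set K) = IntermediateField.adjoin k ({x'} : Set K) := by
  have hxtr := transcendental_of_finrank_pos hK (by rw [hx]; norm_num)
  have hxtr' := transcendental_of_finrank_pos hK (by rw [hx']; norm_num)
  have hfin' := finite_of_transcendental hK hxtr'
  by_contra hne
  have hnot : x' ∉ IntermediateField.adjoin k ({x} : Set K) := by
    intro hmem
    apply hne
    symm
    apply IntermediateField.eq_of_le_of_finrank_eq'
    · rw [IntermediateField.adjoin_le_iff, Set.singleton_subset_iff]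
      exact hmem
    · rw [hx, hx']
  have hdA : (poleDiv x : Divisor k K).deg = 2 := by rw [deg_poleDiv hK hxtr, hx]; norm_num
  have hdB : (poleDiv x' : Divisor k K).deg = 2 := by rw [deg_poleDiv hK hxtr', hx']; norm_num
  obtain ⟨a, ha⟩ : ∃ a : ℕ, a = genus k K := ⟨_, rfl⟩
  -- the map (p, q) ↦ p(x) + q(x) x'
  let Ψ : (Polynomial.degreeLT k (a + 1) × Polynomial.degreeLT k (a + 1)) →ₗ[k] K :=
    ((Polynomial.aeval x).toLinearMap.comp (Polynomial.degreeLT k (a + 1)).subtype).coprod
      ((LinearMap.mulRight k x').comp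
        ((Polynomial.aeval x).toLinearMap.comp (Polynomial.degreeLT k (a + 1)).subtype))
  have hΨ : ∀ pq, Ψ pq = aeval x (pq.1 : k[X]) + aeval x (pq.2 : k[X]) * x' := fun pq => rfl
  have hrange : ∀ pq, Ψ pq ∈ L (a • (poleDiv x : Divisor k K) + poleDiv x') := by
    intro pq
    rw [hΨ]
    refine add_mem ?_ ?_
    · refine L_mono ?_ (aeval_mem_L hK x a pq.1 pq.1.2)
      intro Q
      have := poleDiv_nonneg (k := k) x' Q
      simp only [Finsupp.zero_apply] at this
      simp only [Finsupp.add_apply]
      omega
    · exact mul_mem_L_add (aeval_mem_L hK x a pq.2 pq.2.2) (mem_L_poleDiv hK x')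
  have hinj : Function.Injective Ψ := by
    rw [injective_iff_map_eq_zero]
    intro pq h0
    rw [hΨ] at h0
    have hq : aeval x (pq.2 : k[X]) = 0 := by
      by_contra hq0
      apply hnot
      have : x' = -(aeval x (pq.1 : k[X])) / aeval x (pq.2 : k[X]) := by
        field_simp
        linear_combination h0
      rw [this]
      exact div_mem (neg_mem (aeval_mem_adjoin x _)) (aeval_mem_adjoin x _)
    rw [hq, zero_mul, add_zero] at h0
    have h1 : (pq.1 : k[X]) = 0 := by
      by_contra hne0
      exact hxtr ⟨_, hne0, h0⟩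
    have h2 : (pq.2 : k[X]) = 0 := by
      by_contra hne0
      exact hxtr ⟨_, hne0, hq⟩
    exact Prod.ext (Subtype.ext h1) (Subtype.ext h2)
  have hfd := finiteDimensional_L hK (a • (poleDiv x : Divisor k K) + poleDiv x')
  let Ψ' : (Polynomial.degreeLT k (a + 1) × Polynomial.degreeLT k (a + 1)) →ₗ[k]
      ↥(L (a • (poleDiv x : Divisor k K) + poleDiv x')) := Ψ.codRestrict _ hrange
  have hinj' : Function.Injective Ψ' := by
    intro u v huv
    apply hinj
    exact congrArg Subtype.val huv
  have hb := Polynomial.degreeLT.basis k (a + 1)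
  haveI : Module.Finite k ↥(Polynomial.degreeLT k (a + 1)) := Module.Finite.of_basis hb
  haveI : Module.Free k ↥(Polynomial.degreeLT k (a + 1)) := Module.Free.of_basis hb
  have hfr : Module.finrank k ↥(Polynomial.degreeLT k (a + 1)) = a + 1 := by
    rw [Module.finrank_eq_card_basis hb, Fintype.card_fin]
  have hle := LinearMap.finrank_le_finrank_of_injective hinj'
  rw [Module.finrank_prod, hfr] at hle
  have hdeg : (a • (poleDiv x : Divisor k K) + poleDiv x').deg = 2 * (a : ℤ) + 2 := by
    rw [Divisor.deg_add, ← natCast_zsmul, Divisor.deg_smul, hdA, hdB]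
    ring
  have hRR := ell_eq_of_large hK (D := a • (poleDiv x : Divisor k K) + poleDiv x')
    (by rw [hdeg, ← ha]; omega)
  rw [hdeg, ← ha] at hRR
  have hell : Module.finrank k ↥(L (a • (poleDiv x : Divisor k K) + poleDiv x')) =
      ell (a • (poleDiv x : Divisor k K) + poleDiv x') := rfl
  rw [hell] at hle
  have : ((a + 1 + (a + 1) : ℕ) : ℤ) ≤ ell (a • (poleDiv x : Divisor k K) + poleDiv x') := by
    exact_mod_cast hle
  rw [hRR] at this
  push_cast at this
  rw [ha] at this
  have : (2 : ℤ) ≤ genus k K := by exact_mod_cast hg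
  omega

end Groth.Agent.Helper27.FFRie
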