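import Mathlib
import Groth.Agent.Lib.Helper27.FFh
import Groth.Agent.Lib.Helper16.FF.GenusOneC

set_option autoImplicit false

namespace Groth.Agent.Helper27.LLS

open FunFld
open Groth.Agent.Helper16.FF
open scoped WithZero

variable {k K : Type*} [Field k] [Field K] [Algebra k K]

/-- nonzero elements with pairwise distinct orders at a place are linearly independent. -/
theorem linearIndependent_of_ord_injective {ι : Type*} (P : Place k K) (x : ι → K)
    (hx : ∀ i, x i ≠ 0) (hinj : Function.Injective (fun i => P.ord (x i))) :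
    LinearIndependent k x := by
  classical
  rw [linearIndependent_iff']
  intro s c hsum
  by_contra hcon
  push Not at hcon
  obtain ⟨j, hjs, hcj⟩ := hcon
  have hne : (s.filter (fun i => c i ≠ 0)).Nonempty := ⟨j, Finset.mem_filter.2 ⟨hjs, hcj⟩⟩
  obtain ⟨i₀, hi₀, hmax⟩ := Finset.exists_max_image (s.filter (fun i => c i ≠ 0))
    (fun i => P.1 (x i)) hne
  rw [Finset.mem_filter] at hi₀
  have hv0 : P.1 (x i₀) ≠ 0 := (Valuation.ne_zero_iff _).2 (hx i₀)
  have hlt : ∀ i ∈ s.erase i₀, P.1 (c i • x i) < P.1 (x i₀) := by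
    intro i hi
    rw [Finset.mem_erase] at hi
    by_cases hci : c i = 0
    · rw [hci, zero_smul, map_zero]
      exact zero_lt_iff.2 hv0
    · rw [Place.val_smul P hci]
      have hle := hmax i (Finset.mem_filter.2 ⟨hi.2, hci⟩)
      refine lt_of_le_of_ne hle ?_
      intro heq
      apply hi.1
      apply hinj
      show P.ord (x i) = P.ord (x i₀)
      rw [Place.val_eq_exp_neg_ord P (hx i), Place.val_eq_exp_neg_ord P (hx i₀)] at heq
      have := WithZero.exp_injective heq
      omega
  have h1 := Valuation.map_sum_lt P.1 hv0 hlt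
  rw [← Finset.add_sum_erase s _ hi₀.1] at hsum
  have h2 : c i₀ • x i₀ = -∑ i ∈ s.erase i₀, c i • x i := eq_neg_of_add_eq_zero_left hsum
  have h3 : P.1 (c i₀ • x i₀) = P.1 (x i₀) := Place.val_smul P hi₀.2 _
  rw [h2, Valuation.map_neg] at h3
  rw [h3] at h1
  exact lt_irrefl _ h1

theorem pow_mem_L_single {P : Place k K} {f : K} (hf : f ∈ L (Finsupp.single P 2 : Divisor k K))
    (i : ℕ) : f ^ i ∈ L (Finsupp.single P (2 * (i : ℤ)) : Divisor k K) := by
  induction i with
  | zero =>
    intro Q
    simp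
  | succ i ih =>
    rw [pow_succ]
    exact mul_mem_L_single ih hf (by push_cast; ring)

/-- S19396 -/
theorem main19396 (hK : IsFunctionField k K) (hgen : genus k K = 1)
    (P : Place k K) (hP : P.deg = 1) (f g : K)
    (hf : f ∈ L (Finsupp.single P 2)) (hf2 : P.ord f = -2)
    (hg : g ∈ L (Finsupp.single P 3)) (hg3 : P.ord g = -3) (n : ℕ) (hn : 2 ≤ n) :
    LinearIndependent k
        (Sum.elim (fun i : Fin (n / 2 + 1) => f ^ (i : ℕ)) (fun i : Fin ((n - 1) / 2) => f ^ (i : ℕ) * g)) ∧
      Submodule.span k (Set.range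
        (Sum.elim (fun i : Fin (n / 2 + 1) => f ^ (i : ℕ)) (fun i : Fin ((n - 1) / 2) => f ^ (i : ℕ) * g))) =
        L (Finsupp.single P (n : ℤ)) := by
  classical
  have hf0 : f ≠ 0 := by
    rintro rfl
    rw [Place.ord_zero] at hf2
    omega
  have hg0 : g ≠ 0 := by
    rintro rfl
    rw [Place.ord_zero] at hg3
    omega
  set b : Fin (n / 2 + 1) ⊕ Fin ((n - 1) / 2) → K :=
    Sum.elim (fun i : Fin (n / 2 + 1) => f ^ (i : ℕ)) (fun i : Fin ((n - 1) / 2) => f ^ (i : ℕ) * g)
    with hb
  have hb0 : ∀ i, b i ≠ 0 := by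
    rintro (i | i)
    · exact pow_ne_zero _ hf0
    · exact mul_ne_zero (pow_ne_zero _ hf0) hg0
  have hord : ∀ i, P.ord (b i) = Sum.elim (fun i : Fin (n / 2 + 1) => -2 * ((i : ℕ) : ℤ))
      (fun i : Fin ((n - 1) / 2) => -2 * ((i : ℕ) : ℤ) - 3) i := by
    rintro (i | i)
    · simp only [hb, Sum.elim_inl]
      rw [Place.ord_pow, hf2]; ring
    · simp only [hb, Sum.elim_inr]
      rw [Place.ord_mul P (pow_ne_zero _ hf0) hg0, Place.ord_pow, hf2, hg3]; ring
  have hinj : Function.Injective (fun i => P.ord (b i)) := by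
    intro i j hij
    simp only [hord] at hij
    rcases i with i | i <;> rcases j with j | j <;> simp only [Sum.elim_inl, Sum.elim_inr] at hij
    · congr 1; ext; omega
    · omega
    · omega
    · congr 1; ext; omega
  have hli := linearIndependent_of_ord_injective P b hb0 hinj
  refine ⟨hli, ?_⟩
  have hmem : ∀ i, b i ∈ L (Finsupp.single P (n : ℤ) : Divisor k K) := by
    rintro (i | i)
    · simp only [hb, Sum.elim_inl]
      refine L_mono (single_le_single P ?_) (pow_mem_L_single hf i)
      have := i.2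
      omega
    · simp only [hb, Sum.elim_inr]
      refine L_mono (single_le_single P ?_)
        (mul_mem_L_single (pow_mem_L_single hf i) hg (n := 2 * ((i : ℕ) : ℤ) + 3) rfl)
      have := i.2
      omega
  have hle : Submodule.span k (Set.range b) ≤ L (Finsupp.single P (n : ℤ) : Divisor k K) := by
    rw [Submodule.span_le]
    rintro _ ⟨i, rfl⟩
    exact hmem i
  have hfin := finiteDimensional_L hK (Finsupp.single P (n : ℤ) : Divisor k K)
  apply Submodule.eq_of_le_of_finrank_eq hle
  rw [finrank_span_eq_card hli, ell_def, ell_single_of_genus_one hK hgen hP (by omega)]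
  simp only [Fintype.card_sum, Fintype.card_fin]
  omega

end Groth.Agent.Helper27.LLS
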