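import Mathlib
import Groth.Agent.Lib.Helper11.FPApprox5

/-!
# Pairs of finitely presented approximations of `A → B → C` (helper27; for S18014), part A

We reuse helper11's framework of finitely presented approximations `QQ j` of an `A`-algebra `B`
indexed by pre-indices `j : Finset B × Finset (MvPolynomial B A)`, and add the comparison map
`tau : QQ j → QQ k` induced by renaming variables along `B → C`.
-/

set_option autoImplicit false

universe u

open Groth.Agent.Helper11.UH MvPolynomial

namespace Groth.Agent.Helper27.Fc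

variable (A B C : Type u) [CommRing A] [CommRing B] [CommRing C] [Algebra A B] [Algebra A C]
  [Algebra B C] [IsScalarTower A B C]

/-- Renaming variables along `B → C`. -/
noncomputable def ren : PP A B →ₐ[A] PP A C := MvPolynomial.rename (algebraMap B C)

theorem piB_ren (x : PP A B) : piB A C (ren A B C x) = algebraMap B C (piB A B x) := by
  induction x using MvPolynomial.induction_on with
  | C a =>
    have h1 : ren A B C (MvPolynomial.C a) = MvPolynomial.C a := by
      unfold ren
      exact MvPolynomial.rename_C _ a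
    rw [h1, piB_C, piB_C]
    exact IsScalarTower.algebraMap_apply A B C a
  | add p q hp hq => rw [map_add, map_add, map_add, map_add, hp, hq]
  | mul_X p b hp =>
    have h1 : ren A B C (MvPolynomial.X b) = MvPolynomial.X (algebraMap B C b) := by
      unfold ren
      exact MvPolynomial.rename_X _ b
    rw [map_mul, map_mul, map_mul, map_mul, hp, h1, piB_X, piB_X]

/-- Pairs of pre-indices. -/
abbrev PIdx : Type u := PreIdx A B × PreIdx A C

variable {A B C}

open Classical in
/-- Compatibility of a pair of pre-indices. -/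
def Compat (i : PIdx A B C) : Prop :=
  i.1.1.image (algebraMap B C) ⊆ i.2.1 ∧ i.1.2.image (ren A B C) ⊆ i.2.2

theorem Compat.mem_var {i : PIdx A B C} (h : Compat i) {s : B} (hs : s ∈ i.1.1) :
    algebraMap B C s ∈ i.2.1 := by
  classical
  exact h.1 (Finset.mem_image_of_mem _ hs)

theorem Compat.mem_rel {i : PIdx A B C} (h : Compat i) {r : PP A B} (hr : r ∈ i.1.2) :
    ren A B C r ∈ i.2.2 := by
  classical
  exact h.2 (Finset.mem_image_of_mem _ hr)

theorem ren_mem {i : PIdx A B C} (h : Compat i) (x : RR i.1) :
    ren A B C (x : PP A B) ∈ RR i.2 := by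
  classical
  have hx : (x : PP A B) ∈ supported A (i.1.1 : Set B) := x.2
  rw [mem_supported] at hx
  show ren A B C (x : PP A B) ∈ supported A (i.2.1 : Set C)
  rw [mem_supported]
  intro c hc
  have h1 := MvPolynomial.vars_rename (algebraMap B C) (x : PP A B) hc
  obtain ⟨b, hb, rfl⟩ := Finset.mem_image.mp h1
  exact h.mem_var (hx hb)

/-- Renaming restricted to the supported subalgebras. -/
noncomputable def renR (i : PIdx A B C) (h : Compat i) : RR i.1 →+* RR i.2 :=
  RingHom.codRestrict ((ren A B C).toRingHom.comp (RR i.1).val.toRingHom) (RR i.2)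
    (fun x => ren_mem h x)

theorem renR_coe (i : PIdx A B C) (h : Compat i) (x : RR i.1) :
    ((renR i h x : RR i.2) : PP A C) = ren A B C (x : PP A B) := rfl

theorem renR_algebraMap (i : PIdx A B C) (h : Compat i) (a : A) :
    renR i h (algebraMap A (RR i.1) a) = algebraMap A (RR i.2) a := by
  apply Subtype.ext
  rw [renR_coe, Subalgebra.coe_algebraMap, Subalgebra.coe_algebraMap]
  exact (ren A B C).commutes a

theorem II_le_comap (i : PIdx A B C) (h : Compat i) :
    II i.1 ≤ (II i.2).comap (renR i h) := by
  unfold II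
  rw [Ideal.span_le]
  intro x hx
  rw [SetLike.mem_coe, Ideal.mem_comap]
  apply Ideal.subset_span
  refine ⟨?_, ?_⟩
  · rw [renR_coe]
    exact h.mem_rel hx.1
  · rw [renR_coe, piB_ren, hx.2, map_zero]

/-- The comparison map between the approximations. -/
noncomputable def tau (i : PIdx A B C) (h : Compat i) : QQ i.1 →+* QQ i.2 :=
  Ideal.quotientMap (II i.2) (renR i h) (II_le_comap i h)

theorem tau_mk (i : PIdx A B C) (h : Compat i) (x : RR i.1) :
    tau i h (mkQ i.1 x) = mkQ i.2 (renR i h x) :=
  Ideal.quotientMap_mk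

theorem gam_tau (i : PIdx A B C) (h : Compat i) (y : QQ i.1) :
    gam i.2 (tau i h y) = algebraMap B C (gam i.1 y) := by
  obtain ⟨x, rfl⟩ := mkQ_surjective i.1 y
  rw [tau_mk, gam_mk, gam_mk, renR_coe, piB_ren]

theorem tau_algebraMap (i : PIdx A B C) (h : Compat i) (a : A) :
    tau i h (algebraMap A (QQ i.1) a) = algebraMap A (QQ i.2) a := by
  rw [algebraMap_QQ, tau_mk, renR_algebraMap, ← algebraMap_QQ]

theorem tau_trans {i i' : PIdx A B C} (h : Compat i) (h' : Compat i') (hle : i ≤ i')
    (y : QQ i.1) :
    trans hle.2 (tau i h y) = tau i' h' (trans hle.1 y) := by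
  obtain ⟨x, rfl⟩ := mkQ_surjective i.1 y
  have e : incl hle.2 (renR i h x) = renR i' h' (incl hle.1 x) :=
    Subtype.ext (by rw [incl_coe, renR_coe, renR_coe, incl_coe])
  rw [tau_mk, trans_mk, trans_mk, tau_mk, e]

theorem tau_gen (i : PIdx A B C) (h : Compat i) (s : B) (hs : s ∈ i.1.1) :
    tau i h (gen i.1 s hs) = gen i.2 (algebraMap B C s) (h.mem_var hs) := by
  have e : renR i h ⟨X s, X_mem_RR i.1 s hs⟩ =
      ⟨X (algebraMap B C s), X_mem_RR i.2 (algebraMap B C s) (h.mem_var hs)⟩ := by
    apply Subtype.ext
    rw [renR_coe]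
    show ren A B C (X s) = X (algebraMap B C s)
    unfold ren
    exact MvPolynomial.rename_X _ s
  unfold gen
  rw [tau_mk, e]

end Groth.Agent.Helper27.Fc
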