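import Mathlib
import Groth.Agent.Lib.Helper27.FcA

/-!
# Pairs of finitely presented approximations of `A → B → C` (helper27; for S18014), part B:
pre-good pairs and operations on them.
-/

set_option autoImplicit false

universe u

open Groth.Agent.Helper11 Groth.Agent.Helper11.UH MvPolynomial

namespace Groth.Agent.Helper27.Fc

section single

variable {A B : Type u} [CommRing A] [CommRing B] [Algebra A B]

/-- `trans` as a map of `A`-algebras preserves integrality. -/
theorem isIntegral_trans {j j' : PreIdx A B} (h : j ≤ j') {y : QQ j} (hy : IsIntegral A y) :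
    IsIntegral A (UH.trans h y) := by
  obtain ⟨p, hp, hpy⟩ := hy
  refine ⟨p, hp, ?_⟩
  have h1 : (UH.trans h).comp (algebraMap A (QQ j)) = algebraMap A (QQ j') :=
    trans_comp_algebraMap h
  rw [← h1, ← Polynomial.hom_eval₂, hpy, map_zero]

theorem range_trans {j j' : PreIdx A B} (h : j ≤ j') {y : QQ j}
    (hy : y ∈ Set.range (algebraMap A (QQ j))) :
    UH.trans h y ∈ Set.range (algebraMap A (QQ j')) := by
  obtain ⟨a, rfl⟩ := hy
  exact ⟨a, (trans_algebraMap h a).symm⟩

/-- A monic relation in one variable makes the generator integral. -/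
theorem isIntegral_gen_of_rel (j : PreIdx A B) (s : B) (hs : s ∈ j.1) (p : Polynomial A)
    (hp : p.Monic) (hps : Polynomial.aeval s p = 0)
    (hmem : (Polynomial.aeval (X s : PP A B) p) ∈ j.2) : IsIntegral A (gen j s hs) := by
  refine ⟨p, hp, ?_⟩
  let x : RR j := ⟨X s, X_mem_RR j s hs⟩
  have h1 : ((Polynomial.aeval x p : RR j) : PP A B) = Polynomial.aeval (X s : PP A B) p :=
    (Polynomial.aeval_algHom_apply (RR j).val x p).symm
  have h2 : mkQ j (Polynomial.aeval x p) = 0 := by
    rw [mkQ_eq_zero_iff]
    apply Ideal.subset_span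
    refine ⟨?_, ?_⟩
    · rw [h1]
      exact hmem
    · rw [h1]
      have h3 : piB A B (Polynomial.aeval (X s : PP A B) p) =
          Polynomial.aeval (piB A B (X s)) p := by
        have := Polynomial.aeval_algHom_apply
          (MvPolynomial.aeval (R := A) (fun b : B => b)) (X s : PP A B) p
        exact this.symm
      rw [h3, piB_X, hps]
  have h4 : Polynomial.eval₂ (algebraMap A (QQ j)) (gen j s hs) p =
      mkQ j (Polynomial.aeval x p) := by
    have e : algebraMap A (QQ j) = (mkQ j).comp (algebraMap A (RR j)) := rfl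
    rw [e, Polynomial.aeval_def, Polynomial.hom_eval₂]
    rfl
  rw [h4, h2]

/-- A relation `X s - C a` puts the generator in the range of `A`. -/
theorem gen_mem_range_of_rel (j : PreIdx A B) (s : B) (hs : s ∈ j.1) (a : A)
    (has : algebraMap A B a = s)
    (hmem : ((X s : PP A B) - MvPolynomial.C a) ∈ j.2) :
    gen j s hs ∈ Set.range (algebraMap A (QQ j)) := by
  refine ⟨a, ?_⟩
  rw [algebraMap_QQ]
  symm
  unfold gen
  apply mkQ_eq_of_rel
  · rw [Subalgebra.coe_algebraMap]
    exact hmem
  · rw [Subalgebra.coe_algebraMap]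
    show piB A B (X s) = piB A B (MvPolynomial.C a)
    rw [piB_X, piB_C, has]

/-- If all generators are integral then the approximation is finite. -/
theorem finite_QQ (j : PreIdx A B) (h : ∀ s hs, IsIntegral A (gen j s hs)) :
    (algebraMap A (QQ j)).Finite := by
  have hint : (algebraMap A (QQ j)).IsIntegral := by
    intro y
    refine gen_induction j (fun y => (algebraMap A (QQ j)).IsIntegralElem y) ?_ ?_ ?_ ?_ y
    · intro a
      exact (algebraMap A (QQ j)).isIntegralElem_map
    · intro x y hx hy
      exact RingHom.IsIntegralElem.add _ hx hy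
    · intro x y hx hy
      exact RingHom.IsIntegralElem.mul _ hx hy
    · intro s hs
      exact h s hs
  exact RingHom.IsIntegral.to_finite hint (RingHom.FiniteType.of_finitePresentation (finitePresentation_QQ j))

/-- If all generators are in the range of `A` then `A → QQ j` is surjective. -/
theorem surjective_QQ (j : PreIdx A B)
    (h : ∀ s hs, gen j s hs ∈ Set.range (algebraMap A (QQ j))) :
    Function.Surjective (algebraMap A (QQ j)) := by
  intro y
  refine gen_induction j (fun y => ∃ a, algebraMap A (QQ j) a = y) ?_ ?_ ?_ ?_ y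
  · intro a
    exact ⟨a, rfl⟩
  · rintro x y ⟨a, rfl⟩ ⟨b, rfl⟩
    exact ⟨a + b, map_add _ _ _⟩
  · rintro x y ⟨a, rfl⟩ ⟨b, rfl⟩
    exact ⟨a * b, map_mul _ _ _⟩
  · intro s hs
    exact h s hs

theorem ker_le_ker (j : PreIdx A B) :
    RingHom.ker (algebraMap A (QQ j)) ≤ RingHom.ker (algebraMap A B) := by
  intro a ha
  rw [RingHom.mem_ker] at ha ⊢
  rw [← gam_algebraMap j a, ha, map_zero]

end single

end Groth.Agent.Helper27.Fc
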