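import Mathlib
import Groth.Agent.Lib.Helper27.FcB

/-!
# Pairs of finitely presented approximations of `A → B → C` (helper27; for S18014), part C:
pre-good pairs, suprema, adding relations.
-/

set_option autoImplicit false

universe u

open Groth.Agent.Helper11 Groth.Agent.Helper11.UH MvPolynomial

namespace Groth.Agent.Helper27.Fc

variable {A B C : Type u} [CommRing A] [CommRing B] [CommRing C] [Algebra A B] [Algebra A C]
  [Algebra B C] [IsScalarTower A B C]

/-- Pre-good pairs: everything except the nilpotency condition. -/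
structure PreGood (i : PIdx A B C) : Prop where
  compat : Compat i
  intB : ∀ s hs, IsIntegral A (gen i.1 s hs)
  intC : ∀ t ht, IsIntegral A (gen i.2 t ht)
  rngB : ∀ s hs, s ∈ Set.range (algebraMap A B) → gen i.1 s hs ∈ Set.range (algebraMap A (QQ i.1))
  rngC : ∀ t ht, t ∈ Set.range (algebraMap A C) → gen i.2 t ht ∈ Set.range (algebraMap A (QQ i.2))
  liftBC : ∀ t ∈ i.2.1, t ∈ Set.range (algebraMap B C) → ∃ s ∈ i.1.1, algebraMap B C s = t

/-- Supremum of pairs. -/
noncomputable def psup (i₁ i₂ : PIdx A B C) : PIdx A B C := (jsup i₁.1 i₂.1, jsup i₁.2 i₂.2)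

theorem le_psup_left (i₁ i₂ : PIdx A B C) : i₁ ≤ psup i₁ i₂ :=
  ⟨le_jsup_left _ _, le_jsup_left _ _⟩

theorem le_psup_right (i₁ i₂ : PIdx A B C) : i₂ ≤ psup i₁ i₂ :=
  ⟨le_jsup_right _ _, le_jsup_right _ _⟩

theorem compat_psup {i₁ i₂ : PIdx A B C} (h₁ : Compat i₁) (h₂ : Compat i₂) :
    Compat (psup i₁ i₂) := by
  classical
  constructor
  · intro c hc
    obtain ⟨b, hb, rfl⟩ := Finset.mem_image.mp hc
    rcases Finset.mem_union.mp hb with h | h
    · exact Finset.mem_union_left _ (h₁.mem_var h)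
    · exact Finset.mem_union_right _ (h₂.mem_var h)
  · intro c hc
    obtain ⟨b, hb, rfl⟩ := Finset.mem_image.mp hc
    rcases Finset.mem_union.mp hb with h | h
    · exact Finset.mem_union_left _ (h₁.mem_rel h)
    · exact Finset.mem_union_right _ (h₂.mem_rel h)

/-- Monotonicity of the per-generator conditions. -/
theorem preGood_of_cover {i' : PIdx A B C} (hc : Compat i')
    (hB : ∀ s ∈ i'.1.1, ∃ i : PIdx A B C, PreGood i ∧ i ≤ i' ∧ s ∈ i.1.1)
    (hC : ∀ t ∈ i'.2.1, ∃ i : PIdx A B C, PreGood i ∧ i ≤ i' ∧ t ∈ i.2.1) : PreGood i' := by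
  refine ⟨hc, ?_, ?_, ?_, ?_, ?_⟩
  · intro s hs
    obtain ⟨i, hi, hle, hsi⟩ := hB s hs
    rw [← trans_gen hle.1 s hsi]
    exact isIntegral_trans hle.1 (hi.intB s hsi)
  · intro t ht
    obtain ⟨i, hi, hle, hti⟩ := hC t ht
    rw [← trans_gen hle.2 t hti]
    exact isIntegral_trans hle.2 (hi.intC t hti)
  · intro s hs hr
    obtain ⟨i, hi, hle, hsi⟩ := hB s hs
    rw [← trans_gen hle.1 s hsi]
    exact range_trans hle.1 (hi.rngB s hsi hr)
  · intro t ht hr
    obtain ⟨i, hi, hle, hti⟩ := hC t ht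
    rw [← trans_gen hle.2 t hti]
    exact range_trans hle.2 (hi.rngC t hti hr)
  · intro t ht hr
    obtain ⟨i, hi, hle, hti⟩ := hC t ht
    obtain ⟨s, hs, hst⟩ := hi.liftBC t hti hr
    exact ⟨s, hle.1.1 hs, hst⟩

theorem preGood_psup {i₁ i₂ : PIdx A B C} (h₁ : PreGood i₁) (h₂ : PreGood i₂) :
    PreGood (psup i₁ i₂) := by
  classical
  apply preGood_of_cover (compat_psup h₁.compat h₂.compat)
  · intro s hs
    rcases Finset.mem_union.mp hs with h | h
    · exact ⟨i₁, h₁, le_psup_left _ _, h⟩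
    · exact ⟨i₂, h₂, le_psup_right _ _, h⟩
  · intro t ht
    rcases Finset.mem_union.mp ht with h | h
    · exact ⟨i₁, h₁, le_psup_left _ _, h⟩
    · exact ⟨i₂, h₂, le_psup_right _ _, h⟩

open Classical in
/-- Adding relations on the `B`-side (and their images on the `C`-side) and on the `C`-side. -/
noncomputable def prel (i : PIdx A B C) (T : Finset (PP A B)) (T' : Finset (PP A C)) :
    PIdx A B C :=
  (jrel i.1 T, jrel i.2 (T.image (ren A B C) ∪ T'))

theorem le_prel (i : PIdx A B C) (T : Finset (PP A B)) (T' : Finset (PP A C)) :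
    i ≤ prel i T T' :=
  ⟨le_jrel _ _, le_jrel _ _⟩

theorem compat_prel {i : PIdx A B C} (h : Compat i) (T : Finset (PP A B))
    (T' : Finset (PP A C)) : Compat (prel i T T') := by
  classical
  constructor
  · exact h.1
  · intro c hc
    obtain ⟨b, hb, rfl⟩ := Finset.mem_image.mp hc
    rcases Finset.mem_union.mp hb with hb | hb
    · exact Finset.mem_union_left _ (h.mem_rel hb)
    · exact Finset.mem_union_right _
        (Finset.mem_union_left _ (Finset.mem_image_of_mem _ hb))

theorem preGood_prel {i : PIdx A B C} (h : PreGood i) (T : Finset (PP A B))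
    (T' : Finset (PP A C)) : PreGood (prel i T T') := by
  apply preGood_of_cover (compat_prel h.compat T T')
  · intro s hs
    exact ⟨i, h, le_prel i T T', hs⟩
  · intro t ht
    exact ⟨i, h, le_prel i T T', ht⟩

theorem mem_prel_left (i : PIdx A B C) (T : Finset (PP A B)) (T' : Finset (PP A C))
    {r : PP A B} (hr : r ∈ T) : r ∈ (prel i T T').1.2 := by
  classical
  exact Finset.mem_union_right _ hr

theorem mem_prel_right (i : PIdx A B C) (T : Finset (PP A B)) (T' : Finset (PP A C))
    {r : PP A C} (hr : r ∈ T') : r ∈ (prel i T T').2.2 := by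
  classical
  exact Finset.mem_union_right _ (Finset.mem_union_right _ hr)

/-- For a pre-good pair, if `B → C` is surjective then so is `tau`. -/
theorem tau_surjective {i : PIdx A B C} (h : PreGood i)
    (hs : Function.Surjective (algebraMap B C)) : Function.Surjective (tau i h.compat) := by
  intro y
  refine gen_induction i.2 (fun y => ∃ x, tau i h.compat x = y) ?_ ?_ ?_ ?_ y
  · intro a
    exact ⟨algebraMap A (QQ i.1) a, tau_algebraMap i h.compat a⟩
  · rintro x y ⟨a, rfl⟩ ⟨b, rfl⟩
    exact ⟨a + b, map_add _ _ _⟩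
  · rintro x y ⟨a, rfl⟩ ⟨b, rfl⟩
    exact ⟨a * b, map_mul _ _ _⟩
  · intro t ht
    obtain ⟨s, hs', rfl⟩ := h.liftBC t ht (hs t)
    exact ⟨gen i.1 s hs', tau_gen i h.compat s hs'⟩

end Groth.Agent.Helper27.Fc
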