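import Mathlib
import Groth.Agent.Lib.Helper27.FcC

/-!
# Pairs of finitely presented approximations of `A → B → C` (helper27; for S18014), part D:
good pairs and the repair step.
-/

set_option autoImplicit false

universe u

open Groth.Agent.Helper11 Groth.Agent.Helper11.UH MvPolynomial Pointwise

namespace Groth.Agent.Helper27.Fc

variable {A B C : Type u} [CommRing A] [CommRing B] [CommRing C] [Algebra A B] [Algebra A C]
  [Algebra B C] [IsScalarTower A B C]

/-- Good pairs. -/
structure Good (i : PIdx A B C) : Prop where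
  pre : PreGood i
  nil : (Function.Surjective (algebraMap B C) ∧ IsNilpotent (RingHom.ker (algebraMap B C))) →
    IsNilpotent (RingHom.ker (tau i pre.compat))

/-- `tau` as an algebra map. -/
noncomputable def tauA (i : PIdx A B C) (h : Compat i) : QQ i.1 →ₐ[A] QQ i.2 :=
  { tau i h with commutes' := tau_algebraMap i h }

theorem ker_tau_fg {i : PIdx A B C} (h : PreGood i)
    (hs : Function.Surjective (algebraMap B C)) : (RingHom.ker (tau i h.compat)).FG := by
  haveI : Algebra.FinitePresentation A (QQ i.1) :=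
    RingHom.finitePresentation_algebraMap.mp (finitePresentation_QQ i.1)
  haveI : Algebra.FinitePresentation A (QQ i.2) :=
    RingHom.finitePresentation_algebraMap.mp (finitePresentation_QQ i.2)
  exact Algebra.FinitePresentation.ker_fG_of_surjective (tauA i h.compat) (tau_surjective h hs)

/-- The transition map is surjective when no variables are added. -/
theorem trans_surjective_of_var_eq {j j' : PreIdx A B} (h : j ≤ j') (hv : j'.1 = j.1) :
    Function.Surjective (UH.trans h) := by
  intro y'
  obtain ⟨x', rfl⟩ := mkQ_surjective j' y'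
  have hle : RR j' ≤ RR j := by
    unfold RR
    rw [hv]
  refine ⟨mkQ j (Subalgebra.inclusion hle x'), ?_⟩
  have e : incl h (Subalgebra.inclusion hle x') = x' :=
    Subtype.ext (by rw [incl_coe, Subalgebra.coe_inclusion])
  rw [trans_mk, e]

/-- A retraction criterion for injectivity of transition maps. -/
theorem trans_injective_of_rels {j j' : PreIdx A B} (h : j ≤ j') (hv : j'.1 = j.1)
    (hrel : ∀ x : RR j, (x : PP A B) ∈ j'.2 → piB A B x = 0 → mkQ j x = 0) :
    Function.Injective (UH.trans h) := by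
  have hle : RR j' ≤ RR j := by
    unfold RR
    rw [hv]
  let ι' : RR j' →+* RR j := (Subalgebra.inclusion hle).toRingHom
  have hι' : ∀ x', ((ι' x' : RR j) : PP A B) = x' := fun x' => Subalgebra.coe_inclusion _ x'
  have hker : ∀ x' ∈ II j', ((mkQ j).comp ι') x' = 0 := by
    have : II j' ≤ RingHom.ker ((mkQ j).comp ι') := by
      unfold II
      rw [Ideal.span_le]
      intro x' hx'
      rw [SetLike.mem_coe, RingHom.mem_ker, RingHom.comp_apply]
      apply hrel
      · rw [hι']
        exact hx'.1
      · rw [hι']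
        exact hx'.2
    intro x' hx'
    exact this hx'
  let ρ : QQ j' →+* QQ j := Ideal.Quotient.lift (II j') ((mkQ j).comp ι') hker
  have hρ : ∀ y, ρ (UH.trans h y) = y := by
    intro y
    obtain ⟨x, rfl⟩ := mkQ_surjective j y
    have e : ι' (incl h x) = x := Subtype.ext (by rw [hι', incl_coe])
    have e2 : ρ (mkQ j' (incl h x)) = ((mkQ j).comp ι') (incl h x) :=
      Ideal.Quotient.lift_mk _ _ _
    rw [trans_mk, e2, RingHom.comp_apply, e]
  exact Function.LeftInverse.injective hρ

theorem pow_succ_eq_bot_of_pow_eq_zero {R : Type*} [CommRing R] {I : Ideal R} {N : ℕ}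
    (h : I ^ N = 0) : I ^ (N + 1) = ⊥ := by
  rw [pow_succ, h]
  exact zero_mul I

/-- The repair step: above every pre-good pair there is a good pair with the same variables. -/
theorem exists_good_ge {i : PIdx A B C} (h : PreGood i) :
    ∃ i' : PIdx A B C, i ≤ i' ∧ Good i' ∧ i'.1.1 = i.1.1 ∧ i'.2.1 = i.2.1 := by
  classical
  by_cases hn : Function.Surjective (algebraMap B C) ∧
      IsNilpotent (RingHom.ker (algebraMap B C))
  swap
  · exact ⟨i, le_refl i, ⟨h, fun hh => absurd hh hn⟩, rfl, rfl⟩
  obtain ⟨hs, N, hN⟩ := hn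
  have hN1 : RingHom.ker (algebraMap B C) ^ (N + 1) = ⊥ := pow_succ_eq_bot_of_pow_eq_zero hN
  obtain ⟨S, hS⟩ := ker_tau_fg h hs
  -- lifts of the generators
  let L : QQ i.1 → RR i.1 := Function.surjInv (mkQ_surjective i.1)
  have hL : ∀ g, mkQ i.1 (L g) = g := Function.surjInv_eq (mkQ_surjective i.1)
  have hSker : ∀ g ∈ S, tau i h.compat g = 0 := by
    intro g hg
    have : g ∈ RingHom.ker (tau i h.compat) := by
      rw [← hS]
      exact Ideal.subset_span hg
    exact this
  have hgam : ∀ g ∈ S, gam i.1 g ∈ RingHom.ker (algebraMap B C) := by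
    intro g hg
    rw [RingHom.mem_ker, ← gam_tau i h.compat, hSker g hg, map_zero]
  -- products
  let P : (Fin (N + 1) → S) → RR i.1 := fun α => ∏ k, L (α k).1
  have hPmk : ∀ α, mkQ i.1 (P α) = ∏ k, ((α k).1 : QQ i.1) := by
    intro α
    show mkQ i.1 (∏ k, L (α k).1) = _
    rw [map_prod]
    exact Finset.prod_congr rfl (fun k _ => hL _)
  have hPpi : ∀ α, piB A B (P α : PP A B) = 0 := by
    intro α
    have h1 : piB A B (P α : PP A B) = gam i.1 (mkQ i.1 (P α)) := (gam_mk i.1 _).symm
    rw [h1, hPmk, map_prod]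
    have h2 : ∏ k, gam i.1 ((α k).1 : QQ i.1) ∈ RingHom.ker (algebraMap B C) ^ (N + 1) := by
      have h3 := Ideal.prod_mem_prod (ι := Fin (N + 1)) (s := Finset.univ)
        (I := fun _ => RingHom.ker (algebraMap B C)) (x := fun k => gam i.1 ((α k).1 : QQ i.1))
        (fun k _ => hgam _ (α k).2)
      rw [Finset.prod_const, Finset.card_univ, Fintype.card_fin] at h3
      exact h3
    rw [hN1] at h2
    exact h2
  have hPtau : ∀ α, tau i h.compat (mkQ i.1 (P α)) = 0 := by
    intro α
    rw [hPmk, map_prod]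
    exact Finset.prod_eq_zero (Finset.mem_univ (0 : Fin (N + 1))) (hSker _ (α 0).2)
  let T : Finset (PP A B) := Finset.univ.image (fun α : Fin (N + 1) → S => (P α : PP A B))
  have hT : ∀ α, (P α : PP A B) ∈ T := fun α =>
    Finset.mem_image_of_mem _ (Finset.mem_univ α)
  obtain ⟨i', hi'⟩ : ∃ i', i' = prel i T (∅ : Finset (PP A C)) := ⟨_, rfl⟩
  have hle : i ≤ i' := by rw [hi']; exact le_prel i T ∅
  have hpre : PreGood i' := by rw [hi']; exact preGood_prel h T ∅
  have hv1 : i'.1.1 = i.1.1 := by rw [hi']; rfl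
  have hv2 : i'.2.1 = i.2.1 := by rw [hi']; rfl
  refine ⟨i', hle, ⟨hpre, fun _ => ⟨N + 1, ?_⟩⟩, hv1, hv2⟩
  -- injectivity of the `C`-side transition
  have hinj : Function.Injective (UH.trans hle.2) := by
    apply trans_injective_of_rels hle.2 hv2
    intro x hx hx0
    have hx' : (x : PP A C) ∈ i.2.2 ∪ (T.image (ren A B C) ∪ ∅) := by
      rw [hi'] at hx
      exact hx
    rcases Finset.mem_union.mp hx' with hx1 | hx1
    · rw [mkQ_eq_zero_iff]
      exact Ideal.subset_span ⟨hx1, hx0⟩
    · rw [Finset.union_empty] at hx1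
      obtain ⟨r, hr, hrx⟩ := Finset.mem_image.mp hx1
      obtain ⟨α, -, rfl⟩ := Finset.mem_image.mp hr
      have e : x = renR i h.compat (P α) := Subtype.ext (by rw [renR_coe, hrx])
      rw [e, ← tau_mk]
      exact hPtau α
  -- surjectivity of the `B`-side transition
  have hsurj : Function.Surjective (UH.trans hle.1) := trans_surjective_of_var_eq hle.1 hv1
  -- the kernel
  have hker : RingHom.ker (tau i' hpre.compat) ≤
      (RingHom.ker (tau i h.compat)).map (UH.trans hle.1) := by
    intro y' hy'
    obtain ⟨y, rfl⟩ := hsurj y'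
    have h1 : UH.trans hle.2 (tau i h.compat y) = 0 := by
      rw [tau_trans h.compat hpre.compat hle]
      exact hy'
    have h2 : tau i h.compat y = 0 := hinj (by rw [h1, map_zero])
    exact Ideal.mem_map_of_mem _ h2
  have hzero : ((RingHom.ker (tau i h.compat)).map (UH.trans hle.1)) ^ (N + 1) = ⊥ := by
    rw [← Ideal.map_pow, ← hS]
    have h1 : Ideal.span (S : Set (QQ i.1)) ^ (N + 1) = Ideal.span ((S : Set (QQ i.1)) ^ (N + 1)) :=
      Submodule.span_pow _ _
    rw [h1, Ideal.map_span, Ideal.span_eq_bot]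
    rintro _ ⟨x, hx, rfl⟩
    obtain ⟨f, hf⟩ := Set.mem_pow.mp hx
    rw [List.prod_ofFn] at hf
    have h2 : x = mkQ i.1 (P f) := by
      rw [hPmk, ← hf]
    rw [h2]
    apply mkQ_eq_zero_of_rel
    · rw [hi']
      exact mem_prel_left i T ∅ (hT f)
    · exact hPpi f
  exact le_bot_iff.mp (hzero ▸ Ideal.pow_right_mono hker (N + 1))

end Groth.Agent.Helper27.Fc
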