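import Mathlib
import Groth.Agent.Lib.Helper27.FcD

/-!
# Pairs of finitely presented approximations of `A → B → C` (helper27; for S18014), part E:
reaching every element by a good pair.
-/

set_option autoImplicit false

universe u

open Groth.Agent.Helper11 Groth.Agent.Helper11.UH MvPolynomial

namespace Groth.Agent.Helper27.Fc

variable {A B C : Type u} [CommRing A] [CommRing B] [CommRing C] [Algebra A B] [Algebra A C]
  [Algebra B C] [IsScalarTower A B C]

theorem isIntegral_tau (i : PIdx A B C) (h : Compat i) {y : QQ i.1} (hy : IsIntegral A y) :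
    IsIntegral A (tau i h y) := by
  obtain ⟨p, hp, hpy⟩ := hy
  refine ⟨p, hp, ?_⟩
  have h1 : (tau i h).comp (algebraMap A (QQ i.1)) = algebraMap A (QQ i.2) :=
    RingHom.ext (tau_algebraMap i h)
  rw [← h1, ← Polynomial.hom_eval₂, hpy, map_zero]

open Classical in
theorem exists_preGood_B [Algebra.IsIntegral A B] (b : B) :
    ∃ i : PIdx A B C, PreGood i ∧ b ∈ i.1.1 := by
  obtain ⟨p, hp, hpb⟩ := Algebra.IsIntegral.isIntegral (R := A) b
  have hpb' : Polynomial.aeval b p = 0 := hpb
  let RB : Finset (PP A B) :=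
    if h : b ∈ Set.range (algebraMap A B) then {(X b : PP A B) - MvPolynomial.C h.choose} else ∅
  let RC : Finset (PP A C) :=
    if h : algebraMap B C b ∈ Set.range (algebraMap A C) then
      {(X (algebraMap B C b) : PP A C) - MvPolynomial.C h.choose} else ∅
  let TB : Finset (PP A B) := {Polynomial.aeval (X b : PP A B) p} ∪ RB
  let TC : Finset (PP A C) := TB.image (ren A B C) ∪ RC
  obtain ⟨i, hi⟩ : ∃ i : PIdx A B C, i = (({b}, TB), ({algebraMap B C b}, TC)) := ⟨_, rfl⟩
  have hcompat : Compat i := by
    rw [hi]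
    constructor
    · show ({b} : Finset B).image (algebraMap B C) ⊆ {algebraMap B C b}
      rw [Finset.image_singleton]
    · exact Finset.subset_union_left
  have hb1 : b ∈ i.1.1 := by rw [hi]; exact Finset.mem_singleton_self b
  have hs1 : ∀ s ∈ i.1.1, s = b := by
    intro s hs
    rw [hi] at hs
    exact Finset.mem_singleton.mp hs
  have ht1 : ∀ t ∈ i.2.1, t = algebraMap B C b := by
    intro t ht
    rw [hi] at ht
    exact Finset.mem_singleton.mp ht
  have hintB : ∀ s hs, IsIntegral A (gen i.1 s hs) := by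
    intro s hs
    obtain rfl := hs1 s hs
    apply isIntegral_gen_of_rel i.1 s hs p hp hpb'
    rw [hi]
    exact Finset.mem_union_left _ (Finset.mem_singleton_self _)
  refine ⟨i, ⟨hcompat, hintB, ?_, ?_, ?_, ?_⟩, hb1⟩
  · intro t ht
    obtain rfl := ht1 t ht
    rw [← tau_gen i hcompat b hb1]
    exact isIntegral_tau i hcompat (hintB b hb1)
  · intro s hs hr
    obtain rfl := hs1 s hs
    apply gen_mem_range_of_rel i.1 s hs hr.choose hr.choose_spec
    rw [hi]
    apply Finset.mem_union_right
    show _ ∈ RB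
    simp only [RB, dif_pos hr]
    exact Finset.mem_singleton_self _
  · intro t ht hr
    obtain rfl := ht1 t ht
    apply gen_mem_range_of_rel i.2 _ ht hr.choose hr.choose_spec
    rw [hi]
    apply Finset.mem_union_right
    show _ ∈ RC
    simp only [RC, dif_pos hr]
    exact Finset.mem_singleton_self _
  · intro t ht _
    obtain rfl := ht1 t ht
    exact ⟨b, hb1, rfl⟩

open Classical in
theorem exists_preGood_C [Algebra.IsIntegral A B] [Algebra.IsIntegral A C] (c : C) :
    ∃ i : PIdx A B C, PreGood i ∧ c ∈ i.2.1 := by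
  by_cases hc : c ∈ Set.range (algebraMap B C)
  · obtain ⟨b, rfl⟩ := hc
    obtain ⟨i, hi, hb⟩ := exists_preGood_B (A := A) (C := C) b
    exact ⟨i, hi, hi.compat.mem_var hb⟩
  obtain ⟨p, hp, hpc⟩ := Algebra.IsIntegral.isIntegral (R := A) c
  have hpc' : Polynomial.aeval c p = 0 := hpc
  let RC : Finset (PP A C) :=
    if h : c ∈ Set.range (algebraMap A C) then
      {(X c : PP A C) - MvPolynomial.C h.choose} else ∅
  let TC : Finset (PP A C) := {Polynomial.aeval (X c : PP A C) p} ∪ RC
  obtain ⟨i, hi⟩ : ∃ i : PIdx A B C, i = ((∅, ∅), ({c}, TC)) := ⟨_, rfl⟩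
  have hcompat : Compat i := by
    rw [hi]
    constructor
    · show (∅ : Finset B).image (algebraMap B C) ⊆ _
      rw [Finset.image_empty]
      exact Finset.empty_subset _
    · show (∅ : Finset (PP A B)).image (ren A B C) ⊆ _
      rw [Finset.image_empty]
      exact Finset.empty_subset _
  have hc1 : c ∈ i.2.1 := by rw [hi]; exact Finset.mem_singleton_self c
  have hs1 : ∀ s, s ∉ i.1.1 := by
    intro s hs
    rw [hi] at hs
    exact absurd hs (Finset.notMem_empty s)
  have ht1 : ∀ t ∈ i.2.1, t = c := by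
    intro t ht
    rw [hi] at ht
    exact Finset.mem_singleton.mp ht
  refine ⟨i, ⟨hcompat, ?_, ?_, ?_, ?_, ?_⟩, hc1⟩
  · intro s hs
    exact absurd hs (hs1 s)
  · intro t ht
    obtain rfl := ht1 t ht
    apply isIntegral_gen_of_rel i.2 t ht p hp hpc'
    rw [hi]
    exact Finset.mem_union_left _ (Finset.mem_singleton_self _)
  · intro s hs
    exact absurd hs (hs1 s)
  · intro t ht hr
    obtain rfl := ht1 t ht
    apply gen_mem_range_of_rel i.2 _ ht hr.choose hr.choose_spec
    rw [hi]
    apply Finset.mem_union_right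
    show _ ∈ RC
    simp only [RC, dif_pos hr]
    exact Finset.mem_singleton_self _
  · intro t ht hr
    obtain rfl := ht1 t ht
    exact absurd hr hc

theorem preGood_empty : PreGood (((∅, ∅), (∅, ∅)) : PIdx A B C) := by
  classical
  refine ⟨⟨?_, ?_⟩, ?_, ?_, ?_, ?_, ?_⟩
  · show (∅ : Finset B).image (algebraMap B C) ⊆ _
    rw [Finset.image_empty]
  · show (∅ : Finset (PP A B)).image (ren A B C) ⊆ _
    rw [Finset.image_empty]
  · intro s hs
    exact absurd hs (Finset.notMem_empty s)
  · intro s hs
    exact absurd hs (Finset.notMem_empty s)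
  · intro s hs
    exact absurd hs (Finset.notMem_empty s)
  · intro s hs
    exact absurd hs (Finset.notMem_empty s)
  · intro s hs
    exact absurd hs (Finset.notMem_empty s)

end Groth.Agent.Helper27.Fc
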