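import Mathlib
import Groth.Agent.Lib.Helper27.FcE

/-!
# Pairs of finitely presented approximations of `A → B → C` (helper27; for S18014), part F:
the filtered diagrams and their colimits.
-/

set_option autoImplicit false

universe u

open Groth.Agent.Helper11 Groth.Agent.Helper11.UH MvPolynomial CategoryTheory Limits

namespace Groth.Agent.Helper27.Fc

section Cat

variable (A B C : Type u) [CommRing A] [CommRing B] [CommRing C] [Algebra A B] [Algebra A C]
  [Algebra B C] [IsScalarTower A B C]

/-- The index type of good pairs. -/
structure GI : Type u where
  /-- the underlying pair -/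
  idx : PIdx A B C
  /-- goodness -/
  good : Good idx

instance : Preorder (GI A B C) := Preorder.lift (GI.idx (A := A) (B := B) (C := C))

instance : Nonempty (GI A B C) := by
  obtain ⟨i', -, hg, -, -⟩ := exists_good_ge (preGood_empty (A := A) (B := B) (C := C))
  exact ⟨⟨i', hg⟩⟩

instance : IsDirectedOrder (GI A B C) :=
  ⟨fun a b => by
    obtain ⟨i', hle, hg, -, -⟩ := exists_good_ge (preGood_psup a.good.pre b.good.pre)
    exact ⟨⟨i', hg⟩, (le_psup_left a.idx b.idx).trans hle, (le_psup_right a.idx b.idx).trans hle⟩⟩

variable {A B C}

theorem GI_le {j j' : GI A B C} (f : j ⟶ j') : j.idx ≤ j'.idx := leOfHom f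

variable (A B C)

/-- The diagram of approximations of `B`. -/
noncomputable def DB : GI A B C ⥤ Under (CommRingCat.of A) where
  obj j := Under.mk (CommRingCat.ofHom (algebraMap A (QQ j.idx.1)))
  map {j j'} f := Under.homMk (CommRingCat.ofHom (UH.trans (GI_le f).1)) (by
    apply CommRingCat.hom_ext
    apply RingHom.ext
    intro a
    exact trans_algebraMap _ a)
  map_id j := by
    apply Under.UnderMorphism.ext
    apply CommRingCat.hom_ext
    apply RingHom.ext
    intro y
    exact trans_refl _ y
  map_comp f g := by
    apply Under.UnderMorphism.ext
    apply CommRingCat.hom_ext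
    apply RingHom.ext
    intro y
    exact (trans_trans _ _ y).symm

/-- The diagram of approximations of `C`. -/
noncomputable def DC : GI A B C ⥤ Under (CommRingCat.of A) where
  obj j := Under.mk (CommRingCat.ofHom (algebraMap A (QQ j.idx.2)))
  map {j j'} f := Under.homMk (CommRingCat.ofHom (UH.trans (GI_le f).2)) (by
    apply CommRingCat.hom_ext
    apply RingHom.ext
    intro a
    exact trans_algebraMap _ a)
  map_id j := by
    apply Under.UnderMorphism.ext
    apply CommRingCat.hom_ext
    apply RingHom.ext
    intro y
    exact trans_refl _ y
  map_comp f g := by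
    apply Under.UnderMorphism.ext
    apply CommRingCat.hom_ext
    apply RingHom.ext
    intro y
    exact (trans_trans _ _ y).symm

/-- The comparison of diagrams. -/
noncomputable def tauNat : DB A B C ⟶ DC A B C where
  app j := Under.homMk (CommRingCat.ofHom (tau j.idx j.good.pre.compat)) (by
    apply CommRingCat.hom_ext
    apply RingHom.ext
    intro a
    exact tau_algebraMap _ _ a)
  naturality j j' f := by
    apply Under.UnderMorphism.ext
    apply CommRingCat.hom_ext
    apply RingHom.ext
    intro y
    exact (tau_trans j.good.pre.compat j'.good.pre.compat (GI_le f) y).symm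

/-- The cocone legs to `B`. -/
noncomputable def cB : DB A B C ⟶
    (Functor.const (GI A B C)).obj (Under.mk (CommRingCat.ofHom (algebraMap A B))) where
  app j := Under.homMk (CommRingCat.ofHom (gam j.idx.1)) (by
    apply CommRingCat.hom_ext
    apply RingHom.ext
    intro a
    exact gam_algebraMap j.idx.1 a)
  naturality j j' f := by
    apply Under.UnderMorphism.ext
    apply CommRingCat.hom_ext
    apply RingHom.ext
    intro y
    exact gam_trans _ y

/-- The cocone legs to `C`. -/
noncomputable def cC : DC A B C ⟶
    (Functor.const (GI A B C)).obj (Under.mk (CommRingCat.ofHom (algebraMap A C))) where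
  app j := Under.homMk (CommRingCat.ofHom (gam j.idx.2)) (by
    apply CommRingCat.hom_ext
    apply RingHom.ext
    intro a
    exact gam_algebraMap j.idx.2 a)
  naturality j j' f := by
    apply Under.UnderMorphism.ext
    apply CommRingCat.hom_ext
    apply RingHom.ext
    intro y
    exact gam_trans _ y

end Cat

end Groth.Agent.Helper27.Fc
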