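import Mathlib
import Groth.Agent.Lib.Helper27.FcF

/-!
# Pairs of finitely presented approximations of `A → B → C` (helper27; for S18014), part G:
the colimits and the main theorem.
-/

set_option autoImplicit false

universe u

open Groth.Agent.Helper11 Groth.Agent.Helper11.UH MvPolynomial CategoryTheory Limits

namespace Groth.Agent.Helper27.Fc

section Cat

variable (A B C : Type u) [CommRing A] [CommRing B] [CommRing C] [Algebra A B] [Algebra A C]
  [Algebra B C] [IsScalarTower A B C]

theorem exists_coeq_B (i : GI A B C) (x y : QQ i.idx.1) (hxy : gam i.idx.1 x = gam i.idx.1 y) :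
    ∃ (k : GI A B C) (f : i ⟶ k), UH.trans (GI_le f).1 x = UH.trans (GI_le f).1 y := by
  classical
  obtain ⟨r, hr⟩ := mkQ_surjective i.idx.1 (x - y)
  have hr0 : piB A B r = 0 := by
    rw [← gam_mk, hr, map_sub, hxy, sub_self]
  obtain ⟨i', hle', hg, -, -⟩ := exists_good_ge
    (preGood_prel i.good.pre {(r : PP A B)} (∅ : Finset (PP A C)))
  have hle : i.idx ≤ i' := (le_prel _ _ _).trans hle'
  let k : GI A B C := ⟨i', hg⟩
  have hlek : i ≤ k := hle
  refine ⟨k, homOfLE hlek, ?_⟩
  have h0 : UH.trans hle.1 (x - y) = 0 := by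
    rw [← hr]
    apply mkQ_eq_zero_of_rel
    · exact hle'.1.2 (mem_prel_left i.idx _ _ (Finset.mem_singleton_self _))
    · exact hr0
  rw [map_sub] at h0
  exact sub_eq_zero.mp h0

theorem exists_coeq_C (i : GI A B C) (x y : QQ i.idx.2) (hxy : gam i.idx.2 x = gam i.idx.2 y) :
    ∃ (k : GI A B C) (f : i ⟶ k), UH.trans (GI_le f).2 x = UH.trans (GI_le f).2 y := by
  classical
  obtain ⟨r, hr⟩ := mkQ_surjective i.idx.2 (x - y)
  have hr0 : piB A C r = 0 := by
    rw [← gam_mk, hr, map_sub, hxy, sub_self]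
  obtain ⟨i', hle', hg, -, -⟩ := exists_good_ge
    (preGood_prel i.good.pre (∅ : Finset (PP A B)) {(r : PP A C)})
  have hle : i.idx ≤ i' := (le_prel _ _ _).trans hle'
  let k : GI A B C := ⟨i', hg⟩
  have hlek : i ≤ k := hle
  refine ⟨k, homOfLE hlek, ?_⟩
  have h0 : UH.trans hle.2 (x - y) = 0 := by
    rw [← hr]
    apply mkQ_eq_zero_of_rel
    · exact hle'.2.2 (mem_prel_right i.idx _ _ (Finset.mem_singleton_self _))
    · exact hr0
  rw [map_sub] at h0
  exact sub_eq_zero.mp h0

/-- The cocone over `DB` is a colimit cocone. -/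
theorem isColimit_cB [Algebra.IsIntegral A B] :
    Nonempty (IsColimit (Cocone.mk _ (cB A B C))) := by
  haveI : IsConnected (GI A B C) := IsFiltered.isConnected _
  haveI : ReflectsColimitsOfShape (GI A B C) (forget CommRingCat.{u}) :=
    reflectsColimitsOfShape_of_reflectsIsomorphisms
  refine ⟨?_⟩
  apply isColimitOfReflects (Under.forget (CommRingCat.of A))
  apply isColimitOfReflects (forget CommRingCat.{u})
  apply Types.FilteredColimit.isColimitOf'
  · intro b'
    obtain ⟨b, hbb⟩ : ∃ b : B, b = b' := ⟨b', rfl⟩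
    rw [← hbb]
    obtain ⟨i, hi, hb⟩ := exists_preGood_B (A := A) (C := C) b
    obtain ⟨i', hle, hg, hv, -⟩ := exists_good_ge hi
    have hb' : b ∈ i'.1.1 := by rw [hv]; exact hb
    exact ⟨⟨i', hg⟩, gen i'.1 b hb', (gam_gen i'.1 b hb').symm⟩
  · intro i x y hxy
    obtain ⟨k, f, hk⟩ := exists_coeq_B A B C i x y hxy
    exact ⟨k, f, hk⟩

/-- The cocone over `DC` is a colimit cocone. -/
theorem isColimit_cC [Algebra.IsIntegral A B] [Algebra.IsIntegral A C] :
    Nonempty (IsColimit (Cocone.mk _ (cC A B C))) := by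
  haveI : IsConnected (GI A B C) := IsFiltered.isConnected _
  haveI : ReflectsColimitsOfShape (GI A B C) (forget CommRingCat.{u}) :=
    reflectsColimitsOfShape_of_reflectsIsomorphisms
  refine ⟨?_⟩
  apply isColimitOfReflects (Under.forget (CommRingCat.of A))
  apply isColimitOfReflects (forget CommRingCat.{u})
  apply Types.FilteredColimit.isColimitOf'
  · intro c'
    obtain ⟨c, hcc⟩ : ∃ c : C, c = c' := ⟨c', rfl⟩
    rw [← hcc]
    obtain ⟨i, hi, hc⟩ := exists_preGood_C (A := A) (B := B) c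
    obtain ⟨i', hle, hg, -, hv⟩ := exists_good_ge hi
    have hc' : c ∈ i'.2.1 := by rw [hv]; exact hc
    exact ⟨⟨i', hg⟩, gen i'.2 c hc', (gam_gen i'.2 c hc').symm⟩
  · intro i x y hxy
    obtain ⟨k, f, hk⟩ := exists_coeq_C A B C i x y hxy
    exact ⟨k, f, hk⟩

end Cat

end Groth.Agent.Helper27.Fc
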