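import Mathlib
import Groth.Agent.Lib.Helper27.FcG

/-!
# Integral algebras `A → B → C` as a filtered colimit of finite finitely presented pairs
(helper27; for S18014), part H: the main theorem.
-/

set_option autoImplicit false

universe u

open Groth.Agent.Helper11 Groth.Agent.Helper11.UH MvPolynomial CategoryTheory Limits

namespace Groth.Agent.Helper27.Fc

theorem isNilpotent_of_le {R : Type*} [CommRing R] {I J : Ideal R} (h : J ≤ I)
    (hI : IsNilpotent I) : IsNilpotent J := by
  obtain ⟨n, hn⟩ := hI
  refine ⟨n, ?_⟩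
  have h1 : J ^ n ≤ I ^ n := Ideal.pow_right_mono h n
  rw [hn] at h1
  exact le_bot_iff.mp h1

theorem main {A B C : Type u} [CommRing A] [CommRing B]
    [CommRing C] [Algebra A B] [Algebra A C] [Algebra B C] [IsScalarTower A B C]
    [Algebra.IsIntegral A B] [Algebra.IsIntegral A C] :
    ∃ (ι : Type u) (_ : SmallCategory ι) (_ : IsFiltered ι) (DB DC : ι ⥤ Under (CommRingCat.of A)) (τ : DB ⟶ DC)
      (cB : DB ⟶ (Functor.const ι).obj (Under.mk (CommRingCat.ofHom (algebraMap A B))))
      (cC : DC ⟶ (Functor.const ι).obj (Under.mk (CommRingCat.ofHom (algebraMap A C)))),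
      Nonempty (IsColimit (Cocone.mk _ cB)) ∧ Nonempty (IsColimit (Cocone.mk _ cC)) ∧
      (∀ i, (τ.app i).right ≫ (cC.app i).right = (cB.app i).right ≫ CommRingCat.ofHom (algebraMap B C)) ∧
      (∀ i, (DB.obj i).hom.hom.Finite ∧ (DB.obj i).hom.hom.FinitePresentation ∧
        (DC.obj i).hom.hom.Finite ∧ (DC.obj i).hom.hom.FinitePresentation) ∧
      (Function.Surjective (algebraMap A B) → ∀ i, Function.Surjective (DB.obj i).hom.hom) ∧
      (Function.Surjective (algebraMap B C) → ∀ i, Function.Surjective (τ.app i).right.hom) ∧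
      (Function.Surjective (algebraMap A C) → ∀ i, Function.Surjective (DC.obj i).hom.hom) ∧
      (Function.Surjective (algebraMap A B) → IsNilpotent (RingHom.ker (algebraMap A B)) →
        ∀ i, Function.Surjective (DB.obj i).hom.hom ∧ IsNilpotent (RingHom.ker (DB.obj i).hom.hom)) ∧
      (Function.Surjective (algebraMap B C) → IsNilpotent (RingHom.ker (algebraMap B C)) →
        ∀ i, Function.Surjective (τ.app i).right.hom ∧ IsNilpotent (RingHom.ker (τ.app i).right.hom)) ∧
      (Function.Surjective (algebraMap A C) → IsNilpotent (RingHom.ker (algebraMap A C)) →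
        ∀ i, Function.Surjective (DC.obj i).hom.hom ∧ IsNilpotent (RingHom.ker (DC.obj i).hom.hom)) := by
  have hsB : Function.Surjective (algebraMap A B) → ∀ i : GI A B C,
      Function.Surjective (algebraMap A (QQ i.idx.1)) := by
    intro hs i
    apply surjective_QQ
    intro s hs'
    exact i.good.pre.rngB s hs' (hs s)
  have hsC : Function.Surjective (algebraMap A C) → ∀ i : GI A B C,
      Function.Surjective (algebraMap A (QQ i.idx.2)) := by
    intro hs i
    apply surjective_QQ
    intro s hs'
    exact i.good.pre.rngC s hs' (hs s)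
  have hsT : Function.Surjective (algebraMap B C) → ∀ i : GI A B C,
      Function.Surjective (tau i.idx i.good.pre.compat) :=
    fun hs i => tau_surjective i.good.pre hs
  refine ⟨GI A B C, inferInstance, inferInstance, DB A B C, DC A B C, tauNat A B C, cB A B C,
    cC A B C, isColimit_cB A B C, isColimit_cC A B C, ?_, ?_, ?_, ?_, ?_, ?_, ?_, ?_⟩
  · intro i
    apply CommRingCat.hom_ext
    apply RingHom.ext
    intro y
    exact gam_tau i.idx i.good.pre.compat y
  · intro i
    exact ⟨finite_QQ i.idx.1 i.good.pre.intB, finitePresentation_QQ i.idx.1,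
      finite_QQ i.idx.2 i.good.pre.intC, finitePresentation_QQ i.idx.2⟩
  · exact hsB
  · exact hsT
  · exact hsC
  · intro hs hn i
    exact ⟨hsB hs i, isNilpotent_of_le (ker_le_ker i.idx.1) hn⟩
  · intro hs hn i
    exact ⟨hsT hs i, i.good.nil ⟨hs, hn⟩⟩
  · intro hs hn i
    exact ⟨hsC hs i, isNilpotent_of_le (ker_le_ker i.idx.2) hn⟩

end Groth.Agent.Helper27.Fc
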