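import Mathlib
import Groth.Agent.Lib.Helper16.FF.LD
import Groth.Agent.Lib.Helper16.FF.AlgClosed

/-! Bifiltrations of a linear system by vanishing orders at two places. -/

namespace Groth.Agent.Helper27.Fil

open FunFld Groth.Agent.Helper16.FF Module

section abstract
variable {k V : Type*} [Field k] [AddCommGroup V] [Module k V]

theorem finrank_inf_le (T S W : Submodule k V) (hTS : T ≤ S) {d : ℕ} (h : HasRelDim T S d)
    [FiniteDimensional k W] : finrank k ↥(W ⊓ S) ≤ finrank k ↥(W ⊓ T) + d := by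
  haveI := h.1
  haveI : FiniteDimensional k ↥(W ⊓ S) := Submodule.finiteDimensional_inf_left W S
  let f : ↥(W ⊓ S) →ₗ[k] (↥S ⧸ T.comap S.subtype) :=
    (T.comap S.subtype).mkQ ∘ₗ Submodule.inclusion (inf_le_right : W ⊓ S ≤ S)
  have hker : LinearMap.ker f = (W ⊓ T).comap (W ⊓ S).subtype := by
    ext x
    simp only [f, LinearMap.mem_ker, LinearMap.comp_apply, Submodule.mkQ_apply,
      Submodule.Quotient.mk_eq_zero, Submodule.mem_comap, Submodule.subtype_apply,
      Submodule.coe_inclusion, Submodule.mem_inf]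
    exact ⟨fun hx => ⟨x.2.1, hx⟩, fun hx => hx.2⟩
  have hle : W ⊓ T ≤ W ⊓ S := inf_le_inf_left W hTS
  have e1 : finrank k ↥(LinearMap.ker f) = finrank k ↥(W ⊓ T) := by
    rw [hker]
    exact (Submodule.comapSubtypeEquivOfLe hle).finrank_eq
  have e2 := LinearMap.finrank_range_add_finrank_ker f
  have e3 : finrank k ↥(LinearMap.range f) ≤ d := by
    rw [← h.2]; exact Submodule.finrank_le _
  omega

theorem eq_of_le_of_finrank {A B : Submodule k V} [FiniteDimensional k B] (h : A ≤ B)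
    (hd : finrank k B ≤ finrank k A) : A = B :=
  Submodule.eq_of_le_of_finrank_le h hd

theorem biflt (W : ℤ → ℤ → Submodule k V) [∀ m n, FiniteDimensional k (W m n)]
    (hM1 : ∀ m n, W (m + 1) n ≤ W m n) (hM2 : ∀ m n, W m (n + 1) ≤ W m n)
    (hD1 : ∀ m n, finrank k (W m n) ≤ finrank k (W (m + 1) n) + 1)
    (hD2 : ∀ m n, finrank k (W m n) ≤ finrank k (W m (n + 1)) + 1)
    (hI : ∀ m n, W (m + 1) n ⊓ W m (n + 1) = W (m + 1) (n + 1)) (a b : ℤ) :
    ((2 ≤ finrank k (W a (b - 1)) ∨ 1 ≤ finrank k (W a (b + 1))) ∧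
      (2 ≤ finrank k (W (a - 1) b) ∨ 1 ≤ finrank k (W (a + 1) b))) ↔
    (1 ≤ finrank k (W (a + 1) (b + 1)) ∨ 3 ≤ finrank k (W (a - 1) (b - 1)) ∨
      (1 ≤ finrank k (W a (b + 1)) ∧ 2 ≤ finrank k (W (a - 1) b)) ∨
      (1 ≤ finrank k (W (a + 1) b) ∧ 2 ≤ finrank k (W a (b - 1)))) := by
  have ea : a - 1 + 1 = a := by ring
  have eb : b - 1 + 1 = b := by ring
  have m1 : ∀ m n, finrank k (W (m + 1) n) ≤ finrank k (W m n) := fun m n =>
    Submodule.finrank_mono (hM1 m n)
  have m2 : ∀ m n, finrank k (W m (n + 1)) ≤ finrank k (W m n) := fun m n =>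
    Submodule.finrank_mono (hM2 m n)
  -- instances at shifted indices
  have M1a := hM1 (a - 1); rw [ea] at M1a
  have M2b : ∀ m, W m b ≤ W m (b - 1) := fun m => by have := hM2 m (b - 1); rwa [eb] at this
  have m1a := m1 (a - 1); rw [ea] at m1a
  have m2b : ∀ m, finrank k (W m b) ≤ finrank k (W m (b - 1)) := fun m => by
    have := m2 m (b - 1); rwa [eb] at this
  have D1a := hD1 (a - 1); rw [ea] at D1a
  have D2b : ∀ m, finrank k (W m (b - 1)) ≤ finrank k (W m b) + 1 := fun m => by
    have := hD2 m (b - 1); rwa [eb] at this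
  have Iab := hI (a - 1) (b - 1); rw [ea, eb] at Iab
  constructor
  · rintro ⟨hA, hB⟩
    rcases hA with A1 | A2 <;> rcases hB with B1 | B2
    · -- A1, B1
      by_cases h3 : 3 ≤ finrank k (W (a - 1) (b - 1))
      · exact Or.inr (Or.inl h3)
      · push Not at h3
        have eA : W a (b - 1) = W (a - 1) (b - 1) :=
          eq_of_le_of_finrank (M1a (b - 1)) (by omega)
        have eB : W (a - 1) b = W (a - 1) (b - 1) :=
          eq_of_le_of_finrank (M2b (a - 1)) (by omega)
        have eAB : W a b = W (a - 1) (b - 1) := by rw [← Iab, eA, eB, inf_idem]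
        have h2 : 2 ≤ finrank k (W a b) := by rw [eAB, ← eA]; exact A1
        have := hD2 a b
        exact Or.inr (Or.inr (Or.inl ⟨by omega, B1⟩))
    · exact Or.inr (Or.inr (Or.inr ⟨B2, A1⟩))
    · exact Or.inr (Or.inr (Or.inl ⟨A2, B1⟩))
    · by_cases h2 : 2 ≤ finrank k (W a b)
      · have := m2b a
        exact Or.inr (Or.inr (Or.inr ⟨B2, by omega⟩))
      · push Not at h2
        have eA : W a (b + 1) = W a b := eq_of_le_of_finrank (hM2 a b) (by omega)
        have eB : W (a + 1) b = W a b := eq_of_le_of_finrank (hM1 a b) (by omega)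
        have eAB : W (a + 1) (b + 1) = W a b := by rw [← hI a b, eA, eB, inf_idem]
        refine Or.inl ?_
        rw [eAB, ← eA]; exact A2
  · rintro (h | h | ⟨h1, h2⟩ | ⟨h1, h2⟩)
    · have := m1 a (b + 1)
      have := m2 (a + 1) b
      exact ⟨Or.inr (by omega), Or.inr (by omega)⟩
    · have := D1a (b - 1)
      have := D2b (a - 1)
      exact ⟨Or.inl (by omega), Or.inl (by omega)⟩
    · exact ⟨Or.inr h1, Or.inl h2⟩
    · exact ⟨Or.inl h2, Or.inr h1⟩

end abstract

section ff
variable {k K : Type*} [Field k] [Field K] [Algebra k K]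

theorem hasRelDim_L_sub_single [IsAlgClosed k] (hK : IsFunctionField k K) (E : Divisor k K)
    (P : Place k K) : ∃ d, d ≤ 1 ∧ HasRelDim (L (E - Finsupp.single P 1)) (L E) d := by
  have hle : E - Finsupp.single P 1 ≤ E := by
    rw [sub_le_self_iff]
    exact single_nonneg P (by norm_num)
  obtain ⟨d, hd, h⟩ := exists_hasRelDim_L hK hle
  refine ⟨d, ?_, h⟩
  rw [Divisor.deg_sub, Divisor.deg_single, Place.deg_eq_one hK P] at hd
  simpa using hd

end ff

end Groth.Agent.Helper27.Fil
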