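import Mathlib

/-! Fitting ideals and étale localizations (S1291), part A: the diagonal idempotent of
`B ⊗[A] C → B` for `B = C_h` unramified over `A`. -/

set_option autoImplicit false

universe u

namespace Groth.Agent.Helper27.Fz

open TensorProduct

section idem

variable (A C : Type u) [CommRing A] [CommRing C] [Algebra A C]
  (B : Type u) [CommRing B] [Algebra A B] [Algebra C B] [IsScalarTower A C B]

/-- The multiplication map `B ⊗[A] C → B`. -/
noncomputable def mu : B ⊗[A] C →ₐ[B] B :=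
  Algebra.TensorProduct.lift (AlgHom.id B B) (IsScalarTower.toAlgHom A C B)
    (fun _ _ => Commute.all _ _)

theorem mu_tmul (b : B) (c : C) : mu A C B (b ⊗ₜ[A] c) = b * algebraMap C B c := by
  simp [mu]

theorem mu_surjective : Function.Surjective (mu A C B) := fun b =>
  ⟨b ⊗ₜ[A] (1 : C), by rw [mu_tmul, map_one, mul_one]⟩

/-- The ideal generated by the differences `c ⊗ 1 - 1 ⊗ c`. -/
def diffIdeal : Ideal (B ⊗[A] C) :=
  Ideal.span (Set.range fun c : C => (algebraMap C B c) ⊗ₜ[A] (1 : C) - (1 : B) ⊗ₜ[A] c)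

theorem sub_mu_mem (z : B ⊗[A] C) : z - (mu A C B z) ⊗ₜ[A] (1 : C) ∈ diffIdeal A C B := by
  induction z using TensorProduct.induction_on with
  | zero => simp
  | tmul b c =>
    rw [mu_tmul]
    have : b ⊗ₜ[A] c - (b * algebraMap C B c) ⊗ₜ[A] (1 : C) =
        -((b ⊗ₜ[A] (1 : C)) * ((algebraMap C B c) ⊗ₜ[A] (1 : C) - (1 : B) ⊗ₜ[A] c)) := by
      rw [mul_sub, Algebra.TensorProduct.tmul_mul_tmul, Algebra.TensorProduct.tmul_mul_tmul]
      simp
    rw [this]
    exact neg_mem (Ideal.mul_mem_left _ _ (Ideal.subset_span ⟨c, rfl⟩))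
  | add x y hx hy =>
    have : x + y - (mu A C B (x + y)) ⊗ₜ[A] (1 : C) =
        (x - mu A C B x ⊗ₜ[A] (1 : C)) + (y - mu A C B y ⊗ₜ[A] (1 : C)) := by
      rw [map_add, TensorProduct.add_tmul]
      ring
    rw [this]
    exact add_mem hx hy

theorem ker_mu_eq : RingHom.ker (mu A C B) = diffIdeal A C B := by
  apply le_antisymm
  · intro z hz
    have := sub_mu_mem A C B z
    rw [RingHom.mem_ker.1 hz, TensorProduct.zero_tmul, sub_zero] at this
    exact this
  · rw [diffIdeal, Ideal.span_le]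
    rintro _ ⟨c, rfl⟩
    rw [SetLike.mem_coe, RingHom.mem_ker, map_sub, mu_tmul, mu_tmul]
    simp

variable (h : C) [IsLocalization.Away h B] [Algebra.FormallyUnramified A B]

include h in
theorem diff_mem_sq (c : C) :
    (algebraMap C B c) ⊗ₜ[A] (1 : C) - (1 : B) ⊗ₜ[A] c ∈ (RingHom.ker (mu A C B)) ^ 2 := by
  set K := RingHom.ker (mu A C B) with hK
  have hle : K ^ 2 ≤ RingHom.ker (mu A C B).toRingHom := fun z hz =>
    (Ideal.pow_le_self two_ne_zero hz : z ∈ K)
  let mubar : (B ⊗[A] C) ⧸ K ^ 2 →+* B :=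
    Ideal.Quotient.lift (K ^ 2) (mu A C B).toRingHom (fun z hz => hle hz)
  have hmubar : ∀ z, mubar (Ideal.Quotient.mk (K ^ 2) z) = mu A C B z := fun z => rfl
  have hkerbar : RingHom.ker mubar = K.map (Ideal.Quotient.mk (K ^ 2)) := by
    apply le_antisymm
    · intro q hq
      obtain ⟨z, rfl⟩ := Ideal.Quotient.mk_surjective q
      rw [RingHom.mem_ker, hmubar] at hq
      exact Ideal.mem_map_of_mem _ hq
    · rw [Ideal.map_le_iff_le_comap]
      intro z hz
      rw [Ideal.mem_comap, RingHom.mem_ker, hmubar]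
      exact hz
  have hnil : IsNilpotent (RingHom.ker mubar) := by
    refine ⟨2, ?_⟩
    rw [hkerbar, ← Ideal.map_pow, Ideal.map_quotient_self]
    rfl
  let f₁ : B →ₐ[A] (B ⊗[A] C) ⧸ K ^ 2 :=
    (Ideal.Quotient.mkₐ A (K ^ 2)).comp
      ((Algebra.TensorProduct.includeLeft : B →ₐ[B] B ⊗[A] C).restrictScalars A)
  let g : C →ₐ[A] (B ⊗[A] C) ⧸ K ^ 2 :=
    (Ideal.Quotient.mkₐ A (K ^ 2)).comp Algebra.TensorProduct.includeRight
  have hg : IsUnit (g h) := by
    change IsUnit (Ideal.Quotient.mk (K ^ 2) ((1 : B) ⊗ₜ[A] h))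
    rw [Ideal.Quotient.isUnit_mk_pow_iff_isUnit_mk K two_ne_zero]
    have h1 : Ideal.Quotient.mk K ((1 : B) ⊗ₜ[A] h) =
        Ideal.Quotient.mk K ((algebraMap C B h) ⊗ₜ[A] (1 : C)) := by
      rw [Ideal.Quotient.eq, hK, ker_mu_eq]
      have := Ideal.subset_span (s := Set.range fun c : C =>
        (algebraMap C B c) ⊗ₜ[A] (1 : C) - (1 : B) ⊗ₜ[A] c) ⟨h, rfl⟩
      have h2 := neg_mem this
      rwa [neg_sub] at h2
    rw [h1]
    have hu : IsUnit (algebraMap C B h) := IsLocalization.Away.algebraMap_isUnit h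
    exact (hu.map (Algebra.TensorProduct.includeLeft : B →ₐ[B] B ⊗[A] C)).map
      (Ideal.Quotient.mk K)
  let f₂ : B →ₐ[A] (B ⊗[A] C) ⧸ K ^ 2 := IsLocalization.Away.liftAlgHom h hg
  have hf₂ : ∀ c : C, f₂ (algebraMap C B c) = Ideal.Quotient.mk (K ^ 2) ((1 : B) ⊗ₜ[A] c) := by
    intro c
    change IsLocalization.Away.lift h hg (algebraMap C B c) = _
    rw [IsLocalization.Away.lift_eq]
    rfl
  have heq : f₁ = f₂ := by
    refine Algebra.FormallyUnramified.ext' mubar hnil f₁ f₂ (fun x => ?_)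
    have e1 : mubar (f₁ x) = x := by
      change mubar (Ideal.Quotient.mk (K ^ 2) (x ⊗ₜ[A] (1 : C))) = x
      rw [hmubar, mu_tmul, map_one, mul_one]
    have e2 : (mubar.comp f₂.toRingHom) = RingHom.id B := by
      apply IsLocalization.ringHom_ext (Submonoid.powers h)
      ext c
      change mubar (f₂ (algebraMap C B c)) = algebraMap C B c
      rw [hf₂, hmubar, mu_tmul, one_mul]
    rw [e1]
    exact (congrArg (fun φ => φ x) e2).symm
  have h3 : f₁ (algebraMap C B c) = f₂ (algebraMap C B c) := by rw [heq]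
  rw [hf₂] at h3
  change Ideal.Quotient.mk (K ^ 2) ((algebraMap C B c) ⊗ₜ[A] (1 : C)) = _ at h3
  rwa [Ideal.Quotient.eq] at h3

include h in
theorem ker_mu_idem : IsIdempotentElem (RingHom.ker (mu A C B)) := by
  change RingHom.ker (mu A C B) * RingHom.ker (mu A C B) = RingHom.ker (mu A C B)
  apply le_antisymm Ideal.mul_le_right
  rw [← pow_two]
  conv_lhs => rw [ker_mu_eq, diffIdeal]
  rw [Ideal.span_le]
  rintro _ ⟨c, rfl⟩
  exact diff_mem_sq A C B h c

theorem ker_mu_fg [Module.Finite A C] [Module.Projective A C] :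
    (RingHom.ker (mu A C B)).FG := by
  haveI : Module.FinitePresentation A C := Module.finitePresentation_of_projective A C
  exact Algebra.FinitePresentation.ker_fG_of_surjective (mu A C B) (mu_surjective A C B)

include h in
theorem exists_idem [Module.Finite A C] [Module.Projective A C] :
    ∃ e : B ⊗[A] C, IsIdempotentElem e ∧ mu A C B e = 1 ∧
      RingHom.ker (mu A C B) = Ideal.span {1 - e} := by
  obtain ⟨ε, hε, hKε⟩ := (Ideal.isIdempotentElem_iff_of_fg _ (ker_mu_fg A C B)).1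
    (ker_mu_idem A C B h)
  refine ⟨1 - ε, hε.one_sub, ?_, ?_⟩
  · have : ε ∈ RingHom.ker (mu A C B) := by
      rw [hKε]; exact Ideal.subset_span rfl
    rw [map_sub, map_one, RingHom.mem_ker.1 this, sub_zero]
  · rw [hKε, sub_sub_cancel]

end idem

end Groth.Agent.Helper27.Fz
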