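import Mathlib
import Groth.Prelude.Def_Fitting
import Groth.Prelude.Def_FlatCA
import Groth.Agent.Lib.Helper10.FittingD
import Groth.Agent.Lib.Helper19.Fitt.DirectSum

/-! Fitting ideals and étale localizations (S1291), part B: Fitting ideal computations. -/

set_option autoImplicit false

universe u

namespace Groth.Agent.Helper27.Fz

open Groth.Agent.Lib.Helper10.Fitting Groth.Agent.Helper19.FittSum

theorem fittingZero_eq (R : Type u) [CommRing R] (M : Type u) [AddCommGroup M] [Module R M] :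
    FlatCA.fittingZero R M = Fitt.ideal R M 0 := by
  unfold FlatCA.fittingZero Fitt.ideal
  congr 1
  ext d
  constructor
  · rintro ⟨n, x, a, hx, hrel, rfl⟩
    exact ⟨n, x, a, hx, fun i _ => hrel i, rfl⟩
  · rintro ⟨n, x, a, hx, hrel, rfl⟩
    exact ⟨n, x, a, hx, fun i => hrel i (by rw [Nat.sub_zero]; exact i.2), rfl⟩

theorem fitt_quot_self (R : Type u) [CommRing R] (I : Ideal R) :
    Fitt.ideal R (R ⧸ I) 0 = I := by
  let x : Fin 1 → R ⧸ I := fun _ => 1
  have hx : Submodule.span R (Set.range x) = ⊤ := by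
    rw [eq_top_iff]
    intro q _
    obtain ⟨r, rfl⟩ := Ideal.Quotient.mk_surjective q
    have : Ideal.Quotient.mk I r = r • (1 : R ⧸ I) := by
      rw [Algebra.smul_def, mul_one]; rfl
    rw [this]
    exact Submodule.smul_mem _ _ (Submodule.subset_span ⟨0, rfl⟩)
  rw [fitt_eq_Jo x hx 0]
  apply le_antisymm
  · refine Ideal.span_le.2 ?_
    rintro d ⟨a, hrel, rfl⟩
    have h0 := hrel 0 (by simp)
    unfold IsRel at h0
    rw [Fin.sum_univ_one] at h0
    rw [Matrix.det_fin_one, SetLike.mem_coe, ← Ideal.Quotient.eq_zero_iff_mem]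
    have : Ideal.Quotient.mk I (a 0 0) = a 0 0 • (1 : R ⧸ I) := by
      rw [Algebra.smul_def, mul_one]; rfl
    rw [this]
    exact h0
  · intro r hr
    refine Ideal.subset_span ⟨Matrix.of (fun _ _ => r), fun i _ => ?_, ?_⟩
    · unfold IsRel
      rw [Fin.sum_univ_one]
      change r • (1 : R ⧸ I) = 0
      rw [Algebra.smul_def, mul_one]
      exact Ideal.Quotient.eq_zero_iff_mem.2 hr
    · rw [Matrix.det_fin_one]; rfl

section split

variable (B : Type u) [CommRing B] (S : Type u) [CommRing S] [Algebra B S] [Module.Finite B S]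
  (μ : S →ₐ[B] B) (e : S) (he : IsIdempotentElem e) (hμe : μ e = 1)
  (hker : RingHom.ker μ = Ideal.span {1 - e}) (I : Ideal S)

include he hμe hker in
theorem fitt_split :
    Fitt.ideal B (S ⧸ I) 0 = I.map μ * Fitt.ideal B (S ⧸ (I ⊔ Ideal.span {e})) 0 := by
  have hμsurj : Function.Surjective μ := fun b => ⟨algebraMap B S b, by simp⟩
  let ρ₁ : S →ₐ[B] (B ⧸ I.map μ) := (Ideal.Quotient.mkₐ B (I.map μ)).comp μ
  let ρ₂ : S →ₐ[B] (S ⧸ (I ⊔ Ideal.span {e})) := Ideal.Quotient.mkₐ B _
  let ρ : S →ₐ[B] (B ⧸ I.map μ) × (S ⧸ (I ⊔ Ideal.span {e})) := ρ₁.prod ρ₂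
  have hρ₁e : ρ₁ e = 1 := by
    change Ideal.Quotient.mk _ (μ e) = 1
    rw [hμe, map_one]
  have hρ₂e : ρ₂ e = 0 := by
    change Ideal.Quotient.mk _ e = 0
    rw [Ideal.Quotient.eq_zero_iff_mem]
    exact Ideal.mem_sup_right (Ideal.subset_span rfl)
  have hsurj : Function.Surjective ρ := by
    rintro ⟨q₁, q₂⟩
    obtain ⟨b, rfl⟩ := Ideal.Quotient.mk_surjective q₁
    obtain ⟨x, rfl⟩ := hμsurj b
    obtain ⟨y, rfl⟩ := Ideal.Quotient.mk_surjective q₂
    refine ⟨e * x + (1 - e) * y, ?_⟩
    change (ρ₁ (e * x + (1 - e) * y), ρ₂ (e * x + (1 - e) * y)) = (ρ₁ x, ρ₂ y)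
    rw [map_add, map_mul, map_mul, map_sub, map_one, hρ₁e, map_add, map_mul, map_mul, map_sub,
      map_one, hρ₂e]
    simp
  have hkerρ : I = RingHom.ker ρ := by
    apply le_antisymm
    · intro z hz
      rw [RingHom.mem_ker]
      change (ρ₁ z, ρ₂ z) = 0
      have h1 : ρ₁ z = 0 := by
        change Ideal.Quotient.mk _ (μ z) = 0
        rw [Ideal.Quotient.eq_zero_iff_mem]
        exact Ideal.mem_map_of_mem _ hz
      have h2 : ρ₂ z = 0 := by
        change Ideal.Quotient.mk _ z = 0
        rw [Ideal.Quotient.eq_zero_iff_mem]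
        exact Ideal.mem_sup_left hz
      rw [h1, h2]
      rfl
    · intro z hz
      rw [RingHom.mem_ker] at hz
      have h1 : ρ₁ z = 0 := congrArg Prod.fst hz
      have h2 : ρ₂ z = 0 := congrArg Prod.snd hz
      change Ideal.Quotient.mk _ (μ z) = 0 at h1
      change Ideal.Quotient.mk _ z = 0 at h2
      rw [Ideal.Quotient.eq_zero_iff_mem] at h1 h2
      -- e * z ∈ I
      have hez : e * z ∈ I := by
        rw [Ideal.mem_map_iff_of_surjective μ hμsurj] at h1
        obtain ⟨y, hy, hyz⟩ := h1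
        have h3 : z - y ∈ RingHom.ker μ := by
          rw [RingHom.mem_ker, map_sub, hyz, sub_self]
        rw [hker, Ideal.mem_span_singleton'] at h3
        obtain ⟨s, hs⟩ := h3
        have h4 : e * z = e * y := by
          have : e * (z - y) = 0 := by
            rw [← hs, mul_comm s, ← mul_assoc, mul_sub, mul_one, he.eq, sub_self, zero_mul]
          rw [mul_sub, sub_eq_zero] at this
          exact this
        rw [h4]
        exact Ideal.mul_mem_left _ _ hy
      have hez' : (1 - e) * z ∈ I := by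
        rw [Submodule.mem_sup] at h2
        obtain ⟨y, hy, w, hw, hyw⟩ := h2
        rw [Ideal.mem_span_singleton'] at hw
        obtain ⟨s, rfl⟩ := hw
        rw [← hyw, mul_add]
        have : (1 - e) * (s * e) = 0 := by
          rw [mul_comm s, ← mul_assoc, sub_mul, one_mul, he.eq, sub_self, zero_mul]
        rw [this, add_zero]
        exact Ideal.mul_mem_left _ _ hy
      have : z = e * z + (1 - e) * z := by ring
      rw [this]
      exact add_mem hez hez'
  let θ : (S ⧸ I) ≃ₐ[B] (B ⧸ I.map μ) × (S ⧸ (I ⊔ Ideal.span {e})) :=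
    (Ideal.quotientEquivAlgOfEq B hkerρ).trans (Ideal.quotientKerAlgEquivOfSurjective hsurj)
  haveI : Module.Finite B (S ⧸ (I ⊔ Ideal.span {e})) :=
    Module.Finite.of_surjective (ρ₂.toLinearMap) Ideal.Quotient.mk_surjective
  haveI : Module.Finite B (B ⧸ I.map μ) :=
    Module.Finite.of_surjective ((Ideal.Quotient.mkₐ B (I.map μ)).toLinearMap)
      Ideal.Quotient.mk_surjective
  rw [fitt_congr θ.toLinearEquiv 0, fitt_prod, Finset.sum_range_one, fitt_quot_self]

end split

end Groth.Agent.Helper27.Fz
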