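import Mathlib
import Groth.Agent.Lib.Helper27.FzA
import Groth.Agent.Lib.Helper27.FzB

/-! Fitting ideals and étale localizations (S1291), part C: assembly. -/

set_option autoImplicit false

universe u

namespace Groth.Agent.Helper27.Fz

open TensorProduct Groth.Agent.Lib.Helper10.Fitting

theorem fp_quot (A C : Type u) [CommRing A] [CommRing C] [Algebra A C] [Module.Finite A C]
    [Module.FinitePresentation A C] (J : Ideal C) (hJ : J.FG) :
    Module.FinitePresentation A (C ⧸ J) := by
  refine Module.finitePresentation_of_surjective ((Ideal.Quotient.mkₐ A J).toLinearMap)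
    Ideal.Quotient.mk_surjective ?_
  have hk : LinearMap.ker ((Ideal.Quotient.mkₐ A J).toLinearMap) = J.restrictScalars A := by
    ext z
    simp [Ideal.Quotient.eq_zero_iff_mem]
  rw [hk]
  haveI : Module.Finite C ↥J := Module.Finite.iff_fg.2 hJ
  haveI : Module.Finite A ↥J := Module.Finite.trans C ↥J
  have e := (Submodule.restrictScalarsEquiv A C C J).restrictScalars A
  haveI : Module.Finite A ↥(J.restrictScalars A) := Module.Finite.equiv e.symm
  exact Module.Finite.iff_fg.1 this

theorem main {A C : Type u} [CommRing A] [CommRing C] [Algebra A C] [Module.Finite A C]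
    [Module.Projective A C]
    (h : C) [Algebra.Etale A (Localization.Away h)] (J : Ideal C) :
    ∃ J' : Ideal (Localization.Away h),
      (FlatCA.fittingZero A (C ⧸ J)).map (algebraMap A (Localization.Away h)) =
        J.map (algebraMap C (Localization.Away h)) * J' ∧
      (J.FG → (FlatCA.fittingZero A (C ⧸ J)).FG ∧ J'.FG) := by
  haveI : Module.FinitePresentation A C := Module.finitePresentation_of_projective A C
  obtain ⟨e, he, hμe, hker⟩ := exists_idem A C (Localization.Away h) h
  let Jext : Ideal ((Localization.Away h) ⊗[A] C) :=
    J.map (Algebra.TensorProduct.includeRight (A := Localization.Away h) (R := A))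
  refine ⟨Fitt.ideal (Localization.Away h)
    (((Localization.Away h) ⊗[A] C) ⧸ (Jext ⊔ Ideal.span {e})) 0, ?_, ?_⟩
  · rw [fittingZero_eq, ← fitt_baseChange (Localization.Away h) 0,
      fitt_congr (Algebra.TensorProduct.tensorQuotientEquiv (R := A) (Localization.Away h) C
        (Localization.Away h) J).toLinearEquiv 0,
      fitt_split (Localization.Away h) ((Localization.Away h) ⊗[A] C)
        (mu A C (Localization.Away h)) e he hμe hker Jext]
    congr 1
    change Ideal.map (mu A C (Localization.Away h)).toRingHom (Ideal.map
      (Algebra.TensorProduct.includeRight (A := Localization.Away h) (R := A)).toRingHom J) = _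
    rw [Ideal.map_map]
    congr 1
    ext c
    simp [mu_tmul]
  · intro hJ
    constructor
    · rw [fittingZero_eq]
      haveI := fp_quot A C J hJ
      exact fitt_fg 0
    · have hfg : (Jext ⊔ Ideal.span {e}).FG :=
        Submodule.FG.sup (Ideal.FG.map hJ _) (Submodule.fg_span_singleton e)
      haveI := fp_quot (Localization.Away h) ((Localization.Away h) ⊗[A] C) _ hfg
      exact fitt_fg 0

end Groth.Agent.Helper27.Fz
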