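import Mathlib
import Groth.Prelude.Def_ParBun2

set_option autoImplicit false
universe u
open CategoryTheory CategoryTheory.Limits AlgebraicGeometry

namespace Groth.Agent.Helper27.GP

lemma key_small {α : ℝ} {d n : ℕ} (hn : 2 ≤ n) (hd : 0 < d) (hα1 : α < 1)
    (hα : 1 - 1 / ((d : ℝ) * (n : ℝ) * ((n : ℝ) - 1)) < α) :
    (1 - α) * ((d : ℝ) * n * ((n : ℝ) - 1)) < 1 := by
  have hd' : (0 : ℝ) < d := by exact_mod_cast hd
  have hn' : (2 : ℝ) ≤ n := by exact_mod_cast hn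
  have hpos : (0 : ℝ) < (d : ℝ) * n * ((n : ℝ) - 1) := by
    have : (0 : ℝ) < n := by linarith
    have : (0 : ℝ) < (n : ℝ) - 1 := by linarith
    positivity
  have h1 : 1 - α < 1 / ((d : ℝ) * (n : ℝ) * ((n : ℝ) - 1)) := by linarith
  calc (1 - α) * ((d : ℝ) * n * ((n : ℝ) - 1))
      < 1 / ((d : ℝ) * (n : ℝ) * ((n : ℝ) - 1)) * ((d : ℝ) * n * ((n : ℝ) - 1)) :=
        mul_lt_mul_of_pos_right h1 hpos
    _ = 1 := one_div_mul_cancel hpos.ne'

lemma num569 (a b : ℤ) (s t n r d : ℕ) (α : ℝ) (hn : 2 ≤ n) (hd : 0 < d) (hr0 : 0 < r)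
    (hrn : r < n) (ht : t ≤ n * d) (hα0 : 0 ≤ α) (hα1 : α < 1)
    (hα : 1 - 1 / ((d : ℝ) * (n : ℝ) * ((n : ℝ) - 1)) < α)
    (h1 : ((a : ℝ) + 1 * (s : ℝ)) * (n : ℝ) < ((b : ℝ) + 1 * (t : ℝ)) * (r : ℝ)) :
    ((a : ℝ) + α * (s : ℝ)) * (n : ℝ) < ((b : ℝ) + α * (t : ℝ)) * (r : ℝ) := by
  have hZ : (a + s) * n + 1 ≤ (b + t) * (r : ℤ) := by
    have : (((a + s) * n : ℤ) : ℝ) < (((b + t) * r : ℤ) : ℝ) := by
      push_cast; linarith
    have := Int.cast_lt.mp this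
    omega
  have hR : ((a : ℝ) + s) * n + 1 ≤ ((b : ℝ) + t) * r := by exact_mod_cast hZ
  have hk := key_small hn hd hα1 hα
  have h1α : 0 < 1 - α := by linarith
  have hn' : (2 : ℝ) ≤ n := by exact_mod_cast hn
  have htr : (t : ℝ) * r ≤ (d : ℝ) * n * ((n : ℝ) - 1) := by
    have h1 : (t : ℝ) ≤ (n : ℝ) * d := by exact_mod_cast ht
    have h2 : (r : ℝ) ≤ (n : ℝ) - 1 := by
      have : r + 1 ≤ n := hrn
      have : ((r + 1 : ℕ) : ℝ) ≤ n := by exact_mod_cast this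
      push_cast at this; linarith
    have h3 : (0 : ℝ) ≤ r := by positivity
    have h4 : (0 : ℝ) ≤ (n : ℝ) * d := by positivity
    calc (t : ℝ) * r ≤ ((n : ℝ) * d) * ((n : ℝ) - 1) := mul_le_mul h1 h2 h3 h4
      _ = (d : ℝ) * n * ((n : ℝ) - 1) := by ring
  have hsn : (0 : ℝ) ≤ (1 - α) * ((s : ℝ) * n) := by positivity
  have h5 : (1 - α) * ((t : ℝ) * r) < 1 :=
    lt_of_le_of_lt (mul_le_mul_of_nonneg_left htr h1α.le) hk
  nlinarith

lemma finrank_sub_le {k : Type u} [Field k] {V : Type u} [AddCommGroup V] [Module k V]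
    (W : Submodule k V) {m : ℕ} (hm : 0 < m) (hV : Module.finrank k V = m) :
    Module.finrank k W ≤ m := by
  haveI : Module.Finite k V := Module.finite_of_finrank_pos (by omega)
  rw [← hV]
  exact Submodule.finrank_le W

theorem main569 (k : Type u) [Field k] (X : Scheme.{u}) [X.Over (Spec (CommRingCat.of k))]
    (I : X.IdealSheafData) (d : ℕ) (hd : 0 < d)
    (hdegD : ∀ (G : X.Modules) (r : ℕ), FlatMod.IsFinLocFreeOfRank r G → Module.finrank k (ParSh.fibD X I G) = r * d)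
    {E : X.Modules} (n : ℕ) (hn : 2 ≤ n) (hE : FlatMod.IsFinLocFreeOfRank n E)
    (F₁ : Submodule k (ParSh.fibD X I E))
    (α : ℝ) (hα0 : 0 ≤ α) (hα1 : α < 1) (hα : 1 - 1 / ((d : ℝ) * (n : ℝ) * ((n : ℝ) - 1)) < α)
    (hst : ParSh.IsGPStable k X I 1 F₁ n) :
    ParSh.IsGPStable k X I α F₁ n := by
  intro F r' i hi hr0 hrn hFr
  have h1 := hst F r' i hi hr0 hrn hFr
  have ht : Module.finrank k F₁ ≤ n * d :=
    finrank_sub_le F₁ (Nat.mul_pos (by omega) hd) (hdegD E n hE)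
  unfold ParSh.gpDeg ParSh.gpWt at h1 ⊢
  exact num569 _ _ _ _ n r' d α hn hd hr0 hrn ht hα0 hα1 hα h1

end Groth.Agent.Helper27.GP
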