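import Mathlib
import Groth.Prelude.Def_ParBun2
import Groth.Agent.Lib.Helper27.GPLib
import Groth.Agent.Lib.Helper13.LocFree

set_option autoImplicit false
universe u
open CategoryTheory CategoryTheory.Limits AlgebraicGeometry

namespace Groth.Agent.Helper27.GP

lemma num568 (a b : ℤ) (s t n r d : ℕ) (α : ℝ) (hn : 2 ≤ n) (hd : 0 < d) (hr0 : 0 < r)
    (hrn : r ≤ n) (hs : s ≤ r * d) (hα0 : 0 ≤ α) (hα1 : α < 1)
    (hα : 1 - 1 / ((d : ℝ) * (n : ℝ) * ((n : ℝ) - 1)) < α)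
    (h : ((a : ℝ) + α * (s : ℝ)) * (n : ℝ) ≤ ((b : ℝ) + α * (t : ℝ)) * (r : ℝ)) :
    ((a : ℝ) + 1 * (s : ℝ)) * (n : ℝ) ≤ ((b : ℝ) + 1 * (t : ℝ)) * (r : ℝ) := by
  have hk := key_small hn hd hα1 hα
  have h1α : 0 < 1 - α := by linarith
  have hn' : (2 : ℝ) ≤ n := by exact_mod_cast hn
  have hd' : (0 : ℝ) < d := by exact_mod_cast hd
  by_contra hcon
  push Not at hcon
  have hZ : (b + t) * (r : ℤ) + 1 ≤ (a + s) * n := by
    have : (((b + t) * r : ℤ) : ℝ) < (((a + s) * n : ℤ) : ℝ) := by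
      push_cast; linarith
    have := Int.cast_lt.mp this
    omega
  -- real bound
  have hR : ((a : ℝ) + s) * n - ((b : ℝ) + t) * r ≤ (1 - α) * ((s : ℝ) * n) := by
    have : (0 : ℝ) ≤ (1 - α) * ((t : ℝ) * r) := by positivity
    nlinarith
  have hs' : (s : ℝ) ≤ (r : ℝ) * d := by exact_mod_cast hs
  rcases Nat.lt_or_ge r n with hlt | hge
  · -- r ≤ n - 1
    have h2 : (r : ℝ) ≤ (n : ℝ) - 1 := by
      have : r + 1 ≤ n := hlt
      have : ((r + 1 : ℕ) : ℝ) ≤ n := by exact_mod_cast this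
      push_cast at this; linarith
    have hsn : (s : ℝ) * n ≤ (d : ℝ) * n * ((n : ℝ) - 1) := by
      have h3 : (s : ℝ) ≤ ((n : ℝ) - 1) * d := le_trans hs' (mul_le_mul_of_nonneg_right h2 hd'.le)
      have h4 : (0 : ℝ) ≤ n := by positivity
      calc (s : ℝ) * n ≤ (((n : ℝ) - 1) * d) * n := mul_le_mul_of_nonneg_right h3 h4
        _ = (d : ℝ) * n * ((n : ℝ) - 1) := by ring
    have h5 : (1 - α) * ((s : ℝ) * n) < 1 :=
      lt_of_le_of_lt (mul_le_mul_of_nonneg_left hsn h1α.le) hk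
    have hZ' : ((b : ℝ) + t) * r + 1 ≤ ((a : ℝ) + s) * n := by exact_mod_cast hZ
    linarith
  · -- r = n
    have hrn' : r = n := le_antisymm hrn hge
    subst hrn'
    have hZ2 : (b + t) + 1 ≤ (a + s) := by
      by_contra hc
      push Not at hc
      have : (a + s) ≤ (b + t) := by omega
      have hr0' : (0 : ℤ) ≤ (r : ℤ) := by positivity
      have := mul_le_mul_of_nonneg_right this hr0'
      omega
    have hZ2' : ((b : ℝ) + t) + 1 ≤ ((a : ℝ) + s) := by exact_mod_cast hZ2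
    have hsn : (s : ℝ) * r ≤ (d : ℝ) * r * r := by
      have h4 : (0 : ℝ) ≤ r := by positivity
      calc (s : ℝ) * r ≤ ((r : ℝ) * d) * r := mul_le_mul_of_nonneg_right hs' h4
        _ = (d : ℝ) * r * r := by ring
    have h5 : (1 - α) * ((s : ℝ) * r) ≤ (1 - α) * ((d : ℝ) * r * r) :=
      mul_le_mul_of_nonneg_left hsn h1α.le
    -- (1-α) d r (r-1) < 1, so (1-α) d r r < r/(r-1) ≤ r ... use: (1-α) d r r (r-1) < r
    have h6 : (1 - α) * ((d : ℝ) * r * r) * ((r : ℝ) - 1) < r := by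
      have hrpos : (0 : ℝ) < r := by linarith
      calc (1 - α) * ((d : ℝ) * r * r) * ((r : ℝ) - 1)
          = ((1 - α) * ((d : ℝ) * r * ((r : ℝ) - 1))) * r := by ring
        _ < 1 * r := mul_lt_mul_of_pos_right hk hrpos
        _ = r := one_mul _
    have h7 : (r : ℝ) ≤ ((a : ℝ) + s) * r - ((b : ℝ) + t) * r := by nlinarith
    have h8 : (r : ℝ) ≤ (1 - α) * ((d : ℝ) * r * r) := by linarith
    have h9 : (1 : ℝ) ≤ (r : ℝ) - 1 := by linarith
    have h10 : (0 : ℝ) ≤ (1 - α) * ((d : ℝ) * r * r) := by positivity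
    nlinarith

lemma rank_le_of_mono {X : Scheme.{u}} [IsIntegral X] {F E : X.Modules} (i : F ⟶ E) [Mono i]
    (r n : ℕ) (hF : FlatMod.IsFinLocFreeOfRank r F) (hE : FlatMod.IsFinLocFreeOfRank n E) :
    r ≤ n := by
  obtain ⟨x⟩ : Nonempty X := inferInstance
  obtain ⟨U, hxU, ⟨eF⟩⟩ := hF x
  obtain ⟨U', hxU', ⟨eE⟩⟩ := hE x
  let V : X.Opens := U ⊓ U'
  haveI : Nonempty V := ⟨⟨x, hxU, hxU'⟩⟩
  obtain ⟨bF⟩ := Groth.Agent.Helper13.LocFree.nonempty_basis_of_restrict_iso F eF (V := V) inf_le_left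
  obtain ⟨bE⟩ := Groth.Agent.Helper13.LocFree.nonempty_basis_of_restrict_iso E eE (V := V) inf_le_right
  have hinj : Function.Injective (Groth.Agent.Helper13.LocFree.appLinearMap i V) :=
    (Groth.Agent.Helper13.QCoh.mono_iff_app_injective i).mp inferInstance V
  have hli : LinearIndependent Γ(X, V) (Groth.Agent.Helper13.LocFree.appLinearMap i V ∘ bF) :=
    bF.linearIndependent.map' _ (LinearMap.ker_eq_bot.mpr hinj)
  have := bE.card_le_card_of_linearIndependent hli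
  simpa using this


theorem main568 (k : Type u) [Field k] (X : Scheme.{u}) [X.Over (Spec (CommRingCat.of k))]
    [AlgebraicGeometry.IsIntegral X]
    (I : X.IdealSheafData) (d : ℕ) (hd : 0 < d)
    (hdegD : ∀ (G : X.Modules) (r : ℕ), FlatMod.IsFinLocFreeOfRank r G → Module.finrank k (ParSh.fibD X I G) = r * d)
    {E : X.Modules} (n : ℕ) (hn : 2 ≤ n) (hE : FlatMod.IsFinLocFreeOfRank n E)
    (F₁ : Submodule k (ParSh.fibD X I E))
    (α : ℝ) (hα0 : 0 ≤ α) (hα1 : α < 1) (hα : 1 - 1 / ((d : ℝ) * (n : ℝ) * ((n : ℝ) - 1)) < α)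
    (hss : ParSh.IsGPSemistable k X I α F₁ n) :
    ParSh.IsGPSemistable k X I 1 F₁ n := by
  intro F r' i hi hr0 hFr
  have h1 := hss F r' i hi hr0 hFr
  have hrn : r' ≤ n := rank_le_of_mono i r' n hFr hE
  have hs : Module.finrank k (ParSh.gpInduced k X I i F₁) ≤ r' * d :=
    finrank_sub_le _ (Nat.mul_pos hr0 hd) (hdegD F r' hFr)
  unfold ParSh.gpDeg ParSh.gpWt at h1 ⊢
  exact num568 _ _ _ _ n r' d α hn hd hr0 hrn hs hα0 hα1 hα h1

end Groth.Agent.Helper27.GP
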