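import Mathlib
set_option autoImplicit false
open scoped TensorProduct
universe u v

namespace Groth.Agent.Helper27.GC

variable {V : Type v} [AddCommGroup V] [Module (ZMod 2) V]

/-- span of squares -/
def Na (V : Type v) [AddCommGroup V] [Module (ZMod 2) V] : Submodule (ZMod 2) (V ⊗[ZMod 2] V) :=
  Submodule.span (ZMod 2) (Set.range fun v : V => v ⊗ₜ[ZMod 2] v)

/-- span of symmetrizations -/
def Ns (V : Type v) [AddCommGroup V] [Module (ZMod 2) V] : Submodule (ZMod 2) (V ⊗[ZMod 2] V) :=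
  Submodule.span (ZMod 2) (Set.range fun p : V × V => p.1 ⊗ₜ[ZMod 2] p.2 + p.2 ⊗ₜ[ZMod 2] p.1)

lemma sq_mem (x : V) : x ⊗ₜ[ZMod 2] x ∈ Na V := Submodule.subset_span ⟨x, rfl⟩

lemma sym_mem (x y : V) : x ⊗ₜ[ZMod 2] y + y ⊗ₜ[ZMod 2] x ∈ Ns V := Submodule.subset_span ⟨(x, y), rfl⟩

lemma add_self' {M : Type*} [AddCommGroup M] [Module (ZMod 2) M] (x : M) : x + x = 0 :=
  ZModModule.add_self x

lemma neg_eq' {M : Type*} [AddCommGroup M] [Module (ZMod 2) M] (x : M) : -x = x :=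
  ZModModule.neg_eq_self x

lemma Ns_le_Na : Ns V ≤ Na V := by
  unfold Ns
  rw [Submodule.span_le]
  rintro _ ⟨⟨x, y⟩, rfl⟩
  have : x ⊗ₜ[ZMod 2] y + y ⊗ₜ[ZMod 2] x =
      (x + y) ⊗ₜ[ZMod 2] (x + y) - x ⊗ₜ[ZMod 2] x - y ⊗ₜ[ZMod 2] y := by
    simp only [TensorProduct.add_tmul, TensorProduct.tmul_add]; abel
  simp only
  rw [this]
  exact sub_mem (sub_mem (sq_mem _) (sq_mem _)) (sq_mem _)

/-- the quadratic refinement tensor -/
def qq (x y : V) : V ⊗[ZMod 2] V := x ⊗ₜ[ZMod 2] x + y ⊗ₜ[ZMod 2] y + x ⊗ₜ[ZMod 2] y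

lemma comm_mem (x y : V) : y ⊗ₜ[ZMod 2] x - x ⊗ₜ[ZMod 2] y ∈ Ns V := by
  have : y ⊗ₜ[ZMod 2] x - x ⊗ₜ[ZMod 2] y = y ⊗ₜ[ZMod 2] x + x ⊗ₜ[ZMod 2] y := by
    rw [sub_eq_add_neg, neg_eq']
  rw [this]; exact sym_mem y x

lemma qq_swap (x y : V) : qq y x - qq x y ∈ Ns V := by
  have : qq y x - qq x y = y ⊗ₜ[ZMod 2] x - x ⊗ₜ[ZMod 2] y := by unfold qq; abel
  rw [this]; exact comm_mem x y

lemma qq_shear (x y : V) : qq x (x + y) - qq x y ∈ Ns V := by
  have : qq x (x + y) - qq x y = (y ⊗ₜ[ZMod 2] x - x ⊗ₜ[ZMod 2] y) +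
      ((x ⊗ₜ[ZMod 2] x + x ⊗ₜ[ZMod 2] x) + (x ⊗ₜ[ZMod 2] y + x ⊗ₜ[ZMod 2] y)) := by
    unfold qq
    simp only [TensorProduct.add_tmul, TensorProduct.tmul_add]; abel
  rw [this, add_self', add_self', add_zero, add_zero]
  exact comm_mem x y

/-- all pairs of distinct elements among `x, y, x+y` give the same `qq` modulo `Ns` -/
lemma qq_rel (x y x' y' : V) (hx' : x' = x ∨ x' = y ∨ x' = x + y) (hy' : y' = x ∨ y' = y ∨ y' = x + y)
    (hne : x' ≠ y') : qq x' y' - qq x y ∈ Ns V := by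
  have h1 : qq y x - qq x y ∈ Ns V := qq_swap x y
  have h2 : qq x (x + y) - qq x y ∈ Ns V := qq_shear x y
  have h3 : qq y (x + y) - qq x y ∈ Ns V := by
    have := qq_shear y x
    rw [add_comm y x] at this
    have := add_mem this h1
    simpa using this
  have h4 : qq (x + y) x - qq x y ∈ Ns V := by
    have := add_mem (qq_swap x (x + y)) h2
    simpa using this
  have h5 : qq (x + y) y - qq x y ∈ Ns V := by
    have := add_mem (qq_swap y (x + y)) h3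
    simpa using this
  rcases hx' with rfl | rfl | rfl <;> rcases hy' with rfl | rfl | rfl
  · exact absurd rfl hne
  · simp
  · exact h2
  · exact h1
  · exact absurd rfl hne
  · exact h3
  · exact h4
  · exact h5
  · exact absurd rfl hne

variable {G : Type u} [Group G] (ρ : Representation (ZMod 2) G V)

lemma tprod_tmul (g : G) (x y : V) : ρ.tprod ρ g (x ⊗ₜ[ZMod 2] y) = ρ g x ⊗ₜ[ZMod 2] ρ g y := by
  simp [Representation.tprod_apply]

lemma tprod_qq (g : G) (x y : V) : ρ.tprod ρ g (qq x y) = qq (ρ g x) (ρ g y) := by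
  unfold qq
  rw [map_add, map_add, tprod_tmul, tprod_tmul, tprod_tmul]

lemma Ns_stable (g : G) (w : V ⊗[ZMod 2] V) (hw : w ∈ Ns V) : ρ.tprod ρ g w ∈ Ns V := by
  unfold Ns at hw
  induction hw using Submodule.span_induction with
  | mem w hw =>
    obtain ⟨⟨x, y⟩, rfl⟩ := hw
    simp only [map_add, tprod_tmul]
    exact sym_mem _ _
  | zero => simp
  | add a b _ _ ha hb => rw [map_add]; exact add_mem ha hb
  | smul c a _ ha => rw [map_smul]; exact Submodule.smul_mem _ _ ha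

lemma Na_stable (g : G) (w : V ⊗[ZMod 2] V) (hw : w ∈ Na V) : ρ.tprod ρ g w ∈ Na V := by
  unfold Na at hw
  induction hw using Submodule.span_induction with
  | mem w hw =>
    obtain ⟨x, rfl⟩ := hw
    simp only [tprod_tmul]
    exact sq_mem _
  | zero => simp
  | add a b _ _ ha hb => rw [map_add]; exact add_mem ha hb
  | smul c a _ ha => rw [map_smul]; exact Submodule.smul_mem _ _ ha

lemma rho_injective (g : G) : Function.Injective (ρ g) := by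
  intro x y h
  have := congrArg (ρ g⁻¹) h
  simpa [← Module.End.mul_apply, ← map_mul] using this


lemma zmod2_cases (c : ZMod 2) : c = 0 ∨ c = 1 := by
  revert c; decide

section dim2
variable (b : Module.Basis (Fin 2) (ZMod 2) V)

lemma elem_cases (x : V) : x = 0 ∨ x = b 0 ∨ x = b 1 ∨ x = b 0 + b 1 := by
  have hx : x = b.repr x 0 • b 0 + b.repr x 1 • b 1 := by
    conv_lhs => rw [← b.sum_repr x, Fin.sum_univ_two]
  rcases zmod2_cases (b.repr x 0) with h0 | h0 <;> rcases zmod2_cases (b.repr x 1) with h1 | h1 <;>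
    rw [h0, h1] at hx <;> simp at hx
  · exact Or.inl hx
  · exact Or.inr (Or.inr (Or.inl hx))
  · exact Or.inr (Or.inl hx)
  · exact Or.inr (Or.inr (Or.inr hx))

lemma qq_indep (x' y' : V) (hx : x' ≠ 0) (hy : y' ≠ 0) (hne : x' ≠ y') :
    qq x' y' - qq (b 0) (b 1) ∈ Ns V := by
  apply qq_rel _ _ _ _ _ _ hne
  · rcases elem_cases b x' with h | h | h | h
    · exact absurd h hx
    · exact Or.inl h
    · exact Or.inr (Or.inl h)
    · exact Or.inr (Or.inr h)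
  · rcases elem_cases b y' with h | h | h | h
    · exact absurd h hy
    · exact Or.inl h
    · exact Or.inr (Or.inl h)
    · exact Or.inr (Or.inr h)

/-- the alternating form in coordinates -/
noncomputable def altForm : V →ₗ[ZMod 2] V →ₗ[ZMod 2] ZMod 2 :=
  LinearMap.mk₂ (ZMod 2) (fun x y => b.repr x 0 * b.repr y 1 - b.repr x 1 * b.repr y 0)
    (by intro x x' y; simp; ring) (by intro c x y; simp; ring)
    (by intro x y y'; simp; ring) (by intro c x y; simp; ring)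

lemma altForm_apply (x y : V) :
    altForm b x y = b.repr x 0 * b.repr y 1 - b.repr x 1 * b.repr y 0 := rfl

lemma lift_altForm_Na (w : V ⊗[ZMod 2] V) (hw : w ∈ Na V) : TensorProduct.lift (altForm b) w = 0 := by
  unfold Na at hw
  induction hw using Submodule.span_induction with
  | mem w hw =>
    obtain ⟨x, rfl⟩ := hw
    simp only [TensorProduct.lift.tmul, altForm_apply]
    ring
  | zero => simp
  | add a c _ _ ha hc => rw [map_add, ha, hc, add_zero]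
  | smul c a _ ha => rw [map_smul, ha, smul_zero]

lemma lift_altForm_qq : TensorProduct.lift (altForm b) (qq (b 0) (b 1)) = 1 := by
  unfold qq
  simp [altForm_apply]

theorem main546 {G : Type u} [Group G] (hV : Module.finrank (ZMod 2) V = 2)
    (ρ : Representation (ZMod 2) G V) :
    ∃ W : Submodule (ZMod 2) (V ⊗[ZMod 2] V),
      (∀ g : G, ∀ w ∈ W, ρ.tprod ρ g w ∈ W) ∧
      W ⊓ Submodule.span (ZMod 2) (Set.range fun v : V => v ⊗ₜ[ZMod 2] v) =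
        Submodule.span (ZMod 2) (Set.range fun p : V × V => p.1 ⊗ₜ[ZMod 2] p.2 + p.2 ⊗ₜ[ZMod 2] p.1) ∧
      W ⊔ Submodule.span (ZMod 2) (Set.range fun v : V => v ⊗ₜ[ZMod 2] v) = ⊤ := by
  classical
  have : Module.Finite (ZMod 2) V := Module.finite_of_finrank_eq_succ hV
  let b : Module.Basis (Fin 2) (ZMod 2) V := Module.finBasisOfFinrankEq (ZMod 2) V hV
  have hb0 : b 0 ≠ 0 := b.ne_zero 0
  have hb1 : b 1 ≠ 0 := b.ne_zero 1
  have hb01 : b 0 ≠ b 1 := fun h => by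
    have := b.injective h
    simp at this
  set q := qq (b 0) (b 1) with hq
  refine ⟨Ns V ⊔ Submodule.span (ZMod 2) {q}, ?_, ?_, ?_⟩
  · intro g w hw
    rw [Submodule.mem_sup] at hw
    obtain ⟨s, hs, z, hz, rfl⟩ := hw
    rw [Submodule.mem_span_singleton] at hz
    obtain ⟨c, rfl⟩ := hz
    rw [map_add, map_smul]
    apply add_mem
    · exact Submodule.mem_sup_left (Ns_stable ρ g s hs)
    · apply Submodule.smul_mem
      rw [hq, tprod_qq]
      have h1 : ρ g (b 0) ≠ 0 := fun h => hb0 (rho_injective ρ g (by rw [h, map_zero]))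
      have h2 : ρ g (b 1) ≠ 0 := fun h => hb1 (rho_injective ρ g (by rw [h, map_zero]))
      have h3 : ρ g (b 0) ≠ ρ g (b 1) := fun h => hb01 (rho_injective ρ g h)
      have := qq_indep b _ _ h1 h2 h3
      have e : qq (ρ g (b 0)) (ρ g (b 1)) = (qq (ρ g (b 0)) (ρ g (b 1)) - qq (b 0) (b 1)) + q := by
        rw [hq]; abel
      rw [e]
      exact add_mem (Submodule.mem_sup_left this)
        (Submodule.mem_sup_right (Submodule.mem_span_singleton_self q))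
  · change (Ns V ⊔ Submodule.span (ZMod 2) {q}) ⊓ Na V = Ns V
    apply le_antisymm
    · rintro w ⟨hw1, hw2⟩
      rw [SetLike.mem_coe, Submodule.mem_sup] at hw1
      obtain ⟨s, hs, z, hz, rfl⟩ := hw1
      rw [Submodule.mem_span_singleton] at hz
      obtain ⟨c, rfl⟩ := hz
      rcases zmod2_cases c with rfl | rfl
      · simpa using hs
      · exfalso
        have h1 := lift_altForm_Na b _ hw2
        rw [map_add, lift_altForm_Na b s (Ns_le_Na hs), one_smul, lift_altForm_qq] at h1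
        simp at h1
    · exact le_inf le_sup_left Ns_le_Na
  · change (Ns V ⊔ Submodule.span (ZMod 2) {q}) ⊔ Na V = ⊤
    rw [eq_top_iff]
    intro w _
    have h00 : b 0 ⊗ₜ[ZMod 2] b 0 ∈ (Ns V ⊔ Submodule.span (ZMod 2) {q}) ⊔ Na V :=
      Submodule.mem_sup_right (sq_mem _)
    have h11 : b 1 ⊗ₜ[ZMod 2] b 1 ∈ (Ns V ⊔ Submodule.span (ZMod 2) {q}) ⊔ Na V :=
      Submodule.mem_sup_right (sq_mem _)
    have hqm : q ∈ (Ns V ⊔ Submodule.span (ZMod 2) {q}) ⊔ Na V :=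
      Submodule.mem_sup_left (Submodule.mem_sup_right (Submodule.mem_span_singleton_self q))
    have h01 : b 0 ⊗ₜ[ZMod 2] b 1 ∈ (Ns V ⊔ Submodule.span (ZMod 2) {q}) ⊔ Na V := by
      have e : b 0 ⊗ₜ[ZMod 2] b 1 = q - b 0 ⊗ₜ[ZMod 2] b 0 - b 1 ⊗ₜ[ZMod 2] b 1 := by
        rw [hq]; unfold qq; abel
      rw [e]
      exact sub_mem (sub_mem hqm h00) h11
    have h10 : b 1 ⊗ₜ[ZMod 2] b 0 ∈ (Ns V ⊔ Submodule.span (ZMod 2) {q}) ⊔ Na V := by
      have e : b 1 ⊗ₜ[ZMod 2] b 0 = (b 1 ⊗ₜ[ZMod 2] b 0 + b 0 ⊗ₜ[ZMod 2] b 1) - b 0 ⊗ₜ[ZMod 2] b 1 := by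
        abel
      rw [e]
      exact sub_mem (Submodule.mem_sup_left (Submodule.mem_sup_left (sym_mem _ _))) h01
    induction w using TensorProduct.induction_on with
    | zero => exact zero_mem _
    | tmul x y =>
      have hx : x = b.repr x 0 • b 0 + b.repr x 1 • b 1 := by
        conv_lhs => rw [← b.sum_repr x, Fin.sum_univ_two]
      have hy : y = b.repr y 0 • b 0 + b.repr y 1 • b 1 := by
        conv_lhs => rw [← b.sum_repr y, Fin.sum_univ_two]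
      rw [hx, hy]
      simp only [TensorProduct.add_tmul, TensorProduct.tmul_add, TensorProduct.smul_tmul_smul]
      refine add_mem (add_mem ?_ ?_) (add_mem ?_ ?_) <;> apply Submodule.smul_mem <;> assumption
    | add a c ha hc => exact add_mem (ha trivial) (hc trivial)

end dim2


section dim3
variable (b : Module.Basis (Fin 3) (ZMod 2) V)

/-- the alternating forms in coordinates -/
noncomputable def alt3 (i j : Fin 3) : V →ₗ[ZMod 2] V →ₗ[ZMod 2] ZMod 2 :=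
  LinearMap.mk₂ (ZMod 2) (fun x y => b.repr x i * b.repr y j - b.repr x j * b.repr y i)
    (by intro x x' y; simp; ring) (by intro c x y; simp; ring)
    (by intro x y y'; simp; ring) (by intro c x y; simp; ring)

lemma alt3_apply (i j : Fin 3) (x y : V) :
    alt3 b i j x y = b.repr x i * b.repr y j - b.repr x j * b.repr y i := rfl

/-- the functional on tensors -/
noncomputable def phi (i j : Fin 3) : V ⊗[ZMod 2] V →ₗ[ZMod 2] ZMod 2 := TensorProduct.lift (alt3 b i j)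

lemma phi_tmul (i j : Fin 3) (x y : V) :
    phi b i j (x ⊗ₜ[ZMod 2] y) = b.repr x i * b.repr y j - b.repr x j * b.repr y i := by
  simp [phi, alt3_apply]

lemma phi_Na (i j : Fin 3) (w : V ⊗[ZMod 2] V) (hw : w ∈ Na V) : phi b i j w = 0 := by
  unfold Na at hw
  induction hw using Submodule.span_induction with
  | mem w hw =>
    obtain ⟨x, rfl⟩ := hw
    rw [phi_tmul]; ring
  | zero => simp
  | add a c _ _ ha hc => rw [map_add, ha, hc, add_zero]
  | smul c a _ ha => rw [map_smul, ha, smul_zero]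

lemma expand3 (x : V) : x = b.repr x 0 • b 0 + b.repr x 1 • b 1 + b.repr x 2 • b 2 := by
  conv_lhs => rw [← b.sum_repr x, Fin.sum_univ_three]

lemma normal_form (w : V ⊗[ZMod 2] V) :
    w - (phi b 0 1 w • (b 0 ⊗ₜ[ZMod 2] b 1) + phi b 0 2 w • (b 0 ⊗ₜ[ZMod 2] b 2) +
      phi b 1 2 w • (b 1 ⊗ₜ[ZMod 2] b 2)) ∈ Na V := by
  induction w using TensorProduct.induction_on with
  | zero => simp
  | tmul x y =>
    rw [phi_tmul, phi_tmul, phi_tmul]
    set x0 := b.repr x 0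
    set x1 := b.repr x 1
    set x2 := b.repr x 2
    set y0 := b.repr y 0
    set y1 := b.repr y 1
    set y2 := b.repr y 2
    have e : x ⊗ₜ[ZMod 2] y - ((x0 * y1 - x1 * y0) • (b 0 ⊗ₜ[ZMod 2] b 1) +
        (x0 * y2 - x2 * y0) • (b 0 ⊗ₜ[ZMod 2] b 2) + (x1 * y2 - x2 * y1) • (b 1 ⊗ₜ[ZMod 2] b 2)) =
      (x0 * y0) • (b 0 ⊗ₜ[ZMod 2] b 0) + (x1 * y1) • (b 1 ⊗ₜ[ZMod 2] b 1) +
        (x2 * y2) • (b 2 ⊗ₜ[ZMod 2] b 2) +
        (x1 * y0) • (b 1 ⊗ₜ[ZMod 2] b 0 + b 0 ⊗ₜ[ZMod 2] b 1) +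
        (x2 * y0) • (b 2 ⊗ₜ[ZMod 2] b 0 + b 0 ⊗ₜ[ZMod 2] b 2) +
        (x2 * y1) • (b 2 ⊗ₜ[ZMod 2] b 1 + b 1 ⊗ₜ[ZMod 2] b 2) := by
      conv_lhs => rw [expand3 b x, expand3 b y]
      simp only [TensorProduct.add_tmul, TensorProduct.tmul_add, TensorProduct.smul_tmul_smul]
      module
    rw [e]
    refine add_mem (add_mem (add_mem (add_mem (add_mem ?_ ?_) ?_) ?_) ?_) ?_ <;>
      apply Submodule.smul_mem
    · exact sq_mem _
    · exact sq_mem _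
    · exact sq_mem _
    · exact Ns_le_Na (sym_mem _ _)
    · exact Ns_le_Na (sym_mem _ _)
    · exact Ns_le_Na (sym_mem _ _)
  | add a c ha hc =>
    have := add_mem ha hc
    convert this using 1
    simp only [map_add, add_smul]
    abel

lemma mem_Na_of_phi (w : V ⊗[ZMod 2] V) (h01 : phi b 0 1 w = 0) (h02 : phi b 0 2 w = 0)
    (h12 : phi b 1 2 w = 0) : w ∈ Na V := by
  have := normal_form b w
  rwa [h01, h02, h12, zero_smul, zero_smul, zero_smul, add_zero, add_zero, sub_zero] at this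

lemma eq_of_coords (u w : V) (h0 : b.repr u 0 = b.repr w 0) (h1 : b.repr u 1 = b.repr w 1)
    (h2 : b.repr u 2 = b.repr w 2) : u = w := by
  apply b.ext_elem
  intro i
  fin_cases i
  · exact h0
  · exact h1
  · exact h2

lemma repr_mk0 (a0 a1 a2 : ZMod 2) : b.repr (a0 • b 0 + a1 • b 1 + a2 • b 2) 0 = a0 := by
  simp [Finsupp.single_apply]

lemma repr_mk1 (a0 a1 a2 : ZMod 2) : b.repr (a0 • b 0 + a1 • b 1 + a2 • b 2) 1 = a1 := by
  simp [Finsupp.single_apply]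

lemma repr_mk2 (a0 a1 a2 : ZMod 2) : b.repr (a0 • b 0 + a1 • b 1 + a2 • b 2) 2 = a2 := by
  simp [Finsupp.single_apply]

set_option maxRecDepth 100000 in
lemma dec1 : ∀ c12 c13 c23 : ZMod 2, ¬ (c12 = 0 ∧ c13 = 0 ∧ c23 = 0) →
    ∃ x1 x2 x3 y1 y2 y3 : ZMod 2, x1*y2 - x2*y1 = c12 ∧ x1*y3 - x3*y1 = c13 ∧ x2*y3 - x3*y2 = c23 := by
  decide

set_option maxRecDepth 1000000 in
set_option synthInstance.maxSize 100000 in
set_option synthInstance.maxHeartbeats 0 in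
lemma decA : ∀ x1 x2 x3 y1 y2 y3 z1 z2 z3 : ZMod 2,
    ¬ (x1*y2 - x2*y1 = 0 ∧ x1*y3 - x3*y1 = 0 ∧ x2*y3 - x3*y2 = 0) →
    z1*(x2*y3 - x3*y2) - z2*(x1*y3 - x3*y1) + z3*(x1*y2 - x2*y1) = 0 →
    ((z1 = 0 ∧ z2 = 0 ∧ z3 = 0) ∨ (z1 = x1 ∧ z2 = x2 ∧ z3 = x3) ∨ (z1 = y1 ∧ z2 = y2 ∧ z3 = y3) ∨
      (z1 = x1 + y1 ∧ z2 = x2 + y2 ∧ z3 = x3 + y3)) := by
  decide

/-- vectors with the same cross product as `x, y` lie in `{x, y, x+y}` -/
lemma in_plane (x y z w : V)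
    (hc : ¬ (phi b 0 1 (x ⊗ₜ[ZMod 2] y) = 0 ∧ phi b 0 2 (x ⊗ₜ[ZMod 2] y) = 0 ∧
      phi b 1 2 (x ⊗ₜ[ZMod 2] y) = 0))
    (h01 : phi b 0 1 (z ⊗ₜ[ZMod 2] w) = phi b 0 1 (x ⊗ₜ[ZMod 2] y))
    (h02 : phi b 0 2 (z ⊗ₜ[ZMod 2] w) = phi b 0 2 (x ⊗ₜ[ZMod 2] y))
    (h12 : phi b 1 2 (z ⊗ₜ[ZMod 2] w) = phi b 1 2 (x ⊗ₜ[ZMod 2] y)) :
    (z = x ∨ z = y ∨ z = x + y) ∧ (w = x ∨ w = y ∨ w = x + y) ∧ z ≠ w := by
  simp only [phi_tmul] at hc h01 h02 h12
  have hz : b.repr z 0 * (b.repr x 1 * b.repr y 2 - b.repr x 2 * b.repr y 1) -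
      b.repr z 1 * (b.repr x 0 * b.repr y 2 - b.repr x 2 * b.repr y 0) +
      b.repr z 2 * (b.repr x 0 * b.repr y 1 - b.repr x 1 * b.repr y 0) = 0 := by
    rw [← h01, ← h02, ← h12]; ring
  have hw : b.repr w 0 * (b.repr x 1 * b.repr y 2 - b.repr x 2 * b.repr y 1) -
      b.repr w 1 * (b.repr x 0 * b.repr y 2 - b.repr x 2 * b.repr y 0) +
      b.repr w 2 * (b.repr x 0 * b.repr y 1 - b.repr x 1 * b.repr y 0) = 0 := by
    rw [← h01, ← h02, ← h12]; ring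
  have hz' := decA _ _ _ _ _ _ _ _ _ hc hz
  have hw' := decA _ _ _ _ _ _ _ _ _ hc hw
  refine ⟨?_, ?_, ?_⟩
  · rcases hz' with ⟨e0, e1, e2⟩ | ⟨e0, e1, e2⟩ | ⟨e0, e1, e2⟩ | ⟨e0, e1, e2⟩
    · exfalso; apply hc
      rw [← h01, ← h02, ← h12, e0, e1, e2]; simp
    · exact Or.inl (eq_of_coords b _ _ e0 e1 e2)
    · exact Or.inr (Or.inl (eq_of_coords b _ _ e0 e1 e2))
    · refine Or.inr (Or.inr (eq_of_coords b _ _ ?_ ?_ ?_)) <;> simp [e0, e1, e2]
  · rcases hw' with ⟨e0, e1, e2⟩ | ⟨e0, e1, e2⟩ | ⟨e0, e1, e2⟩ | ⟨e0, e1, e2⟩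
    · exfalso; apply hc
      rw [← h01, ← h02, ← h12, e0, e1, e2]; simp
    · exact Or.inl (eq_of_coords b _ _ e0 e1 e2)
    · exact Or.inr (Or.inl (eq_of_coords b _ _ e0 e1 e2))
    · refine Or.inr (Or.inr (eq_of_coords b _ _ ?_ ?_ ?_)) <;> simp [e0, e1, e2]
  · rintro rfl
    apply hc
    rw [← h01, ← h02, ← h12]
    refine ⟨by ring, by ring, by ring⟩

end dim3

theorem main547 {G : Type u} [Group G] (hV : Module.finrank (ZMod 2) V = 3)
    (ρ : Representation (ZMod 2) G V) (t : V ⊗[ZMod 2] V)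
    (ht : ∀ g : G, ρ.tprod ρ g t - t ∈ Submodule.span (ZMod 2) (Set.range fun v : V => v ⊗ₜ[ZMod 2] v)) :
    ∃ t' : V ⊗[ZMod 2] V, t' - t ∈ Submodule.span (ZMod 2) (Set.range fun v : V => v ⊗ₜ[ZMod 2] v) ∧
      ∀ g : G, ρ.tprod ρ g t' - t' ∈
        Submodule.span (ZMod 2) (Set.range fun p : V × V => p.1 ⊗ₜ[ZMod 2] p.2 + p.2 ⊗ₜ[ZMod 2] p.1) := by
  classical
  have : Module.Finite (ZMod 2) V := Module.finite_of_finrank_eq_succ hV
  let b : Module.Basis (Fin 3) (ZMod 2) V := Module.finBasisOfFinrankEq (ZMod 2) V hV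
  change ∃ t' : V ⊗[ZMod 2] V, t' - t ∈ Na V ∧ ∀ g : G, ρ.tprod ρ g t' - t' ∈ Ns V
  have ht' : ∀ g : G, ρ.tprod ρ g t - t ∈ Na V := ht
  by_cases hc : phi b 0 1 t = 0 ∧ phi b 0 2 t = 0 ∧ phi b 1 2 t = 0
  · refine ⟨0, ?_, ?_⟩
    · rw [zero_sub]; exact neg_mem (mem_Na_of_phi b t hc.1 hc.2.1 hc.2.2)
    · intro g; simp
  · obtain ⟨x1, x2, x3, y1, y2, y3, e01, e02, e12⟩ := dec1 _ _ _ hc
    set x : V := x1 • b 0 + x2 • b 1 + x3 • b 2 with hx
    set y : V := y1 • b 0 + y2 • b 1 + y3 • b 2 with hy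
    have p01 : phi b 0 1 (x ⊗ₜ[ZMod 2] y) = phi b 0 1 t := by
      rw [phi_tmul, hx, hy, repr_mk0, repr_mk1, repr_mk0, repr_mk1, e01]
    have p02 : phi b 0 2 (x ⊗ₜ[ZMod 2] y) = phi b 0 2 t := by
      rw [phi_tmul, hx, hy, repr_mk0, repr_mk2, repr_mk0, repr_mk2, e02]
    have p12 : phi b 1 2 (x ⊗ₜ[ZMod 2] y) = phi b 1 2 t := by
      rw [phi_tmul, hx, hy, repr_mk1, repr_mk2, repr_mk1, repr_mk2, e12]
    have hxy : t - x ⊗ₜ[ZMod 2] y ∈ Na V := by
      apply mem_Na_of_phi b <;> rw [map_sub] <;> simp [p01, p02, p12]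
    have hc' : ¬ (phi b 0 1 (x ⊗ₜ[ZMod 2] y) = 0 ∧ phi b 0 2 (x ⊗ₜ[ZMod 2] y) = 0 ∧
        phi b 1 2 (x ⊗ₜ[ZMod 2] y) = 0) := by
      rw [p01, p02, p12]; exact hc
    refine ⟨qq x y, ?_, ?_⟩
    · have e : qq x y - t = x ⊗ₜ[ZMod 2] x + y ⊗ₜ[ZMod 2] y - (t - x ⊗ₜ[ZMod 2] y) := by
        unfold qq; abel
      rw [e]
      exact sub_mem (add_mem (sq_mem _) (sq_mem _)) hxy
    · intro g
      rw [tprod_qq]
      have h1 : ρ g x ⊗ₜ[ZMod 2] ρ g y - x ⊗ₜ[ZMod 2] y ∈ Na V := by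
        have h2 := Na_stable ρ g _ hxy
        rw [map_sub, tprod_tmul] at h2
        have e : ρ g x ⊗ₜ[ZMod 2] ρ g y - x ⊗ₜ[ZMod 2] y =
            (ρ.tprod ρ g t - t) - (ρ.tprod ρ g t - ρ g x ⊗ₜ[ZMod 2] ρ g y) + (t - x ⊗ₜ[ZMod 2] y) := by
          abel
        rw [e]
        exact add_mem (sub_mem (ht' g) h2) hxy
      have q01 := phi_Na b 0 1 _ h1
      have q02 := phi_Na b 0 2 _ h1
      have q12 := phi_Na b 1 2 _ h1
      rw [map_sub, sub_eq_zero] at q01 q02 q12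
      obtain ⟨hz, hw, hne⟩ := in_plane b x y (ρ g x) (ρ g y) hc' q01 q02 q12
      exact qq_rel x y _ _ hz hw hne

end Groth.Agent.Helper27.GC
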