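import Mathlib
import Groth.Prelude.Def_Neron
import Groth.Prelude.Def_Red

set_option autoImplicit false
universe u

open CategoryTheory CategoryTheory.Limits AlgebraicGeometry

namespace Groth.Agent.Helper27.GF

/-- two `S`-morphisms to a separated `S`-scheme agreeing after a scheme-theoretically dominant map are equal -/
lemma ext_of_schDominant {S : Scheme.{u}} {X Y : Over S} [IsSeparated Y.hom] (f g : X ⟶ Y)
    {W : Scheme.{u}} (ι : W ⟶ X.left) [IsSchemeTheoreticallyDominant ι]
    (hU : ι ≫ f.left = ι ≫ g.left) : f = g := by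
  let U' : Over S := Over.mk (ι ≫ X.hom)
  let ι' : U' ⟶ X := Over.homMk ι
  have hι : ι' ≫ f = ι' ≫ g := by
    ext1; exact hU
  have hfac : (equalizer.lift ι' hι).left ≫ (equalizer.ι f g).left = ι := by
    rw [← Over.comp_left, equalizer.lift_ι]; rfl
  have hker : (equalizer.ι f g).left.ker = ⊥ := by
    have := Scheme.Hom.le_ker_comp (equalizer.lift ι' hι).left (equalizer.ι f g).left
    rw [hfac, IsSchemeTheoreticallyDominant.ker_eq_bot ι] at this
    exact le_bot_iff.mp this
  have : IsIso (equalizer.ι f g).left := IsClosedImmersion.isIso_iff_ker_eq_bot.mpr hker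
  ext1
  rw [← cancel_epi (equalizer.ι f g).left]
  exact congr($(equalizer.condition f g).left)

theorem main498 (R : Type u) [CommRing R] [IsDomain R]
    (X Y : Over (Spec (CommRingCat.of R))) [Flat X.hom] [IsSeparated Y.hom] (f g : X ⟶ Y)
    (h : (Neron.genericFibre R).map f = (Neron.genericFibre R).map g) : f = g := by
  have hdom : IsDominant (Neron.genPt R) := by
    rw [isDominant_iff]
    have hk : RingHom.ker (algebraMap R (FractionRing R)) ≤ nilradical R := by
      rw [(RingHom.injective_iff_ker_eq_bot _).mp (IsFractionRing.injective R (FractionRing R))]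
      exact bot_le
    exact (PrimeSpectrum.denseRange_comap_iff_ker_le_nilRadical _).mpr hk
  have : IsSchemeTheoreticallyDominant (Neron.genPt R) := .of_isDominant _
  have : IsSchemeTheoreticallyDominant (pullback.fst X.hom (Neron.genPt R)) := inferInstance
  apply ext_of_schDominant f g (pullback.fst X.hom (Neron.genPt R))
  have h1 := congrArg (fun φ => φ.left ≫ pullback.fst Y.hom (Neron.genPt R)) h
  simp only [Over.pullback_map_left] at h1
  rw [pullback.lift_fst, pullback.lift_fst] at h1
  exact h1


open MonoidalCategory CartesianMonoidalCategory MonObj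

lemma ext_of_bc {S S' : Scheme.{u}} (j : S' ⟶ S) [IsSchemeTheoreticallyDominant j] [QuasiCompact j]
    {X Y : Over S} [Flat X.hom] [IsSeparated Y.hom] (f g : X ⟶ Y)
    (h : (Over.pullback j).map f = (Over.pullback j).map g) : f = g := by
  have : IsSchemeTheoreticallyDominant (pullback.fst X.hom j) := inferInstance
  apply ext_of_schDominant f g (pullback.fst X.hom j)
  have h1 := congrArg (fun φ => φ.left ≫ pullback.fst Y.hom j) h
  simp only [Over.pullback_map_left] at h1
  rw [pullback.lift_fst, pullback.lift_fst] at h1
  exact h1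

instance flat_tensor {S : Scheme.{u}} (X Y : Over S) [Flat X.hom] [Flat Y.hom] : Flat (X ⊗ Y).hom := by
  rw [Over.tensorObj_hom]
  infer_instance

theorem comm_of_generic {S S' : Scheme.{u}} (j : S' ⟶ S) [IsSchemeTheoreticallyDominant j] [QuasiCompact j]
    (G : Over S) [GrpObj G] [Flat G.hom] [IsSeparated G.hom] [IsCommMonObj (Red.bc j G)] :
    IsCommMonObj G := by
  constructor
  apply ext_of_bc j
  have hc := IsCommMonObj.mul_comm (Red.bc j G)
  rw [← cancel_epi (Functor.LaxMonoidal.μ (Over.pullback j) G G)]
  rw [Functor.map_comp, Functor.LaxBraided.braided_assoc]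
  exact hc


lemma schDominant_specMap_of_injective {A K : Type u} [CommRing A] [IsDomain A] [CommRing K]
    (φ : A →+* K) (hφ : Function.Injective φ) :
    IsSchemeTheoreticallyDominant (Spec.map (CommRingCat.ofHom φ)) := by
  have hdom : IsDominant (Spec.map (CommRingCat.ofHom φ)) := by
    rw [isDominant_iff]
    have hk : RingHom.ker φ ≤ nilradical A := by
      rw [(RingHom.injective_iff_ker_eq_bot _).mp hφ]
      exact bot_le
    exact (PrimeSpectrum.denseRange_comap_iff_ker_le_nilRadical _).mpr hk
  exact .of_isDominant _

theorem main063 (A : Type u) [CommRing A] [IsDomain A]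
    (K : Type u) [Field K] [Algebra A K] [IsFractionRing A K] {S' : Scheme.{u}} (k : S' ⟶ Spec (CommRingCat.of A))
    (G : Over (Spec (CommRingCat.of A))) [GrpObj G] [Flat G.hom]
    [IsSeparated G.hom] [IsCommMonObj (Red.bc (Spec.map (CommRingCat.ofHom (algebraMap A K))) G)] :
    IsCommMonObj (Red.bc k G) := by
  have := schDominant_specMap_of_injective (algebraMap A K) (IsFractionRing.injective A K)
  have : IsCommMonObj G := comm_of_generic (Spec.map (CommRingCat.ofHom (algebraMap A K))) G
  exact Functor.isCommMonObj_obj

end Groth.Agent.Helper27.GF
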