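import Mathlib

/-!
# Graded prime avoidance and homogeneity of minimal primes (for S15723)
-/

namespace Groth.Agent.Helper27.Gh

open DirectSum SetLike

variable {R A : Type*} [CommRing R] [CommRing A] [Algebra R A]
  (𝒜 : ℕ → Submodule R A) [GradedRing 𝒜]

/-- A homogeneous ideal not contained in `q` has a homogeneous element outside `q`. -/
theorem exists_homogeneous_not_mem {𝔞 : Ideal A} (h𝔞 : 𝔞.IsHomogeneous 𝒜) {q : Ideal A}
    (h : ¬ 𝔞 ≤ q) : ∃ (i : ℕ) (a : A), a ∈ 𝒜 i ∧ a ∈ 𝔞 ∧ a ∉ q := by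
  classical
  obtain ⟨a, ha, haq⟩ := SetLike.not_le_iff_exists.mp h
  by_contra hcon
  push_neg at hcon
  apply haq
  rw [← DirectSum.sum_support_decompose 𝒜 a]
  exact Ideal.sum_mem _ (fun i _ => hcon i _ (SetLike.coe_mem _) (h𝔞 i ha))

/-- The irrelevant ideal not contained in `q`: a homogeneous element of positive degree
outside `q`. -/
theorem exists_pos_homogeneous_not_mem {q : Ideal A}
    (h : ¬ (HomogeneousIdeal.irrelevant 𝒜).toIdeal ≤ q) :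
    ∃ (i : ℕ) (b : A), 0 < i ∧ b ∈ 𝒜 i ∧ b ∉ q := by
  rw [HomogeneousIdeal.toIdeal_irrelevant_le] at h
  push_neg at h
  obtain ⟨i, hi, hle⟩ := h
  obtain ⟨b, hb, hbq⟩ := SetLike.not_le_iff_exists.mp hle
  exact ⟨i, b, hi, hb, hbq⟩

/-- Graded prime avoidance for one prime. -/
theorem avoid_one {𝔞 : Ideal A} (h𝔞 : 𝔞.IsHomogeneous 𝒜) {q : Ideal A} (hq : q.IsPrime)
    (h1 : ¬ 𝔞 ≤ q) (h2 : ¬ (HomogeneousIdeal.irrelevant 𝒜).toIdeal ≤ q) :
    ∃ z : A, (∃ n : ℕ, 0 < n ∧ z ∈ 𝒜 n) ∧ z ∈ 𝔞 ∧ z ∉ q := by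
  obtain ⟨i, a, hai, ha, haq⟩ := exists_homogeneous_not_mem 𝒜 h𝔞 h1
  obtain ⟨k, b, hk, hbk, hbq⟩ := exists_pos_homogeneous_not_mem 𝒜 h2
  refine ⟨a * b, ⟨i + k, by omega, SetLike.mul_mem_graded hai hbk⟩,
    Ideal.mul_mem_right _ _ ha, ?_⟩
  intro hab
  rcases hq.mem_or_mem hab with h | h
  exacts [haq h, hbq h]

/-- **Graded prime avoidance** (primes need not be homogeneous). -/
theorem graded_prime_avoidance {𝔞 : Ideal A} (h𝔞 : 𝔞.IsHomogeneous 𝒜) :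
    ∀ (S : Finset (Ideal A)),
      (∀ q ∈ S, q.IsPrime ∧ ¬ 𝔞 ≤ q ∧ ¬ (HomogeneousIdeal.irrelevant 𝒜).toIdeal ≤ q) →
      ∃ z : A, (∃ n : ℕ, 0 < n ∧ z ∈ 𝒜 n) ∧ z ∈ 𝔞 ∧ ∀ q ∈ S, z ∉ q := by
  classical
  intro S
  induction S using Finset.strongInduction with
  | H S IH =>
    intro hS
    by_cases hS0 : S = ∅
    · subst hS0
      exact ⟨0, ⟨1, one_pos, zero_mem _⟩, zero_mem _, by simp⟩
    have key : ∀ q : Ideal A, ∃ z : A, ∃ n : ℕ, q ∈ S →
        (0 < n ∧ z ∈ 𝒜 n ∧ z ∈ 𝔞 ∧ ∀ p ∈ S.erase q, z ∉ p) := by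
      intro q
      by_cases hq : q ∈ S
      · obtain ⟨z, ⟨n, hn, hz⟩, hza, hzp⟩ := IH (S.erase q) (Finset.erase_ssubset hq)
          (fun p hp => hS p (Finset.mem_of_mem_erase hp))
        exact ⟨z, n, fun _ => ⟨hn, hz, hza, hzp⟩⟩
      · exact ⟨0, 0, fun h => absurd h hq⟩
    choose x d hx using key
    by_cases hex : ∃ q ∈ S, x q ∉ q
    · obtain ⟨q, hq, hxq⟩ := hex
      obtain ⟨hn, hz, hza, hzp⟩ := hx q hq
      refine ⟨x q, ⟨d q, hn, hz⟩, hza, fun p hp => ?_⟩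
      by_cases hpq : p = q
      · subst hpq; exact hxq
      · exact hzp p (Finset.mem_erase.mpr ⟨hpq, hp⟩)
    push_neg at hex
    obtain ⟨q₁, hq₁⟩ := Finset.nonempty_iff_ne_empty.mpr hS0
    by_cases hS1 : S.erase q₁ = ∅
    · obtain ⟨hq₁p, h1, h2⟩ := hS q₁ hq₁
      obtain ⟨z, hzn, hza, hzq⟩ := avoid_one 𝒜 h𝔞 hq₁p h1 h2
      refine ⟨z, hzn, hza, fun p hp => ?_⟩
      by_cases hpq : p = q₁
      · subst hpq; exact hzq
      · exfalso
        have : p ∈ S.erase q₁ := Finset.mem_erase.mpr ⟨hpq, hp⟩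
        rw [hS1] at this
        exact absurd this (Finset.notMem_empty _)
    · have hne : (S.erase q₁).Nonempty := Finset.nonempty_iff_ne_empty.mpr hS1
      set y := ∏ p ∈ S.erase q₁, x p with hy_def
      set D := ∑ p ∈ S.erase q₁, d p with hD_def
      have hy : y ∈ 𝒜 D := SetLike.prod_mem_graded 𝒜 d x
        (fun p hp => (hx p (Finset.mem_of_mem_erase hp)).2.1)
      have hD : 0 < D := Finset.sum_pos (fun p hp => (hx p (Finset.mem_of_mem_erase hp)).1) hne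
      obtain ⟨hd₁, hx₁, hx₁a, hx₁p⟩ := hx q₁ hq₁
      obtain ⟨p₀, hp₀⟩ := hne
      have hya : y ∈ 𝔞 := by
        rw [hy_def, ← Finset.mul_prod_erase _ _ hp₀]
        exact Ideal.mul_mem_right _ _ (hx p₀ (Finset.mem_of_mem_erase hp₀)).2.2.1
      have hq₁p : q₁.IsPrime := (hS q₁ hq₁).1
      have hyq₁ : y ∉ q₁ := by
        intro hyq
        rw [hy_def, hq₁p.prod_mem_iff] at hyq
        obtain ⟨p, hp, hxp⟩ := hyq
        exact (hx p (Finset.mem_of_mem_erase hp)).2.2.2 q₁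
          (Finset.mem_erase.mpr ⟨(Finset.ne_of_mem_erase hp).symm, hq₁⟩) hxp
      have hyp : ∀ p ∈ S.erase q₁, y ∈ p := by
        intro p hp
        rw [hy_def, ← Finset.mul_prod_erase _ _ hp]
        exact Ideal.mul_mem_right _ _ (hex p (Finset.mem_of_mem_erase hp))
      refine ⟨x q₁ ^ D + y ^ d q₁, ⟨D * d q₁, Nat.mul_pos hD hd₁, ?_⟩, ?_, ?_⟩
      · refine add_mem ?_ ?_
        · have := SetLike.pow_mem_graded D hx₁
          simpa [smul_eq_mul] using this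
        · have := SetLike.pow_mem_graded (d q₁) hy
          simpa [smul_eq_mul, mul_comm] using this
      · exact add_mem (Ideal.pow_mem_of_mem _ hx₁a _ hD) (Ideal.pow_mem_of_mem _ hya _ hd₁)
      · intro p hp hmem
        by_cases hpq : p = q₁
        · subst hpq
          have h1 : x p ^ D ∈ p := Ideal.pow_mem_of_mem _ (hex p hq₁) _ hD
          have h2 : y ^ d p ∈ p := (Ideal.add_mem_iff_right _ h1).mp hmem
          exact hyq₁ (hq₁p.mem_of_pow_mem _ h2)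
        · have hp' : p ∈ S.erase q₁ := Finset.mem_erase.mpr ⟨hpq, hp⟩
          have hpp : p.IsPrime := (hS p hp).1
          have h2 : y ^ d q₁ ∈ p := Ideal.pow_mem_of_mem _ (hyp p hp') _ hd₁
          have h1 : x q₁ ^ D ∈ p := (Ideal.add_mem_iff_left _ h2).mp hmem
          exact hx₁p p hp' (hpp.mem_of_pow_mem _ h1)

/-- Minimal primes over a homogeneous ideal are homogeneous. -/
theorem isHomogeneous_of_mem_minimalPrimes {I : Ideal A} (hI : I.IsHomogeneous 𝒜) {𝔓 : Ideal A}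
    (h𝔓 : 𝔓 ∈ I.minimalPrimes) : 𝔓.IsHomogeneous 𝒜 := by
  have hp : 𝔓.IsPrime := h𝔓.1.1
  have hcore : (𝔓.homogeneousCore 𝒜).toIdeal.IsPrime := hp.homogeneousCore
  have hle : (𝔓.homogeneousCore 𝒜).toIdeal ≤ 𝔓 := Ideal.toIdeal_homogeneousCore_le 𝒜 𝔓
  have hIle : I ≤ (𝔓.homogeneousCore 𝒜).toIdeal := by
    rw [← hI.toIdeal_homogeneousCore_eq_self]
    exact Ideal.homogeneousCore_mono 𝒜 h𝔓.1.2
  have : 𝔓 ≤ (𝔓.homogeneousCore 𝒜).toIdeal := h𝔓.2 ⟨hcore, hIle⟩ hle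
  have heq : (𝔓.homogeneousCore 𝒜).toIdeal = 𝔓 := le_antisymm hle this
  rw [← heq]
  exact (𝔓.homogeneousCore 𝒜).isHomogeneous

end Groth.Agent.Helper27.Gh
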