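import Mathlib
import Groth.Prelude.Def_W4c2ratsingkovacsGH

/-!
# Homogeneous localisation of ideals and the chart correspondence (for S15723)
-/

namespace Groth.Agent.Helper27.Gh

open W4c2ratsingkovacs HomogeneousLocalization
open AlgebraicGeometry.ProjIsoSpecTopComponent

variable {R A : Type*} [CommRing R] [CommRing A] [Algebra R A]
  (𝒜 : ℕ → Submodule R A) [GradedRing 𝒜]

theorem locIdeal_mono {I J : Ideal A} (h : I ≤ J) (f : A) :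
    locIdeal 𝒜 I f ≤ locIdeal 𝒜 J f :=
  Ideal.comap_mono (Ideal.map_mono h)

theorem mk_mem_locIdeal_of_num_mem {I : Ideal A} {f : A}
    (z : NumDenSameDeg 𝒜 (.powers f)) (h : z.num.1 ∈ I) :
    HomogeneousLocalization.mk z ∈ locIdeal 𝒜 I f := by
  rw [locIdeal, Ideal.mem_comap, HomogeneousLocalization.algebraMap_apply,
    HomogeneousLocalization.val_mk, Localization.mk_eq_mk', IsLocalization.mk'_eq_mul_mk'_one]
  exact Ideal.mul_mem_right _ _ (Ideal.mem_map_of_mem _ h)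

theorem mk_mem_locIdeal_iff_of_isPrime {𝔓 : Ideal A} [h𝔓 : 𝔓.IsPrime] {f : A} (hf : f ∉ 𝔓)
    (z : NumDenSameDeg 𝒜 (.powers f)) :
    HomogeneousLocalization.mk z ∈ locIdeal 𝒜 𝔓 f ↔ z.num.1 ∈ 𝔓 := by
  rw [locIdeal, Ideal.mem_comap, HomogeneousLocalization.algebraMap_apply,
    HomogeneousLocalization.val_mk, Localization.mk_eq_mk', IsLocalization.mk'_eq_mul_mk'_one,
    mul_comm, Ideal.unit_mul_mem_iff_mem, ← Ideal.mem_under,
    IsLocalization.under_map_of_isPrime_disjoint (.powers f)]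
  · infer_instance
  · exact (Ideal.disjoint_powers_iff_notMem_of_isPrime _).mpr hf
  · exact isUnit_of_invertible _

theorem locIdeal_isPrime {𝔓 : Ideal A} [h𝔓 : 𝔓.IsPrime] {f : A} (hf : f ∉ 𝔓) :
    (locIdeal 𝒜 𝔓 f).IsPrime := by
  refine Ideal.IsPrime.comap _ (hK := ?_)
  exact IsLocalization.isPrime_of_isPrime_disjoint (Submonoid.powers f) _ _ inferInstance
    ((Ideal.disjoint_powers_iff_notMem_of_isPrime _).mpr hf)

variable {𝒜}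
variable {f : A} {m : ℕ} (f_deg : f ∈ 𝒜 m) (hm : 0 < m)

/-- The homogeneous prime of `A` corresponding to a prime of `A_(f)`. -/
def gIdeal (Q : PrimeSpectrum (Away 𝒜 f)) : Ideal A :=
  FromSpec.carrier.asIdeal f_deg hm Q

theorem gIdeal_isPrime (Q : PrimeSpectrum (Away 𝒜 f)) : (gIdeal f_deg hm Q).IsPrime :=
  FromSpec.carrier.asIdeal.prime f_deg hm Q

theorem gIdeal_isHomogeneous (Q : PrimeSpectrum (Away 𝒜 f)) :
    (gIdeal f_deg hm Q).IsHomogeneous 𝒜 :=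
  FromSpec.carrier.asIdeal.homogeneous f_deg hm Q

theorem not_mem_gIdeal (Q : PrimeSpectrum (Away 𝒜 f)) : f ∉ gIdeal f_deg hm Q :=
  FromSpec.carrier.denom_notMem f_deg hm Q

theorem num_mem_gIdeal_iff (Q : PrimeSpectrum (Away 𝒜 f))
    (z : NumDenSameDeg 𝒜 (.powers f)) :
    z.num.1 ∈ gIdeal f_deg hm Q ↔ HomogeneousLocalization.mk z ∈ Q.asIdeal :=
  FromSpec.num_mem_carrier_iff f_deg hm Q z

theorem mem_gIdeal_iff_of_mem (Q : PrimeSpectrum (Away 𝒜 f)) (a : A) {n : ℕ} (hn : a ∈ 𝒜 n) :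
    a ∈ gIdeal f_deg hm Q ↔
      (HomogeneousLocalization.mk ⟨m * n, ⟨a ^ m, SetLike.pow_mem_graded m hn⟩,
        ⟨f ^ n, by rw [mul_comm]; exact SetLike.pow_mem_graded n f_deg⟩, ⟨_, rfl⟩⟩ :
          Away 𝒜 f) ∈ Q.asIdeal :=
  FromSpec.mem_carrier_iff_of_mem f_deg hm Q a hn

/-- L3: `locIdeal (g Q) f = Q`. -/
theorem locIdeal_gIdeal (Q : PrimeSpectrum (Away 𝒜 f)) :
    locIdeal 𝒜 (gIdeal f_deg hm Q) f = Q.asIdeal := by
  have := gIdeal_isPrime f_deg hm Q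
  ext z
  obtain ⟨z, rfl⟩ := HomogeneousLocalization.mk_surjective z
  rw [mk_mem_locIdeal_iff_of_isPrime 𝒜 (not_mem_gIdeal f_deg hm Q), num_mem_gIdeal_iff]

/-- L4: for homogeneous `I`, `I ≤ g Q ↔ locIdeal I f ≤ Q`. -/
theorem le_gIdeal_iff {I : Ideal A} (hI : I.IsHomogeneous 𝒜) (Q : PrimeSpectrum (Away 𝒜 f)) :
    I ≤ gIdeal f_deg hm Q ↔ locIdeal 𝒜 I f ≤ Q.asIdeal := by
  classical
  constructor
  · intro h
    rw [← locIdeal_gIdeal f_deg hm Q]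
    exact locIdeal_mono 𝒜 h f
  · intro h a ha
    rw [← DirectSum.sum_support_decompose 𝒜 a]
    refine Ideal.sum_mem _ (fun i _ => ?_)
    have hai : (DirectSum.decompose 𝒜 a i : A) ∈ I := hI i ha
    rw [mem_gIdeal_iff_of_mem f_deg hm Q _ (SetLike.coe_mem _)]
    apply h
    apply mk_mem_locIdeal_of_num_mem
    exact Ideal.pow_mem_of_mem _ hai _ hm

/-- L5: for a homogeneous prime `𝔓 ∌ f`, `g (locIdeal 𝔓 f) = 𝔓`. -/
theorem gIdeal_locIdeal {𝔓 : Ideal A} [h𝔓 : 𝔓.IsPrime] (hh : 𝔓.IsHomogeneous 𝒜) (hf : f ∉ 𝔓) :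
    gIdeal f_deg hm ⟨locIdeal 𝒜 𝔓 f, locIdeal_isPrime 𝒜 hf⟩ = 𝔓 := by
  classical
  have key : ∀ (n : ℕ) (a : A), a ∈ 𝒜 n →
      (a ∈ gIdeal f_deg hm ⟨locIdeal 𝒜 𝔓 f, locIdeal_isPrime 𝒜 hf⟩ ↔ a ∈ 𝔓) := by
    intro n a hn
    rw [mem_gIdeal_iff_of_mem f_deg hm _ a hn]
    show HomogeneousLocalization.mk _ ∈ locIdeal 𝒜 𝔓 f ↔ _
    rw [mk_mem_locIdeal_iff_of_isPrime 𝒜 hf]
    exact h𝔓.pow_mem_iff_mem m hm
  have hgh := gIdeal_isHomogeneous f_deg hm ⟨locIdeal 𝒜 𝔓 f, locIdeal_isPrime 𝒜 hf⟩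
  apply le_antisymm
  · intro a ha
    rw [← DirectSum.sum_support_decompose 𝒜 a]
    exact Ideal.sum_mem _ (fun i _ => (key i _ (SetLike.coe_mem _)).mp (hgh i ha))
  · intro a ha
    rw [← DirectSum.sum_support_decompose 𝒜 a]
    exact Ideal.sum_mem _ (fun i _ => (key i _ (SetLike.coe_mem _)).mpr (hh i ha))

/-- `g` as a map of prime spectra. -/
def gSpec (Q : PrimeSpectrum (Away 𝒜 f)) : PrimeSpectrum A :=
  ⟨gIdeal f_deg hm Q, gIdeal_isPrime f_deg hm Q⟩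

theorem gSpec_le_iff (Q Q' : PrimeSpectrum (Away 𝒜 f)) :
    gSpec f_deg hm Q ≤ gSpec f_deg hm Q' ↔ Q ≤ Q' := by
  show gIdeal f_deg hm Q ≤ gIdeal f_deg hm Q' ↔ Q.asIdeal ≤ Q'.asIdeal
  rw [le_gIdeal_iff f_deg hm (gIdeal_isHomogeneous f_deg hm Q), locIdeal_gIdeal]

theorem gSpec_strictMono : StrictMono (gSpec (𝒜 := 𝒜) f_deg hm) := by
  intro Q Q' h
  rw [lt_iff_le_not_ge] at h ⊢
  rw [gSpec_le_iff, gSpec_le_iff]
  exact h

include f_deg hm in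
/-- L6: `height (locIdeal 𝔓 f) ≤ height 𝔓` for a homogeneous prime `𝔓 ∌ f`. -/
theorem height_locIdeal_le {𝔓 : Ideal A} [h𝔓 : 𝔓.IsPrime] (hh : 𝔓.IsHomogeneous 𝒜)
    (hf : f ∉ 𝔓) : (locIdeal 𝒜 𝔓 f).height ≤ 𝔓.height := by
  have h1 := PrimeSpectrum.height_eq_orderHeight
    (⟨locIdeal 𝒜 𝔓 f, locIdeal_isPrime 𝒜 hf⟩ : PrimeSpectrum (Away 𝒜 f))
  have h2 := PrimeSpectrum.height_eq_orderHeight (⟨𝔓, h𝔓⟩ : PrimeSpectrum A)
  simp only at h1 h2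
  rw [h1, h2]
  have h3 := Order.height_le_height_apply_of_strictMono _ (gSpec_strictMono f_deg hm)
    (⟨locIdeal 𝒜 𝔓 f, locIdeal_isPrime 𝒜 hf⟩ : PrimeSpectrum (Away 𝒜 f))
  have h4 : gSpec f_deg hm ⟨locIdeal 𝒜 𝔓 f, locIdeal_isPrime 𝒜 hf⟩ = ⟨𝔓, h𝔓⟩ :=
    PrimeSpectrum.ext (gIdeal_locIdeal f_deg hm hh hf)
  rw [h4] at h3
  exact h3

end Groth.Agent.Helper27.Gh
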