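import Mathlib
import Groth.Prelude.Def_W4c2ratsingkovacsGH
import Groth.Agent.Lib.Helper27.Gh1
import Groth.Agent.Lib.Helper27.Gh2

/-!
# The inductive step for S15723: one more element raises every geometric height by one
-/

namespace Groth.Agent.Helper27.Gh

open W4c2ratsingkovacs HomogeneousLocalization

variable {R A : Type*} [CommRing R] [CommRing A] [Algebra R A]
  (𝒜 : ℕ → Submodule R A) [GradedRing 𝒜]

theorem height_le_length_of_mem_minimalPrimes_ofList [IsNoetherianRing A] {p : Ideal A}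
    {l : List A} (hp : p ∈ (Ideal.ofList l).minimalPrimes) : p.height ≤ l.length := by
  classical
  have h1 : Ideal.ofList l = Ideal.span (l.toFinset : Set A) := by rw [List.coe_toFinset]
  rw [h1] at hp
  exact (Ideal.height_le_card_of_mem_minimalPrimes_span_finset hp).trans
    (by exact_mod_cast List.toFinset_card_le l)

theorem step [IsNoetherianRing A] (J : Ideal A) (hJ : J.IsHomogeneous 𝒜) (h : ℕ)
    (hJh : HasUniformGeomHeight 𝒜 J h) (P : Finset (Ideal A))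
    (hP : ∀ q ∈ P, q.IsPrime ∧ ¬ J ≤ q ∧ ¬ (HomogeneousIdeal.irrelevant 𝒜).toIdeal ≤ q)
    (zs : List A) (hlen : zs.length < h)
    (hzs : ∀ z ∈ zs, (∃ n : ℕ, 0 < n ∧ z ∈ 𝒜 n) ∧ z ∈ J)
    (hgh : ∀ (f : A) (n : ℕ), 0 < n → f ∈ 𝒜 n → f ∉ J.radical →
      (zs.length : ℕ∞) ≤ geomHeight 𝒜 (Ideal.ofList zs) f) :
    ∃ z : A, (∃ n : ℕ, 0 < n ∧ z ∈ 𝒜 n) ∧ z ∈ J ∧ (∀ q ∈ P, z ∉ q) ∧
      ∀ (f : A) (n : ℕ), 0 < n → f ∈ 𝒜 n → f ∉ J.radical →
        geomHeight 𝒜 (Ideal.ofList (zs ++ [z])) f = ((zs.length + 1 : ℕ) : ℕ∞) := by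
  classical
  set I := Ideal.ofList zs with hI_def
  have hIhom : I.IsHomogeneous 𝒜 := Ideal.homogeneous_span 𝒜 _ (fun x hx => by
    obtain ⟨n, -, hn⟩ := (hzs x hx).1
    exact ⟨n, hn⟩)
  have hIJ : I ≤ J := Ideal.span_le.mpr (fun x hx => (hzs x hx).2)
  have hfin := Ideal.finite_minimalPrimes_of_isNoetherianRing A I
  let B : Finset (Ideal A) := hfin.toFinset.filter
    (fun 𝔓 => ¬ J ≤ 𝔓 ∧ ¬ (HomogeneousIdeal.irrelevant 𝒜).toIdeal ≤ 𝔓)
  obtain ⟨z, hzn, hzJ, hzS⟩ := graded_prime_avoidance 𝒜 hJ (P ∪ B) (by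
    intro q hq
    rcases Finset.mem_union.mp hq with hq | hq
    · exact hP q hq
    · rw [Finset.mem_filter, Set.Finite.mem_toFinset] at hq
      exact ⟨hq.1.1.1, hq.2⟩)
  refine ⟨z, hzn, hzJ, fun q hq => hzS q (Finset.mem_union_left _ hq), ?_⟩
  intro f n hn hf hfJ
  set I' := Ideal.ofList (zs ++ [z]) with hI'_def
  have hI'eq : I' = I ⊔ Ideal.span {z} := by
    rw [hI'_def, Ideal.ofList_append, Ideal.ofList_singleton]
  have hII' : I ≤ I' := hI'eq ▸ le_sup_left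
  have hzI' : z ∈ I' := hI'eq ▸ Ideal.mem_sup_right (Ideal.mem_span_singleton_self z)
  have hI'hom : I'.IsHomogeneous 𝒜 := Ideal.homogeneous_span 𝒜 _ (by
    intro x hx
    rcases List.mem_append.mp hx with hx | hx
    · obtain ⟨n, -, hn⟩ := (hzs x hx).1
      exact ⟨n, hn⟩
    · rw [List.mem_singleton] at hx
      subst hx
      obtain ⟨n, -, hn⟩ := hzn
      exact ⟨n, hn⟩)
  have hI'J : I' ≤ J := by
    rw [hI'eq]
    exact sup_le hIJ ((Ideal.span_singleton_le_iff_mem _).mpr hzJ)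
  have hfI' : f ∉ I'.radical := fun hh => hfJ (Ideal.radical_mono hI'J hh)
  unfold geomHeight
  apply le_antisymm
  · -- upper bound via Krull's height theorem in `A`
    obtain ⟨𝔮, h𝔮p, h𝔮I', h𝔮f⟩ : ∃ 𝔮 : Ideal A, 𝔮.IsPrime ∧ I' ≤ 𝔮 ∧ f ∉ 𝔮 := by
      by_contra hcon
      push_neg at hcon
      apply hfI'
      rw [Ideal.radical_eq_sInf, Ideal.mem_sInf]
      rintro 𝔮 ⟨h1, h2⟩
      exact hcon 𝔮 h2 h1
    obtain ⟨𝔓, h𝔓min, h𝔓le⟩ := Ideal.exists_minimalPrimes_le h𝔮I'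
    have h𝔓p : 𝔓.IsPrime := h𝔓min.1.1
    have h𝔓f : f ∉ 𝔓 := fun hh => h𝔮f (h𝔓le hh)
    have h𝔓hom := isHomogeneous_of_mem_minimalPrimes 𝒜 hI'hom h𝔓min
    have h1 : 𝔓.height ≤ (zs ++ [z]).length :=
      height_le_length_of_mem_minimalPrimes_ofList h𝔓min
    have h2 := height_locIdeal_le hf hn h𝔓hom h𝔓f
    have h3 : (locIdeal 𝒜 I' f).height ≤ (locIdeal 𝒜 𝔓 f).height :=
      Ideal.height_mono (locIdeal_mono 𝒜 h𝔓min.1.2 f)
    refine h3.trans (h2.trans (h1.trans ?_))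
    simp
  · -- lower bound
    rw [Ideal.height_eq_inf_minimalPrimes]
    refine le_iInf₂ (fun Q hQ => ?_)
    have hQp : Q.IsPrime := hQ.1.1
    have hQI : locIdeal 𝒜 I f ≤ Q := (locIdeal_mono 𝒜 hII' f).trans hQ.1.2
    obtain ⟨Q', hQ'min, hQ'le⟩ := Ideal.exists_minimalPrimes_le hQI
    have hQ'p : Q'.IsPrime := hQ'min.1.1
    have hQ'h : (zs.length : ℕ∞) ≤ Q'.height :=
      (hgh f n hn hf hfJ).trans (Ideal.height_mono hQ'min.1.2)
    rcases hQ'le.lt_or_eq with hlt | heq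
    · have := Ideal.height_add_one_le_of_lt_of_isPrime hlt
      push_cast
      have h9 : (zs.length : ℕ∞) + 1 ≤ Q'.height + 1 := by gcongr
      exact h9.trans this
    · subst heq
      let Qs : PrimeSpectrum (Away 𝒜 f) := ⟨Q', hQ'p⟩
      set 𝔓 := gIdeal hf hn Qs with h𝔓_def
      have h𝔓p : 𝔓.IsPrime := gIdeal_isPrime hf hn Qs
      have h𝔓f : f ∉ 𝔓 := not_mem_gIdeal hf hn Qs
      have hI𝔓 : I ≤ 𝔓 := (le_gIdeal_iff hf hn hIhom Qs).mpr hQ'min.1.2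
      have hI'𝔓 : I' ≤ 𝔓 := (le_gIdeal_iff hf hn hI'hom Qs).mpr hQ.1.2
      have hz𝔓 : z ∈ 𝔓 := hI'𝔓 hzI'
      have h𝔓min : 𝔓 ∈ I.minimalPrimes := by
        obtain ⟨𝔓'', h''min, h''le⟩ := Ideal.exists_minimalPrimes_le hI𝔓
        have h''p : 𝔓''.IsPrime := h''min.1.1
        have h''hom := isHomogeneous_of_mem_minimalPrimes 𝒜 hIhom h''min
        have h''f : f ∉ 𝔓'' := fun hh => h𝔓f (h''le hh)
        have hlp := locIdeal_isPrime 𝒜 h''f
        have hle1 : locIdeal 𝒜 𝔓'' f ≤ Q' := by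
          have := locIdeal_mono 𝒜 h''le f
          rwa [h𝔓_def, locIdeal_gIdeal hf hn Qs] at this
        have hle2 : Q' ≤ locIdeal 𝒜 𝔓'' f :=
          hQ'min.2 ⟨hlp, locIdeal_mono 𝒜 h''min.1.2 f⟩ hle1
        have heq : locIdeal 𝒜 𝔓'' f = Q' := le_antisymm hle1 hle2
        have h5 := gIdeal_locIdeal hf hn h''hom h''f
        have h6 : (⟨locIdeal 𝒜 𝔓'' f, hlp⟩ : PrimeSpectrum (Away 𝒜 f)) = Qs :=
          PrimeSpectrum.ext heq
        rw [h6] at h5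
        rw [h𝔓_def, h5]
        exact h''min
      have hfirr : f ∈ (HomogeneousIdeal.irrelevant 𝒜).toIdeal :=
        HomogeneousIdeal.mem_irrelevant_of_mem 𝒜 hn hf
      have hJ𝔓 : J ≤ 𝔓 := by
        by_contra hcon
        have hB : 𝔓 ∈ B := by
          rw [Finset.mem_filter, Set.Finite.mem_toFinset]
          exact ⟨h𝔓min, hcon, fun hh => h𝔓f (hh hfirr)⟩
        exact hzS 𝔓 (Finset.mem_union_right _ hB) hz𝔓
      have hJQ : locIdeal 𝒜 J f ≤ Q' := (le_gIdeal_iff hf hn hJ Qs).mp hJ𝔓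
      have h7 : (locIdeal 𝒜 J f).height = h := hJh f n hn hf hfJ
      have h8 : (h : ℕ∞) ≤ Q'.height := h7 ▸ Ideal.height_mono hJQ
      refine le_trans ?_ h8
      exact_mod_cast hlen

end Groth.Agent.Helper27.Gh
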