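import Mathlib

/-! S18239, part A: an abstract order lemma and lifting along `S/J^K → S/J²`. -/

set_option autoImplicit false

namespace Groth.Agent.Helper27.Gs

section Order

variable {S T : Type*} [CommRing S] [CommRing T]

/-- Two ring homs differing by `JT²` differ by `JT^(j+1)` on `J^j`. -/
theorem diff_mem (J : Ideal S) (JT : Ideal T) (χ η' : S →+* T)
    (hη : ∀ y ∈ J, η' y ∈ JT) (hD : ∀ s, χ s - η' s ∈ JT ^ 2) (j : ℕ) :
    ∀ s ∈ J ^ j, χ s - η' s ∈ JT ^ (j + 1) := by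
  have hχ : ∀ y ∈ J, χ y ∈ JT := by
    intro y hy
    have h1 : χ y = η' y + (χ y - η' y) := by ring
    rw [h1]
    exact add_mem (hη y hy) (Ideal.pow_le_self (two_ne_zero) (hD y))
  have hηpow : ∀ (j : ℕ) (u : S), u ∈ J ^ j → η' u ∈ JT ^ j := by
    intro j u hu
    have h1 : Ideal.map η' J ≤ JT := Ideal.map_le_iff_le_comap.2 fun y hy => hη y hy
    have h2 : η' u ∈ Ideal.map η' (J ^ j) := Ideal.mem_map_of_mem _ hu
    rw [Ideal.map_pow] at h2
    exact Ideal.pow_right_mono h1 j h2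
  induction j with
  | zero =>
    intro s _
    exact Ideal.pow_le_pow_right (by omega) (hD s)
  | succ j ih =>
    intro s hs
    rw [pow_succ] at hs
    refine Submodule.mul_induction_on hs ?_ ?_
    · intro u hu y hy
      have h1 : χ (u * y) - η' (u * y) = (χ u - η' u) * χ y + η' u * (χ y - η' y) := by
        rw [map_mul, map_mul]; ring
      rw [h1]
      refine add_mem ?_ ?_
      · have := Ideal.mul_mem_mul (ih u hu) (hχ y hy)
        rwa [← pow_succ] at this
      · have := Ideal.mul_mem_mul (hηpow j u hu) (hD y)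
        rwa [← pow_add] at this
    · intro x y hx hy
      have h1 : χ (x + y) - η' (x + y) = (χ x - η' x) + (χ y - η' y) := by
        rw [map_add, map_add]; ring
      rw [h1]
      exact add_mem hx hy

end Order

section Lift

variable {R S A : Type*} [CommRing R] [CommRing S] [CommRing A] [Algebra R S] [Algebra R A]

/-- the transition map `S/J^K → S/J²`. -/
noncomputable def gK (J : Ideal S) (K : ℕ) (hK : 2 ≤ K) : (S ⧸ J ^ K) →ₐ[R] S ⧸ J ^ 2 :=
  Ideal.Quotient.factorₐ R (Ideal.pow_le_pow_right hK)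

theorem gK_mk (J : Ideal S) (K : ℕ) (hK : 2 ≤ K) (r : S) :
    gK (R := R) J K hK (Ideal.Quotient.mk _ r) = Ideal.Quotient.mk _ r := rfl

theorem gK_surjective (J : Ideal S) (K : ℕ) (hK : 2 ≤ K) :
    Function.Surjective (gK (R := R) J K hK) := by
  intro x
  obtain ⟨r, rfl⟩ := Ideal.Quotient.mk_surjective x
  exact ⟨Ideal.Quotient.mk _ r, rfl⟩

theorem ker_gK_le (J : Ideal S) (K : ℕ) (hK : 2 ≤ K) :
    RingHom.ker ((gK (R := R) J K hK).toRingHom)
      ≤ Ideal.map (Ideal.Quotient.mk (J ^ K)) (J ^ 2) := by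
  intro x hx
  obtain ⟨r, rfl⟩ := Ideal.Quotient.mk_surjective x
  rw [RingHom.mem_ker] at hx
  have : Ideal.Quotient.mk (J ^ 2) r = 0 := hx
  rw [Ideal.Quotient.eq_zero_iff_mem] at this
  exact Ideal.mem_map_of_mem _ this

theorem gK_nilpotent (J : Ideal S) (K : ℕ) (hK : 2 ≤ K) :
    IsNilpotent (RingHom.ker ((gK (R := R) J K hK).toRingHom)) := by
  refine ⟨K, ?_⟩
  rw [Submodule.zero_eq_bot, eq_bot_iff]
  calc RingHom.ker ((gK (R := R) J K hK).toRingHom) ^ K
      ≤ (Ideal.map (Ideal.Quotient.mk (J ^ K)) (J ^ 2)) ^ K :=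
        Ideal.pow_right_mono (ker_gK_le (R := R) J K hK) K
    _ = Ideal.map (Ideal.Quotient.mk (J ^ K)) (J ^ (2 * K)) := by rw [← Ideal.map_pow, ← pow_mul]
    _ ≤ Ideal.map (Ideal.Quotient.mk (J ^ K)) (J ^ K) :=
        Ideal.map_mono (Ideal.pow_le_pow_right (by omega))
    _ = ⊥ := Ideal.map_quotient_self _

/-- The abstract injectivity criterion. -/
theorem mem_pow_of_lift [Algebra.FormallySmooth R A] (J : Ideal S) (τ : S →ₐ[R] A)
    (η : S →ₐ[R] S) (hη : ∀ y ∈ J, η y ∈ J) (θ : A →ₐ[R] S ⧸ J ^ 2)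
    (hθ : ∀ s, θ (τ s) = Ideal.Quotient.mk _ (η s))
    (f : S) (hτ : τ f = 0) (hf : η f = f) (k : ℕ) : f ∈ J ^ k := by
  suffices h : f ∈ J ^ (k + 2) from Ideal.pow_le_pow_right (Nat.le_add_right k 2) h
  have hK : 2 ≤ k + 2 := Nat.le_add_left 2 k
  set K := k + 2 with hKdef
  let ψ := Algebra.FormallySmooth.liftOfSurjective θ (gK (R := R) J K hK)
    (gK_surjective (R := R) J K hK) (gK_nilpotent (R := R) J K hK)
  have hψ : ∀ x, gK (R := R) J K hK (ψ x) = θ x :=
    Algebra.FormallySmooth.liftOfSurjective_apply _ _ _ _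
  let χ : S →+* S ⧸ J ^ K := (ψ.comp τ).toRingHom
  let η' : S →+* S ⧸ J ^ K := (Ideal.Quotient.mk (J ^ K)).comp η.toRingHom
  let JT : Ideal (S ⧸ J ^ K) := Ideal.map (Ideal.Quotient.mk (J ^ K)) J
  have hη' : ∀ y ∈ J, η' y ∈ JT := fun y hy => Ideal.mem_map_of_mem _ (hη y hy)
  have hD : ∀ s, χ s - η' s ∈ JT ^ 2 := by
    intro s
    have hker : χ s - η' s ∈ RingHom.ker ((gK (R := R) J K hK).toRingHom) := by
      rw [RingHom.mem_ker]
      change gK (R := R) J K hK (ψ (τ s) - Ideal.Quotient.mk _ (η s)) = 0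
      rw [map_sub, hψ, gK_mk, hθ, sub_self]
    have := ker_gK_le (R := R) J K hK hker
    rwa [Ideal.map_pow] at this
  have key : ∀ j, j ≤ K → f ∈ J ^ j := by
    intro j
    induction j with
    | zero => intro _; simp
    | succ j ih =>
      intro hj
      have hfj := ih (Nat.le_of_succ_le hj)
      have h1 := diff_mem J JT χ η' hη' hD j f hfj
      have h2 : χ f = 0 := by
        change ψ (τ f) = 0
        rw [hτ, map_zero]
      have h3 : η' f = Ideal.Quotient.mk (J ^ K) f := by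
        change Ideal.Quotient.mk (J ^ K) (η f) = _
        rw [hf]
      rw [h2, h3, zero_sub, neg_mem_iff, ← Ideal.map_pow] at h1
      obtain ⟨x, hx, hxe⟩ := (Ideal.mem_map_iff_of_surjective _ Ideal.Quotient.mk_surjective).1 h1
      have h4 : f - x ∈ J ^ K := Ideal.Quotient.eq.1 hxe.symm
      have h5 : f = x + (f - x) := by ring
      rw [h5]
      exact add_mem hx (Ideal.pow_le_pow_right hj h4)
  exact key K le_rfl

end Lift

end Groth.Agent.Helper27.Gs
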