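import Mathlib

/-! S18238, part B: an endomorphism of a polynomial ring of the form `X ↦ X + (order ≥ 2)`
reflects the order filtration. -/

set_option autoImplicit false

namespace Groth.Agent.Helper27.Mn

open MvPolynomial

variable {R : Type*} [CommRing R] {ι : Type*}

/-- substitution `X a ↦ X a + q a` -/
noncomputable def sb (q : ι → MvPolynomial ι R) : MvPolynomial ι R →ₐ[R] MvPolynomial ι R :=
  aeval (fun a => X a + q a)

theorem monomial_mem (α : ι →₀ ℕ) (c : R) :
    monomial α c ∈ idealOfVars ι R ^ (Finsupp.degree α) := by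
  classical
  rw [mem_pow_idealOfVars_iff']
  intro x hx
  rw [coeff_monomial, if_neg]
  rintro rfl
  exact lt_irrefl _ hx

/-- product rule for the defect. -/
theorem defect_mul (χ : MvPolynomial ι R →ₐ[R] MvPolynomial ι R) {d e : ℕ}
    {u v : MvPolynomial ι R} (hu : u ∈ idealOfVars ι R ^ d) (hv : v ∈ idealOfVars ι R ^ e)
    (hu' : χ u - u ∈ idealOfVars ι R ^ (d + 1)) (hv' : χ v - v ∈ idealOfVars ι R ^ (e + 1)) :
    χ (u * v) - u * v ∈ idealOfVars ι R ^ (d + e + 1) := by
  have hχv : χ v ∈ idealOfVars ι R ^ e := by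
    have := add_mem (Ideal.pow_le_pow_right (Nat.le_succ e) hv') hv
    simpa using this
  have h1 : (χ u - u) * χ v ∈ idealOfVars ι R ^ (d + e + 1) := by
    have := Ideal.mul_mem_mul hu' hχv
    rwa [← pow_add, show d + 1 + e = d + e + 1 by ring] at this
  have h2 : u * (χ v - v) ∈ idealOfVars ι R ^ (d + e + 1) := by
    have := Ideal.mul_mem_mul hu hv'
    rwa [← pow_add, ← add_assoc] at this
  have : χ (u * v) - u * v = (χ u - u) * χ v + u * (χ v - v) := by
    rw [map_mul]; ring
  rw [this]
  exact add_mem h1 h2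

theorem defect_monomial (q : ι → MvPolynomial ι R) (hq : ∀ a, q a ∈ idealOfVars ι R ^ 2)
    (α : ι →₀ ℕ) :
    sb q (monomial α 1) - monomial α 1 ∈ idealOfVars ι R ^ (Finsupp.degree α + 1) := by
  induction α using Finsupp.induction_linear with
  | zero => simp
  | add β γ hβ hγ =>
    have : (monomial (β + γ) (1 : R)) = monomial β 1 * monomial γ 1 := by
      rw [monomial_mul, one_mul]
    rw [this, map_add]
    exact defect_mul (sb q) (monomial_mem β 1) (monomial_mem γ 1) hβ hγ
  | single a n =>
    rw [Finsupp.degree_single]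
    induction n with
    | zero => simp
    | succ n ih =>
      have h1 : (monomial (Finsupp.single a (n + 1)) (1 : R))
          = monomial (Finsupp.single a n) 1 * monomial (Finsupp.single a 1) 1 := by
        rw [monomial_mul, one_mul, ← Finsupp.single_add]
      rw [h1]
      have hn := monomial_mem (R := R) (Finsupp.single a n) 1
      have h1' := monomial_mem (R := R) (Finsupp.single a 1) 1
      rw [Finsupp.degree_single] at hn h1'
      refine defect_mul (sb q) hn h1' ih ?_
      have : sb q (monomial (Finsupp.single a 1) 1) - monomial (Finsupp.single a 1) 1 = q a := by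
        change aeval _ (X a) - X a = _
        rw [aeval_X]; ring
      rw [this]
      exact hq a

theorem defect_mem (q : ι → MvPolynomial ι R) (hq : ∀ a, q a ∈ idealOfVars ι R ^ 2)
    (j : ℕ) (f : MvPolynomial ι R) (hf : f ∈ idealOfVars ι R ^ j) :
    sb q f - f ∈ idealOfVars ι R ^ (j + 1) := by
  rw [mem_pow_idealOfVars_iff] at hf
  have hsum : sb q f - f
      = ∑ v ∈ f.support, C (coeff v f) * (sb q (monomial v 1) - monomial v 1) := by
    conv_lhs => rw [← support_sum_monomial_coeff f]
    rw [map_sum, ← Finset.sum_sub_distrib]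
    refine Finset.sum_congr rfl fun v _ => ?_
    have : monomial v (coeff v f) = C (coeff v f) * monomial v (1 : R) := by
      rw [C_mul_monomial, mul_one]
    have hC : sb q (C (coeff v f)) = C (coeff v f) := by
      rw [← algebraMap_eq, AlgHom.commutes]
    rw [this, map_mul, hC, mul_sub]
  rw [hsum]
  refine Ideal.sum_mem _ fun v hv => ?_
  refine Ideal.mul_mem_left _ _ ?_
  exact Ideal.pow_le_pow_right (Nat.succ_le_succ (hf v hv)) (defect_monomial q hq v)

theorem mem_of_sb_mem (q : ι → MvPolynomial ι R) (hq : ∀ a, q a ∈ idealOfVars ι R ^ 2)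
    (j : ℕ) (f : MvPolynomial ι R) (hf : sb q f ∈ idealOfVars ι R ^ j) :
    f ∈ idealOfVars ι R ^ j := by
  induction j with
  | zero => simp
  | succ j ih =>
    have h1 := ih (Ideal.pow_le_pow_right (Nat.le_succ j) hf)
    have h2 := defect_mem q hq j f h1
    have : f = sb q f - (sb q f - f) := by ring
    rw [this]
    exact sub_mem hf h2

theorem eq_zero_of_forall_mem (f : MvPolynomial ι R)
    (h : ∀ k, f ∈ idealOfVars ι R ^ k) : f = 0 := by
  by_contra hne
  obtain ⟨v, hv⟩ := (MvPolynomial.support_nonempty.2 hne : f.support.Nonempty)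
  have := (mem_pow_idealOfVars_iff _ _).1 (h (Finsupp.degree v + 1)) v hv
  omega

end Groth.Agent.Helper27.Mn
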