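import Mathlib
import Groth.Agent.Lib.Helper27.MnB
import Groth.Agent.Lib.Helper27.GsA

/-! S18239, part B: injectivity of `Sym(Q) → A` for an augmented formally smooth algebra. -/

set_option autoImplicit false

namespace Groth.Agent.Helper27.Gs

open MvPolynomial

variable {A0 A Q : Type*} [CommRing A0] [CommRing A]
  [Algebra A0 A] [AddCommGroup Q] [Module A0 Q]

variable {m : ℕ}

/-- the linear-forms map. -/
noncomputable def Lf (A0 : Type*) [CommRing A0] (m : ℕ) :
    (Fin m → A0) →ₗ[A0] MvPolynomial (Fin m) A0 :=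
  Fintype.linearCombination A0 (X : Fin m → MvPolynomial (Fin m) A0)

theorem Lf_apply (v : Fin m → A0) : Lf A0 m v = ∑ l, v l • (X l : MvPolynomial (Fin m) A0) := by
  rw [Lf, Fintype.linearCombination_apply]

theorem Lf_mem (v : Fin m → A0) : Lf A0 m v ∈ idealOfVars (Fin m) A0 := by
  rw [Lf_apply]
  refine Ideal.sum_mem _ fun l _ => ?_
  rw [Algebra.smul_def]
  exact Ideal.mul_mem_left _ _ (Ideal.subset_span ⟨l, rfl⟩)

/-- the standard basis vectors, in the form used by `LinearMap.pi_apply_eq_sum_univ`. -/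
def ev (A0 : Type*) [CommRing A0] (m : ℕ) (l : Fin m) : Fin m → A0 := fun j => if l = j then 1 else 0

theorem aeval_Lf {B : Type*} [CommRing B] [Algebra A0 B] {M : Type*} [AddCommGroup M] [Module A0 M]
    (g : Fin m → B) (ρ : (Fin m → A0) →ₗ[A0] M) (κ : M →ₗ[A0] B)
    (hg : ∀ l, g l = κ (ρ (ev A0 m l))) (v : Fin m → A0) :
    aeval g (Lf A0 m v) = κ (ρ v) := by
  rw [Lf_apply, map_sum, LinearMap.pi_apply_eq_sum_univ ρ v, map_sum]
  refine Finset.sum_congr rfl fun l _ => ?_
  rw [map_smul, aeval_X, hg, map_smul]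
  rfl

section Main

variable (pr : A →ₐ[A0] A0) (d : A →ₗ[A0] Q)
  (hd_mul : ∀ a b, d (a * b) = pr a • d b + pr b • d a)
  (σ : Q →ₗ[A0] A) (hσ : ∀ q, d (σ q) = q) (hσ0 : ∀ q, pr (σ q) = 0)
  (i : Q →ₗ[A0] (Fin m → A0)) (r : (Fin m → A0) →ₗ[A0] Q) (hri : ∀ q, r (i q) = q)

include hd_mul in
theorem d_one : d 1 = 0 := by
  have h := hd_mul 1 1
  rw [mul_one, map_one pr, one_smul] at h
  have : d 1 + 0 = d 1 + d 1 := by rw [add_zero]; exact h
  exact (add_left_cancel this).symm

/-- the map `A → S/J²`. -/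
noncomputable def thetaFun (a : A) :
    MvPolynomial (Fin m) A0 ⧸ (idealOfVars (Fin m) A0) ^ 2 :=
  Ideal.Quotient.mk _ (C (pr a) + Lf A0 m (i (d a)))

include hd_mul in
theorem thetaFun_mul (a b : A) :
    thetaFun pr d i (a * b) = thetaFun pr d i a * thetaFun pr d i b := by
  rw [thetaFun, thetaFun, thetaFun, ← map_mul, Ideal.Quotient.eq, hd_mul, map_mul pr, map_add,
    map_add, map_smul, map_smul, map_smul, map_smul]
  have : C (pr a * pr b) + (pr a • Lf A0 m (i (d b)) + pr b • Lf A0 m (i (d a)))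
      - (C (pr a) + Lf A0 m (i (d a))) * (C (pr b) + Lf A0 m (i (d b)))
      = - (Lf A0 m (i (d a)) * Lf A0 m (i (d b))) := by
    rw [Algebra.smul_def, Algebra.smul_def, algebraMap_eq, C_mul]
    ring
  rw [this, neg_mem_iff, pow_two]
  exact Ideal.mul_mem_mul (Lf_mem _) (Lf_mem _)

/-- the algebra map `A → S/J²`. -/
noncomputable def theta :
    A →ₐ[A0] MvPolynomial (Fin m) A0 ⧸ (idealOfVars (Fin m) A0) ^ 2 where
  toFun := thetaFun pr d i
  map_one' := by
    rw [thetaFun, d_one pr d hd_mul, map_zero, map_zero, add_zero, map_one, map_one, map_one]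
  map_mul' := thetaFun_mul pr d hd_mul i
  map_zero' := by
    simp [thetaFun]
  map_add' a b := by
    simp only [thetaFun, map_add]
    ring
  commutes' a0 := by
    have h1 : d (algebraMap A0 A a0) = 0 := by
      rw [Algebra.algebraMap_eq_smul_one, map_smul, d_one pr d hd_mul, smul_zero]
    rw [thetaFun, h1, map_zero, map_zero, add_zero, AlgHom.commutes]
    rfl

theorem theta_apply (a : A) : theta pr d hd_mul i a
    = Ideal.Quotient.mk _ (C (pr a) + Lf A0 m (i (d a))) := rfl

/-- `τ : S → A`. -/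
noncomputable def tau : MvPolynomial (Fin m) A0 →ₐ[A0] A :=
  aeval (fun l => σ (r (ev A0 m l)))

/-- `η : S → S`. -/
noncomputable def eta : MvPolynomial (Fin m) A0 →ₐ[A0] MvPolynomial (Fin m) A0 :=
  aeval (fun l => Lf A0 m (i (r (ev A0 m l))))

theorem tau_Lf (v : Fin m → A0) : tau σ r (Lf A0 m v) = σ (r v) :=
  aeval_Lf _ r σ (fun _ => rfl) v

theorem eta_Lf (v : Fin m → A0) : eta i r (Lf A0 m v) = Lf A0 m (i (r v)) :=
  aeval_Lf _ r ((Lf A0 m).comp i) (fun _ => rfl) v

theorem eta_mem (y : MvPolynomial (Fin m) A0) (hy : y ∈ idealOfVars (Fin m) A0) :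
    eta i r y ∈ idealOfVars (Fin m) A0 := by
  have h : Ideal.map (eta i r) (idealOfVars (Fin m) A0) ≤ idealOfVars (Fin m) A0 := by
    rw [idealOfVars, Ideal.map_span, Ideal.span_le]
    rintro _ ⟨_, ⟨l, rfl⟩, rfl⟩
    change eta i r (X l) ∈ _
    rw [eta, aeval_X]
    exact Lf_mem _
  exact h (Ideal.mem_map_of_mem _ hy)

include hσ hσ0 in
theorem theta_tau (s : MvPolynomial (Fin m) A0) :
    theta pr d hd_mul i (tau σ r s) = Ideal.Quotient.mk _ (eta i r s) := by
  have h : (theta pr d hd_mul i).comp (tau σ r)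
      = (Ideal.Quotient.mkₐ A0 _).comp (eta i r) := by
    apply MvPolynomial.algHom_ext
    intro l
    rw [AlgHom.comp_apply, AlgHom.comp_apply, tau, aeval_X, eta, aeval_X, theta_apply, hσ0, hσ,
      map_zero, zero_add]
    rfl
  exact congrArg (fun g => g s) h

/-- `Sym(i) : Sym(Q) → S`. -/
noncomputable def symi : SymmetricAlgebra A0 Q →ₐ[A0] MvPolynomial (Fin m) A0 :=
  SymmetricAlgebra.lift ((Lf A0 m).comp i)

/-- `Sym(r) : S → Sym(Q)`. -/
noncomputable def symr : MvPolynomial (Fin m) A0 →ₐ[A0] SymmetricAlgebra A0 Q :=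
  aeval (fun l => SymmetricAlgebra.ι A0 Q (r (ev A0 m l)))

include hri in
theorem symr_symi (b : SymmetricAlgebra A0 Q) : symr r (symi i b) = b := by
  have h : (symr r).comp (symi i) = AlgHom.id A0 _ := by
    apply SymmetricAlgebra.algHom_ext
    refine LinearMap.ext fun q => ?_
    change symr r (symi i (SymmetricAlgebra.ι A0 Q q)) = SymmetricAlgebra.ι A0 Q q
    rw [symi, SymmetricAlgebra.lift_ι_apply, LinearMap.comp_apply, symr,
      aeval_Lf _ r (SymmetricAlgebra.ι A0 Q) (fun _ => rfl), hri]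
  exact congrArg (fun g => g b) h

include hri in
theorem tau_symi (b : SymmetricAlgebra A0 Q) : tau σ r (symi i b) = SymmetricAlgebra.lift σ b := by
  have h : (tau σ r).comp (symi i) = SymmetricAlgebra.lift σ := by
    apply SymmetricAlgebra.algHom_ext
    refine LinearMap.ext fun q => ?_
    change tau σ r (symi i (SymmetricAlgebra.ι A0 Q q))
      = SymmetricAlgebra.lift σ (SymmetricAlgebra.ι A0 Q q)
    rw [symi, SymmetricAlgebra.lift_ι_apply, LinearMap.comp_apply, tau_Lf, hri,
      SymmetricAlgebra.lift_ι_apply]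
  exact congrArg (fun g => g b) h

include hri in
theorem eta_symi (b : SymmetricAlgebra A0 Q) : eta i r (symi i b) = symi i b := by
  have h : (eta i r).comp (symi i) = symi i := by
    apply SymmetricAlgebra.algHom_ext
    refine LinearMap.ext fun q => ?_
    change eta i r (symi i (SymmetricAlgebra.ι A0 Q q)) = symi i (SymmetricAlgebra.ι A0 Q q)
    rw [symi, SymmetricAlgebra.lift_ι_apply, LinearMap.comp_apply, eta_Lf, hri]
  exact congrArg (fun g => g b) h

include hd_mul hσ hσ0 hri in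
theorem lift_injective (R : Type*) [CommRing R] [Algebra R A0] [Algebra R A]
    [IsScalarTower R A0 A] [Algebra.FormallySmooth R A] :
    Function.Injective (SymmetricAlgebra.lift σ : SymmetricAlgebra A0 Q →ₐ[A0] A) := by
  rw [injective_iff_map_eq_zero]
  intro b hb
  have hf : symi i b = 0 := by
    apply Mn.eq_zero_of_forall_mem
    intro k
    refine mem_pow_of_lift (R := R) (idealOfVars (Fin m) A0) ((tau σ r).restrictScalars R)
      ((eta i r).restrictScalars R) (eta_mem i r) ((theta pr d hd_mul i).restrictScalars R)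
      (theta_tau pr d hd_mul σ hσ hσ0 i r) (symi i b) ?_ (eta_symi i r hri b) k
    change tau σ r (symi i b) = 0
    rw [tau_symi σ i r hri, hb]
  rw [← symr_symi i r hri b, hf, map_zero]

end Main

end Groth.Agent.Helper27.Gs
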