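import Mathlib

/-! S18238, part A: atoms of a fine sharp monoid. -/

set_option autoImplicit false

namespace Groth.Agent.Helper27.Mn

variable {N : Type*} [AddCommMonoid N] [IsCancelAdd N]

/-- strict divisibility -/
def SDvd (x y : N) : Prop := ∃ z, z ≠ 0 ∧ y = x + z

/-- atoms -/
def IsAtm (a : N) : Prop := a ≠ 0 ∧ ∀ x y, a = x + y → x = 0 ∨ y = 0

theorem eq_zero_of_add_eq_zero (hsharp : ∀ n : N, IsAddUnit n → n = 0) {x y : N}
    (h : x + y = 0) : x = 0 :=
  hsharp x (IsAddUnit.of_add_eq_zero y h)

theorem sdvd_wf [AddMonoid.FG N] (hsharp : ∀ n : N, IsAddUnit n → n = 0) :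
    WellFounded (SDvd (N := N)) := by
  haveI : IsNoetherianRing (AddMonoidAlgebra ℤ N) := Algebra.FiniteType.isNoetherianRing ℤ _
  let F : N → Ideal (AddMonoidAlgebra ℤ N) := fun n => Ideal.span {AddMonoidAlgebra.single n 1}
  have hlt : ∀ x y, SDvd x y → F x > F y := by
    rintro x y ⟨z, hz, rfl⟩
    refine lt_of_le_not_ge ?_ ?_
    · refine Ideal.span_singleton_le_span_singleton.2 ⟨AddMonoidAlgebra.single z 1, ?_⟩
      rw [AddMonoidAlgebra.single_mul_single, one_mul]
    · intro hle
      obtain ⟨f, hf⟩ := Ideal.span_singleton_le_span_singleton.1 hle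
      have h1 : (AddMonoidAlgebra.single x (1 : ℤ)).coeff x
          = (AddMonoidAlgebra.single (x + z) 1 * f).coeff x := congrArg (fun g => g.coeff x) hf
      rw [AddMonoidAlgebra.coeff_single_mul_of_forall_add_ne] at h1
      · simp at h1
      · intro d hd
        have : z + d = 0 := by
          have h2 : x + (z + d) = x + 0 := by rw [← add_assoc, hd, add_zero]
          exact add_left_cancel h2
        exact hz (eq_zero_of_add_eq_zero hsharp this)
  exact Subrelation.wf (fun {x y} h => hlt x y h)
    (InvImage.wf F (wellFounded_gt : WellFounded (α := Ideal (AddMonoidAlgebra ℤ N)) (· > ·)))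

theorem closure_atoms [AddMonoid.FG N] (hsharp : ∀ n : N, IsAddUnit n → n = 0) :
    AddSubmonoid.closure {a : N | IsAtm a} = ⊤ := by
  rw [eq_top_iff]
  suffices h : ∀ n : N, n ∈ AddSubmonoid.closure {a : N | IsAtm a} from fun n _ => h n
  intro n
  induction n using (sdvd_wf hsharp).induction with
  | _ n ih =>
    by_cases h0 : n = 0
    · subst h0; exact zero_mem _
    by_cases ha : IsAtm n
    · exact AddSubmonoid.subset_closure ha
    · simp only [IsAtm, not_and, not_forall, not_or] at ha
      obtain ⟨x, y, hxy, hx, hy⟩ := ha h0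
      rw [hxy]
      exact add_mem (ih x ⟨y, hy, hxy⟩) (ih y ⟨x, hx, by rw [hxy, add_comm]⟩)

theorem atoms_finite [h : AddMonoid.FG N] : {a : N | IsAtm a}.Finite := by
  obtain ⟨G, hG⟩ := h.fg_top
  refine Set.Finite.subset G.finite_toSet ?_
  intro a ha
  have hmem : a ∈ AddSubmonoid.closure (G : Set N) := hG ▸ AddSubmonoid.mem_top a
  have key : ∀ n ∈ AddSubmonoid.closure (G : Set N), IsAtm n → n ∈ (G : Set N) := by
    intro n hn
    induction hn using AddSubmonoid.closure_induction with
    | mem x hx => exact fun _ => hx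
    | zero => exact fun h => absurd rfl h.1
    | add x y _ _ ihx ihy =>
      intro hat
      rcases hat.2 x y rfl with h | h
      · subst h; rw [zero_add] at hat ⊢; exact ihy hat
      · subst h; rw [add_zero] at hat ⊢; exact ihx hat
  exact key a hmem ha

end Groth.Agent.Helper27.Mn
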