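import Mathlib
import Groth.Agent.Lib.Helper27.MnA

/-! S18239, part C: graded algebra over a sharp monoid: degree-zero projection, augmentation
ideal, the derivation `d : A → I/I²`. -/

set_option autoImplicit false

namespace Groth.Agent.Helper27.Gs

open DirectSum

universe u

variable {R : Type u} [CommRing R] {A : Type u} [CommRing A] [Algebra R A]
  {N : Type} [AddCommMonoid N] [DecidableEq N] [IsCancelAdd N]
  (hsharp : ∀ n : N, IsAddUnit n → n = 0) (𝒜 : N → Submodule R A) [GradedAlgebra 𝒜]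

instance isScalarTower_zero : IsScalarTower R (𝒜 0) A :=
  IsScalarTower.of_algebraMap_eq fun _ => rfl

include hsharp in
theorem add_eq_zero_sharp {i j : N} (h : i + j = 0) : i = 0 ∧ j = 0 :=
  ⟨Mn.eq_zero_of_add_eq_zero hsharp h, Mn.eq_zero_of_add_eq_zero hsharp (by rwa [add_comm] at h)⟩

include hsharp in
theorem proj_zero_mul (a b : A) :
    (decompose 𝒜 (a * b) 0 : A) = (decompose 𝒜 a 0 : A) * (decompose 𝒜 b 0 : A) := by
  revert b
  refine DirectSum.Decomposition.inductionOn 𝒜 (fun x => ?_) ?_ ?_ a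
  · simp only [zero_mul, decompose_zero, DirectSum.zero_apply, ZeroMemClass.coe_zero]
  · rintro i ⟨c, hc⟩
    refine DirectSum.Decomposition.inductionOn 𝒜 ?_ ?_ ?_
    · simp only [mul_zero, decompose_zero, DirectSum.zero_apply, ZeroMemClass.coe_zero]
    · rintro j ⟨c', hc'⟩
      simp only
      by_cases h : i + j = 0
      · rw [decompose_of_mem_same 𝒜
            (show c * c' ∈ 𝒜 0 from h ▸ SetLike.GradedMul.mul_mem hc hc'),
          decompose_of_mem_same 𝒜 (show c ∈ 𝒜 0 from (add_eq_zero_sharp hsharp h).1 ▸ hc),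
          decompose_of_mem_same 𝒜 (show c' ∈ 𝒜 0 from (add_eq_zero_sharp hsharp h).2 ▸ hc')]
      · rw [decompose_of_mem_ne 𝒜 (SetLike.GradedMul.mul_mem hc hc') h]
        rcases show i ≠ 0 ∨ j ≠ 0 by
          by_contra hcon
          rw [not_or, not_not, not_not] at hcon
          exact h (by rw [hcon.1, hcon.2, add_zero]) with h' | h'
        · simp only [decompose_of_mem_ne 𝒜 hc h', zero_mul]
        · simp only [decompose_of_mem_ne 𝒜 hc' h', mul_zero]
    · intro _ _ hd he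
      simp only [mul_add, decompose_add, DirectSum.add_apply, AddMemClass.coe_add, hd, he]
  · rintro _ _ ha hb _
    simp only [add_mul, decompose_add, DirectSum.add_apply, AddMemClass.coe_add, ha, hb]

/-- The augmentation `A → A₀`. -/
noncomputable def pr : A →ₐ[𝒜 0] 𝒜 0 where
  toFun a := decompose 𝒜 a 0
  map_one' := Subtype.ext (decompose_of_mem_same 𝒜 SetLike.GradedOne.one_mem)
  map_mul' a b := Subtype.ext (proj_zero_mul hsharp 𝒜 a b)
  map_zero' := by rw [decompose_zero, DirectSum.zero_apply]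
  map_add' a b := by rw [decompose_add, DirectSum.add_apply]
  commutes' a0 := by
    apply Subtype.ext
    change (decompose 𝒜 (a0 : A) 0 : A) = a0
    rw [decompose_coe, of_eq_same]

theorem pr_apply (a : A) : ((pr hsharp 𝒜 a : 𝒜 0) : A) = (decompose 𝒜 a 0 : A) := rfl

/-- degree `n` projection as an `A₀`-linear map. -/
noncomputable def pn (n : N) : A →ₗ[𝒜 0] A where
  toFun a := (decompose 𝒜 a n : A)
  map_add' a b := by rw [decompose_add, DirectSum.add_apply, AddMemClass.coe_add]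
  map_smul' a0 a := by
    rw [RingHom.id_apply, Algebra.smul_def, Algebra.smul_def]
    exact coe_decompose_mul_of_left_mem_zero 𝒜 a0.2

theorem pn_apply (n : N) (a : A) : pn 𝒜 n a = (decompose 𝒜 a n : A) := rfl

theorem pn_mem (n : N) (a : A) : pn 𝒜 n a ∈ 𝒜 n := SetLike.coe_mem _

theorem pn_of_mem {n : N} {a : A} (ha : a ∈ 𝒜 n) : pn 𝒜 n a = a :=
  decompose_of_mem_same 𝒜 ha

theorem pn_of_mem_ne {n k : N} {a : A} (ha : a ∈ 𝒜 n) (h : n ≠ k) : pn 𝒜 k a = 0 :=
  decompose_of_mem_ne 𝒜 ha h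

theorem pn_zero_eq (a : A) : pn 𝒜 0 a = (pr hsharp 𝒜 a : A) := rfl

theorem sum_pn (a : A) (D : Finset N) (hD : ∀ n, pn 𝒜 n a ≠ 0 → n ∈ D) :
    ∑ n ∈ D, pn 𝒜 n a = a := by
  classical
  conv_rhs => rw [← sum_support_decompose 𝒜 a]
  symm
  refine Finset.sum_subset ?_ fun n _ hn => ?_
  · intro n hn
    rw [DFinsupp.mem_support_iff] at hn
    refine hD n fun h0 => hn (Subtype.ext ?_)
    exact h0
  · rw [DFinsupp.notMem_support_iff] at hn
    rw [hn]; rfl

/-- The augmentation ideal. -/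
noncomputable def Ip : Ideal A := RingHom.ker (pr hsharp 𝒜)

theorem mem_Ip {a : A} : a ∈ Ip hsharp 𝒜 ↔ pr hsharp 𝒜 a = 0 := RingHom.mem_ker

theorem mem_Ip' {a : A} : a ∈ Ip hsharp 𝒜 ↔ pn 𝒜 0 a = 0 := by
  rw [mem_Ip, pn_zero_eq hsharp]
  exact ⟨fun h => by rw [h]; rfl, fun h => Subtype.ext h⟩

theorem mem_Ip_of_mem {n : N} (hn : n ≠ 0) {a : A} (ha : a ∈ 𝒜 n) : a ∈ Ip hsharp 𝒜 := by
  rw [mem_Ip']
  exact pn_of_mem_ne 𝒜 ha hn

theorem Ip_isHomogeneous : (Ip hsharp 𝒜).IsHomogeneous 𝒜 := by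
  intro n a ha
  by_cases hn : n = 0
  · subst hn
    rw [mem_Ip'] at ha
    change pn 𝒜 0 a ∈ _
    rw [ha]; exact zero_mem _
  · exact mem_Ip_of_mem hsharp 𝒜 hn (SetLike.coe_mem _)

theorem pn_mem_sq {w : A} (hw : w ∈ Ip hsharp 𝒜 ^ 2) (n : N) : pn 𝒜 n w ∈ Ip hsharp 𝒜 ^ 2 := by
  have h : (Ip hsharp 𝒜 ^ 2).IsHomogeneous 𝒜 := by
    rw [pow_two]
    exact (Ip_isHomogeneous hsharp 𝒜).mul (Ip_isHomogeneous hsharp 𝒜)
  exact h n hw

theorem sub_pr_mem (a : A) : a - (pr hsharp 𝒜 a : A) ∈ Ip hsharp 𝒜 := by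
  rw [mem_Ip, map_sub]
  have : pr hsharp 𝒜 ((pr hsharp 𝒜 a : 𝒜 0) : A) = pr hsharp 𝒜 a :=
    (pr hsharp 𝒜).commutes (pr hsharp 𝒜 a)
  rw [this, sub_self]

end Groth.Agent.Helper27.Gs
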