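import Mathlib
import Groth.Agent.Lib.Helper27.GsC

/-! S18239, part D: the derivation `d : A → I/I²`. -/

set_option autoImplicit false

namespace Groth.Agent.Helper27.Gs

open DirectSum

universe u

variable {R : Type u} [CommRing R] {A : Type u} [CommRing A] [Algebra R A]
  {N : Type} [AddCommMonoid N] [DecidableEq N] [IsCancelAdd N]
  (hsharp : ∀ n : N, IsAddUnit n → n = 0) (𝒜 : N → Submodule R A) [GradedAlgebra 𝒜]

/-- The conormal module `I/I²`. -/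
abbrev Qm : Type u := (Ip hsharp 𝒜).Cotangent

/-- `a ↦ a - a₀` as an element of `I`. -/
noncomputable def rho (a : A) : Ip hsharp 𝒜 := ⟨a - (pr hsharp 𝒜 a : A), sub_pr_mem hsharp 𝒜 a⟩

theorem rho_add (a b : A) : rho hsharp 𝒜 (a + b) = rho hsharp 𝒜 a + rho hsharp 𝒜 b := by
  apply Subtype.ext
  simp only [rho, map_add, Submodule.coe_add]
  ring

theorem rho_smul (a0 : 𝒜 0) (a : A) :
    rho hsharp 𝒜 (a0 • a) = (a0 : A) • rho hsharp 𝒜 a := by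
  apply Subtype.ext
  simp only [rho, map_smul, SetLike.val_smul, smul_eq_mul]
  rw [Algebra.smul_def, mul_sub]
  rfl

/-- The derivation `d : A → I/I²`. -/
noncomputable def dd : A →ₗ[𝒜 0] Qm hsharp 𝒜 where
  toFun a := (Ip hsharp 𝒜).toCotangent (rho hsharp 𝒜 a)
  map_add' a b := by rw [rho_add, map_add]
  map_smul' a0 a := by
    rw [rho_smul, map_smul, RingHom.id_apply]
    exact algebraMap_smul A a0 _

theorem dd_apply (a : A) : dd hsharp 𝒜 a = (Ip hsharp 𝒜).toCotangent (rho hsharp 𝒜 a) := rfl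

theorem dd_eq_zero_iff (a : A) :
    dd hsharp 𝒜 a = 0 ↔ a - (pr hsharp 𝒜 a : A) ∈ Ip hsharp 𝒜 ^ 2 := by
  rw [dd_apply, Ideal.toCotangent_eq_zero]
  rfl

theorem dd_of_mem {x : A} (hx : x ∈ Ip hsharp 𝒜) :
    dd hsharp 𝒜 x = (Ip hsharp 𝒜).toCotangent ⟨x, hx⟩ := by
  rw [dd_apply]
  congr 1
  apply Subtype.ext
  simp only [rho]
  rw [(mem_Ip hsharp 𝒜).1 hx]
  simp

theorem dd_surjective : Function.Surjective (dd hsharp 𝒜) := by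
  intro q
  obtain ⟨x, rfl⟩ := Ideal.toCotangent_surjective _ q
  exact ⟨x.1, dd_of_mem hsharp 𝒜 x.2⟩

theorem dd_coe (a0 : 𝒜 0) : dd hsharp 𝒜 (a0 : A) = 0 := by
  rw [dd_eq_zero_iff]
  have : pr hsharp 𝒜 (a0 : A) = a0 := (pr hsharp 𝒜).commutes a0
  rw [this, sub_self]
  exact zero_mem _

theorem dd_of_mem_zero {a : A} (ha : a ∈ 𝒜 0) : dd hsharp 𝒜 a = 0 :=
  dd_coe hsharp 𝒜 ⟨a, ha⟩

theorem dd_mul (a b : A) :
    dd hsharp 𝒜 (a * b) = pr hsharp 𝒜 a • dd hsharp 𝒜 b + pr hsharp 𝒜 b • dd hsharp 𝒜 a := by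
  have h1 : rho hsharp 𝒜 (a * b)
      = (pr hsharp 𝒜 a : A) • rho hsharp 𝒜 b + (pr hsharp 𝒜 b : A) • rho hsharp 𝒜 a
        + (rho hsharp 𝒜 a : A) • rho hsharp 𝒜 b := by
    apply Subtype.ext
    have hc : ((pr hsharp 𝒜 a * pr hsharp 𝒜 b : 𝒜 0) : A)
        = (pr hsharp 𝒜 a : A) * (pr hsharp 𝒜 b : A) := rfl
    simp only [rho, map_mul, Submodule.coe_add, SetLike.val_smul, smul_eq_mul, hc]
    ring
  rw [dd_apply, h1, map_add, map_add, map_smul, map_smul, map_smul,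
    Ideal.Cotangent.smul_eq_zero_of_mem (rho hsharp 𝒜 a).2, add_zero]
  rfl

/-- (K): `d z = 0 ⇒ d (pₙ z) = 0` for `n ≠ 0`. -/
theorem dd_pn_eq_zero {z : A} (hz : dd hsharp 𝒜 z = 0) {n : N} (hn : n ≠ 0) :
    dd hsharp 𝒜 (pn 𝒜 n z) = 0 := by
  rw [dd_eq_zero_iff] at hz ⊢
  have h0 : pr hsharp 𝒜 (pn 𝒜 n z) = 0 :=
    (mem_Ip hsharp 𝒜).1 (mem_Ip_of_mem hsharp 𝒜 hn (pn_mem 𝒜 n z))
  rw [h0]
  have h1 := pn_mem_sq hsharp 𝒜 hz n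
  rw [map_sub, pn_of_mem_ne 𝒜 (pr hsharp 𝒜 z).2 (Ne.symm hn), sub_zero] at h1
  simpa using h1

/-- (E): for a section `σ₀` of `d`, `d (pₙ (σ₀ (d z))) = d (pₙ z)`. -/
theorem dd_pn_section (σ₀ : Qm hsharp 𝒜 →ₗ[𝒜 0] A) (hσ₀ : ∀ q, dd hsharp 𝒜 (σ₀ q) = q)
    (z : A) {n : N} (hn : n ≠ 0) :
    dd hsharp 𝒜 (pn 𝒜 n (σ₀ (dd hsharp 𝒜 z))) = dd hsharp 𝒜 (pn 𝒜 n z) := by
  have h1 : dd hsharp 𝒜 (σ₀ (dd hsharp 𝒜 z) - z) = 0 := by
    rw [map_sub, hσ₀, sub_self]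
  have h2 := dd_pn_eq_zero hsharp 𝒜 h1 hn
  rw [map_sub, map_sub, sub_eq_zero] at h2
  exact h2

end Groth.Agent.Helper27.Gs
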