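import Mathlib
import Groth.Agent.Lib.Helper27.GsD

/-! S18239, part E: `I/I²` is a finitely generated projective `A₀`-module. -/

set_option autoImplicit false

namespace Groth.Agent.Helper27.Gs

open DirectSum TensorProduct

universe u

variable {R : Type u} [CommRing R] {A : Type u} [CommRing A] [Algebra R A]
  {N : Type} [AddCommMonoid N] [DecidableEq N] [IsCancelAdd N]
  (hsharp : ∀ n : N, IsAddUnit n → n = 0) (𝒜 : N → Submodule R A) [GradedAlgebra 𝒜]

/-- `pr` as an `R`-algebra map. -/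
noncomputable def prR : A →ₐ[R] 𝒜 0 := (pr hsharp 𝒜).restrictScalars R

/-- the inclusion as an `R`-algebra map. -/
noncomputable def incR : 𝒜 0 →ₐ[R] A := IsScalarTower.toAlgHom R (𝒜 0) A

theorem prR_incR (a0 : 𝒜 0) : prR hsharp 𝒜 (incR 𝒜 a0) = a0 := (pr hsharp 𝒜).commutes a0

theorem prR_surjective : Function.Surjective (prR hsharp 𝒜) :=
  fun a0 => ⟨incR 𝒜 a0, prR_incR hsharp 𝒜 a0⟩

include hsharp in
theorem formallySmooth_zero [Algebra.FormallySmooth R A] : Algebra.FormallySmooth R (𝒜 0) := by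
  refine Algebra.FormallySmooth.of_split (prR hsharp 𝒜)
    ((Ideal.Quotient.mkₐ R _).comp (incR 𝒜)) ?_
  ext a0
  simp only [AlgHom.comp_apply, AlgHom.id_apply]
  change ((prR hsharp 𝒜).kerSquareLift (Ideal.Quotient.mk _ (incR 𝒜 a0)) : A) = _
  rw [AlgHom.kerSquareLift_mk, prR_incR]

theorem finite_projective [Algebra.Smooth R A] :
    Module.Finite (𝒜 0) (Qm hsharp 𝒜) ∧ Module.Projective (𝒜 0) (Qm hsharp 𝒜) := by
  haveI : Algebra.FormallySmooth R A := Algebra.Smooth.formallySmooth
  haveI : Algebra.FiniteType R A := inferInstance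
  haveI := formallySmooth_zero hsharp 𝒜
  letI alg : Algebra A (𝒜 0) := (prR hsharp 𝒜).toRingHom.toAlgebra
  haveI : IsScalarTower R A (𝒜 0) := IsScalarTower.of_algebraMap_eq fun r => by
    change algebraMap R (𝒜 0) r = prR hsharp 𝒜 (algebraMap R A r)
    rw [AlgHom.commutes]
  obtain ⟨l, hl⟩ := (Algebra.FormallySmooth.iff_split_injection (R := R) (P := A) (A := 𝒜 0)
    (prR_surjective hsharp 𝒜)).1 inferInstance
  -- scalar compatibility on the tensor product
  have hsm : ∀ (a0 : 𝒜 0) (t : (𝒜 0) ⊗[A] Ω[A⁄R]), a0 • t = (a0 : A) • t := by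
    intro a0 t
    induction t using TensorProduct.induction_on with
    | zero => simp
    | tmul b ω =>
      rw [TensorProduct.smul_tmul', TensorProduct.smul_tmul', smul_eq_mul]
      congr 1
      rw [Algebra.smul_def]
      change a0 * b = prR hsharp 𝒜 (a0 : A) * b
      rw [show prR hsharp 𝒜 (a0 : A) = a0 from prR_incR hsharp 𝒜 a0]
    | add x y hx hy => rw [smul_add, smul_add, hx, hy]
  have hsmQ : ∀ (a0 : 𝒜 0) (q : Qm hsharp 𝒜), a0 • q = (a0 : A) • q :=
    fun a0 q => (algebraMap_smul A a0 q).symm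
  let i0 : Qm hsharp 𝒜 →ₗ[𝒜 0] (𝒜 0) ⊗[A] Ω[A⁄R] :=
    { toFun := fun q => KaehlerDifferential.kerCotangentToTensor R A (𝒜 0) q
      map_add' := fun x y => map_add _ x y
      map_smul' := fun a0 q => by
        rw [RingHom.id_apply, hsmQ, hsm]
        exact map_smul (KaehlerDifferential.kerCotangentToTensor R A (𝒜 0)) (a0 : A) q }
  let s0 : (𝒜 0) ⊗[A] Ω[A⁄R] →ₗ[𝒜 0] Qm hsharp 𝒜 :=
    { toFun := fun t => l t
      map_add' := fun x y => map_add _ x y
      map_smul' := fun a0 t => by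
        rw [RingHom.id_apply, hsmQ, hsm]
        exact map_smul l (a0 : A) t }
  have hs : s0.comp i0 = LinearMap.id := by
    ext q
    exact congrArg (fun f => f q) hl
  have hsurj : Function.Surjective s0 := fun q => ⟨i0 q, congrArg (fun f => f q) hs⟩
  exact ⟨Module.Finite.of_surjective s0 hsurj, Module.Projective.of_split i0 s0 hs⟩

end Groth.Agent.Helper27.Gs
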