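import Mathlib
import Groth.Agent.Lib.Helper27.GsB
import Groth.Agent.Lib.Helper27.GsE

/-! S18239, part F: graded section, surjectivity, and the main theorem. -/

set_option autoImplicit false

namespace Groth.Agent.Helper27.Gs

open DirectSum

universe u

variable {R : Type u} [CommRing R] {A : Type u} [CommRing A] [Algebra R A]
  {N : Type} [AddCommMonoid N] [DecidableEq N] [IsCancelAdd N]
  (hsharp : ∀ n : N, IsAddUnit n → n = 0) (𝒜 : N → Submodule R A) [GradedAlgebra 𝒜]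

section GradedSection

variable (σ₀ : Qm hsharp 𝒜 →ₗ[𝒜 0] A) (D : Finset N)

/-- The graded section built from an arbitrary section. -/
noncomputable def sig : Qm hsharp 𝒜 →ₗ[𝒜 0] A :=
  ∑ n ∈ D.erase 0, (pn 𝒜 n).comp (σ₀.comp ((dd hsharp 𝒜).comp ((pn 𝒜 n).comp σ₀)))

theorem sig_apply (q : Qm hsharp 𝒜) : sig hsharp 𝒜 σ₀ D q
    = ∑ n ∈ D.erase 0, pn 𝒜 n (σ₀ (dd hsharp 𝒜 (pn 𝒜 n (σ₀ q)))) := by
  simp [sig, LinearMap.sum_apply]

variable (hσ₀ : ∀ q, dd hsharp 𝒜 (σ₀ q) = q)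

theorem pr_sig (q : Qm hsharp 𝒜) : pr hsharp 𝒜 (sig hsharp 𝒜 σ₀ D q) = 0 := by
  rw [sig_apply, map_sum]
  refine Finset.sum_eq_zero fun n hn => ?_
  exact (mem_Ip hsharp 𝒜).1 (mem_Ip_of_mem hsharp 𝒜 (Finset.ne_of_mem_erase hn) (pn_mem 𝒜 n _))

include hσ₀ in
theorem dd_sig (h0 : (0 : N) ∈ D) (q : Qm hsharp 𝒜)
    (hD : ∀ n, pn 𝒜 n (σ₀ q) ≠ 0 → n ∈ D) : dd hsharp 𝒜 (sig hsharp 𝒜 σ₀ D q) = q := by
  rw [sig_apply, map_sum]
  have h1 : ∀ n ∈ D.erase 0, dd hsharp 𝒜 (pn 𝒜 n (σ₀ (dd hsharp 𝒜 (pn 𝒜 n (σ₀ q)))))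
      = dd hsharp 𝒜 (pn 𝒜 n (σ₀ q)) := by
    intro n hn
    rw [dd_pn_section hsharp 𝒜 σ₀ hσ₀ _ (Finset.ne_of_mem_erase hn),
      pn_of_mem 𝒜 (pn_mem 𝒜 n _)]
  rw [Finset.sum_congr rfl h1, ← map_sum, Finset.sum_erase_eq_sub h0, sum_pn 𝒜 _ D hD, map_sub,
    hσ₀, dd_of_mem_zero hsharp 𝒜 (pn_mem 𝒜 0 _), sub_zero]

include hσ₀ in
theorem sig_dd_mem {n : N} (hn : n ≠ 0) {a : A} (ha : a ∈ 𝒜 n) :
    sig hsharp 𝒜 σ₀ D (dd hsharp 𝒜 a) ∈ 𝒜 n := by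
  rw [sig_apply]
  refine Submodule.sum_mem _ fun k hk => ?_
  rw [dd_pn_section hsharp 𝒜 σ₀ hσ₀ a (Finset.ne_of_mem_erase hk)]
  by_cases hkn : k = n
  · subst hkn; exact pn_mem 𝒜 k _
  · rw [pn_of_mem_ne 𝒜 ha (Ne.symm hkn), map_zero, map_zero, map_zero]
    exact zero_mem _

end GradedSection

section Surj

variable [AddMonoid.FG N]

/-- (S): the degree `n` part of an element of `I²` lies in any subalgebra containing the
homogeneous elements of degrees strictly dividing `n`. -/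
theorem pn_mem_of_sq (T : Subalgebra (𝒜 0) A) {w : A} (hw : w ∈ Ip hsharp 𝒜 ^ 2) (n : N)
    (ih : ∀ k, Mn.SDvd k n → ∀ x ∈ 𝒜 k, x ∈ T) : pn 𝒜 n w ∈ T := by
  classical
  rw [pow_two] at hw
  refine Submodule.mul_induction_on hw ?_ ?_
  · intro x hx y hy
    have hxs := sum_support_decompose 𝒜 x
    have hys := sum_support_decompose 𝒜 y
    rw [← hxs, ← hys, Finset.sum_mul_sum, map_sum]
    refine Subalgebra.sum_mem _ fun i _ => ?_
    rw [map_sum]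
    refine Subalgebra.sum_mem _ fun j _ => ?_
    have hmem : (decompose 𝒜 x i : A) * (decompose 𝒜 y j : A) ∈ 𝒜 (i + j) :=
      SetLike.GradedMul.mul_mem (SetLike.coe_mem _) (SetLike.coe_mem _)
    by_cases hij : i + j = n
    · rw [pn_of_mem 𝒜 (hij ▸ hmem)]
      by_cases hi : i = 0
      · subst hi
        have : (decompose 𝒜 x 0 : A) = 0 := (mem_Ip' hsharp 𝒜).1 hx
        rw [this, zero_mul]; exact zero_mem _
      by_cases hj : j = 0
      · subst hj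
        have : (decompose 𝒜 y 0 : A) = 0 := (mem_Ip' hsharp 𝒜).1 hy
        rw [this, mul_zero]; exact zero_mem _
      refine Subalgebra.mul_mem _ (ih i ⟨j, hj, hij.symm⟩ _ (SetLike.coe_mem _))
        (ih j ⟨i, hi, by rw [← hij, add_comm]⟩ _ (SetLike.coe_mem _))
    · rw [pn_of_mem_ne 𝒜 hmem hij]; exact zero_mem _
  · intro x y hx hy
    rw [map_add]; exact Subalgebra.add_mem _ hx hy

theorem lift_surjective (σ : Qm hsharp 𝒜 →ₗ[𝒜 0] A)
    (hσ : ∀ q, dd hsharp 𝒜 (σ q) = q)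
    (hgr : ∀ n, n ≠ 0 → ∀ a ∈ 𝒜 n, σ (dd hsharp 𝒜 a) ∈ 𝒜 n) :
    Function.Surjective (SymmetricAlgebra.lift σ : SymmetricAlgebra (𝒜 0) (Qm hsharp 𝒜) →ₐ[𝒜 0] A) := by
  classical
  let T : Subalgebra (𝒜 0) A := (SymmetricAlgebra.lift σ).range
  have hσT : ∀ q, σ q ∈ T := fun q =>
    ⟨SymmetricAlgebra.ι (𝒜 0) _ q, SymmetricAlgebra.lift_ι_apply σ q⟩
  have key : ∀ n : N, ∀ x ∈ 𝒜 n, x ∈ T := by
    intro n
    induction n using (Mn.sdvd_wf hsharp).induction with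
    | _ n ih =>
      intro a ha
      by_cases hn : n = 0
      · subst hn
        exact Subalgebra.algebraMap_mem T (⟨a, ha⟩ : 𝒜 0)
      · have hz1 : a - σ (dd hsharp 𝒜 a) ∈ 𝒜 n := sub_mem ha (hgr n hn a ha)
        have hz2 : dd hsharp 𝒜 (a - σ (dd hsharp 𝒜 a)) = 0 := by
          rw [map_sub, hσ, sub_self]
        rw [dd_eq_zero_iff, (mem_Ip hsharp 𝒜).1 (mem_Ip_of_mem hsharp 𝒜 hn hz1)] at hz2
        have hz3 : a - σ (dd hsharp 𝒜 a) ∈ Ip hsharp 𝒜 ^ 2 := by simpa using hz2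
        have hz4 := pn_mem_of_sq hsharp 𝒜 T hz3 n ih
        rw [pn_of_mem 𝒜 hz1] at hz4
        have : a = (a - σ (dd hsharp 𝒜 a)) + σ (dd hsharp 𝒜 a) := by ring
        rw [this]
        exact Subalgebra.add_mem _ hz4 (hσT _)
  intro a
  have ha : a ∈ T := by
    rw [← sum_support_decompose 𝒜 a]
    exact Subalgebra.sum_mem _ fun n _ => key n _ (SetLike.coe_mem _)
  exact ha

end Surj

include hsharp in
theorem main [AddMonoid.FG N] [Algebra.Smooth R A] :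
    ∃ (P : Type u) (_ : AddCommGroup P) (_ : Module (𝒜 0) P), Module.Finite (𝒜 0) P ∧
      Module.Projective (𝒜 0) P ∧ Nonempty (A ≃ₐ[𝒜 0] SymmetricAlgebra (𝒜 0) P) := by
  classical
  obtain ⟨hfin, hproj⟩ := finite_projective hsharp 𝒜
  haveI := hfin
  haveI := hproj
  haveI : Algebra.FormallySmooth R A := Algebra.Smooth.formallySmooth
  refine ⟨Qm hsharp 𝒜, inferInstance, inferInstance, hfin, hproj, ?_⟩
  -- free cover
  obtain ⟨m, r, hr⟩ := Module.Finite.exists_fin' (𝒜 0) (Qm hsharp 𝒜)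
  obtain ⟨i, hi⟩ := Module.projective_lifting_property r LinearMap.id hr
  have hri : ∀ q, r (i q) = q := fun q => congrArg (fun f => f q) hi
  -- arbitrary section
  obtain ⟨σ₀, hσ₀'⟩ := Module.projective_lifting_property (dd hsharp 𝒜) LinearMap.id
    (dd_surjective hsharp 𝒜)
  have hσ₀ : ∀ q, dd hsharp 𝒜 (σ₀ q) = q := fun q => congrArg (fun f => f q) hσ₀'
  -- degrees
  let D : Finset N := insert 0 (Finset.univ.biUnion fun l : Fin m =>
    (decompose 𝒜 (σ₀ (r (ev (𝒜 0) m l)))).support)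
  have hD : ∀ q n, pn 𝒜 n (σ₀ q) ≠ 0 → n ∈ D := by
    intro q n hne
    by_contra hnD
    apply hne
    have hq : q = r (i q) := (hri q).symm
    rw [hq, LinearMap.pi_apply_eq_sum_univ r (i q), map_sum, map_sum]
    refine Finset.sum_eq_zero fun l _ => ?_
    rw [map_smul, map_smul]
    have : pn 𝒜 n (σ₀ (r (ev (𝒜 0) m l))) = 0 := by
      by_contra hne'
      apply hnD
      refine Finset.mem_insert_of_mem (Finset.mem_biUnion.2 ⟨l, Finset.mem_univ _, ?_⟩)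
      rw [DFinsupp.mem_support_iff]
      intro h0
      apply hne'
      rw [pn_apply, h0]; rfl
    have h2 : pn 𝒜 n (σ₀ (r fun j => if l = j then 1 else 0)) = 0 := this
    rw [h2, smul_zero]
  let σ := sig hsharp 𝒜 σ₀ D
  have hσ : ∀ q, dd hsharp 𝒜 (σ q) = q := fun q =>
    dd_sig hsharp 𝒜 σ₀ D hσ₀ (Finset.mem_insert_self _ _) q (hD q)
  have hσpr : ∀ q, pr hsharp 𝒜 (σ q) = 0 := pr_sig hsharp 𝒜 σ₀ D
  have hgr : ∀ n, n ≠ 0 → ∀ a ∈ 𝒜 n, σ (dd hsharp 𝒜 a) ∈ 𝒜 n :=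
    fun n hn a ha => sig_dd_mem hsharp 𝒜 σ₀ D hσ₀ hn ha
  have hinj := lift_injective (pr hsharp 𝒜) (dd hsharp 𝒜) (dd_mul hsharp 𝒜) σ hσ hσpr i r hri R
  have hsurj := lift_surjective hsharp 𝒜 σ hσ hgr
  exact ⟨(AlgEquiv.ofBijective (SymmetricAlgebra.lift σ) ⟨hinj, hsurj⟩).symm⟩

end Groth.Agent.Helper27.Gs
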