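import Mathlib
import Groth.Agent.Lib.Helper27.HasseD

set_option autoImplicit false

namespace Groth.Agent.Helper27.Hasse

open PowerSeries Finset FunFld

variable {k : Type*} {K : Type*} [Field k] [Field K] [Algebra k K]

/-- If `lam` solves all Wronskian relations then so does `D_m lam`. -/
theorem solution_deriv (h1 : Module.finrank K (Ω[K⁄k]) = 1) (s : K) (H : K →ₐ[k] K⟦X⟧)
    (hH : LocRes.IsHasseFamily s H) {ι : Type*} [Fintype ι] (φ : ι → K) (lam : ι → K)
    (hlam : ∀ j, ∑ i, lam i * coeff j (H (φ i)) = 0) (m : ℕ) :
    ∀ j, ∑ i, coeff m (H (lam i)) * coeff j (H (φ i)) = 0 := by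
  induction m using Nat.strong_induction_on with
  | _ m ih =>
    intro j
    rcases m with _ | m
    · simpa [coeff_zero_eq_constantCoeff_apply, hH.2] using hlam j
    · have h2 := congrArg (fun z => coeff (m + 1) (H z)) (hlam j)
      simp only [map_sum, map_zero, map_mul, coeff_mul] at h2
      rw [Finset.sum_comm] at h2
      rw [sum_antidiag_split] at h2
      -- the `(0, m+1)` term
      have t1 : ∑ i, coeff 0 (H (lam i)) * coeff (m + 1) (H (coeff j (H (φ i)))) = 0 := by
        have := ih 0 (by omega) (m + 1 + j)
        rw [← mul_zero (((m + 1 + j).choose j : ℕ) : K), ← this, Finset.mul_sum]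
        refine Finset.sum_congr rfl fun i _ => ?_
        rw [hasse_iter h1 s H hH]
        ring
      have t3 : ∑ x ∈ range m, ∑ i, coeff (x + 1) (H (lam i)) *
          coeff (m - x) (H (coeff j (H (φ i)))) = 0 := by
        refine Finset.sum_eq_zero fun x hx => ?_
        have hx' := Finset.mem_range.1 hx
        have := ih (x + 1) (by omega) (m - x + j)
        rw [← mul_zero (((m - x + j).choose j : ℕ) : K), ← this, Finset.mul_sum]
        refine Finset.sum_congr rfl fun i _ => ?_
        rw [hasse_iter h1 s H hH]
        ring
      rw [t1, t3, zero_add, add_zero] at h2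
      rw [← h2]
      refine Finset.sum_congr rfl fun i _ => ?_
      rw [coeff_zero_eq_constantCoeff_apply, hH.2]

open scoped Classical in
theorem wronskian_full_rank (hK : IsFunctionField k K) (h1 : Module.finrank K (Ω[K⁄k]) = 1)
    (s : K) (H : K →ₐ[k] K⟦X⟧) (hH : LocRes.IsHasseFamily s H) {ι : Type*} [Fintype ι]
    [DecidableEq ι] (φ : ι → K) (hφ : LinearIndependent k φ) :
    ∀ lam : ι → K, (∀ j, ∑ i, lam i * coeff j (H (φ i)) = 0) → lam = 0 := by
  have main : ∀ N : ℕ, ∀ lam : ι → K, (Finset.univ.filter fun i => lam i ≠ 0).card = N →
      (∀ j, ∑ i, lam i * coeff j (H (φ i)) = 0) → lam = 0 := by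
    intro N
    induction N using Nat.strong_induction_on with
    | _ N ih =>
      intro lam hcard hlam
      by_contra hne
      obtain ⟨i₀, hi₀⟩ : ∃ i₀, lam i₀ ≠ 0 := by
        by_contra h
        push Not at h
        exact hne (funext h)
      set lam' : ι → K := fun i => lam i / lam i₀ with hlam'
      have hsol' : ∀ j, ∑ i, lam' i * coeff j (H (φ i)) = 0 := by
        intro j
        have := hlam j
        simp only [hlam', div_mul_eq_mul_div, ← Finset.sum_div, this, zero_div]
      have hconst : ∀ i, ∀ m, 1 ≤ m → coeff m (H (lam' i)) = 0 := by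
        intro i m hm
        have hsolm := solution_deriv h1 s H hH φ lam' hsol' m
        have hμ := ih ((Finset.univ.filter fun i => coeff m (H (lam' i)) ≠ 0).card) ?_
          (fun i => coeff m (H (lam' i))) rfl hsolm
        · exact congrFun hμ i
        · rw [← hcard]
          apply Finset.card_lt_card
          refine ⟨fun i hi => ?_, fun hsub => ?_⟩
          · rw [Finset.mem_filter] at hi ⊢
            refine ⟨Finset.mem_univ _, fun h0 => hi.2 ?_⟩
            simp only [hlam', h0, zero_div, map_zero]
          · have := hsub (Finset.mem_filter.2 ⟨Finset.mem_univ i₀, hi₀⟩)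
            rw [Finset.mem_filter] at this
            apply this.2
            simp only [hlam', div_self hi₀, map_one]
            rw [coeff_one, if_neg (by omega)]
      have hk : ∀ i, lam' i ∈ Set.range (algebraMap k K) := by
        intro i
        apply hasse_const hK s H hH
        ext m
        rcases m with _ | m
        · rw [coeff_zero_eq_constantCoeff_apply, hH.2, coeff_zero_eq_constantCoeff_apply,
            constantCoeff_C]
        · rw [hconst i (m + 1) (by omega), coeff_C, if_neg (by omega)]
      choose c hc using hk
      have h0 := hsol' 0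
      simp only [coeff_zero_eq_constantCoeff_apply, hH.2] at h0
      have h0' : ∑ i, c i • φ i = 0 := by
        rw [← h0]
        refine Finset.sum_congr rfl fun i _ => ?_
        rw [Algebra.smul_def, hc]
      have hc0 := Fintype.linearIndependent_iff.1 hφ c h0' i₀
      have : lam' i₀ = 0 := by rw [← hc i₀, hc0, map_zero]
      simp only [hlam', div_self hi₀] at this
      exact one_ne_zero this
  intro lam hlam
  exact main _ lam rfl hlam

end Groth.Agent.Helper27.Hasse
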