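import Mathlib
import Groth.Prelude.Def_W4bk4goldsch45p2

set_option autoImplicit false

namespace Groth.Agent.Helper27.Hasse

open FunFld Set

variable {K V : Type*} [Field K] [AddCommGroup V] [Module K V]

theorem isJump_iff (c : ℕ → V) (j : ℕ) :
    IsJump K c j ↔ c j ∉ Submodule.span K (c '' Set.Iio j) := Iff.rfl

theorem jump_linearIndepOn_lt (c : ℕ → V) (m : ℕ) :
    LinearIndepOn K c ({j | IsJump K c j} ∩ Set.Iio m) := by
  induction m with
  | zero =>
    have : ({j | IsJump K c j} ∩ Set.Iio 0 : Set ℕ) = ∅ := by ext j; simp
    rw [this]; exact linearIndepOn_empty K c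
  | succ m ih =>
    by_cases hm : IsJump K c m
    · have : ({j | IsJump K c j} ∩ Set.Iio (m + 1) : Set ℕ) =
          insert m ({j | IsJump K c j} ∩ Set.Iio m) := by
        ext j
        simp only [mem_inter_iff, mem_setOf_eq, mem_Iio, mem_insert_iff]
        constructor
        · rintro ⟨h1, h2⟩
          rcases (show j < m ∨ j = m by omega) with h | h
          · exact Or.inr ⟨h1, h⟩
          · exact Or.inl h
        · rintro (rfl | ⟨h1, h2⟩)
          · exact ⟨hm, by omega⟩
          · exact ⟨h1, by omega⟩
      rw [this]
      refine ih.insert fun hmem => hm ?_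
      exact Submodule.span_mono (Set.image_mono Set.inter_subset_right) hmem
    · have : ({j | IsJump K c j} ∩ Set.Iio (m + 1) : Set ℕ) =
          {j | IsJump K c j} ∩ Set.Iio m := by
        ext j
        simp only [mem_inter_iff, mem_setOf_eq, mem_Iio]
        constructor
        · rintro ⟨h1, h2⟩
          refine ⟨h1, ?_⟩
          rcases (show j < m ∨ j = m by omega) with h | h
          · exact h
          · subst h; exact absurd h1 hm
        · rintro ⟨h1, h2⟩; exact ⟨h1, by omega⟩
      rw [this]; exact ih

theorem jump_linearIndepOn (c : ℕ → V) : LinearIndepOn K c {j | IsJump K c j} := by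
  refine linearIndepOn_of_finite _ fun t ht hfin => ?_
  obtain ⟨m, hm⟩ : ∃ m, ∀ j ∈ t, j < m := by
    obtain ⟨m, hm⟩ := hfin.bddAbove
    exact ⟨m + 1, fun j hj => Nat.lt_succ_of_le (hm hj)⟩
  exact (jump_linearIndepOn_lt c m).mono fun j hj => ⟨ht hj, hm j hj⟩

theorem mem_span_jump (c : ℕ → V) (j : ℕ) :
    c j ∈ Submodule.span K (c '' {j | IsJump K c j}) := by
  induction j using Nat.strong_induction_on with
  | _ j ih =>
    by_cases hj : IsJump K c j
    · exact Submodule.subset_span ⟨j, hj, rfl⟩
    · have : c j ∈ Submodule.span K (c '' Set.Iio j) := not_not.1 hj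
      refine Submodule.span_le.2 ?_ this
      rintro _ ⟨i, hi, rfl⟩
      exact ih i hi

theorem span_jump (c : ℕ → V) :
    Submodule.span K (c '' {j | IsJump K c j}) = Submodule.span K (Set.range c) := by
  apply le_antisymm (Submodule.span_mono (Set.image_subset_range _ _))
  rw [Submodule.span_le]
  rintro _ ⟨j, rfl⟩
  exact mem_span_jump c j

theorem jump_finite [FiniteDimensional K V] (c : ℕ → V) : {j | IsJump K c j}.Finite := by
  have := (jump_linearIndepOn (K := K) c)
  have hf : Finite {j | IsJump K c j} := LinearIndependent.finite_of_isNoetherian this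
  exact Set.toFinite _

theorem jump_ncard [FiniteDimensional K V] (c : ℕ → V)
    (hc : Submodule.span K (Set.range c) = ⊤) :
    {j | IsJump K c j}.ncard = Module.finrank K V := by
  have hli := (jump_linearIndepOn (K := K) c)
  have hfin := jump_finite (K := K) c
  haveI : Fintype {j | IsJump K c j} := hfin.fintype
  have h1 := finrank_span_eq_card hli
  have h2 : Set.range (fun x : {j | IsJump K c j} => c x) = c '' {j | IsJump K c j} := by
    ext v; simp
  rw [h2, span_jump, hc, finrank_top] at h1
  rw [h1, Set.ncard_eq_toFinset_card', Set.toFinset_card]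

end Groth.Agent.Helper27.Hasse
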