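import Mathlib
import Groth.Agent.Lib.Helper27.HasseE
import Groth.Agent.Lib.Helper27.JumpA

set_option autoImplicit false

namespace Groth.Agent.Helper27.Hasse

open PowerSeries Finset FunFld

variable {k : Type*} {K : Type*} [Field k] [Field K] [Algebra k K]

theorem hcol_zero {ι : Type*} (τ : K →ₐ[k] K) (H : K →ₐ[k] K⟦X⟧) (φ : ι → K) :
    hcol τ H φ 0 = fun i => τ (φ i) := rfl

theorem hcol_succ {ι : Type*} (τ : K →ₐ[k] K) (H : K →ₐ[k] K⟦X⟧) (φ : ι → K) (j : ℕ) :
    hcol τ H φ (j + 1) = fun i => coeff j (H (φ i)) := rfl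

/-- a vector killing all columns is zero -/
theorem eq_zero_of_dot_hcol (hK : IsFunctionField k K) (h1 : Module.finrank K (Ω[K⁄k]) = 1)
    (s : K) (H : K →ₐ[k] K⟦X⟧) (hH : LocRes.IsHasseFamily s H) {n : ℕ} (τ : K →ₐ[k] K)
    (φ : Fin (n + 1) → K) (hφ : LinearIndependent k φ) (lam : Fin (n + 1) → K)
    (h : ∀ j, ∑ i, lam i * hcol τ H φ (j + 1) i = 0) : lam = 0 :=
  wronskian_full_rank hK h1 s H hH φ hφ lam (fun j => by simpa [hcol_succ] using h j)

theorem span_hcol_eq_top (hK : IsFunctionField k K) (h1 : Module.finrank K (Ω[K⁄k]) = 1)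
    (s : K) (H : K →ₐ[k] K⟦X⟧) (hH : LocRes.IsHasseFamily s H) {n : ℕ} (τ : K →ₐ[k] K)
    (φ : Fin (n + 1) → K) (hφ : LinearIndependent k φ) :
    Submodule.span K (Set.range (hcol τ H φ)) = ⊤ := by
  by_contra hne
  obtain ⟨f, hf0, hf⟩ := Submodule.exists_le_ker_of_lt_top _ (lt_top_iff_ne_top.2 hne)
  set lam : Fin (n + 1) → K := fun i => f (fun j => if i = j then 1 else 0) with hlam
  have hfx : ∀ x : Fin (n + 1) → K, f x = ∑ i, lam i * x i := by
    intro x
    rw [LinearMap.pi_apply_eq_sum_univ f x]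
    refine Finset.sum_congr rfl fun i _ => ?_
    rw [smul_eq_mul, mul_comm]
  have hz : lam = 0 := by
    apply eq_zero_of_dot_hcol hK h1 s H hH τ φ hφ
    intro j
    rw [← hfx]
    exact hf (Submodule.subset_span ⟨j + 1, rfl⟩)
  apply hf0
  refine LinearMap.ext fun x => ?_
  rw [hfx, hz]; simp

end Groth.Agent.Helper27.Hasse
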