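import Mathlib
import Groth.Agent.Lib.Helper27.HasseF

set_option autoImplicit false

namespace Groth.Agent.Helper27.Hasse

open PowerSeries Finset FunFld

variable {k : Type*} {K : Type*} [Field k] [Field K] [Algebra k K]

theorem isJump_zero_iff {V : Type*} [AddCommGroup V] [Module K V] (c : ℕ → V) :
    IsJump K c 0 ↔ c 0 ≠ 0 := by
  rw [isJump_iff]
  have : (c '' Set.Iio 0) = ∅ := by ext v; simp
  rw [this, Submodule.span_empty, Submodule.mem_bot]

theorem exists_orders {n : ℕ} (c : ℕ → (Fin (n + 1) → K)) (hc0 : c 0 ≠ 0)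
    (hspan : Submodule.span K (Set.range c) = ⊤) :
    ∃ J : Fin n → ℕ, IsOrders K c J := by
  classical
  set S : Set ℕ := {j | IsJump K c j} with hS
  set S' : Set ℕ := {j | IsJump K c (j + 1)} with hS'
  have hSfin : S.Finite := jump_finite (K := K) c
  have hScard : S.ncard = n + 1 := by
    rw [hS, jump_ncard (K := K) c hspan, Module.finrank_fin_fun]
  have hS'fin : S'.Finite := by
    have : S' = Nat.succ ⁻¹' S := by ext j; rfl
    rw [this]
    exact hSfin.preimage (Nat.succ_injective.injOn)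
  have hSeq : S = insert 0 (Nat.succ '' S') := by
    ext j
    simp only [hS, hS', Set.mem_insert_iff, Set.mem_image]
    constructor
    · intro hj
      rcases j with _ | j
      · exact Or.inl rfl
      · exact Or.inr ⟨j, hj, rfl⟩
    · rintro (rfl | ⟨j', hj', rfl⟩)
      · exact (isJump_zero_iff c).2 hc0
      · exact hj'
  have hcard' : S'.ncard = n := by
    have h0 : (0 : ℕ) ∉ Nat.succ '' S' := by
      rintro ⟨j, -, hj⟩; exact Nat.succ_ne_zero j hj
    have := hScard
    rw [hSeq, Set.ncard_insert_of_notMem h0 (hS'fin.image _),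
      Set.ncard_image_of_injective _ Nat.succ_injective] at this
    omega
  have hcardf : hS'fin.toFinset.card = n := by
    rw [← Set.ncard_eq_toFinset_card S' hS'fin]; exact hcard'
  refine ⟨hS'fin.toFinset.orderEmbOfFin hcardf, (OrderEmbedding.strictMono _), fun j => ?_⟩
  have hr := Finset.range_orderEmbOfFin hS'fin.toFinset hcardf
  rw [hr]
  simp [hS']

theorem det_wrMat_ne_zero {n : ℕ} (τ : K →ₐ[k] K) (H : K →ₐ[k] K⟦X⟧) (φ : Fin (n + 1) → K)
    (J : Fin n → ℕ) (hJ : IsOrders K (hcol τ H φ) J)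
    (hspan : Submodule.span K (Set.range (hcol τ H φ)) = ⊤) :
    (wrMat τ H φ J).det ≠ 0 := by
  classical
  intro hdet
  obtain ⟨v, hv0, hv⟩ := Matrix.exists_vecMul_eq_zero_iff.2 hdet
  set c := hcol τ H φ with hc
  let f : (Fin (n + 1) → K) →ₗ[K] K :=
    { toFun := fun x => ∑ i, v i * x i
      map_add' := fun x y => by simp [mul_add, Finset.sum_add_distrib]
      map_smul' := fun r x => by simp [Finset.mul_sum, mul_left_comm] }
  have hcol0 : f (c 0) = 0 := by
    have := congrFun hv 0
    simpa [Matrix.vecMul, dotProduct, wrMat, f, hc, hcol_zero] using this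
  have hcolJ : ∀ l : Fin n, f (c (J l + 1)) = 0 := by
    intro l
    have := congrFun hv l.succ
    simpa [Matrix.vecMul, dotProduct, wrMat, f, hc, hcol_succ, LocRes.hasseD] using this
  have hker : Submodule.span K (c '' {j | IsJump K c j}) ≤ LinearMap.ker f := by
    rw [Submodule.span_le]
    rintro _ ⟨j, hj, rfl⟩
    rcases j with _ | j
    · exact hcol0
    · obtain ⟨l, hl⟩ := (hJ.2 j).2 hj
      rw [← hl]; exact hcolJ l
  rw [span_jump, hspan] at hker
  apply hv0
  funext i
  have := hker (Submodule.mem_top (x := Pi.single i 1))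
  simpa [f, Pi.single_apply] using this

theorem main12600 [IsAlgClosed k] (hK : IsFunctionField k K) {n : ℕ} (φ : Fin (n + 1) → K)
    (hφ : LinearIndependent k φ) (τ : K →ₐ[k] K) (s : K) (H : K →ₐ[k] K⟦X⟧)
    (hH : LocRes.IsHasseFamily s H) :
    ∃ J : Fin n → ℕ, IsOrders K (hcol τ H φ) J ∧ (wrMat τ H φ J).det ≠ 0 := by
  have h1 := finrank_kaehler_of_isAlgClosed hK
  have hspan := span_hcol_eq_top hK h1 s H hH τ φ hφ
  have hc0 : hcol τ H φ 0 ≠ 0 := by
    rw [hcol_zero]
    intro h0
    have := congrFun h0 0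
    simp only [Pi.zero_apply] at this
    have hφ0 : φ 0 = 0 := (map_eq_zero_iff τ τ.toRingHom.injective).1 this
    exact hφ.ne_zero 0 hφ0
  obtain ⟨J, hJ⟩ := exists_orders (hcol τ H φ) hc0 hspan
  exact ⟨J, hJ, det_wrMat_ne_zero τ H φ J hJ hspan⟩

end Groth.Agent.Helper27.Hasse
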