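import Mathlib
import Groth.Agent.Lib.Helper27.JumpA

set_option autoImplicit false

namespace Groth.Agent.Helper27.Hasse

open FunFld Set

variable {K V : Type*} [Field K] [AddCommGroup V] [Module K V]

theorem mem_span_jump_lt (c : ℕ → V) (m : ℕ) (j : ℕ) (hj : j < m) :
    c j ∈ Submodule.span K (c '' ({j | IsJump K c j} ∩ Set.Iio m)) := by
  induction j using Nat.strong_induction_on with
  | _ j ih =>
    by_cases hjj : IsJump K c j
    · exact Submodule.subset_span ⟨j, ⟨hjj, hj⟩, rfl⟩
    · have : c j ∈ Submodule.span K (c '' Set.Iio j) := not_not.1 hjj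
      refine Submodule.span_le.2 ?_ this
      rintro _ ⟨i, hi, rfl⟩
      exact ih i hi (lt_trans hi hj)

theorem span_Iio_eq_span_jump (c : ℕ → V) (m : ℕ) :
    Submodule.span K (c '' Set.Iio m) =
      Submodule.span K (c '' ({j | IsJump K c j} ∩ Set.Iio m)) := by
  apply le_antisymm
  · rw [Submodule.span_le]
    rintro _ ⟨j, hj, rfl⟩
    exact mem_span_jump_lt c m j hj
  · exact Submodule.span_mono (Set.image_mono Set.inter_subset_right)

theorem span_Iio_eq_of_tri (c c' : ℕ → V) (d : ℕ → K) (hd : ∀ m, d m ≠ 0)
    (h : ∀ m, c' m - d m • c m ∈ Submodule.span K (c '' Set.Iio m)) (m : ℕ) :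
    Submodule.span K (c' '' Set.Iio m) = Submodule.span K (c '' Set.Iio m) := by
  induction m with
  | zero => simp
  | succ m ih =>
    have hI : Set.Iio (m + 1) = insert m (Set.Iio m) := by
      ext j; simp only [mem_Iio, mem_insert_iff]; omega
    rw [hI, Set.image_insert_eq, Set.image_insert_eq, Submodule.span_insert, Submodule.span_insert,
      ih]
    apply le_antisymm
    · refine sup_le ?_ le_sup_right
      rw [Submodule.span_singleton_le_iff_mem]
      have : c' m = d m • c m + (c' m - d m • c m) := by abel
      rw [this]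
      refine Submodule.add_mem _ ?_ (Submodule.mem_sup_right (h m))
      exact Submodule.mem_sup_left (Submodule.smul_mem _ _ (Submodule.mem_span_singleton_self _))
    · refine sup_le ?_ le_sup_right
      rw [Submodule.span_singleton_le_iff_mem]
      have : c m = (d m)⁻¹ • (c' m - (c' m - d m • c m)) := by
        rw [sub_sub_cancel, smul_smul, inv_mul_cancel₀ (hd m), one_smul]
      rw [this]
      refine Submodule.smul_mem _ _ (Submodule.sub_mem _ ?_ (Submodule.mem_sup_right (h m)))
      exact Submodule.mem_sup_left (Submodule.mem_span_singleton_self _)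

theorem isJump_iff_of_tri (c c' : ℕ → V) (d : ℕ → K) (hd : ∀ m, d m ≠ 0)
    (h : ∀ m, c' m - d m • c m ∈ Submodule.span K (c '' Set.Iio m)) (m : ℕ) :
    IsJump K c' m ↔ IsJump K c m := by
  unfold IsJump
  rw [span_Iio_eq_of_tri c c' d hd h m, not_iff_not]
  constructor
  · intro h1
    have h2 : d m • c m ∈ Submodule.span K (c '' Set.Iio m) := by
      have : d m • c m = c' m - (c' m - d m • c m) := by abel
      rw [this]; exact Submodule.sub_mem _ h1 (h m)
    exact (Submodule.smul_mem_iff _ (hd m)).1 h2
  · intro h1
    have : c' m = d m • c m + (c' m - d m • c m) := by abel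
    rw [this]
    exact Submodule.add_mem _ (Submodule.smul_mem _ _ h1) (h m)

theorem isOrders_iff_of_tri (c c' : ℕ → V) (d : ℕ → K) (hd : ∀ m, d m ≠ 0)
    (h : ∀ m, c' m - d m • c m ∈ Submodule.span K (c '' Set.Iio m)) {n : ℕ} (J : Fin n → ℕ) :
    IsOrders K c' J ↔ IsOrders K c J := by
  unfold IsOrders
  simp only [isJump_iff_of_tri c c' d hd h]

/-- Determinant of a triangular change of columns. -/
theorem det_of_tri {N : ℕ} (v v' : Fin N → (Fin N → K)) (d : Fin N → K)
    (h : ∀ c, v' c - d c • v c ∈ Submodule.span K (v '' {b | b < c})) :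
    (Matrix.of fun i c => v' c i).det = (∏ c, d c) * (Matrix.of fun i c => v c i).det := by
  classical
  have hex : ∀ c, ∃ l ∈ Finsupp.supported K K {b | b < c},
      Finsupp.linearCombination K v l = v' c - d c • v c := fun c =>
    (Finsupp.mem_span_image_iff_linearCombination K).1 (h c)
  choose l hl hlv using hex
  set T : Matrix (Fin N) (Fin N) K := Matrix.of fun b c => l c b + if b = c then d c else 0 with hT
  have hprod : (Matrix.of fun i c => v' c i) = (Matrix.of fun i c => v c i) * T := by
    ext i c
    rw [Matrix.mul_apply]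
    simp only [Matrix.of_apply, hT]
    have h2 := congrFun (hlv c) i
    rw [Finsupp.linearCombination_apply, Finsupp.sum_fintype _ _ (by simp)] at h2
    simp only [Finset.sum_apply, Pi.smul_apply, smul_eq_mul, Pi.sub_apply] at h2
    simp only [mul_add, Finset.sum_add_distrib, mul_ite, mul_zero, Finset.sum_ite_eq',
      Finset.mem_univ, if_true]
    have h3 : ∑ x, v x i * l c x = v' c i - d c * v c i := by
      rw [← h2]; exact Finset.sum_congr rfl fun x _ => mul_comm _ _
    rw [h3]; ring
  have htri : T.BlockTriangular id := by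
    intro b c hbc
    simp only [id] at hbc
    simp only [hT, Matrix.of_apply]
    have h0 : l c b = 0 := by
      have := hl c
      rw [Finsupp.mem_supported'] at this
      exact this b (by simp only [mem_setOf_eq, not_lt]; exact le_of_lt hbc)
    rw [h0, if_neg (ne_of_gt hbc), add_zero]
  rw [hprod, Matrix.det_mul, Matrix.det_of_upperTriangular htri, mul_comm]
  congr 1
  refine Finset.prod_congr rfl fun c _ => ?_
  simp only [hT, Matrix.of_apply, if_true]
  have h0 : l c c = 0 := by
    have := hl c
    rw [Finsupp.mem_supported'] at this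
    exact this c (by simp)
  rw [h0, zero_add]

end Groth.Agent.Helper27.Hasse
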