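import Mathlib
import Groth.Agent.Lib.Helper27.HasseG
import Groth.Agent.Lib.Helper27.JumpB

set_option autoImplicit false

namespace Groth.Agent.Helper27.Hasse

open PowerSeries Finset FunFld

variable {k : Type*} {K : Type*} [Field k] [Field K] [Algebra k K]

theorem constantCoeff_subst' (w f : K⟦X⟧) (hw : constantCoeff w = 0) :
    constantCoeff (f.subst w) = constantCoeff f := by
  have hs : HasSubst w := HasSubst.of_constantCoeff_zero' hw
  have hf : f = C (constantCoeff f) + (f - C (constantCoeff f)) := by abel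
  conv_lhs => rw [hf]
  rw [subst_add hs, map_add]
  have h1 : constantCoeff ((f - C (constantCoeff f)).subst w) = 0 :=
    constantCoeff_subst_eq_zero hw _ (by simp)
  have h2 : (C (constantCoeff f) : K⟦X⟧).subst w = C (constantCoeff f) := by
    rw [subst_C]; rfl
  rw [h1, h2, add_zero, constantCoeff_C]

theorem coeff_pow_of_lt (w : K⟦X⟧) (hw : constantCoeff w = 0) (i j : ℕ) (hij : j < i) :
    coeff j (w ^ i) = 0 := by
  obtain ⟨w', rfl⟩ := X_dvd_iff.2 hw
  rw [mul_pow, coeff_X_pow_mul', if_neg (by omega)]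

theorem coeff_pow_self (w : K⟦X⟧) (hw : constantCoeff w = 0) (j : ℕ) :
    coeff j (w ^ j) = (coeff 1 w) ^ j := by
  obtain ⟨w', rfl⟩ := X_dvd_iff.2 hw
  rw [mul_pow, coeff_X_pow_mul', if_pos le_rfl, Nat.sub_self, coeff_zero_eq_constantCoeff_apply,
    map_pow]
  congr 1
  have := coeff_X_pow_mul' w' 1 1
  rw [pow_one, if_pos le_rfl, Nat.sub_self, coeff_zero_eq_constantCoeff_apply] at this
  exact this.symm

theorem subst_eq (h1 : Module.finrank K (Ω[K⁄k]) = 1) (s : K) (Hs : K →ₐ[k] K⟦X⟧)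
    (hHs : LocRes.IsHasseFamily s Hs) (Ht : K →ₐ[k] K⟦X⟧) (h0 : ∀ y, constantCoeff (Ht y) = y)
    (y : K) : Ht y = (Hs y).subst (Ht s - C s) := by
  have hw : constantCoeff (Ht s - C s) = 0 := by rw [map_sub, h0, constantCoeff_C, sub_self]
  have hs : HasSubst (Ht s - C s) := HasSubst.of_constantCoeff_zero' hw
  have := lift_unique (k := k) h1 s (ds_ne_zero s Hs hHs) (RingHom.id K) (Ht : K →+* K⟦X⟧)
    (((substAlgHom hs : K⟦X⟧ →ₐ[K] K⟦X⟧) : K⟦X⟧ →+* K⟦X⟧).comp (Hs : K →+* K⟦X⟧))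
    (fun y => h0 y)
    (fun y => by
      show constantCoeff (substAlgHom hs (Hs y)) = y
      rw [coe_substAlgHom]
      exact (constantCoeff_subst' _ _ hw).trans (hHs.2 y))
    (fun c => by
      show Ht (algebraMap k K c) = substAlgHom hs (Hs (algebraMap k K c))
      rw [H_algebraMap, H_algebraMap, coe_substAlgHom, subst_C]; rfl)
    (by
      show Ht s = substAlgHom hs (Hs s)
      rw [hHs.1, coe_substAlgHom, subst_add hs, subst_C, subst_X hs]
      show Ht s = C s + (Ht s - C s)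
      abel)
  have h2 : Ht y = substAlgHom hs (Hs y) := congrArg (fun f : K →+* K⟦X⟧ => f y) this
  rw [h2, coe_substAlgHom]

theorem coeff_change (h1 : Module.finrank K (Ω[K⁄k]) = 1) (s : K) (Hs : K →ₐ[k] K⟦X⟧)
    (hHs : LocRes.IsHasseFamily s Hs) (Ht : K →ₐ[k] K⟦X⟧) (h0 : ∀ y, constantCoeff (Ht y) = y)
    (y : K) (j : ℕ) :
    coeff j (Ht y) = ∑ i ∈ range (j + 1), coeff i (Hs y) * coeff j ((Ht s - C s) ^ i) := by
  have hw : constantCoeff (Ht s - C s) = 0 := by rw [map_sub, h0, constantCoeff_C, sub_self]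
  have hs : HasSubst (Ht s - C s) := HasSubst.of_constantCoeff_zero' hw
  rw [subst_eq h1 s Hs hHs Ht h0 y, coeff_subst' hs]
  rw [finsum_eq_sum_of_support_subset (s := range (j + 1))]
  · simp only [smul_eq_mul]
  · intro i hi
    rw [Function.mem_support] at hi
    simp only [coe_range, Set.mem_Iio]
    by_contra hlt
    apply hi
    rw [coeff_pow_of_lt _ hw i j (by omega), smul_zero]

theorem hasseD_one_mul (h1 : Module.finrank K (Ω[K⁄k]) = 1) (s : K) (Hs : K →ₐ[k] K⟦X⟧)
    (hHs : LocRes.IsHasseFamily s Hs) (t : K) (Ht : K →ₐ[k] K⟦X⟧)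
    (hHt : LocRes.IsHasseFamily t Ht) :
    coeff 1 (Ht s) * coeff 1 (Hs t) = 1 := by
  have := coeff_change h1 t Ht hHt Hs hHs.2 s 1
  rw [hHs.1] at this
  simp only [map_add, coeff_C, coeff_one_X, one_ne_zero, if_false, zero_add,
    Finset.sum_range_succ, Finset.range_zero, Finset.sum_empty, pow_zero, pow_one, map_sub,
    coeff_one, mul_zero, sub_zero] at this
  exact this.symm

/-- The triangular relation between the Hasse columns with respect to `t` and `s`. -/
theorem hcol_tri (h1 : Module.finrank K (Ω[K⁄k]) = 1) {ι : Type*} (φ : ι → K) (τ : K →ₐ[k] K)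
    (s : K) (Hs : K →ₐ[k] K⟦X⟧) (hHs : LocRes.IsHasseFamily s Hs) (Ht : K →ₐ[k] K⟦X⟧)
    (h0 : ∀ y, constantCoeff (Ht y) = y) (m : ℕ) :
    hcol τ Ht φ m - (Nat.casesOn m (1 : K) (fun j => (coeff 1 (Ht s)) ^ j) : K) • hcol τ Hs φ m ∈
      Submodule.span K (hcol τ Hs φ '' Set.Iio m) := by
  cases m with
  | zero =>
    have : hcol τ Ht φ 0 - (1 : K) • hcol τ Hs φ 0 = 0 := by
      rw [one_smul]; exact sub_self _
    show hcol τ Ht φ 0 - (1 : K) • hcol τ Hs φ 0 ∈ _
    rw [this]; exact Submodule.zero_mem _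
  | succ j =>
    show hcol τ Ht φ (j + 1) - (coeff 1 (Ht s)) ^ j • hcol τ Hs φ (j + 1) ∈ _
    have hw : constantCoeff (Ht s - C s) = 0 := by rw [map_sub, h0, constantCoeff_C, sub_self]
    have key : hcol τ Ht φ (j + 1) - (coeff 1 (Ht s)) ^ j • hcol τ Hs φ (j + 1) =
        ∑ i ∈ range j, coeff j ((Ht s - C s) ^ i) • hcol τ Hs φ (i + 1) := by
      funext a
      simp only [Pi.sub_apply, Pi.smul_apply, smul_eq_mul, Finset.sum_apply, hcol,
        LocRes.hasseD_apply]
      rw [coeff_change h1 s Hs hHs Ht h0 (φ a) j, Finset.sum_range_succ, coeff_pow_self _ hw]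
      have : coeff 1 (Ht s - C s) = coeff 1 (Ht s) := by
        rw [map_sub, coeff_C, if_neg one_ne_zero, sub_zero]
      rw [this]
      have h3 : ∀ i ∈ range j, coeff i (Hs (φ a)) * coeff j ((Ht s - C s) ^ i) =
          coeff j ((Ht s - C s) ^ i) * coeff i (Hs (φ a)) := fun i _ => mul_comm _ _
      rw [Finset.sum_congr rfl h3]
      ring
    rw [key]
    refine Submodule.sum_mem _ fun i hi => Submodule.smul_mem _ _ (Submodule.subset_span ?_)
    exact ⟨i + 1, by simp only [Set.mem_Iio]; have := Finset.mem_range.1 hi; omega, rfl⟩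

end Groth.Agent.Helper27.Hasse
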