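import Mathlib
import Groth.Agent.Lib.Helper27.HasseH

set_option autoImplicit false

namespace Groth.Agent.Helper27.Hasse

open PowerSeries Finset FunFld

variable {k : Type*} {K : Type*} [Field k] [Field K] [Algebra k K]

/-- The column index function attached to an order sequence. -/
def shiftIdx {n : ℕ} (J : Fin n → ℕ) (c : Fin (n + 1)) : ℕ :=
  Fin.cases (motive := fun _ => ℕ) 0 (fun l => J l + 1) c

@[simp] theorem shiftIdx_zero {n : ℕ} (J : Fin n → ℕ) : shiftIdx J 0 = 0 := rfl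

@[simp] theorem shiftIdx_succ {n : ℕ} (J : Fin n → ℕ) (l : Fin n) :
    shiftIdx J l.succ = J l + 1 := rfl

theorem wrMat_eq {n : ℕ} (τ : K →ₐ[k] K) (H : K →ₐ[k] K⟦X⟧) (φ : Fin (n + 1) → K)
    (J : Fin n → ℕ) :
    wrMat τ H φ J = Matrix.of fun i c => hcol τ H φ (shiftIdx J c) i := by
  ext i c
  refine Fin.cases ?_ (fun l => ?_) c
  · simp [wrMat, hcol]
  · simp [wrMat, hcol]

theorem span_Iio_shiftIdx {V : Type*} [AddCommGroup V] [Module K V] (cs : ℕ → V) {n : ℕ}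
    (J : Fin n → ℕ) (hJ : IsOrders K cs J) (c : Fin (n + 1)) :
    Submodule.span K (cs '' Set.Iio (shiftIdx J c)) ≤
      Submodule.span K ((fun b => cs (shiftIdx J b)) '' {b | b < c}) := by
  rw [span_Iio_eq_span_jump]
  apply Submodule.span_mono
  rintro _ ⟨j, ⟨hj, hjc⟩, rfl⟩
  simp only [Set.mem_Iio] at hjc
  revert hjc
  refine Fin.cases ?_ (fun c' => ?_) c
  · intro hjc; simp at hjc
  · intro hjc
    rw [shiftIdx_succ] at hjc
    cases j with
    | zero => exact ⟨0, Fin.succ_pos c', rfl⟩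
    | succ j' =>
      obtain ⟨l, hl⟩ := (hJ.2 j').2 hj
      refine ⟨l.succ, ?_, ?_⟩
      · show l.succ < c'.succ
        rw [Fin.succ_lt_succ_iff, ← hJ.1.lt_iff_lt, hl]; omega
      · show cs (shiftIdx J l.succ) = cs (j' + 1)
        rw [shiftIdx_succ, hl]

theorem main12598 [IsAlgClosed k] (hK : IsFunctionField k K) {n : ℕ} (φ : Fin (n + 1) → K)
    (τ : K →ₐ[k] K) (s : K) (Hs : K →ₐ[k] K⟦X⟧) (hHs : LocRes.IsHasseFamily s Hs)
    (t : K) (Ht : K →ₐ[k] K⟦X⟧) (hHt : LocRes.IsHasseFamily t Ht) :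
    (∀ J : Fin n → ℕ, IsOrders K (hcol τ Ht φ) J ↔ IsOrders K (hcol τ Hs φ) J) ∧
    ∀ J : Fin n → ℕ, IsOrders K (hcol τ Hs φ) J →
      (wrMat τ Ht φ J).det =
        LocRes.hasseD Ht 1 s ^ (∑ l, J l) * (wrMat τ Hs φ J).det := by
  have h1 := finrank_kaehler_of_isAlgClosed hK
  set u : K := coeff 1 (Ht s) with hu
  have hune : u ≠ 0 := by
    intro h0
    have := hasseD_one_mul h1 s Hs hHs t Ht hHt
    rw [← hu, h0, zero_mul] at this
    exact zero_ne_one this
  set dd : ℕ → K := fun m => (Nat.casesOn m (1 : K) (fun j => u ^ j) : K) with hdd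
  have hddne : ∀ m, dd m ≠ 0 := by
    intro m
    cases m with
    | zero => exact one_ne_zero
    | succ j => exact pow_ne_zero _ hune
  have htri : ∀ m, hcol τ Ht φ m - dd m • hcol τ Hs φ m ∈
      Submodule.span K (hcol τ Hs φ '' Set.Iio m) :=
    fun m => hcol_tri h1 φ τ s Hs hHs Ht hHt.2 m
  refine ⟨fun J => isOrders_iff_of_tri _ _ dd hddne htri J, fun J hJ => ?_⟩
  rw [wrMat_eq, wrMat_eq]
  rw [det_of_tri (fun c => hcol τ Hs φ (shiftIdx J c)) (fun c => hcol τ Ht φ (shiftIdx J c))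
    (fun c => dd (shiftIdx J c))
    (fun c => span_Iio_shiftIdx (hcol τ Hs φ) J hJ c (htri (shiftIdx J c)))]
  congr 1
  rw [Fin.prod_univ_succ]
  simp only [shiftIdx_zero, shiftIdx_succ, hdd, one_mul]
  rw [Finset.prod_pow_eq_pow_sum]
  exact one_mul _

end Groth.Agent.Helper27.Hasse
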