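import Mathlib
import Groth.Agent.Lib.Helper27.HasseA
import Groth.Agent.Lib.Helper16.FF.GeomB

set_option autoImplicit false

namespace Groth.Agent.Helper27.Hasse

open PowerSeries FunFld IntermediateField

variable {k K : Type*} [Field k] [Field K] [Algebra k K]

/-- Existence of the total Hasse derivative with respect to a separating element. -/
theorem exists_hasseFamily_of_separating {x : K} (hx : Transcendental k x)
    (hsep : Algebra.IsSeparable (adjoin k ({x} : Set K)) K) :
    ∃ H : K →ₐ[k] K⟦X⟧, LocRes.IsHasseFamily x H := by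
  classical
  let e := RatFunc.algEquivOfTranscendental x hx
  let φ : RatFunc k →ₐ[k] K := (IntermediateField.val (adjoin k ({x} : Set K))).comp e.toAlgHom
  letI : Algebra (RatFunc k) K := φ.toRingHom.toAlgebra
  haveI : IsScalarTower k (RatFunc k) K :=
    IsScalarTower.of_algebraMap_eq (fun c => (φ.commutes c).symm)
  have hφ : ∀ f : RatFunc k, algebraMap (RatFunc k) K f = ((e f : adjoin k ({x} : Set K)) : K) :=
    fun f => rfl
  haveI : Algebra.IsSeparable (RatFunc k) K :=
    Algebra.IsSeparable.of_equiv_equiv e.symm.toRingEquiv (RingEquiv.refl K) (by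
      ext y
      simp [hφ])
  haveI : Algebra.FormallyEtale (RatFunc k) K := Algebra.FormallyEtale.of_isSeparable _ _
  -- the Taylor map on polynomials
  let T0 : Polynomial k →ₐ[k] K⟦X⟧ := Polynomial.aeval (C x + X)
  have hcc : ∀ p : Polynomial k, constantCoeff (T0 p) = Polynomial.aeval x p := by
    intro p
    have : (constantCoeff (R := K)).comp (T0 : Polynomial k →+* K⟦X⟧) =
        ((Polynomial.aeval x : Polynomial k →ₐ[k] K) : Polynomial k →+* K) := by
      apply Polynomial.ringHom_ext
      · intro a
        simp [T0, PowerSeries.algebraMap_apply]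
      · simp [T0]
    exact congrArg (fun f => f p) this
  have hunit : ∀ p : nonZeroDivisors (Polynomial k), IsUnit ((T0 : Polynomial k →+* K⟦X⟧) p) := by
    intro p
    rw [PowerSeries.isUnit_iff_constantCoeff]
    have hp : (p : Polynomial k) ≠ 0 := nonZeroDivisors.ne_zero p.2
    have : constantCoeff ((T0 : Polynomial k →+* K⟦X⟧) p) = Polynomial.aeval x (p : Polynomial k) :=
      hcc p
    rw [this]
    exact isUnit_iff_ne_zero.2 (fun h0 => hp ((transcendental_iff.1 hx) _ h0))
  let T : RatFunc k →+* K⟦X⟧ :=
    IsLocalization.lift (M := nonZeroDivisors (Polynomial k)) (S := RatFunc k)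
      (g := (T0 : Polynomial k →+* K⟦X⟧)) hunit
  have hT : ∀ p : Polynomial k, T (algebraMap (Polynomial k) (RatFunc k) p) = T0 p :=
    fun p => IsLocalization.lift_eq hunit p
  letI : Algebra (RatFunc k) K⟦X⟧ := T.toAlgebra
  have hTalg : ∀ r : RatFunc k, algebraMap (RatFunc k) K⟦X⟧ r = T r := fun r => rfl
  have hccT : ∀ r : RatFunc k, constantCoeff (T r) = algebraMap (RatFunc k) K r := by
    intro r
    have : (constantCoeff (R := K)).comp T = algebraMap (RatFunc k) K := by
      apply IsLocalization.ringHom_ext (nonZeroDivisors (Polynomial k))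
      refine RingHom.ext fun p => ?_
      simp only [RingHom.comp_apply, hT, hcc, hφ]
      have h1 := RatFunc.algEquivOfTranscendental_algebraMap x hx p
      change _ = ((RatFunc.algEquivOfTranscendental x hx (algebraMap (Polynomial k) (RatFunc k) p) :
        adjoin k ({x} : Set K)) : K)
      rw [h1, AdjoinSimple.coe_aeval_gen_apply]
    exact congrArg (fun f => f r) this
  have hscal : ∀ c : k, algebraMap k K⟦X⟧ c = T (algebraMap k (RatFunc k) c) := by
    intro c
    have h1 : algebraMap k (RatFunc k) c = algebraMap (Polynomial k) (RatFunc k) (Polynomial.C c) := by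
      rw [← Polynomial.algebraMap_eq, ← IsScalarTower.algebraMap_apply]
    rw [h1, hT]
    simp [T0]
  haveI : IsScalarTower k (RatFunc k) K⟦X⟧ :=
    IsScalarTower.of_algebraMap_eq (fun c => hscal c)
  let I : Ideal K⟦X⟧ := Ideal.span {X}
  -- the map `K → K⟦X⟧ ⧸ (X)`
  let f0 : K →+* K⟦X⟧ ⧸ I := (Ideal.Quotient.mk I).comp (C : K →+* K⟦X⟧)
  let f : K →ₐ[RatFunc k] K⟦X⟧ ⧸ I :=
    { f0 with
      commutes' := by
        intro r
        change Ideal.Quotient.mk I (C (algebraMap (RatFunc k) K r)) =
          Ideal.Quotient.mk I (algebraMap (RatFunc k) K⟦X⟧ r)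
        rw [Ideal.Quotient.eq, Ideal.mem_span_singleton, PowerSeries.X_dvd_iff, map_sub,
          constantCoeff_C, hTalg, hccT, sub_self] }
  obtain ⟨g, hg⟩ := Algebra.FormallySmooth.exists_mkₐ_comp_eq_of_isAdicComplete (I := I) f
  refine ⟨g.restrictScalars k, ?_, ?_⟩
  · change g x = C x + X
    have hxalg : x = algebraMap (RatFunc k) K RatFunc.X := by
      rw [hφ]
      simp [e]
    conv_lhs => rw [hxalg]
    rw [g.commutes, hTalg, ← RatFunc.algebraMap_X, hT]
    simp [T0]
  · intro y
    change constantCoeff (g y) = y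
    have h1 := congrArg (fun F => F y) hg
    simp only [AlgHom.comp_apply] at h1
    have h2 : Ideal.Quotient.mk I (g y) = Ideal.Quotient.mk I (C y) := h1
    rw [Ideal.Quotient.eq, Ideal.mem_span_singleton, PowerSeries.X_dvd_iff, map_sub,
      constantCoeff_C, sub_eq_zero] at h2
    exact h2

/-- A function field over an algebraically closed field has a total Hasse derivative. -/
theorem exists_hasseFamily [IsAlgClosed k] (hK : IsFunctionField k K) :
    ∃ (s : K) (H : K →ₐ[k] K⟦X⟧), LocRes.IsHasseFamily s H := by
  obtain ⟨x, hsep⟩ := Groth.Agent.Helper16.FF.exists_separating_of_isGeometric hK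
    isGeometric_of_isAlgClosed
  obtain ⟨H, hH⟩ := exists_hasseFamily_of_separating
    (Groth.Agent.Helper16.FF.transcendental_of_separating hK hsep) hsep
  exact ⟨x, H, hH⟩

end Groth.Agent.Helper27.Hasse
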