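import Groth.Agent.Lib.Helper27.WeilRes5

/-! Riemann–Hurwitz, part A: expansions force finite coefficient fields; versions of the
residue-differential lemmas with `finrank Ω = 1` as hypothesis. -/

set_option autoImplicit false

namespace Groth.Agent.Helper27.RH

open FunFld Groth.Agent.Helper16.FF HahnSeries LaurentSeries
  Groth.Agent.Helper27.SepRes Groth.Agent.Helper27.DExp Groth.Agent.Helper27.Tate
open scoped WithZero

universe u v w

section A

variable {k : Type u} {K : Type v} [Field k] [Field K] [Algebra k K]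
  {F : Type w} [Field F] [Algebra k F]

theorem coeff_zero_eq_zero_of_lt (f : F⸨X⸩) (h : Valued.v f < 1) : f.coeff 0 = 0 := by
  have h' : Valued.v f ≤ WithZero.exp (-(1 : ℤ)) := by
    by_cases h0 : f = 0
    · rw [h0, map_zero]; simp
    · have hne : Valued.v f ≠ 0 := (Valuation.ne_zero_iff _).2 h0
      obtain ⟨n, hn⟩ : ∃ n : ℤ, Valued.v f = WithZero.exp n := by
        refine ⟨WithZero.log (Valued.v f), ?_⟩
        rw [WithZero.exp_log hne]
      rw [hn] at h ⊢
      rw [← WithZero.exp_zero, WithZero.exp_lt_exp] at h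
      exact WithZero.exp_le_exp.2 (by omega)
  rw [valuation_le_iff_coeff_lt_eq_zero F] at h'
  exact h' 0 (by norm_num)

/-- The coefficient field of an expansion at a place is finite over the constants. -/
theorem finiteDimensional_of_expansion (hK : IsFunctionField k K) (P : Place k K)
    (φ : K →ₐ[k] F⸨X⸩) (hφ : LocRes.IsExpansionAt P.1 φ) : FiniteDimensional k F := by
  classical
  have := Place.finiteDimensional_residueField hK P
  obtain ⟨hval, hsurj, -⟩ := hφ
  let b := Module.finBasis k (IsLocalRing.ResidueField P.O)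
  have hlift : ∀ i, ∃ z : P.O, IsLocalRing.residue P.O z = b i := fun i =>
    IsLocalRing.residue_surjective (b i)
  choose z hz using hlift
  have hg_add : ∀ f g : K, (φ (f + g)).coeff 0 = (φ f).coeff 0 + (φ g).coeff 0 := by
    intro f g; rw [map_add, HahnSeries.coeff_add]
  have hg_smul : ∀ (c : k) (f : K), (φ (c • f)).coeff 0 = c • (φ f).coeff 0 := by
    intro c f
    rw [Algebra.smul_def, map_mul, LocRes.map_algebraMap, HahnSeries.C_mul_eq_smul,
      HahnSeries.coeff_smul, algebraMap_smul]
  refine ⟨Submodule.fg_def.2 ⟨Set.range fun i => (φ (z i : K)).coeff 0,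
    Set.finite_range _, ?_⟩⟩
  rw [eq_top_iff]
  rintro a -
  obtain ⟨f, hf1, hfa⟩ := hsurj a
  let zf : P.O := ⟨f, (Place.mem_O_iff P f).2 hf1⟩
  have hrep := b.sum_repr (IsLocalRing.residue P.O zf)
  set c := b.repr (IsLocalRing.residue P.O zf) with hc
  have hres : IsLocalRing.residue P.O (zf - ∑ i, c i • z i) = 0 := by
    rw [map_sub, map_sum, ← hrep, sub_eq_zero]
    refine Finset.sum_congr rfl fun i _ => ?_
    rw [Place.residue_smul, hz]
    rfl
  rw [Place.residue_eq_zero_iff] at hres
  have hcoe : ((zf - ∑ i, c i • z i : P.O) : K) = f - ∑ i, c i • (z i : K) := by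
    rw [← P.O.subtype_apply, map_sub, map_sum]
    congr 1
    refine Finset.sum_congr rfl fun j _ => ?_
    exact Place.coe_smul_O P (c j) (z j)
  rw [hcoe, ← hval] at hres
  have h0 := coeff_zero_eq_zero_of_lt _ hres
  rw [map_sub, HahnSeries.coeff_sub, map_sum, sub_eq_zero] at h0
  rw [← hfa, h0]
  have : ((∑ i, φ (c i • (z i : K)) : F⸨X⸩)).coeff 0 = ∑ i, c i • (φ (z i : K)).coeff 0 := by
    rw [← HahnSeries.coeff.addMonoidHom_apply, map_sum]
    refine Finset.sum_congr rfl fun i _ => ?_
    rw [HahnSeries.coeff.addMonoidHom_apply, hg_smul]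
  rw [this]
  exact Submodule.sum_mem _ fun i _ => Submodule.smul_mem _ _ (Submodule.subset_span ⟨i, rfl⟩)

end A

section B

variable {k : Type u} {K : Type v} [Field k] [Field K] [Algebra k K]

/-- The coefficient field of an expansion is separable over the constants as soon as the
Kaehler differentials are one-dimensional. -/
theorem isSeparable_of_expansion' {F : Type w} [Field F] [Algebra k F]
    (h1 : Module.finrank K (Ω[K⁄k]) = 1)
    (P : Place k K) [FiniteDimensional k F] (φ : K →ₐ[k] F⸨X⸩)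
    (hφ : LocRes.IsExpansionAt P.1 φ) : Algebra.IsSeparable k F := by
  classical
  by_contra hsep
  have hunr : ¬ Algebra.FormallyUnramified k F := fun h =>
    hsep ((Algebra.FormallyUnramified.iff_isSeparable k F).1 h)
  have hnt : Nontrivial (Ω[F⁄k]) := by
    by_contra hn
    rw [not_nontrivial_iff_subsingleton] at hn
    exact hunr ⟨hn⟩
  obtain ⟨w, hw⟩ := exists_ne (0 : Ω[F⁄k])
  obtain ⟨ℓ, hℓ⟩ : ∃ ℓ : Module.Dual F (Ω[F⁄k]), ℓ w ≠ 0 := by
    by_contra hall
    push Not at hall
    exact hw ((Module.forall_dual_apply_eq_zero_iff F w).1 hall)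
  set δ' : Derivation k F F := ℓ.compDer (KaehlerDifferential.D k F) with hδ'
  obtain ⟨c₀, hc₀⟩ : ∃ c₀ : F, δ' c₀ ≠ 0 := by
    by_contra hall
    push Not at hall
    apply hℓ
    have hle : (⊤ : Submodule F (Ω[F⁄k])) ≤ LinearMap.ker ℓ := by
      rw [← KaehlerDifferential.span_range_derivation k F, Submodule.span_le]
      rintro _ ⟨c, rfl⟩
      exact hall c
    exact hle Submodule.mem_top
  set δ : F →+ F := (δ' : F →ₗ[k] F).toAddMonoidHom with hδ
  have hδmul : ∀ a b, δ (a * b) = a * δ b + b * δ a := fun a b => δ'.leibniz a b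
  have hδk : ∀ c : k, δ (algebraMap k F c) = 0 := fun c => δ'.map_algebraMap c
  obtain ⟨hval, hsurj, t, ht⟩ := hφ
  have hvt : Valued.v (φ t) = WithZero.exp (-1) := by rw [hval, ht]
  have hDt : Valued.v (LocRes.D F (φ t)) = 1 := val_D_unif (φ t) hvt
  have hDt0 : LocRes.D F (φ t) ≠ 0 := by
    intro h0
    rw [h0, map_zero] at hDt
    exact zero_ne_one hDt
  have hdt : KaehlerDifferential.D k K t ≠ 0 := D_ne_zero_of_exp φ t hDt0
  obtain ⟨y, hy1, hy⟩ := hsurj c₀
  obtain ⟨c, hc, hchain⟩ := chain h1 t hdt y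
  have htw := Groth.Agent.Helper27.Hasse.twisted_deriv (k := k) (φ : K →+* F⸨X⸩)
    (fun z => cmap δ (φ z))
    (fun a b => by simp only [map_add, cmap_add])
    (fun a b => by
      simp only [map_mul]
      rw [cmap_mul δ hδmul]
      rfl)
    (fun a => by
      show cmap δ (φ (algebraMap k K a)) = 0
      rw [LocRes.map_algebraMap]
      exact cmap_C δ _ (hδk a))
    t y c hc
  simp only [RingHom.coe_coe] at htw
  have hch := hchain F φ
  have hvy : Valued.v (φ y) ≤ 1 := by rw [hval]; exact hy1
  have hvDy : Valued.v (LocRes.D F (φ y)) ≤ 1 := val_D_le_one (φ y) hvy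
  have hvc : Valued.v (φ c) ≤ 1 := by
    have : Valued.v (LocRes.D F (φ y)) = Valued.v (φ c) * Valued.v (LocRes.D F (φ t)) := by
      rw [hch, map_mul]
    rw [hDt, mul_one] at this
    rw [← this]; exact hvDy
  have hvδt : Valued.v (cmap δ (φ t)) ≤ WithZero.exp (-1) :=
    val_cmap_le δ (φ t) 1 (by rw [hvt])
  have hvδy : Valued.v (cmap δ (φ y)) ≤ WithZero.exp (-1) := by
    rw [htw, map_mul]
    calc Valued.v (φ c) * Valued.v (cmap δ (φ t)) ≤ 1 * WithZero.exp (-1) :=
          mul_le_mul' hvc hvδt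
      _ = _ := one_mul _
  rw [valuation_le_iff_coeff_lt_eq_zero F] at hvδy
  have h0 := hvδy 0 (by norm_num)
  rw [cmap_coeff, hy] at h0
  exact hc₀ h0

variable {F : Place k K → Type w} [∀ P, Field (F P)] [∀ P, Algebra k (F P)]

/-- The divisor of `dx` read through expansions exists and has degree `2g - 2`; only
`finrank Ω = 1` is assumed. -/
theorem exists_canonical_ordDiff (hK : IsFunctionField k K)
    (h1 : Module.finrank K (Ω[K⁄k]) = 1)
    (φ : ∀ P, K →ₐ[k] LaurentSeries (F P)) (hφ : ∀ P, LocRes.IsExpansionAt P.1 (φ P))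
    (u v : K) (hu : u ≠ 0) (hv : KaehlerDifferential.D k K v ≠ 0) :
    ∃ W : Divisor k K, (∀ P, W P = LocRes.ordDiff (φ P) u v) ∧ IsCanonical k K W ∧
      W.deg = 2 * (genus k K : ℤ) - 2 := by
  classical
  haveI : ∀ P, FiniteDimensional k (F P) := fun P =>
    finiteDimensional_of_expansion hK P (φ P) (hφ P)
  have hnd : ∀ P, ∃ c : F P, Algebra.trace k (F P) c ≠ 0 := by
    intro P
    haveI := isSeparable_of_expansion' h1 P (φ P) (hφ P)
    obtain ⟨c, hc⟩ := Algebra.trace_surjective k (F P) 1
    exact ⟨c, by rw [hc]; exact one_ne_zero⟩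
  have hne : omegaRes hK φ hφ u v ≠ 0 := by
    obtain ⟨P⟩ := exists_place hK
    intro h0
    have := omegaRes_not_mem_WD hK h1 φ hφ u v hu hv
      (Finsupp.single P (LocRes.ordDiff (φ P) u v + 1)) P
      (by rw [Finsupp.single_eq_same]; omega) (hnd P)
    rw [h0] at this
    exact this (Submodule.zero_mem _)
  obtain ⟨W, hW⟩ := exists_isDivOf hK (omegaRes_isWeil hK h1 φ hφ u v hu hv) hne
  have hle : ∀ P, W P ≤ LocRes.ordDiff (φ P) u v := by
    intro P
    by_contra hlt
    push Not at hlt
    exact omegaRes_not_mem_WD hK h1 φ hφ u v hu hv W P hlt (hnd P) (IsDivOf.mem_WD hW)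
  have hge : ∀ P, LocRes.ordDiff (φ P) u v ≤ W P := by
    intro P
    set E : Divisor k K := W + Finsupp.single P (LocRes.ordDiff (φ P) u v - W P) with hE
    have hEle : ∀ Q, E Q ≤ LocRes.ordDiff (φ Q) u v := by
      intro Q
      rw [hE, Finsupp.add_apply]
      by_cases hQ : Q = P
      · subst hQ; rw [Finsupp.single_eq_same]; omega
      · rw [Finsupp.single_apply, if_neg (Ne.symm hQ), add_zero]; exact hle Q
    have hmem := omegaRes_mem_WD hK h1 φ hφ u v hu hv E hEle
    have := (hW E).1 hmem P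
    rw [hE, Finsupp.add_apply, Finsupp.single_eq_same] at this
    omega
  have heq : ∀ P, W P = LocRes.ordDiff (φ P) u v := fun P => le_antisymm (hle P) (hge P)
  have hcan : IsCanonical k K W := ⟨_, hne, hW⟩
  exact ⟨W, heq, hcan, (canonical_ell_deg hK hcan).2⟩

end B

section C

variable {k : Type u} {k' : Type u} {K : Type v} {K' : Type v} [Field k] [Field k'] [Field K]
  [Field K'] [Algebra k k'] [Algebra k K] [Algebra K K'] [Algebra k' K'] [Algebra k K']
  [IsScalarTower k k' K'] [IsScalarTower k K K'] [FiniteDimensional K K']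
  [Algebra.IsSeparable K K']

/-- Kaehler differentials of a finite separable extension, over a bigger constant field. -/
theorem finrank_kaehler_of_separable_ext (h1 : Module.finrank K (Ω[K⁄k]) = 1)
    (x' : K') (hx' : KaehlerDifferential.D k' K' x' ≠ 0) :
    Module.finrank K' (Ω[K'⁄k']) = 1 := by
  haveI : Algebra.FormallyEtale K K' := Algebra.FormallyEtale.of_isSeparable _ _
  have h2 : Module.finrank K' (Ω[K'⁄k]) = 1 := by
    rw [← (KaehlerDifferential.tensorKaehlerEquivOfFormallyEtale k K K').finrank_eq,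
      Module.finrank_baseChange, h1]
  haveI : Module.Finite K' (Ω[K'⁄k]) := Module.finite_of_finrank_pos (by omega)
  have hsurj : Function.Surjective (KaehlerDifferential.map k k' K' K') :=
    KaehlerDifferential.map_surjective k k' K'
  have hle : Module.finrank K' (Ω[K'⁄k']) ≤ 1 := by
    rw [← h2]
    exact LinearMap.finrank_le_finrank_of_surjective hsurj
  haveI : Module.Finite K' (Ω[K'⁄k']) := Module.Finite.of_surjective _ hsurj
  have hnt : Nontrivial (Ω[K'⁄k']) := ⟨⟨_, _, hx'⟩⟩
  have hpos : 0 < Module.finrank K' (Ω[K'⁄k']) := Module.finrank_pos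
  omega

end C

end Groth.Agent.Helper27.RH
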