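import Groth.Agent.Lib.Helper27.HypD
import Groth.Agent.Lib.Helper27.RHa

/-! Hyperelliptic function fields: differentials, preliminaries. -/

set_option autoImplicit false

namespace Groth.Agent.Helper27.Hyp

open FunFld Polynomial Groth.Agent.Helper16.FF
open scoped WithZero LaurentSeries

section Sep

theorem isSeparable_of_finrank_two (F K : Type*) [Field F] [Field K] [Algebra F K]
    (h2 : (2 : F) ≠ 0) (hdeg : Module.finrank F K = 2) : Algebra.IsSeparable F K := by
  haveI : FiniteDimensional F K := Module.finite_of_finrank_pos (by omega)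
  refine ⟨fun z => ?_⟩
  have hint : IsIntegral F z := Algebra.IsIntegral.isIntegral z
  show (minpoly F z).Separable
  rw [separable_iff_derivative_ne_zero (minpoly.irreducible hint)]
  intro h0
  have hle : (minpoly F z).natDegree ≤ 2 := hdeg ▸ minpoly.natDegree_le z
  have hpos : 0 < (minpoly F z).natDegree := minpoly.natDegree_pos hint
  have hc := congrArg (fun p => p.coeff ((minpoly F z).natDegree - 1)) h0
  simp only [coeff_derivative, coeff_zero] at hc
  have hsub : (minpoly F z).natDegree - 1 + 1 = (minpoly F z).natDegree := by omega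
  rw [hsub, coeff_natDegree, (minpoly.monic hint).leadingCoeff, one_mul] at hc
  have hcases : (minpoly F z).natDegree = 1 ∨ (minpoly F z).natDegree = 2 := by omega
  rcases hcases with h | h
  · rw [h] at hc; norm_num at hc
  · rw [h] at hc
    apply h2
    have : ((2 - 1 : ℕ) : F) + 1 = 2 := by norm_num
    rw [← this]; exact hc

end Sep

section Kaehler

variable {k : Type*} {K : Type*} [Field k] [Field K] [Algebra k K] [Algebra (RatFunc k) K]
  [IsScalarTower k (RatFunc k) K]

open KaehlerDifferential in
theorem kaehler_hyper [Algebra.IsSeparable (RatFunc k) K] :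
    Module.finrank K (Ω[K⁄k]) = 1 ∧ KaehlerDifferential.D k K (xK k K) ≠ 0 := by
  haveI : Algebra.FormallyEtale (RatFunc k) K := Algebra.FormallyEtale.of_isSeparable _ _
  have hrank : Module.finrank K (Ω[K⁄k]) = 1 := by
    rw [← (tensorKaehlerEquivOfFormallyEtale k (RatFunc k) K).finrank_eq,
      Module.finrank_baseChange, finrank_kaehler_ratFunc]
  refine ⟨hrank, ?_⟩
  intro hDx
  let ιk : RatFunc k →ₐ[k] K := IsScalarTower.toAlgHom k (RatFunc k) K
  have htop : (⊤ : IntermediateField k (RatFunc k)) ≤ (kerD k K).comap ιk := by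
    rw [← RatFunc.adjoin_X, IntermediateField.adjoin_le_iff]
    rintro _ rfl
    exact hDx
  have hall : ∀ r : RatFunc k, KaehlerDifferential.D k K (algebraMap (RatFunc k) K r) = 0 :=
    fun r => htop (IntermediateField.mem_top (x := r))
  have hmap : KaehlerDifferential.map k k (RatFunc k) K = 0 := by
    apply LinearMap.ext_on (KaehlerDifferential.span_range_derivation k (RatFunc k))
    rintro _ ⟨r, rfl⟩
    rw [KaehlerDifferential.map_D, LinearMap.zero_apply]
    exact hall r
  have hT : ∀ w, tensorKaehlerEquivOfFormallyEtale k (RatFunc k) K w = 0 := by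
    intro w
    rw [tensorKaehlerEquivOfFormallyEtale_apply]
    induction w using TensorProduct.induction_on with
    | zero => simp
    | tmul a b => rw [mapBaseChange_tmul, hmap, LinearMap.zero_apply, smul_zero]
    | add a b ha hb => rw [map_add, ha, hb, add_zero]
  have hnt : Nontrivial (Ω[K⁄k]) := Module.nontrivial_of_finrank_pos (R := K) (by omega)
  obtain ⟨ω, hω⟩ := exists_ne (0 : Ω[K⁄k])
  apply hω
  rw [← (tensorKaehlerEquivOfFormallyEtale k (RatFunc k) K).apply_symm_apply ω]
  exact hT _

end Kaehler

section Residue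

variable {k : Type*} {K : Type*} {F : Type*} [Field k] [Field K] [Algebra k K] [Field F]
  [Algebra k F]

theorem coeff_zero_mul' (f g : F⸨X⸩) (hf : Valued.v f ≤ 1) (hg : Valued.v g ≤ 1) :
    (f * g).coeff 0 = f.coeff 0 * g.coeff 0 := by
  obtain ⟨F', rfl⟩ := (LaurentSeries.val_le_one_iff_eq_coe F f).1 hf
  obtain ⟨G', rfl⟩ := (LaurentSeries.val_le_one_iff_eq_coe F g).1 hg
  have h0 : ((0 : ℕ) : ℤ) = 0 := rfl
  rw [← map_mul (HahnSeries.ofPowerSeries ℤ F), ← h0, LaurentSeries.coeff_coe_powerSeries,
    LaurentSeries.coeff_coe_powerSeries, LaurentSeries.coeff_coe_powerSeries,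
    PowerSeries.coeff_zero_eq_constantCoeff_apply, map_mul,
    PowerSeries.coeff_zero_eq_constantCoeff_apply, PowerSeries.coeff_zero_eq_constantCoeff_apply]

/-- reduction of polynomial expressions at a place where `x` is regular -/
theorem coeff_zero_aeval (Q : Place k K) (φ : K →ₐ[k] F⸨X⸩)
    (hval : ∀ u : K, Valued.v (φ u) = Q.1 u) (x : K) (hx : Q.1 x ≤ 1) (q : k[X]) :
    (φ (aeval x q)).coeff 0 = aeval ((φ x).coeff 0) q := by
  induction q using Polynomial.induction_on with
  | C c =>
    rw [aeval_C, aeval_C, LocRes.map_algebraMap, HahnSeries.C_apply, HahnSeries.coeff_single_same]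
  | add p q hp hq =>
    rw [map_add, map_add, HahnSeries.coeff_add, hp, hq, map_add]
  | monomial n c ih =>
    have e : (C c * X ^ (n + 1) : k[X]) = C c * X ^ n * X := by ring
    rw [e, map_mul (aeval x), map_mul φ, aeval_X, coeff_zero_mul', ih]
    · simp only [map_mul, aeval_X]
    · rw [hval]
      exact Groth.Agent.Helper16.FFW.val_aeval_le_one Q hx _
    · rw [hval]; exact hx

theorem val_lt_one_iff_coeff_zero (f : F⸨X⸩) (hf : Valued.v f ≤ 1) :
    Valued.v f < 1 ↔ f.coeff 0 = 0 := by
  constructor
  · exact Groth.Agent.Helper27.RH.coeff_zero_eq_zero_of_lt f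
  · intro h0
    have : Valued.v f ≤ WithZero.exp (-(1 : ℤ)) := by
      rw [LaurentSeries.valuation_le_iff_coeff_lt_eq_zero F]
      intro n hn
      rcases (show n < 0 ∨ n = 0 by omega) with h | rfl
      · have h1 : Valued.v f ≤ WithZero.exp (-(0 : ℤ)) := by simpa using hf
        exact (LaurentSeries.valuation_le_iff_coeff_lt_eq_zero F).1 h1 n h
      · exact h0
    refine lt_of_le_of_lt this ?_
    rw [← WithZero.exp_zero, WithZero.exp_lt_exp]; norm_num

theorem aeval_derivative_ne_zero_of_squarefree [Algebra.IsSeparable k F] {f : k[X]}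
    (hf : Squarefree f) (a : F) (ha : aeval a f = 0) : aeval a (derivative f) ≠ 0 := by
  have hint : IsIntegral k a := Algebra.IsSeparable.isIntegral k a
  obtain ⟨h, hh⟩ := minpoly.dvd k a ha
  intro h0
  rw [hh, derivative_mul, map_add, map_mul, map_mul, minpoly.aeval, zero_mul, add_zero] at h0
  have hsep : (minpoly k a).Separable := Algebra.IsSeparable.isSeparable k a
  have hne := hsep.aeval_derivative_ne_zero (minpoly.aeval k a)
  have hha : aeval a h = 0 := by
    rcases mul_eq_zero.1 h0 with h1 | h1
    · exact absurd h1 hne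
    · exact h1
  obtain ⟨h', hh'⟩ := minpoly.dvd k a hha
  have hu : IsUnit (minpoly k a) := hf _ ⟨h', by rw [hh, hh']; ring⟩
  exact minpoly.not_isUnit k a hu

end Residue

end Groth.Agent.Helper27.Hyp
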