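import Mathlib
import Groth.Agent.Lib.Helper16.FFW.Local
import Groth.Agent.Lib.Helper16.FFW.Residue
import Groth.Agent.Lib.Helper16.FFW.Approx

set_option autoImplicit false

namespace Groth.Agent.Helper27.Ram

open FunFld Groth.Agent.Helper16.FFW
open scoped WithZero

variable {k K K' : Type*} [Field k] [Field K] [Field K'] [Algebra k K] [Algebra K K'] [Algebra k K']
  [IsScalarTower k K K'] (Q : Place k K')

/-- `σ` lies in the `j`-th ramification group (lower numbering shifted by one, as in the rows). -/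
def InG (σ : K' ≃ₐ[K] K') (j : ℕ) : Prop :=
  ∀ x : K', Q.1 x ≤ 1 → Q.1 (σ x - x) ≤ WithZero.exp (-(j : ℤ))

omit [IsScalarTower k K K'] in
theorem exp_neg_le {m n : ℤ} (h : m ≤ n) : (WithZero.exp (-n) : ℤᵐ⁰) ≤ WithZero.exp (-m) :=
  WithZero.exp_le_exp.2 (by omega)

variable {Q}

omit [IsScalarTower k K K'] in
theorem InG.mono {σ : K' ≃ₐ[K] K'} {i j : ℕ} (h : InG Q σ j) (hij : i ≤ j) : InG Q σ i :=
  fun x hx => (h x hx).trans (exp_neg_le (by exact_mod_cast hij))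

omit [IsScalarTower k K K'] in
theorem val_sigma_le_one {σ : K' ≃ₐ[K] K'} (h : InG Q σ 1) {x : K'} (hx : Q.1 x ≤ 1) :
    Q.1 (σ x) ≤ 1 := by
  have h1 : σ x = (σ x - x) + x := by ring
  rw [h1]
  refine (Q.1.map_add _ _).trans (max_le ((h x hx).trans ?_) hx)
  rw [← WithZero.exp_zero]; exact WithZero.exp_le_exp.2 (by simp)

omit [IsScalarTower k K K'] in
theorem exp_mul_exp (a b : ℤ) : (WithZero.exp a : ℤᵐ⁰) * WithZero.exp b = WithZero.exp (a + b) :=
  (WithZero.exp_add a b).symm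

omit [IsScalarTower k K K'] in
/-- `σ` preserves the powers of the maximal ideal -/
theorem val_sigma_le_exp {σ : K' ≃ₐ[K] K'} (h : InG Q σ 1) {t : K'}
    (ht : Q.1 t = WithZero.exp (-1 : ℤ)) {z : K'} (n : ℕ) (hz : Q.1 z ≤ WithZero.exp (-(n : ℤ))) :
    Q.1 (σ z) ≤ WithZero.exp (-(n : ℤ)) := by
  have ht0 : t ≠ 0 := by
    rintro rfl; rw [map_zero] at ht; exact WithZero.exp_ne_zero.symm ht
  have ht1 : Q.1 t ≤ 1 := by
    rw [ht, ← WithZero.exp_zero]; exact WithZero.exp_le_exp.2 (by norm_num)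
  have hst : Q.1 (σ t) ≤ WithZero.exp (-1 : ℤ) := by
    have h1 : σ t = (σ t - t) + t := by ring
    rw [h1]
    refine (Q.1.map_add _ _).trans (max_le ?_ ht.le)
    simpa using h t ht1
  set a := z / t ^ n with ha
  have hza : z = t ^ n * a := by rw [ha]; field_simp
  have htn : Q.1 (t ^ n) = WithZero.exp (-(n : ℤ)) := by
    rw [map_pow, ht, ← WithZero.exp_nsmul]; simp
  have hav : Q.1 a ≤ 1 := by
    rw [ha, map_div₀, htn]
    rw [div_le_one₀ (WithZero.exp_pos)]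
    exact hz
  rw [hza, map_mul, map_pow, map_mul, map_pow]
  calc Q.1 (σ t) ^ n * Q.1 (σ a) ≤ (WithZero.exp (-1 : ℤ)) ^ n * 1 := by
        gcongr
        exact val_sigma_le_one h hav
    _ = WithZero.exp (-(n : ℤ)) := by
        rw [mul_one, ← WithZero.exp_nsmul]; simp

theorem InG.one (j : ℕ) : InG Q (1 : K' ≃ₐ[K] K') j := by
  intro x _
  simp

omit [IsScalarTower k K K'] in
theorem InG.mul {σ τ : K' ≃ₐ[K] K'} {j : ℕ} (hj : 1 ≤ j) {t : K'}
    (ht : Q.1 t = WithZero.exp (-1 : ℤ)) (hσ : InG Q σ j) (hτ : InG Q τ j) :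
    InG Q (σ * τ) j := by
  intro x hx
  have h1 : (σ * τ) x - x = σ (τ x - x) + (σ x - x) := by
    rw [AlgEquiv.mul_apply, map_sub]; ring
  rw [h1]
  exact (Q.1.map_add _ _).trans (max_le (val_sigma_le_exp (hσ.mono hj) ht j (hτ x hx)) (hσ x hx))

theorem InG.pow {σ : K' ≃ₐ[K] K'} {j : ℕ} (hj : 1 ≤ j) {t : K'}
    (ht : Q.1 t = WithZero.exp (-1 : ℤ)) (hσ : InG Q σ j) (n : ℕ) : InG Q (σ ^ n) j := by
  induction n with
  | zero => rw [pow_zero]; exact InG.one j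
  | succ n ih => rw [pow_succ]; exact InG.mul hj ht ih hσ

theorem InG.inv [FiniteDimensional K K'] {σ : K' ≃ₐ[K] K'} {j : ℕ} (hj : 1 ≤ j) {t : K'}
    (ht : Q.1 t = WithZero.exp (-1 : ℤ)) (hσ : InG Q σ j) : InG Q σ⁻¹ j := by
  have hfin : Finite (K' ≃ₐ[K] K') := inferInstance
  have h1 : σ⁻¹ = σ ^ (orderOf σ - 1) := by
    have hpos : 0 < orderOf σ := orderOf_pos σ
    rw [inv_eq_iff_mul_eq_one, ← pow_succ', Nat.sub_add_cancel hpos, pow_orderOf_eq_one]
  rw [h1]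
  exact InG.pow hj ht hσ _

end Groth.Agent.Helper27.Ram
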