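import Mathlib
import Groth.Agent.Lib.Helper27.RamA

set_option autoImplicit false

namespace Groth.Agent.Helper27.Ram

open FunFld Groth.Agent.Helper16.FFW Polynomial
open scoped WithZero

variable {k K K' : Type*} [Field k] [Field K] [Field K'] [Algebra k K] [Algebra K K'] [Algebra k K']
  [IsScalarTower k K K'] {Q : Place k K'}

/-- residue map as a `k`-algebra hom -/
noncomputable def resAlgHom (Q : Place k K') : Q.O →ₐ[k] IsLocalRing.ResidueField Q.O :=
  { IsLocalRing.residue Q.O with commutes' := fun _ => rfl }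

/-- inclusion of the valuation ring as a `k`-algebra hom -/
def coeAlgHom (Q : Place k K') : Q.O →ₐ[k] K' :=
  { Q.O.subtype with commutes' := fun _ => rfl }

theorem resAlgHom_apply (x : Q.O) : resAlgHom Q x = IsLocalRing.residue Q.O x := rfl
theorem coeAlgHom_apply (x : Q.O) : coeAlgHom Q x = (x : K') := rfl

/-- the key step: from `G_i` to `G_{i+1}` -/
theorem InG.succ_of_uniformizer [Algebra.IsSeparable k (IsLocalRing.ResidueField Q.O)]
    {σ : K' ≃ₐ[K] K'} {t : K'} (ht : Q.1 t = WithZero.exp (-1 : ℤ)) {i : ℕ} (hi : 1 ≤ i)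
    (hσ : InG Q σ i) (hσt : Q.1 (σ t - t) ≤ WithZero.exp (-((i + 1 : ℕ) : ℤ))) :
    InG Q σ (i + 1) := by
  have hσ1 : InG Q σ 1 := hσ.mono hi
  have ht0 : t ≠ 0 := by
    rintro rfl; rw [map_zero] at ht; exact WithZero.exp_ne_zero.symm ht
  -- step (1): elements of the maximal ideal
  have hm : ∀ z : K', Q.1 z < 1 → Q.1 (σ z - z) ≤ WithZero.exp (-((i + 1 : ℕ) : ℤ)) := by
    intro z hz
    set a := z / t with ha
    have hza : z = t * a := by rw [ha]; field_simp
    have hav : Q.1 a ≤ 1 := by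
      rw [ha, map_div₀, ht, div_le_one₀ WithZero.exp_pos]
      exact lt_one_iff_le_exp_neg_one.1 hz
    have h1 : σ z - z = (σ t - t) * σ a + t * (σ a - a) := by
      rw [hza, map_mul]; ring
    rw [h1]
    refine (Q.1.map_add _ _).trans (max_le ?_ ?_)
    · rw [map_mul]
      calc Q.1 (σ t - t) * Q.1 (σ a) ≤ WithZero.exp (-((i + 1 : ℕ) : ℤ)) * 1 := by
            gcongr
            exact val_sigma_le_one hσ1 hav
        _ = _ := mul_one _
    · rw [map_mul, ht]
      calc WithZero.exp (-1 : ℤ) * Q.1 (σ a - a)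
          ≤ WithZero.exp (-1 : ℤ) * WithZero.exp (-(i : ℤ)) := by
            gcongr
            exact hσ a hav
        _ = _ := by rw [exp_mul_exp]; congr 1; push_cast; ring
  -- step (2)
  intro x hx
  let X : Q.O := ⟨x, (Place.mem_O_iff Q _).2 hx⟩
  have hsx : Q.1 (σ x - x) ≤ 1 := by
    refine (hσ1 x hx).trans ?_
    rw [← WithZero.exp_zero]; exact WithZero.exp_le_exp.2 (by norm_num)
  let D : Q.O := ⟨σ x - x, (Place.mem_O_iff Q _).2 hsx⟩
  set xbar := IsLocalRing.residue Q.O X with hxbar
  have hsepx : IsSeparable k xbar := Algebra.IsSeparable.isSeparable k xbar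
  have hint : IsIntegral k xbar := hsepx.isIntegral
  set g := minpoly k xbar with hg
  set f : Q.O[X] := g.map (algebraMap k Q.O) with hf
  obtain ⟨c, hc⟩ := Polynomial.binomExpansion f X D
  -- evaluation facts
  have heval : ∀ Y : Q.O, ((f.eval Y : Q.O) : K') = aeval (Y : K') g := by
    intro Y
    rw [hf, Polynomial.eval_map_algebraMap, ← coeAlgHom_apply, ← Polynomial.aeval_algHom_apply,
      coeAlgHom_apply]
  have hres : IsLocalRing.residue Q.O (f.eval X) = 0 := by
    rw [hf, Polynomial.eval_map_algebraMap, ← resAlgHom_apply, ← Polynomial.aeval_algHom_apply,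
      resAlgHom_apply, ← hxbar, hg, minpoly.aeval]
  have hresd : IsLocalRing.residue Q.O (f.derivative.eval X) ≠ 0 := by
    rw [hf, Polynomial.derivative_map, Polynomial.eval_map_algebraMap, ← resAlgHom_apply,
      ← Polynomial.aeval_algHom_apply, resAlgHom_apply, ← hxbar]
    exact hsepx.aeval_derivative_ne_zero (minpoly.aeval k xbar)
  have hz1 : Q.1 ((f.eval X : Q.O) : K') < 1 := (Place.residue_eq_zero_iff Q _).1 hres
  have hXD : ((X + D : Q.O) : K') = σ x := by
    show x + (σ x - x) = σ x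
    ring
  have hσz : σ ((f.eval X : Q.O) : K') = ((f.eval (X + D) : Q.O) : K') := by
    rw [heval, heval, hXD]
    have := Polynomial.aeval_algHom_apply ((σ : K' →ₐ[K] K').restrictScalars k) x g
    exact this.symm
  have hkey := hm _ hz1
  rw [hσz, hc] at hkey
  have hkey' : Q.1 (((f.derivative.eval X * D + c * D ^ 2 : Q.O) : K')) ≤
      WithZero.exp (-((i + 1 : ℕ) : ℤ)) := by
    have : ((f.eval X + f.derivative.eval X * D + c * D ^ 2 : Q.O) : K') - ((f.eval X : Q.O) : K') =
        ((f.derivative.eval X * D + c * D ^ 2 : Q.O) : K') := by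
      push_cast; ring
    rw [← this]; exact hkey
  have hcD : Q.1 ((c * D ^ 2 : Q.O) : K') ≤ WithZero.exp (-((i + 1 : ℕ) : ℤ)) := by
    have hcv : Q.1 (c : K') ≤ 1 := (Place.mem_O_iff Q _).1 c.2
    have hDv : Q.1 (D : K') ≤ WithZero.exp (-(i : ℤ)) := hσ x hx
    push_cast
    rw [map_mul, map_pow]
    calc Q.1 (c : K') * Q.1 (D : K') ^ 2 ≤ 1 * (WithZero.exp (-(i : ℤ))) ^ 2 := by gcongr
      _ = WithZero.exp (-(2 * i : ℤ)) := by
          rw [one_mul, ← WithZero.exp_nsmul]; congr 1; simp
      _ ≤ _ := WithZero.exp_le_exp.2 (by push_cast; omega)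
  have hfD : Q.1 ((f.derivative.eval X * D : Q.O) : K') ≤ WithZero.exp (-((i + 1 : ℕ) : ℤ)) := by
    have : ((f.derivative.eval X * D : Q.O) : K') =
        ((f.derivative.eval X * D + c * D ^ 2 : Q.O) : K') - ((c * D ^ 2 : Q.O) : K') := by
      push_cast; ring
    rw [this]
    exact (Valuation.map_sub _ _ _).trans (max_le hkey' hcD)
  have hunit : Q.1 ((f.derivative.eval X : Q.O) : K') = 1 := by
    apply le_antisymm ((Place.mem_O_iff Q _).1 (f.derivative.eval X).2)
    by_contra hlt
    push Not at hlt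
    exact hresd ((Place.residue_eq_zero_iff Q _).2 hlt)
  have : ((f.derivative.eval X * D : Q.O) : K') = ((f.derivative.eval X : Q.O) : K') * (σ x - x) := by
    push_cast; rfl
  rw [this, map_mul, hunit, one_mul] at hfD
  exact hfD

/-- **S11027** (the non-trivial direction): membership in `G_j` is detected on a uniformizer. -/
theorem InG.of_uniformizer [Algebra.IsSeparable k (IsLocalRing.ResidueField Q.O)]
    {σ : K' ≃ₐ[K] K'} (hσ : InG Q σ 1) {t : K'} (ht : Q.1 t = WithZero.exp (-1 : ℤ)) (j : ℕ)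
    (hj : 1 ≤ j) (hσt : Q.1 (σ t - t) ≤ WithZero.exp (-(j : ℤ))) : InG Q σ j := by
  induction j, hj using Nat.le_induction with
  | base => exact hσ
  | succ i hi ih =>
    have h1 : Q.1 (σ t - t) ≤ WithZero.exp (-(i : ℤ)) :=
      hσt.trans (exp_neg_le (by push_cast; omega))
    exact InG.succ_of_uniformizer ht hi (ih h1) hσt

end Groth.Agent.Helper27.Ram
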