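import Mathlib
import Groth.Agent.Lib.Helper27.RamB

set_option autoImplicit false

namespace Groth.Agent.Helper27.Ram

open FunFld Groth.Agent.Helper16.FFW Polynomial
open scoped WithZero

variable {k K K' : Type*} [Field k] [Field K] [Field K'] [Algebra k K] [Algebra K K'] [Algebra k K']
  [IsScalarTower k K K'] {Q : Place k K'}

theorem main11027 (k K K' : Type*) [Field k] [Field K] [Field K'] [Algebra k K] [Algebra K K'] [Algebra k K']
    [IsScalarTower k K K'] (Q : FunFld.Place k K') [Algebra.IsSeparable k (IsLocalRing.ResidueField Q.O)]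
    (σ : K' ≃ₐ[K] K') (hσ : (∀ x : K', Q.1 x ≤ 1 → Q.1 (σ x - x) ≤ WithZero.exp (-(1 : ℤ)))) (t : K') (ht : Q.1 t = WithZero.exp (-1))
    (j : ℕ) (hj : 1 ≤ j) :
    (∀ x : K', Q.1 x ≤ 1 → Q.1 (σ x - x) ≤ WithZero.exp (-(j : ℤ))) ↔ Q.1 (σ t - t) ≤ WithZero.exp (-(j : ℤ)) := by
  constructor
  · intro h
    apply h t
    rw [ht, ← WithZero.exp_zero]; exact WithZero.exp_le_exp.2 (by norm_num)
  · intro h
    have hσ1 : InG Q σ 1 := fun x hx => by simpa using hσ x hx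
    exact InG.of_uniformizer hσ1 ht j hj h

omit [IsScalarTower k K K'] in
/-- `δ_σ` maps `m^i` into `m^{i+1}` for `σ ∈ G_i`, `i ≥ 2`. -/
theorem val_delta_le {σ : K' ≃ₐ[K] K'} {t : K'} (ht : Q.1 t = WithZero.exp (-1 : ℤ)) {i : ℕ}
    (hi : 2 ≤ i) (hσ : InG Q σ i) {y : K'} (hy : Q.1 y ≤ WithZero.exp (-(i : ℤ))) :
    Q.1 (σ y - y) ≤ WithZero.exp (-((i + 1 : ℕ) : ℤ)) := by
  have hσ1 : InG Q σ 1 := hσ.mono (by omega)
  have ht0 : t ≠ 0 := by
    rintro rfl; rw [map_zero] at ht; exact WithZero.exp_ne_zero.symm ht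
  have ht1 : Q.1 t ≤ 1 := by
    rw [ht, ← WithZero.exp_zero]; exact WithZero.exp_le_exp.2 (by norm_num)
  set a := y / t with ha
  have hya : y = t * a := by rw [ha]; field_simp
  have hav : Q.1 a ≤ WithZero.exp (-((i - 1 : ℕ) : ℤ)) := by
    rw [ha, map_div₀, ht, div_le_iff₀ WithZero.exp_pos, exp_mul_exp]
    refine hy.trans (le_of_eq ?_)
    congr 1
    have : ((i - 1 : ℕ) : ℤ) = (i : ℤ) - 1 := by omega
    rw [this]; ring
  have hav1 : Q.1 a ≤ 1 := by
    refine hav.trans ?_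
    rw [← WithZero.exp_zero]; exact WithZero.exp_le_exp.2 (by omega)
  have h1 : σ y - y = (σ t - t) * σ a + t * (σ a - a) := by
    rw [hya, map_mul]; ring
  rw [h1]
  refine (Q.1.map_add _ _).trans (max_le ?_ ?_)
  · rw [map_mul]
    calc Q.1 (σ t - t) * Q.1 (σ a)
        ≤ WithZero.exp (-(i : ℤ)) * WithZero.exp (-((i - 1 : ℕ) : ℤ)) := by
          gcongr
          · exact hσ t ht1
          · exact val_sigma_le_exp hσ1 ht (i - 1) hav
      _ = WithZero.exp (-(i : ℤ) + -((i - 1 : ℕ) : ℤ)) := exp_mul_exp _ _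
      _ ≤ _ := WithZero.exp_le_exp.2 (by push_cast; omega)
  · rw [map_mul, ht]
    calc WithZero.exp (-1 : ℤ) * Q.1 (σ a - a)
        ≤ WithZero.exp (-1 : ℤ) * WithZero.exp (-(i : ℤ)) := by
          gcongr
          exact hσ a hav1
      _ = _ := by rw [exp_mul_exp]; congr 1; push_cast; ring

omit [IsScalarTower k K K'] in
/-- additivity of `σ ↦ σ t - t` modulo `m^{i+1}` on `G_i`, `i ≥ 2`. -/
theorem theta_mul {σ τ : K' ≃ₐ[K] K'} {t : K'} (ht : Q.1 t = WithZero.exp (-1 : ℤ)) {i : ℕ}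
    (hi : 2 ≤ i) (hσ : InG Q σ i) (hτ : InG Q τ i) :
    Q.1 (((σ * τ) t - t) - ((σ t - t) + (τ t - t))) ≤ WithZero.exp (-((i + 1 : ℕ) : ℤ)) := by
  have ht1 : Q.1 t ≤ 1 := by
    rw [ht, ← WithZero.exp_zero]; exact WithZero.exp_le_exp.2 (by norm_num)
  have h1 : ((σ * τ) t - t) - ((σ t - t) + (τ t - t)) = σ (τ t - t) - (τ t - t) := by
    rw [AlgEquiv.mul_apply, map_sub]; ring
  rw [h1]
  exact val_delta_le ht hi hσ (hτ t ht1)

theorem theta_pow {σ : K' ≃ₐ[K] K'} {t : K'} (ht : Q.1 t = WithZero.exp (-1 : ℤ)) {i : ℕ}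
    (hi : 2 ≤ i) (hσ : InG Q σ i) (n : ℕ) :
    Q.1 (((σ ^ n) t - t) - (n : K') * (σ t - t)) ≤ WithZero.exp (-((i + 1 : ℕ) : ℤ)) := by
  induction n with
  | zero => simp
  | succ n ih =>
    have h1 := theta_mul ht hi (InG.pow (by omega) ht hσ n) hσ
    have h2 : ((σ ^ (n + 1)) t - t) - ((n + 1 : ℕ) : K') * (σ t - t) =
        (((σ ^ n * σ) t - t) - (((σ ^ n) t - t) + (σ t - t))) +
          (((σ ^ n) t - t) - (n : K') * (σ t - t)) := by
      rw [pow_succ]; push_cast; ring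
    rw [h2]
    exact (Q.1.map_add _ _).trans (max_le h1 ih)

theorem main11025 (k K K' : Type*) [Field k] [Field K] [Field K'] [Algebra k K] [Algebra K K'] [Algebra k K']
    [IsScalarTower k K K'] [FiniteDimensional K K'] (Q : FunFld.Place k K') [Algebra.IsSeparable k (IsLocalRing.ResidueField Q.O)]
    (i : ℕ) (hi : 2 ≤ i) (σ τ : K' ≃ₐ[K] K') (hσ : (∀ x : K', Q.1 x ≤ 1 → Q.1 (σ x - x) ≤ WithZero.exp (-(i : ℤ)))) (hτ : (∀ x : K', Q.1 x ≤ 1 → Q.1 (τ x - x) ≤ WithZero.exp (-(i : ℤ)))) :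
    (∀ x : K', Q.1 x ≤ 1 → Q.1 ((σ * τ * σ⁻¹ * τ⁻¹) x - x) ≤ WithZero.exp (-((i + 1) : ℤ))) ∧
    (ringChar K = 0 → (∀ x : K', Q.1 x ≤ 1 → Q.1 (σ x - x) ≤ WithZero.exp (-((i + 1) : ℤ)))) ∧
    ∀ p : ℕ, p.Prime → ringChar K = p → (∀ x : K', Q.1 x ≤ 1 → Q.1 ((σ ^ p) x - x) ≤ WithZero.exp (-((i + 1) : ℤ))) := by
  obtain ⟨t, ht⟩ := Place.exists_uniformizer Q
  have hσi : InG Q σ i := hσ
  have hτi : InG Q τ i := hτ
  have hi1 : 1 ≤ i := by omega
  have hconv : ∀ ρ : K' ≃ₐ[K] K', InG Q ρ (i + 1) →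
      ∀ x : K', Q.1 x ≤ 1 → Q.1 (ρ x - x) ≤ WithZero.exp (-((i + 1) : ℤ)) := by
    intro ρ h x hx
    have := h x hx
    push_cast at this
    exact this
  have hfin : ∀ ρ : K' ≃ₐ[K] K', InG Q ρ i →
      Q.1 (ρ t - t) ≤ WithZero.exp (-((i + 1 : ℕ) : ℤ)) → InG Q ρ (i + 1) := fun ρ h1 h2 =>
    InG.of_uniformizer (h1.mono hi1) ht (i + 1) (by omega) h2
  refine ⟨?_, ?_, ?_⟩
  · apply hconv
    have hσinv := InG.inv hi1 ht hσi
    have hτinv := InG.inv hi1 ht hτi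
    have hc1 := InG.mul hi1 ht hσi hτi
    have hc2 := InG.mul hi1 ht hc1 hσinv
    have hc3 := InG.mul hi1 ht hc2 hτinv
    apply hfin _ hc3
    have e1 := theta_mul ht hi hσi hτi
    have e2 := theta_mul ht hi hc1 hσinv
    have e3 := theta_mul ht hi hc2 hτinv
    have e4 := theta_mul ht hi hσi hσinv
    have e5 := theta_mul ht hi hτi hτinv
    rw [mul_inv_cancel] at e4 e5
    have hsplit : (σ * τ * σ⁻¹ * τ⁻¹) t - t =
        ((((σ * τ * σ⁻¹ * τ⁻¹) t - t) - (((σ * τ * σ⁻¹) t - t) + (τ⁻¹ t - t))) +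
        ((((σ * τ * σ⁻¹) t - t) - (((σ * τ) t - t) + (σ⁻¹ t - t))) +
        ((((σ * τ) t - t) - ((σ t - t) + (τ t - t))) -
        ((((1 : K' ≃ₐ[K] K') t - t) - ((σ t - t) + (σ⁻¹ t - t))) +
        (((1 : K' ≃ₐ[K] K') t - t) - ((τ t - t) + (τ⁻¹ t - t))))))) := by
      simp only [AlgEquiv.one_apply]; ring
    rw [hsplit]
    refine (Q.1.map_add _ _).trans (max_le e3 ?_)
    refine (Q.1.map_add _ _).trans (max_le e2 ?_)
    refine (Valuation.map_sub _ _ _).trans (max_le e1 ?_)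
    exact (Q.1.map_add _ _).trans (max_le e4 e5)
  · intro h0
    apply hconv
    apply hfin _ hσi
    haveI : CharP K 0 := by have := ringChar.charP K; rwa [h0] at this
    haveI : CharZero K := CharP.charP_to_charZero K
    have hfinG : Finite (K' ≃ₐ[K] K') := inferInstance
    set n := orderOf σ with hn
    have hnpos : 0 < n := orderOf_pos σ
    have e := theta_pow ht hi hσi n
    rw [hn, pow_orderOf_eq_one, AlgEquiv.one_apply, sub_self, zero_sub, Valuation.map_neg, map_mul]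
      at e
    have hnk : (n : k) ≠ 0 := by
      intro h
      have : (n : K) = 0 := by
        have := congrArg (algebraMap k K) h
        simpa using this
      exact hnpos.ne' (by exact_mod_cast this)
    have hnv : Q.1 (n : K') = 1 := by
      have : (n : K') = algebraMap k K' (n : k) := by simp
      rw [this]
      exact Place.val_algebraMap Q hnk
    rw [← hn, hnv, one_mul] at e
    exact e
  · intro p hp hpc
    apply hconv
    apply hfin _ (InG.pow hi1 ht hσi p)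
    haveI : CharP K p := by have := ringChar.charP K; rwa [hpc] at this
    have e := theta_pow ht hi hσi p
    have hp0 : (p : K') = 0 := by
      have h1 : (p : K) = 0 := CharP.cast_eq_zero K p
      have h2 := congrArg (algebraMap K K') h1
      rw [map_natCast, map_zero] at h2
      exact h2
    rw [hp0, zero_mul, sub_zero] at e
    exact e

end Groth.Agent.Helper27.Ram
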