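import Mathlib
import Groth.Agent.Lib.Helper27.RamC

set_option autoImplicit false

namespace Groth.Agent.Helper27.Ram

open FunFld Groth.Agent.Helper16.FFW Polynomial
open scoped WithZero

variable {k K K' : Type*} [Field k] [Field K] [Field K'] [Algebra k K] [Algebra K K'] [Algebra k K']
  [IsScalarTower k K K'] {Q : Place k K'}

/-- residue class of a unit of the valuation ring, as a unit of the residue field -/
noncomputable def resUnit (Q : Place k K') (x : K') (hx : Q.1 x = 1) :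
    (IsLocalRing.ResidueField Q.O)ˣ :=
  Units.mk0 (IsLocalRing.residue Q.O ⟨x, (Place.mem_O_iff Q x).2 hx.le⟩) (by
    rw [Ne, Place.residue_eq_zero_iff]
    show ¬ Q.1 x < 1
    rw [hx]; exact lt_irrefl _)

theorem resUnit_mul {x y : K'} (hx : Q.1 x = 1) (hy : Q.1 y = 1) (hxy : Q.1 (x * y) = 1) :
    resUnit Q (x * y) hxy = resUnit Q x hx * resUnit Q y hy := by
  apply Units.ext
  simp only [resUnit, Units.val_mk0, Units.val_mul]
  rw [← map_mul]
  rfl

theorem resUnit_congr {x y : K'} (hx : Q.1 x = 1) (hy : Q.1 y = 1) (hxy : Q.1 (x - y) < 1) :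
    resUnit Q x hx = resUnit Q y hy := by
  apply Units.ext
  simp only [resUnit, Units.val_mk0]
  rw [← sub_eq_zero, ← map_sub, Place.residue_eq_zero_iff]
  exact hxy

theorem val_sub_one_of_resUnit_eq_one {x : K'} (hx : Q.1 x = 1) (h : resUnit Q x hx = 1) :
    Q.1 (x - 1) < 1 := by
  have h1 := congrArg Units.val h
  simp only [resUnit, Units.val_mk0, Units.val_one] at h1
  have h2 : IsLocalRing.residue Q.O (⟨x, (Place.mem_O_iff Q x).2 hx.le⟩ - 1) = 0 := by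
    rw [map_sub, h1, map_one, sub_self]
  exact (Place.residue_eq_zero_iff Q _).1 h2

theorem val_sigma_uniformizer [FiniteDimensional K K'] {σ : K' ≃ₐ[K] K'} (hσ : InG Q σ 1) {t : K'}
    (ht : Q.1 t = WithZero.exp (-1 : ℤ)) : Q.1 (σ t) = WithZero.exp (-1 : ℤ) := by
  have h1 : Q.1 (σ t) ≤ WithZero.exp (-((1 : ℕ) : ℤ)) :=
    val_sigma_le_exp hσ ht 1 (by rw [ht]; simp)
  apply le_antisymm (by simpa using h1)
  by_contra hlt
  push Not at hlt
  have h2 : Q.1 (σ t) ≤ WithZero.exp (-((2 : ℕ) : ℤ)) := by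
    have := (lt_exp_succ_iff (a := Q.1 (σ t)) (-2)).1 (by simpa using hlt)
    simpa using this
  have h3 := val_sigma_le_exp (InG.inv le_rfl ht hσ) ht 2 h2
  have h4 : σ⁻¹ (σ t) = t := by
    rw [← AlgEquiv.mul_apply, inv_mul_cancel, AlgEquiv.one_apply]
  rw [h4, ht, WithZero.exp_le_exp] at h3
  norm_num at h3

theorem main11024 (k K K' : Type*) [Field k] [Field K] [Field K'] [Algebra k K] [Algebra K K'] [Algebra k K']
    [IsScalarTower k K K'] [FiniteDimensional K K'] (Q : FunFld.Place k K') [Algebra.IsSeparable k (IsLocalRing.ResidueField Q.O)] :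
    ∃ σ₀ : K' ≃ₐ[K] K', (∀ x : K', Q.1 x ≤ 1 → Q.1 (σ₀ x - x) ≤ WithZero.exp (-(1 : ℤ))) ∧
      ∀ σ : K' ≃ₐ[K] K', (∀ x : K', Q.1 x ≤ 1 → Q.1 (σ x - x) ≤ WithZero.exp (-(1 : ℤ))) →
        ∃ n : ℕ, (∀ x : K', Q.1 x ≤ 1 → Q.1 (((σ₀ ^ n)⁻¹ * σ) x - x) ≤ WithZero.exp (-(2 : ℤ))) := by
  classical
  obtain ⟨t, ht⟩ := Place.exists_uniformizer Q
  have ht0 : t ≠ 0 := by
    rintro rfl; rw [map_zero] at ht; exact WithZero.exp_ne_zero.symm ht
  have ht1 : Q.1 t ≤ 1 := by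
    rw [ht, ← WithZero.exp_zero]; exact WithZero.exp_le_exp.2 (by norm_num)
  let G1 : Subgroup (K' ≃ₐ[K] K') :=
    { carrier := {σ | InG Q σ 1}
      mul_mem' := fun ha hb => InG.mul le_rfl ht ha hb
      one_mem' := InG.one 1
      inv_mem' := fun ha => InG.inv le_rfl ht ha }
  have hu : ∀ σ : G1, Q.1 ((σ : K' ≃ₐ[K] K') t / t) = 1 := by
    intro σ
    rw [map_div₀, val_sigma_uniformizer σ.2 ht, ht, div_self WithZero.exp_ne_zero]
  let ψ : G1 →* (IsLocalRing.ResidueField Q.O)ˣ := MonoidHom.mk'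
    (fun σ => resUnit Q ((σ : K' ≃ₐ[K] K') t / t) (hu σ)) (by
      intro σ τ
      have hστ : ((σ * τ : G1) : K' ≃ₐ[K] K') t / t =
          (σ : K' ≃ₐ[K] K') ((τ : K' ≃ₐ[K] K') t / t) * ((σ : K' ≃ₐ[K] K') t / t) := by
        rw [Subgroup.coe_mul, AlgEquiv.mul_apply, map_div₀]
        have : (σ : K' ≃ₐ[K] K') t ≠ 0 := by
          rw [Ne, map_eq_zero_iff _ (AlgEquiv.injective _)]; exact ht0
        field_simp
      have hσu : Q.1 ((σ : K' ≃ₐ[K] K') ((τ : K' ≃ₐ[K] K') t / t)) = 1 := by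
        have := hu (σ * τ)
        rw [hστ, map_mul, hu σ, mul_one] at this
        exact this
      have hprod : Q.1 ((σ : K' ≃ₐ[K] K') ((τ : K' ≃ₐ[K] K') t / t) *
          ((σ : K' ≃ₐ[K] K') t / t)) = 1 := by rw [map_mul, hσu, hu σ, mul_one]
      have h1 : resUnit Q (((σ * τ : G1) : K' ≃ₐ[K] K') t / t) (hu (σ * τ)) =
          resUnit Q _ hprod := by
        congr 1
      rw [h1, resUnit_mul hσu (hu σ) hprod, mul_comm]
      congr 1
      apply resUnit_congr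
      have := σ.2 _ (hu τ).le
      refine lt_of_le_of_lt this ?_
      rw [← WithZero.exp_zero]; exact WithZero.exp_lt_exp.2 (by norm_num))
  have hψ : ∀ σ : G1, ψ σ = resUnit Q ((σ : K' ≃ₐ[K] K') t / t) (hu σ) := fun σ => rfl
  haveI : Finite G1 := inferInstance
  haveI : Finite ψ.range := by
    have : Finite (Set.range ψ) := Set.finite_coe_iff.2 (Set.finite_range ψ)
    exact this
  obtain ⟨⟨g, σ₀, rfl⟩, hg⟩ := IsCyclic.exists_generator (α := ψ.range)
  refine ⟨σ₀, fun x hx => by simpa using σ₀.2 x hx, fun σ hσ => ?_⟩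
  have hσ1 : InG Q σ 1 := fun x hx => by simpa using hσ x hx
  let σ' : G1 := ⟨σ, hσ1⟩
  have hmem := hg ⟨ψ σ', σ', rfl⟩
  rw [← mem_powers_iff_mem_zpowers] at hmem
  obtain ⟨n, hn⟩ := hmem
  refine ⟨n, ?_⟩
  have hn' : ψ σ₀ ^ n = ψ σ' := by
    have := congrArg Subtype.val hn
    simpa using this
  set ρ : G1 := (σ₀ ^ n)⁻¹ * σ' with hρ
  have hρ1 : ψ ρ = 1 := by
    rw [hρ, map_mul, map_inv, map_pow, hn', inv_mul_cancel]
  have hρcoe : (ρ : K' ≃ₐ[K] K') = ((σ₀ : K' ≃ₐ[K] K') ^ n)⁻¹ * σ := by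
    rw [hρ]; simp [σ']
  rw [← hρcoe]
  have h2 := val_sub_one_of_resUnit_eq_one (hu ρ) (by rw [← hψ]; exact hρ1)
  have h3 : Q.1 ((ρ : K' ≃ₐ[K] K') t - t) < WithZero.exp (-1 : ℤ) := by
    have : (ρ : K' ≃ₐ[K] K') t - t = ((ρ : K' ≃ₐ[K] K') t / t - 1) * t := by field_simp
    rw [this, map_mul, ht]
    calc Q.1 ((ρ : K' ≃ₐ[K] K') t / t - 1) * WithZero.exp (-1 : ℤ)
        < 1 * WithZero.exp (-1 : ℤ) := by
          apply mul_lt_mul_of_pos_right h2 WithZero.exp_pos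
      _ = _ := one_mul _
  have h4 : Q.1 ((ρ : K' ≃ₐ[K] K') t - t) ≤ WithZero.exp (-((2 : ℕ) : ℤ)) := by
    have := (lt_exp_succ_iff (a := Q.1 ((ρ : K' ≃ₐ[K] K') t - t)) (-2)).1 (by simpa using h3)
    simpa using this
  have h5 := InG.of_uniformizer ρ.2 ht 2 (by norm_num) h4
  intro x hx
  simpa using h5 x hx

end Groth.Agent.Helper27.Ram
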