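import Mathlib
import Groth.Agent.Lib.Helper27.HypE
import Groth.Agent.Lib.Helper27.RamD
import Groth.Agent.Lib.Helper27.CstB
import Groth.Agent.Lib.Helper27.DExpF

/-! Hilbert's different formula, part A: residue field through an expansion. -/

set_option autoImplicit false

namespace Groth.Agent.Helper27.Hd

open FunFld Groth.Agent.Helper16.FFW HahnSeries LaurentSeries
open scoped WithZero

universe u v w

variable {k : Type u} {K : Type v} [Field k] [Field K] [Algebra k K]
  {F : Type w} [Field F] [Algebra k F]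

/-- reduction `O_P → F` through an expansion -/
noncomputable def redHom (P : Place k K) (φ : K →ₐ[k] F⸨X⸩)
    (hφ : ∀ f : K, Valued.v (φ f) = P.1 f) : P.O →ₐ[k] F where
  toFun z := (φ (z : K)).coeff 0
  map_one' := by
    show (φ ((1 : P.O) : K)).coeff 0 = 1
    rw [OneMemClass.coe_one, map_one, HahnSeries.coeff_one, if_pos rfl]
  map_mul' a b := by
    show (φ ((a * b : P.O) : K)).coeff 0 = (φ (a : K)).coeff 0 * (φ (b : K)).coeff 0
    rw [MulMemClass.coe_mul, map_mul, Hyp.coeff_zero_mul' _ _
      (by rw [hφ]; exact (Place.mem_O_iff P _).1 a.2) (by rw [hφ]; exact (Place.mem_O_iff P _).1 b.2)]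
  map_zero' := by
    show (φ ((0 : P.O) : K)).coeff 0 = 0
    rw [ZeroMemClass.coe_zero, map_zero, HahnSeries.coeff_zero]
  map_add' a b := by
    show (φ ((a + b : P.O) : K)).coeff 0 = (φ (a : K)).coeff 0 + (φ (b : K)).coeff 0
    rw [AddMemClass.coe_add, map_add, HahnSeries.coeff_add]
  commutes' c := by
    show (φ (algebraMap k K c)).coeff 0 = algebraMap k F c
    rw [LocRes.map_algebraMap, HahnSeries.C_apply, HahnSeries.coeff_single_same]

theorem redHom_apply (P : Place k K) (φ : K →ₐ[k] F⸨X⸩)
    (hφ : ∀ f : K, Valued.v (φ f) = P.1 f) (z : P.O) :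
    redHom P φ hφ z = (φ (z : K)).coeff 0 := rfl

theorem redHom_eq_zero_iff (P : Place k K) (φ : K →ₐ[k] F⸨X⸩)
    (hφ : ∀ f : K, Valued.v (φ f) = P.1 f) (z : P.O) :
    redHom P φ hφ z = 0 ↔ P.1 (z : K) < 1 := by
  rw [redHom_apply, ← hφ]
  exact (Hyp.val_lt_one_iff_coeff_zero _ (by rw [hφ]; exact (Place.mem_O_iff P _).1 z.2)).symm

/-- the residue field embeds into the coefficient field -/
noncomputable def resHom (P : Place k K) (φ : K →ₐ[k] F⸨X⸩)
    (hφ : ∀ f : K, Valued.v (φ f) = P.1 f) : IsLocalRing.ResidueField P.O →ₐ[k] F :=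
  { Ideal.Quotient.lift (IsLocalRing.maximalIdeal P.O) (redHom P φ hφ : P.O →+* F)
      (fun a ha => by
        show redHom P φ hφ a = 0
        rw [redHom_eq_zero_iff]
        exact (Valuation.mem_maximalIdeal_iff _ _).1 ha) with
    commutes' := fun c => by
      show Ideal.Quotient.lift (IsLocalRing.maximalIdeal P.O) (redHom P φ hφ : P.O →+* F) _
        (Ideal.Quotient.mk _ (algebraMap k P.O c)) = algebraMap k F c
      rw [Ideal.Quotient.lift_mk]
      exact (redHom P φ hφ).commutes c }

/-- The coefficient field of an expansion at a place is finite over the constants (weak version). -/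
theorem finiteDimensional_of_expansion (hK : IsWeakFF k K) (P : Place k K)
    (φ : K →ₐ[k] F⸨X⸩) (hφ : LocRes.IsExpansionAt P.1 φ) : FiniteDimensional k F := by
  classical
  have := Place.finiteDimensional_residueField hK P
  obtain ⟨hval, hsurj, -⟩ := hφ
  have hs : Function.Surjective (resHom P φ hval) := by
    intro a
    obtain ⟨f, hf1, hfa⟩ := hsurj a
    refine ⟨IsLocalRing.residue P.O ⟨f, (Place.mem_O_iff P f).2 hf1⟩, ?_⟩
    exact hfa
  exact Module.Finite.of_surjective (hM := this) (resHom P φ hval).toLinearMap hs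

/-- the residue field at a place with an expansion is separable over the constants -/
theorem isSeparable_residue (hK : IsWeakFF k K) (h1 : Module.finrank K (Ω[K⁄k]) = 1)
    (P : Place k K) (φ : K →ₐ[k] F⸨X⸩) (hφ : LocRes.IsExpansionAt P.1 φ) :
    Algebra.IsSeparable k (IsLocalRing.ResidueField P.O) := by
  haveI := finiteDimensional_of_expansion hK P φ hφ
  haveI : Algebra.IsSeparable k F := RH.isSeparable_of_expansion' h1 P φ hφ
  exact Algebra.IsSeparable.of_algHom k F (resHom P φ hφ.1)

end Groth.Agent.Helper27.Hd
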