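import Mathlib
import Groth.Agent.Lib.Helper27.HdA

/-! Hilbert's different formula, part B: the inertia group `G_1`. -/

set_option autoImplicit false

namespace Groth.Agent.Helper27.Hd

open FunFld Groth.Agent.Helper16.FFW Polynomial
open scoped WithZero Pointwise

variable {k K K' : Type*} [Field k] [Field K] [Field K'] [Algebra k K] [Algebra K K'] [Algebra k K']
  [IsScalarTower k K K']

attribute [local instance] galAction

variable (K) in
/-- the inertia group `G_1` -/
def inertia [FiniteDimensional K K'] (Q : Place k K') : Subgroup (K' ≃ₐ[K] K') where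
  carrier := {σ | Ram.InG Q σ 1}
  mul_mem' := fun {a b} ha hb => by
    obtain ⟨t, ht⟩ := Place.exists_uniformizer Q
    exact Ram.InG.mul le_rfl ht ha hb
  one_mem' := Ram.InG.one 1
  inv_mem' := fun {a} ha => by
    obtain ⟨t, ht⟩ := Place.exists_uniformizer Q
    exact Ram.InG.inv le_rfl ht ha

variable [FiniteDimensional K K'] {Q : Place k K'}

theorem mem_inertia {σ : K' ≃ₐ[K] K'} : σ ∈ inertia K Q ↔ Ram.InG Q σ 1 := Iff.rfl

/-- elements of `G_1` preserve the valuation -/
theorem smul_eq_of_mem {σ : K' ≃ₐ[K] K'} (hσ : σ ∈ inertia K Q) : σ • Q = Q := by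
  apply Place.eq_of_le_one_imp
  intro y hy
  rw [galAction_apply] at hy
  have := Ram.val_sigma_le_one (mem_inertia.1 hσ) hy
  have e : σ (σ⁻¹ y) = y := by rw [← AlgEquiv.mul_apply, mul_inv_cancel, AlgEquiv.one_apply]
  rwa [e] at this

theorem val_apply_of_mem {σ : K' ≃ₐ[K] K'} (hσ : σ ∈ inertia K Q) (x : K') :
    Q.1 (σ x) = Q.1 x := by
  have h := smul_eq_of_mem ((inertia K Q).inv_mem hσ)
  have h2 := galAction_apply σ⁻¹ Q x
  rw [h, inv_inv] at h2
  exact h2.symm

theorem mem_decomposition {σ : K' ≃ₐ[K] K'} (hσ : σ ∈ inertia K Q) :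
    σ ∈ Q.O.decompositionSubgroup K := by
  rw [← stabilizer_eq_decomposition]
  exact smul_eq_of_mem hσ

theorem mem_inertiaSubgroup_iff (g : Q.O.decompositionSubgroup K) :
    g ∈ Q.O.inertiaSubgroup K ↔ ∀ α : IsLocalRing.ResidueField Q.O, g • α = α := by
  show g ∈ MonoidHom.ker _ ↔ _
  rw [MonoidHom.mem_ker]
  constructor
  · intro h α
    have := congrArg (fun f : RingAut (IsLocalRing.ResidueField Q.O) => f α) h
    exact this
  · intro h
    ext α
    exact h α

theorem coe_smul_O (g : Q.O.decompositionSubgroup K) (a : Q.O) :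
    ((g • a : Q.O) : K') = (g : K' ≃ₐ[K] K') (a : K') := rfl

theorem mem_inertia_iff (σ : K' ≃ₐ[K] K') :
    σ ∈ inertia K Q ↔ ∃ h : σ ∈ Q.O.decompositionSubgroup K,
      (⟨σ, h⟩ : Q.O.decompositionSubgroup K) ∈ Q.O.inertiaSubgroup K := by
  constructor
  · intro hσ
    refine ⟨mem_decomposition hσ, ?_⟩
    rw [mem_inertiaSubgroup_iff]
    intro α
    obtain ⟨a, rfl⟩ := IsLocalRing.residue_surjective α
    rw [← IsLocalRing.ResidueField.residue_smul, ← sub_eq_zero, ← map_sub,
      Place.residue_eq_zero_iff]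
    show Q.1 (σ (a : K') - (a : K')) < 1
    exact lt_one_iff_le_exp_neg_one.2 (hσ _ ((Place.mem_O_iff Q _).1 a.2))
  · rintro ⟨h, hin⟩
    rw [mem_inertiaSubgroup_iff] at hin
    intro x hx
    have h1 := hin (IsLocalRing.residue Q.O ⟨x, (Place.mem_O_iff Q _).2 hx⟩)
    rw [← IsLocalRing.ResidueField.residue_smul, ← sub_eq_zero, ← map_sub,
      Place.residue_eq_zero_iff] at h1
    exact lt_one_iff_le_exp_neg_one.1 h1

theorem card_inertia_eq :
    Nat.card (inertia K Q) = Nat.card (Q.O.inertiaSubgroup K) := by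
  refine Nat.card_congr
    { toFun := fun σ => ⟨⟨σ.1, ((mem_inertia_iff σ.1).1 σ.2).choose⟩,
        ((mem_inertia_iff σ.1).1 σ.2).choose_spec⟩
      invFun := fun g => ⟨g.1.1, (mem_inertia_iff g.1.1).2 ⟨g.1.2, g.2⟩⟩
      left_inv := fun σ => rfl
      right_inv := fun g => rfl }

/-- `|G_1| = e` -/
theorem card_inertia [IsGalois K K'] (hK : IsFunctionField k K) {P : Place k K} {e : ℕ}
    (he : IsOverWith Q P e) [Algebra.IsSeparable k (IsLocalRing.ResidueField Q.O)] :
    Nat.card (inertia K Q) = e := by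
  rw [card_inertia_eq]
  exact Inr.card_inertia hK he

end Groth.Agent.Helper27.Hd
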