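import Mathlib
import Groth.Agent.Lib.Helper27.HdB

/-! Hilbert's different formula, part C: the inertia field. -/

set_option autoImplicit false

namespace Groth.Agent.Helper27.Hd

open FunFld Groth.Agent.Helper16.FFW Polynomial IntermediateField
open scoped WithZero Pointwise

variable {k K K' : Type*} [Field k] [Field K] [Field K'] [Algebra k K] [Algebra K K'] [Algebra k K']
  [IsScalarTower k K K'] [FiniteDimensional K K'] {Q : Place k K'}

variable (K) in
/-- the inertia field -/
def inField (Q : Place k K') : IntermediateField K K' := fixedField (inertia K Q)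

instance isScalarTower_inField : IsScalarTower k (inField K Q) K' :=
  IsScalarTower.of_algebraMap_eq (fun _ => rfl)

theorem restrict_mem (τ : K' ≃ₐ[inField K Q] K') : τ.restrictScalars K ∈ inertia K Q := by
  have h : τ.restrictScalars K ∈ (inField K Q).fixingSubgroup := by
    rw [IntermediateField.mem_fixingSubgroup_iff]
    intro x hx
    exact τ.commutes ⟨x, hx⟩
  have h2 : (inField K Q).fixingSubgroup = inertia K Q := fixingSubgroup_fixedField (inertia K Q)
  rw [← h2]; exact h

theorem all_mem_inertia (τ : K' ≃ₐ[inField K Q] K') : τ ∈ inertia (inField K Q) Q := by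
  intro x hx
  exact restrict_mem τ x hx

theorem card_gal_inField [IsGalois K K'] :
    Nat.card (K' ≃ₐ[inField K Q] K') = Nat.card (inertia K Q) := by
  rw [IsGalois.card_aut_eq_finrank, show inField K Q = fixedField (inertia K Q) from rfl,
    finrank_fixedField_eq_card]

/-- `e(Q | Q_T) = |Gal(K'/T)|` for the place `Q_T` of the inertia field below `Q` -/
theorem card_gal_eq [IsGalois K K'] (hK : IsWeakFF k K)
    [Algebra.IsSeparable k (IsLocalRing.ResidueField Q.O)]
    {QT : Place k (inField K Q)} {eT : ℕ} (heT : IsOverWith Q QT eT) :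
    Nat.card (K' ≃ₐ[inField K Q] K') = eT := by
  have hT : IsWeakFF k (inField K Q) := isWeakFF_of_finite hK
  rw [← Cst.card_inertia_weak hT heT]
  refine Nat.card_congr
    { toFun := fun τ => ⟨⟨τ, ((mem_inertia_iff τ).1 (all_mem_inertia τ)).choose⟩,
        ((mem_inertia_iff τ).1 (all_mem_inertia τ)).choose_spec⟩
      invFun := fun g => g.1.1
      left_inv := fun σ => rfl
      right_inv := fun g => rfl }

/-- residue classes are represented in the inertia field -/
theorem exists_rep [IsGalois K K'] (hK : IsWeakFF k K)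
    [Algebra.IsSeparable k (IsLocalRing.ResidueField Q.O)] (x : K') (hx : Q.1 x ≤ 1) :
    ∃ b ∈ inField K Q, Q.1 (x - b) < 1 := by
  have hT : IsWeakFF k (inField K Q) := isWeakFF_of_finite hK
  obtain ⟨QT, eT, heT⟩ := exists_isOverWith hT Q
  haveI := Inr.hasExtension_of_isOverWith heT
  haveI := Inr.isScalarTower_res QT Q
  set α := IsLocalRing.residue Q.O ⟨x, (Place.mem_O_iff Q _).2 hx⟩ with hα
  have hfix : ∀ σ : Q.O.decompositionSubgroup (inField K Q), σ • α = α := by
    intro σ
    obtain ⟨h, hin⟩ := (mem_inertia_iff σ.1).1 (all_mem_inertia σ.1)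
    exact (mem_inertiaSubgroup_iff _).1 hin α
  have hsep : IsSeparable (IsLocalRing.ResidueField QT.O) α :=
    IsSeparable.tower_top _ (Algebra.IsSeparable.isSeparable k α)
  obtain ⟨β, hβ⟩ := Inr.fixed_mem_range heT α hfix hsep
  obtain ⟨b, rfl⟩ := IsLocalRing.residue_surjective β
  rw [Valuation.HasExtension.algebraMap_residue_eq_residue_algebraMap, hα, ← sub_eq_zero,
    ← map_sub, Place.residue_eq_zero_iff] at hβ
  refine ⟨((b : inField K Q) : K'), (b : inField K Q).2, ?_⟩
  have h2 : Q.1 (((b : inField K Q) : K') - x) < 1 := hβ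
  rwa [← Valuation.map_neg, neg_sub] at h2

/-- elements of the inertia field in the maximal ideal have order at least `e` -/
theorem val_le_of_mem [IsGalois K K'] (hK : IsFunctionField k K) {P : Place k K} {e : ℕ}
    (he : IsOverWith Q P e) [Algebra.IsSeparable k (IsLocalRing.ResidueField Q.O)]
    (a : K') (ha : a ∈ inField K Q) (h1 : Q.1 a < 1) : Q.1 a ≤ WithZero.exp (-(e : ℤ)) := by
  have hT : IsWeakFF k (inField K Q) := isWeakFF_of_finite hK.1
  obtain ⟨QT, eT, heT⟩ := exists_isOverWith hT Q
  have h2 : eT = e := by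
    rw [← card_gal_eq hK.1 heT, card_gal_inField, card_inertia hK he]
  subst h2
  have h3 := heT ⟨a, ha⟩
  have h4 : Q.1 a = QT.1 ⟨a, ha⟩ ^ eT := h3
  rw [h4] at h1 ⊢
  have h5 : QT.1 ⟨a, ha⟩ < 1 := by
    by_contra hge
    push Not at hge
    exact absurd h1 (not_lt.2 (one_le_pow_of_one_le' hge eT))
  have h6 := lt_one_iff_le_exp_neg_one.1 h5
  calc QT.1 ⟨a, ha⟩ ^ eT ≤ (WithZero.exp (-1 : ℤ)) ^ eT := pow_le_pow_left' h6 eT
    _ = WithZero.exp (-(eT : ℤ)) := by rw [← WithZero.exp_nsmul]; simp

end Groth.Agent.Helper27.Hd
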