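import Mathlib
import Groth.Agent.Lib.Helper27.HdC

/-! Hilbert's different formula, part D: derivatives of elements of the inertia field. -/

set_option autoImplicit false

namespace Groth.Agent.Helper27.Hd

open FunFld Groth.Agent.Helper16.FFW Polynomial IntermediateField LaurentSeries
open scoped WithZero

variable {k K K' : Type*} [Field k] [Field K] [Field K'] [Algebra k K] [Algebra K K'] [Algebra k K']
  [IsScalarTower k K K'] {F' : Type*} [Field F'] [Algebra k F']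

/-- derivative through an expansion -/
noncomputable def dl (ψ : K' →ₐ[k] F'⸨X⸩) (a : K') : F'⸨X⸩ := LocRes.D F' (ψ a)

theorem dl_add (ψ : K' →ₐ[k] F'⸨X⸩) (a b : K') : dl ψ (a + b) = dl ψ a + dl ψ b := by
  unfold dl; rw [map_add, map_add]

theorem dl_mul (ψ : K' →ₐ[k] F'⸨X⸩) (a b : K') :
    dl ψ (a * b) = ψ a * dl ψ b + ψ b * dl ψ a := by
  unfold dl; rw [map_mul, Derivation.leibniz]; rfl

theorem dl_algebraMap (ψ : K' →ₐ[k] F'⸨X⸩) (c : k) : dl ψ (algebraMap k K' c) = 0 := by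
  unfold dl
  rw [LocRes.map_algebraMap, LocRes.D_apply, LocRes.derivative_C]

theorem dl_aeval (ψ : K' →ₐ[k] F'⸨X⸩) (θ : K') (p : k[X]) :
    dl ψ (aeval θ p) = ψ (aeval θ (derivative p)) * dl ψ θ := by
  have hrel := DExp.D_aeval (fun f => LocRes.D F' f) (fun a b => map_add _ a b)
    (fun a b => by rw [Derivation.leibniz]; rfl)
    ((ψ : K' →+* F'⸨X⸩).comp (algebraMap k K')) (ψ : K' →+* F'⸨X⸩)
    (fun a => rfl) θ p
  have hz : (p.sum fun i a => LocRes.D F' (((ψ : K' →+* F'⸨X⸩).comp (algebraMap k K')) a) *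
      (ψ : K' →+* F'⸨X⸩) θ ^ i) = 0 := by
    rw [Polynomial.sum_def]
    refine Finset.sum_eq_zero fun i _ => ?_
    have : LocRes.D F' (((ψ : K' →+* F'⸨X⸩).comp (algebraMap k K')) (p.coeff i)) = 0 :=
      dl_algebraMap ψ (p.coeff i)
    rw [this, zero_mul]
  rw [hz, zero_add] at hrel
  exact hrel

theorem aeval_mem (T : IntermediateField K K') {θ : K'} (hθ : θ ∈ T) (p : k[X]) :
    aeval θ p ∈ T := by
  rw [Polynomial.aeval_eq_sum_range]
  refine T.sum_mem fun i _ => ?_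
  rw [Algebra.smul_def]
  refine T.mul_mem ?_ (pow_mem hθ i)
  rw [IsScalarTower.algebraMap_apply k K K']
  exact T.algebraMap_mem _

/-- the data for the induction -/
structure Setup (Q : Place k K') (ψ : K' →ₐ[k] F'⸨X⸩) (T : IntermediateField K K') (e : ℕ)
    (t θ : K') (g : k[X]) : Prop where
  hψ : ∀ f : K', Valued.v (ψ f) = Q.1 f
  he : 0 < e
  htT : t ∈ T
  ht : Q.1 t = WithZero.exp (-(e : ℤ))
  hU : ∀ a ∈ T, Q.1 a < 1 → Q.1 a ≤ WithZero.exp (-(e : ℤ))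
  hθT : θ ∈ T
  hθ1 : Q.1 θ ≤ 1
  hR : ∀ a ∈ T, Q.1 a ≤ 1 → ∃ p : k[X], Q.1 (a - aeval θ p) < 1
  hg : Q.1 (aeval θ g) < 1
  hg' : Q.1 (aeval θ (derivative g)) = 1

namespace Setup

variable {Q : Place k K'} {ψ : K' →ₐ[k] F'⸨X⸩} {T : IntermediateField K K'} {e : ℕ}
  {t θ : K'} {g : k[X]} (S : Setup Q ψ T e t θ g)

include S

theorem t_ne_zero : t ≠ 0 := by
  rintro rfl
  have := S.ht
  rw [map_zero] at this
  exact WithZero.exp_ne_zero.symm this

theorem div_t {b : K'} (hb : b ∈ T) (h1 : Q.1 b < 1) :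
    ∃ b₁ ∈ T, Q.1 b₁ ≤ 1 ∧ b = t * b₁ := by
  refine ⟨b / t, T.div_mem hb S.htT, ?_, ?_⟩
  · rw [map_div₀, S.ht, div_le_one₀ WithZero.exp_pos]
    exact S.hU b hb h1
  · have := S.t_ne_zero
    field_simp

theorem eps_le_one : (WithZero.exp (-(e : ℤ)) : ℤᵐ⁰) ≤ 1 := by
  rw [← WithZero.exp_zero, WithZero.exp_le_exp]; omega

theorem eps_lt_one : (WithZero.exp (-(e : ℤ)) : ℤᵐ⁰) < 1 := by
  rw [← WithZero.exp_zero, WithZero.exp_lt_exp]
  have := S.he
  omega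

theorem step1 (B : ℤᵐ⁰) (hB : ∀ a ∈ T, Q.1 a ≤ 1 → Valued.v (dl ψ a) ≤ B) {b : K'} (hb : b ∈ T)
    (h1 : Q.1 b < 1) :
    Valued.v (dl ψ b) ≤ max (Valued.v (dl ψ t)) (WithZero.exp (-(e : ℤ)) * B) := by
  obtain ⟨b₁, hb₁, hb₁1, rfl⟩ := S.div_t hb h1
  rw [dl_mul]
  refine (Valuation.map_add _ _ _).trans (max_le ?_ ?_)
  · rw [map_mul, S.hψ, S.ht]
    exact le_max_of_le_right (mul_le_mul' le_rfl (hB b₁ hb₁ hb₁1))
  · rw [map_mul, S.hψ]
    refine le_max_of_le_left ?_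
    calc Q.1 b₁ * Valued.v (dl ψ t) ≤ 1 * Valued.v (dl ψ t) := mul_le_mul' hb₁1 le_rfl
      _ = _ := one_mul _

theorem step2 (B : ℤᵐ⁰) (hB : ∀ a ∈ T, Q.1 a ≤ 1 → Valued.v (dl ψ a) ≤ B) {a : K'} (ha : a ∈ T)
    (h1 : Q.1 a ≤ 1) :
    Valued.v (dl ψ a) ≤ max (Valued.v (dl ψ t)) (WithZero.exp (-(e : ℤ)) * B) := by
  obtain ⟨p, hp⟩ := S.hR a ha h1
  have hpT : aeval θ p ∈ T := aeval_mem T S.hθT p
  have hr := S.step1 B hB (T.sub_mem ha hpT) hp
  have hθ : Valued.v (dl ψ θ) ≤ max (Valued.v (dl ψ t)) (WithZero.exp (-(e : ℤ)) * B) := by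
    have h2 := S.step1 B hB (aeval_mem T S.hθT g) S.hg
    rw [dl_aeval, map_mul, S.hψ, S.hg', one_mul] at h2
    exact h2
  have e1 : a = aeval θ p + (a - aeval θ p) := by ring
  rw [e1, dl_add]
  refine (Valuation.map_add _ _ _).trans (max_le ?_ hr)
  rw [dl_aeval, map_mul, S.hψ]
  calc Q.1 (aeval θ (derivative p)) * Valued.v (dl ψ θ) ≤ 1 * Valued.v (dl ψ θ) :=
        mul_le_mul' (val_aeval_le_one Q S.hθ1 _) le_rfl
    _ = Valued.v (dl ψ θ) := one_mul _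
    _ ≤ _ := hθ

theorem iterate (N : ℕ) : ∀ a ∈ T, Q.1 a ≤ 1 →
    Valued.v (dl ψ a) ≤ max (Valued.v (dl ψ t)) ((WithZero.exp (-(e : ℤ))) ^ N) := by
  induction N with
  | zero =>
    intro a _ h1
    rw [pow_zero]
    refine le_max_of_le_right ?_
    exact DExp.val_D_le_one _ (by rw [S.hψ]; exact h1)
  | succ N ih =>
    intro a ha h1
    refine (S.step2 _ ih ha h1).trans (max_le (le_max_left _ _) ?_)
    rw [mul_max]
    refine max_le (le_max_of_le_left ?_) (le_max_of_le_right ?_)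
    · calc WithZero.exp (-(e : ℤ)) * Valued.v (dl ψ t) ≤ 1 * Valued.v (dl ψ t) :=
          mul_le_mul' S.eps_le_one le_rfl
        _ = _ := one_mul _
    · rw [pow_succ']

theorem val_dl_le (hm : dl ψ t ≠ 0) {a : K'} (ha : a ∈ T) (h1 : Q.1 a ≤ 1) :
    Valued.v (dl ψ a) ≤ Valued.v (dl ψ t) := by
  have hm' : Valued.v (dl ψ t) ≠ 0 := (Valuation.ne_zero_iff _).2 hm
  obtain ⟨n, hn⟩ : ∃ n : ℤ, Valued.v (dl ψ t) = WithZero.exp n :=
    ⟨WithZero.log _, (WithZero.exp_log hm').symm⟩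
  have h := S.iterate (-n).toNat a ha h1
  refine h.trans (max_le le_rfl ?_)
  rw [hn, ← WithZero.exp_nsmul, WithZero.exp_le_exp]
  have he := S.he
  simp only [nsmul_eq_mul]
  have h3 : (-n) ≤ ((-n).toNat : ℤ) := Int.self_le_toNat _
  have h4 : (0 : ℤ) ≤ ((-n).toNat : ℤ) := Int.natCast_nonneg _
  have h5 : (1 : ℤ) ≤ e := by exact_mod_cast he
  nlinarith

theorem val_dl_unif (hm : dl ψ t ≠ 0) {a : K'} (ha : a ∈ T)
    (h1 : Q.1 a = WithZero.exp (-(e : ℤ))) :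
    Valued.v (dl ψ a) = Valued.v (dl ψ t) := by
  have hm' : Valued.v (dl ψ t) ≠ 0 := (Valuation.ne_zero_iff _).2 hm
  have ht0 := S.t_ne_zero
  set u := a / t with hu
  have huT : u ∈ T := T.div_mem ha S.htT
  have hu1 : Q.1 u = 1 := by
    rw [hu, map_div₀, S.ht, h1, div_self WithZero.exp_ne_zero]
  have hau : a = t * u := by rw [hu]; field_simp
  rw [hau, dl_mul]
  have hlt : Valued.v (ψ t * dl ψ u) < Valued.v (ψ u * dl ψ t) := by
    rw [map_mul, map_mul, S.hψ, S.hψ, hu1, one_mul, S.ht]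
    calc WithZero.exp (-(e : ℤ)) * Valued.v (dl ψ u)
        ≤ WithZero.exp (-(e : ℤ)) * Valued.v (dl ψ t) :=
          mul_le_mul' le_rfl (S.val_dl_le hm huT hu1.le)
      _ < 1 * Valued.v (dl ψ t) := by
          exact mul_lt_mul_of_pos_right S.eps_lt_one (zero_lt_iff.2 hm')
      _ = _ := one_mul _
  rw [Valuation.map_add_eq_of_lt_right _ hlt, map_mul, S.hψ, hu1, one_mul]

/-- the derivative of an Eisenstein-type polynomial over the inertia field at a uniformizer -/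
theorem val_deriv (hm : dl ψ t ≠ 0) (s : K') (hs : Q.1 s = WithZero.exp (-1 : ℤ)) (h : K'[X])
    (hroot : aeval s h = 0) (hc : ∀ i, h.coeff i ∈ T ∧ Q.1 (h.coeff i) ≤ 1)
    (h0 : Q.1 (h.coeff 0) = WithZero.exp (-(e : ℤ))) :
    Q.1 (aeval s (derivative h)) = Valued.v (dl ψ t) := by
  have hm' : Valued.v (dl ψ t) ≠ 0 := (Valuation.ne_zero_iff _).2 hm
  have hrel := DExp.D_aeval (fun f => LocRes.D F' f) (fun a b => map_add _ a b)
    (fun a b => by rw [Derivation.leibniz]; rfl)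
    (ψ : K' →+* F'⸨X⸩) (ψ : K' →+* F'⸨X⸩) (fun a => rfl) s h
  rw [hroot] at hrel
  simp only [RingHom.coe_coe, map_zero] at hrel
  have ha0 : h.coeff 0 ≠ 0 := by
    intro h'; rw [h', map_zero] at h0; exact WithZero.exp_ne_zero.symm h0
  have h0mem : 0 ∈ h.support := Polynomial.mem_support_iff.2 ha0
  have hsumv : Valued.v (h.sum fun i a => LocRes.D F' (ψ a) * ψ s ^ i) = Valued.v (dl ψ t) := by
    rw [Polynomial.sum_def, ← Finset.add_sum_erase _ _ h0mem]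
    have hT0 : Valued.v (LocRes.D F' (ψ (h.coeff 0)) * ψ s ^ 0) = Valued.v (dl ψ t) := by
      rw [pow_zero, mul_one]
      exact S.val_dl_unif hm (hc 0).1 h0
    have hlt : Valued.v (∑ i ∈ h.support.erase 0, LocRes.D F' (ψ (h.coeff i)) * ψ s ^ i) <
        Valued.v (dl ψ t) := by
      refine Valuation.map_sum_lt _ hm' fun i hi => ?_
      have hi0 : i ≠ 0 := (Finset.mem_erase.1 hi).1
      rw [map_mul, map_pow, S.hψ, hs]
      have h2 : Valued.v (LocRes.D F' (ψ (h.coeff i))) ≤ Valued.v (dl ψ t) :=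
        S.val_dl_le hm (hc i).1 (hc i).2
      have h3 : (WithZero.exp (-1 : ℤ) : ℤᵐ⁰) ^ i < 1 := by
        rw [← WithZero.exp_nsmul, ← WithZero.exp_zero, WithZero.exp_lt_exp]
        have : 0 < i := Nat.pos_of_ne_zero hi0
        simp only [nsmul_eq_mul]
        have : (0 : ℤ) < i := by exact_mod_cast this
        linarith
      calc Valued.v (LocRes.D F' (ψ (h.coeff i))) * WithZero.exp (-1 : ℤ) ^ i
          ≤ Valued.v (dl ψ t) * WithZero.exp (-1 : ℤ) ^ i := mul_le_mul' h2 le_rfl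
        _ < Valued.v (dl ψ t) * 1 := mul_lt_mul_of_pos_left h3 (zero_lt_iff.2 hm')
        _ = _ := mul_one _
    rw [← hT0] at hlt
    rw [Valuation.map_add_eq_of_lt_left _ hlt, hT0]
  have hDs : Valued.v (LocRes.D F' (ψ s)) = 1 := DExp.val_D_unif _ (by rw [S.hψ, hs])
  have h4 : ψ (aeval s (derivative h)) * LocRes.D F' (ψ s) =
      -(h.sum fun i a => LocRes.D F' (ψ a) * ψ s ^ i) := by
    linear_combination -hrel
  have h5 := congrArg Valued.v h4
  rw [map_mul, hDs, mul_one, Valuation.map_neg, hsumv, S.hψ] at h5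
  exact h5

end Setup

end Groth.Agent.Helper27.Hd
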