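import Mathlib
import Groth.Agent.Lib.Helper27.HdD

/-! Hilbert's different formula, part E: the Eisenstein polynomial of a uniformizer over the
inertia field. -/

set_option autoImplicit false

namespace Groth.Agent.Helper27.Hd

open FunFld Groth.Agent.Helper16.FFW Polynomial IntermediateField LaurentSeries
open scoped WithZero

variable {k K K' : Type*} [Field k] [Field K] [Field K'] [Algebra k K] [Algebra K K'] [Algebra k K']
  [IsScalarTower k K K'] [FiniteDimensional K K'] {F' : Type*} [Field F'] [Algebra k F']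
  {Q : Place k K'}

theorem exists_setup [IsGalois K K'] (hK : IsFunctionField k K) {P : Place k K} {e : ℕ}
    (he : IsOverWith Q P e) [hsep : Algebra.IsSeparable k (IsLocalRing.ResidueField Q.O)]
    (ψ : K' →ₐ[k] F'⸨X⸩) (hψ : ∀ f : K', Valued.v (ψ f) = Q.1 f)
    (t : K) (ht : P.1 t = WithZero.exp (-1 : ℤ)) :
    ∃ (θ : K') (g : k[X]), Setup Q ψ (inField K Q) e (algebraMap K K' t) θ g := by
  classical
  have hK' : IsWeakFF k K' := isWeakFF_of_finite hK.1
  have hfd := Place.finiteDimensional_residueField hK' Q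
  obtain ⟨α, hα⟩ := @Field.exists_primitive_element k (IsLocalRing.ResidueField Q.O) _ _ _ hfd _
  have hint : IsIntegral k α := (Algebra.IsSeparable.isSeparable k α).isIntegral
  have hpoly : ∀ β : IsLocalRing.ResidueField Q.O, ∃ p : k[X], aeval α p = β := by
    intro β
    have h1 : β ∈ k⟮α⟯ := by rw [hα]; exact IntermediateField.mem_top
    have h2 : β ∈ k⟮α⟯.toSubalgebra := h1
    rw [IntermediateField.adjoin_simple_toSubalgebra_of_isAlgebraic hint.isAlgebraic,
      Algebra.adjoin_singleton_eq_range_aeval] at h2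
    exact h2
  obtain ⟨a₀, ha₀⟩ := IsLocalRing.residue_surjective α
  obtain ⟨θ, hθT, hθ⟩ := exists_rep hK.1 (a₀ : K') ((Place.mem_O_iff Q _).1 a₀.2)
  have hθ1 : Q.1 θ ≤ 1 := by
    have : θ = (a₀ : K') - ((a₀ : K') - θ) := by ring
    rw [this]
    exact (Valuation.map_sub _ _ _).trans (max_le ((Place.mem_O_iff Q _).1 a₀.2) hθ.le)
  let θ' : Q.O := ⟨θ, (Place.mem_O_iff Q _).2 hθ1⟩
  have hθα : IsLocalRing.residue Q.O θ' = α := by
    rw [← ha₀, ← sub_eq_zero, ← map_sub, Place.residue_eq_zero_iff]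
    show Q.1 (θ - (a₀ : K')) < 1
    rw [← Valuation.map_neg, neg_sub]; exact hθ
  have hres : ∀ p : k[X], IsLocalRing.residue Q.O (aeval θ' p) = aeval α p := by
    intro p
    rw [← hθα, ← Ram.resAlgHom_apply, ← Ram.resAlgHom_apply, Polynomial.aeval_algHom_apply]
  have hcoe : ∀ p : k[X], ((aeval θ' p : Q.O) : K') = aeval θ p := by
    intro p
    rw [← Ram.coeAlgHom_apply, ← Polynomial.aeval_algHom_apply]; rfl
  refine ⟨θ, minpoly k α, ?_⟩
  exact
  { hψ := hψ
    he := isOverWith_pos he
    htT := (inField K Q).algebraMap_mem t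
    ht := by rw [he t, ht, ← WithZero.exp_nsmul]; simp
    hU := fun a ha h1 => val_le_of_mem hK he a ha h1
    hθT := hθT
    hθ1 := hθ1
    hR := fun a ha h1 => by
      obtain ⟨p, hp⟩ := hpoly (IsLocalRing.residue Q.O ⟨a, (Place.mem_O_iff Q _).2 h1⟩)
      refine ⟨p, ?_⟩
      rw [← hres, ← sub_eq_zero, ← map_sub, Place.residue_eq_zero_iff] at hp
      have h2 : Q.1 (((aeval θ' p : Q.O) : K') - a) < 1 := hp
      rw [hcoe, ← Valuation.map_neg, neg_sub] at h2
      exact h2
    hg := by
      have := hres (minpoly k α)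
      rw [minpoly.aeval, Place.residue_eq_zero_iff, hcoe] at this
      exact this
    hg' := by
      have h1 : IsLocalRing.residue Q.O (aeval θ' (derivative (minpoly k α))) ≠ 0 := by
        rw [hres]
        exact (Algebra.IsSeparable.isSeparable k α).aeval_derivative_ne_zero (minpoly.aeval k α)
      apply le_antisymm (val_aeval_le_one Q hθ1 _)
      by_contra hlt
      push Not at hlt
      apply h1
      rw [Place.residue_eq_zero_iff, hcoe]
      exact hlt }

theorem exists_poly [IsGalois K K'] [DecidableEq (K' ≃ₐ[K] K')] (s : K') (hs : Q.1 s = WithZero.exp (-1 : ℤ)) (n : ℕ)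
    (hn : Nat.card (inertia K Q) = n) :
    ∃ (h : K'[X]) (Ifin : Finset (K' ≃ₐ[K] K')), (∀ σ, σ ∈ Ifin ↔ σ ∈ inertia K Q) ∧
      aeval s h = 0 ∧ (∀ i, h.coeff i ∈ inField K Q ∧ Q.1 (h.coeff i) ≤ 1) ∧
      Q.1 (h.coeff 0) = WithZero.exp (-(n : ℤ)) ∧
      aeval s (derivative h) = ∏ σ ∈ Ifin.erase 1, (s - σ s) := by
  classical
  haveI : Fintype (K' ≃ₐ[K] K') := Fintype.ofFinite _
  set Ifin : Finset (K' ≃ₐ[K] K') := Finset.univ.filter (· ∈ inertia K Q) with hI
  have hmem : ∀ σ, σ ∈ Ifin ↔ σ ∈ inertia K Q := fun σ => by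
    rw [hI, Finset.mem_filter]; simp
  have hcard : Ifin.card = n := by
    rw [← hn, Nat.card_eq_fintype_card]
    exact (Fintype.card_of_subtype Ifin hmem).symm
  have hsO : ∀ σ ∈ Ifin, Q.1 (σ s) = WithZero.exp (-1 : ℤ) := fun σ hσ => by
    rw [val_apply_of_mem ((hmem σ).1 hσ), hs]
  have h1mem : (1 : K' ≃ₐ[K] K') ∈ Ifin := (hmem 1).2 (inertia K Q).one_mem
  set h : K'[X] := ∏ σ ∈ Ifin, (X - C (σ s)) with hh
  refine ⟨h, Ifin, hmem, ?_, ?_, ?_, ?_⟩
  · rw [Polynomial.coe_aeval_eq_eval, hh, Polynomial.eval_prod]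
    exact Finset.prod_eq_zero h1mem (by simp)
  · intro i
    constructor
    · show h.coeff i ∈ fixedField (inertia K Q)
      rw [IntermediateField.mem_fixedField_iff]
      intro σ hσ
      have hmap : h.map (σ : K' →+* K') = h := by
        rw [hh, Polynomial.map_prod]
        refine Finset.prod_equiv (Equiv.mulLeft σ) (fun τ => ?_) (fun τ _ => ?_)
        · rw [hmem, hmem]; exact ((inertia K Q).mul_mem_cancel_left hσ).symm
        · rw [Polynomial.map_sub, Polynomial.map_X, Polynomial.map_C]; rfl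
      have h2 := congrArg (fun p => p.coeff i) hmap
      simp only [Polynomial.coeff_map] at h2
      exact h2
    · have hl : h ∈ Polynomial.liftsRing Q.O.subtype := by
        rw [hh]
        refine Subring.prod_mem _ fun σ hσ => ?_
        refine Subring.sub_mem _ ((Polynomial.lifts_iff_liftsRing _ _).1 (X_mem_lifts _)) ?_
        have : C (σ s) = C (Q.O.subtype ⟨σ s, (Place.mem_O_iff Q _).2 (by
            rw [hsO σ hσ, ← WithZero.exp_zero, WithZero.exp_le_exp]; norm_num)⟩) := rfl
        rw [this]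
        exact (Polynomial.lifts_iff_liftsRing _ _).1 (C_mem_lifts _ _)
      obtain ⟨y, hy⟩ := (Polynomial.lifts_iff_coeff_lifts _).1
        ((Polynomial.lifts_iff_liftsRing _ _).2 hl) i
      rw [← hy]
      exact (Place.mem_O_iff Q _).1 y.2
  · rw [Polynomial.coeff_zero_eq_eval_zero, hh, Polynomial.eval_prod, map_prod]
    have : ∀ σ ∈ Ifin, Q.1 (eval 0 (X - C (σ s))) = WithZero.exp (-1 : ℤ) := by
      intro σ hσ
      rw [eval_sub, eval_X, eval_C, zero_sub, Valuation.map_neg, hsO σ hσ]
    rw [Finset.prod_congr rfl this, Finset.prod_const, hcard, ← WithZero.exp_nsmul]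
    simp
  · have hsplit : h = (X - C s) * ∏ σ ∈ Ifin.erase 1, (X - C (σ s)) := by
      rw [hh, ← Finset.mul_prod_erase _ _ h1mem]
      rfl
    rw [hsplit, derivative_mul, Polynomial.coe_aeval_eq_eval, eval_add, eval_mul, eval_mul,
      eval_sub, eval_X, eval_C, sub_self, zero_mul, add_zero, derivative_sub, derivative_X,
      derivative_C, sub_zero, eval_one, one_mul, eval_prod]
    refine Finset.prod_congr rfl fun σ _ => ?_
    rw [eval_sub, eval_X, eval_C]

end Groth.Agent.Helper27.Hd
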