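import Mathlib

/-! Hilbert's different formula, part F: the counting lemma. -/

set_option autoImplicit false

namespace Groth.Agent.Helper27.Hd

theorem count_lemma {G : Type*} [DecidableEq G] (I' : Finset G) (j : G → ℤ)
    (hj : ∀ σ ∈ I', 1 ≤ j σ) (c : ℕ → ℤ)
    (hc : ∀ i : ℕ, 1 ≤ i → c i = ((I'.filter fun σ => (i : ℤ) ≤ j σ).card : ℤ)) :
    (Function.support c).Finite ∧ ∑ᶠ i : ℕ, (if 1 ≤ i then c i else 0) = ∑ σ ∈ I', j σ := by
  classical
  set M : ℕ := ∑ σ ∈ I', (j σ).toNat with hM
  have hjM : ∀ σ ∈ I', j σ ≤ M := by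
    intro σ hσ
    have h1 : (j σ).toNat ≤ M := Finset.single_le_sum (f := fun σ => (j σ).toNat)
      (fun _ _ => Nat.zero_le _) hσ
    have h2 : j σ = ((j σ).toNat : ℤ) := (Int.toNat_of_nonneg (by linarith [hj σ hσ])).symm
    rw [h2]; exact_mod_cast h1
  have hzero : ∀ i : ℕ, M < i → c i = 0 := by
    intro i hi
    rw [hc i (by omega)]
    rw [Finset.filter_eq_empty_iff.2 (fun σ hσ => by
      have := hjM σ hσ
      have h3 : (M : ℤ) < i := by exact_mod_cast hi
      linarith), Finset.card_empty, Nat.cast_zero]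
  constructor
  · refine (Finset.range (M + 1)).finite_toSet.subset ?_
    intro i hi
    rw [Finset.mem_coe, Finset.mem_range]
    by_contra hlt
    exact hi (hzero i (by omega))
  · rw [finsum_eq_sum_of_support_subset (s := Finset.range (M + 1))]
    · have h1 : ∀ i ∈ Finset.range (M + 1), (if 1 ≤ i then c i else 0) =
          ∑ σ ∈ I', (if 1 ≤ i ∧ (i : ℤ) ≤ j σ then (1 : ℤ) else 0) := by
        intro i _
        split_ifs with h
        · rw [hc i h, Finset.card_filter]
          push_cast
          refine Finset.sum_congr rfl fun σ _ => ?_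
          simp [h]
        · simp [h]
      rw [Finset.sum_congr rfl h1, Finset.sum_comm]
      refine Finset.sum_congr rfl fun σ hσ => ?_
      have hσ1 := hj σ hσ
      have hσM := hjM σ hσ
      have h2 : j σ = ((j σ).toNat : ℤ) := (Int.toNat_of_nonneg (by linarith)).symm
      have h3 : (Finset.range (M + 1)).filter (fun i : ℕ => 1 ≤ i ∧ (i : ℤ) ≤ j σ) =
          Finset.Icc 1 (j σ).toNat := by
        ext i
        rw [Finset.mem_filter, Finset.mem_range, Finset.mem_Icc]
        constructor
        · rintro ⟨-, h1, h2'⟩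
          refine ⟨h1, ?_⟩
          rw [h2] at h2'
          exact_mod_cast h2'
        · rintro ⟨h1, h2'⟩
          have h4 : (i : ℤ) ≤ j σ := by rw [h2]; exact_mod_cast h2'
          refine ⟨?_, h1, h4⟩
          have : (i : ℤ) ≤ M := h4.trans hσM
          have : i ≤ M := by exact_mod_cast this
          omega
      rw [← Finset.sum_filter, h3, Finset.sum_const, Nat.card_Icc, nsmul_eq_mul, mul_one]
      rw [Nat.add_sub_cancel]
      exact h2.symm
    · intro i hi
      rw [Finset.mem_coe, Finset.mem_range]
      by_contra hlt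
      apply hi
      show (if 1 ≤ i then c i else 0) = 0
      rw [if_pos (by omega), hzero i (by omega)]

end Groth.Agent.Helper27.Hd
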