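import Mathlib
import Groth.Agent.Lib.Helper27.HdE
import Groth.Agent.Lib.Helper27.HdF

/-! Hilbert's different formula, part G: ramification groups and the main theorem. -/

set_option autoImplicit false

namespace Groth.Agent.Helper27.Hd

open FunFld Groth.Agent.Helper16.FFW Polynomial IntermediateField LaurentSeries
open scoped WithZero

section ram

variable {k K K' : Type*} [Field k] [Field K] [Field K'] [Algebra k K] [Algebra K K'] [Algebra k K']
  [IsScalarTower k K K'] [FiniteDimensional K K'] {Q : Place k K'}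

theorem eq_one_of_fix [Algebra.IsSeparable k (IsLocalRing.ResidueField Q.O)]
    {σ : K' ≃ₐ[K] K'} (hσ : σ ∈ inertia K Q) {s : K'} (hs : Q.1 s = WithZero.exp (-1 : ℤ))
    (h : σ s = s) : σ = 1 := by
  have hall : ∀ j : ℕ, 1 ≤ j → Ram.InG Q σ j := fun j hj =>
    Ram.InG.of_uniformizer hσ hs j hj (by rw [h, sub_self, map_zero]; exact zero_le)
  have hO : ∀ z : K', Q.1 z ≤ 1 → σ z = z := by
    intro z hz
    by_contra hne
    have hne' : σ z - z ≠ 0 := sub_ne_zero.2 hne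
    have h1 := Place.val_eq_exp_neg_ord Q hne'
    have h2 := hall ((Q.ord (σ z - z)).toNat + 1) (by omega) z hz
    rw [h1, WithZero.exp_le_exp] at h2
    push_cast at h2
    have h3 := Int.self_le_toNat (Q.ord (σ z - z))
    omega
  ext x
  rw [AlgEquiv.one_apply]
  by_cases hx : Q.1 x ≤ 1
  · exact hO x hx
  · push Not at hx
    have hx0 : x ≠ 0 := by rintro rfl; rw [map_zero] at hx; exact absurd hx (by simp)
    have h1 : Q.1 x⁻¹ ≤ 1 := by
      rw [map_inv₀]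
      exact inv_le_one_of_one_le₀ hx.le
    have h2 := hO x⁻¹ h1
    rw [map_inv₀] at h2
    exact inv_injective h2

theorem inG_iff [Algebra.IsSeparable k (IsLocalRing.ResidueField Q.O)]
    {s : K'} (hs : Q.1 s = WithZero.exp (-1 : ℤ)) (σ : K' ≃ₐ[K] K') (i : ℕ) (hi : 1 ≤ i) :
    Ram.InG Q σ i ↔ σ = 1 ∨ (σ ∈ inertia K Q ∧ σ ≠ 1 ∧ (i : ℤ) ≤ Q.ord (σ s - s)) := by
  have hs1 : Q.1 s ≤ 1 := by
    rw [hs, ← WithZero.exp_zero, WithZero.exp_le_exp]; norm_num
  constructor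
  · intro h
    by_cases h1 : σ = 1
    · exact Or.inl h1
    · have hI : σ ∈ inertia K Q := h.mono hi
      refine Or.inr ⟨hI, h1, ?_⟩
      have hne : σ s - s ≠ 0 := sub_ne_zero.2 fun h' => h1 (eq_one_of_fix hI hs h')
      have h2 := h s hs1
      rw [Place.val_eq_exp_neg_ord Q hne, WithZero.exp_le_exp] at h2
      omega
  · rintro (rfl | ⟨hI, h1, h2⟩)
    · exact Ram.InG.one i
    · have hne : σ s - s ≠ 0 := sub_ne_zero.2 fun h' => h1 (eq_one_of_fix hI hs h')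
      refine Ram.InG.of_uniformizer hI hs i hi ?_
      rw [Place.val_eq_exp_neg_ord Q hne, WithZero.exp_le_exp]
      omega

theorem prod_exp {ι : Type*} (S : Finset ι) (f : ι → ℤ) :
    ∏ i ∈ S, (WithZero.exp (f i) : ℤᵐ⁰) = WithZero.exp (∑ i ∈ S, f i) := by
  classical
  induction S using Finset.induction_on with
  | empty => simp
  | insert a S ha ih => rw [Finset.prod_insert ha, Finset.sum_insert ha, ih, WithZero.exp_add]

end ram

universe u v w

theorem main12577 (k : Type u) (K K' : Type v) [Field k] [Field K] [Field K'] [Algebra k K]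
    [Algebra K K'] [Algebra k K']
    [IsScalarTower k K K'] [FiniteDimensional K K'] (hK : FunFld.IsFunctionField k K)
    (hg : FunFld.IsGeometric k K) [IsGalois K K']
    (F F' : Type w) [Field F] [Algebra k F] [Field F'] [Algebra k F']
    (P : FunFld.Place k K) (Q : FunFld.Place k K') (e : ℕ) (he : FunFld.IsOverWith Q P e)
    (φ : K →ₐ[k] LaurentSeries F) (hφ : LocRes.IsExpansionAt P.1 φ)
    (ψ : K' →ₐ[k] LaurentSeries F') (hψ : LocRes.IsExpansionAt Q.1 ψ)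
    (x : K) (hx : LocRes.vDiff φ 1 x ≠ 0) (hx' : LocRes.vDiff ψ 1 (algebraMap K K' x) ≠ 0) :
    (Function.support fun i : ℕ => (Nat.card {σ : K' ≃ₐ[K] K' //
        ∀ z : K', Q.1 z ≤ 1 → Q.1 (σ z - z) ≤ WithZero.exp (-(i : ℤ))} : ℤ) - 1).Finite ∧
    LocRes.diffExp φ ψ e x = ∑ᶠ i : ℕ, if 1 ≤ i then
      (Nat.card {σ : K' ≃ₐ[K] K' // ∀ z : K', Q.1 z ≤ 1 → Q.1 (σ z - z) ≤ WithZero.exp (-(i : ℤ))} : ℤ) - 1
      else 0 := by
  classical
  haveI : Fintype (K' ≃ₐ[K] K') := Fintype.ofFinite _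
  have hK' : IsWeakFF k K' := isWeakFF_of_finite hK.1
  have h1 := Groth.Agent.Helper16.FF.finrank_kaehler_of_isGeometric hK hg
  haveI : Algebra.FormallyEtale K K' := Algebra.FormallyEtale.of_isSeparable _ _
  have h2 : Module.finrank K' (Ω[K'⁄k]) = 1 := by
    rw [← (KaehlerDifferential.tensorKaehlerEquivOfFormallyEtale k K K').finrank_eq,
      Module.finrank_baseChange, h1]
  haveI : Algebra.IsSeparable k (IsLocalRing.ResidueField Q.O) :=
    isSeparable_residue hK' h2 Q ψ hψ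
  obtain ⟨t, ht⟩ := Place.exists_uniformizer P
  obtain ⟨hD0, hd⟩ := DExp.diffExp_eq hK hg P Q e he φ hφ ψ hψ x hx hx' t ht
  obtain ⟨θ, g, S⟩ := exists_setup hK he ψ hψ.1 t ht
  obtain ⟨s, hs⟩ := Place.exists_uniformizer Q
  obtain ⟨h, Ifin, hmem, hroot, hcoef, hc0, hder⟩ :=
    exists_poly (K := K) s hs e (card_inertia hK he)
  have hval := S.val_deriv hD0 s hs h hroot hcoef hc0
  rw [hder, map_prod] at hval
  set j : (K' ≃ₐ[K] K') → ℤ := fun σ => Q.ord (σ s - s) with hj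
  have hI' : ∀ σ ∈ Ifin.erase 1, σ ∈ inertia K Q ∧ σ ≠ 1 := fun σ hσ =>
    ⟨(hmem σ).1 (Finset.mem_of_mem_erase hσ), Finset.ne_of_mem_erase hσ⟩
  have hne : ∀ σ ∈ Ifin.erase 1, σ s - s ≠ 0 := fun σ hσ =>
    sub_ne_zero.2 fun h' => (hI' σ hσ).2 (eq_one_of_fix (hI' σ hσ).1 hs h')
  have hs1 : Q.1 s ≤ 1 := by
    rw [hs, ← WithZero.exp_zero, WithZero.exp_le_exp]; norm_num
  have hj1 : ∀ σ ∈ Ifin.erase 1, 1 ≤ j σ := by
    intro σ hσ
    have h3 := (hI' σ hσ).1 s hs1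
    rw [Place.val_eq_exp_neg_ord Q (hne σ hσ), WithZero.exp_le_exp] at h3
    show 1 ≤ Q.ord (σ s - s)
    push_cast at h3
    omega
  have hsum : LocRes.diffExp φ ψ e x = ∑ σ ∈ Ifin.erase 1, j σ := by
    have h4 : ∀ σ ∈ Ifin.erase 1, Q.1 (s - σ s) = WithZero.exp (-(j σ)) := by
      intro σ hσ
      rw [← Valuation.map_neg, neg_sub]
      exact Place.val_eq_exp_neg_ord Q (hne σ hσ)
    rw [Finset.prod_congr rfl h4, prod_exp] at hval
    rw [hd]
    unfold dl at hval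
    rw [← hval, WithZero.log_exp, Finset.sum_neg_distrib, neg_neg]
  have hc : ∀ i : ℕ, 1 ≤ i → ((Nat.card {σ : K' ≃ₐ[K] K' //
      ∀ z : K', Q.1 z ≤ 1 → Q.1 (σ z - z) ≤ WithZero.exp (-(i : ℤ))} : ℤ) - 1) =
      (((Ifin.erase 1).filter fun σ => (i : ℤ) ≤ j σ).card : ℤ) := by
    intro i hi
    have h5 : Nat.card {σ : K' ≃ₐ[K] K' //
        ∀ z : K', Q.1 z ≤ 1 → Q.1 (σ z - z) ≤ WithZero.exp (-(i : ℤ))} =
        (insert 1 ((Ifin.erase 1).filter fun σ => (i : ℤ) ≤ j σ)).card := by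
      rw [Nat.card_eq_fintype_card]
      refine Fintype.card_of_subtype _ fun σ => ?_
      have h6 := inG_iff (K := K) hs σ i hi
      rw [Finset.mem_insert, Finset.mem_filter, Finset.mem_erase, hmem]
      constructor
      · rintro (h7 | ⟨⟨h7, h8⟩, h9⟩)
        · exact h6.2 (Or.inl h7)
        · exact h6.2 (Or.inr ⟨h8, h7, h9⟩)
      · intro h7
        rcases h6.1 h7 with h8 | ⟨h8, h9, h10⟩
        · exact Or.inl h8
        · exact Or.inr ⟨⟨h9, h8⟩, h10⟩
    rw [h5, Finset.card_insert_of_notMem (by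
      rw [Finset.mem_filter, Finset.mem_erase]; tauto)]
    push_cast
    ring
  obtain ⟨hfin, hfs⟩ := count_lemma (Ifin.erase 1) j hj1 _ hc
  exact ⟨hfin, by rw [hsum, ← hfs]⟩

end Groth.Agent.Helper27.Hd
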