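import Mathlib
import Groth.Agent.Lib.Helper27.Hesse54a

/-! Monomial matrices: step 4 and 5. -/

namespace Groth.Agent.Helper27.Hesse54
open Matrix

/-- If a product of three affine-linear functions of `t` vanishes identically, one of them is zero. -/
lemma two (a b : Fin 3 → ℂ) (h : ∀ t : ℂ, ∏ i, (a i + t * b i) = 0) :
    ∃ i, a i = 0 ∧ b i = 0 := by
  have h1 : ∀ t : Fin 4, ∃ i, a i + ((t : ℕ) : ℂ) * b i = 0 := by
    intro t
    obtain ⟨i, _, hi⟩ := Finset.prod_eq_zero_iff.mp (h ((t : ℕ) : ℂ))
    exact ⟨i, hi⟩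
  choose f hf using h1
  obtain ⟨t, t', hne, heq⟩ := Fintype.exists_ne_map_eq_of_card_lt f (by simp)
  have e1 := hf t
  have e2 := hf t'
  rw [heq] at e1
  have hb : b (f t') = 0 := by
    have : (((t : ℕ) : ℂ) - ((t' : ℕ) : ℂ)) * b (f t') = 0 := by linear_combination e1 - e2
    rcases mul_eq_zero.mp this with h' | h'
    · exfalso
      apply hne
      have : ((t : ℕ) : ℂ) = ((t' : ℕ) : ℂ) := by linear_combination h'
      exact Fin.ext (by exact_mod_cast this)
    · exact h'
  refine ⟨f t', ?_, hb⟩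
  rw [hb] at e2
  linear_combination e2

lemma mono (A : Matrix (Fin 3) (Fin 3) ℂ) (hdet : A.det ≠ 0) (β : ℂ)
    (hG : ∀ v, P (A *ᵥ v) = β * P v) :
    ∃ τ : Equiv.Perm (Fin 3), ∀ j j', j' ≠ j → A (τ j) j' = 0 := by
  obtain ⟨i0, h01, h02⟩ := two (fun i => A i 1) (fun i => A i 2) (by
    intro t
    have := hG ![0, 1, t]
    rw [P, P_eq] at this
    simp only [mulVec3] at this
    simp only [Matrix.cons_val_zero, Matrix.cons_val_one, Matrix.cons_val_two,
      Matrix.head_cons, Matrix.tail_cons] at this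
    refine (Finset.prod_congr rfl (fun i _ => ?_)).trans (this.trans (by ring))
    ring)
  obtain ⟨i1, h10, h12⟩ := two (fun i => A i 0) (fun i => A i 2) (by
    intro t
    have := hG ![1, 0, t]
    rw [P, P_eq] at this
    simp only [mulVec3] at this
    simp only [Matrix.cons_val_zero, Matrix.cons_val_one, Matrix.cons_val_two,
      Matrix.head_cons, Matrix.tail_cons] at this
    refine (Finset.prod_congr rfl (fun i _ => ?_)).trans (this.trans (by ring))
    ring)
  obtain ⟨i2, h20, h21⟩ := two (fun i => A i 0) (fun i => A i 1) (by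
    intro t
    have := hG ![1, t, 0]
    rw [P, P_eq] at this
    simp only [mulVec3] at this
    simp only [Matrix.cons_val_zero, Matrix.cons_val_one, Matrix.cons_val_two,
      Matrix.head_cons, Matrix.tail_cons] at this
    refine (Finset.prod_congr rfl (fun i _ => ?_)).trans (this.trans (by ring))
    ring)
  have hrow : ∀ i, (∀ j, A i j = 0) → False := by
    intro i hi
    exact hdet (Matrix.det_eq_zero_of_row_eq_zero i hi)
  have hinj : Function.Injective ![i0, i1, i2] := by
    intro x y hxy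
    by_contra hne
    fin_cases x <;> fin_cases y <;> simp at hxy hne
    · subst hxy; exact hrow i0 (fun j => by fin_cases j <;> simp [h10, h01, h02])
    · subst hxy; exact hrow i0 (fun j => by fin_cases j <;> simp [h20, h01, h02])
    · subst hxy; exact hrow i1 (fun j => by fin_cases j <;> simp [h10, h01, h02])
    · subst hxy; exact hrow i1 (fun j => by fin_cases j <;> simp [h10, h21, h12])
    · subst hxy; exact hrow i2 (fun j => by fin_cases j <;> simp [h20, h21, h02])
    · subst hxy; exact hrow i2 (fun j => by fin_cases j <;> simp [h20, h21, h12])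
  refine ⟨Equiv.ofBijective _ (Finite.injective_iff_bijective.mp hinj), ?_⟩
  intro j j' hjj'
  rw [Equiv.ofBijective_apply]
  fin_cases j <;> fin_cases j' <;> simp at hjj' ⊢ <;> assumption

section monomial
variable (A : Matrix (Fin 3) (Fin 3) ℂ) (τ : Equiv.Perm (Fin 3))
  (hrow : ∀ j j', j' ≠ j → A (τ j) j' = 0)
include hrow

lemma mono_mulVec (v : Fin 3 → ℂ) (j : Fin 3) : (A *ᵥ v) (τ j) = A (τ j) j * v j := by
  simp only [Matrix.mulVec, dotProduct]
  apply Finset.sum_eq_single j
  · intro j' _ hj'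
    rw [hrow j j' hj', zero_mul]
  · intro h; exact absurd (Finset.mem_univ j) h

lemma mono_S (v : Fin 3 → ℂ) : S (A *ᵥ v) = ∑ j, A (τ j) j ^ 3 * v j ^ 3 := by
  rw [S, ← Equiv.sum_comp τ]
  apply Finset.sum_congr rfl
  intro j _
  rw [mono_mulVec A τ hrow, mul_pow]

lemma mono_P (v : Fin 3 → ℂ) : P (A *ᵥ v) = (∏ j, A (τ j) j) * P v := by
  rw [P, ← Equiv.prod_comp τ, P, ← Finset.prod_mul_distrib]
  apply Finset.prod_congr rfl
  intro j _
  rw [mono_mulVec A τ hrow]

lemma mono_det : A.det = (Equiv.Perm.sign τ : ℤ) * ∏ j, A (τ j) j := by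
  rw [Matrix.det_apply']
  rw [Finset.sum_eq_single τ]
  · intro σ _ hσ
    obtain ⟨j, hj⟩ : ∃ j, σ j ≠ τ j := by
      by_contra hcon
      push Not at hcon
      exact hσ (Equiv.ext hcon)
    have : A (σ j) j = 0 := by
      have h1 : σ j = τ (τ.symm (σ j)) := by simp
      rw [h1]
      apply hrow
      intro h2
      apply hj
      rw [h1, ← h2]
    rw [Finset.prod_eq_zero (f := fun i => A (σ i) i) (Finset.mem_univ j) this, mul_zero]
  · intro h; exact absurd (Finset.mem_univ τ) h

lemma mono_constraints (k c : ℂ) (hk : k ≠ 0) (hH : ∀ v, Hk k (A *ᵥ v) = c * Hk k v) :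
    (∀ j, A (τ j) j ^ 3 = c) ∧ ∏ j, A (τ j) j = c := by
  have h1 : ∀ j, A (τ j) j ^ 3 = c := by
    intro j
    have := hH (Pi.single j 1)
    rw [Hk, Hk, mono_S A τ hrow, mono_P A τ hrow] at this
    have hP : P (Pi.single j (1 : ℂ)) = 0 := by
      rw [P]
      obtain ⟨j', hj'⟩ : ∃ j' : Fin 3, j' ≠ j := ⟨j + 1, by fin_cases j <;> decide⟩
      exact Finset.prod_eq_zero (Finset.mem_univ j') (by simp [hj'])
    have hS : S (Pi.single j (1 : ℂ)) = 1 := by
      rw [S, Finset.sum_eq_single j]
      · simp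
      · intro j' _ hj'; simp [hj']
      · intro h; exact absurd (Finset.mem_univ j) h
    rw [hP, hS] at this
    rw [Finset.sum_eq_single j] at this
    · simp only [Pi.single_eq_same, one_pow, mul_one, mul_zero, sub_zero] at this
      exact this
    · intro j' _ hj'; simp [hj']
    · intro h; exact absurd (Finset.mem_univ j) h
  refine ⟨h1, ?_⟩
  have := hH (fun _ => 1)
  rw [Hk, Hk, mono_S A τ hrow, mono_P A τ hrow] at this
  simp only [h1, one_pow, mul_one, S, P, Finset.sum_const, Finset.prod_const_one,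
    Finset.card_univ, Fintype.card_fin, nsmul_eq_mul] at this
  have h3 : (3 : ℂ) * k ≠ 0 := mul_ne_zero (by norm_num) hk
  have : (3 * k) * (∏ j, A (τ j) j - c) = 0 := by
    push_cast at this
    linear_combination -this
  have := (mul_eq_zero.mp this).resolve_left h3
  linear_combination this

lemma mono_converse (k c : ℂ) (h1 : ∀ j, A (τ j) j ^ 3 = c) (h2 : ∏ j, A (τ j) j = c)
    (v : Fin 3 → ℂ) : Hk k (A *ᵥ v) = c * Hk k v := by
  rw [Hk, Hk, mono_S A τ hrow, mono_P A τ hrow, h2]
  simp only [h1, S]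
  rw [← Finset.mul_sum]
  ring

end monomial

end Groth.Agent.Helper27.Hesse54
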