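import Mathlib
import Groth.Agent.Lib.Helper27.Hesse54b
import Groth.Agent.S18404

/-! Step 1: the nine flexes are permuted. -/

namespace Groth.Agent.Helper27.Hesse54
open Matrix

lemma P_smul (c : ℂ) (q : Fin 3 → ℂ) : P (c • q) = c ^ 3 * P q := by
  simp only [P_eq, Pi.smul_apply, smul_eq_mul]; ring

lemma nine_vanish (k : ℂ) (hk : k ^ 3 ≠ 1) (A : Matrix (Fin 3) (Fin 3) ℂ) (hdet : A.det ≠ 0)
    (c : ℂ) (hH : ∀ v, Hk k (A *ᵥ v) = c * Hk k v) (p : Fin 3 → ℂ)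
    (hp : ∃ γ : ℂ, γ ^ 3 = 1 ∧ (p = ![0, 1, -γ] ∨ p = ![-γ, 0, 1] ∨ p = ![1, -γ, 0])) :
    P (A *ᵥ p) = 0 := by
  obtain ⟨γ, hγ, hp⟩ := hp
  have hp0 : p ≠ 0 := by
    intro h
    rcases hp with rfl | rfl | rfl
    · have := congrFun h 1; simp at this
    · have := congrFun h 2; simp at this
    · have := congrFun h 0; simp at this
  have hHp : Hk k p = 0 := by
    rw [Hk, S_eq, P_eq]
    rcases hp with rfl | rfl | rfl <;>
    · simp only [Matrix.cons_val_zero, Matrix.cons_val_one, Matrix.cons_val_two,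
        Matrix.head_cons, Matrix.tail_cons]
      linear_combination -hγ
  have hinj : Function.Injective A.mulVec :=
    Matrix.mulVec_injective_iff_isUnit.mpr ((Matrix.isUnit_iff_isUnit_det A).mpr
      (isUnit_iff_ne_zero.mpr hdet))
  have hker : LinearMap.ker A.mulVecLin = ⊥ := by
    rw [LinearMap.ker_eq_bot]
    exact hinj
  -- p is a flex
  have hflex := (Groth.Agent.S18404.result k hk p hp0 (by rw [← Hk_eq_eval]; exact hHp)).mpr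
    ⟨γ, 1, hγ, by simpa using hp⟩
  obtain ⟨w, hli, hw⟩ := hflex
  -- so A p is a flex
  have hAp0 : A *ᵥ p ≠ 0 := by
    intro h
    apply hp0
    apply hinj
    rw [h, Matrix.mulVec_zero]
  have hHAp : Hk k (A *ᵥ p) = 0 := by rw [hH, hHp, mul_zero]
  have hli' : LinearIndependent ℂ ![A *ᵥ p, A *ᵥ w] := by
    have := hli.map' A.mulVecLin hker
    have e : (⇑A.mulVecLin ∘ ![p, w]) = ![A *ᵥ p, A *ᵥ w] := by
      funext i; fin_cases i <;> rfl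
    rwa [e] at this
  have hflex' := (Groth.Agent.S18404.result k hk (A *ᵥ p) hAp0
    (by rw [← Hk_eq_eval]; exact hHAp)).mp ⟨A *ᵥ w, hli', by
      intro t
      rw [← Hk_eq_eval, ← Hk_eq_eval, ← Matrix.mulVec_smul, ← Matrix.mulVec_add, hH, hH,
        Hk_eq_eval, hw t, ← Hk_eq_eval]
      ring⟩
  obtain ⟨γ', c', hγ', hq⟩ := hflex'
  rcases hq with hq | hq | hq <;>
  · rw [hq, P_smul, P_eq]
    simp

/-- the matrix of the three linear forms of a triangle of the pencil -/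
noncomputable def Mε (ε : ℂ) : Matrix (Fin 3) (Fin 3) ℂ :=
  !![1, ε, 1; 1, ω * ε, ω ^ 2; 1, ω ^ 2 * ε, ω]

lemma Mε_mulVec (ε : ℂ) (v : Fin 3 → ℂ) :
    (Mε ε *ᵥ v) 0 = v 0 + ε * v 1 + v 2 ∧ (Mε ε *ᵥ v) 1 = v 0 + ω * ε * v 1 + ω ^ 2 * v 2 ∧
      (Mε ε *ᵥ v) 2 = v 0 + ω ^ 2 * ε * v 1 + ω * v 2 := by
  refine ⟨?_, ?_, ?_⟩ <;> simp [mulVec3, Mε]

lemma Mε_prod (ε : ℂ) (hε : ε ^ 3 = 1) (v : Fin 3 → ℂ) :
    P (Mε ε *ᵥ v) = S v - 3 * ε * P v := by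
  obtain ⟨h0, h1, h2⟩ := Mε_mulVec ε v
  rw [P_eq, h0, h1, h2, S_eq, P_eq]
  generalize v 0 = x
  generalize v 1 = y
  generalize v 2 = z
  linear_combination (-ε*ω*x*y*z + ε*ω^2*x*y*z + ε*ω^2*y*z^2 + 3*ε*x*y*z + ε*x^2*y + ε^2*ω*x*y^2
    + ε^2*ω^2*y^2*z + ε^3*ω*y^3 - ε^3*y^3 + ω*x*z^2 + ω*z^3 + x^2*z - z^3) * hω + y ^ 3 * hε

lemma Mε_det (ε : ℂ) : (Mε ε).det = 3 * ε * ω * (ω - 1) := by
  have e00 : Mε ε 0 0 = 1 := rfl
  have e01 : Mε ε 0 1 = ε := rfl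
  have e02 : Mε ε 0 2 = 1 := rfl
  have e10 : Mε ε 1 0 = 1 := rfl
  have e11 : Mε ε 1 1 = ω * ε := rfl
  have e12 : Mε ε 1 2 = ω ^ 2 := rfl
  have e20 : Mε ε 2 0 = 1 := rfl
  have e21 : Mε ε 2 1 = ω ^ 2 * ε := rfl
  have e22 : Mε ε 2 2 = ω := rfl
  rw [Matrix.det_fin_three, e00, e01, e02, e10, e11, e12, e20, e21, e22]
  linear_combination (ε * ω - ε * ω ^ 2) * hω

lemma nonmono_alg (k c ε e0 e1 e2 α' : ℂ) (hε : ε ^ 3 = 1) (hα' : α' ≠ 0)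
    (hcube : e0 * e1 * e2 = α' ^ 3)
    (hE : ∀ x y z : ℂ, e0 * (x + ε * y + z) ^ 3 + e1 * (x + ω * ε * y + ω ^ 2 * z) ^ 3
        + e2 * (x + ω ^ 2 * ε * y + ω * z) ^ 3
        - 3 * k * (α' * (x ^ 3 + y ^ 3 + z ^ 3 - 3 * ε * (x * y * z)))
      = c * (x ^ 3 + y ^ 3 + z ^ 3 - 3 * k * (x * y * z))) :
    ∃ η : ℂ, η ^ 3 = 1 ∧ k ^ 2 - (ε + η) * k - 2 * ε * η = 0 := by
  have hε0 : ε ≠ 0 := fun h => by rw [h] at hε; simp at hε
  have f1 : e0 + e1 * ω + e2 * ω ^ 2 = 0 := by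
    have : 3 * ε * (e0 + e1 * ω + e2 * ω ^ 2) = 0 := by
      linear_combination (hE 1 1 0 - hE 1 (-1) 0) / 2 - hE 0 1 0
    exact (mul_eq_zero.mp this).resolve_left (mul_ne_zero (by norm_num) hε0)
  have f2 : e0 + e1 * ω ^ 2 + e2 * ω = 0 := by
    have : 3 * (e0 + e1 * ω ^ 2 + e2 * ω) = 0 := by
      linear_combination (hE 1 0 1 - hE 1 0 (-1)) / 2 - hE 0 0 1
    exact (mul_eq_zero.mp this).resolve_left (by norm_num)
  have h12 : e1 = e2 := by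
    have : (ω * (1 - ω)) * (e1 - e2) = 0 := by linear_combination f1 - f2
    have hne : ω * (1 - ω) ≠ 0 :=
      mul_ne_zero ω_ne_zero (fun h => ω_ne_one (by linear_combination -h))
    have := (mul_eq_zero.mp this).resolve_left hne
    linear_combination this
  have h01 : e0 = e1 := by
    rw [← h12] at f1
    linear_combination f1 - e1 * hω
  subst h12
  subst h01
  have g1 := hE 1 0 0
  have g2 := hE 1 1 1
  have hsum : (2 + ε) ^ 3 + (1 + ω * ε + ω ^ 2) ^ 3 + (1 + ω ^ 2 * ε + ω) ^ 3 = 9 + 18 * ε := by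
    linear_combination (4 - 6*ε + 9*ε*ω + 3*ε*ω^3 + 6*ε^2 - 6*ε^2*ω + 3*ε^2*ω^2 + 3*ε^2*ω^3
      - 2*ε^3 + 2*ε^3*ω - ε^3*ω^3 + ε^3*ω^4 - ω + 3*ω^2 - ω^3 + ω^4) * hω + 3 * hε
  have key : 2 * ε * e0 + k * ε * α' + k * e0 - k ^ 2 * α' = 0 := by
    linear_combination (1 / 9 : ℂ) * g2 - ((3 - 3 * k) / 9) * g1 - (e0 / 9) * hsum
  refine ⟨e0 / α', ?_, ?_⟩
  · rw [div_pow, div_eq_one_iff_eq (pow_ne_zero 3 hα')]
    linear_combination hcube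
  · field_simp
    linear_combination -key

end Groth.Agent.Helper27.Hesse54
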