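import Mathlib
import Groth.Agent.Lib.Helper27.Hesse54c

/-! Step 6 and the main structure lemma. -/

namespace Groth.Agent.Helper27.Hesse54
open Matrix

lemma nonmono (k : ℂ) (A : Matrix (Fin 3) (Fin 3) ℂ) (hdet : A.det ≠ 0) (c : ℂ)
    (hH : ∀ v, Hk k (A *ᵥ v) = c * Hk k v) (α β : ℂ) (hα : α ≠ 0) (hβ : β ^ 3 = -27 * α ^ 3)
    (hG : ∀ v, P (A *ᵥ v) = α * S v + β * P v) :
    ∃ ε η : ℂ, ε ^ 3 = 1 ∧ η ^ 3 = 1 ∧ k ^ 2 - (ε + η) * k - 2 * ε * η = 0 := by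
  obtain ⟨ε, hεdef⟩ : ∃ ε, ε = -β / (3 * α) := ⟨_, rfl⟩
  have h3α : (3 : ℂ) * α ≠ 0 := mul_ne_zero (by norm_num) hα
  have hε : ε ^ 3 = 1 := by
    rw [hεdef, div_pow, div_eq_one_iff_eq (pow_ne_zero 3 h3α)]
    linear_combination -hβ
  have hβε : β = -3 * ε * α := by
    rw [hεdef]; field_simp
  have hε0 : ε ≠ 0 := fun h => by rw [h] at hε; simp at hε
  have hMdet : (Mε ε).det ≠ 0 := by
    rw [Mε_det]
    refine mul_ne_zero (mul_ne_zero (mul_ne_zero (by norm_num) hε0) ω_ne_zero) ?_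
    exact fun h => ω_ne_one (by linear_combination h)
  have hMu : IsUnit (Mε ε).det := isUnit_iff_ne_zero.mpr hMdet
  obtain ⟨A', hA'def⟩ : ∃ A', A' = A * (Mε ε)⁻¹ := ⟨_, rfl⟩
  have hA'M : A' * Mε ε = A := by
    rw [hA'def, Matrix.mul_assoc, Matrix.nonsing_inv_mul _ hMu, Matrix.mul_one]
  have hA'det : A'.det ≠ 0 := by
    intro h; apply hdet; rw [← hA'M, Matrix.det_mul, h, zero_mul]
  have hAv : ∀ v, A *ᵥ v = A' *ᵥ (Mε ε *ᵥ v) := by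
    intro v; rw [Matrix.mulVec_mulVec, hA'M]
  have hG' : ∀ u, P (A' *ᵥ u) = α * P u := by
    intro u
    have h1 : Mε ε *ᵥ ((Mε ε)⁻¹ *ᵥ u) = u := by
      rw [Matrix.mulVec_mulVec, Matrix.mul_nonsing_inv _ hMu, Matrix.one_mulVec]
    have h2 := hG ((Mε ε)⁻¹ *ᵥ u)
    rw [hAv, h1] at h2
    rw [h2, ← h1, Mε_prod ε hε, h1, hβε]
    ring
  obtain ⟨τ, hrow⟩ := mono A' hA'det α hG'
  have hdet' := mono_det A' τ hrow
  have hα' : ∏ j, A' (τ j) j ≠ 0 := by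
    intro h; apply hA'det; rw [hdet', h, mul_zero]
  have hE : ∀ x y z : ℂ, A' (τ 0) 0 ^ 3 * (x + ε * y + z) ^ 3
        + A' (τ 1) 1 ^ 3 * (x + ω * ε * y + ω ^ 2 * z) ^ 3
        + A' (τ 2) 2 ^ 3 * (x + ω ^ 2 * ε * y + ω * z) ^ 3
        - 3 * k * ((∏ j, A' (τ j) j) * (x ^ 3 + y ^ 3 + z ^ 3 - 3 * ε * (x * y * z)))
      = c * (x ^ 3 + y ^ 3 + z ^ 3 - 3 * k * (x * y * z)) := by
    intro x y z
    have := hH ![x, y, z]
    rw [Hk, Hk, hAv, mono_S A' τ hrow, mono_P A' τ hrow, Mε_prod ε hε] at this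
    obtain ⟨h0, h1, h2⟩ := Mε_mulVec ε ![x, y, z]
    rw [Fin.sum_univ_three, h0, h1, h2, S_eq, P_eq] at this
    simp only [Matrix.cons_val_zero, Matrix.cons_val_one, Matrix.cons_val_two,
      Matrix.head_cons, Matrix.tail_cons] at this
    linear_combination this
  obtain ⟨η, hη, hkη⟩ := nonmono_alg k c ε _ _ _ _ hε hα'
    (by rw [Fin.prod_univ_three]; ring) hE
  exact ⟨ε, η, hε, hη, hkη⟩

/-- the finite set of excluded parameters -/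
def Bad (k : ℂ) : Prop :=
  k = 0 ∨ k ^ 3 = 1 ∨ ∃ ε η : ℂ, ε ^ 3 = 1 ∧ η ^ 3 = 1 ∧ k ^ 2 - (ε + η) * k - 2 * ε * η = 0

/-- structure of the linear automorphisms for good parameters -/
lemma structure_lemma (k : ℂ) (hk : ¬ Bad k) (A : Matrix (Fin 3) (Fin 3) ℂ) (hdet : A.det ≠ 0)
    (c : ℂ) (hH : ∀ v, Hk k (A *ᵥ v) = c * Hk k v) :
    ∃ τ : Equiv.Perm (Fin 3), (∀ j j', j' ≠ j → A (τ j) j' = 0) ∧
      (∀ j, A (τ j) j ^ 3 = c) ∧ ∏ j, A (τ j) j = c := by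
  have hk0 : k ≠ 0 := fun h => hk (Or.inl h)
  have hk1 : k ^ 3 ≠ 1 := fun h => hk (Or.inr (Or.inl h))
  have hk2 : ¬ ∃ ε η : ℂ, ε ^ 3 = 1 ∧ η ^ 3 = 1 ∧ k ^ 2 - (ε + η) * k - 2 * ε * η = 0 :=
    fun h => hk (Or.inr (Or.inr h))
  obtain ⟨α, β, hG⟩ := pencil A
    (fun γ hγ => nine_vanish k hk1 A hdet c hH _ ⟨γ, hγ, Or.inl rfl⟩)
    (fun γ hγ => nine_vanish k hk1 A hdet c hH _ ⟨γ, hγ, Or.inr (Or.inl rfl)⟩)
    (fun γ hγ => nine_vanish k hk1 A hdet c hH _ ⟨γ, hγ, Or.inr (Or.inr rfl)⟩)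
  rcases triangle A hdet α β hG with hα | hβ
  · have hG' : ∀ v, P (A *ᵥ v) = β * P v := by
      intro v; rw [hG, hα, zero_mul, zero_add]
    obtain ⟨τ, hrow⟩ := mono A hdet β hG'
    obtain ⟨h1, h2⟩ := mono_constraints A τ hrow k c hk0 hH
    exact ⟨τ, hrow, h1, h2⟩
  · by_cases hα : α = 0
    · have hG' : ∀ v, P (A *ᵥ v) = β * P v := by
        intro v; rw [hG, hα, zero_mul, zero_add]
      obtain ⟨τ, hrow⟩ := mono A hdet β hG'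
      obtain ⟨h1, h2⟩ := mono_constraints A τ hrow k c hk0 hH
      exact ⟨τ, hrow, h1, h2⟩
    · exact absurd (nonmono k A hdet c hH α β hα hβ hG) hk2

end Groth.Agent.Helper27.Hesse54
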