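import Mathlib
import Groth.Agent.Lib.Helper27.Hesse54d

/-! Finiteness of the excluded set and the count. -/

namespace Groth.Agent.Helper27.Hesse54
open Matrix

lemma quad_finite (b c' : ℂ) : {k : ℂ | k ^ 2 - b * k - c' = 0}.Finite := by
  by_cases h : ∃ k1 : ℂ, k1 ^ 2 - b * k1 - c' = 0
  · obtain ⟨k1, hk1⟩ := h
    apply Set.Finite.subset (Set.toFinite {k1, b - k1})
    intro k hk
    have hk' : k ^ 2 - b * k - c' = 0 := hk
    have : (k - k1) * (k - (b - k1)) = 0 := by linear_combination hk' - hk1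
    rcases mul_eq_zero.mp this with h | h
    · left; linear_combination h
    · right
      show k = b - k1
      linear_combination h
  · have : {k : ℂ | k ^ 2 - b * k - c' = 0} = ∅ := by
      ext k
      simp only [Set.mem_ofPred_eq, Set.mem_empty_iff_false, iff_false]
      exact fun hk => h ⟨k, hk⟩
    rw [this]
    exact Set.finite_empty

lemma mu3_finite : {x : ℂ | x ^ 3 = 1}.Finite := by
  apply Set.Finite.subset (Set.toFinite {1, ω, ω ^ 2})
  intro x hx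
  rcases cube_root x hx with h | h | h <;> simp [h]

lemma bad_finite : {k : ℂ | Bad k}.Finite := by
  have h3 : {k : ℂ | ∃ ε η : ℂ, ε ^ 3 = 1 ∧ η ^ 3 = 1 ∧ k ^ 2 - (ε + η) * k - 2 * ε * η = 0}.Finite := by
    have : {k : ℂ | ∃ ε η : ℂ, ε ^ 3 = 1 ∧ η ^ 3 = 1 ∧ k ^ 2 - (ε + η) * k - 2 * ε * η = 0} =
        ⋃ ε ∈ {x : ℂ | x ^ 3 = 1}, ⋃ η ∈ {x : ℂ | x ^ 3 = 1},
          {k : ℂ | k ^ 2 - (ε + η) * k - 2 * ε * η = 0} := by
      ext k
      simp only [Set.mem_ofPred_eq, Set.mem_iUnion, exists_prop]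
      constructor
      · rintro ⟨ε, η, h1, h2, h3⟩; exact ⟨ε, h1, η, h2, h3⟩
      · rintro ⟨ε, h1, η, h2, h3⟩; exact ⟨ε, η, h1, h2, h3⟩
    rw [this]
    exact mu3_finite.biUnion (fun ε _ => mu3_finite.biUnion (fun η _ => quad_finite _ _))
  have : {k : ℂ | Bad k} = {0} ∪ ({x : ℂ | x ^ 3 = 1} ∪
      {k : ℂ | ∃ ε η : ℂ, ε ^ 3 = 1 ∧ η ^ 3 = 1 ∧ k ^ 2 - (ε + η) * k - 2 * ε * η = 0}) := by
    ext k
    simp only [Bad, Set.mem_ofPred_eq, Set.mem_union, Set.mem_singleton_iff]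
  rw [this]
  exact (Set.finite_singleton 0).union (mu3_finite.union h3)

/-- the sign of a permutation, as a complex number -/
noncomputable def sg (τ : Equiv.Perm (Fin 3)) : ℂ := ((Equiv.Perm.sign τ : ℤ) : ℂ)

lemma sg_sq (τ : Equiv.Perm (Fin 3)) : sg τ * sg τ = 1 := by
  unfold sg
  rcases Int.units_eq_one_or (Equiv.Perm.sign τ) with h | h <;> simp [h]

lemma sg_ne_zero (τ : Equiv.Perm (Fin 3)) : sg τ ≠ 0 := by
  intro h
  have := sg_sq τ
  rw [h, mul_zero] at this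
  exact zero_ne_one this

/-- the diagonal entries -/
noncomputable def dd (x : Equiv.Perm (Fin 3) × Fin 3 × Fin 3) (j : Fin 3) : ℂ :=
  sg x.1 * ω ^ (![(x.2.1 : ℕ), (x.2.2 : ℕ), 2 * ((x.2.1 : ℕ) + (x.2.2 : ℕ))] j)

/-- the 54 monomial matrices -/
noncomputable def N (x : Equiv.Perm (Fin 3) × Fin 3 × Fin 3) : Matrix (Fin 3) (Fin 3) ℂ :=
  fun i j => if i = x.1 j then dd x j else 0

lemma N_row (x : Equiv.Perm (Fin 3) × Fin 3 × Fin 3) :
    ∀ j j', j' ≠ j → N x (x.1 j) j' = 0 := by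
  intro j j' hjj'
  unfold N
  rw [if_neg]
  intro h
  exact hjj' (x.1.injective h).symm

lemma N_diag (x : Equiv.Perm (Fin 3) × Fin 3 × Fin 3) (j : Fin 3) : N x (x.1 j) j = dd x j := by
  unfold N
  rw [if_pos rfl]

lemma dd_cube (x : Equiv.Perm (Fin 3) × Fin 3 × Fin 3) (j : Fin 3) : dd x j ^ 3 = sg x.1 := by
  unfold dd
  rw [mul_pow, ← pow_mul, mul_comm _ 3, pow_mul, ω_cube, one_pow, mul_one]
  linear_combination sg x.1 * sg_sq x.1

lemma dd_prod (x : Equiv.Perm (Fin 3) × Fin 3 × Fin 3) : ∏ j, dd x j = sg x.1 := by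
  rw [Fin.prod_univ_three]
  unfold dd
  simp only [Matrix.cons_val_zero, Matrix.cons_val_one, Matrix.cons_val_two,
    Matrix.head_cons, Matrix.tail_cons]
  have h : ω ^ (x.2.1 : ℕ) * ω ^ (x.2.2 : ℕ) * ω ^ (2 * ((x.2.1 : ℕ) + (x.2.2 : ℕ))) = 1 := by
    rw [← pow_add, ← pow_add]
    have : (x.2.1 : ℕ) + (x.2.2 : ℕ) + 2 * ((x.2.1 : ℕ) + (x.2.2 : ℕ)) =
        3 * ((x.2.1 : ℕ) + (x.2.2 : ℕ)) := by ring
    rw [this, pow_mul, ω_cube, one_pow]
  linear_combination (sg x.1 * sg x.1 * sg x.1) * h + sg x.1 * sg_sq x.1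

lemma N_det (x : Equiv.Perm (Fin 3) × Fin 3 × Fin 3) : (N x).det = 1 := by
  rw [mono_det (N x) x.1 (N_row x)]
  simp only [N_diag]
  rw [dd_prod]
  exact sg_sq x.1

lemma N_Hk (x : Equiv.Perm (Fin 3) × Fin 3 × Fin 3) (k : ℂ) (v : Fin 3 → ℂ) :
    Hk k (N x *ᵥ v) = sg x.1 * Hk k v := by
  apply mono_converse (N x) x.1 (N_row x)
  · intro j; rw [N_diag, dd_cube]
  · simp only [N_diag]; rw [dd_prod]

lemma N_injective : Function.Injective N := by
  intro x y hxy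
  have h1 : x.1 = y.1 := by
    apply Equiv.ext
    intro j
    by_contra hne
    have e1 : N x (x.1 j) j = dd x j := N_diag x j
    have e2 : N y (x.1 j) j = 0 := by
      unfold N; rw [if_neg hne]
    rw [hxy, e2] at e1
    have : dd x j ≠ 0 := by
      unfold dd
      exact mul_ne_zero (sg_ne_zero _) (pow_ne_zero _ ω_ne_zero)
    exact this e1.symm
  have h2 : ∀ j, dd x j = dd y j := by
    intro j
    rw [← N_diag x j, ← N_diag y j, hxy, h1]
  have e0 := h2 0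
  have e1 := h2 1
  unfold dd at e0 e1
  rw [h1] at e0 e1
  simp only [Matrix.cons_val_zero, Matrix.cons_val_one] at e0 e1
  have e0' := mul_left_cancel₀ (sg_ne_zero _) e0
  have e1' := mul_left_cancel₀ (sg_ne_zero _) e1
  have f0 := ω_prim.pow_inj x.2.1.isLt y.2.1.isLt e0'
  have f1 := ω_prim.pow_inj x.2.2.isLt y.2.2.isLt e1'
  exact Prod.ext h1 (Prod.ext (Fin.ext f0) (Fin.ext f1))

lemma pow_fin3 (x : ℂ) (hx : x ^ 3 = 1) : ∃ a : Fin 3, x = ω ^ (a : ℕ) := by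
  rcases cube_root x hx with h | h | h
  · exact ⟨0, by simp [h]⟩
  · exact ⟨1, by simp [h]⟩
  · exact ⟨2, by simp [h]⟩

lemma N_surj (k : ℂ) (hk : ¬ Bad k) (A : Matrix (Fin 3) (Fin 3) ℂ) (hdet : A.det = 1)
    (c : ℂ) (hH : ∀ v, Hk k (A *ᵥ v) = c * Hk k v) : ∃ x, N x = A := by
  obtain ⟨τ, hrow, h1, h2⟩ := structure_lemma k hk A (by rw [hdet]; exact one_ne_zero) c hH
  have hd := mono_det A τ hrow
  rw [hdet, h2] at hd
  have hc : c = sg τ := by
    have : sg τ * c = 1 := hd.symm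
    linear_combination sg τ * this - c * sg_sq τ
  have hs := sg_sq τ
  have hs0 := sg_ne_zero τ
  have hcube : ∀ j, (A (τ j) j / sg τ) ^ 3 = 1 := by
    intro j
    rw [div_pow, h1 j, hc, div_eq_one_iff_eq (pow_ne_zero 3 hs0)]
    linear_combination -sg τ * hs
  obtain ⟨a0, ha0⟩ := pow_fin3 _ (hcube 0)
  obtain ⟨a1, ha1⟩ := pow_fin3 _ (hcube 1)
  have hd0 : A (τ 0) 0 = sg τ * ω ^ (a0 : ℕ) := by
    rw [← ha0]; field_simp
  have hd1 : A (τ 1) 1 = sg τ * ω ^ (a1 : ℕ) := by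
    rw [← ha1]; field_simp
  have hω3 : ω ^ ((a0 : ℕ) + (a1 : ℕ)) * ω ^ (2 * ((a0 : ℕ) + (a1 : ℕ))) = 1 := by
    rw [← pow_add]
    have : (a0 : ℕ) + (a1 : ℕ) + 2 * ((a0 : ℕ) + (a1 : ℕ)) = 3 * ((a0 : ℕ) + (a1 : ℕ)) := by ring
    rw [this, pow_mul, ω_cube, one_pow]
  have hd2 : A (τ 2) 2 = sg τ * ω ^ (2 * ((a0 : ℕ) + (a1 : ℕ))) := by
    rw [Fin.prod_univ_three, hd0, hd1, hc] at h2
    have hne : ω ^ ((a0 : ℕ) + (a1 : ℕ)) ≠ 0 := pow_ne_zero _ ω_ne_zero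
    have h3 : ω ^ ((a0 : ℕ) + (a1 : ℕ)) * A (τ 2) 2 = sg τ := by
      rw [pow_add]
      linear_combination h2 - (ω ^ (a0 : ℕ) * ω ^ (a1 : ℕ) * A (τ 2) 2) * hs
    apply mul_left_cancel₀ hne
    rw [h3]
    linear_combination -sg τ * hω3
  refine ⟨(τ, a0, a1), ?_⟩
  ext i j
  unfold N
  by_cases hij : i = τ j
  · rw [if_pos hij, hij]
    unfold dd
    fin_cases j
    · simpa using hd0.symm
    · simpa using hd1.symm
    · simpa using hd2.symm
  · rw [if_neg hij]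
    have h4 : i = τ (τ.symm i) := by simp
    rw [h4]
    symm
    apply hrow
    intro h5
    apply hij
    rw [h4, ← h5]

lemma card_eq (k : ℂ) (hk : ¬ Bad k) :
    Nat.card {A : Matrix (Fin 3) (Fin 3) ℂ // A.det = 1 ∧
      ∃ c : ℂ, MvPolynomial.aeval
        (fun i : Fin 3 => ∑ j : Fin 3, MvPolynomial.C (A i j) * MvPolynomial.X j)
          (HesseCubic.form k) = MvPolynomial.C c * HesseCubic.form k} = 54 := by
  let f : Equiv.Perm (Fin 3) × Fin 3 × Fin 3 → {A : Matrix (Fin 3) (Fin 3) ℂ // A.det = 1 ∧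
      ∃ c : ℂ, MvPolynomial.aeval
        (fun i : Fin 3 => ∑ j : Fin 3, MvPolynomial.C (A i j) * MvPolynomial.X j)
          (HesseCubic.form k) = MvPolynomial.C c * HesseCubic.form k} :=
    fun x => ⟨N x, N_det x, sg x.1, (bridge (N x) k (sg x.1)).mpr (N_Hk x k)⟩
  have hf : Function.Bijective f := by
    constructor
    · intro x y hxy
      exact N_injective (congrArg Subtype.val hxy)
    · rintro ⟨A, hdet, c, hc⟩
      obtain ⟨x, hx⟩ := N_surj k hk A hdet c ((bridge A k c).mp hc)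
      exact ⟨x, Subtype.ext hx⟩
  rw [← Nat.card_congr (Equiv.ofBijective f hf), Nat.card_eq_fintype_card]
  simp [Fintype.card_perm, Nat.factorial]

end Groth.Agent.Helper27.Hesse54
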