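import Mathlib

/-! Hyperelliptic function fields: polynomial lemmas. -/

set_option autoImplicit false

namespace Groth.Agent.Helper27.Hyp

open Polynomial

variable {k : Type*} [Field k]

/-- If `b² f` is a polynomial of degree smaller than that of the squarefree `f`, then `b = 0`. -/
theorem eq_zero_of_sq_mul_eq {f q : k[X]} (hf : Squarefree f) (b : RatFunc k)
    (hq : q.natDegree < f.natDegree)
    (h : b ^ 2 * algebraMap k[X] (RatFunc k) f = algebraMap k[X] (RatFunc k) q) : b = 0 := by
  by_contra hb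
  set n := b.num with hn
  set d := b.denom with hd
  have hd0 : d ≠ 0 := b.denom_ne_zero
  have hn0 : n ≠ 0 := RatFunc.num_ne_zero hb
  have hd0' : algebraMap k[X] (RatFunc k) d ≠ 0 := by
    simpa using hd0
  have hbnd : b = algebraMap k[X] (RatFunc k) n / algebraMap k[X] (RatFunc k) d :=
    (RatFunc.num_div_denom b).symm
  have hpoly : n ^ 2 * f = q * d ^ 2 := by
    apply RatFunc.algebraMap_injective k
    rw [map_mul, map_mul, map_pow, map_pow, ← h, hbnd]
    field_simp
  have hcop : IsCoprime (d ^ 2) (n ^ 2) := (RatFunc.isCoprime_num_denom b).symm.pow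
  have hdvd : d ^ 2 ∣ f := by
    apply hcop.dvd_of_dvd_mul_left
    rw [hpoly]
    exact Dvd.intro_left q rfl
  have hdu : IsUnit d := hf d (by rw [← sq]; exact hdvd)
  have hdeg : (n ^ 2 * f).natDegree = (q * d ^ 2).natDegree := by rw [hpoly]
  have hf0 : f ≠ 0 := hf.ne_zero
  rw [natDegree_mul (pow_ne_zero 2 hn0) hf0] at hdeg
  have hq0 : q ≠ 0 := by
    rintro rfl
    rw [zero_mul] at hpoly
    exact (mul_ne_zero (pow_ne_zero 2 hn0) hf0) hpoly
  rw [natDegree_mul hq0 (pow_ne_zero 2 hd0), natDegree_pow, natDegree_pow,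
    natDegree_eq_zero_of_isUnit hdu] at hdeg
  omega

/-- coefficients from Bezout -/
theorem exists_bezout_of_coprime {n d : k[X]} (h : IsCoprime n d) :
    ∃ u v : k[X], u * n + v * d = 1 := h

end Groth.Agent.Helper27.Hyp
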