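import Groth.Agent.Lib.Helper27.HypA
import Groth.Agent.Lib.Helper16.FF.Galois
import Groth.Agent.Lib.Helper16.FF.RR
import Groth.Agent.Lib.Helper16.FFW.Hyper

/-! Hyperelliptic function fields: setting, the involution, the spaces `L(n (x)_∞)`. -/

set_option autoImplicit false

namespace Groth.Agent.Helper27.Hyp

open FunFld Polynomial Groth.Agent.Helper16.FF
open scoped WithZero

section General

variable {k K : Type*} [Field k] [Field K] [Algebra k K]

/-- the bound `max 1 |x|` at a place -/
noncomputable def bd (x : K) (Q : Place k K) : ℤᵐ⁰ := max 1 (Q.1 x)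

theorem one_le_bd (x : K) (Q : Place k K) : 1 ≤ bd x Q := le_max_left _ _

theorem val_le_bd (x : K) (Q : Place k K) : Q.1 x ≤ bd x Q := le_max_right _ _

theorem exp_poleDiv (hK : IsFunctionField k K) {x : K} (hx : x ≠ 0) (Q : Place k K) :
    WithZero.exp ((poleDiv x : Divisor k K) Q) = bd x Q := by
  rw [poleDiv_apply hK, bd]
  by_cases h : Q.1 x ≤ 1
  · have h0 : 0 ≤ Q.ord x := (Place.val_le_one_iff Q hx).1 h
    rw [max_eq_right (by omega), max_eq_left h, WithZero.exp_zero]
  · push Not at h
    have h0 : Q.ord x < 0 := by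
      by_contra hge
      push Not at hge
      exact absurd ((Place.val_le_one_iff Q hx).2 hge) (not_le.2 h)
    rw [max_eq_left (by omega), max_eq_right h.le, ← Place.val_eq_exp_neg_ord Q hx]

theorem mem_LN_iff (hK : IsFunctionField k K) {x : K} (hx : x ≠ 0) (n : ℕ) (z : K) :
    z ∈ L (n • (poleDiv x : Divisor k K)) ↔ ∀ Q : Place k K, Q.1 z ≤ bd x Q ^ n := by
  refine forall_congr' fun Q => ?_
  rw [Finsupp.smul_apply, ← exp_poleDiv hK hx Q, ← WithZero.exp_nsmul]

/-- polynomials in `x` are bounded by `bd ^ degree` -/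
theorem val_aeval_le_bd (x : K) (Q : Place k K) (q : k[X]) :
    Q.1 (aeval x q) ≤ bd x Q ^ q.natDegree := by
  by_cases hq : q = 0
  · rw [hq, map_zero, map_zero]; exact zero_le
  by_cases h : Q.1 x ≤ 1
  · exact (Groth.Agent.Helper16.FFW.val_aeval_le_one Q h q).trans (one_le_pow₀ (one_le_bd x Q))
  · push Not at h
    rw [Groth.Agent.Helper16.FFW.val_aeval_of_one_lt Q h _ q rfl hq, bd, max_eq_right h.le]

theorem val_aeval_eq_of_pole (x : K) (Q : Place k K) (h : 1 < Q.1 x) {q : k[X]} (hq : q ≠ 0) :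
    Q.1 (aeval x q) = bd x Q ^ q.natDegree := by
  rw [Groth.Agent.Helper16.FFW.val_aeval_of_one_lt Q h _ q rfl hq, bd, max_eq_right h.le]

end General

section Setting

variable {k K : Type*} [Field k] [Field K] [Algebra k K] [Algebra (RatFunc k) K]
  [IsScalarTower k (RatFunc k) K]

variable (k K) in
/-- the image of `X` -/
noncomputable def xK : K := algebraMap (RatFunc k) K RatFunc.X

theorem map_poly (q : k[X]) :
    algebraMap (RatFunc k) K (algebraMap k[X] (RatFunc k) q) = aeval (xK k K) q := by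
  rw [Groth.Agent.Helper16.FFW.algebraMap_eq_aeval_X, xK, Polynomial.aeval_algebraMap_apply]

theorem transcendental_xK : Transcendental k (xK k K) :=
  (transcendental_algebraMap_iff (algebraMap (RatFunc k) K).injective).2
    (RatFunc.transcendental_X (K := k))

theorem xK_ne_zero : xK k K ≠ 0 := fun h =>
  transcendental_xK (k := k) (K := K) (h ▸ isAlgebraic_zero)

theorem finrank_adjoin_xK [FiniteDimensional (RatFunc k) K] :
    Module.finrank (IntermediateField.adjoin k ({xK k K} : Set K)) K =
      Module.finrank (RatFunc k) K := by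
  have h := Groth.Agent.Helper16.FFW.finrank_adjoin_incl (k := k) (K := RatFunc k) (K' := K)
    (RatFunc.X : RatFunc k)
  rw [RatFunc.adjoin_X, IntermediateField.finrank_top, one_mul] at h
  exact h

variable {y : K} {f : k[X]}

theorem not_mem_range (hf : Squarefree f) (hd : 1 ≤ f.natDegree)
    (heq : y ^ 2 = algebraMap (RatFunc k) K (algebraMap k[X] (RatFunc k) f)) :
    y ∉ Set.range (algebraMap (RatFunc k) K) := by
  rintro ⟨y₀, rfl⟩
  have hinj : Function.Injective (algebraMap (RatFunc k) K) := (algebraMap (RatFunc k) K).injective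
  rw [← map_pow] at heq
  have hy₀ : y₀ ^ 2 = algebraMap k[X] (RatFunc k) f := hinj heq
  have hφ0 : algebraMap k[X] (RatFunc k) f ≠ 0 := by simpa using hf.ne_zero
  have hy₀0 : y₀ ≠ 0 := by
    rintro rfl
    rw [zero_pow (by norm_num)] at hy₀
    exact hφ0 hy₀.symm
  rcases Groth.Agent.Helper16.FFW.sq_mul_ne_const hf hd y₀⁻¹ 1 with h | h
  · apply h
    rw [← hy₀, inv_pow, inv_mul_cancel₀ (pow_ne_zero _ hy₀0), map_one]
  · exact inv_ne_zero hy₀0 h

theorem minpoly_eq (hf : Squarefree f) (hd : 1 ≤ f.natDegree)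
    (heq : y ^ 2 = algebraMap (RatFunc k) K (algebraMap k[X] (RatFunc k) f)) :
    minpoly (RatFunc k) y = X ^ 2 - C (algebraMap k[X] (RatFunc k) f) := by
  have hmonic : (X ^ 2 - C (algebraMap k[X] (RatFunc k) f) : (RatFunc k)[X]).Monic :=
    monic_X_pow_sub_C _ (by norm_num)
  have hroot : aeval y (X ^ 2 - C (algebraMap k[X] (RatFunc k) f) : (RatFunc k)[X]) = 0 := by
    simp [heq]
  have hint : IsIntegral (RatFunc k) y := ⟨_, hmonic, hroot⟩
  symm
  apply eq_of_monic_of_dvd_of_natDegree_le (minpoly.monic hint) hmonic (minpoly.dvd _ _ hroot)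
  rw [natDegree_X_pow_sub_C]
  exact (minpoly.two_le_natDegree_iff hint).2 (not_mem_range hf hd heq)

theorem exists_sigma (hdeg : Module.finrank (RatFunc k) K = 2) (hf : Squarefree f)
    (hd : 1 ≤ f.natDegree)
    (heq : y ^ 2 = algebraMap (RatFunc k) K (algebraMap k[X] (RatFunc k) f)) :
    ∃ σ : K ≃ₐ[RatFunc k] K, σ y = -y := by
  haveI : Algebra.IsQuadraticExtension (RatFunc k) K :=
    { toFree := inferInstance, finrank_eq_two' := hdeg }
  have hmonic : (X ^ 2 - C (algebraMap k[X] (RatFunc k) f) : (RatFunc k)[X]).Monic :=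
    monic_X_pow_sub_C _ (by norm_num)
  have hroot : aeval y (X ^ 2 - C (algebraMap k[X] (RatFunc k) f) : (RatFunc k)[X]) = 0 := by
    simp [heq]
  have hint : IsIntegral (RatFunc k) y := ⟨_, hmonic, hroot⟩
  apply minpoly.exists_algEquiv_of_root' hint.isAlgebraic
  rw [minpoly_eq hf hd heq]
  simp [heq]

theorem exists_decomp (hdeg : Module.finrank (RatFunc k) K = 2) (hf : Squarefree f)
    (hd : 1 ≤ f.natDegree)
    (heq : y ^ 2 = algebraMap (RatFunc k) K (algebraMap k[X] (RatFunc k) f)) (z : K) :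
    ∃ a b : RatFunc k, z = algebraMap (RatFunc k) K a + algebraMap (RatFunc k) K b * y := by
  haveI : FiniteDimensional (RatFunc k) K := Module.finite_of_finrank_pos (by omega)
  have hmonic : (X ^ 2 - C (algebraMap k[X] (RatFunc k) f) : (RatFunc k)[X]).Monic :=
    monic_X_pow_sub_C _ (by norm_num)
  have hroot : aeval y (X ^ 2 - C (algebraMap k[X] (RatFunc k) f) : (RatFunc k)[X]) = 0 := by
    simp [heq]
  have hint : IsIntegral (RatFunc k) y := ⟨_, hmonic, hroot⟩
  have htop : IntermediateField.adjoin (RatFunc k) ({y} : Set K) = ⊤ := by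
    apply IntermediateField.eq_of_le_of_finrank_eq le_top
    rw [IntermediateField.adjoin.finrank hint, minpoly_eq hf hd heq, natDegree_X_pow_sub_C,
      IntermediateField.finrank_top', hdeg]
  exact Groth.Agent.Helper16.FFW.exists_decomp_of_sq heq htop z

theorem decomp_unique (hf : Squarefree f) (hd : 1 ≤ f.natDegree)
    (heq : y ^ 2 = algebraMap (RatFunc k) K (algebraMap k[X] (RatFunc k) f))
    (a b : RatFunc k)
    (h : algebraMap (RatFunc k) K a + algebraMap (RatFunc k) K b * y = 0) : a = 0 ∧ b = 0 := by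
  have hinj : Function.Injective (algebraMap (RatFunc k) K) := (algebraMap (RatFunc k) K).injective
  have hb : b = 0 := by
    by_contra hb
    apply not_mem_range hf hd heq
    refine ⟨-a / b, ?_⟩
    have hB0 : algebraMap (RatFunc k) K b ≠ 0 := by simpa using hb
    rw [map_div₀, map_neg]
    field_simp
    linear_combination -h
  subst hb
  rw [map_zero, zero_mul, add_zero] at h
  exact ⟨hinj (by rw [h, map_zero]), rfl⟩

end Setting

end Groth.Agent.Helper27.Hyp
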