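import Groth.Agent.Lib.Helper27.HypB

/-! Hyperelliptic function fields: the genus. -/

set_option autoImplicit false

namespace Groth.Agent.Helper27.Hyp

open FunFld Polynomial Groth.Agent.Helper16.FF
open scoped WithZero

variable {k K : Type*} [Field k] [Field K] [Algebra k K] [Algebra (RatFunc k) K]
  [IsScalarTower k (RatFunc k) K]

theorem aeval_xK_injective : Function.Injective (aeval (R := k) (xK k K)) :=
  transcendental_iff_injective.1 transcendental_xK

/-- An element of `k(x)` with poles bounded by `N (x)_∞` is a polynomial of degree `≤ N`. -/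
theorem poly_of_mem_LN (hK : IsFunctionField k K) (r : RatFunc k) (N : ℕ)
    (h : algebraMap (RatFunc k) K r ∈ L (N • (poleDiv (xK k K) : Divisor k K))) :
    ∃ q : k[X], r = algebraMap k[X] (RatFunc k) q ∧ q.natDegree ≤ N := by
  classical
  set x := xK k K with hxdef
  have hx0 : x ≠ 0 := xK_ne_zero
  have hxtr : Transcendental k x := transcendental_xK
  rw [mem_LN_iff hK hx0] at h
  set n := r.num with hn
  set d := r.denom with hd
  have hd0 : d ≠ 0 := r.denom_ne_zero
  have hr : algebraMap (RatFunc k) K r = aeval x n / aeval x d := by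
    conv_lhs => rw [← RatFunc.num_div_denom r]
    rw [map_div₀, map_poly, map_poly]
  have hdx0 : aeval x d ≠ 0 := by
    intro h0
    exact hd0 (aeval_xK_injective (K := K) (by rw [h0, map_zero]))
  have hdu : IsUnit d := by
    by_contra hnu
    obtain ⟨p, hp, hpd⟩ := WfDvdMonoid.exists_irreducible_factor hnu hd0
    have hptr : Transcendental k (aeval x p) :=
      hxtr.aeval p hp.natDegree_pos.ne'
        (mem_nonZeroDivisors_of_ne_zero (leadingCoeff_ne_zero.2 hp.ne_zero))
    obtain ⟨Q, hQ⟩ := exists_zero hK hptr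
    have hQx : Q.1 x ≤ 1 := by
      by_contra hgt
      push Not at hgt
      rw [Groth.Agent.Helper16.FFW.val_aeval_of_one_lt Q hgt _ p rfl hp.ne_zero] at hQ
      exact absurd hQ (not_lt.2 (one_le_pow₀ hgt.le))
    have hbd : bd x Q = 1 := max_eq_left hQx
    have h1 := h Q
    rw [hbd, one_pow, hr, map_div₀] at h1
    obtain ⟨d', hd'⟩ := hpd
    have hdlt : Q.1 (aeval x d) < 1 := by
      rw [hd', map_mul, map_mul]
      calc Q.1 (aeval x p) * Q.1 (aeval x d') ≤ Q.1 (aeval x p) * 1 :=
            mul_le_mul' le_rfl (Groth.Agent.Helper16.FFW.val_aeval_le_one Q hQx d')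
        _ < 1 := by rw [mul_one]; exact hQ
    obtain ⟨u, v, huv⟩ := r.isCoprime_num_denom
    have hn1 : Q.1 (aeval x n) = 1 := by
      apply le_antisymm (Groth.Agent.Helper16.FFW.val_aeval_le_one Q hQx n)
      by_contra hlt
      push Not at hlt
      have hlt' : Q.1 (aeval x (u * n + v * d)) < 1 := by
        rw [map_add, map_mul, map_mul]
        refine lt_of_le_of_lt (Q.1.map_add _ _) (max_lt ?_ ?_)
        · rw [map_mul]
          calc Q.1 (aeval x u) * Q.1 (aeval x n) ≤ 1 * Q.1 (aeval x n) :=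
                mul_le_mul' (Groth.Agent.Helper16.FFW.val_aeval_le_one Q hQx u) le_rfl
            _ < 1 := by rw [one_mul]; exact hlt
        · rw [map_mul]
          calc Q.1 (aeval x v) * Q.1 (aeval x d) ≤ 1 * Q.1 (aeval x d) :=
                mul_le_mul' (Groth.Agent.Helper16.FFW.val_aeval_le_one Q hQx v) le_rfl
            _ < 1 := by rw [one_mul]; exact hdlt
      rw [huv, map_one, map_one] at hlt'
      exact lt_irrefl _ hlt'
    rw [hn1] at h1
    have hdpos : 0 < Q.1 (aeval x d) := by rw [Valuation.pos_iff]; exact hdx0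
    rw [div_le_iff₀ hdpos, one_mul] at h1
    exact absurd hdlt (not_lt.2 h1)
  have hd1 : d = 1 := (RatFunc.monic_denom r).eq_one_of_isUnit hdu
  have hrn : r = algebraMap k[X] (RatFunc k) n := by
    conv_lhs => rw [← RatFunc.num_div_denom r]
    rw [← hd, hd1, map_one, div_one]
  refine ⟨n, hrn, ?_⟩
  by_cases hn0 : n = 0
  · rw [hn0, natDegree_zero]; exact Nat.zero_le _
  obtain ⟨Q, hQ⟩ := exists_pole hK hxtr
  have h1 := h Q
  rw [hr, hd1, map_one, div_one, val_aeval_eq_of_pole x Q hQ hn0] at h1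
  have hb1 : 1 < bd x Q := lt_of_lt_of_le hQ (val_le_bd x Q)
  exact (pow_le_pow_iff_right₀ hb1).1 h1

variable {y : K} {f : k[X]}

theorem finrank_degreeLT (m : ℕ) : Module.finrank k (degreeLT k m) = m := by
  rw [(degreeLTEquiv k m).finrank_eq, Module.finrank_fin_fun]

instance finite_degreeLT (m : ℕ) : Module.Finite k (degreeLT k m) :=
  Module.Finite.equiv (degreeLTEquiv k m).symm

theorem natDegree_le_of_mem_degreeLT {m : ℕ} {a : k[X]} (ha : a ∈ degreeLT k (m + 1)) :
    a.natDegree ≤ m := by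
  rw [mem_degreeLT] at ha
  by_cases h0 : a = 0
  · rw [h0, natDegree_zero]; exact Nat.zero_le _
  rw [degree_eq_natDegree h0] at ha
  have : a.natDegree < m + 1 := by exact_mod_cast ha
  omega

theorem deg_poleDiv_xK (hK : IsFunctionField k K) (hdeg : Module.finrank (RatFunc k) K = 2) :
    (poleDiv (xK k K) : Divisor k K).deg = 2 := by
  haveI : FiniteDimensional (RatFunc k) K := Module.finite_of_finrank_pos (by omega)
  rw [deg_poleDiv hK transcendental_xK, finrank_adjoin_xK, hdeg]
  rfl

theorem val_y_sq_le (heq : y ^ 2 = algebraMap (RatFunc k) K (algebraMap k[X] (RatFunc k) f))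
    (Q : Place k K) : Q.1 y ^ 2 ≤ bd (xK k K) Q ^ f.natDegree := by
  rw [← map_pow, heq, map_poly]
  exact val_aeval_le_bd _ Q f

theorem genus_le (hK : IsFunctionField k K) (hdeg : Module.finrank (RatFunc k) K = 2)
    (hf : Squarefree f) (hd : 1 ≤ f.natDegree)
    (heq : y ^ 2 = algebraMap (RatFunc k) K (algebraMap k[X] (RatFunc k) f)) :
    genus k K ≤ (f.natDegree - 1) / 2 := by
  classical
  set x := xK k K with hxdef
  set g₀ := (f.natDegree - 1) / 2 with hg₀
  set g := genus k K with hg
  have hx0 : x ≠ 0 := xK_ne_zero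
  set n := g + g₀ + 1 with hn
  set D : Divisor k K := n • (poleDiv x : Divisor k K) with hD
  have hDdeg : D.deg = 2 * n := by
    rw [hD, Divisor.deg_nsmul, deg_poleDiv_xK hK hdeg]; ring
  have hell := ell_eq_of_large hK (D := D) (by rw [hDdeg]; push_cast; omega)
  haveI := finiteDimensional_L hK D
  let A : k[X] →ₗ[k] K := (Polynomial.aeval x).toLinearMap
  let Ψ : (degreeLT k (n + 1)) × (degreeLT k (n - g₀)) →ₗ[k] K :=
    (A ∘ₗ (degreeLT k (n + 1)).subtype) ∘ₗ LinearMap.fst k _ _ +
      (LinearMap.mulRight k y ∘ₗ A ∘ₗ (degreeLT k (n - g₀)).subtype) ∘ₗ LinearMap.snd k _ _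
  have hΨ : ∀ p, Ψ p = aeval x (p.1 : k[X]) + aeval x (p.2 : k[X]) * y := fun p => rfl
  have hmem : ∀ p, Ψ p ∈ L D := by
    intro p
    rw [hΨ, hD, mem_LN_iff hK hx0]
    intro Q
    have hb1 : 1 ≤ bd x Q := one_le_bd x Q
    refine (Q.1.map_add _ _).trans (max_le ?_ ?_)
    · exact (val_aeval_le_bd x Q _).trans
        (pow_le_pow_right₀ hb1 (natDegree_le_of_mem_degreeLT p.1.2))
    · have hb : (p.2 : k[X]).natDegree ≤ n - g₀ - 1 := by
        have h2 : (p.2 : k[X]) ∈ degreeLT k ((n - g₀ - 1) + 1) := by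
          have : n - g₀ - 1 + 1 = n - g₀ := by omega
          rw [this]; exact p.2.2
        exact natDegree_le_of_mem_degreeLT h2
      have hsq : Q.1 (aeval x (p.2 : k[X]) * y) ^ 2 ≤ (bd x Q ^ n) ^ 2 := by
        rw [map_mul, mul_pow]
        calc Q.1 (aeval x (p.2 : k[X])) ^ 2 * Q.1 y ^ 2
            ≤ (bd x Q ^ (p.2 : k[X]).natDegree) ^ 2 * bd x Q ^ f.natDegree :=
              mul_le_mul' (pow_le_pow_left₀ zero_le (val_aeval_le_bd x Q _) 2)
                (val_y_sq_le heq Q)
          _ = bd x Q ^ (2 * (p.2 : k[X]).natDegree + f.natDegree) := by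
              rw [← pow_mul, ← pow_add, mul_comm]
          _ ≤ bd x Q ^ (2 * n) := pow_le_pow_right₀ hb1 (by omega)
          _ = (bd x Q ^ n) ^ 2 := by rw [← pow_mul, mul_comm]
      exact (pow_le_pow_iff_left₀ zero_le zero_le (by norm_num)).1 hsq
  let Φ : (degreeLT k (n + 1)) × (degreeLT k (n - g₀)) →ₗ[k] L D := Ψ.codRestrict (L D) hmem
  have hinj : Function.Injective Φ := by
    rw [← LinearMap.ker_eq_bot, LinearMap.ker_eq_bot']
    intro p hp
    have h0 : Ψ p = 0 := congrArg Subtype.val hp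
    rw [hΨ, ← map_poly, ← map_poly] at h0
    obtain ⟨ha, hb⟩ := decomp_unique hf hd heq _ _ h0
    have ha' : (p.1 : k[X]) = 0 := RatFunc.algebraMap_injective k (by rw [ha, map_zero])
    have hb' : (p.2 : k[X]) = 0 := RatFunc.algebraMap_injective k (by rw [hb, map_zero])
    exact Prod.ext (Subtype.ext ha') (Subtype.ext hb')
  have hle := LinearMap.finrank_le_finrank_of_injective hinj
  rw [Module.finrank_prod, finrank_degreeLT, finrank_degreeLT] at hle
  have hell' : (ell D : ℤ) = 2 * n + 1 - g := by rw [hell, hDdeg]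
  have : ((n + 1 + (n - g₀) : ℕ) : ℤ) ≤ ell D := by exact_mod_cast hle
  omega

theorem le_genus (hK : IsFunctionField k K) (h2 : ringChar k ≠ 2)
    (hdeg : Module.finrank (RatFunc k) K = 2)
    (hf : Squarefree f) (hd : 1 ≤ f.natDegree)
    (heq : y ^ 2 = algebraMap (RatFunc k) K (algebraMap k[X] (RatFunc k) f)) :
    (f.natDegree - 1) / 2 ≤ genus k K := by
  classical
  set x := xK k K with hxdef
  set g₀ := (f.natDegree - 1) / 2 with hg₀
  set g := genus k K with hg
  have hx0 : x ≠ 0 := xK_ne_zero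
  by_contra hlt
  push Not at hlt
  set D : Divisor k K := g₀ • (poleDiv x : Divisor k K) with hD
  have hDdeg : D.deg = 2 * g₀ := by
    rw [hD, Divisor.deg_nsmul, deg_poleDiv_xK hK hdeg]; ring
  have hell := ell_eq_of_large hK (D := D) (by rw [hDdeg]; omega)
  haveI := finiteDimensional_L hK D
  have h2k : (2 : k) ≠ 0 := Ring.two_ne_zero h2
  let A' : degreeLT k (g₀ + 1) →ₗ[k] K :=
    (Polynomial.aeval x).toLinearMap ∘ₗ (degreeLT k (g₀ + 1)).subtype
  have hsub : L D ≤ LinearMap.range A' := by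
    intro z hz
    obtain ⟨a, b, rfl⟩ := exists_decomp hdeg hf hd heq z
    obtain ⟨σ, hσ⟩ := exists_sigma hdeg hf hd heq
    set ia := algebraMap (RatFunc k) K a with hia
    set ib := algebraMap (RatFunc k) K b with hib
    have hσz : σ (ia + ib * y) = ia - ib * y := by
      rw [map_add, map_mul, hσ, hia, hib, σ.commutes, σ.commutes]; ring
    have hσx : σ x = x := σ.commutes _
    have hσmem : σ (ia + ib * y) ∈ L D := by
      rw [hD, mem_LN_iff hK hx0] at hz ⊢
      intro Q
      have := hz (Place.comapAutK σ Q)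
      rw [Place.comapAutK_apply] at this
      have hbd : bd x (Place.comapAutK σ Q) = bd x Q := by
        unfold bd
        rw [Place.comapAutK_apply, hσx]
      rw [hbd] at this
      exact this
    have h2K : algebraMap k K 2 = 2 := map_ofNat (algebraMap k K) 2
    have h2K0 : (2 : K) ≠ 0 := by rw [← h2K]; simpa using h2k
    have hia_mem : ia ∈ L D := by
      have : ia = (2⁻¹ : k) • ((ia + ib * y) + σ (ia + ib * y)) := by
        rw [hσz, Algebra.smul_def, map_inv₀, h2K]
        field_simp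
        ring
      rw [this]
      exact (L D).smul_mem _ ((L D).add_mem hz hσmem)
    have hib_mem : ib * y ∈ L D := by
      have : ib * y = (2⁻¹ : k) • ((ia + ib * y) - σ (ia + ib * y)) := by
        rw [hσz, Algebra.smul_def, map_inv₀, h2K]
        field_simp
        ring
      rw [this]
      exact (L D).smul_mem _ ((L D).sub_mem hz hσmem)
    -- `b = 0`
    have hsq : algebraMap (RatFunc k) K (b ^ 2 * algebraMap k[X] (RatFunc k) f) ∈
        L ((2 * g₀) • (poleDiv x : Divisor k K)) := by
      rw [map_mul, map_pow, ← heq, ← mul_pow, mem_LN_iff hK hx0]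
      intro Q
      rw [hD, mem_LN_iff hK hx0] at hib_mem
      rw [map_pow, mul_comm 2 g₀, pow_mul]
      exact pow_le_pow_left₀ zero_le (hib_mem Q) 2
    obtain ⟨q, hq, hqdeg⟩ := poly_of_mem_LN hK _ _ hsq
    have hb0 : b = 0 := eq_zero_of_sq_mul_eq hf b (by omega) hq
    obtain ⟨qa, hqa, hqadeg⟩ := poly_of_mem_LN hK a g₀ hia_mem
    refine ⟨⟨qa, ?_⟩, ?_⟩
    · rw [mem_degreeLT]
      exact lt_of_le_of_lt degree_le_natDegree (by exact_mod_cast Nat.lt_succ_of_le hqadeg)
    · show aeval x qa = ia + ib * y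
      rw [hib, hb0, map_zero, zero_mul, add_zero, hia, hqa, map_poly]
  have h1 : Module.finrank k (L D) ≤ Module.finrank k (LinearMap.range A') :=
    Submodule.finrank_mono hsub
  have h3 : Module.finrank k (LinearMap.range A') ≤ g₀ + 1 := by
    have := LinearMap.finrank_range_le A'
    rwa [finrank_degreeLT] at this
  have hell' : (ell D : ℤ) = 2 * g₀ + 1 - g := by rw [hell, hDdeg]
  have h4 : (ell D : ℤ) ≤ g₀ + 1 := by
    have : ell D ≤ g₀ + 1 := h1.trans h3
    exact_mod_cast this
  omega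

theorem genus_hyper (hK : IsFunctionField k K) (h2 : ringChar k ≠ 2)
    (hdeg : Module.finrank (RatFunc k) K = 2)
    (hf : Squarefree f) (hd : 1 ≤ f.natDegree)
    (heq : y ^ 2 = algebraMap (RatFunc k) K (algebraMap k[X] (RatFunc k) f)) :
    genus k K = (f.natDegree - 1) / 2 :=
  le_antisymm (genus_le hK hdeg hf hd heq) (le_genus hK h2 hdeg hf hd heq)

end Groth.Agent.Helper27.Hyp
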