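import Groth.Agent.Lib.Helper27.HypC

/-! Hyperelliptic function fields: genus, in the form with generators. -/

set_option autoImplicit false

namespace Groth.Agent.Helper27.Hyp

open FunFld Polynomial Groth.Agent.Helper16.FF IntermediateField
open scoped WithZero

theorem main11014 {k K : Type*} [Field k] [Field K] [Algebra k K]
    (hK : IsFunctionField k K) (h2 : ringChar k ≠ 2) (x y : K) (hx : Transcendental k x)
    (hxy : IntermediateField.adjoin k ({x, y} : Set K) = ⊤)
    (f : Polynomial k) (hf : Squarefree f) (hd : 1 ≤ f.natDegree)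
    (heq : y ^ 2 = Polynomial.aeval x f) :
    genus k K = (f.natDegree - 1) / 2 := by
  let e := RatFunc.algEquivOfTranscendental x hx
  let φ : RatFunc k →ₐ[k] K := (IntermediateField.val (adjoin k ({x} : Set K))).comp e.toAlgHom
  letI : Algebra (RatFunc k) K := φ.toRingHom.toAlgebra
  haveI : IsScalarTower k (RatFunc k) K :=
    IsScalarTower.of_algebraMap_eq (fun c => (φ.commutes c).symm)
  have hφX : algebraMap (RatFunc k) K RatFunc.X = x := by
    show ((e RatFunc.X : adjoin k ({x} : Set K)) : K) = x
    rw [RatFunc.algEquivOfTranscendental_X]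
  have hxK : xK k K = x := hφX
  have heq' : y ^ 2 = algebraMap (RatFunc k) K (algebraMap k[X] (RatFunc k) f) := by
    rw [map_poly, hxK]; exact heq
  have hmonic : (X ^ 2 - C (algebraMap k[X] (RatFunc k) f) : (RatFunc k)[X]).Monic :=
    monic_X_pow_sub_C _ (by norm_num)
  have hroot : aeval y (X ^ 2 - C (algebraMap k[X] (RatFunc k) f) : (RatFunc k)[X]) = 0 := by
    simp [heq']
  have hint : IsIntegral (RatFunc k) y := ⟨_, hmonic, hroot⟩
  have htop : IntermediateField.adjoin (RatFunc k) ({y} : Set K) = ⊤ := by
    rw [eq_top_iff]
    intro z _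
    have hz : z ∈ IntermediateField.adjoin k ({x, y} : Set K) := by rw [hxy]; exact mem_top
    have hle : IntermediateField.adjoin k ({x, y} : Set K) ≤
        (IntermediateField.adjoin (RatFunc k) ({y} : Set K)).restrictScalars k := by
      rw [IntermediateField.adjoin_le_iff]
      rintro w (rfl | rfl)
      · show w ∈ IntermediateField.adjoin (RatFunc k) ({y} : Set K)
        rw [← hφX]
        exact IntermediateField.algebraMap_mem _ _
      · exact IntermediateField.mem_adjoin_simple_self (RatFunc k) w
    exact hle hz
  have hdeg : Module.finrank (RatFunc k) K = 2 := by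
    rw [← IntermediateField.finrank_top', ← htop, IntermediateField.adjoin.finrank hint,
      minpoly_eq hf hd heq', natDegree_X_pow_sub_C]
  exact genus_hyper hK h2 hdeg hf hd heq'

end Groth.Agent.Helper27.Hyp
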