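import Groth.Agent.Lib.Helper27.HypE

/-! Hyperelliptic function fields: the local order of `dx / y`. -/

set_option autoImplicit false

namespace Groth.Agent.Helper27.Hyp

open FunFld Polynomial Groth.Agent.Helper16.FF Groth.Agent.Helper27.DExp
  Groth.Agent.Helper27.Tate
open scoped WithZero LaurentSeries

universe u v w

variable {k : Type u} {K : Type v} [Field k] [Field K] [Algebra k K] [Algebra (RatFunc k) K]
  [IsScalarTower k (RatFunc k) K] {F : Type w} [Field F] [Algebra k F]

variable {y : K} {f : k[X]}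

theorem y_ne_zero (hf : Squarefree f)
    (heq : y ^ 2 = algebraMap (RatFunc k) K (algebraMap k[X] (RatFunc k) f)) : y ≠ 0 := by
  rintro rfl
  rw [zero_pow (by norm_num)] at heq
  have h0 : algebraMap k[X] (RatFunc k) f ≠ 0 := by simpa using hf.ne_zero
  exact (_root_.map_ne_zero (algebraMap (RatFunc k) K)).2 h0 heq.symm

/-- `2 y dy = f'(x) dx` through an expansion -/
theorem deriv_relation (φ : K →ₐ[k] F⸨X⸩)
    (heq : y ^ 2 = algebraMap (RatFunc k) K (algebraMap k[X] (RatFunc k) f)) :
    φ (2 * y) * LocRes.D F (φ y) =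
      φ (aeval (xK k K) (derivative f)) * LocRes.D F (φ (xK k K)) := by
  letI := φ.toRingHom.toAlgebra
  haveI : IsScalarTower k K F⸨X⸩ := LocRes.isScalarTower_exp φ
  have e1 : LocRes.dExp φ (y ^ 2) = LocRes.dExp φ (aeval (xK k K) f) := by
    rw [heq, map_poly]
  rw [Derivation.leibniz_pow, Derivation.map_aeval] at e1
  have e2 : (2 : ℕ) • (φ (y ^ (2 - 1)) * LocRes.D F (φ y)) =
      φ (aeval (xK k K) (derivative f)) * LocRes.D F (φ (xK k K)) := e1
  rw [← e2, map_mul, map_ofNat]
  norm_num
  ring

theorem val_two (h2 : ringChar k ≠ 2) (Q : Place k K) : Q.1 (2 : K) = 1 := by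
  have h2k : (2 : k) ≠ 0 := Ring.two_ne_zero h2
  have : (2 : K) = algebraMap k K 2 := (map_ofNat (algebraMap k K) 2).symm
  rw [this]
  exact Place.val_algebraMap Q h2k

/-- the order of `dx / y` at a place is at least `(g₀ - 1)` times the pole order of `x` -/
theorem local_bound (h1 : Module.finrank K (Ω[K⁄k]) = 1) (h2 : ringChar k ≠ 2)
    (hf : Squarefree f) (hd : 1 ≤ f.natDegree)
    (heq : y ^ 2 = algebraMap (RatFunc k) K (algebraMap k[X] (RatFunc k) f))
    (Q : Place k K) [FiniteDimensional k F] (φ : K →ₐ[k] F⸨X⸩)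
    (hφ : LocRes.IsExpansionAt Q.1 φ) :
    LocRes.vDiff φ y⁻¹ (xK k K) * bd (xK k K) Q ^ ((f.natDegree - 1) / 2) ≤ bd (xK k K) Q := by
  classical
  set x := xK k K with hxdef
  set g₀ := (f.natDegree - 1) / 2 with hg₀
  have hy0 : y ≠ 0 := y_ne_zero hf heq
  have hval := hφ.1
  have hvd : LocRes.vDiff φ y⁻¹ x = (Q.1 y)⁻¹ * Valued.v (LocRes.D F (φ x)) := by
    have := vDiff_mul Q φ hφ y⁻¹ 1 x
    rw [mul_one] at this
    rw [this, map_inv₀]
    unfold LocRes.vDiff
    rw [map_one, one_mul]
  have hypos : 0 < Q.1 y := by rw [Valuation.pos_iff]; exact hy0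
  have hysq : Q.1 y ^ 2 = Q.1 (aeval x f) := by rw [← map_pow, heq, map_poly]
  rw [hvd]
  by_cases hx : Q.1 x ≤ 1
  · -- finite place
    have hbd : bd x Q = 1 := max_eq_left hx
    rw [hbd, one_pow, mul_one]
    have hy1 : Q.1 y ≤ 1 := by
      have : Q.1 y ^ 2 ≤ 1 := by
        rw [hysq]; exact Groth.Agent.Helper16.FFW.val_aeval_le_one Q hx f
      exact (pow_le_one_iff_of_nonneg zero_le (by norm_num)).1 this
    have hDx1 : Valued.v (LocRes.D F (φ x)) ≤ 1 := val_D_le_one _ (by rw [hval]; exact hx)
    suffices hs : Valued.v (LocRes.D F (φ x)) ≤ Q.1 y by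
      rw [inv_mul_le_iff₀ hypos, mul_one]; exact hs
    rcases lt_or_eq_of_le hy1 with hlt | heq1
    · -- ramified zero of `y`
      have hrel := deriv_relation φ heq
      have hf1 : Q.1 (aeval x f) < 1 := by
        rw [← hysq]; exact pow_lt_one₀ zero_le hlt (by norm_num)
      haveI : Algebra.IsSeparable k F := Groth.Agent.Helper27.RH.isSeparable_of_expansion' h1 Q φ hφ
      have hroot : aeval ((φ x).coeff 0) f = 0 := by
        rw [← coeff_zero_aeval Q φ hval x hx f]
        exact (val_lt_one_iff_coeff_zero _ (by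
          rw [hval]; exact Groth.Agent.Helper16.FFW.val_aeval_le_one Q hx f)).1
          (by rw [hval]; exact hf1)
      have hder := aeval_derivative_ne_zero_of_squarefree hf _ hroot
      have hf'1 : Q.1 (aeval x (derivative f)) = 1 := by
        have hle : Q.1 (aeval x (derivative f)) ≤ 1 :=
          Groth.Agent.Helper16.FFW.val_aeval_le_one Q hx _
        refine le_antisymm hle (not_lt.1 fun hlt' => hder ?_)
        rw [← coeff_zero_aeval Q φ hval x hx (derivative f)]
        exact (val_lt_one_iff_coeff_zero _ (by rw [hval]; exact hle)).1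
          (by rw [hval]; exact hlt')
      have h3 : Q.1 (2 * y) * Valued.v (LocRes.D F (φ y)) =
          Q.1 (aeval x (derivative f)) * Valued.v (LocRes.D F (φ x)) := by
        have := congrArg Valued.v hrel
        rwa [Valuation.map_mul, Valuation.map_mul, hval, hval] at this
      rw [Valuation.map_mul, val_two h2, one_mul, hf'1, one_mul] at h3
      rw [← h3]
      have hDy1 : Valued.v (LocRes.D F (φ y)) ≤ 1 := val_D_le_one _ (by rw [hval]; exact hy1)
      calc Q.1 y * Valued.v (LocRes.D F (φ y)) ≤ Q.1 y * 1 := mul_le_mul' le_rfl hDy1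
        _ = Q.1 y := mul_one _
    · rw [heq1]; exact hDx1
  · -- pole of `x`
    push Not at hx
    have hx0 : x ≠ 0 := xK_ne_zero
    have hbd : bd x Q = Q.1 x := max_eq_right hx.le
    set m : ℤ := -Q.ord x with hm
    have hxm : Q.1 x = WithZero.exp m := Place.val_eq_exp_neg_ord Q hx0
    have hm1 : 1 ≤ m := by
      rw [hxm, ← WithZero.exp_zero, WithZero.exp_lt_exp] at hx
      omega
    set t : ℤ := -Q.ord y with ht
    have hyt : Q.1 y = WithZero.exp t := Place.val_eq_exp_neg_ord Q hy0
    have hf0 : f ≠ 0 := hf.ne_zero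
    have h2t : 2 * t = m * f.natDegree := by
      have := hysq
      rw [Groth.Agent.Helper16.FFW.val_aeval_of_one_lt Q hx _ f rfl hf0, hyt, hxm,
        ← WithZero.exp_nsmul, ← WithZero.exp_nsmul, WithZero.exp_inj] at this
      simp only [nsmul_eq_mul] at this
      push_cast at this
      linarith
    have hDx : Valued.v (LocRes.D F (φ x)) ≤ WithZero.exp (m + 1) := by
      have := val_D_le (φ x) (-m) (by rw [hval, hxm, neg_neg])
      rwa [show -(-m - 1) = m + 1 by ring] at this
    rw [hbd, hxm, hyt, ← WithZero.exp_neg, ← WithZero.exp_nsmul]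
    calc WithZero.exp (-t) * Valued.v (LocRes.D F (φ x)) * WithZero.exp (g₀ • m)
        ≤ WithZero.exp (-t) * WithZero.exp (m + 1) * WithZero.exp (g₀ • m) :=
          mul_le_mul' (mul_le_mul' le_rfl hDx) le_rfl
      _ = WithZero.exp (-t + (m + 1) + g₀ • m) := by
          rw [← WithZero.exp_add, ← WithZero.exp_add]
      _ ≤ WithZero.exp m := by
          rw [WithZero.exp_le_exp]
          simp only [nsmul_eq_mul]
          rcases Nat.even_or_odd' f.natDegree with ⟨j, hj | hj⟩
          · have hg : g₀ = j - 1 := by rw [hg₀, hj]; omega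
            have hj1 : 1 ≤ j := by omega
            rw [hj] at h2t
            push_cast at h2t
            rw [hg]
            push_cast [hj1]
            nlinarith
          · have hg : g₀ = j := by rw [hg₀, hj]; omega
            rw [hj] at h2t
            push_cast at h2t
            rw [hg]
            -- `2t = m (2j+1)`, so `m` is even
            have hmeven : 2 ≤ m := by
              have h5 : 2 * t = 2 * (m * j) + m := by linarith
              generalize m * (j : ℤ) = s at h5
              omega
            nlinarith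

end Groth.Agent.Helper27.Hyp
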