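import Mathlib
import Groth.Prelude.Def_W4c5stacksedinertiaGpd

namespace Groth.Agent.Helper27.Inertia

open W4c5stacksedinertia

universe u v

/-- The presentation of a finite group is isomorphic to the group. -/
noncomputable def finGrpOfEquiv (G : Type u) [Group G] [Finite G] : (FinGrp.of G).carrier ≃* G :=
  (Nat.equivFinOfCardPos (α := G) Nat.card_pos.ne').symm.mulEquiv

theorem idxOf_eq_of_mulEquiv {G : Type u} {H : Type v} [Group G] [Finite G] [Group H] [Finite H]
    (e : G ≃* H) : Idx.of G = Idx.of H := by
  apply Quotient.sound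
  exact ⟨((finGrpOfEquiv G).trans e).trans (finGrpOfEquiv H).symm⟩

theorem cl_eq_of_mulEquiv {G : Type u} {H : Type v} [Group G] [Finite G] [Group H] [Finite H]
    (e : G ≃* H) : cl G = cl H := by
  unfold cl
  rw [idxOf_eq_of_mulEquiv e]

/-- The representative of the class of `G` is isomorphic to `G`. -/
theorem nonempty_rep_equiv (G : Type u) [Group G] [Finite G] : Nonempty ((Idx.of G).rep ≃* G) := by
  obtain ⟨e⟩ : Nonempty ((Quotient.out (s := FinGrp.setoid) (Idx.of G)).carrier ≃* (FinGrp.of G).carrier) :=
    Quotient.mk_out (s := FinGrp.setoid) (FinGrp.of G)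
  exact ⟨e.trans (finGrpOfEquiv G)⟩

theorem idxOf_rep (i : Idx) : Idx.of i.rep = i := by
  have h : Quotient.mk FinGrp.setoid (Quotient.out (s := FinGrp.setoid) i) = i := Quotient.out_eq i
  conv_rhs => rw [← h]
  apply Quotient.sound
  exact ⟨finGrpOfEquiv _⟩

theorem cl_rep (i : Idx) : cl i.rep = Finsupp.single i 1 := by
  unfold cl
  rw [idxOf_rep]

theorem card_idxOf (G : Type u) [Group G] [Finite G] : (Idx.of G).card = Nat.card G := by
  obtain ⟨e⟩ := nonempty_rep_equiv G
  exact Nat.card_congr e.toEquiv

theorem card_center_eq_of_mulEquiv {G : Type u} {H : Type v} [Group G] [Group H] (e : G ≃* H) :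
    Nat.card (Subgroup.center G) = Nat.card (Subgroup.center H) := by
  apply Nat.card_congr
  refine e.toEquiv.subtypeEquiv (fun g => ?_)
  simp only [Subgroup.mem_center_iff]
  constructor
  · intro h x
    obtain ⟨y, rfl⟩ := e.surjective x
    simp only [MulEquiv.toEquiv_eq_coe, MulEquiv.coe_toEquiv, ← map_mul, h y]
  · intro h x
    apply e.injective
    simp only [MulEquiv.toEquiv_eq_coe, MulEquiv.coe_toEquiv] at h
    rw [map_mul, map_mul, h (e x)]

section action

variable {G : Type u} [Group G] {r : ℕ}

/-- conjugation of tuples -/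
def conjT (g : G) (s : CommTuple G r) : CommTuple G r :=
  ⟨fun i => g * s.1 i * g⁻¹, by
    refine ⟨fun i j h => s.2.1 ?_, fun i j => ?_⟩
    · simpa using h
    · have := s.2.2 i j
      unfold Commute SemiconjBy at this ⊢
      calc g * s.1 i * g⁻¹ * (g * s.1 j * g⁻¹) = g * (s.1 i * s.1 j) * g⁻¹ := by group
        _ = g * (s.1 j * s.1 i) * g⁻¹ := by rw [this]
        _ = _ := by group⟩

instance : MulAction G (CommTuple G r) where
  smul := conjT
  one_smul s := by
    apply Subtype.ext
    funext i
    show 1 * s.1 i * 1⁻¹ = s.1 i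
    group
  mul_smul g h s := by
    apply Subtype.ext
    funext i
    show (g * h) * s.1 i * (g * h)⁻¹ = g * (h * s.1 i * h⁻¹) * g⁻¹
    group

theorem smul_val (g : G) (s : CommTuple G r) (i : Fin r) : (g • s).1 i = g * s.1 i * g⁻¹ := rfl

theorem setoid_iff (s t : CommTuple G r) :
    (CommTuple.setoid G r).r s t ↔ t ∈ MulAction.orbit G s := by
  constructor
  · rintro ⟨g, hg⟩
    exact ⟨g, Subtype.ext (funext hg)⟩
  · rintro ⟨g, rfl⟩
    exact ⟨g, fun i => rfl⟩

theorem stabilizer_eq (s : CommTuple G r) :
    MulAction.stabilizer G s = Subgroup.centralizer (Set.range s.1) := by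
  ext g
  rw [MulAction.mem_stabilizer_iff, Subgroup.mem_centralizer_iff]
  constructor
  · intro h x hx
    obtain ⟨i, rfl⟩ := hx
    have := congrArg (fun t : CommTuple G r => t.1 i) h
    simp only [smul_val] at this
    calc s.1 i * g = (g * s.1 i * g⁻¹) * g := by rw [this]
      _ = g * s.1 i := by group
  · intro h
    apply Subtype.ext
    funext i
    rw [smul_val, ← h (s.1 i) ⟨i, rfl⟩]
    group

/-- centralizer of a conjugate tuple is the conjugate -/
noncomputable def centralizerSmulEquiv (g : G) (s : CommTuple G r) :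
    Subgroup.centralizer (Set.range s.1) ≃* Subgroup.centralizer (Set.range (g • s).1) := by
  rw [← stabilizer_eq, ← stabilizer_eq, MulAction.stabilizer_smul_eq_stabilizer_map_conj]
  exact (Subgroup.equivMapOfInjective _ _ (MulAut.conj g).injective)

end action

theorem finsum_quotient_out {X : Type*} [Finite X] (S : Setoid X) {M : Type*} [AddCommGroup M]
    [Module ℚ M] (F : X → M) (hF : ∀ s t, S.r s t → F s = F t) :
    ∑ᶠ O : Quotient S, F (Quotient.out O)
      = ∑ᶠ s : X, ((Nat.card {t // S.r s t} : ℚ)⁻¹) • F s := by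
  classical
  haveI := Fintype.ofFinite X
  haveI : Fintype (Quotient S) := Fintype.ofFinite _
  rw [finsum_eq_sum_of_fintype, finsum_eq_sum_of_fintype]
  rw [← Finset.sum_fiberwise Finset.univ (fun s => Quotient.mk S s)
    (fun s => ((Nat.card {t // S.r s t} : ℚ)⁻¹) • F s)]
  apply Finset.sum_congr rfl
  intro O _
  have hmem : Quotient.out O ∈ Finset.univ.filter (fun s => Quotient.mk S s = O) := by
    simp
  have hcard : ((Finset.univ.filter (fun s => Quotient.mk S s = O)).card : ℚ) ≠ 0 := by
    exact_mod_cast (Finset.card_pos.mpr ⟨_, hmem⟩).ne'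
  have hterm : ∀ s ∈ Finset.univ.filter (fun s => Quotient.mk S s = O),
      ((Nat.card {t // S.r s t} : ℚ)⁻¹) • F s
        = (((Finset.univ.filter (fun s => Quotient.mk S s = O)).card : ℚ)⁻¹) • F (Quotient.out O) := by
    intro s hs
    simp only [Finset.mem_filter, Finset.mem_univ, true_and] at hs
    have h1 : F s = F (Quotient.out O) := by
      apply hF
      have : Quotient.mk S s = Quotient.mk S (Quotient.out O) := by rw [hs, Quotient.out_eq]
      exact Quotient.exact this
    have h2 : Nat.card {t // S.r s t} = (Finset.univ.filter (fun s => Quotient.mk S s = O)).card := by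
      rw [Nat.card_eq_fintype_card, Fintype.card_subtype]
      congr 1
      ext t
      simp only [Finset.mem_filter, Finset.mem_univ, true_and]
      rw [← hs]
      constructor
      · intro h; exact (Quotient.sound h).symm
      · intro h; exact Quotient.exact h.symm
    rw [h1, h2]
  rw [Finset.sum_congr rfl hterm, Finset.sum_const, ← Nat.cast_smul_eq_nsmul ℚ, smul_smul,
    mul_inv_cancel₀ hcard, one_smul]


section weighted

variable (G : Type u) [Group G] [Finite G] (r : ℕ)

instance instFiniteCommTuple : Finite (CommTuple G r) :=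
  inferInstanceAs (Finite {s : Fin r → G // Function.Injective s ∧ ∀ i j, Commute (s i) (s j)})

/-- weight term -/
noncomputable def wt (S : Set G) : K :=
  ((Nat.card (Subgroup.centralizer S) : ℚ) / Nat.card G) • cl (Subgroup.centralizer S)

omit [Finite G] in
theorem card_class_mul (s : CommTuple G r) :
    Nat.card {t // (CommTuple.setoid G r).r s t} * Nat.card (Subgroup.centralizer (Set.range s.1))
      = Nat.card G := by
  have e1 : {t // (CommTuple.setoid G r).r s t} ≃ MulAction.orbit G s :=
    Equiv.subtypeEquivRight (setoid_iff s)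
  rw [Nat.card_congr e1, ← stabilizer_eq, ← Nat.card_prod]
  exact Nat.card_congr (MulAction.orbitProdStabilizerEquivGroup G s)

theorem inertiaROf_eq : inertiaROf r G = ∑ᶠ s : CommTuple G r, wt G (Set.range s.1) := by
  have hF : ∀ s t : CommTuple G r, (CommTuple.setoid G r).r s t →
      cl (Subgroup.centralizer (Set.range s.1)) = cl (Subgroup.centralizer (Set.range t.1)) := by
    intro s t hst
    obtain ⟨g, rfl⟩ := (setoid_iff s t).mp hst
    exact cl_eq_of_mulEquiv (centralizerSmulEquiv g s)
  have := finsum_quotient_out (CommTuple.setoid G r)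
    (fun s : CommTuple G r => cl (Subgroup.centralizer (Set.range s.1))) hF
  unfold inertiaROf CommTuple.Orbit
  rw [this]
  congr 1
  funext s
  unfold wt
  congr 1
  have h := card_class_mul G r s
  have hc : (Nat.card (Subgroup.centralizer (Set.range s.1)) : ℚ) ≠ 0 := by
    exact_mod_cast Nat.card_pos.ne'
  have hg : (Nat.card G : ℚ) ≠ 0 := by exact_mod_cast Nat.card_pos.ne'
  have h' : (Nat.card {t // (CommTuple.setoid G r).r s t} : ℚ)
      * Nat.card (Subgroup.centralizer (Set.range s.1)) = Nat.card G := by exact_mod_cast h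
  rw [← h']
  have ho : (Nat.card {t // (CommTuple.setoid G r).r s t} : ℚ) ≠ 0 := by
    intro h0; rw [h0, zero_mul] at h'; exact hg h'.symm
  field_simp

end weighted

/-- centralizer of an image under an isomorphism -/
noncomputable def centralizerImageEquiv {G : Type u} {H : Type v} [Group G] [Group H] (e : G ≃* H)
    (S : Set G) : Subgroup.centralizer S ≃* Subgroup.centralizer (e '' S) := by
  have h : (Subgroup.centralizer S).map e.toMonoidHom = Subgroup.centralizer (e '' S) := by
    ext x
    rw [Subgroup.mem_map, Subgroup.mem_centralizer_iff]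
    constructor
    · rintro ⟨g, hg, rfl⟩ y ⟨s, hs, rfl⟩
      simp only [MulEquiv.coe_toMonoidHom, ← map_mul]
      rw [Subgroup.mem_centralizer_iff.mp hg s hs]
    · intro hx
      refine ⟨e.symm x, ?_, by simp⟩
      rw [Subgroup.mem_centralizer_iff]
      intro s hs
      apply e.injective
      rw [map_mul, map_mul, MulEquiv.apply_symm_apply]
      exact hx (e s) ⟨s, hs, rfl⟩
  exact (e.subgroupMap (Subgroup.centralizer S)).trans (MulEquiv.subgroupCongr h)

/-- transport of commuting tuples along an isomorphism -/
def commTupleCongr {G : Type u} {H : Type v} [Group G] [Group H] (e : G ≃* H) (r : ℕ) :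
    CommTuple G r ≃ CommTuple H r where
  toFun s := ⟨fun i => e (s.1 i), fun i j h => s.2.1 (e.injective h), fun i j => (s.2.2 i j).map e⟩
  invFun s := ⟨fun i => e.symm (s.1 i), fun i j h => s.2.1 (e.symm.injective h),
    fun i j => (s.2.2 i j).map e.symm⟩
  left_inv s := by apply Subtype.ext; funext i; simp
  right_inv s := by apply Subtype.ext; funext i; simp


section Wsec

variable {G : Type u} {H : Type v} [Group G] [Finite G] [Group H] [Finite H]

/-- the weighted sum over all commuting tuples -/
noncomputable def W (r : ℕ) (G : Type u) [Group G] [Finite G] : K :=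
  ∑ᶠ s : CommTuple G r, wt G (Set.range s.1)

theorem inertiaROf_eq_W (r : ℕ) (G : Type u) [Group G] [Finite G] : inertiaROf r G = W r G :=
  inertiaROf_eq G r

theorem wt_congr (e : G ≃* H) (S : Set G) : wt H (e '' S) = wt G S := by
  unfold wt
  rw [← cl_eq_of_mulEquiv (centralizerImageEquiv e S),
    ← Nat.card_congr (centralizerImageEquiv e S).toEquiv, ← Nat.card_congr e.toEquiv]

theorem W_congr (r : ℕ) (e : G ≃* H) : W r G = W r H := by
  unfold W
  rw [← finsum_comp_equiv (commTupleCongr e r)]
  congr 1
  funext s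
  have : Set.range (commTupleCongr e r s).1 = e '' Set.range s.1 := by
    ext x
    constructor
    · rintro ⟨i, rfl⟩
      exact ⟨s.1 i, ⟨i, rfl⟩, rfl⟩
    · rintro ⟨_, ⟨i, rfl⟩, rfl⟩
      exact ⟨i, rfl⟩
  rw [this, wt_congr]

theorem inertiaR_cl (r : ℕ) (H : Type u) [Group H] [Finite H] : inertiaR r (cl H) = W r H := by
  unfold inertiaR cl
  rw [Finsupp.linearCombination_single, one_smul, inertiaROf_eq_W]
  obtain ⟨e⟩ := nonempty_rep_equiv H
  exact W_congr r e

theorem inertiaR_single (r : ℕ) (i : Idx) (c : ℚ) :
    inertiaR r (Finsupp.single i c) = c • W r i.rep := by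
  unfold inertiaR
  rw [Finsupp.linearCombination_single, inertiaROf_eq_W]

end Wsec

end Groth.Agent.Helper27.Inertia
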