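import Mathlib
import Groth.Prelude.Def_W4c5stacksedinertiaGpd
import Groth.Agent.Lib.Helper27.InertiaBase

/-! inertia operator: one step -/

namespace Groth.Agent.Helper27.Inertia

open W4c5stacksedinertia

universe u v

section step

variable {G : Type u} [Group G] [Finite G]

/-- 1-tuples are elements -/
def commTupleOneEquiv (H : Type u) [Group H] : CommTuple H 1 ≃ H where
  toFun t := t.1 0
  invFun h := ⟨fun _ => h, fun i j _ => Subsingleton.elim i j, fun _ _ => Commute.refl h⟩
  left_inv t := by
    apply Subtype.ext
    funext i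
    rw [Subsingleton.elim i 0]
  right_inv h := rfl

theorem W_one (H : Type u) [Group H] [Finite H] : W 1 H = ∑ᶠ h : H, wt H {h} := by
  unfold W
  rw [← finsum_comp_equiv (commTupleOneEquiv H).symm]
  congr 1
  funext h
  congr 1
  show Set.range (fun _ : Fin 1 => h) = {h}
  exact Set.range_const

/-- centralizer inside a centralizer -/
def centCentEquiv (S : Set G) (h : Subgroup.centralizer S) :
    Subgroup.centralizer ({h} : Set (Subgroup.centralizer S))
      ≃* Subgroup.centralizer (insert (h : G) S) where
  toFun x := ⟨(x.1 : G), by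
    rw [Subgroup.mem_centralizer_iff]
    intro y hy
    rcases hy with rfl | hy
    · have := Subgroup.mem_centralizer_iff.mp x.2 h rfl
      exact congrArg Subtype.val this
    · exact Subgroup.mem_centralizer_iff.mp x.1.2 y hy⟩
  invFun g := ⟨⟨g.1, by
      rw [Subgroup.mem_centralizer_iff]
      intro y hy
      exact Subgroup.mem_centralizer_iff.mp g.2 y (Set.mem_insert_of_mem _ hy)⟩, by
    rw [Subgroup.mem_centralizer_iff]
    intro y hy
    rw [Set.mem_singleton_iff] at hy
    subst hy
    apply Subtype.ext
    exact Subgroup.mem_centralizer_iff.mp g.2 _ (Set.mem_insert _ _)⟩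
  left_inv x := rfl
  right_inv g := rfl
  map_mul' x y := rfl

open Classical in
theorem inertia_wt (S : Set G) :
    inertiaR 1 (wt G S)
      = ∑ᶠ h : G, if h ∈ Subgroup.centralizer S then wt G (insert h S) else 0 := by
  have hH : (Nat.card (Subgroup.centralizer S) : ℚ) ≠ 0 := by exact_mod_cast Nat.card_pos.ne'
  have e1 : inertiaR 1 (wt G S) = ∑ᶠ h : Subgroup.centralizer S, wt G (insert (h : G) S) := by
    unfold wt
    rw [map_smul, inertiaR_cl, W_one]
    rw [smul_finsum]
    congr 1
    funext h
    unfold wt
    rw [cl_eq_of_mulEquiv (centCentEquiv S h), Nat.card_congr (centCentEquiv S h).toEquiv, smul_smul]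
    congr 1
    field_simp
  rw [e1]
  rw [finsum_subtype_eq_finsum_cond (fun h => h ∈ Subgroup.centralizer S)
    (f := fun h => wt G (insert h S))]
  congr 1
  funext h
  rw [finsum_eq_if]

end step

end Groth.Agent.Helper27.Inertia
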