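import Mathlib
import Groth.Prelude.Def_W4c5stacksedinertiaGpd
import Groth.Agent.Lib.Helper27.InertiaBase
import Groth.Agent.Lib.Helper27.InertiaStep

/-! inertia operator: the recursion `inertia (W r G) = W (r+1) G + r • W r G` -/

namespace Groth.Agent.Helper27.Inertia

open W4c5stacksedinertia

universe u v

section rec

variable {G : Type u} [Group G]

theorem commute_of_mem_centralizer_range {r : ℕ} {s : Fin r → G} {h : G}
    (h1 : h ∈ Subgroup.centralizer (Set.range s)) (i : Fin r) : Commute h (s i) :=
  (Subgroup.mem_centralizer_iff.mp h1 (s i) ⟨i, rfl⟩).symm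

/-- prepend an element to a commuting tuple -/
def consT {r : ℕ} (h : G) (s : CommTuple G r) (h1 : h ∈ Subgroup.centralizer (Set.range s.1))
    (h2 : h ∉ Set.range s.1) : CommTuple G (r + 1) :=
  ⟨Fin.cons h s.1, Fin.cons_injective_iff.mpr ⟨h2, s.2.1⟩, by
    intro i j
    cases i using Fin.cases with
    | zero =>
      cases j using Fin.cases with
      | zero => exact Commute.refl _
      | succ j => simpa using commute_of_mem_centralizer_range h1 j
    | succ i =>
      cases j using Fin.cases with
      | zero => simpa using (commute_of_mem_centralizer_range h1 i).symm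
      | succ j => simpa using s.2.2 i j⟩

/-- drop the first element -/
def tailT {r : ℕ} (s : CommTuple G (r + 1)) : CommTuple G r :=
  ⟨Fin.tail s.1, fun i j h => Fin.succ_injective _ (s.2.1 h), fun i j => s.2.2 _ _⟩

theorem head_mem_centralizer {r : ℕ} (s : CommTuple G (r + 1)) :
    s.1 0 ∈ Subgroup.centralizer (Set.range (tailT s).1) := by
  rw [Subgroup.mem_centralizer_iff]
  rintro _ ⟨i, rfl⟩
  exact (s.2.2 i.succ 0).eq

theorem head_notMem_range {r : ℕ} (s : CommTuple G (r + 1)) :
    s.1 0 ∉ Set.range (tailT s).1 := by
  rintro ⟨i, hi⟩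
  have := s.2.1 hi
  exact Fin.succ_ne_zero i this

theorem consT_head_tail {r : ℕ} (s : CommTuple G (r + 1)) :
    consT (s.1 0) (tailT s) (head_mem_centralizer s) (head_notMem_range s) = s := by
  apply Subtype.ext
  exact Fin.cons_self_tail s.1

theorem tailT_consT {r : ℕ} (h : G) (s : CommTuple G r) (h1 h2) : tailT (consT h s h1 h2) = s := by
  apply Subtype.ext
  show Fin.tail (Fin.cons (α := fun _ => G) h s.1) = s.1
  exact Fin.tail_cons _ _

theorem range_consT {r : ℕ} (h : G) (s : CommTuple G r) (h1 h2) :
    Set.range (consT h s h1 h2).1 = insert h (Set.range s.1) :=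
  Fin.range_cons _ _

theorem inertia_W [Finite G] (r : ℕ) :
    inertiaR 1 (W r G) = W (r + 1) G + (r : ℚ) • W r G := by
  classical
  haveI := Fintype.ofFinite G
  haveI : Fintype (CommTuple G r) := Fintype.ofFinite _
  haveI : Fintype (CommTuple G (r + 1)) := Fintype.ofFinite _
  unfold W
  rw [map_finsum _ (Set.toFinite _)]
  simp only [inertia_wt, finsum_eq_sum_of_fintype]
  rw [Finset.smul_sum, ← Finset.sum_fiberwise Finset.univ (tailT (G := G) (r := r))
    (fun s' => wt G (Set.range s'.1)), ← Finset.sum_add_distrib]
  apply Finset.sum_congr rfl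
  intro s _
  rw [← Finset.sum_filter_add_sum_filter_not Finset.univ (fun h : G => h ∈ Set.range s.1), add_comm]
  congr 1
  · -- elements outside the range
    rw [← Finset.sum_filter]
    symm
    refine Finset.sum_bij' (fun s' _ => s'.1 0)
      (fun h hh => consT h s (by simpa using (Finset.mem_filter.mp hh).2)
        (by simpa using (Finset.mem_filter.mp (Finset.mem_filter.mp hh).1).2)) ?_ ?_ ?_ ?_ ?_
    · intro s' hs'
      simp only [Finset.mem_filter, Finset.mem_univ, true_and] at hs' ⊢
      subst hs'
      exact ⟨head_notMem_range s', head_mem_centralizer s'⟩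
    · intro h hh
      simp only [Finset.mem_filter, Finset.mem_univ, true_and]
      exact tailT_consT _ _ _ _
    · intro s' hs'
      simp only [Finset.mem_filter, Finset.mem_univ, true_and] at hs'
      subst hs'
      exact consT_head_tail s'
    · intro h hh
      rfl
    · intro s' hs'
      simp only [Finset.mem_filter, Finset.mem_univ, true_and] at hs'
      subst hs'
      conv_lhs => rw [← consT_head_tail s', range_consT]
  · -- elements in the range
    have hterm : ∀ h ∈ Finset.univ.filter (fun h : G => h ∈ Set.range s.1),
        (if h ∈ Subgroup.centralizer (Set.range s.1) then wt G (insert h (Set.range s.1)) else 0)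
          = wt G (Set.range s.1) := by
      intro h hh
      have hr : h ∈ Set.range s.1 := (Finset.mem_filter.mp hh).2
      have hc : h ∈ Subgroup.centralizer (Set.range s.1) := by
        obtain ⟨i, rfl⟩ := hr
        rw [Subgroup.mem_centralizer_iff]
        rintro _ ⟨j, rfl⟩
        exact (s.2.2 j i).eq
      rw [if_pos hc, Set.insert_eq_of_mem hr]
    rw [Finset.sum_congr rfl hterm, Finset.sum_const, ← Nat.cast_smul_eq_nsmul ℚ]
    congr 2
    have : Finset.univ.filter (fun h : G => h ∈ Set.range s.1) = Finset.univ.image s.1 := by
      ext h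
      simp
    rw [this, Finset.card_image_of_injective _ s.2.1, Finset.card_univ, Fintype.card_fin]

end rec

end Groth.Agent.Helper27.Inertia
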