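import Mathlib
import Groth.Prelude.Def_W4c5stacksedinertiaGpd
import Groth.Agent.Lib.Helper27.InertiaRec

namespace Groth.Agent.Helper27.Inertia

open W4c5stacksedinertia

universe u v

section ops

variable {G : Type u} [Group G] [Finite G]

theorem wt_empty : wt G (∅ : Set G) = cl G := by
  unfold wt
  have h : Subgroup.centralizer (∅ : Set G) = ⊤ := by
    rw [Subgroup.centralizer_eq_top_iff_subset]; exact Set.empty_subset _
  have e : (Subgroup.centralizer (∅ : Set G)) ≃* G :=
    (MulEquiv.subgroupCongr h).trans Subgroup.topEquiv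
  rw [cl_eq_of_mulEquiv e, Nat.card_congr e.toEquiv]
  have : (Nat.card G : ℚ) ≠ 0 := by exact_mod_cast Nat.card_pos.ne'
  rw [div_self this, one_smul]

theorem wt_of_subset_center {S : Set G} (hS : S ⊆ Subgroup.center G) : wt G S = cl G := by
  unfold wt
  have h : Subgroup.centralizer S = ⊤ := by
    rw [Subgroup.centralizer_eq_top_iff_subset]; exact hS
  have e : (Subgroup.centralizer S) ≃* G :=
    (MulEquiv.subgroupCongr h).trans Subgroup.topEquiv
  rw [cl_eq_of_mulEquiv e, Nat.card_congr e.toEquiv]
  have : (Nat.card G : ℚ) ≠ 0 := by exact_mod_cast Nat.card_pos.ne'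
  rw [div_self this, one_smul]

theorem W_zero : W 0 G = cl G := by
  unfold W
  haveI : Unique (CommTuple G 0) :=
    { default := ⟨Fin.elim0, fun i => i.elim0, fun i => i.elim0⟩
      uniq := fun s => by apply Subtype.ext; funext i; exact i.elim0 }
  rw [finsum_unique]
  have : Set.range (default : CommTuple G 0).1 = ∅ := by
    ext x; simp only [Set.mem_range, Set.mem_empty_iff_false, iff_false]
    rintro ⟨i, _⟩; exact i.elim0
  rw [this, wt_empty]

end ops

theorem inertiaR_zero (v : K) : inertiaR 0 v = v := by
  induction v using Finsupp.induction_linear with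
  | zero => simp
  | add f g hf hg => rw [map_add, hf, hg]
  | single i c =>
    rw [inertiaR_single, W_zero, cl_rep, Finsupp.smul_single, smul_eq_mul, mul_one]

theorem inertiaR_succ (r : ℕ) (v : K) :
    inertiaR (r + 1) v = inertiaR 1 (inertiaR r v) - (r : ℚ) • inertiaR r v := by
  induction v using Finsupp.induction_linear with
  | zero => simp
  | add f g hf hg => simp only [map_add, hf, hg, smul_add]; abel
  | single i c =>
    rw [inertiaR_single, inertiaR_single, map_smul, inertia_W, smul_add, smul_comm c (r : ℚ)]
    abel

end Groth.Agent.Helper27.Inertia
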