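import Mathlib
import Groth.Prelude.Def_W4c5stacksedinertiaGpd
import Groth.Agent.Lib.Helper27.InertiaOps

namespace Groth.Agent.Helper27.Inertia

open W4c5stacksedinertia

universe u v

theorem centerCard_idxOf (G : Type u) [Group G] [Finite G] :
    (Idx.of G).centerCard = Nat.card (Subgroup.center G) := by
  obtain ⟨e⟩ := nonempty_rep_equiv G
  exact card_center_eq_of_mulEquiv e

theorem cl_mem_Kle {G : Type u} [Group G] [Finite G] {n : ℕ} (h : Nat.card G ≤ n) : cl G ∈ Kle n := by
  unfold cl Kle
  rw [Finsupp.mem_supported]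
  intro i hi
  have := Finsupp.support_single_subset hi
  rw [Finset.mem_singleton] at this
  subst this
  simpa [card_idxOf] using h

theorem cl_mem_Kge {G : Type u} [Group G] [Finite G] {k : ℕ} (h : k ≤ Nat.card (Subgroup.center G)) :
    cl G ∈ Kge k := by
  unfold cl Kge
  rw [Finsupp.mem_supported]
  intro i hi
  have := Finsupp.support_single_subset hi
  rw [Finset.mem_singleton] at this
  subst this
  simpa [centerCard_idxOf] using h

theorem Kle_mono {m n : ℕ} (h : m ≤ n) : Kle m ≤ Kle n := by
  unfold Kle
  apply Finsupp.supported_mono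
  intro i hi
  exact le_trans hi h

theorem Kge_anti {m n : ℕ} (h : m ≤ n) : Kge n ≤ Kge m := by
  unfold Kge
  apply Finsupp.supported_mono
  intro i hi
  exact le_trans h hi

theorem single_mem_Kle {i : Idx} {c : ℚ} {n : ℕ} (h : i.card ≤ n) : Finsupp.single i c ∈ Kle n := by
  unfold Kle
  rw [Finsupp.mem_supported]
  intro j hj
  have := Finsupp.support_single_subset hj
  rw [Finset.mem_singleton] at this
  subst this
  exact h

theorem single_mem_Kge {i : Idx} {c : ℚ} {k : ℕ} (h : k ≤ i.centerCard) :
    Finsupp.single i c ∈ Kge k := by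
  unfold Kge
  rw [Finsupp.mem_supported]
  intro j hj
  have := Finsupp.support_single_subset hj
  rw [Finset.mem_singleton] at this
  subst this
  exact h

section T1

variable {G : Type u} [Group G] [Finite G]

theorem wt_mem_Kle (S : Set G) : wt G S ∈ Kle (Nat.card G) := by
  unfold wt
  apply Submodule.smul_mem
  apply cl_mem_Kle
  exact Subgroup.card_le_card_group _

theorem W_mem_Kle (r : ℕ) : W r G ∈ Kle (Nat.card G) := by
  classical
  haveI : Fintype (CommTuple G r) := Fintype.ofFinite _
  unfold W
  rw [finsum_eq_sum_of_fintype]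
  exact Submodule.sum_mem _ (fun s _ => wt_mem_Kle _)

end T1

theorem inertiaR_mem_Kle (r n : ℕ) (v : K) (hv : v ∈ Kle n) : inertiaR r v ∈ Kle n := by
  unfold Kle at hv
  rw [Finsupp.mem_supported] at hv
  rw [← Finsupp.sum_single v, Finsupp.sum, map_sum]
  apply Submodule.sum_mem
  intro i hi
  rw [inertiaR_single]
  apply Submodule.smul_mem
  exact Kle_mono (hv hi) (W_mem_Kle r)

end Groth.Agent.Helper27.Inertia
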