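import Mathlib
import Groth.Prelude.Def_W4c5stacksedinertiaGpd
import Groth.Agent.Lib.Helper27.InertiaFilt

namespace Groth.Agent.Helper27.Inertia

open W4c5stacksedinertia

universe u v

section T2

variable {G : Type u} [Group G] [Finite G]

theorem card_center_centralizer_singleton {h : G} (hh : h ∉ Subgroup.center G) :
    Nat.card (Subgroup.center G) + 1
      ≤ Nat.card (Subgroup.center (Subgroup.centralizer ({h} : Set G))) := by
  have hT : Nat.card (insert h (Subgroup.center G : Set G) : Set G)
      = Nat.card (Subgroup.center G) + 1 := by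
    rw [Nat.card_coe_set_eq, Set.ncard_insert_of_notMem hh (Set.toFinite _),
      ← Nat.card_coe_set_eq]
    rfl
  rw [← hT]
  have hmemC : ∀ x ∈ (insert h (Subgroup.center G : Set G) : Set G),
      x ∈ Subgroup.centralizer ({h} : Set G) := by
    intro x hx
    rw [Subgroup.mem_centralizer_iff]
    intro y hy
    rw [Set.mem_singleton_iff] at hy
    subst hy
    rcases hx with rfl | hx
    · rfl
    · exact (Subgroup.mem_center_iff.mp hx y)
  have hmemZ : ∀ (x : G) (hx : x ∈ (insert h (Subgroup.center G : Set G) : Set G)),
      (⟨x, hmemC x hx⟩ : Subgroup.centralizer ({h} : Set G))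
        ∈ Subgroup.center (Subgroup.centralizer ({h} : Set G)) := by
    intro x hx
    rw [Subgroup.mem_center_iff]
    intro g
    apply Subtype.ext
    show (g : G) * x = x * g
    rcases hx with rfl | hx
    · exact (Subgroup.mem_centralizer_iff.mp g.2 x rfl).symm
    · exact Subgroup.mem_center_iff.mp hx g
  apply Nat.card_le_card_of_injective
    (fun x : (insert h (Subgroup.center G : Set G) : Set G) =>
      (⟨⟨x.1, hmemC x.1 x.2⟩, hmemZ x.1 x.2⟩ :
        Subgroup.center (Subgroup.centralizer ({h} : Set G))))
  intro x y hxy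
  apply Subtype.ext
  have := congrArg (fun t : Subgroup.center (Subgroup.centralizer ({h} : Set G)) => ((t : Subgroup.centralizer ({h} : Set G)) : G)) hxy
  exact this

theorem W_one_sub_mem_Kge :
    W 1 G - (Nat.card (Subgroup.center G) : ℚ) • cl G ∈ Kge (Nat.card (Subgroup.center G) + 1) := by
  classical
  haveI := Fintype.ofFinite G
  rw [W_one, finsum_eq_sum_of_fintype,
    ← Finset.sum_filter_add_sum_filter_not Finset.univ (fun h : G => h ∈ Subgroup.center G)]
  have h1 : ∑ h ∈ Finset.univ.filter (fun h : G => h ∈ Subgroup.center G), wt G {h}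
      = (Nat.card (Subgroup.center G) : ℚ) • cl G := by
    have hterm : ∀ h ∈ Finset.univ.filter (fun h : G => h ∈ Subgroup.center G), wt G {h} = cl G := by
      intro h hh
      apply wt_of_subset_center
      rw [Set.singleton_subset_iff]
      exact (Finset.mem_filter.mp hh).2
    rw [Finset.sum_congr rfl hterm, Finset.sum_const, ← Nat.cast_smul_eq_nsmul ℚ]
    congr 2
    rw [Nat.card_eq_fintype_card, Fintype.card_subtype]
  rw [h1, add_sub_cancel_left]
  apply Submodule.sum_mem
  intro h hh
  have hh' : h ∉ Subgroup.center G := (Finset.mem_filter.mp hh).2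
  unfold wt
  apply Submodule.smul_mem
  exact cl_mem_Kge (card_center_centralizer_singleton hh')

end T2

theorem inertia_sub_mem_Kge (k : ℕ) (v : K) (hv : v ∈ Kge k) :
    inertia v - (k : ℚ) • v ∈ Kge (k + 1) := by
  unfold Kge at hv
  rw [Finsupp.mem_supported] at hv
  have hsum : inertia v - (k : ℚ) • v
      = ∑ i ∈ v.support, (inertia (Finsupp.single i (v i)) - (k : ℚ) • Finsupp.single i (v i)) := by
    conv_lhs => rw [← Finsupp.sum_single v, Finsupp.sum, map_sum, Finset.smul_sum,
      ← Finset.sum_sub_distrib]
  rw [hsum]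
  apply Submodule.sum_mem
  intro i hi
  have hik : k ≤ i.centerCard := hv hi
  have e : inertia (Finsupp.single i (v i)) - (k : ℚ) • Finsupp.single i (v i)
      = v i • (W 1 i.rep - (Nat.card (Subgroup.center i.rep) : ℚ) • cl i.rep)
        + ((i.centerCard : ℚ) - k) • Finsupp.single i (v i) := by
    rw [show inertia = inertiaR 1 from rfl, inertiaR_single, cl_rep]
    have : (i.centerCard : ℚ) = (Nat.card (Subgroup.center i.rep) : ℚ) := rfl
    rw [this, smul_sub, sub_smul, Finsupp.smul_single, Finsupp.smul_single, Finsupp.smul_single,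
      Finsupp.smul_single]
    simp only [smul_eq_mul, mul_one]
    rw [mul_comm (v i)]
    abel
  rw [e]
  apply Submodule.add_mem
  · apply Submodule.smul_mem
    have := W_one_sub_mem_Kge (G := i.rep)
    exact Kge_anti (Nat.succ_le_succ hik) this
  · rcases Nat.eq_or_lt_of_le hik with h | h
    · rw [← h, sub_self, zero_smul]; exact Submodule.zero_mem _
    · apply Submodule.smul_mem
      exact single_mem_Kge h

end Groth.Agent.Helper27.Inertia
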