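import Mathlib
import Groth.Prelude.Def_W4c5stacksedinertiaGpd
import Groth.Agent.Lib.Helper27.InertiaTri

namespace Groth.Agent.Helper27.Inertia

open W4c5stacksedinertia Polynomial

universe u v

section KD

variable {V : Type*} [AddCommGroup V] [Module ℚ V]

theorem ker_aeval_X_sub_C (f : Module.End ℚ V) (a : ℚ) :
    LinearMap.ker (aeval f (X - C a)) = Module.End.eigenspace f a := by
  rw [Module.End.eigenspace_def]
  congr 1
  simp [Algebra.algebraMap_eq_smul_one]

theorem aeval_X_sub_C_apply (f : Module.End ℚ V) (a : ℚ) (w : V) :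
    aeval f (X - C a) w = f w - a • w := by
  rw [map_sub, aeval_X, aeval_C, LinearMap.sub_apply, Module.algebraMap_end_apply]

/-- kernel decomposition -/
theorem ker_aeval_prod_X_sub_C (f : Module.End ℚ V) {ι : Type*} (s : Finset ι) (a : ι → ℚ)
    (ha : Set.InjOn a s) :
    LinearMap.ker (aeval f (∏ k ∈ s, (X - C (a k)))) = ⨆ k ∈ s, Module.End.eigenspace f (a k) := by
  classical
  induction s using Finset.induction_on with
  | empty =>
    simp only [Finset.prod_empty, map_one, Finset.notMem_empty, iSup_false, iSup_bot]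
    rw [LinearMap.ker_eq_bot]
    exact fun x y h => h
  | insert k₀ s hk ih =>
    rw [Finset.prod_insert hk, Finset.iSup_insert]
    have hco : IsCoprime (X - C (a k₀)) (∏ k ∈ s, (X - C (a k))) := by
      apply IsCoprime.prod_right
      intro k hks
      apply isCoprime_X_sub_C_of_isUnit_sub
      apply IsUnit.mk0
      intro h0
      have : a k₀ = a k := sub_eq_zero.mp h0
      have := ha (Finset.mem_insert_self _ _) (Finset.mem_insert_of_mem hks) this
      exact hk (this ▸ hks)
    rw [← sup_ker_aeval_eq_ker_aeval_mul_of_coprime f hco, ker_aeval_X_sub_C,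
      ih (fun x hx y hy h => ha (Finset.mem_insert_of_mem hx) (Finset.mem_insert_of_mem hy) h)]

end KD

/-- falling factorial polynomial -/
noncomputable def Q (r : ℕ) : ℚ[X] := ∏ j ∈ Finset.range r, (X - C (j : ℚ))

theorem inertiaR_eq_aeval (r : ℕ) : inertiaR r = aeval (inertia : Module.End ℚ K) (Q r) := by
  induction r with
  | zero =>
    apply LinearMap.ext
    intro v
    simp [Q, inertiaR_zero]
  | succ r ih =>
    apply LinearMap.ext
    intro v
    rw [inertiaR_succ]
    unfold Q at ih ⊢
    rw [Finset.prod_range_succ, mul_comm, map_mul, Module.End.mul_apply, ← ih,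
      aeval_X_sub_C_apply]

theorem Q_eval (r k : ℕ) : (Q r).eval (k : ℚ) = ((Nat.factorial r * Nat.choose k r : ℕ) : ℚ) := by
  rw [← Nat.descFactorial_eq_factorial_mul_choose]
  induction r with
  | zero => simp [Q]
  | succ r ih =>
    unfold Q at ih ⊢
    rw [Finset.prod_range_succ, eval_mul, ih, Nat.descFactorial_succ]
    simp only [eval_sub, eval_X, eval_C]
    rcases Nat.lt_or_ge k r with h | h
    · rw [Nat.descFactorial_of_lt h]; simp
    · push_cast [Nat.cast_sub h]; ring

/-- the annihilating polynomial on `Kle n` -/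
noncomputable def P (m : ℕ) : ℚ[X] := ∏ k ∈ Finset.range m, (X - C ((k + 1 : ℕ) : ℚ))

theorem Kge_one_eq_top : Kge 1 = ⊤ := by
  rw [eq_top_iff]
  intro v _
  unfold Kge
  rw [Finsupp.mem_supported]
  intro i _
  exact Nat.card_pos

theorem Kle_inf_Kge (n : ℕ) : Kle n ⊓ Kge (n + 1) = ⊥ := by
  rw [eq_bot_iff]
  intro v hv
  obtain ⟨h1, h2⟩ := hv
  unfold Kle at h1
  unfold Kge at h2
  rw [SetLike.mem_coe, Finsupp.mem_supported] at h1 h2
  rw [Submodule.mem_bot, ← Finsupp.support_eq_empty, Finset.eq_empty_iff_forall_notMem]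
  intro i hi
  have a : i.card ≤ n := h1 hi
  have b : n + 1 ≤ i.centerCard := h2 hi
  have c : i.centerCard ≤ i.card := Subgroup.card_le_card_group _
  omega

theorem aeval_P_mem (n m : ℕ) (v : K) (hv : v ∈ Kle n) :
    aeval (inertia : Module.End ℚ K) (P m) v ∈ Kle n ⊓ Kge (m + 1) := by
  induction m with
  | zero =>
    simp only [P, Finset.range_zero, Finset.prod_empty, map_one, Module.End.one_apply, zero_add]
    rw [Kge_one_eq_top]
    exact ⟨hv, trivial⟩
  | succ m ih =>
    unfold P at ih ⊢
    rw [Finset.prod_range_succ, mul_comm, map_mul, Module.End.mul_apply]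
    set w := aeval (inertia : Module.End ℚ K) (∏ k ∈ Finset.range m, (X - C ((k + 1 : ℕ) : ℚ))) v
    rw [aeval_X_sub_C_apply]
    refine ⟨?_, ?_⟩
    · exact Submodule.sub_mem _ (inertiaR_mem_Kle 1 n w ih.1) (Submodule.smul_mem _ _ ih.1)
    · exact inertia_sub_mem_Kge (m + 1) w ih.2

theorem aeval_P_eq_zero (n : ℕ) (v : K) (hv : v ∈ Kle n) :
    aeval (inertia : Module.End ℚ K) (P n) v = 0 := by
  have := aeval_P_mem n n v hv
  rw [Kle_inf_Kge] at this
  exact this

theorem exists_mem_Kle (v : K) : ∃ n, v ∈ Kle n := by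
  refine ⟨v.support.sup Idx.card, ?_⟩
  unfold Kle
  rw [Finsupp.mem_supported]
  intro i hi
  exact Finset.le_sup (f := Idx.card) hi

theorem mem_iSup_eigenspace_of_mem_Kle (n : ℕ) (v : K) (hv : v ∈ Kle n) :
    v ∈ ⨆ k ∈ Finset.range n, Module.End.eigenspace (inertia : Module.End ℚ K) ((k + 1 : ℕ) : ℚ) := by
  rw [← ker_aeval_prod_X_sub_C (inertia : Module.End ℚ K) (Finset.range n)
    (fun k => ((k + 1 : ℕ) : ℚ)) (fun x _ y _ h => by simpa using h)]
  rw [LinearMap.mem_ker]
  exact aeval_P_eq_zero n v hv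

end Groth.Agent.Helper27.Inertia
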