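import Mathlib
import Groth.Prelude.Def_W4c5stacksedinertiaGpd
import Groth.Agent.Lib.Helper27.InertiaSpec

namespace Groth.Agent.Helper27.Inertia

open W4c5stacksedinertia Polynomial

theorem inertiaR_apply_of_mem_eigenspace (r : ℕ) (μ : ℚ) (v : K)
    (hv : v ∈ Module.End.eigenspace (inertia : Module.End ℚ K) μ) :
    inertiaR r v = (Q r).eval μ • v := by
  by_cases h0 : v = 0
  · subst h0; simp
  · rw [inertiaR_eq_aeval]
    exact Module.End.aeval_apply_of_hasEigenvector ⟨hv, h0⟩

theorem inertia_mem_Kge (k : ℕ) (w : K) (hw : w ∈ Kge k) : inertia w ∈ Kge k := by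
  have h1 := Kge_anti (Nat.le_succ k) (inertia_sub_mem_Kge k w hw)
  have h2 : (k : ℚ) • w ∈ Kge k := Submodule.smul_mem _ _ hw
  have := Submodule.add_mem _ h1 h2
  rwa [sub_add_cancel] at this

theorem inertiaR_sub_mem_Kge (r k : ℕ) (v : K) (hv : v ∈ Kge k) :
    inertiaR r v - (Q r).eval (k : ℚ) • v ∈ Kge (k + 1) := by
  induction r with
  | zero =>
    simp [Q, inertiaR_zero]
  | succ r ih =>
    rw [inertiaR_succ]
    have hQ : (Q (r + 1)).eval (k : ℚ) = (Q r).eval (k : ℚ) * ((k : ℚ) - r) := by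
      unfold Q
      rw [Finset.prod_range_succ, eval_mul]
      simp
    rw [hQ]
    set d := (Q r).eval (k : ℚ)
    set w := inertiaR r v - d • v with hw
    have hA : inertiaR r v = d • v + w := by rw [hw]; abel
    have e : inertiaR 1 (inertiaR r v) - (r : ℚ) • inertiaR r v - (d * ((k : ℚ) - r)) • v
        = d • (inertia v - (k : ℚ) • v) + (inertia w - (r : ℚ) • w) := by
      rw [hA, map_add, map_smul, show inertiaR 1 = inertia from rfl]
      module
    rw [e]
    apply Submodule.add_mem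
    · exact Submodule.smul_mem _ _ (inertia_sub_mem_Kge k v hv)
    · exact Submodule.sub_mem _ (inertia_mem_Kge (k + 1) w ih) (Submodule.smul_mem _ _ ih)

theorem exists_eigen_decomp (v : K) : ∃ (N : ℕ) (u : ℕ → K),
    (∀ m : ℕ, u m ∈ Module.End.eigenspace (inertia : Module.End ℚ K) (m : ℚ)) ∧
    ∑ m ∈ Finset.range N, u m = v := by
  obtain ⟨n, hn⟩ := exists_mem_Kle v
  have h0 : aeval (inertia : Module.End ℚ K) (Q (n + 1)) v = 0 := by
    have : Q (n + 1) = (X - C ((0 : ℕ) : ℚ)) * P n := by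
      unfold Q P
      rw [Finset.prod_range_succ', mul_comm]
    rw [this, map_mul, Module.End.mul_apply, aeval_P_eq_zero n v hn, map_zero]
  have hmem : v ∈ ⨆ m ∈ Finset.range (n + 1),
      Module.End.eigenspace (inertia : Module.End ℚ K) ((m : ℕ) : ℚ) := by
    rw [← ker_aeval_prod_X_sub_C (inertia : Module.End ℚ K) (Finset.range (n + 1))
      (fun m => (m : ℚ)) (fun x _ y _ h => by simpa using h)]
    exact h0
  rw [Submodule.mem_iSup_finset_iff_exists_sum] at hmem
  obtain ⟨μ, hμ⟩ := hmem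
  exact ⟨n + 1, fun m => (μ m : K), fun m => (μ m).2, hμ⟩

/-- binomial inversion -/
theorem binom_inversion (N m k : ℕ) (hm : m < N) :
    ∑ r ∈ Finset.range N, ((-1 : ℚ) ^ (r + k)) * (Nat.choose r k : ℚ) * (Nat.choose m r : ℚ)
      = if m = k then 1 else 0 := by
  have h1 : ∑ r ∈ Finset.range N, ((-1 : ℚ) ^ (r + k)) * (Nat.choose r k : ℚ) * (Nat.choose m r : ℚ)
      = ∑ r ∈ Finset.range (m + 1), ((-1 : ℚ) ^ (r + k)) * (Nat.choose r k : ℚ) * (Nat.choose m r : ℚ) := by
    symm
    apply Finset.sum_subset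
    · intro r hr
      rw [Finset.mem_range] at hr ⊢
      omega
    · intro r _ hr
      rw [Finset.mem_range, not_lt] at hr
      rw [Nat.choose_eq_zero_of_lt (by omega : m < r)]
      simp
  rw [h1]
  rcases Nat.lt_or_ge m k with hk | hk
  · rw [if_neg (by omega)]
    apply Finset.sum_eq_zero
    intro r hr
    rw [Finset.mem_range] at hr
    rw [Nat.choose_eq_zero_of_lt (by omega : r < k)]
    simp
  · rw [Finset.range_eq_Ico, ← Finset.sum_Ico_consecutive _ (Nat.zero_le k) (by omega : k ≤ m + 1)]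
    have hz : ∑ r ∈ Finset.Ico 0 k, ((-1 : ℚ) ^ (r + k)) * (Nat.choose r k : ℚ) * (Nat.choose m r : ℚ) = 0 := by
      apply Finset.sum_eq_zero
      intro r hr
      rw [Finset.mem_Ico] at hr
      rw [Nat.choose_eq_zero_of_lt hr.2]
      simp
    rw [hz, zero_add, Finset.sum_Ico_eq_sum_range]
    have hterm : ∀ j ∈ Finset.range (m + 1 - k),
        ((-1 : ℚ) ^ (k + j + k)) * (Nat.choose (k + j) k : ℚ) * (Nat.choose m (k + j) : ℚ)
          = (Nat.choose m k : ℚ) * (((-1 : ℤ) ^ j * ((m - k).choose j : ℤ) : ℤ) : ℚ) := by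
      intro j hj
      rw [Finset.mem_range] at hj
      have hc := Nat.choose_mul (n := m) (k := k + j) (s := k) (by omega)
      rw [Nat.add_sub_cancel_left] at hc
      have hc' : (Nat.choose m (k + j) : ℚ) * (Nat.choose (k + j) k : ℚ)
          = (Nat.choose m k : ℚ) * ((m - k).choose j : ℚ) := by exact_mod_cast hc
      have hs : (-1 : ℚ) ^ (k + j + k) = (-1) ^ j := by
        rw [show k + j + k = 2 * k + j by ring, pow_add, pow_mul]; simp
      rw [hs]
      push_cast
      linear_combination ((-1 : ℚ) ^ j) * hc'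
    rw [Finset.sum_congr rfl hterm, ← Finset.mul_sum, ← Int.cast_sum]
    rw [show m + 1 - k = (m - k) + 1 by omega, Int.alternating_sum_range_choose]
    rcases Nat.eq_or_lt_of_le hk with h | h
    · subst h; simp
    · rw [if_neg (by omega), if_neg (by omega)]; simp

end Groth.Agent.Helper27.Inertia
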