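import Mathlib
import Groth.Prelude.Def_W4c5stacksedinertiaGpd
import Groth.Agent.Lib.Helper27.InertiaFinal

namespace Groth.Agent.Helper27.Inertia

open W4c5stacksedinertia Polynomial

universe u

theorem cl_ne_zero (G : Type u) [Group G] [Finite G] : cl G ≠ 0 := by
  unfold cl
  exact Finsupp.single_ne_zero.mpr one_ne_zero

theorem inertia_cl_of_comm (G : Type u) [CommGroup G] [Finite G] :
    inertia (cl G) = (Nat.card G : ℚ) • cl G := by
  classical
  haveI := Fintype.ofFinite G
  rw [show inertia = inertiaR 1 from rfl, inertiaR_cl, W_one, finsum_eq_sum_of_fintype]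
  have : ∀ h ∈ (Finset.univ : Finset G), wt G {h} = cl G := by
    intro h _
    apply wt_of_subset_center
    rw [CommGroup.center_eq_top]
    exact Set.subset_univ _
  rw [Finset.sum_congr rfl this, Finset.sum_const, ← Nat.cast_smul_eq_nsmul ℚ, Finset.card_univ,
    Nat.card_eq_fintype_card]

theorem hasEigenvalue_inertia_pos (n : ℕ) (hn : 0 < n) :
    Module.End.HasEigenvalue (inertia : Module.End ℚ K) (n : ℚ) := by
  haveI : NeZero n := ⟨hn.ne'⟩
  have hW := inertia_cl_of_comm (Multiplicative (ZMod n))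
  have hc : Nat.card (Multiplicative (ZMod n)) = n := by
    rw [Nat.card_congr Multiplicative.toAdd, Nat.card_zmod]
  rw [hc] at hW
  exact Module.End.hasEigenvalue_of_hasEigenvector
    ⟨Module.End.mem_eigenspace_iff.mpr hW, cl_ne_zero _⟩

theorem eigenvalue_inertia_pos (μ : ℚ) (hμ : Module.End.HasEigenvalue (inertia : Module.End ℚ K) μ) :
    ∃ n : ℕ, 0 < n ∧ μ = (n : ℚ) := by
  obtain ⟨v, hv⟩ := hμ.exists_hasEigenvector
  obtain ⟨n, hn⟩ := exists_mem_Kle v
  have h0 := aeval_P_eq_zero n v hn
  rw [Module.End.aeval_apply_of_hasEigenvector hv] at h0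
  have h1 : (P n).eval μ = 0 := by
    rcases smul_eq_zero.mp h0 with h | h
    · exact h
    · exact absurd h hv.2
  unfold P at h1
  rw [Polynomial.eval_prod, Finset.prod_eq_zero_iff] at h1
  obtain ⟨k, _, hk⟩ := h1
  refine ⟨k + 1, Nat.succ_pos k, ?_⟩
  simpa [sub_eq_zero] using hk

theorem iSup_eigenspace_inertia :
    (⨆ n : ℕ, Module.End.eigenspace (inertia : Module.End ℚ K) (n : ℚ)) = ⊤ := by
  rw [eq_top_iff]
  intro v _
  obtain ⟨n, hn⟩ := exists_mem_Kle v
  have := mem_iSup_eigenspace_of_mem_Kle n v hn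
  have hle : (⨆ k ∈ Finset.range n,
      Module.End.eigenspace (inertia : Module.End ℚ K) ((k + 1 : ℕ) : ℚ))
      ≤ ⨆ n : ℕ, Module.End.eigenspace (inertia : Module.End ℚ K) (n : ℚ) :=
    iSup₂_le (fun k _ =>
      le_iSup (fun n : ℕ => Module.End.eigenspace (inertia : Module.End ℚ K) (n : ℚ)) (k + 1))
  exact hle this

theorem proj_formula (v : K) (N : ℕ) (u : ℕ → K)
    (hu : ∀ m : ℕ, u m ∈ Module.End.eigenspace (inertia : Module.End ℚ K) (m : ℚ))
    (hsum : ∑ m ∈ Finset.range N, u m = v) (k : ℕ) :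
    (∑ᶠ r : ℕ, (((-1 : ℚ) ^ (r + k)) / (Nat.factorial r : ℚ) * (Nat.choose r k : ℚ)) • inertiaR r v)
      = if k < N then u k else 0 := by
  have hR : ∀ r, inertiaR r v
      = ∑ m ∈ Finset.range N, ((Nat.factorial r * Nat.choose m r : ℕ) : ℚ) • u m := by
    intro r
    rw [← hsum, map_sum]
    apply Finset.sum_congr rfl
    intro m _
    rw [inertiaR_apply_of_mem_eigenspace r m (u m) (hu m), Q_eval]
  have hvan : ∀ r, N ≤ r → inertiaR r v = 0 := by
    intro r hr
    rw [hR r]
    apply Finset.sum_eq_zero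
    intro m hm
    rw [Finset.mem_range] at hm
    rw [Nat.choose_eq_zero_of_lt (by omega : m < r)]
    simp
  rw [finsum_eq_sum_of_support_subset (s := Finset.range N)]
  · simp only [hR, Finset.smul_sum, smul_smul]
    rw [Finset.sum_comm]
    simp only [← Finset.sum_smul]
    have hcoef : ∀ m ∈ Finset.range N,
        (∑ r ∈ Finset.range N, ((-1 : ℚ) ^ (r + k)) / (Nat.factorial r : ℚ) * (Nat.choose r k : ℚ)
          * ((Nat.factorial r * Nat.choose m r : ℕ) : ℚ)) • u m
        = (if m = k then (1 : ℚ) else 0) • u m := by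
      intro m hm
      rw [← binom_inversion N m k (Finset.mem_range.mp hm)]
      congr 1
      apply Finset.sum_congr rfl
      intro r _
      have : (Nat.factorial r : ℚ) ≠ 0 := by exact_mod_cast Nat.factorial_ne_zero r
      push_cast
      field_simp
    rw [Finset.sum_congr rfl hcoef]
    simp only [ite_smul, one_smul, zero_smul]
    rw [Finset.sum_ite_eq' (Finset.range N) k]
    simp only [Finset.mem_range]
  · intro r hr
    rw [Function.mem_support] at hr
    rw [Finset.coe_range, Set.mem_Iio]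
    by_contra hlt
    apply hr
    rw [hvan r (not_lt.mp hlt), smul_zero]

end Groth.Agent.Helper27.Inertia
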