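import Groth.Agent.Lib.Helper27.ConA
import Groth.Agent.Lib.Helper27.PolA
import Groth.Agent.Lib.Helper17.JC1

/-! The local ring of the plane at a point and the local ring of the curve (towards S11077). -/

set_option autoImplicit false

namespace Groth.Agent.Helper27.Int

open FunFld MvPolynomial Groth.Agent.Helper16.FF Groth.Agent.Helper27.Con
open scoped WithZero

variable {k K : Type*} [Field k] [Field K] [Algebra k K]

/-- evaluation at the point and at the centre differ by an element of the maximal ideal -/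
theorem val_aeval_sub_eval_lt_one {σ : Type*} (P : Place k K) (X : σ → K) (c : σ → k)
    (hc : ∀ i, P.1 (X i - algebraMap k K (c i)) < 1) (h : MvPolynomial σ k) :
    P.1 (aeval X h - algebraMap k K (eval c h)) < 1 := by
  have hX : ∀ i, P.1 (X i) ≤ 1 := by
    intro i
    have : X i = (X i - algebraMap k K (c i)) + algebraMap k K (c i) := by ring
    rw [this]
    exact (P.1.map_add _ _).trans (max_le (hc i).le (P.2.1 _))
  induction h using MvPolynomial.induction_on with
  | C a =>
    rw [aeval_C, eval_C, sub_self, map_zero]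
    exact zero_lt_one
  | add p q hp hq =>
    have : aeval X (p + q) - algebraMap k K (eval c (p + q)) =
        (aeval X p - algebraMap k K (eval c p)) + (aeval X q - algebraMap k K (eval c q)) := by
      rw [map_add, map_add, map_add]; ring
    rw [this]
    exact (P.1.map_add _ _).trans_lt (max_lt hp hq)
  | mul_X p i hp =>
    have : aeval X (p * MvPolynomial.X i) - algebraMap k K (eval c (p * MvPolynomial.X i)) =
        (aeval X p - algebraMap k K (eval c p)) * X i +
          algebraMap k K (eval c p) * (X i - algebraMap k K (c i)) := by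
      rw [map_mul, map_mul, aeval_X, eval_X, map_mul]; ring
    rw [this]
    refine (P.1.map_add _ _).trans_lt (max_lt ?_ ?_)
    · rw [map_mul]
      calc P.1 (aeval X p - algebraMap k K (eval c p)) * P.1 (X i)
          ≤ P.1 (aeval X p - algebraMap k K (eval c p)) * 1 := mul_le_mul' le_rfl (hX i)
        _ < 1 := by rwa [mul_one]
    · rw [map_mul]
      calc P.1 (algebraMap k K (eval c p)) * P.1 (X i - algebraMap k K (c i))
          ≤ 1 * P.1 (X i - algebraMap k K (c i)) := mul_le_mul' (P.2.1 _) le_rfl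
        _ < 1 := by rw [one_mul]; exact hc i

theorem mem_M_iff (c : Fin 2 → k) (M : Ideal (MvPolynomial (Fin 2) k))
    (hM : M = Ideal.span {MvPolynomial.X 0 - MvPolynomial.C (c 0),
      MvPolynomial.X 1 - MvPolynomial.C (c 1)}) (h : MvPolynomial (Fin 2) k) :
    h ∈ M ↔ eval c h = 0 := by
  have h1 := Groth.Agent.Helper17.JC.ker_eval_eq_span c
  have h2 : Set.range (Groth.Agent.Helper17.JC.u c) =
      {MvPolynomial.X 0 - MvPolynomial.C (c 0), MvPolynomial.X 1 - MvPolynomial.C (c 1)} := by
    ext p
    constructor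
    · rintro ⟨i, rfl⟩
      fin_cases i
      · left; rfl
      · right; rfl
    · rintro (rfl | hp)
      · exact ⟨0, rfl⟩
      · rw [Set.mem_singleton_iff] at hp
        rw [hp]
        exact ⟨1, rfl⟩
  rw [hM, ← h2, ← h1, RingHom.mem_ker]

theorem val_eq_one_of_not_mem (P : Place k K) (x y : K) (c : Fin 2 → k)
    (hc : ∀ i, P.1 (![x, y] i - algebraMap k K (c i)) < 1)
    (M : Ideal (MvPolynomial (Fin 2) k))
    (hM : M = Ideal.span {MvPolynomial.X 0 - MvPolynomial.C (c 0),
      MvPolynomial.X 1 - MvPolynomial.C (c 1)}) {h : MvPolynomial (Fin 2) k} (hh : h ∉ M) :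
    P.1 (aeval ![x, y] h) = 1 := by
  have h0 : eval c h ≠ 0 := fun h0 => hh ((mem_M_iff c M hM h).2 h0)
  have h1 := val_aeval_sub_eval_lt_one P ![x, y] c hc h
  have h2 : P.1 (algebraMap k K (eval c h)) = 1 :=
    Groth.Agent.Helper16.FFW.Place.val_algebraMap P h0
  have e : aeval ![x, y] h = algebraMap k K (eval c h) + (aeval ![x, y] h - algebraMap k K (eval c h)) := by
    ring
  rw [e, Valuation.map_add_eq_of_lt_left P.1 (by rw [h2]; exact h1), h2]

theorem val_lt_one_of_mem (P : Place k K) (x y : K) (c : Fin 2 → k)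
    (hc : ∀ i, P.1 (![x, y] i - algebraMap k K (c i)) < 1)
    (M : Ideal (MvPolynomial (Fin 2) k))
    (hM : M = Ideal.span {MvPolynomial.X 0 - MvPolynomial.C (c 0),
      MvPolynomial.X 1 - MvPolynomial.C (c 1)}) {h : MvPolynomial (Fin 2) k} (hh : h ∈ M) :
    P.1 (aeval ![x, y] h) < 1 := by
  have h0 : eval c h = 0 := (mem_M_iff c M hM h).1 hh
  have h1 := val_aeval_sub_eval_lt_one P ![x, y] c hc h
  rwa [h0, map_zero, sub_zero] at h1

section

variable (P : Place k K) (x y : K) (c : Fin 2 → k)
  (hc : ∀ i, P.1 (![x, y] i - algebraMap k K (c i)) < 1)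
  (M : Ideal (MvPolynomial (Fin 2) k)) [M.IsMaximal]
  (hM : M = Ideal.span {MvPolynomial.X 0 - MvPolynomial.C (c 0),
      MvPolynomial.X 1 - MvPolynomial.C (c 1)})

include hc hM in
theorem isUnit_aeval (s : M.primeCompl) :
    IsUnit ((aeval ![x, y] : MvPolynomial (Fin 2) k →ₐ[k] K).toRingHom s) := by
  rw [isUnit_iff_ne_zero]
  intro h0
  have := val_eq_one_of_not_mem P x y c hc M hM s.2
  rw [show aeval ![x, y] (s : MvPolynomial (Fin 2) k) = 0 from h0, map_zero] at this
  exact zero_ne_one this

/-- the map from the local ring of the plane to the function field -/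
noncomputable def theta : Localization.AtPrime M →+* K :=
  IsLocalization.lift (M := M.primeCompl) (isUnit_aeval P x y c hc M hM)

theorem theta_algebraMap (h : MvPolynomial (Fin 2) k) :
    theta P x y c hc M hM (algebraMap _ (Localization.AtPrime M) h) = aeval ![x, y] h :=
  IsLocalization.lift_eq _ h

theorem theta_mk' (h : MvPolynomial (Fin 2) k) (s : M.primeCompl) :
    theta P x y c hc M hM (IsLocalization.mk' (Localization.AtPrime M) h s) =
      aeval ![x, y] h / aeval ![x, y] (s : MvPolynomial (Fin 2) k) := by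
  unfold theta
  rw [IsLocalization.lift_mk', Units.mul_inv_eq_iff_eq_mul, IsUnit.coe_liftRight]
  have hs0 : aeval ![x, y] (s : MvPolynomial (Fin 2) k) ≠ 0 :=
    (isUnit_aeval P x y c hc M hM s).ne_zero
  simp only [AlgHom.toRingHom_eq_coe, MonoidHom.restrict_apply, MonoidHom.coe_coe, RingHom.coe_coe]
  exact (div_mul_cancel₀ _ hs0).symm

theorem theta_smul (a : k) (z : Localization.AtPrime M) :
    theta P x y c hc M hM (a • z) = a • theta P x y c hc M hM z := by
  have : a • z = algebraMap (MvPolynomial (Fin 2) k) (Localization.AtPrime M)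
      (MvPolynomial.C a) * z := by
    rw [Algebra.smul_def, IsScalarTower.algebraMap_apply k (MvPolynomial (Fin 2) k)
      (Localization.AtPrime M)]
    rfl
  rw [this, map_mul, theta_algebraMap, aeval_C, Algebra.smul_def]

theorem theta_mem_locRing (z : Localization.AtPrime M) :
    theta P x y c hc M hM z ∈
      locRing (aeval ![x, y] : MvPolynomial (Fin 2) k →ₐ[k] K).range P := by
  obtain ⟨h, s, rfl⟩ := IsLocalization.exists_mk'_eq M.primeCompl z
  rw [theta_mk']
  have hs0 : aeval ![x, y] (s : MvPolynomial (Fin 2) k) ≠ 0 :=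
    (isUnit_aeval P x y c hc M hM s).ne_zero
  exact ⟨aeval ![x, y] h, ⟨h, rfl⟩, aeval ![x, y] (s : MvPolynomial (Fin 2) k), ⟨s, rfl⟩,
    val_eq_one_of_not_mem P x y c hc M hM s.2, div_mul_cancel₀ _ hs0⟩

theorem exists_theta_eq {z : K}
    (hz : z ∈ locRing (aeval ![x, y] : MvPolynomial (Fin 2) k →ₐ[k] K).range P) :
    ∃ w : Localization.AtPrime M, theta P x y c hc M hM w = z := by
  obtain ⟨u, ⟨h, rfl⟩, w, ⟨s, rfl⟩, hw1, hzw⟩ := hz
  have hsM : s ∉ M := by
    intro hs
    have := val_lt_one_of_mem P x y c hc M hM hs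
    rw [show (aeval ![x, y] : MvPolynomial (Fin 2) k →ₐ[k] K).toRingHom s = aeval ![x, y] s from rfl]
      at hw1
    rw [hw1] at this
    exact lt_irrefl _ this
  refine ⟨IsLocalization.mk' (Localization.AtPrime M) h (⟨s, hsM⟩ : M.primeCompl), ?_⟩
  rw [theta_mk']
  have hs0 : aeval ![x, y] s ≠ 0 := by
    intro h0
    rw [show (aeval ![x, y] : MvPolynomial (Fin 2) k →ₐ[k] K).toRingHom s = aeval ![x, y] s from rfl,
      h0, map_zero] at hw1
    exact zero_ne_one hw1
  rw [div_eq_iff hs0]
  exact hzw.symm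

end

end Groth.Agent.Helper27.Int
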