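import Groth.Agent.Lib.Helper27.IntA
import Groth.Agent.Lib.Helper16.FF.RelDim2

/-! The quotient of the local ring of the plane by `(f, g)` (towards S11077). -/

set_option autoImplicit false

namespace Groth.Agent.Helper27.Int

open FunFld MvPolynomial Groth.Agent.Helper16.FF Groth.Agent.Helper27.Con
open scoped WithZero

variable {k K : Type*} [Field k] [Field K] [Algebra k K]

section

variable (P : Place k K) (x y : K) (c : Fin 2 → k)
  (hc : ∀ i, P.1 (![x, y] i - algebraMap k K (c i)) < 1)
  (M : Ideal (MvPolynomial (Fin 2) k)) [M.IsMaximal]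
  (hM : M = Ideal.span {MvPolynomial.X 0 - MvPolynomial.C (c 0),
      MvPolynomial.X 1 - MvPolynomial.C (c 1)})

theorem theta_eq_zero_iff [IsAlgClosed k] (hK : IsFunctionField k K)
    (hxy : IntermediateField.adjoin k ({x, y} : Set K) = ⊤) (f : MvPolynomial (Fin 2) k)
    (hf : Irreducible f) (hfxy : aeval ![x, y] f = 0) (z : Localization.AtPrime M) :
    theta P x y c hc M hM z = 0 ↔
      z ∈ Ideal.span {algebraMap (MvPolynomial (Fin 2) k) (Localization.AtPrime M) f} := by
  constructor
  · intro h0
    obtain ⟨h, s, rfl⟩ := IsLocalization.exists_mk'_eq M.primeCompl z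
    rw [theta_mk'] at h0
    have hs0 : aeval ![x, y] (s : MvPolynomial (Fin 2) k) ≠ 0 :=
      (isUnit_aeval P x y c hc M hM s).ne_zero
    have h1 : aeval ![x, y] h = 0 := by
      rcases div_eq_zero_iff.1 h0 with h1 | h1
      · exact h1
      · exact absurd h1 hs0
    have h2 : h ∈ RingHom.ker (aeval ![x, y] : MvPolynomial (Fin 2) k →ₐ[k] K) := h1
    rw [Groth.Agent.Helper27.Pol.ker_aeval_eq_span hK x y hxy f hf hfxy,
      Ideal.mem_span_singleton] at h2
    obtain ⟨q, rfl⟩ := h2
    rw [Ideal.mem_span_singleton']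
    refine ⟨IsLocalization.mk' (Localization.AtPrime M) q s, ?_⟩
    rw [mul_comm, IsLocalization.mul_mk'_eq_mk'_of_mul]
  · intro hz
    rw [Ideal.mem_span_singleton'] at hz
    obtain ⟨w, rfl⟩ := hz
    rw [map_mul, theta_algebraMap, hfxy, mul_zero]

/-- `theta` as a linear map -/
noncomputable def thetaLin : Localization.AtPrime M →ₗ[k] K where
  toFun := theta P x y c hc M hM
  map_add' := map_add _
  map_smul' := theta_smul P x y c hc M hM

/-- the local ring of the curve as a subspace -/
noncomputable def Osub : Submodule k K :=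
  Subalgebra.toSubmodule (locRing (aeval ![x, y] : MvPolynomial (Fin 2) k →ₐ[k] K).range P)

/-- the map to `O / γ O` -/
noncomputable def Theta (γ : K) : Localization.AtPrime M →ₗ[k]
    (↥(Osub P x y) ⧸ ((Osub P x y).map (LinearMap.mulLeft k γ)).comap (Osub P x y).subtype) :=
  (Submodule.mkQ _).comp
    ((thetaLin P x y c hc M hM).codRestrict (Osub P x y) (theta_mem_locRing P x y c hc M hM))

theorem Theta_surjective (γ : K) : Function.Surjective (Theta P x y c hc M hM γ) := by
  intro w
  obtain ⟨⟨o, ho⟩, rfl⟩ := Submodule.Quotient.mk_surjective _ w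
  obtain ⟨z, hz⟩ := exists_theta_eq P x y c hc M hM ho
  refine ⟨z, ?_⟩
  unfold Theta
  rw [LinearMap.comp_apply, Submodule.mkQ_apply]
  congr 1
  exact Subtype.ext hz

theorem Theta_eq_zero_iff [IsAlgClosed k] (hK : IsFunctionField k K)
    (hxy : IntermediateField.adjoin k ({x, y} : Set K) = ⊤) (f g : MvPolynomial (Fin 2) k)
    (hf : Irreducible f) (hfxy : aeval ![x, y] f = 0) (z : Localization.AtPrime M) :
    Theta P x y c hc M hM (aeval ![x, y] g) z = 0 ↔
      z ∈ Ideal.map (algebraMap (MvPolynomial (Fin 2) k) (Localization.AtPrime M))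
        (Ideal.span {f, g}) := by
  unfold Theta
  rw [LinearMap.comp_apply, Submodule.mkQ_apply, Submodule.Quotient.mk_eq_zero,
    Submodule.mem_comap, Submodule.subtype_apply, LinearMap.codRestrict_apply,
    Ideal.map_span, Set.image_pair, Ideal.mem_span_pair]
  constructor
  · rintro ⟨o, ho, h⟩
    obtain ⟨w, hw⟩ := exists_theta_eq P x y c hc M hM ho
    have h1 : theta P x y c hc M hM
        (z - algebraMap (MvPolynomial (Fin 2) k) (Localization.AtPrime M) g * w) = 0 := by
      rw [map_sub, map_mul, theta_algebraMap, hw]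
      rw [LinearMap.mulLeft_apply] at h
      rw [h]
      exact sub_self _
    rw [theta_eq_zero_iff P x y c hc M hM hK hxy f hf hfxy, Ideal.mem_span_singleton'] at h1
    obtain ⟨a, ha⟩ := h1
    refine ⟨a, w, ?_⟩
    rw [ha, mul_comm w]
    ring
  · rintro ⟨a, b, h⟩
    refine ⟨theta P x y c hc M hM b, theta_mem_locRing P x y c hc M hM b, ?_⟩
    rw [LinearMap.mulLeft_apply, ← h]
    show _ = theta P x y c hc M hM _
    rw [map_add, map_mul, map_mul, theta_algebraMap, theta_algebraMap, hfxy, mul_zero, zero_add,
      mul_comm]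

include hc hM in
theorem finrank_quot_eq [IsAlgClosed k] (hK : IsFunctionField k K)
    (hxy : IntermediateField.adjoin k ({x, y} : Set K) = ⊤) (f g : MvPolynomial (Fin 2) k)
    (hf : Irreducible f) (hfxy : aeval ![x, y] f = 0) :
    Module.finrank k (Localization.AtPrime M ⧸
        Ideal.map (algebraMap (MvPolynomial (Fin 2) k) (Localization.AtPrime M))
          (Ideal.span {f, g})) =
      Module.finrank k (↥(Osub P x y) ⧸
        ((Osub P x y).map (LinearMap.mulLeft k (aeval ![x, y] g))).comap (Osub P x y).subtype) := by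
  set I := Ideal.map (algebraMap (MvPolynomial (Fin 2) k) (Localization.AtPrime M))
          (Ideal.span {f, g}) with hI
  have hker : I.restrictScalars k = LinearMap.ker (Theta P x y c hc M hM (aeval ![x, y] g)) := by
    ext z
    rw [Submodule.restrictScalars_mem, LinearMap.mem_ker,
      Theta_eq_zero_iff P x y c hc M hM hK hxy f g hf hfxy]
  let e1 := (Submodule.Quotient.restrictScalarsEquiv k I).symm
  let e2 := Submodule.quotEquivOfEq _ _ hker
  let e3 := (Theta P x y c hc M hM (aeval ![x, y] g)).quotKerEquivOfSurjective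
    (Theta_surjective P x y c hc M hM _)
  exact (e1.trans (e2.trans e3)).finrank_eq

end

end Groth.Agent.Helper27.Int
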