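import Groth.Agent.Lib.Helper27.IntB
import Groth.Agent.Lib.Helper16.FF.Local

/-! Intersection multiplicity: dimension bookkeeping (towards S11077). -/

set_option autoImplicit false

namespace Groth.Agent.Helper27.Int

open FunFld MvPolynomial Groth.Agent.Helper16.FF Groth.Agent.Helper27.Con
open scoped WithZero

variable {k K : Type*} [Field k] [Field K] [Algebra k K]

theorem val_le_one_of_sub_lt (Q : Place k K) {a : K} {c : k} (h : Q.1 (a - algebraMap k K c) < 1) :
    Q.1 a ≤ 1 := by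
  have : a = (a - algebraMap k K c) + algebraMap k K c := by ring
  rw [this]
  exact (Q.1.map_add _ _).trans (max_le h.le (Q.2.1 _))

/-- the fibre in terms of the centre -/
theorem sameImage_iff_sameCentre (P Q : Place k K) (x y : K) (c : Fin 2 → k)
    (hc : ∀ i, P.1 (![x, y] i - algebraMap k K (c i)) < 1) :
    SameImage ![(1 : K), x, y] P Q ↔ SameCentre ![x, y] P Q := by
  have hPle : ∀ i, P.1 (![(1 : K), x, y] i) ≤ 1 := by
    intro i
    fin_cases i
    · simp
    · exact val_le_one_of_sub_lt P (hc 0)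
    · exact val_le_one_of_sub_lt P (hc 1)
  constructor
  · rintro ⟨j, hj0, hjP, hjQ, hcon⟩
    set φ : Fin 3 → K := ![(1 : K), x, y] with hφ
    have hPj : P.1 (φ j) = 1 := le_antisymm (hPle j) (by
      have := hjP 0
      simpa [hφ] using this)
    obtain ⟨d₀, hd₀P, hd₀Q⟩ := hcon 0
    have e0 : φ 0 / φ j = (φ j)⁻¹ := by simp [hφ]
    rw [e0] at hd₀P hd₀Q
    have hPinv : P.1 (φ j)⁻¹ = 1 := by rw [map_inv₀, hPj, inv_one]
    have hd₀ : d₀ ≠ 0 := by
      rintro rfl
      rw [map_zero, sub_zero, hPinv] at hd₀P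
      exact lt_irrefl _ hd₀P
    have hvd₀ : ∀ R : Place k K, R.1 (algebraMap k K d₀) = 1 := fun R =>
      Groth.Agent.Helper16.FFW.Place.val_algebraMap R hd₀
    have hQinv : Q.1 (φ j)⁻¹ = 1 := by
      have e : (φ j)⁻¹ = algebraMap k K d₀ + ((φ j)⁻¹ - algebraMap k K d₀) := by ring
      rw [e, Valuation.map_add_eq_of_lt_left Q.1 (by rw [hvd₀]; exact hd₀Q), hvd₀]
    have hQj : Q.1 (φ j) = 1 := by
      rw [map_inv₀, inv_eq_one] at hQinv
      exact hQinv
    -- `φ j - 1/d₀` is small at both places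
    have hsmall : ∀ R : Place k K, R.1 (φ j) = 1 → R.1 ((φ j)⁻¹ - algebraMap k K d₀) < 1 →
        R.1 (φ j - algebraMap k K d₀⁻¹) < 1 := by
      intro R h1 h2
      have hd₀K : algebraMap k K d₀ ≠ 0 := by
        rw [Ne, map_eq_zero_iff _ (algebraMap k K).injective]; exact hd₀
      have e : φ j - algebraMap k K d₀⁻¹ =
          -(φ j * (algebraMap k K d₀)⁻¹ * ((φ j)⁻¹ - algebraMap k K d₀)) := by
        rw [map_inv₀]
        field_simp
        ring
      rw [e, Valuation.map_neg, map_mul, map_mul, h1, map_inv₀, hvd₀, inv_one, one_mul, one_mul]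
      exact h2
    intro i
    obtain ⟨d, hdP, hdQ⟩ := hcon i.succ
    have hri : φ i.succ = ![x, y] i := by
      fin_cases i <;> rfl
    rw [hri] at hdP hdQ
    refine ⟨d * d₀⁻¹, ?_, ?_⟩
    · have e : ![x, y] i - algebraMap k K (d * d₀⁻¹) =
          φ j * (![x, y] i / φ j - algebraMap k K d) +
            algebraMap k K d * (φ j - algebraMap k K d₀⁻¹) := by
        rw [map_mul]
        field_simp
        ring
      rw [e]
      refine (P.1.map_add _ _).trans_lt (max_lt ?_ ?_)
      · rw [map_mul, hPj, one_mul]; exact hdP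
      · rw [map_mul]
        calc P.1 (algebraMap k K d) * P.1 (φ j - algebraMap k K d₀⁻¹)
            ≤ 1 * P.1 (φ j - algebraMap k K d₀⁻¹) := mul_le_mul' (P.2.1 _) le_rfl
          _ < 1 := by rw [one_mul]; exact hsmall P hPj hd₀P
    · have e : ![x, y] i - algebraMap k K (d * d₀⁻¹) =
          φ j * (![x, y] i / φ j - algebraMap k K d) +
            algebraMap k K d * (φ j - algebraMap k K d₀⁻¹) := by
        rw [map_mul]
        field_simp
        ring
      rw [e]
      refine (Q.1.map_add _ _).trans_lt (max_lt ?_ ?_)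
      · rw [map_mul, hQj, one_mul]; exact hdQ
      · rw [map_mul]
        calc Q.1 (algebraMap k K d) * Q.1 (φ j - algebraMap k K d₀⁻¹)
            ≤ 1 * Q.1 (φ j - algebraMap k K d₀⁻¹) := mul_le_mul' (Q.2.1 _) le_rfl
          _ < 1 := by rw [one_mul]; exact hsmall Q hQj hd₀Q
  · intro h
    have hQle : ∀ i, Q.1 (![(1 : K), x, y] i) ≤ 1 := by
      intro i
      fin_cases i
      · simp
      · obtain ⟨d, -, hd⟩ := h 0
        exact val_le_one_of_sub_lt Q hd
      · obtain ⟨d, -, hd⟩ := h 1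
        exact val_le_one_of_sub_lt Q hd
    refine ⟨0, by simp, fun i => by simpa using hPle i, fun i => by simpa using hQle i, ?_⟩
    intro i
    fin_cases i
    · exact ⟨1, by simp, by simp⟩
    · obtain ⟨d, hdP, hdQ⟩ := h 0
      exact ⟨d, by simpa using hdP, by simpa using hdQ⟩
    · obtain ⟨d, hdP, hdQ⟩ := h 1
      exact ⟨d, by simpa using hdP, by simpa using hdQ⟩

/-- multiplication by `γ` shifts the local conditions -/
theorem map_mul_iInf_Vloc {ι : Type*} (Pl : ι → Place k K) (m : ι → ℤ) {γ : K} (hγ : γ ≠ 0) :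
    (⨅ i, Vloc (Pl i) (m i)).map (LinearMap.mulLeft k γ) =
      ⨅ i, Vloc (Pl i) (m i - (Pl i).ord γ) := by
  ext z
  simp only [Submodule.mem_map, Submodule.mem_iInf, mem_Vloc, LinearMap.mulLeft_apply]
  constructor
  · rintro ⟨w, hw, rfl⟩ i
    rw [map_mul, Place.val_eq_exp_neg_ord (Pl i) hγ, sub_eq_neg_add, WithZero.exp_add]
    exact mul_le_mul' le_rfl (hw i)
  · intro h
    refine ⟨γ⁻¹ * z, fun i => ?_, by rw [← mul_assoc, mul_inv_cancel₀ hγ, one_mul]⟩
    have h1 := h i
    rw [map_mul, map_inv₀, Place.val_eq_exp_neg_ord (Pl i) hγ, ← WithZero.exp_neg, neg_neg]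
    calc WithZero.exp ((Pl i).ord γ) * (Pl i).1 z
        ≤ WithZero.exp ((Pl i).ord γ) * WithZero.exp (m i - (Pl i).ord γ) := mul_le_mul' le_rfl h1
      _ = WithZero.exp (m i) := by rw [← WithZero.exp_add]; congr 1; ring

/-- the bookkeeping -/
theorem relDim_bookkeeping {V : Type*} [AddCommGroup V] [Module k V] (μ : V →ₗ[k] V)
    (hμ : Function.Injective μ) {C O R : Submodule k V} (hCO : C ≤ O) (hOR : O ≤ R)
    (hμR : R.map μ ≤ R) (hμO : O.map μ ≤ O) {t d : ℕ}
    (htot : HasRelDim (C.map μ) R t) (hd : HasRelDim (R.map μ) R d) :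
    HasRelDim (O.map μ) O d := by
  have h1 : C.map μ ≤ O.map μ := Submodule.map_mono hCO
  have h2 : O.map μ ≤ R.map μ := Submodule.map_mono hOR
  obtain ⟨b, u, -, -, hu⟩ := htot.split h1 (hμO.trans hOR)
  obtain ⟨a, c', hac, ha, hc'⟩ := hu.split hμO hOR
  obtain ⟨c'', d', hcd, hc'', hd'⟩ := hu.split h2 hμR
  have e1 : c'' = c' := (hc''.unique (hc'.map μ hμ))
  have e2 : d' = d := hd'.unique hd
  have : a = d := by omega
  rw [← this]
  exact ha

end Groth.Agent.Helper27.Int
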