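import Mathlib
import Groth.Agent.Lib.Helper27.JumpB

set_option autoImplicit false

namespace Groth.Agent.Helper27.Loc

open FunFld

variable {k : Type*} [Field k] {ι : Type*} [Fintype ι]

/-- A column is a jump iff some row vector kills all earlier columns but not this one. -/
theorem isJump_iff_exists_dot (c : ℕ → ι → k) (j : ℕ) :
    IsJump k c j ↔ ∃ l : ι → k, (∀ j' < j, ∑ i, l i * c j' i = 0) ∧ ∑ i, l i * c j i ≠ 0 := by
  classical
  constructor
  · intro hj
    obtain ⟨f, hf, hmap⟩ := Submodule.exists_dual_map_eq_bot_of_notMem hj inferInstance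
    have key : ∀ v : ι → k, f v = ∑ i, f (fun j => if i = j then 1 else 0) * v i := by
      intro v
      rw [LinearMap.pi_apply_eq_sum_univ f v]
      refine Finset.sum_congr rfl fun i _ => ?_
      rw [smul_eq_mul, mul_comm]
    refine ⟨fun i => f (fun j => if i = j then 1 else 0), ?_, ?_⟩
    · intro j' hj'
      have h1 : f (c j') = 0 := by
        have : f (c j') ∈ (Submodule.span k (c '' Set.Iio j)).map f :=
          Submodule.mem_map_of_mem (Submodule.subset_span ⟨j', hj', rfl⟩)
        rw [hmap] at this
        exact (Submodule.mem_bot k).1 this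
      rw [← key]; exact h1
    · rw [← key]; exact hf
  · rintro ⟨l, hl, hne⟩ hmem
    apply hne
    set f : (ι → k) →ₗ[k] k :=
      { toFun := fun v => ∑ i, l i * v i
        map_add' := fun v w => by
          simp only [Pi.add_apply, mul_add, Finset.sum_add_distrib]
        map_smul' := fun a v => by
          simp only [Pi.smul_apply, smul_eq_mul, RingHom.id_apply, Finset.mul_sum]
          refine Finset.sum_congr rfl fun i _ => by ring } with hf
    have h1 : Submodule.span k (c '' Set.Iio j) ≤ LinearMap.ker f := by
      rw [Submodule.span_le]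
      rintro _ ⟨j', hj', rfl⟩
      exact hl j' hj'
    exact h1 hmem

end Groth.Agent.Helper27.Loc
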