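import Mathlib
import Groth.Agent.Lib.Helper27.LocA
import Groth.Agent.Lib.Helper27.ExpD
import Groth.Agent.Lib.Helper27.DExpA

set_option autoImplicit false

namespace Groth.Agent.Helper27.Loc

open PowerSeries WithZero FunFld
open scoped LaurentSeries
open Groth.Agent.Helper16.FF Groth.Agent.Helper27.Hasse Groth.Agent.Helper27.Expn

variable {k K : Type*} [Field k] [Field K] [Algebra k K]

/-- The coefficient functional of an expansion. -/
noncomputable def co (ε : K →ₐ[k] k⸨X⸩) (y : K) (j : ℕ) : k := (ε y).coeff (j : ℤ)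

theorem co_smul (ε : K →ₐ[k] k⸨X⸩) (c : k) (y : K) (j : ℕ) : co ε (c • y) j = c * co ε y j := by
  unfold co
  rw [Algebra.smul_def, map_mul, LocRes.map_algebraMap, HahnSeries.C_mul_eq_smul,
    HahnSeries.coeff_smul, smul_eq_mul]
  rfl

theorem co_sum {ι : Type*} [Fintype ι] (ε : K →ₐ[k] k⸨X⸩) (l : ι → k) (φ : ι → K) (j : ℕ) :
    co ε (∑ i, l i • φ i) j = ∑ i, l i * co ε (φ i) j := by
  have : co ε (∑ i, l i • φ i) j = ∑ i, co ε (l i • φ i) j := by
    unfold co
    rw [map_sum, HahnSeries.coeff_sum]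
  rw [this]
  exact Finset.sum_congr rfl fun i _ => co_smul ε _ _ _

variable {P : Place k K} {ε : K →ₐ[k] k⸨X⸩}

theorem val_eq_iff_co (hε : LocRes.IsExpansionAt P.1 ε) {y : K} (hy : P.1 y ≤ 1) (m : ℕ) :
    P.1 y = exp (-(m : ℤ)) ↔ (∀ j < m, co ε y j = 0) ∧ co ε y m ≠ 0 := by
  rw [← hε.1, Groth.Agent.Helper27.DExp.val_eq_exp_iff]
  constructor
  · rintro ⟨h1, h2⟩
    exact ⟨fun j hj => h1 j (by exact_mod_cast hj), h2⟩
  · rintro ⟨h1, h2⟩
    refine ⟨fun n hn => ?_, h2⟩
    rcases lt_or_ge n 0 with h0 | h0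
    · exact coeff_neg_eq_zero hε hy n h0
    · lift n to ℕ using h0
      exact h1 n (by exact_mod_cast hn)

theorem coeff_div_pow {t : K} (ht : ε t = HahnSeries.single 1 1) (y : K) (m : ℕ) :
    (ε (y / t ^ m)).coeff 0 = (ε y).coeff (m : ℤ) := by
  have h1 : ε (t ^ m) = HahnSeries.single (m : ℤ) 1 := by
    rw [map_pow, ht, HahnSeries.single_pow]; simp
  have h2 : ε (y / t ^ m) = ε y * HahnSeries.single (-(m : ℤ)) 1 := by
    rw [map_div₀, h1, div_eq_mul_inv]
    congr 1
    apply inv_eq_of_mul_eq_one_right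
    rw [HahnSeries.single_mul_single]; simp
  rw [h2]
  have := HahnSeries.coeff_mul_single_add (r := (1 : k)) (x := ε y) (a := (m : ℤ))
    (b := -(m : ℤ))
  rw [add_neg_cancel, mul_one] at this
  exact this

/-- The coefficient columns: column `0` and column `1` are the constant terms, column `j + 1` the
`j`-th coefficients. -/
noncomputable def cM {ι : Type*} (ε : K →ₐ[k] k⸨X⸩) (φ : ι → K) : ℕ → ι → k
  | 0 => fun i => co ε (φ i) 0
  | j + 1 => fun i => co ε (φ i) j

theorem hcolAt_eq {ι : Type*} (h1 : Module.finrank K (Ω[K⁄k]) = 1)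
    (hε : LocRes.IsExpansionAt P.1 ε) {t : K} (ht : ε t = HahnSeries.single 1 1)
    (H : K →ₐ[k] K⟦X⟧) (hH : LocRes.IsHasseFamily t H) (φ : ι → K) (hint : ∀ i, P.1 (φ i) ≤ 1)
    (m : ℕ) (i : ι) :
    hcolAt P H φ m i = algebraMap k (IsLocalRing.ResidueField P.O) (cM ε φ m i) := by
  cases m with
  | zero => exact evalP_eq_coeff hε (hint i)
  | succ j => exact (hasseD_integral h1 hε ht H hH (hint i) j).2

theorem isJump_transport {ι : Type*} [Fintype ι] {κ : Type*} [Field κ] [Algebra k κ]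
    (hsurj : Function.Surjective (algebraMap k κ)) (c : ℕ → ι → k) (c' : ℕ → ι → κ)
    (hc : ∀ m i, c' m i = algebraMap k κ (c m i)) (m : ℕ) :
    IsJump κ c' m ↔ IsJump k c m := by
  rw [isJump_iff_exists_dot, isJump_iff_exists_dot]
  have hinj : Function.Injective (algebraMap k κ) := (algebraMap k κ).injective
  have key : ∀ (l : ι → k) (m' : ℕ), ∑ i, algebraMap k κ (l i) * c' m' i =
      algebraMap k κ (∑ i, l i * c m' i) := by
    intro l m'
    rw [map_sum]
    exact Finset.sum_congr rfl fun i _ => by rw [map_mul, hc]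
  constructor
  · rintro ⟨μ, h1, h2⟩
    choose l hl using fun i => hsurj (μ i)
    have hμ : μ = fun i => algebraMap k κ (l i) := funext fun i => (hl i).symm
    subst hμ
    refine ⟨l, fun j' hj' => ?_, fun h0 => h2 ?_⟩
    · have := h1 j' hj'
      rw [key] at this
      exact hinj (by rw [this, map_zero])
    · rw [key, h0, map_zero]
  · rintro ⟨l, h1, h2⟩
    refine ⟨fun i => algebraMap k κ (l i), fun j' hj' => ?_, fun h0 => h2 ?_⟩
    · rw [key, h1 j' hj', map_zero]
    · rw [key] at h0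
      exact hinj (by rw [h0, map_zero])

theorem not_isJump_cM_one {ι : Type*} (φ : ι → K) : ¬ IsJump k (cM ε φ) 1 := by
  intro h
  apply h
  exact Submodule.subset_span ⟨0, by simp, rfl⟩

theorem isJump_cM_succ_iff {ι : Type*} [Fintype ι] (hε : LocRes.IsExpansionAt P.1 ε) (φ : ι → K)
    (hint : ∀ i, P.1 (φ i) ≤ 1) (j : ℕ) (hj : 1 ≤ j) :
    IsJump k (cM ε φ) (j + 1) ↔
      ∃ y ∈ Submodule.span k (Set.range φ), P.1 y = exp (-(j : ℤ)) := by
  rw [isJump_iff_exists_dot]
  have hyint : ∀ l : ι → k, P.1 (∑ i, l i • φ i) ≤ 1 := by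
    intro l
    apply Valuation.map_sum_le
    intro i _
    rw [Algebra.smul_def, map_mul]
    exact mul_le_one' (P.2.1 _) (hint i)
  constructor
  · rintro ⟨l, h1, h2⟩
    refine ⟨∑ i, l i • φ i, Submodule.sum_mem _ fun i _ =>
      Submodule.smul_mem _ _ (Submodule.subset_span ⟨i, rfl⟩), ?_⟩
    rw [val_eq_iff_co hε (hyint l)]
    refine ⟨fun j' hj' => ?_, ?_⟩
    · rw [co_sum]
      exact h1 (j' + 1) (by omega)
    · rw [co_sum]; exact h2
  · rintro ⟨y, hy, hyv⟩
    obtain ⟨l, rfl⟩ := (Submodule.mem_span_range_iff_exists_fun k).1 hy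
    rw [val_eq_iff_co hε (hyint l)] at hyv
    refine ⟨l, fun j' hj' => ?_, ?_⟩
    · cases j' with
      | zero =>
        have := hyv.1 0 (by omega)
        rwa [co_sum] at this
      | succ j'' =>
        have := hyv.1 j'' (by omega)
        rwa [co_sum] at this
    · have := hyv.2
      rwa [co_sum] at this

/-- Elements with strictly increasing orders are linearly independent. -/
theorem linearIndependent_of_ord {N : ℕ} (v : Fin N → K) (o : Fin N → ℕ) (ho : StrictMono o)
    (hv : ∀ l, P.1 (v l) = exp (-(o l : ℤ))) : LinearIndependent k v := by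
  classical
  rw [Fintype.linearIndependent_iff]
  intro g hg
  by_contra hne
  push Not at hne
  have hS : (Finset.univ.filter fun l => g l ≠ 0).Nonempty := by
    obtain ⟨l, hl⟩ := hne
    exact ⟨l, by simp [hl]⟩
  set l0 := (Finset.univ.filter fun l => g l ≠ 0).min' hS with hl0
  have hl0mem : g l0 ≠ 0 := by
    have := Finset.min'_mem _ hS
    simpa using this
  have hmin : ∀ l, g l ≠ 0 → l0 ≤ l := fun l hl =>
    Finset.min'_le _ l (by simp [hl])
  have hsplit : ∑ l, g l • v l = g l0 • v l0 + ∑ l ∈ Finset.univ.erase l0, g l • v l := by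
    exact (Finset.add_sum_erase _ (fun l => g l • v l) (Finset.mem_univ l0)).symm
  have hrest : P.1 (∑ l ∈ Finset.univ.erase l0, g l • v l) < exp (-(o l0 : ℤ)) := by
    rw [show (-(o l0 : ℤ)) = (-(o l0 : ℤ) - 1) + 1 by ring,
      Groth.Agent.Helper27.DExp.lt_exp_succ_iff']
    apply Valuation.map_sum_le
    intro l hl
    by_cases hgl : g l = 0
    · rw [hgl, zero_smul, map_zero]; exact zero_le
    · have hlt : l0 < l := lt_of_le_of_ne (hmin l hgl) (Ne.symm (Finset.ne_of_mem_erase hl))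
      rw [Algebra.smul_def, map_mul, Place.val_algebraMap P hgl, one_mul, hv, exp_le_exp]
      have := ho hlt
      omega
  have hmain : P.1 (g l0 • v l0) = exp (-(o l0 : ℤ)) := by
    rw [Algebra.smul_def, map_mul, Place.val_algebraMap P hl0mem, one_mul, hv]
  have hval : P.1 (∑ l, g l • v l) = exp (-(o l0 : ℤ)) := by
    rw [hsplit, Valuation.map_add_eq_of_lt_left _ (by rw [hmain]; exact hrest), hmain]
  rw [hg, map_zero] at hval
  exact exp_ne_zero hval.symm

end Groth.Agent.Helper27.Loc
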