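import Mathlib
import Groth.Agent.Lib.Helper27.LocB

set_option autoImplicit false

namespace Groth.Agent.Helper27.Loc

open PowerSeries WithZero FunFld
open scoped LaurentSeries
open Groth.Agent.Helper16.FF Groth.Agent.Helper27.Hasse Groth.Agent.Helper27.Expn

variable {k K : Type*} [Field k] [Field K] [Algebra k K]

/-- Jumps of the column sequence at `P` in terms of orders of functions of the span. -/
theorem isJump_hcolAt_succ_iff [IsAlgClosed k] (hK : IsFunctionField k K) (P : Place k K)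
    {ι : Type*} [Fintype ι] (φ : ι → K) (hnorm : ∀ i, P.1 (φ i) ≤ 1)
    (t : K) (ht : P.1 t = exp (-1)) (Ht : K →ₐ[k] K⟦X⟧) (hHt : LocRes.IsHasseFamily t Ht)
    (j : ℕ) (hj : 1 ≤ j) :
    IsJump (IsLocalRing.ResidueField P.O) (hcolAt P Ht φ) (j + 1) ↔
      ∃ y ∈ Submodule.span k (Set.range φ), P.1 y = exp (-(j : ℤ)) := by
  obtain ⟨ε, hε, hεt⟩ := exists_expansion hK P t ht
  have h1 := finrank_kaehler_of_isAlgClosed hK
  rw [isJump_transport (algebraMap_residue_surjective hK P) (cM ε φ) (hcolAt P Ht φ)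
    (fun m i => hcolAt_eq h1 hε hεt Ht hHt φ hnorm m i)]
  exact isJump_cM_succ_iff hε φ hnorm j hj

theorem not_isJump_hcolAt_one [IsAlgClosed k] (hK : IsFunctionField k K) (P : Place k K)
    {ι : Type*} [Fintype ι] (φ : ι → K) (hnorm : ∀ i, P.1 (φ i) ≤ 1)
    (t : K) (ht : P.1 t = exp (-1)) (Ht : K →ₐ[k] K⟦X⟧) (hHt : LocRes.IsHasseFamily t Ht) :
    ¬ IsJump (IsLocalRing.ResidueField P.O) (hcolAt P Ht φ) 1 := by
  obtain ⟨ε, hε, hεt⟩ := exists_expansion hK P t ht
  have h1 := finrank_kaehler_of_isAlgClosed hK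
  rw [isJump_transport (algebraMap_residue_surjective hK P) (cM ε φ) (hcolAt P Ht φ)
    (fun m i => hcolAt_eq h1 hε hεt Ht hHt φ hnorm m i)]
  exact not_isJump_cM_one φ

theorem orders_pos [IsAlgClosed k] (hK : IsFunctionField k K) (P : Place k K)
    {ι : Type*} [Fintype ι] (φ : ι → K) (hnorm : ∀ i, P.1 (φ i) ≤ 1)
    (t : K) (ht : P.1 t = exp (-1)) (Ht : K →ₐ[k] K⟦X⟧) (hHt : LocRes.IsHasseFamily t Ht)
    {n : ℕ} (J' : Fin n → ℕ)
    (hJ' : IsOrders (IsLocalRing.ResidueField P.O) (hcolAt P Ht φ) J') (l : Fin n) :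
    1 ≤ J' l := by
  by_contra h
  have h0 : J' l = 0 := by omega
  have := (hJ'.2 0).1 ⟨l, h0⟩
  exact not_isJump_hcolAt_one hK P φ hnorm t ht Ht hHt this

/-- The adapted basis at `P`. -/
theorem exists_adapted [IsAlgClosed k] (hK : IsFunctionField k K) (P : Place k K) {n : ℕ}
    (φ : Fin (n + 1) → K) (hφ : LinearIndependent k φ)
    (heff : (1 : K) ∈ Submodule.span k (Set.range φ)) (hnorm : ∀ i, P.1 (φ i) ≤ 1)
    (t : K) (ht : P.1 t = exp (-1)) (Ht : K →ₐ[k] K⟦X⟧) (hHt : LocRes.IsHasseFamily t Ht)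
    (J' : Fin n → ℕ) (hJ' : IsOrders (IsLocalRing.ResidueField P.O) (hcolAt P Ht φ) J') :
    ∃ φ' : Fin (n + 1) → K,
      Submodule.span k (Set.range φ') = Submodule.span k (Set.range φ) ∧
      LinearIndependent k φ' ∧ φ' 0 = 1 ∧
      ∀ l : Fin n, P.1 (φ' l.succ) = exp (-(J' l : ℤ)) ∧
        evalP P (φ' l.succ / t ^ J' l) = 1 := by
  obtain ⟨ε, hε, hεt⟩ := exists_expansion hK P t ht
  have hpos := orders_pos hK P φ hnorm t ht Ht hHt J' hJ'
  have hex : ∀ l, ∃ y ∈ Submodule.span k (Set.range φ), P.1 y = exp (-(J' l : ℤ)) := fun l =>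
    (isJump_hcolAt_succ_iff hK P φ hnorm t ht Ht hHt (J' l) (hpos l)).1
      ((hJ'.2 (J' l)).1 ⟨l, rfl⟩)
  choose y hy hyv using hex
  have hspanint : ∀ z ∈ Submodule.span k (Set.range φ), P.1 z ≤ 1 := by
    intro z hz
    obtain ⟨l, rfl⟩ := (Submodule.mem_span_range_iff_exists_fun k).1 hz
    apply Valuation.map_sum_le
    intro i _
    rw [Algebra.smul_def, map_mul]
    exact mul_le_one' (P.2.1 _) (hnorm i)
  have ha : ∀ l, co ε (y l) (J' l) ≠ 0 := fun l =>
    ((val_eq_iff_co hε (hspanint _ (hy l)) (J' l)).1 (hyv l)).2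
  set φ' : Fin (n + 1) → K := Fin.cons 1 (fun l => (co ε (y l) (J' l))⁻¹ • y l) with hφ'
  have hφ'0 : φ' 0 = 1 := rfl
  have hφ's : ∀ l : Fin n, φ' l.succ = (co ε (y l) (J' l))⁻¹ • y l := fun l => by
    rw [hφ', Fin.cons_succ]
  have hval : ∀ l : Fin n, P.1 (φ' l.succ) = exp (-(J' l : ℤ)) := by
    intro l
    rw [hφ's, Algebra.smul_def, map_mul, Place.val_algebraMap P (inv_ne_zero (ha l)), one_mul, hyv]
  have hmem : ∀ i, φ' i ∈ Submodule.span k (Set.range φ) := by
    intro i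
    refine Fin.cases ?_ (fun l => ?_) i
    · rw [hφ'0]; exact heff
    · rw [hφ's]; exact Submodule.smul_mem _ _ (hy l)
  have hli : LinearIndependent k φ' := by
    apply linearIndependent_of_ord (P := P) φ' (Fin.cons 0 (fun l => J' l))
    · intro a b hab
      revert hab
      refine Fin.cases ?_ (fun a' => ?_) a <;> refine Fin.cases ?_ (fun b' => ?_) b
      · intro h; exact absurd h (lt_irrefl _)
      · intro _; simp only [Fin.cons_zero, Fin.cons_succ]; exact hpos b'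
      · intro h; exact absurd h (Fin.not_lt_zero _)
      · intro h
        simp only [Fin.cons_succ]
        exact hJ'.1 (Fin.succ_lt_succ_iff.1 h)
    · intro i
      refine Fin.cases ?_ (fun l => ?_) i
      · rw [hφ'0, map_one]; simp
      · rw [hval l]; simp
  refine ⟨φ', ?_, hli, hφ'0, fun l => ⟨hval l, ?_⟩⟩
  · haveI : FiniteDimensional k (Submodule.span k (Set.range φ)) :=
      FiniteDimensional.span_of_finite k (Set.finite_range φ)
    apply Submodule.eq_of_le_of_finrank_eq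
    · rw [Submodule.span_le]
      rintro _ ⟨i, rfl⟩
      exact hmem i
    · rw [finrank_span_eq_card hli, finrank_span_eq_card hφ]
  · have hz : P.1 (φ' l.succ / t ^ J' l) ≤ 1 := by
      rw [map_div₀, hval, map_pow, ht, ← exp_nsmul, div_eq_mul_inv, ← exp_neg, ← exp_add]
      rw [← exp_zero, exp_le_exp]; simp
    rw [evalP_eq_coeff hε hz, coeff_div_pow hεt, hφ's]
    have : (ε ((co ε (y l) (J' l))⁻¹ • y l)).coeff (J' l : ℤ) =
        co ε ((co ε (y l) (J' l))⁻¹ • y l) (J' l) := rfl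
    rw [this, co_smul, inv_mul_cancel₀ (ha l), map_one]

theorem main12607 [IsAlgClosed k] (hK : IsFunctionField k K) (P : Place k K) {n : ℕ}
    (φ : Fin (n + 1) → K) (hφ : LinearIndependent k φ)
    (heff : (1 : K) ∈ Submodule.span k (Set.range φ)) (hnorm : ∀ i, P.1 (φ i) ≤ 1)
    (t : K) (ht : P.1 t = exp (-1)) (Ht : K →ₐ[k] K⟦X⟧) (hHt : LocRes.IsHasseFamily t Ht)
    (J' : Fin n → ℕ) (hJ' : IsOrders (IsLocalRing.ResidueField P.O) (hcolAt P Ht φ) J') :
    (∃ φ' : Fin (n + 1) → K,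
      Submodule.span k (Set.range φ') = Submodule.span k (Set.range φ) ∧
      P.1 (φ' 0) = 1 ∧ evalP P (φ' 0) = 1 ∧
      ∀ l : Fin n, P.1 (φ' l.succ) = exp (-(J' l : ℤ)) ∧
        evalP P (φ' l.succ / t ^ J' l) = 1) ∧
    ∀ j : ℕ, (j = 0 ∨ j ∈ Set.range J') ↔
      ∃ f ∈ Submodule.span k (Set.range φ), P.1 f = exp (-(j : ℤ)) := by
  constructor
  · obtain ⟨φ', h1, _, h3, h4⟩ := exists_adapted hK P φ hφ heff hnorm t ht Ht hHt J' hJ'
    refine ⟨φ', h1, ?_, ?_, h4⟩
    · rw [h3, map_one]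
    · rw [h3]
      have := evalP_algebraMap P (1 : k)
      rwa [map_one, map_one] at this
  · intro j
    rcases Nat.eq_zero_or_pos j with rfl | hj
    · constructor
      · intro _; exact ⟨1, heff, by simp⟩
      · intro _; exact Or.inl rfl
    · rw [← isJump_hcolAt_succ_iff hK P φ hnorm t ht Ht hHt j hj, ← hJ'.2 j]
      constructor
      · rintro (h | h)
        · omega
        · exact h
      · intro h; exact Or.inr h

end Groth.Agent.Helper27.Loc
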