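import Mathlib
import Groth.Agent.Lib.Helper27.LocC

set_option autoImplicit false

namespace Groth.Agent.Helper27.Loc

open PowerSeries WithZero FunFld
open scoped LaurentSeries
open Groth.Agent.Helper16.FF Groth.Agent.Helper27.Hasse Groth.Agent.Helper27.Expn

variable {k K : Type*} [Field k] [Field K] [Algebra k K]

theorem hasseD_smul (H : K →ₐ[k] K⟦X⟧) (j : ℕ) (c : k) (y : K) :
    LocRes.hasseD H j (c • y) = c • LocRes.hasseD H j y := by
  simp only [LocRes.hasseD_apply, map_smul]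
  rw [Algebra.smul_def, PowerSeries.algebraMap_apply, coeff_C_mul, Algebra.smul_def]

theorem hasseD_sum {ι : Type*} (s : Finset ι) (H : K →ₐ[k] K⟦X⟧) (j : ℕ) (f : ι → K) :
    LocRes.hasseD H j (∑ i ∈ s, f i) = ∑ i ∈ s, LocRes.hasseD H j (f i) := by
  simp only [LocRes.hasseD_apply, map_sum]

theorem wrMat_mul {n : ℕ} (τ : K →ₐ[k] K) (H : K →ₐ[k] K⟦X⟧) (φ φ' : Fin (n + 1) → K)
    (A : Matrix (Fin (n + 1)) (Fin (n + 1)) k) (hA : ∀ i, φ' i = ∑ j, A i j • φ j)
    (I : Fin n → ℕ) :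
    wrMat τ H φ' I = (A.map (algebraMap k K)) * wrMat τ H φ I := by
  ext i c
  rw [Matrix.mul_apply]
  refine Fin.cases ?_ (fun l => ?_) c
  · simp only [wrMat, Matrix.of_apply, Fin.cases_zero, Matrix.map_apply]
    rw [hA i, map_sum]
    refine Finset.sum_congr rfl fun j _ => ?_
    rw [map_smul, Algebra.smul_def]
  · simp only [wrMat, Matrix.of_apply, Fin.cases_succ, Matrix.map_apply]
    rw [hA i, hasseD_sum]
    refine Finset.sum_congr rfl fun j _ => ?_
    rw [hasseD_smul, Algebra.smul_def]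

theorem val_det_wrMat_le_of_span_le (P : Place k K) {n : ℕ} (τ : K →ₐ[k] K) (H : K →ₐ[k] K⟦X⟧)
    (φ φ' : Fin (n + 1) → K)
    (h : ∀ i, φ' i ∈ Submodule.span k (Set.range φ)) (I : Fin n → ℕ) :
    P.1 (wrMat τ H φ' I).det ≤ P.1 (wrMat τ H φ I).det := by
  choose A hA using fun i => (Submodule.mem_span_range_iff_exists_fun k).1 (h i)
  rw [wrMat_mul τ H φ φ' (Matrix.of A) (fun i => (hA i).symm) I, Matrix.det_mul, map_mul,
    ← RingHom.mapMatrix_apply, ← RingHom.map_det]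
  calc P.1 (algebraMap k K (Matrix.of A).det) * P.1 (wrMat τ H φ I).det
      ≤ 1 * P.1 (wrMat τ H φ I).det := mul_le_mul' (P.2.1 _) le_rfl
    _ = _ := one_mul _

theorem val_det_wrMat_eq_of_span_eq (P : Place k K) {n : ℕ} (τ : K →ₐ[k] K) (H : K →ₐ[k] K⟦X⟧)
    (φ φ' : Fin (n + 1) → K)
    (h : Submodule.span k (Set.range φ') = Submodule.span k (Set.range φ)) (I : Fin n → ℕ) :
    P.1 (wrMat τ H φ' I).det = P.1 (wrMat τ H φ I).det := by
  apply le_antisymm
  · exact val_det_wrMat_le_of_span_le P τ H φ φ'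
      (fun i => h ▸ Submodule.subset_span ⟨i, rfl⟩) I
  · exact val_det_wrMat_le_of_span_le P τ H φ' φ
      (fun i => h ▸ Submodule.subset_span ⟨i, rfl⟩) I

theorem evalP_det (P : Place k K) {N : ℕ} (U : Matrix (Fin N) (Fin N) K)
    (hU : ∀ l c, P.1 (U l c) ≤ 1) :
    P.1 U.det ≤ 1 ∧ evalP P U.det = (Matrix.of fun l c => evalP P (U l c)).det := by
  set U' : Matrix (Fin N) (Fin N) P.O :=
    Matrix.of fun l c => ⟨U l c, (Place.mem_O_iff P _).2 (hU l c)⟩ with hU'
  have h1 : U = U'.map P.O.subtype := by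
    ext l c; rfl
  have h2 : U.det = ((U'.det : P.O) : K) := by
    rw [h1, ← RingHom.mapMatrix_apply, ← RingHom.map_det]; rfl
  have h3 : P.1 U.det ≤ 1 := by
    rw [h2]; exact (Place.mem_O_iff P _).1 (U'.det).2
  refine ⟨h3, ?_⟩
  rw [evalP_of_le P h3]
  have h4 : (⟨U.det, (Place.mem_O_iff P _).2 h3⟩ : P.O) = U'.det := Subtype.ext h2
  rw [h4, RingHom.map_det]
  congr 1
  ext l c
  simp only [RingHom.mapMatrix_apply, Matrix.map_apply, Matrix.of_apply, hU']
  rw [evalP_of_le P (hU l c)]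

theorem evalP_pow (P : Place k K) {y : K} (hy : P.1 y ≤ 1) (m : ℕ) :
    P.1 (y ^ m) ≤ 1 ∧ evalP P (y ^ m) = evalP P y ^ m := by
  induction m with
  | zero =>
    refine ⟨by simp, ?_⟩
    have := evalP_algebraMap P (1 : k)
    simpa using this
  | succ m ih =>
    refine ⟨by rw [map_pow]; exact pow_le_one' hy _, ?_⟩
    rw [pow_succ, evalP_mul P ih.1 hy, ih.2, pow_succ]

theorem evalP_one (P : Place k K) : evalP P (1 : K) = 1 := by
  have := evalP_algebraMap P (1 : k)
  simpa using this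

section Lead

variable {P : Place k K} {ε : K →ₐ[k] k⸨X⸩}

/-- Leading term of a Hasse derivative. -/
theorem hasseD_lead (h1 : Module.finrank K (Ω[K⁄k]) = 1)
    (hε : LocRes.IsExpansionAt P.1 ε) {t : K} (ht : ε t = HahnSeries.single 1 1)
    (H : K →ₐ[k] K⟦X⟧) (hH : LocRes.IsHasseFamily t H) {y : K} (r : ℕ)
    (hy : P.1 y = exp (-(r : ℤ))) (i : ℕ) :
    P.1 (LocRes.hasseD H i y * t ^ i / t ^ r) ≤ 1 ∧
      evalP P (LocRes.hasseD H i y * t ^ i / t ^ r) =
        algebraMap k (IsLocalRing.ResidueField P.O) ((r.choose i : k) * co ε y r) := by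
  have hyint : P.1 y ≤ 1 := by rw [hy, ← exp_zero, exp_le_exp]; omega
  have hcoef := (val_eq_iff_co hε hyint r).1 hy
  have h2 : ε (LocRes.hasseD H i y * t ^ i / t ^ r) =
      LaurentSeries.hasseDeriv k i (ε y) * HahnSeries.single ((i : ℤ) - r) 1 := by
    rw [map_div₀, map_mul, map_pow, map_pow, ht, HahnSeries.single_pow, HahnSeries.single_pow,
      expansion_hasseD h1 k ε t ht H hH y i, mul_div_assoc]
    congr 1
    rw [div_eq_iff (by simp), HahnSeries.single_mul_single]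
    simp
  have hcoeff : ∀ m : ℤ, (ε (LocRes.hasseD H i y * t ^ i / t ^ r)).coeff m =
      Ring.choose (m + r) i • (ε y).coeff (m + r) := by
    intro m
    rw [h2]
    have := HahnSeries.coeff_mul_single_add (r := (1 : k))
      (x := LaurentSeries.hasseDeriv k i (ε y)) (a := m - ((i : ℤ) - r)) (b := (i : ℤ) - r)
    rw [sub_add_cancel, mul_one] at this
    rw [this, LaurentSeries.hasseDeriv_coeff]
    have e : m - ((i : ℤ) - r) + i = m + r := by ring
    rw [e]
  have hint : P.1 (LocRes.hasseD H i y * t ^ i / t ^ r) ≤ 1 := by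
    rw [← hε.1]
    have : (1 : WithZero (Multiplicative ℤ)) = exp (-(0 : ℤ)) := by simp
    rw [this, LaurentSeries.valuation_le_iff_coeff_lt_eq_zero k]
    intro m hm
    rw [hcoeff m]
    have hlt : m + r < r := by omega
    have h0 : (ε y).coeff (m + r) = 0 := by
      rcases lt_or_ge (m + r) 0 with h | h
      · exact coeff_neg_eq_zero hε hyint _ h
      · obtain ⟨q, hq⟩ : ∃ q : ℕ, m + (r : ℤ) = q := ⟨(m + r).toNat, by omega⟩
        rw [hq]
        exact hcoef.1 q (by omega)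
    rw [h0, smul_zero]
  refine ⟨hint, ?_⟩
  rw [evalP_eq_coeff hε hint, hcoeff 0, zero_add, Ring.choose_natCast]
  congr 1
  unfold co
  rw [natCast_zsmul, nsmul_eq_mul]

/-- Leading term of the image under an endomorphism fixing `P`. -/
theorem tau_lead {τ : K →ₐ[k] K} (hP : IsFixedPt τ P) {t : K} (ht : P.1 t = exp (-1))
    {y : K} (r : ℕ) (hy : P.1 y = exp (-(r : ℤ))) (hy1 : evalP P (y / t ^ r) = 1) :
    P.1 (τ t / t) ≤ 1 ∧ P.1 (τ y / t ^ r) ≤ 1 ∧
      evalP P (τ y / t ^ r) = evalP P (τ t / t) ^ r := by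
  have ht0 : t ≠ 0 := by
    intro h0; rw [h0, map_zero] at ht; exact exp_ne_zero ht.symm
  have hτt : P.1 (τ t / t) ≤ 1 := by
    have h1 : P.1 (τ t) < 1 := hP t (by rw [ht, ← exp_zero, exp_lt_exp]; norm_num)
    rw [lt_one_iff_le_exp] at h1
    rw [map_div₀, ht]
    exact (div_le_one₀ (by simp)).2 h1
  set u := y / t ^ r with hu
  have hu1 : P.1 u = 1 := by
    rw [hu, map_div₀, hy, map_pow, ht, ← exp_nsmul]
    rw [div_eq_one_iff_eq exp_ne_zero]
    congr 1; simp
  have hum : P.1 (u - 1) < 1 := by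
    have hle : P.1 (u - 1) ≤ 1 := Valuation.map_sub_le _ hu1.le (by simp)
    rw [← evalP_eq_zero_iff P hle, evalP_sub P hu1.le (by simp), hy1, evalP_one, sub_self]
  have hτu : τ u = 1 + τ (u - 1) := by rw [map_sub, map_one]; ring
  have hτum : P.1 (τ (u - 1)) < 1 := hP _ hum
  have hτu1 : P.1 (τ u) ≤ 1 := by
    rw [hτu]; exact Valuation.map_add_le _ (by simp) hτum.le
  have hτue : evalP P (τ u) = 1 := by
    rw [hτu, evalP_add P (by simp) hτum.le, evalP_one, (evalP_eq_zero_iff P hτum.le).2 hτum,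
      add_zero]
  have hy' : τ y / t ^ r = (τ t / t) ^ r * τ u := by
    have : y = t ^ r * u := by rw [hu]; field_simp
    conv_lhs => rw [this]
    rw [map_mul, map_pow, _root_.div_pow]
    field_simp
  have hpow := evalP_pow P hτt r
  refine ⟨hτt, ?_, ?_⟩
  · rw [hy', map_mul]; exact mul_le_one' hpow.1 hτu1
  · rw [hy', evalP_mul P hpow.1 hτu1, hpow.2, hτue, mul_one]

end Lead

end Groth.Agent.Helper27.Loc
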