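import Mathlib
import Groth.Agent.Lib.Helper27.LocE

set_option autoImplicit false

namespace Groth.Agent.Helper27.Loc

open PowerSeries WithZero FunFld
open scoped LaurentSeries
open Groth.Agent.Helper16.FF Groth.Agent.Helper27.Hasse Groth.Agent.Helper27.Expn

variable {k K : Type*} [Field k] [Field K] [Algebra k K]

/-- Determinant of a matrix whose first row is `(a, 0, …, 0)`. -/
theorem det_of_row_zero {R : Type*} [CommRing R] {n : ℕ}
    (A : Matrix (Fin (n + 1)) (Fin (n + 1)) R) (h : ∀ c : Fin n, A 0 c.succ = 0) :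
    A.det = A 0 0 * (A.submatrix Fin.succ Fin.succ).det := by
  rw [Matrix.det_succ_row_zero, Fin.sum_univ_succ]
  have : ∑ j : Fin n, (-1 : R) ^ ((j.succ : Fin (n + 1)) : ℕ) * A 0 j.succ *
      (A.submatrix Fin.succ j.succ.succAbove).det = 0 :=
    Finset.sum_eq_zero fun j _ => by rw [h j, mul_zero, zero_mul]
  rw [this, add_zero, Fin.succAbove_zero]
  simp

/-- Determinant of a matrix whose first column is `(a, 0, …, 0)`. -/
theorem det_of_col_zero {R : Type*} [CommRing R] {n : ℕ}
    (A : Matrix (Fin (n + 1)) (Fin (n + 1)) R) (h : ∀ l : Fin n, A l.succ 0 = 0) :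
    A.det = A 0 0 * (A.submatrix Fin.succ Fin.succ).det := by
  rw [Matrix.det_succ_column_zero, Fin.sum_univ_succ]
  have : ∑ j : Fin n, (-1 : R) ^ ((j.succ : Fin (n + 1)) : ℕ) * A j.succ 0 *
      (A.submatrix j.succ.succAbove Fin.succ).det = 0 :=
    Finset.sum_eq_zero fun j _ => by rw [h j, mul_zero, zero_mul]
  rw [this, add_zero, Fin.succAbove_zero]
  simp

/-- Determinant of a matrix scaled by rows and columns. -/
theorem det_scale {N : ℕ} (U : Matrix (Fin N) (Fin N) K) (v w : Fin N → K) :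
    (Matrix.of fun l c => v l * (w c * U l c)).det = (∏ l, v l) * ((∏ c, w c) * U.det) := by
  have h1 : (Matrix.of fun l c => v l * (w c * U l c)) =
      Matrix.of fun l c => v l * (Matrix.of fun l c => w c * U l c) l c := rfl
  rw [h1, Matrix.det_mul_column, Matrix.det_mul_row]

theorem val_prod_pow (P : Place k K) {t : K} (ht : P.1 t = exp (-1)) {N : ℕ} (r : Fin N → ℕ) :
    P.1 (∏ l, t ^ r l) = exp (-(∑ l, (r l : ℤ))) := by
  rw [Finset.prod_pow_eq_pow_sum, map_pow, ht, ← exp_nsmul]
  congr 1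
  simp

theorem main12605 [IsAlgClosed k] (hK : IsFunctionField k K) (τ : K →ₐ[k] K) (P : Place k K)
    (hP : IsFixedPt τ P) {n : ℕ} (φ : Fin (n + 1) → K) (hφ : LinearIndependent k φ)
    (heff : (1 : K) ∈ Submodule.span k (Set.range φ)) (hnorm : ∀ i, P.1 (φ i) ≤ 1)
    (t : K) (ht : P.1 t = exp (-1)) (Ht : K →ₐ[k] K⟦X⟧) (hHt : LocRes.IsHasseFamily t Ht)
    (J : Fin n → ℕ) (hJ : IsOrders (IsLocalRing.ResidueField P.O) (hcolAt P Ht φ) J)
    (I : Fin n → ℕ) :
    P.1 (wrMat τ Ht φ I).det ≤ exp (-(∑ l, ((J l : ℤ) - I l))) ∧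
    (((∀ l, 0 < I l) ∨ IsStrongFixedPt τ P) →
      (P.1 (wrMat τ Ht φ I).det = exp (-(∑ l, ((J l : ℤ) - I l))) ↔
        (binomMat k J I).det ≠ 0)) := by
  obtain ⟨ε, hε, hεt⟩ := exists_expansion hK P t ht
  have h1 := finrank_kaehler_of_isAlgClosed hK
  have hpos := orders_pos hK P φ hnorm t ht Ht hHt J hJ
  obtain ⟨φ', hspan, _, hφ'0, hφ'⟩ := exists_adapted hK P φ hφ heff hnorm t ht Ht hHt J hJ
  rw [← val_det_wrMat_eq_of_span_eq P τ Ht φ φ' hspan I]
  have ht0 : t ≠ 0 := by
    intro h0; rw [h0, map_zero] at ht; exact exp_ne_zero ht.symm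
  set r : Fin (n + 1) → ℕ := Fin.cons 0 J with hr
  set s : Fin (n + 1) → ℕ := Fin.cons 0 I with hs
  have hrv : ∀ l, P.1 (φ' l) = exp (-(r l : ℤ)) ∧ evalP P (φ' l / t ^ r l) = 1 := by
    intro l
    refine Fin.cases ?_ (fun l' => ?_) l
    · rw [hφ'0, hr]; simp [evalP_one]
    · rw [hr]; simp only [Fin.cons_succ]; exact hφ' l'
  have hinj : Function.Injective (algebraMap k (IsLocalRing.ResidueField P.O)) :=
    (algebraMap k _).injective
  have hco : ∀ l, co ε (φ' l) (r l) = 1 := by
    intro l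
    have hz : P.1 (φ' l / t ^ r l) ≤ 1 := by
      rw [map_div₀, (hrv l).1, map_pow, ht, ← exp_nsmul, div_eq_mul_inv, ← exp_neg, ← exp_add]
      rw [← exp_zero, exp_le_exp]; simp
    have := (hrv l).2
    rw [evalP_eq_coeff hε hz, coeff_div_pow hεt] at this
    apply hinj
    rw [map_one]; exact this
  set ā := evalP P (τ t / t) with hā
  set U : Matrix (Fin (n + 1)) (Fin (n + 1)) K :=
    Matrix.of fun l c => wrMat τ Ht φ' I l c * t ^ s c / t ^ r l with hU
  set Lead : Matrix (Fin (n + 1)) (Fin (n + 1)) (IsLocalRing.ResidueField P.O) :=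
    Matrix.of fun l c => Fin.cases (motive := fun _ => IsLocalRing.ResidueField P.O) (ā ^ r l)
      (fun c' => algebraMap k (IsLocalRing.ResidueField P.O) (((r l).choose (I c') : ℕ) : k)) c
    with hLead
  have hUL : ∀ l c, P.1 (U l c) ≤ 1 ∧ evalP P (U l c) = Lead l c := by
    intro l c
    refine Fin.cases ?_ (fun c' => ?_) c
    · have hU0 : U l 0 = τ (φ' l) / t ^ r l := by
        simp only [hU, hs, Matrix.of_apply, wrMat, Fin.cases_zero, Fin.cons_zero, pow_zero, mul_one]
      have := tau_lead hP ht (r l) (hrv l).1 (hrv l).2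
      rw [hU0]
      refine ⟨this.2.1, ?_⟩
      rw [this.2.2]
      simp only [hLead, Matrix.of_apply, Fin.cases_zero]
      rw [hā]
    · have hUs : U l c'.succ = LocRes.hasseD Ht (I c') (φ' l) * t ^ I c' / t ^ r l := by
        simp only [hU, hs, Matrix.of_apply, wrMat, Fin.cases_succ, Fin.cons_succ]
      have := hasseD_lead h1 hε hεt Ht hHt (r l) (hrv l).1 (I c')
      rw [hUs]
      refine ⟨this.1, ?_⟩
      rw [this.2, hco l, mul_one]
      simp only [hLead, Matrix.of_apply, Fin.cases_succ]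
  have hE : wrMat τ Ht φ' I = Matrix.of fun l c => t ^ r l * ((t ^ s c)⁻¹ * U l c) := by
    ext l c
    simp only [hU, Matrix.of_apply]
    field_simp
  have hdetE : (wrMat τ Ht φ' I).det = (∏ l, t ^ r l) * ((∏ c, (t ^ s c)⁻¹) * U.det) := by
    rw [hE]; exact det_scale U _ _
  have hsum : (∑ l, (r l : ℤ)) - ∑ c, (s c : ℤ) = ∑ l, ((J l : ℤ) - I l) := by
    rw [Fin.sum_univ_succ, Fin.sum_univ_succ, hr, hs]
    simp only [Fin.cons_zero, Fin.cons_succ, Finset.sum_sub_distrib]
    ring
  have hval : P.1 (wrMat τ Ht φ' I).det = exp (-(∑ l, ((J l : ℤ) - I l))) * P.1 U.det := by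
    rw [hdetE, map_mul, map_mul, val_prod_pow P ht r, Finset.prod_inv_distrib, map_inv₀,
      val_prod_pow P ht s, ← exp_neg, ← mul_assoc, ← exp_add, ← hsum]
    congr 2
    ring
  have hdet := evalP_det P U (fun l c => (hUL l c).1)
  have hLeadeq : (Matrix.of fun l c => evalP P (U l c)) = Lead := by
    ext l c; exact (hUL l c).2
  rw [hLeadeq] at hdet
  refine ⟨?_, fun hcase => ?_⟩
  · rw [hval]
    calc exp (-(∑ l, ((J l : ℤ) - I l))) * P.1 U.det
        ≤ exp (-(∑ l, ((J l : ℤ) - I l))) * 1 := mul_le_mul' le_rfl hdet.1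
      _ = _ := mul_one _
  · have hLdet : Lead.det =
        algebraMap k (IsLocalRing.ResidueField P.O) (binomMat k J I).det := by
      have hsub : Lead.submatrix Fin.succ Fin.succ =
          (binomMat k J I).map (algebraMap k (IsLocalRing.ResidueField P.O)) := by
        ext l c
        simp only [hLead, hr, Matrix.submatrix_apply, Matrix.of_apply, Fin.cases_succ,
          Fin.cons_succ, binomMat, Matrix.map_apply]
      have h00 : Lead 0 0 = 1 := by
        simp only [hLead, hr, Matrix.of_apply, Fin.cases_zero, Fin.cons_zero, pow_zero]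
      rcases hcase with hIpos | hstrong
      · rw [det_of_row_zero Lead (fun c => by
          simp only [hLead, hr, Matrix.of_apply, Fin.cases_succ, Fin.cons_zero]
          rw [Nat.choose_eq_zero_of_lt (hIpos c)]; simp), h00, one_mul, hsub,
          ← RingHom.mapMatrix_apply, ← RingHom.map_det]
      · have hā0 : ā = 0 := by
          have h2 : P.1 (τ t) ≤ exp (-2) :=
            hstrong t (by rw [ht, ← exp_zero, exp_lt_exp]; norm_num)
          have h3 : P.1 (τ t / t) < 1 := by
            rw [map_div₀, ht, div_lt_one₀ (by simp)]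
            exact lt_of_le_of_lt h2 (by rw [exp_lt_exp]; norm_num)
          exact (evalP_eq_zero_iff P h3.le).2 h3
        rw [det_of_col_zero Lead (fun l => by
          simp only [hLead, hr, Matrix.of_apply, Fin.cases_zero, Fin.cons_succ]
          rw [hā0, zero_pow (by have := hpos l; omega)]), h00, one_mul, hsub,
          ← RingHom.mapMatrix_apply, ← RingHom.map_det]
    rw [hval]
    have hexp : exp (-(∑ l, ((J l : ℤ) - I l))) ≠ 0 := exp_ne_zero
    constructor
    · intro heq hb
      have h5 : P.1 U.det = 1 := by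
        have := heq
        conv_rhs at this => rw [← mul_one (exp (-(∑ l, ((J l : ℤ) - I l))))]
        exact mul_left_cancel₀ hexp this
      have h6 : evalP P U.det = 0 := by rw [hdet.2, hLdet, hb, map_zero]
      rw [evalP_eq_zero_iff P hdet.1, h5] at h6
      exact lt_irrefl _ h6
    · intro hb
      have h6 : evalP P U.det ≠ 0 := by
        rw [hdet.2, hLdet]
        exact fun h0 => hb (hinj (by rw [h0, map_zero]))
      have h7 : ¬ P.1 U.det < 1 := fun h => h6 ((evalP_eq_zero_iff P hdet.1).2 h)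
      have h5 : P.1 U.det = 1 := le_antisymm hdet.1 (not_lt.1 h7)
      rw [h5, mul_one]

end Groth.Agent.Helper27.Loc
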