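import Mathlib
import Groth.Agent.Lib.Helper27.LocE

set_option autoImplicit false

namespace Groth.Agent.Helper27.Loc

open PowerSeries WithZero FunFld
open scoped LaurentSeries
open Groth.Agent.Helper16.FF Groth.Agent.Helper27.Hasse Groth.Agent.Helper27.Expn

variable {k K : Type*} [Field k] [Field K] [Algebra k K]

theorem hcol_of_sum {ι : Type*} [Fintype ι] (τ : K →ₐ[k] K) (H : K →ₐ[k] K⟦X⟧) (φ φ' : ι → K)
    (A : ι → ι → k) (hA : ∀ i, φ' i = ∑ j, A i j • φ j) (m : ℕ) (i : ι) :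
    hcol τ H φ' m i = ∑ j, algebraMap k K (A i j) * hcol τ H φ m j := by
  cases m with
  | zero =>
    show τ (φ' i) = ∑ j, algebraMap k K (A i j) * τ (φ j)
    rw [hA i, map_sum]
    refine Finset.sum_congr rfl fun j _ => ?_
    rw [map_smul, Algebra.smul_def]
  | succ m =>
    show LocRes.hasseD H m (φ' i) = ∑ j, algebraMap k K (A i j) * LocRes.hasseD H m (φ j)
    rw [hA i, hasseD_sum]
    refine Finset.sum_congr rfl fun j _ => ?_
    rw [hasseD_smul, Algebra.smul_def]

theorem isJump_hcol_of_span {ι : Type*} [Fintype ι] (τ : K →ₐ[k] K) (H : K →ₐ[k] K⟦X⟧)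
    (φ φ' : ι → K) (h : ∀ i, φ' i ∈ Submodule.span k (Set.range φ)) (m : ℕ)
    (hj : IsJump K (hcol τ H φ') m) : IsJump K (hcol τ H φ) m := by
  choose A hA using fun i => (Submodule.mem_span_range_iff_exists_fun k).1 (h i)
  have hA' : ∀ i, φ' i = ∑ j, A i j • φ j := fun i => (hA i).symm
  rw [isJump_iff_exists_dot] at hj ⊢
  obtain ⟨l, h1, h2⟩ := hj
  have key : ∀ m', ∑ i, l i * hcol τ H φ' m' i =
      ∑ j, (∑ i, l i * algebraMap k K (A i j)) * hcol τ H φ m' j := by
    intro m'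
    have : ∀ i, l i * hcol τ H φ' m' i =
        ∑ j, l i * algebraMap k K (A i j) * hcol τ H φ m' j := by
      intro i
      rw [hcol_of_sum τ H φ φ' A hA' m' i, Finset.mul_sum]
      exact Finset.sum_congr rfl fun j _ => by ring
    rw [Finset.sum_congr rfl fun i _ => this i, Finset.sum_comm]
    exact Finset.sum_congr rfl fun j _ => by rw [Finset.sum_mul]
  refine ⟨fun j => ∑ i, l i * algebraMap k K (A i j), fun m' hm' => ?_, ?_⟩
  · rw [← key]; exact h1 m' hm'
  · rw [← key]; exact h2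

theorem isOrders_hcol_iff_of_span_eq {ι : Type*} [Fintype ι] (τ : K →ₐ[k] K) (H : K →ₐ[k] K⟦X⟧)
    (φ φ' : ι → K) (h : Submodule.span k (Set.range φ') = Submodule.span k (Set.range φ))
    {n : ℕ} (J : Fin n → ℕ) :
    IsOrders K (hcol τ H φ') J ↔ IsOrders K (hcol τ H φ) J := by
  have h1 : ∀ m, IsJump K (hcol τ H φ') m ↔ IsJump K (hcol τ H φ) m := fun m =>
    ⟨isJump_hcol_of_span τ H φ φ' (fun i => h ▸ Submodule.subset_span ⟨i, rfl⟩) m,
     isJump_hcol_of_span τ H φ' φ (fun i => h ▸ Submodule.subset_span ⟨i, rfl⟩) m⟩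
  unfold IsOrders
  simp only [h1]

theorem hasseD_mul_eq {t : K} (H : K →ₐ[k] K⟦X⟧) (hH : LocRes.IsHasseFamily t H) (y f : K)
    (j : ℕ) :
    LocRes.hasseD H j (y * f) =
      y * LocRes.hasseD H j f +
        ∑ b ∈ Finset.range j, LocRes.hasseD H (j - b) y * LocRes.hasseD H b f := by
  simp only [LocRes.hasseD_apply]
  rw [mul_comm y f, map_mul, coeff_mul,
    Finset.Nat.sum_antidiagonal_eq_sum_range_succ (fun a b => coeff a (H f) * coeff b (H y)),
    Finset.sum_range_succ, Nat.sub_self, coeff_zero_eq_constantCoeff_apply, hH.2, add_comm]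
  congr 1
  · ring
  · exact Finset.sum_congr rfl fun b _ => mul_comm _ _

theorem isOrders_hcol_smul_iff {ι : Type*} {t : K} (τ : K →ₐ[k] K) (H : K →ₐ[k] K⟦X⟧)
    (hH : LocRes.IsHasseFamily t H) (φ : ι → K) (y : K) (hy : y ≠ 0) {n : ℕ} (J : Fin n → ℕ) :
    IsOrders K (hcol τ H (fun i => y * φ i)) J ↔ IsOrders K (hcol τ H φ) J := by
  apply isOrders_iff_of_tri (hcol τ H φ) (hcol τ H (fun i => y * φ i))
    (fun m => (Nat.casesOn m (τ y) (fun _ => y) : K))
  · intro m
    cases m with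
    | zero => exact (_root_.map_ne_zero τ).2 hy
    | succ j => exact hy
  · intro m
    cases m with
    | zero =>
      have : hcol τ H (fun i => y * φ i) 0 - τ y • hcol τ H φ 0 = 0 := by
        funext i
        show τ (y * φ i) - τ y * τ (φ i) = 0
        rw [map_mul, sub_self]
      show hcol τ H (fun i => y * φ i) 0 - τ y • hcol τ H φ 0 ∈ _
      rw [this]; exact Submodule.zero_mem _
    | succ j =>
      have key : hcol τ H (fun i => y * φ i) (j + 1) - y • hcol τ H φ (j + 1) =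
          ∑ b ∈ Finset.range j, LocRes.hasseD H (j - b) y • hcol τ H φ (b + 1) := by
        funext i
        show LocRes.hasseD H j (y * φ i) - y * LocRes.hasseD H j (φ i) = _
        rw [hasseD_mul_eq H hH, add_sub_cancel_left, Finset.sum_apply]
        rfl
      show hcol τ H (fun i => y * φ i) (j + 1) - y • hcol τ H φ (j + 1) ∈ _
      rw [key]
      refine Submodule.sum_mem _ fun b hb => Submodule.smul_mem _ _ (Submodule.subset_span ?_)
      exact ⟨b + 1, by simp only [Set.mem_Iio]; have := Finset.mem_range.1 hb; omega, rfl⟩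

section Bound

variable {P : Place k K} {ε : K →ₐ[k] k⸨X⸩}

/-- General bound: a Hasse derivative of order `i` lowers the order by at most `i`. -/
theorem val_hasseD_le (h1 : Module.finrank K (Ω[K⁄k]) = 1)
    (hε : LocRes.IsExpansionAt P.1 ε) {t : K} (ht : ε t = HahnSeries.single 1 1)
    (H : K →ₐ[k] K⟦X⟧) (hH : LocRes.IsHasseFamily t H) (y : K) (i : ℕ) :
    P.1 (LocRes.hasseD H i y * t ^ i) ≤ P.1 y := by
  rcases eq_or_ne y 0 with rfl | hy0
  · simp [LocRes.hasseD_apply]
  have hvy : P.1 y ≠ 0 := (Valuation.ne_zero_iff _).2 hy0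
  obtain ⟨a, ha⟩ : ∃ a : ℤ, P.1 y = exp (-a) := ⟨-log (P.1 y), by rw [neg_neg, exp_log hvy]⟩
  rw [ha, ← hε.1, LaurentSeries.valuation_le_iff_coeff_lt_eq_zero k]
  intro m hm
  have h2 : ε (LocRes.hasseD H i y * t ^ i) =
      LaurentSeries.hasseDeriv k i (ε y) * HahnSeries.single (i : ℤ) 1 := by
    rw [map_mul, map_pow, ht, HahnSeries.single_pow, expansion_hasseD h1 k ε t ht H hH y i]
    simp
  have := HahnSeries.coeff_mul_single_add (r := (1 : k))
    (x := LaurentSeries.hasseDeriv k i (ε y)) (a := m - (i : ℤ)) (b := (i : ℤ))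
  rw [sub_add_cancel, mul_one] at this
  rw [h2, this, LaurentSeries.hasseDeriv_coeff, sub_add_cancel]
  have h3 : Valued.v (ε y) ≤ exp (-a) := by rw [hε.1, ha]
  rw [(LaurentSeries.valuation_le_iff_coeff_lt_eq_zero k).1 h3 m hm, smul_zero]

end Bound

end Groth.Agent.Helper27.Loc
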