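import Mathlib
import Groth.Agent.Lib.Helper27.LocF
import Groth.Agent.Lib.Helper27.LocG
import Groth.Agent.S12601

set_option autoImplicit false

namespace Groth.Agent.Helper27.Loc

open PowerSeries WithZero FunFld
open scoped LaurentSeries
open Groth.Agent.Helper16.FF Groth.Agent.Helper27.Hasse Groth.Agent.Helper27.Expn

variable {k K : Type*} [Field k] [Field K] [Algebra k K]

theorem det_binomMat_self (R : Type*) [CommRing R] {n : ℕ} (I : Fin n → ℕ) (hI : StrictMono I) :
    (binomMat R I I).det = 1 := by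
  rw [Matrix.det_of_isLowerTriangular]
  · refine Finset.prod_eq_one fun i _ => ?_
    simp [binomMat]
  · intro r s hrs
    have hlt : r < s := hrs
    simp only [binomMat, Matrix.of_apply]
    rw [Nat.choose_eq_zero_of_lt (hI hlt)]
    simp

theorem main12606 [IsAlgClosed k] (hK : IsFunctionField k K) (τ : K →ₐ[k] K) (P : Place k K)
    (hP : IsStrongFixedPt τ P) {n : ℕ} (hn : 0 < n) (φ : Fin (n + 1) → K)
    (hφ : LinearIndependent k φ)
    (heff : (1 : K) ∈ Submodule.span k (Set.range φ)) (hnorm : ∀ i, P.1 (φ i) ≤ 1)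
    (t : K) (ht : P.1 t = WithZero.exp (-1)) (Ht : K →ₐ[k] K⟦X⟧) (hHt : LocRes.IsHasseFamily t Ht)
    (J : Fin n → ℕ) (hJ : IsOrders K (hcol τ Ht φ) J)
    (J' : Fin n → ℕ) (hJ' : IsOrders (IsLocalRing.ResidueField P.O) (hcolAt P Ht φ) J') :
    ∀ l, J l + J' ⟨0, hn⟩ ≤ J' l := by
  have hfix : IsFixedPt τ P := fun z hz =>
    lt_of_le_of_lt (hP z hz) (by rw [← exp_zero, exp_lt_exp]; norm_num)
  obtain ⟨ε, hε, hεt⟩ := exists_expansion hK P t ht
  have h1 := finrank_kaehler_of_isAlgClosed hK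
  have hpos := orders_pos hK P φ hnorm t ht Ht hHt J' hJ'
  obtain ⟨φ', hspan, hli, hφ'0, hφ'⟩ := exists_adapted hK P φ hφ heff hnorm t ht Ht hHt J' hJ'
  have ht0 : t ≠ 0 := by
    intro h0; rw [h0, map_zero] at ht; exact exp_ne_zero ht.symm
  have htlt : P.1 t < 1 := by rw [ht, ← exp_zero, exp_lt_exp]; norm_num
  set l0 : Fin n := ⟨0, hn⟩ with hl0
  set j1 := J' l0 with hj1
  set f1 := φ' l0.succ with hf1
  have hf1v : P.1 f1 = WithZero.exp (-(j1 : ℤ)) := (hφ' l0).1
  have hf1e : evalP P (f1 / t ^ j1) = 1 := (hφ' l0).2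
  have hf10 : f1 ≠ 0 := by
    intro h0; rw [h0, map_zero] at hf1v; exact exp_ne_zero hf1v.symm
  have hj1pos : 1 ≤ j1 := hpos l0
  set y := f1⁻¹ with hy
  have hy0 : y ≠ 0 := inv_ne_zero hf10
  have hyv : P.1 y = WithZero.exp (j1 : ℤ) := by rw [hy, map_inv₀, hf1v, ← exp_neg, neg_neg]
  set ψ : Fin (n + 1) → K := fun i => y * φ' i with hψ
  have hIle : ∀ l, j1 ≤ J' l := fun l => hJ'.1.monotone (Fin.mk_le_of_le_val (Nat.zero_le _))
  set I : Fin n → ℕ := fun l => J' l - j1 with hI
  have hIcast : ∀ l, ((I l : ℕ) : ℤ) = (J' l : ℤ) - j1 := fun l => by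
    rw [hI]; exact Nat.cast_sub (hIle l)
  have hImono : StrictMono I := by
    intro a b hab
    have := hJ'.1 hab
    have ha := hIle a
    simp only [hI]; omega
  have hψorders : IsOrders K (hcol τ Ht ψ) J :=
    (isOrders_hcol_smul_iff τ Ht hHt φ' y hy0 J).2
      ((isOrders_hcol_iff_of_span_eq τ Ht φ φ' hspan J).2 hJ)
  have hψli : LinearIndependent k ψ := by
    have := hli.map' (LinearMap.mulLeft k y)
      (LinearMap.ker_eq_bot.2 (mul_right_injective₀ hy0))
    exact this
  -- unit quotients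
  have hunit : ∀ l : Fin n, P.1 (φ' l.succ / t ^ J' l) = 1 := by
    intro l
    rw [map_div₀, (hφ' l).1, map_pow, ht, ← exp_nsmul, div_eq_one_iff_eq exp_ne_zero]
    congr 1; simp
  have hinj : Function.Injective (algebraMap k (IsLocalRing.ResidueField P.O)) :=
    (algebraMap k _).injective
  -- the rows ψ l.succ
  have hrow : ∀ l : Fin n, P.1 (ψ l.succ) = WithZero.exp (-(I l : ℤ)) ∧
      evalP P (ψ l.succ / t ^ I l) = 1 := by
    intro l
    constructor
    · simp only [hψ]
      rw [map_mul, hyv, (hφ' l).1, ← exp_add, hIcast]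
      congr 1; ring
    · have hq : ψ l.succ / t ^ I l = (φ' l.succ / t ^ J' l) / (f1 / t ^ j1) := by
        have hJsplit : J' l = I l + j1 := by simp only [hI]; have := hIle l; omega
        simp only [hψ, hy]
        rw [hJsplit, pow_add]
        field_simp
      have hb1 : P.1 (f1 / t ^ j1) = 1 := hunit l0
      have hq1 : P.1 ((φ' l.succ / t ^ J' l) / (f1 / t ^ j1)) ≤ 1 := by
        rw [map_div₀, hunit l, hb1, div_one]
      have hmul := evalP_mul P hq1 hb1.le
      have hb0 : f1 / t ^ j1 ≠ 0 := div_ne_zero hf10 (pow_ne_zero _ ht0)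
      rw [div_mul_cancel₀ _ hb0, (hφ' l).2, hf1e, mul_one] at hmul
      rw [hq]; exact hmul.symm
  have hco : ∀ l : Fin n, co ε (ψ l.succ) (I l) = 1 := by
    intro l
    have hz : P.1 (ψ l.succ / t ^ I l) ≤ 1 := by
      rw [map_div₀, (hrow l).1, map_pow, ht, ← exp_nsmul, div_eq_mul_inv, ← exp_neg, ← exp_add]
      rw [← exp_zero, exp_le_exp]; simp
    have := (hrow l).2
    rw [evalP_eq_coeff hε hz, coeff_div_pow hεt] at this
    apply hinj
    rw [map_one]; exact this
  -- τ f1 is small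
  have hτf1 : P.1 (τ f1) ≤ WithZero.exp (-(j1 : ℤ) - 1) := by
    have hlead := tau_lead hfix ht j1 hf1v hf1e
    have hā0 : evalP P (τ t / t) = 0 := by
      have h2 : P.1 (τ t) ≤ WithZero.exp (-2) := hP t htlt
      have h3 : P.1 (τ t / t) < 1 := by
        rw [map_div₀, ht, div_lt_one₀ (by simp)]
        exact lt_of_le_of_lt h2 (by rw [exp_lt_exp]; norm_num)
      exact (evalP_eq_zero_iff P h3.le).2 h3
    have h4 : P.1 (τ f1 / t ^ j1) < 1 := by
      rw [← evalP_eq_zero_iff P hlead.2.1, hlead.2.2, hā0, zero_pow (by omega)]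
    rw [lt_one_iff_le_exp, map_div₀, map_pow, ht, ← exp_nsmul, div_le_iff₀ (by simp),
      ← exp_add] at h4
    refine le_trans h4 (le_of_eq ?_)
    congr 1
    simp; ring
  -- the scaled matrix
  set E := wrMat τ Ht ψ I with hE
  set aa : Fin (n + 1) → K := Fin.cons (τ f1) (fun l => (t ^ I l)⁻¹) with haa
  set bb : Fin (n + 1) → K := Fin.cons 1 (fun c => t ^ I c) with hbb
  set U : Matrix (Fin (n + 1)) (Fin (n + 1)) K :=
    Matrix.of fun l c => aa l * (bb c * E l c) with hU
  have hU00 : U 0 0 = 1 := by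
    simp only [hU, haa, hbb, hE, Matrix.of_apply, Fin.cons_zero, wrMat, Fin.cases_zero, one_mul,
      hψ]
    rw [hφ'0, mul_one, ← map_mul, hy, mul_inv_cancel₀ hf10, map_one]
  have hU0s : ∀ c : Fin n, P.1 (U 0 c.succ) < 1 := by
    intro c
    have hUe : U 0 c.succ = τ f1 * (LocRes.hasseD Ht (I c) y * t ^ I c) := by
      simp only [hU, haa, hbb, hE, Matrix.of_apply, Fin.cons_zero, Fin.cons_succ, wrMat,
        Fin.cases_succ, hψ]
      rw [hφ'0, mul_one]; ring
    rw [hUe, map_mul]
    have h5 := val_hasseD_le h1 hε hεt Ht hHt y (I c)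
    calc P.1 (τ f1) * P.1 (LocRes.hasseD Ht (I c) y * t ^ I c)
        ≤ WithZero.exp (-(j1 : ℤ) - 1) * WithZero.exp (j1 : ℤ) := mul_le_mul' hτf1 (hyv ▸ h5)
      _ = WithZero.exp (-1) := by rw [← exp_add]; congr 1; ring
      _ < 1 := by rw [← exp_zero, exp_lt_exp]; norm_num
  have hUs0 : ∀ l : Fin n, P.1 (U l.succ 0) ≤ 1 := by
    intro l
    have hUe : U l.succ 0 = τ (ψ l.succ) / t ^ I l := by
      simp only [hU, haa, hbb, hE, Matrix.of_apply, Fin.cons_zero, Fin.cons_succ, wrMat,
        Fin.cases_zero, one_mul]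
      rw [div_eq_inv_mul]
    rw [hUe]
    exact (tau_lead hfix ht (I l) (hrow l).1 (hrow l).2).2.1
  have hUss : ∀ l c : Fin n, P.1 (U l.succ c.succ) ≤ 1 ∧
      evalP P (U l.succ c.succ) =
        algebraMap k (IsLocalRing.ResidueField P.O) (((I l).choose (I c) : ℕ) : k) := by
    intro l c
    have hUe : U l.succ c.succ = LocRes.hasseD Ht (I c) (ψ l.succ) * t ^ I c / t ^ I l := by
      simp only [hU, haa, hbb, hE, Matrix.of_apply, Fin.cons_succ, wrMat, Fin.cases_succ]
      rw [div_eq_inv_mul]; ring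
    have := hasseD_lead h1 hε hεt Ht hHt (I l) (hrow l).1 (I c)
    rw [hUe]
    refine ⟨this.1, ?_⟩
    rw [this.2, hco l, mul_one]
  have hUint : ∀ l c, P.1 (U l c) ≤ 1 := by
    intro l c
    refine Fin.cases ?_ (fun l' => ?_) l <;> refine Fin.cases ?_ (fun c' => ?_) c
    · rw [hU00, map_one]
    · exact (hU0s c').le
    · exact hUs0 l'
    · exact (hUss l' c').1
  have hdet := evalP_det P U hUint
  set Lead : Matrix (Fin (n + 1)) (Fin (n + 1)) (IsLocalRing.ResidueField P.O) :=
    Matrix.of fun l c => evalP P (U l c) with hLead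
  have hLdet : Lead.det = 1 := by
    rw [det_of_row_zero Lead (fun c => by
      simp only [hLead, Matrix.of_apply]
      exact (evalP_eq_zero_iff P (hU0s c).le).2 (hU0s c))]
    have h00 : Lead 0 0 = 1 := by
      simp only [hLead, Matrix.of_apply]; rw [hU00, evalP_one]
    have hsub : Lead.submatrix Fin.succ Fin.succ =
        (binomMat k I I).map (algebraMap k (IsLocalRing.ResidueField P.O)) := by
      ext l c
      simp only [hLead, Matrix.submatrix_apply, Matrix.of_apply, binomMat, Matrix.map_apply]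
      exact (hUss l c).2
    rw [h00, one_mul, hsub, ← RingHom.mapMatrix_apply, ← RingHom.map_det,
      det_binomMat_self k I hImono, map_one]
  have hUdet : U.det ≠ 0 := by
    intro h0
    have h6 := hdet.2
    rw [hLdet, h0] at h6
    have h7 : evalP P (0 : K) = 0 := by
      have := evalP_algebraMap P (0 : k)
      simpa using this
    rw [h7] at h6
    exact zero_ne_one h6
  have hEdet : E.det ≠ 0 := by
    intro h0
    apply hUdet
    rw [hU, det_scale E aa bb, h0, mul_zero, mul_zero]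
  have hres := Groth.Agent.S12601.result k K hK ψ hψli τ t Ht hHt J hψorders I hImono hEdet
  intro l
  have h8 := hres l
  have h9 := hIle l
  simp only [hI] at h8
  omega

end Groth.Agent.Helper27.Loc
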