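import Mathlib
import Groth.Agent.Lib.Helper27.LocH
import Groth.Agent.Lib.Helper27.DExpF
import Groth.Agent.Lib.Helper27.HasseG
import Groth.Agent.Lib.Helper16.FF.MapDiv
import Groth.Agent.Lib.Helper16.FF.Div

set_option autoImplicit false

namespace Groth.Agent.Helper27.Loc

open PowerSeries FunFld
open scoped LaurentSeries
open Groth.Agent.Helper16.FF Groth.Agent.Helper27.Hasse Groth.Agent.Helper27.Expn

variable {k K : Type*} [Field k] [Field K] [Algebra k K]

theorem divDiff_apply_of_unif (Φ : Place k K → (K →ₐ[k] LaurentSeries k)) (P : Place k K)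
    (hΦ : LocRes.IsExpansionAt P.1 (Φ P)) (t : K) (ht : P.1 t = WithZero.exp (-1)) :
    divDiff Φ 1 t P = 0 := by
  classical
  unfold divDiff
  split_ifs with h
  · show LocRes.ordDiff (Φ P) 1 t = 0
    unfold LocRes.ordDiff LocRes.vDiff
    rw [map_one, one_mul, Groth.Agent.Helper27.DExp.val_D_unif _ (by rw [hΦ.1, ht])]
    simp
  · rfl

theorem ord_nonneg_of_le_one (P : Place k K) {x : K} (hx : P.1 x ≤ 1) : 0 ≤ P.ord x := by
  unfold Place.ord
  rcases eq_or_ne x 0 with rfl | h0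
  · simp
  · have hv : P.1 x ≠ 0 := (Valuation.ne_zero_iff _).2 h0
    obtain ⟨a, ha⟩ : ∃ a : ℤ, P.1 x = WithZero.exp a :=
      ⟨WithZero.log (P.1 x), (WithZero.exp_log hv).symm⟩
    rw [ha] at hx ⊢
    have h1 : WithZero.exp a ≤ WithZero.exp (0 : ℤ) := by rw [WithZero.exp_zero]; exact hx
    rw [WithZero.exp_le_exp] at h1
    rw [WithZero.log_exp]; omega

theorem ord_eq_zero_of_eq_one (P : Place k K) {x : K} (hx : P.1 x = 1) : P.ord x = 0 := by
  unfold Place.ord
  rw [hx]; simp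

theorem mapDiv_apply_eq_zero (hK : IsFunctionField k K) {ι : Type*} [Fintype ι] [Nonempty ι]
    (φ : ι → K) (P : Place k K) (hint : ∀ i, P.1 (φ i) ≤ 1) (hunit : ∃ i, P.1 (φ i) = 1) :
    mapDiv k φ P = 0 := by
  rw [mapDiv_apply hK, neg_eq_zero]
  apply le_antisymm
  · obtain ⟨i, hi⟩ := hunit
    calc Finset.univ.inf' Finset.univ_nonempty (fun i => P.ord (φ i)) ≤ P.ord (φ i) :=
          Finset.inf'_le _ (Finset.mem_univ i)
      _ = 0 := ord_eq_zero_of_eq_one P hi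
  · exact Finset.le_inf' _ _ fun i _ => ord_nonneg_of_le_one P (hint i)

theorem exists_unit_of_one_mem (P : Place k K) {ι : Type*} [Fintype ι] (φ : ι → K)
    (hint : ∀ i, P.1 (φ i) ≤ 1) (heff : (1 : K) ∈ Submodule.span k (Set.range φ)) :
    ∃ i, P.1 (φ i) = 1 := by
  by_contra hno
  push Not at hno
  obtain ⟨c, hc⟩ := (Submodule.mem_span_range_iff_exists_fun k).1 heff
  have h1 : P.1 (∑ i, c i • φ i) < 1 := by
    rw [lt_one_iff_le_exp]
    apply Valuation.map_sum_le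
    intro i _
    rw [Algebra.smul_def, map_mul]
    have hi : P.1 (φ i) ≤ WithZero.exp (-1) :=
      (lt_one_iff_le_exp _).1 (lt_of_le_of_ne (hint i) (hno i))
    calc P.1 (algebraMap k K (c i)) * P.1 (φ i) ≤ 1 * WithZero.exp (-1) :=
          mul_le_mul' (P.2.1 _) hi
      _ = _ := one_mul _
  rw [hc, map_one] at h1
  exact lt_irrefl _ h1

theorem tau_integral [IsAlgClosed k] (hK : IsFunctionField k K) {τ : K →ₐ[k] K} {P : Place k K}
    (hP : IsFixedPt τ P) {z : K} (hz : P.1 z ≤ 1) : P.1 (τ z) ≤ 1 := by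
  obtain ⟨c, hc⟩ := exists_const_sub_lt_one hK (Place.deg_eq_one hK P) hz
  have h1 := hP _ hc
  have : τ z = τ (z - algebraMap k K c) + algebraMap k K c := by
    rw [map_sub, τ.commutes]; ring
  rw [this]
  exact Valuation.map_add_le _ h1.le (P.2.1 c)

/-- The coefficient at `P` of the Weierstrass divisor, for a normalized effective tuple and a
local parameter. -/
theorem wDiv_apply [IsAlgClosed k] (hK : IsFunctionField k K) (τ : K →ₐ[k] K) (P : Place k K)
    (hP : IsFixedPt τ P) {n : ℕ} (φ : Fin (n + 1) → K)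
    (heff : (1 : K) ∈ Submodule.span k (Set.range φ)) (hnorm : ∀ i, P.1 (φ i) ≤ 1)
    (t : K) (ht : P.1 t = WithZero.exp (-1)) (Ht : K →ₐ[k] K⟦X⟧) (J : Fin n → ℕ)
    (Φ : Place k K → (K →ₐ[k] LaurentSeries k))
    (hΦ : ∀ P : Place k K, LocRes.IsExpansionAt P.1 (Φ P)) :
    wDiv τ Ht Φ t φ J P = P.ord (wrMat τ Ht φ J).det := by
  unfold wDiv
  have h1 : mapDiv k φ P = 0 :=
    mapDiv_apply_eq_zero hK φ P hnorm (exists_unit_of_one_mem P φ hnorm heff)
  have h2 : mapDiv k (τ ∘ φ) P = 0 := by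
    apply mapDiv_apply_eq_zero hK (τ ∘ φ) P (fun i => tau_integral hK hP (hnorm i))
    apply exists_unit_of_one_mem P (τ ∘ φ) (fun i => tau_integral hK hP (hnorm i))
    obtain ⟨c, hc⟩ := (Submodule.mem_span_range_iff_exists_fun k).1 heff
    rw [Submodule.mem_span_range_iff_exists_fun]
    refine ⟨c, ?_⟩
    have := congrArg τ hc
    rw [map_sum, map_one] at this
    rw [← this]
    exact Finset.sum_congr rfl fun i _ => by rw [map_smul]; rfl
  simp only [Finsupp.add_apply, Finsupp.smul_apply, h1, h2, divDiff_apply_of_unif Φ P (hΦ P) t ht,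
    div_apply hK, smul_zero, add_zero]

theorem val_eq_exp_iff_ord (P : Place k K) {x : K} (hx : x ≠ 0) (a : ℤ) :
    P.1 x = WithZero.exp (-a) ↔ P.ord x = a := by
  unfold Place.ord
  have hv : P.1 x ≠ 0 := (Valuation.ne_zero_iff _).2 hx
  constructor
  · intro h; rw [h]; simp
  · intro h
    rw [← h, neg_neg, WithZero.exp_log hv]

theorem val_le_exp_iff_ord (P : Place k K) {x : K} (hx : x ≠ 0) (a : ℤ) :
    P.1 x ≤ WithZero.exp (-a) ↔ a ≤ P.ord x := by
  unfold Place.ord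
  have hv : P.1 x ≠ 0 := (Valuation.ne_zero_iff _).2 hx
  conv_lhs => rw [← WithZero.exp_log hv, WithZero.exp_le_exp]
  omega

theorem not_isJump_hcol_id_one {ι : Type*} (H : K →ₐ[k] K⟦X⟧) {t : K}
    (hH : LocRes.IsHasseFamily t H) (φ : ι → K) :
    ¬ IsJump K (hcol (AlgHom.id k K) H φ) 1 := by
  intro h
  apply h
  refine Submodule.subset_span ⟨0, by simp, ?_⟩
  funext i
  show (AlgHom.id k K) (φ i) = LocRes.hasseD H 0 (φ i)
  rw [LocRes.hasseD_apply, coeff_zero_eq_constantCoeff_apply, hH.2]; rfl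

theorem main12615 [IsAlgClosed k] (hK : IsFunctionField k K) (τ : K →ₐ[k] K) (P : Place k K)
    (hP : IsFixedPt τ P) {n : ℕ} (φ : Fin (n + 1) → K) (hφ : LinearIndependent k φ)
    (heff : (1 : K) ∈ Submodule.span k (Set.range φ)) (hnorm : ∀ i, P.1 (φ i) ≤ 1)
    (t : K) (ht : P.1 t = WithZero.exp (-1)) (Ht : K →ₐ[k] K⟦X⟧)
    (hHt : LocRes.IsHasseFamily t Ht)
    (J : Fin n → ℕ) (hJ : IsOrders K (hcol τ Ht φ) J)
    (J' : Fin n → ℕ) (hJ' : IsOrders (IsLocalRing.ResidueField P.O) (hcolAt P Ht φ) J')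
    (Φ : Place k K → (K →ₐ[k] LaurentSeries k))
    (hΦ : ∀ P : Place k K, LocRes.IsExpansionAt P.1 (Φ P)) :
    (∑ l, ((J' l : ℤ) - J l)) ≤ wDiv τ Ht Φ t φ J P ∧
    ((τ = AlgHom.id k K ∨ IsStrongFixedPt τ P) →
      (wDiv τ Ht Φ t φ J P = ∑ l, ((J' l : ℤ) - J l) ↔ (binomMat k J' J).det ≠ 0)) := by
  have h1 := finrank_kaehler_of_isAlgClosed hK
  have hdet : (wrMat τ Ht φ J).det ≠ 0 :=
    det_wrMat_ne_zero τ Ht φ J hJ (span_hcol_eq_top hK h1 t Ht hHt τ φ hφ)
  have hmain := main12605 hK τ P hP φ hφ heff hnorm t ht Ht hHt J' hJ' J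
  rw [wDiv_apply hK τ P hP φ heff hnorm t ht Ht J Φ hΦ]
  refine ⟨(val_le_exp_iff_ord P hdet _).1 hmain.1, fun hcase => ?_⟩
  have hcase' : (∀ l, 0 < J l) ∨ IsStrongFixedPt τ P := by
    rcases hcase with hid | hs
    · left
      intro l
      by_contra h0
      have h0' : J l = 0 := by omega
      have := (hJ.2 0).1 ⟨l, h0'⟩
      rw [hid] at this
      exact not_isJump_hcol_id_one Ht hHt φ this
    · exact Or.inr hs
  rw [← val_eq_exp_iff_ord P hdet]
  exact hmain.2 hcase'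

end Groth.Agent.Helper27.Loc
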