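import Groth.Agent.Lib.Helper27.IntC
import Groth.Agent.Lib.Helper27.LocJ
import Groth.Agent.Lib.Helper16.FF.AlgClosed

/-! Intersection multiplicity (S11077). -/

set_option autoImplicit false

namespace Groth.Agent.Helper27.Int

open FunFld MvPolynomial Groth.Agent.Helper16.FF Groth.Agent.Helper27.Con
open scoped WithZero

variable {k K : Type*} [Field k] [Field K] [Algebra k K]

theorem range_pair (x y : K) : Set.range ![x, y] = {x, y} := by
  ext z
  constructor
  · rintro ⟨i, rfl⟩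
    fin_cases i
    · left; rfl
    · right; rfl
  · rintro (rfl | hz)
    · exact ⟨0, rfl⟩
    · rw [Set.mem_singleton_iff] at hz
      rw [hz]
      exact ⟨1, rfl⟩

theorem main11077 [IsAlgClosed k]
    (hK : FunFld.IsFunctionField k K) (x y : K)
    (hxy : IntermediateField.adjoin k ({x, y} : Set K) = ⊤) (f g : MvPolynomial (Fin 2) k)
    (hf : Irreducible f) (hfxy : MvPolynomial.aeval ![x, y] f = 0)
    (hgxy : MvPolynomial.aeval ![x, y] g ≠ 0) (P : FunFld.Place k K) (c : Fin 2 → k)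
    (hc : ∀ i, P.1 (![x, y] i - algebraMap k K (c i)) < 1)
    (M : Ideal (MvPolynomial (Fin 2) k)) [M.IsMaximal]
    (hM : M = Ideal.span {MvPolynomial.X 0 - MvPolynomial.C (c 0),
      MvPolynomial.X 1 - MvPolynomial.C (c 1)}) :
    ∑ᶠ Q ∈ {Q : FunFld.Place k K | FunFld.SameImage ![(1 : K), x, y] P Q},
        Q.ord (MvPolynomial.aeval ![x, y] g) =
      (Module.finrank k (Localization.AtPrime M ⧸
        Ideal.map (algebraMap (MvPolynomial (Fin 2) k) (Localization.AtPrime M))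
          (Ideal.span {f, g})) : ℤ) := by
  classical
  rw [finrank_quot_eq P x y c hc M hM hK hxy f g hf hfxy]
  set γ := aeval ![x, y] g with hγ
  set r : Fin 2 → K := ![x, y] with hr
  have htop : IntermediateField.adjoin k (Set.range r) = ⊤ := by
    rw [hr, range_pair]; exact hxy
  have hrP : ∀ i, P.1 (r i) ≤ 1 := fun i => val_le_one_of_sub_lt P (hc i)
  have hΦfin := finite_sameCentre hK r htop P
  set Φ := hΦfin.toFinset with hΦ
  have hΦmem : ∀ Q, Q ∈ Φ ↔ SameCentre r P Q := fun Q => by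
    rw [hΦ, Set.Finite.mem_toFinset]; rfl
  obtain ⟨N, hN⟩ := affine_conductor hK r htop P hrP
  -- the centre at the places of the fibre
  have hcQ : ∀ Q, SameCentre r P Q → ∀ i, Q.1 (r i - algebraMap k K (c i)) < 1 := by
    intro Q hQ i
    obtain ⟨d, hdP, hdQ⟩ := hQ i
    rw [const_unique P (hc i) hdP]
    exact hdQ
  set Pl : Φ → Place k K := Subtype.val with hPl
  have hPlinj : Function.Injective Pl := Subtype.val_injective
  set O := Osub P x y with hO
  have hOmem : ∀ z, z ∈ O ↔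
      z ∈ locRing (aeval ![x, y] : MvPolynomial (Fin 2) k →ₐ[k] K).range P := fun z => Iff.rfl
  set R0 : Submodule k K := ⨅ i, Vloc (Pl i) 0 with hR0
  set C : Submodule k K := ⨅ i, Vloc (Pl i) (-(N : ℤ)) with hC
  -- elements of the affine ring at the places of the fibre
  have hA_le : ∀ Q, SameCentre r P Q → ∀ a ∈ (aeval ![x, y] : MvPolynomial (Fin 2) k →ₐ[k] K).range,
      Q.1 a ≤ 1 := by
    rintro Q hQ _ ⟨h, rfl⟩
    have h1 := val_aeval_sub_eval_lt_one Q ![x, y] c (hcQ Q hQ) h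
    exact val_le_one_of_sub_lt Q h1
  have hA_unit : ∀ Q, SameCentre r P Q → ∀ s : MvPolynomial (Fin 2) k,
      P.1 (aeval ![x, y] s) = 1 → Q.1 (aeval ![x, y] s) = 1 := by
    intro Q hQ s hs
    have hsM : s ∉ M := by
      intro hsM
      have := val_lt_one_of_mem P x y c hc M hM hsM
      rw [hs] at this
      exact lt_irrefl _ this
    exact val_eq_one_of_not_mem Q x y c (hcQ Q hQ) M hM hsM
  have hOR : O ≤ R0 := by
    intro z hz
    rw [hR0, Submodule.mem_iInf]
    intro i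
    have hQ := (hΦmem i.1).1 i.2
    rw [mem_Vloc, WithZero.exp_zero]
    obtain ⟨u, hu, w, ⟨s, rfl⟩, hw1, hzw⟩ := hz
    have h1 := hA_le i.1 hQ u hu
    have h2 := hA_unit i.1 hQ s hw1
    have h3 : (Pl i).1 (z * (aeval ![x, y] : MvPolynomial (Fin 2) k →ₐ[k] K).toRingHom s) ≤ 1 := by
      rw [hzw]; exact h1
    rw [map_mul] at h3
    have h4 : (Pl i).1 ((aeval ![x, y] : MvPolynomial (Fin 2) k →ₐ[k] K).toRingHom s) = 1 := h2
    rwa [h4, mul_one] at h3
  have hCO : C ≤ O := by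
    intro z hz
    rw [hC, Submodule.mem_iInf] at hz
    rw [hOmem, ← Algebra.adjoin_range_eq_range_aeval]
    apply hN
    intro Q hQ
    exact hz ⟨Q, (hΦmem Q).2 hQ⟩
  have hγO : γ ∈ O := le_locRing _ P ⟨g, rfl⟩
  have hγ0 : γ ≠ 0 := hgxy
  have hordnn : ∀ i : Φ, 0 ≤ (Pl i).ord γ := by
    intro i
    apply Groth.Agent.Helper27.Loc.ord_nonneg_of_le_one
    exact hA_le i.1 ((hΦmem i.1).1 i.2) γ ⟨g, rfl⟩
  set μ := LinearMap.mulLeft k γ with hμ
  have hμinj : Function.Injective μ := fun a b hab => mul_left_cancel₀ hγ0 hab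
  have hmapR : R0.map μ = ⨅ i, Vloc (Pl i) (0 - (Pl i).ord γ) := map_mul_iInf_Vloc Pl _ hγ0
  have hmapC : C.map μ = ⨅ i, Vloc (Pl i) (-(N : ℤ) - (Pl i).ord γ) := map_mul_iInf_Vloc Pl _ hγ0
  have hμR : R0.map μ ≤ R0 := by
    rw [hmapR, hR0]
    exact iInf_mono fun i => Vloc_mono (Pl i) (by have := hordnn i; omega)
  have hμO : O.map μ ≤ O := by
    rintro _ ⟨o, ho, rfl⟩
    exact Subalgebra.mul_mem _ hγO ho
  have htot := hasRelDim_iInf_Vloc hK Pl hPlinj (fun i => -(N : ℤ) - (Pl i).ord γ) (fun _ => 0)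
    (fun i => by have := hordnn i; omega)
  rw [← hmapC] at htot
  have hd := hasRelDim_iInf_Vloc hK Pl hPlinj (fun i => 0 - (Pl i).ord γ) (fun _ => 0)
    (fun i => by have := hordnn i; omega)
  rw [← hmapR] at hd
  have hfin := relDim_bookkeeping μ hμinj hCO hOR hμR hμO htot hd
  rw [hfin.finrank_eq]
  -- the finite sum
  have hset : {Q : Place k K | SameImage ![(1 : K), x, y] P Q} = {Q : Place k K | SameCentre r P Q} := by
    ext Q
    exact sameImage_iff_sameCentre P Q x y c hc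
  rw [hset, finsum_mem_eq_finite_toFinset_sum _ hΦfin, ← hΦ, ← Finset.sum_coe_sort, Nat.cast_sum]
  refine Finset.sum_congr rfl fun i _ => ?_
  rw [Place.deg_eq_one hK (Pl i), mul_one, Int.toNat_of_nonneg (by have := hordnn i; omega)]
  ring

end Groth.Agent.Helper27.Int
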