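import Mathlib

set_option autoImplicit false
universe u w

namespace Groth.Agent.Helper27.Jac

open MvPolynomial Finsupp

variable (p : ℕ) [Fact p.Prime] (R : Type u) [CommRing R] [CharP R p] {m : ℕ} (σ : Type w)

/-- matrices whose rows sum to zero have zero determinant (nonempty index). -/
lemma det_eq_zero_of_col_sum (hm : 0 < m) (a : Matrix (Fin m) (Fin m) R)
    (h : ∀ j, ∑ i, a i j = 0) : a.det = 0 := by
  have h1 : Matrix.vecMul (fun _ => (1 : R)) a = 0 := by
    funext j
    simp [Matrix.vecMul, dotProduct, h j]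
  have h2 : Matrix.vecMul (fun _ => (1 : R)) (a * a.adjugate) = 0 := by
    rw [← Matrix.vecMul_vecMul, h1, Matrix.zero_vecMul]
  rw [Matrix.mul_adjugate, Matrix.vecMul_smul, Matrix.vecMul_one] at h2
  have := congrFun h2 ⟨0, hm⟩
  simpa using this

/-- the multilinear map `f ↦ coeff μ (det (∂f_i/∂t_j))` -/
noncomputable def Ψ (μ : (Fin m ⊕ σ) →₀ ℕ) :
    MultilinearMap R (fun _ : Fin m => MvPolynomial (Fin m ⊕ σ) R) R :=
  (MvPolynomial.lcoeff R μ).compMultilinearMap
    (((Matrix.detRowAlternating (n := Fin m) (R := MvPolynomial (Fin m ⊕ σ) R)).toMultilinearMap.restrictScalars R).compLinearMap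
      (fun _ => LinearMap.pi fun j => (MvPolynomial.pderiv (Sum.inl j)).toLinearMap))

lemma Ψ_apply (μ : (Fin m ⊕ σ) →₀ ℕ) (f : Fin m → MvPolynomial (Fin m ⊕ σ) R) :
    Ψ R σ μ f = MvPolynomial.coeff μ
      (Matrix.of fun i j : Fin m => MvPolynomial.pderiv (Sum.inl j) (f i)).det := rfl

lemma euler (v : (Fin m ⊕ σ) →₀ ℕ) (j : Fin m) :
    MvPolynomial.pderiv (Sum.inl j) (monomial v (1 : R)) * X (Sum.inl j) =
      monomial v 1 * C ((v (Sum.inl j) : ℕ) : R) := by
  rw [pderiv_monomial, one_mul, X, monomial_mul, mul_one, C_apply, monomial_mul, add_zero, one_mul]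
  by_cases h : v (Sum.inl j) = 0
  · simp [h]
  · have e : v - single (Sum.inl j) 1 + single (Sum.inl j) 1 = v := by
      refine Finsupp.ext fun i => ?_
      by_cases hi : i = Sum.inl j
      · subst hi
        simp
        omega
      · simp [Finsupp.single_apply, Ne.symm hi]
    rw [e]

theorem main153 (hm : 0 < m) (f : Fin m → MvPolynomial (Fin m ⊕ σ) R) :
    MvPolynomial.coeff
        (Finsupp.sumElim (Finsupp.equivFunOnFinite.symm fun _ : Fin m => p - 1) (0 : σ →₀ ℕ))
        (Matrix.of fun i j : Fin m => MvPolynomial.pderiv (Sum.inl j) (f i)).det = 0 := by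
  classical
  set μ : (Fin m ⊕ σ) →₀ ℕ :=
    Finsupp.sumElim (Finsupp.equivFunOnFinite.symm fun _ : Fin m => p - 1) (0 : σ →₀ ℕ) with hμ
  rw [← Ψ_apply]
  have hΨ : Ψ R σ μ = 0 := by
    apply Module.Basis.ext_multilinear (fun _ => MvPolynomial.basisMonomials (Fin m ⊕ σ) R)
    intro v
    simp only [MvPolynomial.coe_basisMonomials, _root_.zero_apply]
    rw [Ψ_apply]
    set J : Matrix (Fin m) (Fin m) (MvPolynomial (Fin m ⊕ σ) R) :=
      Matrix.of fun i j : Fin m => MvPolynomial.pderiv (Sum.inl j) (monomial (v i) (1 : R)) with hJ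
    set a : Matrix (Fin m) (Fin m) R := Matrix.of fun i j => ((v i (Sum.inl j) : ℕ) : R) with ha
    set one : (Fin m ⊕ σ) →₀ ℕ := ∑ j : Fin m, single (Sum.inl j) 1 with hone
    have hprodX : (∏ j : Fin m, (X (Sum.inl j) : MvPolynomial (Fin m ⊕ σ) R)) = monomial one 1 := by
      rw [hone, monomial_sum_one]
      rfl
    have hmat : J * Matrix.diagonal (fun j => (X (Sum.inl j) : MvPolynomial (Fin m ⊕ σ) R)) =
        Matrix.diagonal (fun i => monomial (v i) (1 : R)) * (C : R →+* _).mapMatrix a := by
      refine Matrix.ext fun i j => ?_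
      rw [Matrix.mul_diagonal, Matrix.diagonal_mul]
      simp only [hJ, ha, Matrix.of_apply, RingHom.mapMatrix_apply, Matrix.map_apply]
      exact euler R σ (v i) j
    have hdet := congrArg Matrix.det hmat
    rw [Matrix.det_mul, Matrix.det_mul, Matrix.det_diagonal, Matrix.det_diagonal, hprodX,
      ← RingHom.map_det, ← monomial_sum_one] at hdet
    have hcoef : coeff μ J.det = coeff (μ + one) (J.det * monomial one 1) := by
      rw [coeff_mul_monomial, mul_one]
    rw [hcoef, hdet, C_apply, monomial_mul, add_zero, one_mul, coeff_monomial]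
    split_ifs with hsum
    · -- column sums vanish
      apply det_eq_zero_of_col_sum R hm
      intro j
      have := DFunLike.congr_fun hsum (Sum.inl j)
      simp only [Finsupp.coe_finsetSum, Finset.sum_apply, Finsupp.add_apply] at this
      have hμj : μ (Sum.inl j) = p - 1 := by simp [hμ]
      have honej : one (Sum.inl j) = 1 := by
        rw [hone]
        simp [Finsupp.single_apply]
      rw [hμj, honej] at this
      have hp : 1 ≤ p := (Fact.out : p.Prime).one_le
      simp only [ha, Matrix.of_apply]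
      rw [← Nat.cast_sum, this, show p - 1 + 1 = p by omega, CharP.cast_eq_zero]
    · rfl
  rw [hΨ]; rfl

end Groth.Agent.Helper27.Jac
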