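import Groth.Agent.Lib.Helper27.JcA

/-! The affine Jacobian criterion for a plane curve (towards S11072). -/

set_option autoImplicit false

namespace Groth.Agent.Helper27.Jc

open FunFld MvPolynomial Groth.Agent.Helper16.FF Groth.Agent.Helper17
open scoped WithZero

variable {k K : Type*} [Field k] [Field K] [Algebra k K]

theorem exists_other (i' : Fin 2) : ∃ i : Fin 2, i ≠ i' := by
  fin_cases i'
  · exact ⟨1, by decide⟩
  · exact ⟨0, by decide⟩

section

variable (P : Place k K) (r : Fin 2 → K) (c : Fin 2 → k)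
  (hc : ∀ i, P.1 (r i - algebraMap k K (c i)) < 1)
  (hfrac : IntermediateField.adjoin k (Set.range r) = ⊤)
  (g : MvPolynomial (Fin 2) k)
  (hker : RingHom.ker (aeval r : MvPolynomial (Fin 2) k →ₐ[k] K) = Ideal.span {g})

include hc hfrac hker in
theorem nonsingular_of_grad_ne (i' : Fin 2) (hd : eval c (pderiv i' g) ≠ 0) (z : K)
    (hz : P.1 z ≤ 1) : z ∈ locRing (Algebra.adjoin k (Set.range r)) P := by
  obtain ⟨i, hii'⟩ := exists_other i'
  have hg : aeval r g = 0 := by
    have : g ∈ RingHom.ker (aeval r : MvPolynomial (Fin 2) k →ₐ[k] K) := by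
      rw [hker]; exact Ideal.mem_span_singleton_self g
    exact this
  obtain ⟨s, hs, hsu⟩ := smooth_principal P r c hc i i' hii' g hg hd
  have htA : r i - algebraMap k K (c i) ∈ Algebra.adjoin k (Set.range r) :=
    Subalgebra.sub_mem _ (Algebra.subset_adjoin ⟨i, rfl⟩) (Subalgebra.algebraMap_mem _ _)
  refine eq_O_of_principal P (Algebra.adjoin k (Set.range r))
    (fun a ha => val_le_one_of_mem_loc P r c hc ha) ?_ (r i - algebraMap k K (c i)) (hc i) ?_
    (le_locRing _ P htA) z hz
  · rw [eq_top_iff, ← hfrac]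
    exact IntermediateField.adjoin.mono _ _ _ Algebra.subset_adjoin
  · intro y hy hy1
    obtain ⟨σ, hσ, hyσ⟩ := exists_gens P r c hc hy hy1
    rw [sum_two i i' hii'] at hyσ
    refine ⟨σ i + σ i' * s, ?_, ?_⟩
    · exact Subalgebra.add_mem _ (hσ i) (Subalgebra.mul_mem _ (hσ i') hs)
    · rw [hyσ, hsu]
      ring

include hc hker in
theorem grad_ne_of_nonsingular
    (hns : ∀ z, P.1 z ≤ 1 → z ∈ locRing (Algebra.adjoin k (Set.range r)) P) :
    ¬ ∀ i, eval c (pderiv i g) = 0 := by
  intro hgrad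
  have hg : aeval r g = 0 := by
    have : g ∈ RingHom.ker (aeval r : MvPolynomial (Fin 2) k →ₐ[k] K) := by
      rw [hker]; exact Ideal.mem_span_singleton_self g
    exact this
  have hg0 : eval c g = 0 := by
    apply eval_eq_zero_of_val_lt P r c hc
    rw [hg, map_zero]
    exact zero_lt_one
  have hle : ∀ l, P.1 (r l - algebraMap k K (c l)) ≤ WithZero.exp (-1 : ℤ) := fun l =>
    lt_one_iff_le_exp_neg_one.mp (hc l)
  obtain ⟨π, hπ⟩ := P.2.2 (WithZero.exp (-1 : ℤ))
  have hπ1 : P.1 π < 1 := by rw [hπ]; exact lt_one_iff_le_exp_neg_one.mpr le_rfl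
  obtain ⟨σ, hσ, hπσ⟩ := exists_gens P r c hc (hns π hπ1.le) hπ1
  -- one of the shifted coordinates is a uniformizer
  have hex : ∃ i, P.1 (r i - algebraMap k K (c i)) = WithZero.exp (-1 : ℤ) := by
    by_contra hno
    push Not at hno
    have hlt : ∀ l, P.1 (σ l * (r l - algebraMap k K (c l))) < WithZero.exp (-1 : ℤ) := by
      intro l
      rw [map_mul]
      calc P.1 (σ l) * P.1 (r l - algebraMap k K (c l))
          ≤ 1 * P.1 (r l - algebraMap k K (c l)) :=
            mul_le_mul' (val_le_one_of_mem_loc P r c hc (hσ l)) le_rfl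
        _ = P.1 (r l - algebraMap k K (c l)) := one_mul _
        _ < WithZero.exp (-1 : ℤ) := lt_of_le_of_ne (hle l) (hno l)
    rw [Fin.sum_univ_two] at hπσ
    have : P.1 π < WithZero.exp (-1 : ℤ) := by
      rw [hπσ]
      exact (P.1.map_add _ _).trans_lt (max_lt (hlt 0) (hlt 1))
    rw [hπ] at this
    exact lt_irrefl _ this
  obtain ⟨i, hi⟩ := hex
  obtain ⟨i', hi'i⟩ := exists_other i
  have hui0 : r i - algebraMap k K (c i) ≠ 0 := by
    intro h0
    rw [h0, map_zero] at hi
    exact WithZero.exp_ne_zero hi.symm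
  have hz1 : P.1 ((r i' - algebraMap k K (c i')) / (r i - algebraMap k K (c i))) ≤ 1 := by
    rw [map_div₀, hi]
    exact div_le_one_of_le₀ (hle i') zero_le
  obtain ⟨u, hu, w, hw, hw1, hzw⟩ := hns _ hz1
  obtain ⟨p, rfl⟩ := exists_aeval_eq r hu
  obtain ⟨w', rfl⟩ := exists_aeval_eq r hw
  have hrel : aeval r (JC.u c i' * w' - JC.u c i * p) = 0 := by
    rw [map_sub, map_mul, map_mul, aeval_u, aeval_u, ← hzw]
    field_simp
    ring
  have hmem : JC.u c i' * w' - JC.u c i * p ∈ Ideal.span {g} := by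
    rw [← hker]; exact hrel
  obtain ⟨h, hh⟩ := Ideal.mem_span_singleton'.1 hmem
  have hd : JC.dA c (JC.u c i' * w' - JC.u c i * p) i' = JC.dA c (h * g) i' := by rw [hh]
  rw [map_sub, JC.dA_mul, JC.dA_mul, JC.dA_mul, JC.dA_u, JC.dA_u, JC.eval_u, JC.eval_u, hg0] at hd
  simp only [zero_smul, zero_add, Pi.sub_apply, Pi.smul_apply, Pi.add_apply, smul_eq_mul,
    Pi.single_eq_same, mul_one, Pi.single_eq_of_ne hi'i, mul_zero, sub_zero] at hd
  rw [JC.dA_apply, hgrad i', mul_zero] at hd
  have hw0 : eval c w' = 0 := by rw [hd]; simp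
  have := val_aeval_lt_one P r c hc hw0
  rw [hw1] at this
  exact lt_irrefl _ this

include hc hfrac hker in
/-- **Affine Jacobian criterion** for a plane curve, in terms of the place. -/
theorem affine_jacobian :
    (∀ z, P.1 z ≤ 1 → z ∈ locRing (Algebra.adjoin k (Set.range r)) P) ↔
      ¬ ∀ i, eval c (pderiv i g) = 0 := by
  constructor
  · exact grad_ne_of_nonsingular P r c hc g hker
  · intro h
    push Not at h
    obtain ⟨i', hi'⟩ := h
    exact nonsingular_of_grad_ne P r c hc hfrac g hker i' hi'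

end

end Groth.Agent.Helper27.Jc
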