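import Groth.Agent.Lib.Helper27.JcB
import Groth.Agent.Lib.Helper27.DhA
import Groth.Agent.Lib.Helper27.AdjA
import Groth.Agent.Lib.Helper16.FF.NSD

/-! The Jacobian criterion for a projective plane curve (S11072). -/

set_option autoImplicit false

namespace Groth.Agent.Helper27.Jc

open FunFld MvPolynomial Groth.Agent.Helper16.FF Groth.Agent.Helper17
open scoped WithZero

variable {k K : Type*} [Field k] [Field K] [Algebra k K]

/-- chain rule for dehomogenisation -/
theorem pderiv_dh {n : ℕ} (j : Fin (n + 1)) (i : Fin n) (f : MvPolynomial (Fin (n + 1)) k) :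
    pderiv i (Dh.dh j f) = Dh.dh j (pderiv (j.succAbove i) f) := by
  classical
  have h := Adj.derivation_aeval
    (pderiv i : Derivation k (MvPolynomial (Fin n) k) (MvPolynomial (Fin n) k)) (Dh.pt j) f
  show pderiv i (aeval (Dh.pt j) f) = aeval (Dh.pt j) (pderiv (j.succAbove i) f)
  rw [h, Fin.sum_univ_succAbove _ j, Dh.pt_self, Derivation.map_one_eq_zero, smul_zero, zero_add,
    Finset.sum_eq_single i]
  · rw [Dh.pt_succAbove, pderiv_X_self, smul_eq_mul, mul_one]
  · intro l _ hl
    rw [Dh.pt_succAbove, pderiv_X_of_ne hl, smul_zero]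
  · intro h0
    exact absurd (Finset.mem_univ i) h0

theorem main11072 [IsAlgClosed k] (hK : IsFunctionField k K) (φ : Fin 3 → K)
    (hφ : LinearIndependent k φ)
    (hbir : IntermediateField.adjoin k (Set.range fun i => φ i / φ 0) = ⊤)
    (f : MvPolynomial (Fin 3) k) (hf : Irreducible f) (hhom : f.IsHomogeneous f.totalDegree)
    (hfφ : aeval φ f = 0) (P : Place k K) (j : Fin 3)
    (hj : ∀ i, P.1 (φ i) ≤ P.1 (φ j)) (a : Fin 3 → P.O)
    (ha : ∀ i, ((a i : P.O) : K) = φ i / φ j) :
    ¬ IsNonsingularAt φ P ↔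
      ∀ l : Fin 3, aeval (fun i => IsLocalRing.residue P.O (a i)) (pderiv l f) = 0 := by
  classical
  have hj0 : φ j ≠ 0 := hφ.ne_zero j
  obtain ⟨r, hr⟩ : ∃ r : Fin 2 → K, r = fun i => φ (j.succAbove i) / φ j := ⟨_, rfl⟩
  have hri : ∀ i, r i = φ (j.succAbove i) / φ j := fun i => by rw [hr]
  have hρ : (Fin.insertNth j (1 : K) r : Fin 3 → K) = fun i => φ i / φ j := by
    have := Dh.insertNth_eq j (fun i => φ i / φ j)
    simp only [div_self hj0] at this
    rw [hr]
    exact this
  have hρle : ∀ i, P.1 (φ i / φ j) ≤ 1 := fun i => by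
    rw [map_div₀]; exact div_le_one_of_le₀ (hj i) zero_le
  have hex : ∀ i, ∃ α : k, P.1 (r i - algebraMap k K α) < 1 := fun i => by
    rw [hri]
    exact exists_const_sub_lt_one hK (Place.deg_eq_one hK P) (hρle _)
  choose c hc using hex
  have hA : affRing φ j = Algebra.adjoin k (Set.range r) := by
    apply le_antisymm
    · apply Algebra.adjoin_le
      rintro _ ⟨i, rfl⟩
      rcases Fin.eq_self_or_eq_succAbove j i with hi | ⟨i', hi⟩
      · simp only [hi, div_self hj0]; exact Subalgebra.one_mem _
      · simp only [hi]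
        rw [← hri]
        exact Algebra.subset_adjoin ⟨i', rfl⟩
    · apply Algebra.adjoin_mono
      rintro _ ⟨i, rfl⟩
      exact ⟨j.succAbove i, (hri i).symm⟩
  have hns : IsNonsingularAt φ P ↔
      ∀ z, P.1 z ≤ 1 → z ∈ locRing (Algebra.adjoin k (Set.range r)) P := by
    rw [← hA]
    constructor
    · intro h z hz; exact (inLocRing_iff φ P hj0 hj z).1 (h z hz)
    · intro h z hz; exact (inLocRing_iff φ P hj0 hj z).2 (h z hz)
  have hfrac : IntermediateField.adjoin k (Set.range r) = ⊤ := by
    rw [eq_top_iff, ← hbir]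
    apply IntermediateField.adjoin_le_iff.2
    rintro _ ⟨i, rfl⟩
    have hmem : ∀ l, φ l / φ j ∈ IntermediateField.adjoin k (Set.range r) := by
      intro l
      rcases Fin.eq_self_or_eq_succAbove j l with hl | ⟨l', hl⟩
      · rw [hl, div_self hj0]; exact one_mem _
      · rw [hl, ← hri]
        exact IntermediateField.subset_adjoin k _ ⟨l', rfl⟩
    have h0 : φ 0 ≠ 0 := hφ.ne_zero 0
    have e : φ i / φ 0 = (φ i / φ j) / (φ 0 / φ j) := by field_simp
    show φ i / φ 0 ∈ IntermediateField.adjoin k (Set.range r)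
    rw [e]
    exact div_mem (hmem i) (hmem 0)
  have hX : ¬ X j ∣ f := by
    rintro ⟨h, hh⟩
    rcases hf.isUnit_or_isUnit hh with hu | hu
    · obtain ⟨c0, _, hc0⟩ := (MvPolynomial.isUnit_iff_eq_C_of_isReduced).mp hu
      have := congrArg totalDegree hc0
      rw [totalDegree_X, totalDegree_C] at this
      exact one_ne_zero this
    · obtain ⟨c0, hc0u, hc0⟩ := (MvPolynomial.isUnit_iff_eq_C_of_isReduced).mp hu
      rw [hh, hc0, map_mul, aeval_X, aeval_C] at hfφ
      rcases mul_eq_zero.mp hfφ with h1 | h1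
      · exact hj0 h1
      · exact hc0u.ne_zero ((map_eq_zero _).mp h1)
  have hirr : Irreducible (Dh.dh j f) := Dh.irreducible_dh j hf hhom hX
  have hfr : aeval r (Dh.dh j f) = 0 := by
    rw [Dh.aeval_dh, hρ]
    have h4 := aeval_mul_of_isHomogeneous f hhom (φ j)⁻¹ φ
    have h5 : (fun i => (φ j)⁻¹ * φ i) = fun i => φ i / φ j := by
      funext i
      rw [div_eq_inv_mul]
    rw [h5, hfφ, mul_zero] at h4
    exact h4
  have hrxy : r = ![r 0, r 1] := by
    funext i
    fin_cases i <;> rfl
  have hpair : Set.range ![r 0, r 1] = {r 0, r 1} := by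
    ext z
    constructor
    · rintro ⟨i, rfl⟩
      fin_cases i
      · left; rfl
      · right; rfl
    · rintro (rfl | hz)
      · exact ⟨0, rfl⟩
      · rw [Set.mem_singleton_iff] at hz
        rw [hz]
        exact ⟨1, rfl⟩
  have hker : RingHom.ker (aeval r : MvPolynomial (Fin 2) k →ₐ[k] K) =
      Ideal.span {Dh.dh j f} := by
    have hker' := Pol.ker_aeval_eq_span hK (r 0) (r 1)
      (by rw [← hpair, ← hrxy]; exact hfrac) _ hirr (by rw [← hrxy]; exact hfr)
    rw [← hrxy] at hker'
    exact hker'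
  have haff := affine_jacobian P r c hc hfrac (Dh.dh j f) hker
  obtain ⟨c', hc'⟩ : ∃ c' : Fin 3 → k, c' = Fin.insertNth j (1 : k) c := ⟨_, rfl⟩
  have hc'j : c' j = 1 := by simp [hc']
  have hc's : ∀ i, c' (j.succAbove i) = c i := by intro i; simp [hc']
  have hα : ∀ i, P.1 (φ i / φ j - algebraMap k K (c' i)) < 1 := by
    intro i
    rcases Fin.eq_self_or_eq_succAbove j i with hi | ⟨i', hi⟩
    · rw [hi, hc'j, div_self hj0, map_one, sub_self, map_zero]; exact zero_lt_one
    · rw [hi, hc's, ← hri]; exact hc i'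
  have hres : ∀ i, IsLocalRing.residue P.O (a i) =
      algebraMap k (IsLocalRing.ResidueField P.O) (c' i) := by
    intro i
    have h1 : IsLocalRing.residue P.O (a i - algebraMap k P.O (c' i)) = 0 := by
      rw [Place.residue_eq_zero_iff]
      have h2 : ((a i - algebraMap k P.O (c' i) : P.O) : K) =
          φ i / φ j - algebraMap k K (c' i) := by
        rw [← ha i]; rfl
      rw [h2]; exact hα i
    rw [map_sub, sub_eq_zero] at h1
    exact h1
  have hci : ∀ l, aeval (fun i => IsLocalRing.residue P.O (a i)) (pderiv l f) =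
      algebraMap k (IsLocalRing.ResidueField P.O) (eval c' (pderiv l f)) := by
    intro l
    have h3 : (fun l => IsLocalRing.residue P.O (a l)) =
        ⇑(algebraMap k (IsLocalRing.ResidueField P.O)) ∘ c' := funext hres
    haveI : IsScalarTower k k (IsLocalRing.ResidueField P.O) := ⟨fun x y z => mul_smul x y z⟩
    rw [h3, aeval_algebraMap_apply]
    rfl
  have hchain : ∀ i : Fin 2, eval c (pderiv i (Dh.dh j f)) =
      eval c' (pderiv (j.succAbove i) f) := by
    intro i
    rw [pderiv_dh, hc']
    exact Dh.aeval_dh j c _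
  have hf0 : eval c' f = 0 := by
    have h1 : eval c (Dh.dh j f) = eval c' f := by
      rw [hc']
      exact Dh.aeval_dh j c f
    rw [← h1]
    apply eval_eq_zero_of_val_lt P r c hc
    rw [hfr, map_zero]
    exact zero_lt_one
  have hEuler : ∑ l, c' l * eval c' (pderiv l f) = 0 := by
    have h9 := congrArg (eval c') hhom.sum_X_mul_pderiv
    simp only [map_sum, map_mul, eval_X, nsmul_eq_mul, map_natCast, hf0, mul_zero] at h9
    exact h9
  have hiff : (∀ l : Fin 3, eval c' (pderiv l f) = 0) ↔
      ∀ i : Fin 2, eval c (pderiv i (Dh.dh j f)) = 0 := by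
    constructor
    · intro h i
      rw [hchain]
      exact h _
    · intro h l
      have hs : ∀ i : Fin 2, eval c' (pderiv (j.succAbove i) f) = 0 := fun i => by
        rw [← hchain]; exact h i
      rcases Fin.eq_self_or_eq_succAbove j l with hl | ⟨l', hl⟩
      · rw [Fin.sum_univ_succAbove _ j] at hEuler
        simp only [hs, mul_zero, Finset.sum_const_zero, add_zero, hc'j, one_mul] at hEuler
        rw [hl]
        exact hEuler
      · rw [hl]
        exact hs l'
  rw [hns, haff, not_not, ← hiff]
  constructor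
  · intro h l
    rw [hci, h l, map_zero]
  · intro h l
    have := h l
    rw [hci] at this
    exact (map_eq_zero _).mp this

end Groth.Agent.Helper27.Jc
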