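import Groth.Agent.Lib.Helper27.JcA
import Groth.Agent.Lib.Helper17.JC3

/-! The local ring of an affine curve at a point as a localization of its coordinate ring,
and the Jacobian rank criterion (towards S11071). -/

set_option autoImplicit false

namespace Groth.Agent.Helper27.Jn

open FunFld MvPolynomial Groth.Agent.Helper16.FF Groth.Agent.Helper17 IsLocalRing
open Groth.Agent.Helper27.Jc
open scoped WithZero

universe u v

variable {k : Type u} {K : Type v} [Field k] [Field K] [Algebra k K]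

section

variable {n ρ : ℕ} (P : Place k K) (r : Fin n → K) (c : Fin n → k)
  (hc : ∀ i, P.1 (r i - algebraMap k K (c i)) < 1)
  (F : Fin ρ → MvPolynomial (Fin n) k)
  (hker : RingHom.ker (aeval r : MvPolynomial (Fin n) k →ₐ[k] K) = Ideal.span (Set.range F))
  (𝔪 : Ideal (MvPolynomial (Fin n) k ⧸ Ideal.span (Set.range F))) [𝔪.IsMaximal]
  (h𝔪 : 𝔪.comap (Ideal.Quotient.mk (Ideal.span (Set.range F))) = RingHom.ker (eval c))

/-- the embedding of the coordinate ring into the function field -/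
noncomputable def psi : (MvPolynomial (Fin n) k ⧸ Ideal.span (Set.range F)) →+* K :=
  Ideal.Quotient.lift _ (aeval r : MvPolynomial (Fin n) k →ₐ[k] K).toRingHom
    (fun p hp => by rw [← hker] at hp; exact hp)

theorem psi_mk (p : MvPolynomial (Fin n) k) :
    psi r F hker (Ideal.Quotient.mk _ p) = aeval r p :=
  Ideal.Quotient.lift_mk _ _ _

theorem psi_injective : Function.Injective (psi r F hker) := by
  apply RingHom.lift_injective_of_ker_le_ideal
  rw [← hker]
  exact le_rfl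

include hc h𝔪 in
theorem val_psi_eq_one {b : MvPolynomial (Fin n) k ⧸ Ideal.span (Set.range F)} (hb : b ∉ 𝔪) :
    P.1 (psi r F hker b) = 1 := by
  obtain ⟨p, rfl⟩ := Ideal.Quotient.mk_surjective b
  rw [psi_mk]
  apply val_aeval_eq_one P r c hc
  intro h0
  exact hb ((JC.mk_mem_iff k n ρ F c 𝔪 h𝔪 p).2 h0)

include hc h𝔪 in
theorem val_psi_lt_one_iff (b : MvPolynomial (Fin n) k ⧸ Ideal.span (Set.range F)) :
    P.1 (psi r F hker b) < 1 ↔ b ∈ 𝔪 := by
  constructor
  · intro h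
    by_contra hb
    rw [val_psi_eq_one P r c hc F hker 𝔪 h𝔪 hb] at h
    exact lt_irrefl _ h
  · intro hb
    obtain ⟨p, rfl⟩ := Ideal.Quotient.mk_surjective b
    rw [psi_mk]
    exact val_aeval_lt_one P r c hc ((JC.mk_mem_iff k n ρ F c 𝔪 h𝔪 p).1 hb)

include hc h𝔪 in
theorem isUnit_psi (s : 𝔪.primeCompl) : IsUnit (psi r F hker s) := by
  rw [isUnit_iff_ne_zero]
  intro h0
  have := val_psi_eq_one P r c hc F hker 𝔪 h𝔪 s.2
  rw [h0, map_zero] at this
  exact zero_ne_one this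

/-- the map from the localization to the function field -/
noncomputable def theta : Localization.AtPrime 𝔪 →+* K :=
  IsLocalization.lift (M := 𝔪.primeCompl) (isUnit_psi P r c hc F hker 𝔪 h𝔪)

theorem theta_algebraMap (b : MvPolynomial (Fin n) k ⧸ Ideal.span (Set.range F)) :
    theta P r c hc F hker 𝔪 h𝔪 (algebraMap _ (Localization.AtPrime 𝔪) b) = psi r F hker b :=
  IsLocalization.lift_eq _ b

theorem theta_mk' (b : MvPolynomial (Fin n) k ⧸ Ideal.span (Set.range F)) (s : 𝔪.primeCompl) :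
    theta P r c hc F hker 𝔪 h𝔪 (IsLocalization.mk' (Localization.AtPrime 𝔪) b s) =
      psi r F hker b / psi r F hker s := by
  unfold theta
  rw [IsLocalization.lift_mk', Units.mul_inv_eq_iff_eq_mul, IsUnit.coe_liftRight]
  have hs0 : psi r F hker s ≠ 0 := (isUnit_psi P r c hc F hker 𝔪 h𝔪 s).ne_zero
  simp only [MonoidHom.restrict_apply, MonoidHom.coe_coe]
  exact (div_mul_cancel₀ _ hs0).symm

theorem theta_injective : Function.Injective (theta P r c hc F hker 𝔪 h𝔪) := by
  rw [injective_iff_map_eq_zero]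
  intro z hz
  obtain ⟨b, s, rfl⟩ := IsLocalization.exists_mk'_eq 𝔪.primeCompl z
  rw [theta_mk'] at hz
  have hs0 : psi r F hker s ≠ 0 := (isUnit_psi P r c hc F hker 𝔪 h𝔪 s).ne_zero
  have hb : psi r F hker b = 0 := by
    rcases div_eq_zero_iff.1 hz with h | h
    · exact h
    · exact absurd h hs0
  have : b = 0 := psi_injective r F hker (by rw [hb, map_zero])
  rw [this, IsLocalization.mk'_zero]

theorem theta_mem_locRing (z : Localization.AtPrime 𝔪) :
    theta P r c hc F hker 𝔪 h𝔪 z ∈ locRing (Algebra.adjoin k (Set.range r)) P := by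
  obtain ⟨b, s, rfl⟩ := IsLocalization.exists_mk'_eq 𝔪.primeCompl z
  rw [theta_mk']
  obtain ⟨p, rfl⟩ := Ideal.Quotient.mk_surjective b
  obtain ⟨q, hq⟩ := Ideal.Quotient.mk_surjective s.1
  have hs1 := val_psi_eq_one P r c hc F hker 𝔪 h𝔪 s.2
  have hs0 : psi r F hker s ≠ 0 := (isUnit_psi P r c hc F hker 𝔪 h𝔪 s).ne_zero
  rw [← hq, psi_mk] at hs1 hs0 ⊢
  rw [psi_mk]
  exact ⟨aeval r p, aeval_mem r p, aeval r q, aeval_mem r q, hs1, div_mul_cancel₀ _ hs0⟩

theorem exists_theta_eq {y : K} (hy : y ∈ locRing (Algebra.adjoin k (Set.range r)) P) :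
    ∃ z, theta P r c hc F hker 𝔪 h𝔪 z = y := by
  obtain ⟨u, hu, w, hw, hw1, hyw⟩ := hy
  obtain ⟨p, rfl⟩ := exists_aeval_eq r hu
  obtain ⟨q, rfl⟩ := exists_aeval_eq r hw
  have hq : Ideal.Quotient.mk (Ideal.span (Set.range F)) q ∉ 𝔪 := by
    intro hmem
    have := (val_psi_lt_one_iff P r c hc F hker 𝔪 h𝔪 _).2 hmem
    rw [psi_mk, hw1] at this
    exact lt_irrefl _ this
  refine ⟨IsLocalization.mk' _ (Ideal.Quotient.mk _ p) (⟨_, hq⟩ : 𝔪.primeCompl), ?_⟩
  rw [theta_mk', psi_mk]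
  show aeval r p / psi r F hker (Ideal.Quotient.mk _ q) = y
  rw [psi_mk, ← hyw]
  have hq0 : aeval r q ≠ 0 := by
    intro h0
    rw [h0, map_zero] at hw1
    exact zero_ne_one hw1
  field_simp

theorem mem_maximalIdeal_iff (z : Localization.AtPrime 𝔪) :
    z ∈ maximalIdeal (Localization.AtPrime 𝔪) ↔ P.1 (theta P r c hc F hker 𝔪 h𝔪 z) < 1 := by
  obtain ⟨b, s, rfl⟩ := IsLocalization.exists_mk'_eq 𝔪.primeCompl z
  rw [IsLocalization.AtPrime.mk'_mem_maximal_iff (Localization.AtPrime 𝔪) 𝔪, theta_mk', map_div₀,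
    val_psi_eq_one P r c hc F hker 𝔪 h𝔪 s.2, div_one, val_psi_lt_one_iff P r c hc F hker 𝔪 h𝔪]

end

end Groth.Agent.Helper27.Jn
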