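import Groth.Agent.Lib.Helper27.JnA

/-! The Jacobian rank criterion for an affine curve, in terms of the place (towards S11071). -/

set_option autoImplicit false

namespace Groth.Agent.Helper27.Jn

open FunFld MvPolynomial Groth.Agent.Helper16.FF Groth.Agent.Helper17 IsLocalRing
open Groth.Agent.Helper27.Jc
open scoped WithZero

universe u v

variable {k : Type u} {K : Type v} [Field k] [Field K] [Algebra k K]

section

variable {n ρ : ℕ} (P : Place k K) (r : Fin n → K) (c : Fin n → k)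
  (hc : ∀ i, P.1 (r i - algebraMap k K (c i)) < 1)
  (F : Fin ρ → MvPolynomial (Fin n) k)
  (hker : RingHom.ker (aeval r : MvPolynomial (Fin n) k →ₐ[k] K) = Ideal.span (Set.range F))
  (𝔪 : Ideal (MvPolynomial (Fin n) k ⧸ Ideal.span (Set.range F))) [𝔪.IsMaximal]
  (h𝔪 : 𝔪.comap (Ideal.Quotient.mk (Ideal.span (Set.range F))) = RingHom.ker (eval c))
  (hfrac : IntermediateField.adjoin k (Set.range r) = ⊤)

include hfrac in
theorem hfrac' :
    IntermediateField.adjoin k ((Algebra.adjoin k (Set.range r) : Subalgebra k K) : Set K) = ⊤ := by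
  rw [eq_top_iff, ← hfrac]
  exact IntermediateField.adjoin.mono _ _ _ Algebra.subset_adjoin

include hc hfrac in
/-- there is a nonzero element of the affine ring in the maximal ideal of `P` -/
theorem exists_nonunit : ∃ p ∈ Algebra.adjoin k (Set.range r), p ≠ 0 ∧ P.1 p < 1 := by
  obtain ⟨π, hπ⟩ := P.2.2 (WithZero.exp (-1 : ℤ))
  have hπ0 : π ≠ 0 := by
    rintro rfl
    rw [map_zero] at hπ
    exact WithZero.exp_ne_zero hπ.symm
  have hπmem : π ∈ IntermediateField.adjoin k (Set.range r) := by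
    rw [hfrac]; exact IntermediateField.mem_top
  obtain ⟨p₁, hp₁, q₁, hq₁, hπpq⟩ := IntermediateField.mem_adjoin_iff_div.1 hπmem
  have hq₁0 : q₁ ≠ 0 := by
    rintro rfl
    rw [_root_.div_zero] at hπpq
    exact hπ0 hπpq
  have hp₁0 : p₁ ≠ 0 := by
    rintro rfl
    rw [zero_div] at hπpq
    exact hπ0 hπpq
  refine ⟨p₁, hp₁, hp₁0, ?_⟩
  have h5 : p₁ = π * q₁ := by rw [hπpq]; field_simp
  rw [h5, map_mul, hπ]
  calc WithZero.exp (-1 : ℤ) * P.1 q₁ ≤ WithZero.exp (-1 : ℤ) * 1 :=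
        mul_le_mul' le_rfl (val_le_one_of_mem_loc P r c hc (le_locRing _ P hq₁))
    _ < 1 := by rw [mul_one]; exact lt_one_iff_le_exp_neg_one.mpr le_rfl

include hc hker h𝔪 hfrac in
theorem not_isField : ¬ IsField (Localization.AtPrime 𝔪) := by
  rw [IsLocalRing.isField_iff_maximalIdeal_eq]
  intro hbot
  obtain ⟨p, hp, hp0, hp1⟩ := exists_nonunit P r c hc hfrac
  obtain ⟨z, hz⟩ := exists_theta_eq P r c hc F hker 𝔪 h𝔪 (le_locRing _ P hp)
  have hzm : z ∈ maximalIdeal (Localization.AtPrime 𝔪) := by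
    rw [mem_maximalIdeal_iff P r c hc F hker 𝔪 h𝔪, hz]
    exact hp1
  rw [hbot, Ideal.mem_bot] at hzm
  rw [hzm, map_zero] at hz
  exact hp0 hz.symm

include hc hker h𝔪 hfrac in
theorem principal_iff :
    (maximalIdeal (Localization.AtPrime 𝔪)).IsPrincipal ↔
      ∀ z, P.1 z ≤ 1 → z ∈ locRing (Algebra.adjoin k (Set.range r)) P := by
  constructor
  · rintro ⟨t, ht⟩
    have htm : t ∈ maximalIdeal (Localization.AtPrime 𝔪) := by
      rw [ht]; exact Submodule.mem_span_singleton_self t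
    refine eq_O_of_principal P (Algebra.adjoin k (Set.range r))
      (fun a ha => val_le_one_of_mem_loc P r c hc ha) (hfrac' r hfrac)
      (theta P r c hc F hker 𝔪 h𝔪 t) ((mem_maximalIdeal_iff P r c hc F hker 𝔪 h𝔪 t).1 htm) ?_
      (theta_mem_locRing P r c hc F hker 𝔪 h𝔪 t)
    intro y hy hy1
    obtain ⟨z, rfl⟩ := exists_theta_eq P r c hc F hker 𝔪 h𝔪 hy
    have hzm : z ∈ maximalIdeal (Localization.AtPrime 𝔪) :=
      (mem_maximalIdeal_iff P r c hc F hker 𝔪 h𝔪 z).2 hy1
    rw [ht] at hzm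
    obtain ⟨w, hw⟩ := (Submodule.mem_span_singleton).1 hzm
    refine ⟨theta P r c hc F hker 𝔪 h𝔪 w, theta_mem_locRing P r c hc F hker 𝔪 h𝔪 w, ?_⟩
    rw [← hw, smul_eq_mul, map_mul, mul_comm]
  · intro hns
    obtain ⟨π, hπ⟩ := P.2.2 (WithZero.exp (-1 : ℤ))
    have hπ1 : P.1 π < 1 := by rw [hπ]; exact lt_one_iff_le_exp_neg_one.mpr le_rfl
    have hπ0 : π ≠ 0 := by
      rintro rfl
      rw [map_zero] at hπ
      exact WithZero.exp_ne_zero hπ.symm
    obtain ⟨t, ht⟩ := exists_theta_eq P r c hc F hker 𝔪 h𝔪 (hns π hπ1.le)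
    refine ⟨⟨t, ?_⟩⟩
    apply le_antisymm
    · intro z hz
      have hz1 := (mem_maximalIdeal_iff P r c hc F hker 𝔪 h𝔪 z).1 hz
      have hq : P.1 (theta P r c hc F hker 𝔪 h𝔪 z / π) ≤ 1 := by
        rw [map_div₀, hπ]
        exact div_le_one_of_le₀ (lt_one_iff_le_exp_neg_one.mp hz1) zero_le
      obtain ⟨w, hw⟩ := exists_theta_eq P r c hc F hker 𝔪 h𝔪 (hns _ hq)
      have hzw : z = w * t := by
        apply theta_injective P r c hc F hker 𝔪 h𝔪
        rw [map_mul, hw, ht]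
        field_simp
      rw [hzw]
      exact Submodule.mem_span_singleton.2 ⟨w, rfl⟩
    · rw [Submodule.span_singleton_le_iff_mem, mem_maximalIdeal_iff P r c hc F hker 𝔪 h𝔪, ht]
      exact hπ1

include hc hker h𝔪 hfrac in
/-- **Jacobian rank criterion**, affine form. -/
theorem nonsingular_iff_rank (hn : 1 ≤ n) :
    (∀ z, P.1 z ≤ 1 → z ∈ locRing (Algebra.adjoin k (Set.range r)) P) ↔
      (Matrix.of fun i j => eval c (pderiv j (F i))).rank = n - 1 := by
  haveI : IsDomain (Localization.AtPrime 𝔪) :=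
    (theta_injective P r c hc F hker 𝔪 h𝔪).isDomain _
  haveI : IsNoetherianRing (Localization.AtPrime 𝔪) :=
    IsLocalization.isNoetherianRing 𝔪.primeCompl _ inferInstance
  have hnf := not_isField P r c hc F hker 𝔪 h𝔪 hfrac
  have h1 := JC.main11563 k n ρ F c 𝔪 h𝔪
  have h2 : (maximalIdeal (Localization.AtPrime 𝔪)).IsPrincipal ↔
      Module.finrank (ResidueField (Localization.AtPrime 𝔪))
        (CotangentSpace (Localization.AtPrime 𝔪)) = 1 :=
    (IsDiscreteValuationRing.TFAE (Localization.AtPrime 𝔪) hnf).out 4 5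
  rw [← principal_iff P r c hc F hker 𝔪 h𝔪 hfrac, h2]
  constructor
  · intro h; omega
  · intro h; omega

end

end Groth.Agent.Helper27.Jn
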