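import Groth.Agent.Lib.Helper27.JnB
import Groth.Agent.Lib.Helper27.DhB
import Groth.Agent.Lib.Helper27.JcC

/-! The Jacobian rank criterion for a projective curve (S11071). -/

set_option autoImplicit false

namespace Groth.Agent.Helper27.Jn

open FunFld MvPolynomial Groth.Agent.Helper16.FF Groth.Agent.Helper17 IsLocalRing Module
open Groth.Agent.Helper27.Jc
open scoped WithZero

theorem rank_map_of_bijective {k κ : Type*} [Field k] [Field κ] [Algebra k κ]
    (hb : Function.Bijective (algebraMap k κ)) {m n : Type*} [Fintype m] [Fintype n]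
    (A : Matrix m n k) : (A.map (algebraMap k κ)).rank = A.rank := by
  classical
  rw [Matrix.rank_eq_finrank_span_cols, Matrix.rank_eq_finrank_span_cols]
  set e : k ≃ₗ[k] κ := LinearEquiv.ofBijective (Algebra.linearMap k κ) hb with he
  set L : (m → k) ≃ₗ[k] (m → κ) := LinearEquiv.piCongrRight (fun _ => e) with hL
  have h1 : finrank k κ = 1 := by
    rw [← e.finrank_eq, finrank_self]
  set V' := Submodule.span κ (Set.range (A.map (algebraMap k κ)).col) with hV'
  have h2 : finrank k κ * finrank κ V' = finrank k V' := finrank_mul_finrank k κ V'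
  rw [h1, one_mul] at h2
  rw [h2]
  have h3 : finrank k V' = finrank k (V'.restrictScalars k) := rfl
  rw [h3, hV', Submodule.restrictScalars_span k κ hb.2]
  have h4 : Set.range (A.map (algebraMap k κ)).col = L '' Set.range A.col := by
    rw [← Set.range_comp]
    congr 1
  rw [h4]
  have h5 : Submodule.span k (⇑L '' Set.range A.col) =
      Submodule.map (L : (m → k) →ₗ[k] (m → κ)) (Submodule.span k (Set.range A.col)) :=
    (Submodule.map_span _ _).symm
  have h6 := LinearEquiv.finrank_map_eq L (Submodule.span k (Set.range A.col))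
  rw [← h5] at h6
  exact h6

universe u v

variable {k : Type u} {K : Type v} [Field k] [Field K] [Algebra k K]

theorem main11071 [IsAlgClosed k] (hK : IsFunctionField k K) {n : ℕ} (hn : 1 ≤ n)
    (φ : Fin (n + 1) → K) (hφ : LinearIndependent k φ)
    (hbir : IntermediateField.adjoin k (Set.range fun i => φ i / φ 0) = ⊤)
    (P : Place k K) (hP : ∀ i, P.1 (φ i) ≤ P.1 (φ 0)) {r : ℕ}
    (f : Fin r → MvPolynomial (Fin (n + 1)) k)
    (hhom : ∀ i, (f i).IsHomogeneous (f i).totalDegree)
    (hgen : Ideal.span (Set.range f) =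
      RingHom.ker (aeval fun i => Polynomial.C (φ i) * Polynomial.X))
    (M : Matrix (Fin r) (Fin n) P.O)
    (hM : ∀ i j, ((M i j : P.O) : K) =
      aeval (fun l => φ l / φ 0) (pderiv j.succ (f i))) :
    IsNonsingularAt φ P ↔ (M.map (IsLocalRing.residue P.O)).rank = n - 1 := by
  classical
  have h0 : φ 0 ≠ 0 := hφ.ne_zero 0
  obtain ⟨r', hr'⟩ : ∃ r' : Fin n → K, r' = fun i => φ ((0 : Fin (n + 1)).succAbove i) / φ 0 :=
    ⟨_, rfl⟩
  have hri : ∀ i, r' i = φ ((0 : Fin (n + 1)).succAbove i) / φ 0 := fun i => by rw [hr']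
  have hρ : (Fin.insertNth 0 (1 : K) r' : Fin (n + 1) → K) = fun i => φ i / φ 0 := by
    have := Dh.insertNth_eq (0 : Fin (n + 1)) (fun i => φ i / φ 0)
    simp only [div_self h0] at this
    rw [hr']
    exact this
  have hρle : ∀ i, P.1 (φ i / φ 0) ≤ 1 := fun i => by
    rw [map_div₀]; exact div_le_one_of_le₀ (hP i) zero_le
  have hex : ∀ i, ∃ α : k, P.1 (r' i - algebraMap k K α) < 1 := fun i => by
    rw [hri]
    exact exists_const_sub_lt_one hK (Place.deg_eq_one hK P) (hρle _)
  choose c hc using hex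
  have hval : ∀ G : MvPolynomial (Fin (n + 1)) k,
      aeval r' (Dh.dh 0 G) = aeval (fun l => φ l / φ 0) G := by
    intro G
    rw [Dh.aeval_dh, hρ]
  -- the relations vanish
  have hfφ : ∀ i, aeval φ (f i) = 0 := by
    intro i
    have h1 : f i ∈ RingHom.ker (aeval fun i => Polynomial.C (φ i) * Polynomial.X :
        MvPolynomial (Fin (n + 1)) k →ₐ[k] Polynomial K) := by
      rw [← hgen]; exact Ideal.subset_span ⟨i, rfl⟩
    rw [RingHom.mem_ker, Dh.homEval_of_isHomogeneous φ (hhom i)] at h1
    rcases mul_eq_zero.1 h1 with h2 | h2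
    · exact Polynomial.C_eq_zero.1 h2
    · exact absurd h2 (pow_ne_zero _ Polynomial.X_ne_zero)
  have hscale : ∀ (G : MvPolynomial (Fin (n + 1)) k) (d : ℕ), G.IsHomogeneous d →
      aeval φ G = φ 0 ^ d * aeval (fun l => φ l / φ 0) G := by
    intro G d hG
    have h4 := aeval_mul_of_isHomogeneous G hG (φ 0) (fun l => φ l / φ 0)
    have h5 : (fun i => φ 0 * (φ i / φ 0)) = φ := by
      funext i
      field_simp
    rw [h5] at h4
    exact h4
  obtain ⟨F, hF⟩ : ∃ F : Fin r → MvPolynomial (Fin n) k, F = fun i => Dh.dh 0 (f i) := ⟨_, rfl⟩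
  have hFi : ∀ i, F i = Dh.dh 0 (f i) := fun i => by rw [hF]
  have hFr : ∀ i, aeval r' (F i) = 0 := by
    intro i
    rw [hFi, hval]
    have := hscale (f i) _ (hhom i)
    rw [hfφ i] at this
    exact (mul_eq_zero.1 this.symm).resolve_left (pow_ne_zero _ h0)
  have hker : RingHom.ker (aeval r' : MvPolynomial (Fin n) k →ₐ[k] K) =
      Ideal.span (Set.range F) := by
    apply le_antisymm
    · intro g hg
      rw [RingHom.mem_ker] at hg
      obtain ⟨G, hG, hGg⟩ := Dh.exists_hom_lift (0 : Fin (n + 1)) g.totalDegree g le_rfl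
      have h1 : aeval φ G = 0 := by
        rw [hscale G _ hG, ← hval, hGg, hg, mul_zero]
      have h2 : G ∈ Ideal.span (Set.range f) := by
        rw [hgen, RingHom.mem_ker, Dh.homEval_of_isHomogeneous φ hG, h1, map_zero, zero_mul]
      have h3 := Ideal.mem_map_of_mem (Dh.dh (0 : Fin (n + 1)) :
        MvPolynomial (Fin (n + 1)) k →ₐ[k] MvPolynomial (Fin n) k) h2
      rw [Ideal.map_span, ← Set.range_comp, hGg] at h3
      rw [hF]
      exact h3
    · rw [Ideal.span_le]
      rintro _ ⟨i, rfl⟩
      exact hFr i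
  have hI : Ideal.span (Set.range F) ≤ RingHom.ker (eval c) := by
    rw [Ideal.span_le]
    rintro _ ⟨i, rfl⟩
    rw [SetLike.mem_coe, RingHom.mem_ker]
    apply eval_eq_zero_of_val_lt P r' c hc
    rw [hFr i, map_zero]
    exact zero_lt_one
  haveI hmax : (RingHom.ker (eval c : MvPolynomial (Fin n) k →+* k)).IsMaximal :=
    RingHom.ker_isMaximal_of_surjective _ (fun a => ⟨C a, eval_C a⟩)
  obtain ⟨𝔪, h𝔪def⟩ : ∃ 𝔪 : Ideal (MvPolynomial (Fin n) k ⧸ Ideal.span (Set.range F)),
      𝔪 = Ideal.map (Ideal.Quotient.mk (Ideal.span (Set.range F))) (RingHom.ker (eval c)) :=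
    ⟨_, rfl⟩
  haveI : 𝔪.IsMaximal := by
    rw [h𝔪def]
    apply Ideal.IsMaximal.map_of_surjective_of_ker_le Ideal.Quotient.mk_surjective
    rw [Ideal.mk_ker]
    exact hI
  have h𝔪 : 𝔪.comap (Ideal.Quotient.mk (Ideal.span (Set.range F))) = RingHom.ker (eval c) := by
    rw [h𝔪def, Ideal.comap_map_of_surjective _ Ideal.Quotient.mk_surjective,
      ← RingHom.ker_eq_comap_bot, Ideal.mk_ker]
    exact sup_eq_left.2 hI
  have hA : affRing φ 0 = Algebra.adjoin k (Set.range r') := by
    apply le_antisymm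
    · apply Algebra.adjoin_le
      rintro _ ⟨i, rfl⟩
      rcases Fin.eq_self_or_eq_succAbove 0 i with hi | ⟨i', hi⟩
      · simp only [hi, div_self h0]; exact Subalgebra.one_mem _
      · simp only [hi]
        rw [← hri]
        exact Algebra.subset_adjoin ⟨i', rfl⟩
    · apply Algebra.adjoin_mono
      rintro _ ⟨i, rfl⟩
      exact ⟨(0 : Fin (n + 1)).succAbove i, (hri i).symm⟩
  have hns : IsNonsingularAt φ P ↔
      ∀ z, P.1 z ≤ 1 → z ∈ locRing (Algebra.adjoin k (Set.range r')) P := by
    rw [← hA]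
    constructor
    · intro h z hz; exact (inLocRing_iff φ P h0 hP z).1 (h z hz)
    · intro h z hz; exact (inLocRing_iff φ P h0 hP z).2 (h z hz)
  have hfrac : IntermediateField.adjoin k (Set.range r') = ⊤ := by
    rw [eq_top_iff, ← hbir]
    apply IntermediateField.adjoin_le_iff.2
    rintro _ ⟨i, rfl⟩
    rcases Fin.eq_self_or_eq_succAbove 0 i with hl | ⟨l', hl⟩
    · show φ i / φ 0 ∈ IntermediateField.adjoin k (Set.range r')
      rw [hl, div_self h0]; exact one_mem _
    · show φ i / φ 0 ∈ IntermediateField.adjoin k (Set.range r')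
      rw [hl, ← hri]
      exact IntermediateField.subset_adjoin k _ ⟨l', rfl⟩
  have hmain := nonsingular_iff_rank P r' c hc F hker 𝔪 h𝔪 hfrac hn
  -- the residue field is `k`
  have hb : Function.Bijective (algebraMap k (IsLocalRing.ResidueField P.O)) := by
    refine ⟨(algebraMap k (IsLocalRing.ResidueField P.O)).injective, ?_⟩
    intro y
    obtain ⟨a, rfl⟩ := IsLocalRing.residue_surjective y
    obtain ⟨α, hα⟩ := exists_const_sub_lt_one hK (Place.deg_eq_one hK P)
      ((Place.mem_O_iff P _).mp a.2)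
    refine ⟨α, ?_⟩
    have h1 : IsLocalRing.residue P.O (a - algebraMap k P.O α) = 0 := by
      rw [Place.residue_eq_zero_iff]
      exact hα
    rw [map_sub, sub_eq_zero] at h1
    exact h1.symm
  have hentry : M.map (IsLocalRing.residue P.O) =
      (Matrix.of fun i j => eval c (pderiv j (F i))).map
        (algebraMap k (IsLocalRing.ResidueField P.O)) := by
    ext i j
    rw [Matrix.map_apply, Matrix.map_apply, Matrix.of_apply]
    have h1 : IsLocalRing.residue P.O (M i j - algebraMap k P.O (eval c (pderiv j (F i)))) = 0 := by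
      rw [Place.residue_eq_zero_iff]
      have h2 : ((M i j - algebraMap k P.O (eval c (pderiv j (F i))) : P.O) : K) =
          aeval r' (pderiv j (F i)) - algebraMap k K (eval c (pderiv j (F i))) := by
        have h3 : ((M i j - algebraMap k P.O (eval c (pderiv j (F i))) : P.O) : K) =
            ((M i j : P.O) : K) - algebraMap k K (eval c (pderiv j (F i))) := rfl
        rw [h3, hM, hFi, pderiv_dh, hval, Fin.succAbove_zero]
      rw [h2]
      exact Int.val_aeval_sub_eval_lt_one P r' c hc _
    rw [map_sub, sub_eq_zero] at h1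
    exact h1
  rw [hns, hmain, hentry, rank_map_of_bijective hb]

end Groth.Agent.Helper27.Jn
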