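import Mathlib
import Groth.Prelude.Def_AlgGrp

set_option autoImplicit false
universe u
open CategoryTheory CategoryTheory.Limits MonoidalCategory CartesianMonoidalCategory MonObj GrpObj AlgebraicGeometry

namespace Groth.Agent.Helper27.KP

theorem main370 {S : Scheme.{u}} (G Ga Gb : Over S)
    [GrpObj G] [IsCommMonObj G] (n a b : ℕ) (hn : n = a * b) (hab : Nat.Coprime a b)
    (hG : (𝟙 G) ^ n = 1)
    (ia : Ga ⟶ G) (hia : AlgGrp.IsKernel ia ((𝟙 G) ^ a))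
    (ib : Gb ⟶ G) (hib : AlgGrp.IsKernel ib ((𝟙 G) ^ b)) :
    IsIso ((fst Ga Gb ≫ ia) * (snd Ga Gb ≫ ib)) := by
  have hpowT : ∀ {T : Over S} (x : T ⟶ G) (m : ℕ), x ≫ (𝟙 G) ^ m = x ^ m := by
    intro T x m; rw [MonObj.comp_pow, Category.comp_id]
  have hzpowT : ∀ {T : Over S} (x : T ⟶ G) (m : ℤ), x ≫ (𝟙 G) ^ m = x ^ m := by
    intro T x m; rw [GrpObj.comp_zpow, Category.comp_id]
  have hn' : ∀ {T : Over S} (x : T ⟶ G), x ^ n = 1 := by
    intro T x; rw [← hpowT, hG, MonObj.comp_one]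
  have hunit : ∀ {T : Over S} (f : T ⟶ 𝟙_ (Over S)), f ≫ η[G] = 1 := by
    intro T f
    rw [Hom.one_def, toUnit_unique f (toUnit T)]
  have hka : ∀ {T : Over S} (y : T ⟶ Ga), (y ≫ ia) ^ a = 1 := by
    intro T y
    rw [← hpowT, Category.assoc, hia.w, ← Category.assoc, hunit]
  have hkb : ∀ {T : Over S} (y : T ⟶ Gb), (y ≫ ib) ^ b = 1 := by
    intro T y
    rw [← hpowT, Category.assoc, hib.w, ← Category.assoc, hunit]
  -- Bezout
  obtain ⟨s, t, hst⟩ : ∃ s t : ℤ, (a : ℤ) * s + (b : ℤ) * t = 1 := by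
    have := Nat.gcd_eq_gcd_ab a b
    rw [hab] at this
    exact ⟨_, _, by rw [← this]; simp⟩
  have hnz : ∀ {T : Over S} (x : T ⟶ G) (m : ℤ), x ^ ((n : ℤ) * m) = 1 := by
    intro T x m
    rw [zpow_mul, zpow_natCast, hn', one_zpow]
  have hψa : ((𝟙 G) ^ ((b : ℤ) * t)) ≫ ((𝟙 G) ^ a) = toUnit G ≫ η[G] := by
    rw [hunit, hpowT, ← zpow_natCast, ← zpow_mul]
    have : (b : ℤ) * t * (a : ℤ) = (n : ℤ) * t := by rw [hn]; push_cast; ring
    rw [this, hnz]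
  have hψb : ((𝟙 G) ^ ((a : ℤ) * s)) ≫ ((𝟙 G) ^ b) = toUnit G ≫ η[G] := by
    rw [hunit, hpowT, ← zpow_natCast, ← zpow_mul]
    have : (a : ℤ) * s * (b : ℤ) = (n : ℤ) * s := by rw [hn]; push_cast; ring
    rw [this, hnz]
  let ψa : G ⟶ Ga := hia.lift _ _ hψa
  let ψb : G ⟶ Gb := hib.lift _ _ hψb
  have hψa' : ψa ≫ ia = (𝟙 G) ^ ((b : ℤ) * t) := hia.lift_fst _ _ hψa
  have hψb' : ψb ≫ ib = (𝟙 G) ^ ((a : ℤ) * s) := hib.lift_fst _ _ hψb
  let ψ : G ⟶ Ga ⊗ Gb := lift ψa ψb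
  set φ : Ga ⊗ Gb ⟶ G := (fst Ga Gb ≫ ia) * (snd Ga Gb ≫ ib) with hφ
  refine ⟨⟨ψ, ?_, ?_⟩⟩
  · -- φ ≫ ψ = 𝟙
    apply CartesianMonoidalCategory.hom_ext
    · rw [Category.assoc, lift_fst, Category.id_comp]
      apply hia.hom_ext _ (toUnit_unique _ _)
      rw [Category.assoc, hψa', hzpowT, hφ, mul_zpow]
      have e1 : (snd Ga Gb ≫ ib) ^ ((b : ℤ) * t) = 1 := by
        rw [zpow_mul, zpow_natCast, hkb, one_zpow]
      have e2 : (fst Ga Gb ≫ ia) ^ ((b : ℤ) * t) = fst Ga Gb ≫ ia := by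
        have : (b : ℤ) * t = 1 - (a : ℤ) * s := by linarith
        rw [this, zpow_sub, zpow_one, zpow_mul, zpow_natCast, hka, one_zpow, inv_one, _root_.mul_one]
      rw [e1, e2, _root_.mul_one]
    · rw [Category.assoc, lift_snd, Category.id_comp]
      apply hib.hom_ext _ (toUnit_unique _ _)
      rw [Category.assoc, hψb', hzpowT, hφ, mul_zpow]
      have e1 : (fst Ga Gb ≫ ia) ^ ((a : ℤ) * s) = 1 := by
        rw [zpow_mul, zpow_natCast, hka, one_zpow]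
      have e2 : (snd Ga Gb ≫ ib) ^ ((a : ℤ) * s) = snd Ga Gb ≫ ib := by
        have : (a : ℤ) * s = 1 - (b : ℤ) * t := by linarith
        rw [this, zpow_sub, zpow_one, zpow_mul, zpow_natCast, hkb, one_zpow, inv_one, _root_.mul_one]
      rw [e1, e2, _root_.one_mul]
  · -- ψ ≫ φ = 𝟙
    rw [hφ, MonObj.comp_mul, ← Category.assoc, ← Category.assoc, lift_fst, lift_snd, hψa', hψb',
      ← zpow_add]
    have : (b : ℤ) * t + (a : ℤ) * s = 1 := by linarith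
    rw [this, zpow_one]

end Groth.Agent.Helper27.KP
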