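import Mathlib

/-! Krasner approximation: finite separable extensions of a complete ultrametric field are
defined over any dense subfield. -/

set_option autoImplicit false

namespace Groth.Agent.Helper27.Kr

open Polynomial IntermediateField

universe u

/-- a positive lower bound for finitely many positive numbers -/
theorem exists_pos_le_of_finset {α : Type*} (T : Finset α) (φ : α → ℝ) (hφ : ∀ a ∈ T, 0 < φ a) :
    ∃ δ : ℝ, 0 < δ ∧ ∀ a ∈ T, δ ≤ φ a := by
  classical
  induction T using Finset.induction_on with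
  | empty => exact ⟨1, one_pos, fun a ha => absurd ha (Finset.notMem_empty a)⟩
  | insert a s ha ih =>
    obtain ⟨δ, hδ, h⟩ := ih (fun b hb => hφ b (Finset.mem_insert_of_mem hb))
    refine ⟨min δ (φ a), lt_min hδ (hφ a (Finset.mem_insert_self a s)), ?_⟩
    intro b hb
    rcases Finset.mem_insert.1 hb with rfl | hb
    · exact min_le_right _ _
    · exact (min_le_left _ _).trans (h b hb)

/-- if a product of `n` nonnegative reals is `< δ ^ n`, some factor is `< δ` -/
theorem exists_lt_of_prod_lt (s : Multiset ℝ) (δ : ℝ) (hδ : 0 ≤ δ) (hs : ∀ a ∈ s, 0 ≤ a)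
    (h : s.prod < δ ^ Multiset.card s) : ∃ a ∈ s, a < δ := by
  by_contra hcon
  push Not at hcon
  have : δ ^ Multiset.card s ≤ s.prod := by
    induction s using Multiset.induction_on with
    | empty => simp
    | cons a s ih =>
      rw [Multiset.card_cons, pow_succ, Multiset.prod_cons, mul_comm]
      have h1 : δ ≤ a := hcon a (Multiset.mem_cons_self a s)
      have h2 : δ ^ Multiset.card s ≤ s.prod := by
        by_cases hlt : s.prod < δ ^ Multiset.card s
        · exact ih (fun b hb => hs b (Multiset.mem_cons_of_mem hb)) hlt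
            (fun b hb => hcon b (Multiset.mem_cons_of_mem hb))
        · exact not_lt.1 hlt
      exact mul_le_mul h1 h2 (pow_nonneg hδ _) (hδ.trans h1)
  exact absurd h (not_lt.2 this)

variable (F : Type u) [NontriviallyNormedField F] [CompleteSpace F] [IsUltrametricDist F]

/-- **Krasner approximation.** -/
theorem exists_approx_poly (K₀ : Type u) [Field K₀] [Algebra K₀ F]
    (hdense : DenseRange (algebraMap K₀ F))
    (M : Type u) [Field M] [Algebra F M] [FiniteDimensional F M] [Algebra.IsSeparable F M] :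
    ∃ g : K₀[X], g.Monic ∧ Irreducible (g.map (algebraMap K₀ F)) ∧
      (g.map (algebraMap K₀ F)).Separable ∧
      Nonempty (AdjoinRoot (g.map (algebraMap K₀ F)) ≃ₐ[F] M) := by
  classical
  obtain ⟨θ₀, hθ₀⟩ := Field.exists_primitive_element F M
  have hint₀ : IsIntegral F θ₀ := Algebra.IsIntegral.isIntegral θ₀
  set f := minpoly F θ₀ with hf
  set n := f.natDegree with hn
  have hfmonic : f.Monic := minpoly.monic hint₀
  have hnM : Module.finrank F M = n := by
    rw [← IntermediateField.finrank_top', ← hθ₀, IntermediateField.adjoin.finrank hint₀]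
  -- the algebraic closure with its spectral norm
  let Ω := AlgebraicClosure F
  letI : NontriviallyNormedField Ω := spectralNorm.nontriviallyNormedField F Ω
  letI : NormedAlgebra F Ω := spectralNorm.normedAlgebra F Ω
  haveI : IsUltrametricDist Ω := IsUltrametricDist.of_normedAlgebra F
  let ι : M →ₐ[F] Ω := IsAlgClosed.lift
  set θ : Ω := ι θ₀ with hθ
  have hminθ : minpoly F θ = f := minpoly.algHom_eq ι ι.injective θ₀
  have hintθ : IsIntegral F θ := hint₀.map ι
  have hsepθ : (minpoly F θ).Separable := by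
    rw [hminθ]; exact Algebra.IsSeparable.isSeparable F θ₀
  -- lower bound on distances to other roots
  obtain ⟨δ, hδ, hδle⟩ := exists_pos_le_of_finset (((f.aroots Ω).toFinset).erase θ)
    (fun x' => ‖θ - x'‖) (by
      intro a ha
      rw [norm_pos_iff, sub_ne_zero]
      exact (Finset.ne_of_mem_erase ha).symm)
  -- approximation of coefficients
  set R : ℝ := max 1 ‖θ‖ with hR
  have hR1 : 1 ≤ R := le_max_left _ _
  have hRpos : 0 < R := lt_of_lt_of_le one_pos hR1
  set ε : ℝ := δ ^ n / (2 * R ^ n) with hε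
  have hεpos : 0 < ε := div_pos (pow_pos hδ n) (mul_pos two_pos (pow_pos hRpos n))
  have hch : ∀ i : ℕ, ∃ b : K₀, ‖algebraMap K₀ F b - f.coeff i‖ < ε := by
    intro i
    obtain ⟨b, hb⟩ := hdense.exists_dist_lt (f.coeff i) hεpos
    refine ⟨b, ?_⟩
    rw [← dist_eq_norm, dist_comm]
    exact hb
  choose b hb using hch
  set g : K₀[X] := X ^ n + ∑ i ∈ Finset.range n, C (b i) * X ^ i with hg
  have hsumdeg : (∑ i ∈ Finset.range n, (C (b i) : K₀[X]) * X ^ i).degree < (n : WithBot ℕ) := by
    refine Finset.sum_induction _ (fun p : K₀[X] => p.degree < (n : WithBot ℕ))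
      (fun a b ha hb => (Polynomial.degree_add_le a b).trans_lt (max_lt ha hb))
      (by rw [Polynomial.degree_zero]; exact WithBot.bot_lt_coe n) ?_
    intro i hi
    refine (Polynomial.degree_C_mul_X_pow_le i (b i)).trans_lt ?_
    exact_mod_cast Finset.mem_range.1 hi
  have hgmonic : g.Monic := by
    rw [hg]
    exact Polynomial.monic_X_pow_add hsumdeg
  have hgdeg : g.natDegree = n := by
    rw [hg, Polynomial.natDegree_add_eq_left_of_degree_lt, Polynomial.natDegree_X_pow]
    rw [Polynomial.degree_X_pow]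
    exact hsumdeg
  set gF : F[X] := g.map (algebraMap K₀ F) with hgF
  have hgFmonic : gF.Monic := hgmonic.map _
  have hgFdeg : gF.natDegree = n := by rw [hgF, hgmonic.natDegree_map, hgdeg]
  -- evaluate at θ
  have hf_eq : f = X ^ n + ∑ i ∈ Finset.range n, C (f.coeff i) * X ^ i := hfmonic.as_sum
  have hgθ : aeval θ gF = ∑ i ∈ Finset.range n,
      algebraMap F Ω (algebraMap K₀ F (b i) - f.coeff i) * θ ^ i := by
    have h0 : aeval θ f = 0 := by rw [← hminθ]; exact minpoly.aeval F θ
    have h1 : aeval θ gF = aeval θ gF - aeval θ f := by rw [h0, sub_zero]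
    rw [h1, hgF, hg]
    conv_lhs => rw [hf_eq]
    simp only [Polynomial.map_add, Polynomial.map_pow, Polynomial.map_X, Polynomial.map_sum,
      Polynomial.map_mul, Polynomial.map_C, map_add, map_pow, aeval_X, map_sum, map_mul, aeval_C]
    rw [add_sub_add_left_eq_sub, ← Finset.sum_sub_distrib]
    refine Finset.sum_congr rfl fun i _ => ?_
    rw [map_sub, sub_mul]
  have hnorm_gθ : ‖aeval θ gF‖ < δ ^ n := by
    have hle : ‖aeval θ gF‖ ≤ ε * R ^ n := by
      rw [hgθ]
      refine IsUltrametricDist.norm_sum_le_of_forall_le_of_nonneg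
        (mul_nonneg hεpos.le (pow_nonneg hRpos.le n)) ?_
      intro i hi
      rw [norm_mul, norm_algebraMap', norm_pow]
      refine mul_le_mul (hb i).le ?_ (pow_nonneg (norm_nonneg _) _) hεpos.le
      calc ‖θ‖ ^ i ≤ R ^ i := pow_le_pow_left₀ (norm_nonneg _) (le_max_right _ _) i
        _ ≤ R ^ n := pow_le_pow_right₀ hR1 (Finset.mem_range.1 hi).le
    refine hle.trans_lt ?_
    rw [hε, div_mul_eq_mul_div, div_lt_iff₀ (mul_pos two_pos (pow_pos hRpos n))]
    have : 0 < δ ^ n * R ^ n := mul_pos (pow_pos hδ n) (pow_pos hRpos n)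
    linarith
  -- a root of `g` close to `θ`
  have hsplit : (gF.map (algebraMap F Ω)).Splits := IsAlgClosed.splits _
  have hprod : aeval θ gF = ((gF.aroots Ω).map (θ - ·)).prod :=
    hsplit.aeval_eq_prod_aroots_of_monic hgFmonic θ
  have hcard : Multiset.card (gF.aroots Ω) = n := by
    rw [Polynomial.aroots_def, ← hsplit.natDegree_eq_card_roots, hgFmonic.natDegree_map, hgFdeg]
  obtain ⟨θ', hθ'mem, hθ'lt⟩ : ∃ θ' ∈ gF.aroots Ω, ‖θ - θ'‖ < δ := by
    have hnp : ‖((gF.aroots Ω).map (θ - ·)).prod‖ =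
        (((gF.aroots Ω).map (θ - ·)).map (fun x => ‖x‖)).prod :=
      map_multiset_prod (normHom : Ω →*₀ ℝ) _
    have h1 : (((gF.aroots Ω).map (θ - ·)).map (fun x => ‖x‖)).prod <
        δ ^ Multiset.card (((gF.aroots Ω).map (θ - ·)).map (fun x => ‖x‖)) := by
      rw [Multiset.card_map, Multiset.card_map, hcard, ← hnp, ← hprod]
      exact hnorm_gθ
    obtain ⟨a, ha, halt⟩ := exists_lt_of_prod_lt _ δ hδ.le (by
      intro a ha
      obtain ⟨x, -, rfl⟩ := Multiset.mem_map.1 ha
      exact norm_nonneg x) h1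
    obtain ⟨x, hx, rfl⟩ := Multiset.mem_map.1 ha
    obtain ⟨r, hr, rfl⟩ := Multiset.mem_map.1 hx
    exact ⟨r, hr, halt⟩
  have hθ'root : aeval θ' gF = 0 := ((Polynomial.mem_aroots).1 hθ'mem).2
  have hintθ' : IsIntegral F θ' := Algebra.IsIntegral.isIntegral θ'
  -- Krasner
  have hkr : θ ∈ F⟮θ'⟯ := by
    refine IsKrasner.krasner (K := F) (L := Ω) hsepθ (IsAlgClosed.splits _) hintθ' ?_
    intro x' hx' hne
    refine hθ'lt.trans_le (hδle x' ?_)
    rw [Finset.mem_erase, Multiset.mem_toFinset, Polynomial.mem_aroots]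
    refine ⟨hne.symm, hfmonic.ne_zero, ?_⟩
    have h2 : minpoly F θ = minpoly F x' := hx'
    rw [← hminθ, h2]
    exact minpoly.aeval F x'
  have hle : F⟮θ⟯ ≤ F⟮θ'⟯ := IntermediateField.adjoin_simple_le_iff.2 hkr
  haveI : FiniteDimensional F F⟮θ'⟯ := IntermediateField.adjoin.finiteDimensional hintθ'
  have hdeg1 : n ≤ (minpoly F θ').natDegree := by
    rw [← IntermediateField.adjoin.finrank hintθ', hn, ← hminθ,
      ← IntermediateField.adjoin.finrank hintθ]
    exact IntermediateField.finrank_le_of_le_right hle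
  have hdvd : minpoly F θ' ∣ gF := minpoly.dvd F θ' hθ'root
  have hmin' : gF = minpoly F θ' :=
    Polynomial.eq_of_monic_of_dvd_of_natDegree_le (minpoly.monic hintθ') hgFmonic hdvd
      (by rw [hgFdeg]; exact hdeg1)
  have hirr : Irreducible gF := by rw [hmin']; exact minpoly.irreducible hintθ'
  -- `θ'` comes from `M`
  have hrange : F⟮θ⟯ = ι.fieldRange := by
    have h1 : (F⟮θ₀⟯).map ι = F⟮θ⟯ := by
      rw [IntermediateField.adjoin_map, Set.image_singleton]
    rw [← h1, hθ₀, ← AlgHom.fieldRange_eq_map]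
  have hfin_eq : F⟮θ⟯ = F⟮θ'⟯ := by
    refine IntermediateField.eq_of_le_of_finrank_le hle ?_
    rw [IntermediateField.adjoin.finrank hintθ', IntermediateField.adjoin.finrank hintθ, hminθ,
      ← hmin', hgFdeg]
  obtain ⟨θ₁, hθ₁⟩ : ∃ θ₁ : M, ι θ₁ = θ' := by
    have h1 : θ' ∈ F⟮θ'⟯ := IntermediateField.mem_adjoin_simple_self F θ'
    rw [← hfin_eq, hrange] at h1
    exact h1
  have hθ₁root : aeval θ₁ gF = 0 := by
    have hinj : Function.Injective ι := ι.toRingHom.injective
    apply hinj
    rw [← Polynomial.aeval_algHom_apply, hθ₁, hθ'root, map_zero]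
  have hminθ₁ : minpoly F θ₁ = gF := by
    rw [hmin', ← hθ₁]
    exact (minpoly.algHom_eq ι ι.injective θ₁).symm
  have hsep : gF.Separable := by
    rw [← hminθ₁]; exact Algebra.IsSeparable.isSeparable F θ₁
  -- the isomorphism
  haveI : Fact (Irreducible gF) := ⟨hirr⟩
  let φ : AdjoinRoot gF →ₐ[F] M := AdjoinRoot.liftAlgHom gF (Algebra.ofId F M) θ₁ (by
    have h := hθ₁root
    rw [Polynomial.aeval_def] at h
    exact h)
  have hφinj : Function.Injective φ := φ.toRingHom.injective
  haveI : FiniteDimensional F (AdjoinRoot gF) := (AdjoinRoot.powerBasis hirr.ne_zero).finite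
  have hfr : Module.finrank F (AdjoinRoot gF) = Module.finrank F M := by
    rw [(AdjoinRoot.powerBasis hirr.ne_zero).finrank, AdjoinRoot.powerBasis_dim, hgFdeg, hnM]
  have hφsurj : Function.Surjective φ :=
    (LinearMap.injective_iff_surjective_of_finrank_eq_finrank (f := φ.toLinearMap) hfr).1 hφinj
  exact ⟨g, hgmonic, hirr, hsep, ⟨AlgEquiv.ofBijective φ ⟨hφinj, hφsurj⟩⟩⟩

end Groth.Agent.Helper27.Kr
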