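import Mathlib
import Groth.Agent.Lib.Helper27.KrA
import Groth.Agent.Lib.Helper17.VR2
import Groth.Agent.Lib.Helper1.CompletionDim

/-! Finite separable extensions of the completed fraction field of a DVR come from the
fraction field (via Krasner's lemma). -/

set_option autoImplicit false

namespace Groth.Agent.Helper27.Kr

open IsLocalRing TensorProduct Polynomial IntermediateField

universe u

/-- base change of `AdjoinRoot` along a field extension -/
theorem adjoinRoot_tensor (K Kh : Type u) [Field K] [Field Kh] [Algebra K Kh] (g : K[X])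
    (hg : g.Monic) (hirr : Irreducible (g.map (algebraMap K Kh))) :
    Nonempty ((Kh ⊗[K] AdjoinRoot g) ≃ₐ[Kh] AdjoinRoot (g.map (algebraMap K Kh))) := by
  set gh := g.map (algebraMap K Kh) with hgh
  haveI : Fact (Irreducible gh) := ⟨hirr⟩
  have hroot : Polynomial.eval₂ (algebraMap K (AdjoinRoot gh)) (AdjoinRoot.root gh) g = 0 := by
    have h1 : algebraMap K (AdjoinRoot gh) = (algebraMap Kh (AdjoinRoot gh)).comp (algebraMap K Kh) :=
      IsScalarTower.algebraMap_eq K Kh (AdjoinRoot gh)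
    rw [h1, ← Polynomial.eval₂_map]
    exact AdjoinRoot.eval₂_root gh
  let j : AdjoinRoot g →ₐ[K] AdjoinRoot gh :=
    AdjoinRoot.liftAlgHom g (Algebra.ofId K (AdjoinRoot gh)) (AdjoinRoot.root gh) hroot
  let ψ : Kh ⊗[K] AdjoinRoot g →ₐ[Kh] AdjoinRoot gh :=
    Algebra.TensorProduct.lift (Algebra.ofId Kh (AdjoinRoot gh)) j (fun _ _ => Commute.all _ _)
  have hψroot : ψ (1 ⊗ₜ AdjoinRoot.root g) = AdjoinRoot.root gh := by
    simp only [ψ, Algebra.TensorProduct.lift_tmul, map_one, one_mul, j]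
    exact AdjoinRoot.liftAlgHom_root _ _ _ _
  have hsurj : Function.Surjective ψ := by
    rw [← AlgHom.range_eq_top, eq_top_iff, ← AdjoinRoot.adjoinRoot_eq_top, Algebra.adjoin_le_iff]
    rintro _ rfl
    exact ⟨_, hψroot⟩
  have hgmonic' : gh.Monic := hg.map _
  have hg0 : g ≠ 0 := hg.ne_zero
  haveI : Module.Finite K (AdjoinRoot g) := (AdjoinRoot.powerBasis' hg).finite
  haveI : Module.Free K (AdjoinRoot g) := Module.Free.of_basis (AdjoinRoot.powerBasis' hg).basis
  haveI : FiniteDimensional Kh (AdjoinRoot gh) := (AdjoinRoot.powerBasis hirr.ne_zero).finite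
  have hfr : Module.finrank Kh (Kh ⊗[K] AdjoinRoot g) = Module.finrank Kh (AdjoinRoot gh) := by
    rw [Module.finrank_baseChange, (AdjoinRoot.powerBasis' hg).finrank,
      (AdjoinRoot.powerBasis hirr.ne_zero).finrank, AdjoinRoot.powerBasis_dim,
      AdjoinRoot.powerBasis'_dim, hgh, hg.natDegree_map]
  have hinj : Function.Injective ψ :=
    (LinearMap.injective_iff_surjective_of_finrank_eq_finrank (f := ψ.toLinearMap) hfr).2 hsurj
  exact ⟨AlgEquiv.ofBijective ψ ⟨hinj, hsurj⟩⟩

/-- separability of `AdjoinRoot` of a separable irreducible polynomial -/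
theorem adjoinRoot_isSeparable (K : Type u) [Field K] (g : K[X]) (hg : g.Monic)
    [Fact (Irreducible g)] (hsep : g.Separable) : Algebra.IsSeparable K (AdjoinRoot g) := by
  have hmin : minpoly K (AdjoinRoot.root g) = g := by
    rw [AdjoinRoot.minpoly_root hg.ne_zero, hg.leadingCoeff, inv_one, map_one, mul_one]
  have h1 : IsSeparable K (AdjoinRoot.root g) := by
    unfold IsSeparable
    rw [hmin]; exact hsep
  have h2 : Algebra.IsSeparable K K⟮AdjoinRoot.root g⟯ :=
    (IntermediateField.isSeparable_adjoin_simple_iff_isSeparable K (AdjoinRoot g)).2 h1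
  have h3 : K⟮AdjoinRoot.root g⟯ = ⊤ :=
    IntermediateField.adjoin_eq_top_of_algebra K _ AdjoinRoot.adjoinRoot_eq_top
  rw [h3] at h2
  exact AlgEquiv.Algebra.isSeparable (IntermediateField.topEquiv (F := K) (E := AdjoinRoot g))

/-- abstract form: `Ah` a complete DVR in which `A` is dense, with the same uniformizer -/
theorem main_abstract (A K : Type u) [CommRing A] [IsDomain A]
    [IsDiscreteValuationRing A] [Field K] [Algebra A K] [IsFractionRing A K]
    (Ah : Type u) [CommRing Ah] [IsDomain Ah] [IsDiscreteValuationRing Ah] [Algebra A Ah]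
    (ϖ : A) (hϖ0 : ϖ ≠ 0) (hmax : maximalIdeal Ah = Ideal.span {algebraMap A Ah ϖ})
    [IsAdicComplete (Ideal.span {algebraMap A Ah ϖ}) Ah]
    (happrox : ∀ (a : Ah) (k : ℕ), ∃ (a₀ : A) (c : Ah),
      a - algebraMap A Ah a₀ = (algebraMap A Ah ϖ) ^ k * c)
    (Kh : Type u) [Field Kh] [Algebra Ah Kh] [IsFractionRing Ah Kh] [Algebra A Kh] [Algebra K Kh]
    [IsScalarTower A Ah Kh] [IsScalarTower A K Kh]
    (M : Type u) [Field M] [Algebra Kh M] [FiniteDimensional Kh M] [Algebra.IsSeparable Kh M] :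
    ∃ (L : Type u) (_ : Field L) (_ : Algebra K L), FiniteDimensional K L ∧ Algebra.IsSeparable K L ∧
      Nonempty ((Kh ⊗[K] L) ≃ₐ[Kh] M) := by
  classical
  set t : Ah := algebraMap A Ah ϖ with ht_def
  have ht : t ≠ 0 := by
    intro h0
    have h1 : maximalIdeal Ah = ⊥ := by rw [hmax, h0, Ideal.span_singleton_eq_bot]
    exact IsDiscreteValuationRing.not_isField Ah (IsLocalRing.isField_iff_maximalIdeal_eq.2 h1)
  have htu : ¬ IsUnit t := by
    have : t ∈ maximalIdeal Ah := by rw [hmax]; exact Ideal.mem_span_singleton_self t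
    exact (IsLocalRing.mem_maximalIdeal t).1 this
  letI nnf : NontriviallyNormedField Kh := Groth.Agent.Helper17.VR.nnfInst Ah Kh t ht htu
  haveI : CompleteSpace Kh := Groth.Agent.Helper17.VR.completeSpace Ah Kh t ht htu
  haveI : IsUltrametricDist Kh := by
    letI := Groth.Agent.Helper17.VR.valuedInst Ah Kh
    letI : (Valued.v (R := Kh)).RankOne := Groth.Agent.Helper17.VR.rankOneInst Ah Kh t ht htu
    infer_instance
  set τ : Kh := algebraMap Ah Kh t with hτ
  have hτ0 : τ ≠ 0 := (map_ne_zero_iff _ (IsFractionRing.injective Ah Kh)).mpr ht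
  have hτlt : ‖τ‖ < 1 := Groth.Agent.Helper17.VR.norm_t_lt_one Ah Kh t ht htu
  have hτpos : 0 < ‖τ‖ := norm_pos_iff.mpr hτ0
  have hτK : algebraMap K Kh (algebraMap A K ϖ) = τ := by
    rw [hτ, ht_def, ← IsScalarTower.algebraMap_apply, ← IsScalarTower.algebraMap_apply]
  have hϖK : algebraMap A K ϖ ≠ 0 := (map_ne_zero_iff _ (IsFractionRing.injective A K)).mpr hϖ0
  -- density
  have hdense : DenseRange (algebraMap K Kh) := by
    rw [Metric.denseRange_iff]
    intro x r hr
    -- scale `x` into the valuation ring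
    obtain ⟨N, hN⟩ : ∃ N : ℕ, ‖x * τ ^ N‖ ≤ 1 := by
      by_cases hx : x = 0
      · exact ⟨0, by rw [hx, zero_mul, norm_zero]; exact zero_le_one⟩
      · have hxpos : 0 < ‖x‖ := norm_pos_iff.mpr hx
        obtain ⟨N, hN⟩ := exists_pow_lt_of_lt_one (inv_pos.mpr hxpos) hτlt
        refine ⟨N, ?_⟩
        rw [norm_mul, norm_pow]
        have := mul_lt_mul_of_pos_left hN hxpos
        rw [mul_inv_cancel₀ hxpos.ne'] at this
        exact this.le
    obtain ⟨a, ha⟩ := (Groth.Agent.Helper17.VR.norm_le_one_iff Ah Kh t ht htu _).1 hN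
    obtain ⟨k, hk⟩ := exists_pow_lt_of_lt_one (mul_pos hr (pow_pos hτpos N)) hτlt
    obtain ⟨a₀, c, hc⟩ := happrox a k
    refine ⟨algebraMap A K a₀ / (algebraMap A K ϖ) ^ N, ?_⟩
    have h1 : algebraMap K Kh (algebraMap A K a₀ / (algebraMap A K ϖ) ^ N) =
        algebraMap Ah Kh (algebraMap A Ah a₀) / τ ^ N := by
      rw [map_div₀, map_pow, hτK, ← IsScalarTower.algebraMap_apply, ← IsScalarTower.algebraMap_apply]
    have h2 : x = algebraMap Ah Kh a / τ ^ N := by
      rw [ha, mul_div_assoc, div_self (pow_ne_zero N hτ0), mul_one]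
    have h3 : x - algebraMap K Kh (algebraMap A K a₀ / (algebraMap A K ϖ) ^ N) =
        τ ^ k * algebraMap Ah Kh c / τ ^ N := by
      rw [h1, h2, ← sub_div, ← map_sub, hc, map_mul, map_pow]
    rw [dist_eq_norm, h3, norm_div, norm_mul, norm_pow, norm_pow, div_lt_iff₀ (pow_pos hτpos N)]
    have hc1 : ‖algebraMap Ah Kh c‖ ≤ 1 :=
      (Groth.Agent.Helper17.VR.norm_le_one_iff Ah Kh t ht htu _).2 ⟨c, rfl⟩
    calc ‖τ‖ ^ k * ‖algebraMap Ah Kh c‖ ≤ ‖τ‖ ^ k * 1 :=
          mul_le_mul_of_nonneg_left hc1 (pow_nonneg hτpos.le k)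
      _ = ‖τ‖ ^ k := mul_one _
      _ < r * ‖τ‖ ^ N := hk
  obtain ⟨g, hgmonic, hirr, hsep, ⟨e⟩⟩ := exists_approx_poly Kh K hdense M
  have hgirr : Irreducible g :=
    hgmonic.irreducible_of_irreducible_map (algebraMap K Kh) g hirr
  haveI : Fact (Irreducible g) := ⟨hgirr⟩
  have hgsep : g.Separable := (Polynomial.separable_map (algebraMap K Kh)).1 hsep
  obtain ⟨e₁⟩ := adjoinRoot_tensor K Kh g hgmonic hirr
  refine ⟨AdjoinRoot g, inferInstance, inferInstance, (AdjoinRoot.powerBasis' hgmonic).finite,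
    adjoinRoot_isSeparable K g hgmonic hgsep, ⟨e₁.trans e⟩⟩

theorem main7138 (A K : Type u) [CommRing A] [IsDomain A]
    [IsDiscreteValuationRing A] [Field K] [Algebra A K] [IsFractionRing A K]
    (Kh : Type u) [Field Kh] [Algebra (AdicCompletion (IsLocalRing.maximalIdeal A) A) Kh]
    [IsFractionRing (AdicCompletion (IsLocalRing.maximalIdeal A) A) Kh] [Algebra A Kh] [Algebra K Kh]
    [IsScalarTower A (AdicCompletion (IsLocalRing.maximalIdeal A) A) Kh] [IsScalarTower A K Kh]
    (M : Type u) [Field M] [Algebra Kh M] [FiniteDimensional Kh M] [Algebra.IsSeparable Kh M] :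
    ∃ (L : Type u) (_ : Field L) (_ : Algebra K L), FiniteDimensional K L ∧ Algebra.IsSeparable K L ∧
      Nonempty ((Kh ⊗[K] L) ≃ₐ[Kh] M) := by
  classical
  obtain ⟨hdom, hdvr⟩ :=
    (Groth.Agent.Helper1.isDiscreteValuationRing_adicCompletion_iff A).1 ⟨inferInstance, inferInstance⟩
  haveI := hdom
  haveI := hdvr
  obtain ⟨ϖ, hϖ⟩ := IsDiscreteValuationRing.exists_irreducible A
  have hmax : maximalIdeal (AdicCompletion (maximalIdeal A) A) =
      Ideal.span {algebraMap A (AdicCompletion (maximalIdeal A) A) ϖ} := by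
    rw [AdicCompletion.maximalIdeal_eq_map, hϖ.maximalIdeal_eq, Ideal.map_span, Set.image_singleton]
  haveI hcomp : IsAdicComplete (Ideal.span {algebraMap A (AdicCompletion (maximalIdeal A) A) ϖ})
      (AdicCompletion (maximalIdeal A) A) := by
    rw [← hmax]; infer_instance
  have hmap : Ideal.map (algebraMap A (AdicCompletion (maximalIdeal A) A)) (maximalIdeal A) =
      Ideal.span {algebraMap A (AdicCompletion (maximalIdeal A) A) ϖ} :=
    AdicCompletion.maximalIdeal_eq_map.symm.trans hmax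
  refine main_abstract A K (AdicCompletion (maximalIdeal A) A) ϖ hϖ.ne_zero hmax ?_ Kh M
  intro a k
  obtain ⟨a₀, ha₀⟩ := Submodule.mkQ_surjective _ (AdicCompletion.eval (maximalIdeal A) A k a)
  have hker : a - algebraMap A (AdicCompletion (maximalIdeal A) A) a₀ ∈
      LinearMap.ker (AdicCompletion.eval (maximalIdeal A) A k) := by
    rw [LinearMap.mem_ker, map_sub, AdicCompletion.algebraMap_apply, AdicCompletion.eval_of,
      Algebra.algebraMap_self, RingHom.id_apply, ha₀, sub_self]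
  rw [← AdicCompletion.pow_smul_top_eq_ker_eval (maximalIdeal A).fg_of_isNoetherianRing,
    Ideal.smul_top_eq_map, Submodule.restrictScalars_mem, Ideal.map_pow, hmap,
    Ideal.span_singleton_pow, Ideal.mem_span_singleton'] at hker
  obtain ⟨c, hc⟩ := hker
  exact ⟨a₀, c, by rw [← hc, mul_comm]⟩

end Groth.Agent.Helper27.Kr
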