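import Mathlib
import Groth.Agent.Lib.Helper27.LLSf

set_option autoImplicit false
set_option linter.style.haveILetI false

namespace Groth.Agent.Helper27.LLS

open FunFld
open Groth.Agent.Helper16.FF
open scoped WithZero

variable {k K : Type*} [Field k] [Field K] [Algebra k K]

/-! ### pure arithmetic -/

theorem two_mul_sum_sub (r : ℕ) : 2 * ∑ j ∈ Finset.range r, (r - j) = r * (r + 1) := by
  induction r with
  | zero => simp
  | succ r ih =>
    rw [Finset.sum_range_succ']
    have : ∑ j ∈ Finset.range r, (r + 1 - (j + 1)) = ∑ j ∈ Finset.range r, (r - j) := by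
      apply Finset.sum_congr rfl; intro j _; omega
    rw [this, mul_add, ih]
    simp only [Nat.sub_zero]
    ring

theorem tri_le_sum {r d : ℕ} (h : r ≤ d) : r * (r + 1) ≤ 2 * ∑ j ∈ Finset.range d, (r - j) := by
  rw [← two_mul_sum_sub r]
  apply Nat.mul_le_mul_left
  exact Finset.sum_le_sum_of_subset (Finset.range_subset_range.mpr h)

/-! ### weight bounds -/

theorem av_ge [IsAlgClosed k] (hK : IsFunctionField k K) {r : ℕ} {D : Divisor k K}
    {V : Submodule k K} (hV : V ≤ L D) (hVr : Module.finrank k V = r + 1) (P : Place k K) (n : ℕ) :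
    r + 1 ≤ av V D P (n : ℤ) + n := by
  induction n with
  | zero => rw [Nat.cast_zero, av_zero hV, hVr]
  | succ n ih =>
    have := av_le_succ hK V D P (n : ℤ)
    rw [Nat.cast_succ]
    omega

theorem r_le_d [IsAlgClosed k] (hK : IsFunctionField k K) {d r : ℕ} {D : Divisor k K}
    (hD : D.deg = d) {V : Submodule k K} (hV : V ≤ L D) (hVr : Module.finrank k V = r + 1) :
    r ≤ d := by
  obtain ⟨P⟩ := exists_place hK
  have h1 := av_ge hK hV hVr P (d + 1)
  rw [av_eq_zero hK V P (by rw [hD]; push_cast; omega)] at h1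
  omega

theorem two_mul_wt_ge [IsAlgClosed k] (hK : IsFunctionField k K) {d r : ℕ} {D : Divisor k K}
    (hD : D.deg = d) {V : Submodule k K} (hV : V ≤ L D) (hVr : Module.finrank k V = r + 1)
    (P : Place k K) : r * (r + 1) ≤ 2 * wt V D P d := by
  refine (tri_le_sum (r_le_d hK hD hV hVr)).trans ?_
  apply Nat.mul_le_mul_left
  unfold wt
  apply Finset.sum_le_sum
  intro j _
  have := av_ge hK hV hVr P (j + 1)
  rw [Nat.cast_succ] at this
  omega

theorem two_mul_wt_le [IsAlgClosed k] (hK : IsFunctionField k K) {d r : ℕ} {D : Divisor k K}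
    (hD : D.deg = d) {V : Submodule k K} (hV : V ≤ L D) (hVr : Module.finrank k V = r + 1)
    (P : Place k K) : 2 * wt V D P d + r * (r + 1) ≤ 2 * ((r + 1) * d) := by
  have := infinite_places hK
  obtain ⟨Q, hQ⟩ := exists_ne P
  have h1 := wt_add_le hK hV (Ne.symm hQ) hD
  rw [hVr] at h1
  have h2 := two_mul_wt_ge hK hD hV hVr Q
  omega

theorem av_ge_of_cusp [IsAlgClosed k] (hK : IsFunctionField k K) {r : ℕ} {D : Divisor k K}
    {V : Submodule k K} {Q : Place k K} (hcusp : r ≤ av V D Q 2) (n : ℕ) :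
    r + 2 ≤ av V D Q ((n : ℤ) + 2) + (n + 2) := by
  induction n with
  | zero => simp only [Nat.cast_zero, zero_add]; omega
  | succ n ih =>
    have := av_le_succ hK V D Q ((n : ℤ) + 2)
    have e : ((n + 1 : ℕ) : ℤ) + 2 = (n : ℤ) + 2 + 1 := by push_cast; ring
    rw [e]
    omega

theorem two_mul_wt_ge_of_cusp [IsAlgClosed k] (hK : IsFunctionField k K) {d r : ℕ}
    {D : Divisor k K} (hD : D.deg = d) {V : Submodule k K} (hV : V ≤ L D)
    (hVr : Module.finrank k V = r + 1) {Q : Place k K} (hcusp : r ≤ av V D Q 2) :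
    r * (r + 1) + 2 * r ≤ 2 * wt V D Q d := by
  rcases Nat.eq_zero_or_pos r with hr | hr
  · subst hr; simp
  -- `r + 1 ≤ d`
  have hd : r + 1 ≤ d := by
    rcases Nat.eq_zero_or_pos d with hd0 | hd0
    · subst hd0
      rw [av_eq_zero hK V Q (by rw [hD]; norm_num)] at hcusp
      omega
    · obtain ⟨n, hn⟩ : ∃ n : ℕ, d + 1 = n + 2 := ⟨d - 1, by omega⟩
      have h1 := av_ge_of_cusp hK hcusp n
      have e : (n : ℤ) + 2 = ((d + 1 : ℕ) : ℤ) := by rw [hn]; push_cast; ring
      rw [e, av_eq_zero hK V Q (by rw [hD]; push_cast; omega)] at h1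
      omega
  -- lower bound function
  have hlb : ∀ j : ℕ, (if j = 0 then r else r + 1 - j) ≤ av V D Q ((j : ℤ) + 1) := by
    intro j
    rcases Nat.eq_zero_or_pos j with hj | hj
    · subst hj
      simp only [if_true, Nat.cast_zero, zero_add]
      exact hcusp.trans (av_anti hK hV Q (by norm_num))
    · rw [if_neg (by omega)]
      obtain ⟨n, rfl⟩ : ∃ n : ℕ, j = n + 1 := ⟨j - 1, by omega⟩
      have h1 := av_ge_of_cusp hK hcusp n
      have e : ((n + 1 : ℕ) : ℤ) + 1 = (n : ℤ) + 2 := by push_cast; ring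
      rw [e]
      omega
  have h2 : ∑ j ∈ Finset.range (r + 1), (if j = 0 then r else r + 1 - j) ≤ wt V D Q d := by
    unfold wt
    calc _ ≤ ∑ j ∈ Finset.range d, (if j = 0 then r else r + 1 - j) :=
          Finset.sum_le_sum_of_subset (Finset.range_subset_range.mpr hd)
      _ ≤ _ := Finset.sum_le_sum fun j _ => hlb j
  have h3 : ∑ j ∈ Finset.range (r + 1), (if j = 0 then r else r + 1 - j) =
      ∑ j ∈ Finset.range r, (r - j) + r := by
    rw [Finset.sum_range_succ']
    simp only [if_true]
    congr 1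
    apply Finset.sum_congr rfl
    intro j _
    rw [if_neg (by omega)]
    omega
  have h4 := two_mul_sum_sub r
  omega

/-! ### positive genus -/

theorem ell_le_one_of_deg_one [IsAlgClosed k] (hK : IsFunctionField k K) (hg : 0 < genus k K)
    {D : Divisor k K} (hD : D.deg = 1) : ell D ≤ 1 := by
  classical
  by_contra hcon
  push Not at hcon
  obtain ⟨x, hx0, hx⟩ := exists_ne_zero_mem_L hK (D := D) (by omega)
  rw [mem_L_iff hK _ hx0] at hx
  have hE : 0 ≤ D + div k x := by
    have := sub_nonneg.mpr hx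
    have e : div k x - -D = D + div k x := by abel
    rwa [e] at this
  have hdegE : (D + div k x).deg = 1 := by rw [deg_add_div hK, hD]
  have hne : D + div k x ≠ 0 := by
    intro h0
    rw [h0, Divisor.deg_zero] at hdegE
    omega
  obtain ⟨R, hR⟩ := Finsupp.ne_iff.mp hne
  rw [Finsupp.zero_apply] at hR
  have hR1 : 1 ≤ (D + div k x) R := by
    have := hE R
    rw [Finsupp.zero_apply] at this
    omega
  have hE' : 0 ≤ D + div k x - Finsupp.single R 1 := by
    intro S
    have := hE S
    simp only [Finsupp.coe_zero, Pi.zero_apply, Finsupp.coe_sub, Pi.sub_apply,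
      Finsupp.single_apply] at this ⊢
    split_ifs with h
    · subst h; omega
    · omega
  have hdeg' : (D + div k x - Finsupp.single R 1).deg ≤ 0 := by
    rw [Divisor.deg_sub, hdegE, Divisor.deg_single, Place.deg_eq_one hK]; simp
  have h0 := eq_zero_of_nonneg_of_deg_le hK hE' hdeg'
  have h1 : D + div k x = Finsupp.single R 1 := sub_eq_zero.mp h0
  have h2 := ell_add_div hK D hx0
  rw [h1, ell_single_one_of_genus_pos hK hg (Place.deg_eq_one hK R)] at h2
  omega

theorem av_le_one_of_genus_pos [IsAlgClosed k] (hK : IsFunctionField k K) (hg : 0 < genus k K)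
    {d : ℕ} {D : Divisor k K} (hD : D.deg = d) (V : Submodule k K) (A : Place k K) :
    av V D A ((d : ℤ) - 1) ≤ 1 := by
  have := finiteDimensional_L hK (D - Finsupp.single A ((d : ℤ) - 1))
  have h1 : av V D A ((d : ℤ) - 1) ≤ ell (D - Finsupp.single A ((d : ℤ) - 1)) :=
    Submodule.finrank_mono inf_le_right
  have h2 := ell_le_one_of_deg_one hK hg (D := D - Finsupp.single A ((d : ℤ) - 1))
    (by rw [deg_sub_single hK, hD]; ring)
  omega

/-! ### compatibility sums -/

theorem wt_add_eq_of_compat {K' : Type*} [Field K'] [Algebra k K']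
    {d r : ℕ} {D : Divisor k K} {V : Submodule k K} {B : Place k K}
    {D' : Divisor k K'} {V' : Submodule k K'} {A : Place k K'}
    (hcomp : ∀ m : ℕ, m ≤ d + 1 → av V D B (m : ℤ) + av V' D' A ((d : ℤ) + 1 - m) = r + 1) :
    wt V D B d + wt V' D' A d = (r + 1) * d := by
  rw [wt_reflect V' D' A d]
  unfold wt
  rw [← Finset.sum_add_distrib]
  calc _ = ∑ _j ∈ Finset.range d, (r + 1) := by
        apply Finset.sum_congr rfl
        intro j hj
        rw [Finset.mem_range] at hj
        have := hcomp (j + 1) (by omega)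
        have e : (d : ℤ) + 1 - ((j + 1 : ℕ) : ℤ) = (d : ℤ) - j := by push_cast; ring
        rw [e, Nat.cast_succ] at this
        exact this
    _ = (r + 1) * d := by rw [Finset.sum_const, Finset.card_range, smul_eq_mul, mul_comm]

end Groth.Agent.Helper27.LLS
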