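import Mathlib

set_option autoImplicit false

namespace Groth.Agent.Helper27.LLS

/-! ### pure chain lemmas -/

theorem chain_lower {wA wB : ℕ → ℕ} {n M c : ℕ} (h0 : wB 0 + c ≤ M)
    (hstep : ∀ l, l < n → wB l + wA (l + 1) = M)
    (hin : ∀ l, 0 < l → l < n → wA l + wB l ≤ M) :
    ∀ l, 0 < l → l ≤ n → c ≤ wA l := by
  intro l
  induction l with
  | zero => intro h; omega
  | succ l ih =>
    intro _ hl
    have hs := hstep l (by omega)
    rcases Nat.eq_zero_or_pos l with h | h
    · subst h; omega
    · have := ih h (by omega)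
      have := hin l h (by omega)
      omega

theorem chain_cusp {aA aB : ℕ → ℕ} {n r : ℕ} (hstep : ∀ l, l < n → aB l + aA (l + 1) = r + 1)
    (hin : ∀ l, 0 < l → l < n → aA l + aB l ≤ r + 1) (hend : aA n ≤ 1) :
    ∀ l, l < n → r ≤ aB l := by
  have key : ∀ k l, l + k + 1 = n → r ≤ aB l := by
    intro k
    induction k with
    | zero =>
      intro l hl
      have := hstep l (by omega)
      have e : l + 1 = n := by omega
      rw [e] at this
      omega
    | succ k ih =>
      intro l hl
      have h1 := ih (l + 1) (by omega)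
      have h2 := hin (l + 1) (by omega) (by omega)
      have h3 := hstep l (by omega)
      omega
  intro l hl
  exact key (n - l - 1) l (by omega)

theorem card_filter_lt_succ (T : Finset ℕ) (i : ℕ) :
    (T.filter (· < i + 1)).card = (T.filter (· < i)).card + (if i ∈ T then 1 else 0) := by
  have h1 : T.filter (· < i + 1) = T.filter (· < i) ∪ T.filter (· = i) := by
    ext x; simp only [Finset.mem_filter, Finset.mem_union]
    constructor
    · rintro ⟨hx, h⟩
      rcases Nat.lt_succ_iff_lt_or_eq.mp h with h | h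
      · exact Or.inl ⟨hx, h⟩
      · exact Or.inr ⟨hx, h⟩
    · rintro (⟨hx, h⟩ | ⟨hx, h⟩)
      · exact ⟨hx, by omega⟩
      · exact ⟨hx, by omega⟩
  have h2 : Disjoint (T.filter (· < i)) (T.filter (· = i)) := by
    rw [Finset.disjoint_filter]; intro x _ h1 h2; omega
  rw [h1, Finset.card_union_of_disjoint h2, Finset.filter_eq']
  split_ifs <;> simp

theorem card_filter_gt (T : Finset ℕ) (i : ℕ) :
    (T.filter (i < ·)).card = (T.filter (i + 1 < ·)).card + (if i + 1 ∈ T then 1 else 0) := by
  have h1 : T.filter (i < ·) = T.filter (i + 1 < ·) ∪ T.filter (· = i + 1) := by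
    ext x; simp only [Finset.mem_filter, Finset.mem_union]
    constructor
    · rintro ⟨hx, h⟩
      rcases Nat.lt_or_ge (i + 1) x with h' | h'
      · exact Or.inl ⟨hx, h'⟩
      · exact Or.inr ⟨hx, by omega⟩
    · rintro (⟨hx, h⟩ | ⟨hx, h⟩)
      · exact ⟨hx, by omega⟩
      · exact ⟨hx, by omega⟩
  have h2 : Disjoint (T.filter (i + 1 < ·)) (T.filter (· = i + 1)) := by
    rw [Finset.disjoint_filter]; intro x _ h1 h2; omega
  rw [h1, Finset.card_union_of_disjoint h2, Finset.filter_eq']
  split_ifs <;> simp

theorem chain_left {wA wB : ℕ → ℕ} {N M e r : ℕ} (T : Finset ℕ)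
    (h0 : wB 0 + e + (if 0 ∈ T then r else 0) ≤ M)
    (hstep : ∀ l, l < N → wB l + wA (l + 1) = M)
    (hin : ∀ l, 0 < l → l < N → wA l + wB l + (if l ∈ T then r else 0) ≤ M) :
    ∀ i, 0 < i → i ≤ N → e + r * (T.filter (· < i)).card ≤ wA i := by
  intro i
  induction i with
  | zero => intro h; omega
  | succ i ih =>
    intro _ hi
    have hs := hstep i (by omega)
    rw [card_filter_lt_succ]
    rcases Nat.eq_zero_or_pos i with h | h
    · subst h
      have : (T.filter (· < 0)).card = 0 := by simp
      rw [this]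
      split_ifs at h0 ⊢ <;> omega
    · have h1 := ih h (by omega)
      have h2 := hin i h (by omega)
      rw [mul_add]
      split_ifs at h2 ⊢ <;> omega

theorem chain_right {wA wB : ℕ → ℕ} {N M e r : ℕ} (T : Finset ℕ)
    (hN : wA N + e + (if N ∈ T then r else 0) ≤ M)
    (hstep : ∀ l, l < N → wB l + wA (l + 1) = M)
    (hin : ∀ l, 0 < l → l < N → wA l + wB l + (if l ∈ T then r else 0) ≤ M)
    (hT : ∀ x ∈ T, x ≤ N) :
    ∀ i, i < N → e + r * (T.filter (i < ·)).card ≤ wB i := by
  have hc0 : (T.filter (N < ·)).card = 0 := by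
    rw [Finset.card_eq_zero, Finset.filter_eq_empty_iff]
    intro x hx; have := hT x hx; omega
  have key : ∀ k i, i + k + 1 = N → e + r * (T.filter (i < ·)).card ≤ wB i := by
    intro k
    induction k with
    | zero =>
      intro i hi
      have e1 : i + 1 = N := by omega
      have hs := hstep i (by omega)
      rw [card_filter_gt, e1, hc0, zero_add]
      rw [e1] at hs
      split_ifs at hN ⊢ <;> omega
    | succ k ih =>
      intro i hi
      have h1 := ih (i + 1) (by omega)
      have h2 := hin (i + 1) (by omega) (by omega)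
      have h3 := hstep i (by omega)
      rw [card_filter_gt, mul_add]
      split_ifs at h2 ⊢ <;> omega
  intro i hi
  exact key (N - i - 1) i (by omega)

theorem card_erase_eq (T : Finset ℕ) (i : ℕ) :
    (T.erase i).card = (T.filter (· < i)).card + (T.filter (i < ·)).card := by
  have h1 : T.erase i = T.filter (· < i) ∪ T.filter (i < ·) := by
    ext x; simp only [Finset.mem_erase, Finset.mem_filter, Finset.mem_union]
    constructor
    · rintro ⟨hne, hx⟩
      rcases lt_or_gt_of_ne hne with h | h
      · exact Or.inl ⟨hx, h⟩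
      · exact Or.inr ⟨hx, h⟩
    · rintro (⟨hx, h⟩ | ⟨hx, h⟩)
      · exact ⟨by omega, hx⟩
      · exact ⟨by omega, hx⟩
  have h2 : Disjoint (T.filter (· < i)) (T.filter (i < ·)) := by
    rw [Finset.disjoint_filter]; intro x _ h1 h2; omega
  rw [h1, Finset.card_union_of_disjoint h2]

theorem card_eq_of_le (T : Finset ℕ) {N : ℕ} (hT : ∀ x ∈ T, x ≤ N) :
    T.card = (T.filter (· < N)).card + (if N ∈ T then 1 else 0) := by
  rw [← card_filter_lt_succ]
  congr 1
  rw [Finset.filter_true_of_mem]
  intro x hx; have := hT x hx; omega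

end Groth.Agent.Helper27.LLS
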