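import Mathlib
import Groth.Agent.Lib.Helper27.LLSg
import Groth.Agent.Lib.Helper27.LLSh

set_option autoImplicit false
set_option linter.style.haveILetI false

namespace Groth.Agent.Helper27.LLS

open FunFld
open Groth.Agent.Helper16.FF
open scoped WithZero

theorem two_mul_half (r : ℕ) : 2 * (r * (r + 1) / 2) = r * (r + 1) :=
  Nat.two_mul_div_two_of_even (Nat.even_mul_succ_self r)

section Chain

variable {k : Type*} [Field k] [IsAlgClosed k] [CharZero k]
  {n : ℕ} {U : Fin (n + 1) → Type*} [∀ l, Field (U l)] [∀ l, Algebra k (U l)]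
  (hU : ∀ l, IsFunctionField k (U l))
  {d r : ℕ} {D : ∀ l, Divisor k (U l)} (hD : ∀ l, (D l).deg = d)
  {V : ∀ l, Submodule k (U l)} (hV : ∀ l, V l ≤ L (D l))
  (hVr : ∀ l, Module.finrank k ↥(V l) = r + 1)
  {A B : ∀ l, Place k (U l)}
  (hAB : ∀ l : Fin (n + 1), 0 < (l : ℕ) → (l : ℕ) < n → A l ≠ B l)
  (hcomp : ∀ (l : Fin n) (m : ℕ), m ≤ d + 1 →
      av (V l.castSucc) (D l.castSucc) (B l.castSucc) (m : ℤ) +
        av (V l.succ) (D l.succ) (A l.succ) ((d : ℤ) + 1 - m) = r + 1)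

include hU hD hV hVr hAB hcomp

theorem chain_wt_step (l : ℕ) (hl : l < n) :
    wt (V ⟨l, by omega⟩) (D ⟨l, by omega⟩) (B ⟨l, by omega⟩) d +
      wt (V ⟨l + 1, by omega⟩) (D ⟨l + 1, by omega⟩) (A ⟨l + 1, by omega⟩) d = (r + 1) * d :=
  wt_add_eq_of_compat (hcomp ⟨l, hl⟩)

theorem chain_wt_in (l : ℕ) (h0 : 0 < l) (hl : l < n) :
    wt (V ⟨l, by omega⟩) (D ⟨l, by omega⟩) (A ⟨l, by omega⟩) d +
      wt (V ⟨l, by omega⟩) (D ⟨l, by omega⟩) (B ⟨l, by omega⟩) d ≤ (r + 1) * d := by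
  have := wt_add_le (hU _) (hV ⟨l, by omega⟩) (hAB ⟨l, by omega⟩ h0 hl) (hD _)
  rwa [hVr] at this

/-- S18184 -/
theorem main184 (c : ℕ)
    (hc : wt (V 0) (D 0) (B 0) d + c + r * (r + 1) ≤ (r + 1) * d + r * (r + 1) / 2)
    (l : Fin (n + 1)) (hl : 0 < (l : ℕ)) :
    c + r * (r + 1) / 2 ≤ wt (V l) (D l) (A l) d := by
  have he := two_mul_half r
  set wA : ℕ → ℕ := fun i => if h : i < n + 1 then wt (V ⟨i, h⟩) (D ⟨i, h⟩) (A ⟨i, h⟩) d else 0
    with hwA
  set wB : ℕ → ℕ := fun i => if h : i < n + 1 then wt (V ⟨i, h⟩) (D ⟨i, h⟩) (B ⟨i, h⟩) d else 0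
    with hwB
  have h0 : wB 0 + (c + r * (r + 1) / 2) ≤ (r + 1) * d := by
    simp only [hwB, dif_pos (Nat.succ_pos n)]
    change wt (V 0) (D 0) (B 0) d + _ ≤ _
    generalize r * (r + 1) = q at *
    omega
  have hstep : ∀ i, i < n → wB i + wA (i + 1) = (r + 1) * d := by
    intro i hi
    simp only [hwA, hwB, dif_pos (show i < n + 1 by omega), dif_pos (show i + 1 < n + 1 by omega)]
    exact chain_wt_step hU hD hV hVr hAB hcomp i hi
  have hin : ∀ i, 0 < i → i < n → wA i + wB i ≤ (r + 1) * d := by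
    intro i h0 hi
    simp only [hwA, hwB, dif_pos (show i < n + 1 by omega)]
    exact chain_wt_in hU hD hV hVr hAB hcomp i h0 hi
  have := chain_lower h0 hstep hin l.1 hl (by have := l.2; omega)
  simp only [hwA, dif_pos l.2] at this
  exact this

/-- S18186 -/
theorem main186 (c : ℕ)
    (hc : wt (V 0) (D 0) (B 0) d + c + r * (r + 1) ≤ (r + 1) * d + r * (r + 1) / 2)
    (hn : 0 < n) (Q : Place k (U (Fin.last n))) (hQ : Q ≠ A (Fin.last n)) :
    wt (V (Fin.last n)) (D (Fin.last n)) Q d + c + r * (r + 1) ≤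
      (r + 1) * d + r * (r + 1) / 2 := by
  have he := two_mul_half r
  have h1 := main184 hU hD hV hVr hAB hcomp c hc (Fin.last n) (by simpa using hn)
  have h2 := wt_add_le (hU _) (hV (Fin.last n)) hQ (hD _)
  rw [hVr] at h2
  generalize r * (r + 1) = q at *
  omega

/-- cusps along a chain ending in a curve of positive genus -/
theorem chain_cusp_B (hd : 1 ≤ d) (hpos : 0 < genus k (U (Fin.last n)))
    (l : ℕ) (hl : l < n) :
    r ≤ av (V ⟨l, by omega⟩) (D ⟨l, by omega⟩) (B ⟨l, by omega⟩) 2 := by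
  set aA : ℕ → ℕ := fun i => if h : i < n + 1 then
    av (V ⟨i, h⟩) (D ⟨i, h⟩) (A ⟨i, h⟩) ((d : ℤ) - 1) else 0 with haA
  set aB : ℕ → ℕ := fun i => if h : i < n + 1 then
    av (V ⟨i, h⟩) (D ⟨i, h⟩) (B ⟨i, h⟩) 2 else 0 with haB
  have hstep : ∀ i, i < n → aB i + aA (i + 1) = r + 1 := by
    intro i hi
    simp only [haA, haB, dif_pos (show i < n + 1 by omega), dif_pos (show i + 1 < n + 1 by omega)]
    have := hcomp ⟨i, hi⟩ 2 (by omega)
    have e : (d : ℤ) + 1 - ((2 : ℕ) : ℤ) = (d : ℤ) - 1 := by push_cast; ring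
    rw [e] at this
    exact this
  have hin : ∀ i, 0 < i → i < n → aA i + aB i ≤ r + 1 := by
    intro i h0 hi
    simp only [haA, haB, dif_pos (show i < n + 1 by omega)]
    have := av_add_le (hU _) (hV ⟨i, by omega⟩) (hAB ⟨i, by omega⟩ h0 hi)
      (n := (d : ℤ) - 1) (m := 2) (by rw [hD]; omega)
    rwa [hVr] at this
  have hend : aA n ≤ 1 := by
    simp only [haA, dif_pos (Nat.lt_succ_self n)]
    exact av_le_one_of_genus_pos (hU (Fin.last n)) hpos (hD _) _ _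
  have := chain_cusp hstep hin hend l hl
  simp only [haB, dif_pos (show l < n + 1 by omega)] at this
  exact this

/-- S18185 -/
theorem main185 (hrat : ∀ l : Fin (n + 1), 0 < (l : ℕ) → (l : ℕ) < n → genus k (U l) = 0) (c : ℕ)
    (hc : wt (V 0) (D 0) (B 0) d + c + r * (r + 1) ≤ (r + 1) * d + r * (r + 1) / 2)
    (hpos : 0 < genus k (U (Fin.last n)))
    (l : Fin (n + 1)) (hl0 : 0 < (l : ℕ)) (hln : (l : ℕ) < n)
    (Q' : Place k (U l)) (hQ'A : Q' ≠ A l) (hQ'B : Q' ≠ B l) :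
    wt (V l) (D l) Q' d + c + r + r * (r + 1) ≤ (r + 1) * d + r * (r + 1) / 2 := by
  have he := two_mul_half r
  rcases Nat.eq_zero_or_pos d with hd | hd
  · subst hd
    have hr : r = 0 := by
      have := r_le_d (hU l) (hD l) (hV l) (hVr l); omega
    subst hr
    simp only [wt, Finset.range_zero, Finset.sum_empty] at hc ⊢
    omega
  · have h1 := main184 hU hD hV hVr hAB hcomp c hc l hl0
    have hcusp := chain_cusp_B hU hD hV hVr hAB hcomp hd hpos l.1 hln
    have h2 := wt_add_le_of_cusp (hU l) (hrat l hl0 hln) (hD l) (hV l) (hVr l) (Q := B l) hcusp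
      (A := A l) (B := Q') (Ne.symm hQ'A) (hAB l hl0 hln) hQ'B
    generalize r * (r + 1) = q at *
    omega

end Chain

end Groth.Agent.Helper27.LLS
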