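import Mathlib
import Groth.Agent.Lib.Helper27.LLSi

set_option autoImplicit false
set_option linter.style.haveILetI false

namespace Groth.Agent.Helper27.LLS

open FunFld
open Groth.Agent.Helper16.FF
open scoped WithZero

/-- S18174 -/
theorem main174 {k : Type*} [Field k] [IsAlgClosed k] [CharZero k]
    {KY : Type*} [Field KY] [Algebra k KY] (hKY : IsFunctionField k KY)
    {n : ℕ} (hn : 0 < n)
    {W : Fin n → Type*} [∀ j, Field (W j)] [∀ j, Algebra k (W j)]
    (hW : ∀ j, IsFunctionField k (W j))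
    (hpos : ∀ j : Fin n, (j : ℕ) + 1 = n → 0 < genus k (W j))
    {d r : ℕ} {DY : Divisor k KY} (hDY : DY.deg = d)
    {VY : Submodule k KY} (hVY : VY ≤ L DY) (hVYr : Module.finrank k ↥VY = r + 1)
    {D : ∀ j, Divisor k (W j)} (hD : ∀ j, (D j).deg = d)
    {V : ∀ j, Submodule k (W j)} (hV : ∀ j, V j ≤ L (D j))
    (hVr : ∀ j, Module.finrank k ↥(V j) = r + 1)
    {P : Place k KY} {A B : ∀ j, Place k (W j)}
    (hAB : ∀ j : Fin n, (j : ℕ) + 1 < n → A j ≠ B j)
    (hcomp0 : ∀ m : ℕ, m ≤ d + 1 →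
      av VY DY P (m : ℤ) + av (V ⟨0, hn⟩) (D ⟨0, hn⟩) (A ⟨0, hn⟩) ((d : ℤ) + 1 - m) = r + 1)
    (hcomp : ∀ (j : Fin n) (hj : (j : ℕ) + 1 < n) (m : ℕ), m ≤ d + 1 →
      av (V j) (D j) (B j) (m : ℤ) +
        av (V ⟨(j : ℕ) + 1, hj⟩) (D ⟨(j : ℕ) + 1, hj⟩) (A ⟨(j : ℕ) + 1, hj⟩) ((d : ℤ) + 1 - m)
          = r + 1) :
    r ≤ av VY DY P 2 := by
  rcases Nat.eq_zero_or_pos d with hd | hd
  · subst hd
    have := r_le_d hKY hDY hVY hVYr
    omega
  set aA : ℕ → ℕ := fun i => Nat.casesOn i 0 (fun j => if h : j < n then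
    av (V ⟨j, h⟩) (D ⟨j, h⟩) (A ⟨j, h⟩) ((d : ℤ) - 1) else 0) with haA
  set aB : ℕ → ℕ := fun i => Nat.casesOn i (av VY DY P 2) (fun j => if h : j < n then
    av (V ⟨j, h⟩) (D ⟨j, h⟩) (B ⟨j, h⟩) 2 else 0) with haB
  have e : (d : ℤ) + 1 - ((2 : ℕ) : ℤ) = (d : ℤ) - 1 := by push_cast; ring
  have hstep : ∀ i, i < n → aB i + aA (i + 1) = r + 1 := by
    intro i hi
    cases i with
    | zero =>
      simp only [haA, haB, dif_pos hn]
      have := hcomp0 2 (by omega)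
      rw [e] at this
      exact this
    | succ j =>
      simp only [haA, haB, dif_pos (show j < n by omega), dif_pos hi]
      have := hcomp ⟨j, by omega⟩ hi 2 (by omega)
      rw [e] at this
      exact this
  have hin : ∀ i, 0 < i → i < n → aA i + aB i ≤ r + 1 := by
    intro i h0 hi
    cases i with
    | zero => omega
    | succ j =>
      simp only [haA, haB, dif_pos (show j < n by omega)]
      have := av_add_le (hW _) (hV ⟨j, by omega⟩) (hAB ⟨j, by omega⟩ hi)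
        (n := (d : ℤ) - 1) (m := 2) (by rw [hD]; omega)
      rwa [hVr] at this
  have hend : aA n ≤ 1 := by
    obtain ⟨j, rfl⟩ : ∃ j, n = j + 1 := ⟨n - 1, by omega⟩
    simp only [haA, dif_pos (Nat.lt_succ_self j)]
    exact av_le_one_of_genus_pos (hW _) (hpos ⟨j, Nat.lt_succ_self j⟩ rfl) (hD _) _ _
  exact chain_cusp hstep hin hend 0 hn

end Groth.Agent.Helper27.LLS
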