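import Mathlib
import Groth.Agent.Lib.Helper27.LLSi

set_option autoImplicit false
set_option linter.style.haveILetI false

namespace Groth.Agent.Helper27.LLS

open FunFld
open Groth.Agent.Helper16.FF
open scoped WithZero

theorem mem_map_val {N : ℕ} (T : Finset (Fin (N + 1))) (l : ℕ) (h : l < N + 1) :
    l ∈ T.map Fin.valEmbedding ↔ (⟨l, h⟩ : Fin (N + 1)) ∈ T := by
  rw [Finset.mem_map]
  constructor
  · rintro ⟨x, hx, rfl⟩; exact hx
  · intro hx; exact ⟨⟨l, h⟩, hx, rfl⟩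

section Backbone

variable {k : Type*} [Field k] [IsAlgClosed k] [CharZero k]
  {N : ℕ} {Z : Fin (N + 1) → Type*} [∀ l, Field (Z l)] [∀ l, Algebra k (Z l)]
  (hZ : ∀ l, IsFunctionField k (Z l)) (hrat : ∀ i, genus k (Z i) = 0)
  {d r : ℕ} {D : ∀ l, Divisor k (Z l)} (hD : ∀ l, (D l).deg = d)
  {V : ∀ l, Submodule k (Z l)} (hV : ∀ l, V l ≤ L (D l))
  (hVr : ∀ l, Module.finrank k ↥(V l) = r + 1)
  {A B : ∀ l, Place k (Z l)}
  (hAB : ∀ l : Fin (N + 1), 0 < (l : ℕ) → (l : ℕ) < N → A l ≠ B l)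
  (hcomp : ∀ (l : Fin N) (m : ℕ), m ≤ d + 1 →
      av (V l.castSucc) (D l.castSucc) (B l.castSucc) (m : ℤ) +
        av (V l.succ) (D l.succ) (A l.succ) ((d : ℤ) + 1 - m) = r + 1)
  (T : Finset (Fin (N + 1))) {Q : ∀ i, Place k (Z i)}
  (hQA : ∀ i ∈ T, 0 < (i : ℕ) → Q i ≠ A i) (hQB : ∀ i ∈ T, (i : ℕ) < N → Q i ≠ B i)
  (hcusp : ∀ i ∈ T, r ≤ av (V i) (D i) (Q i) 2)

include hZ hrat hD hV hVr hAB hcomp hQA hQB hcusp

/-- the doubled weight functions -/
theorem backbone_data (hN : 0 < N) :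
    ∃ wA wB : ℕ → ℕ,
      (∀ i (h : i < N + 1), wA i = 2 * wt (V ⟨i, h⟩) (D ⟨i, h⟩) (A ⟨i, h⟩) d) ∧
      (∀ i (h : i < N + 1), wB i = 2 * wt (V ⟨i, h⟩) (D ⟨i, h⟩) (B ⟨i, h⟩) d) ∧
      (wB 0 + r * (r + 1) + (if 0 ∈ T.map Fin.valEmbedding then 2 * r else 0) ≤
        2 * ((r + 1) * d)) ∧
      (wA N + r * (r + 1) + (if N ∈ T.map Fin.valEmbedding then 2 * r else 0) ≤
        2 * ((r + 1) * d)) ∧
      (∀ l, l < N → wB l + wA (l + 1) = 2 * ((r + 1) * d)) ∧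
      (∀ l, 0 < l → l < N →
        wA l + wB l + (if l ∈ T.map Fin.valEmbedding then 2 * r else 0) ≤ 2 * ((r + 1) * d)) := by
  refine ⟨fun i => if h : i < N + 1 then 2 * wt (V ⟨i, h⟩) (D ⟨i, h⟩) (A ⟨i, h⟩) d else 0,
    fun i => if h : i < N + 1 then 2 * wt (V ⟨i, h⟩) (D ⟨i, h⟩) (B ⟨i, h⟩) d else 0,
    fun i h => by simp only [dif_pos h], fun i h => by simp only [dif_pos h], ?_, ?_, ?_, ?_⟩
  · simp only [dif_pos (Nat.succ_pos N)]
    by_cases h0 : (⟨0, Nat.succ_pos N⟩ : Fin (N + 1)) ∈ T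
    · rw [if_pos ((mem_map_val T 0 _).mpr h0)]
      have h1 := wt_add_le (hZ _) (hV ⟨0, Nat.succ_pos N⟩) (hQB _ h0 hN) (hD _)
      rw [hVr] at h1
      have h2 := two_mul_wt_ge_of_cusp (hZ _) (hD _) (hV _) (hVr _) (hcusp _ h0)
      omega
    · rw [if_neg (fun h => h0 ((mem_map_val T 0 _).mp h))]
      have := two_mul_wt_le (hZ _) (hD _) (hV _) (hVr _) (B ⟨0, Nat.succ_pos N⟩)
      omega
  · simp only [dif_pos (Nat.lt_succ_self N)]
    by_cases h0 : (⟨N, Nat.lt_succ_self N⟩ : Fin (N + 1)) ∈ T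
    · rw [if_pos ((mem_map_val T N _).mpr h0)]
      have h1 := wt_add_le (hZ _) (hV ⟨N, Nat.lt_succ_self N⟩) (hQA _ h0 hN) (hD _)
      rw [hVr] at h1
      have h2 := two_mul_wt_ge_of_cusp (hZ _) (hD _) (hV _) (hVr _) (hcusp _ h0)
      omega
    · rw [if_neg (fun h => h0 ((mem_map_val T N _).mp h))]
      have := two_mul_wt_le (hZ _) (hD _) (hV _) (hVr _) (A ⟨N, Nat.lt_succ_self N⟩)
      omega
  · intro l hl
    simp only [dif_pos (show l < N + 1 by omega), dif_pos (show l + 1 < N + 1 by omega)]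
    have := wt_add_eq_of_compat (hcomp ⟨l, hl⟩)
    change wt (V ⟨l, _⟩) (D ⟨l, _⟩) (B ⟨l, _⟩) d + wt (V ⟨l + 1, _⟩) (D ⟨l + 1, _⟩) (A ⟨l + 1, _⟩) d = _ at this
    omega
  · intro l h0 hl
    simp only [dif_pos (show l < N + 1 by omega)]
    by_cases hT : (⟨l, by omega⟩ : Fin (N + 1)) ∈ T
    · rw [if_pos ((mem_map_val T l _).mpr hT)]
      have := wt_add_le_of_cusp (hZ _) (hrat _) (hD _) (hV _) (hVr _) (hcusp _ hT)
        (hAB ⟨l, by omega⟩ h0 hl) (Ne.symm (hQA _ hT h0)) (Ne.symm (hQB _ hT hl))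
      omega
    · rw [if_neg (fun h => hT ((mem_map_val T l _).mp h))]
      have := wt_add_le (hZ _) (hV ⟨l, by omega⟩) (hAB ⟨l, by omega⟩ h0 hl) (hD _)
      rw [hVr] at this
      omega

/-- S18180 -/
theorem main180 (i : Fin (N + 1)) (hi0 : 0 < (i : ℕ)) (hiN : (i : ℕ) < N) :
    r * (T.erase i).card + r * (r + 1) ≤ wt (V i) (D i) (A i) d + wt (V i) (D i) (B i) d := by
  obtain ⟨wA, wB, hwA, hwB, h0, hN', hstep, hin⟩ :=
    backbone_data hZ hrat hD hV hVr hAB hcomp T hQA hQB hcusp (by omega)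
  have hT : ∀ x ∈ T.map Fin.valEmbedding, x ≤ N := by
    intro x hx
    rw [Finset.mem_map] at hx
    obtain ⟨y, _, rfl⟩ := hx
    have := y.2
    simp only [Fin.valEmbedding_apply]; omega
  have hl := chain_left (T.map Fin.valEmbedding) h0 hstep hin i.1 hi0 (by omega)
  have hr := chain_right (T.map Fin.valEmbedding) hN' hstep hin hT i.1 hiN
  rw [hwA i.1 i.2] at hl
  rw [hwB i.1 i.2] at hr
  have hc : (T.erase i).card =
      ((T.map Fin.valEmbedding).filter (· < i.1)).card +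
        ((T.map Fin.valEmbedding).filter (i.1 < ·)).card := by
    rw [← card_erase_eq, ← Fin.valEmbedding_apply, ← Finset.map_erase, Finset.card_map]
  rw [hc, mul_add]
  change _ ≤ wt (V ⟨i.1, i.2⟩) (D ⟨i.1, i.2⟩) (A ⟨i.1, i.2⟩) d + wt (V ⟨i.1, i.2⟩) (D ⟨i.1, i.2⟩) (B ⟨i.1, i.2⟩) d
  rw [mul_assoc] at hl hr
  omega

/-- S18179 -/
theorem main179 : r * T.card + r * (r + 1) ≤ (r + 1) * d := by
  rcases Nat.eq_zero_or_pos N with hN | hN
  · subst hN
    have hcard : T.card ≤ 1 := by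
      have := Finset.card_le_univ T
      simpa using this
    rcases Nat.eq_zero_or_pos T.card with h0 | h0
    · rw [h0, mul_zero, zero_add]
      have h1 := two_mul_wt_ge (hZ 0) (hD 0) (hV 0) (hVr 0) (A 0)
      have h2 := two_mul_wt_le (hZ 0) (hD 0) (hV 0) (hVr 0) (A 0)
      omega
    · have h1 : T.card = 1 := by omega
      obtain ⟨x, hx⟩ := Finset.card_pos.mp h0
      have h2 := two_mul_wt_ge_of_cusp (hZ x) (hD x) (hV x) (hVr x) (hcusp x hx)
      have h3 := two_mul_wt_le (hZ x) (hD x) (hV x) (hVr x) (Q x)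
      rw [h1, mul_one]
      omega
  · obtain ⟨wA, wB, hwA, hwB, h0, hN', hstep, hin⟩ :=
      backbone_data hZ hrat hD hV hVr hAB hcomp T hQA hQB hcusp hN
    have hT : ∀ x ∈ T.map Fin.valEmbedding, x ≤ N := by
      intro x hx
      rw [Finset.mem_map] at hx
      obtain ⟨y, _, rfl⟩ := hx
      have := y.2
      simp only [Fin.valEmbedding_apply]; omega
    have hl := chain_left (T.map Fin.valEmbedding) h0 hstep hin N hN le_rfl
    have hc := card_eq_of_le (T.map Fin.valEmbedding) hT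
    rw [Finset.card_map] at hc
    rw [hc, mul_add]
    rw [mul_assoc] at hl
    split_ifs at hN' hc ⊢ <;> omega

end Backbone

end Groth.Agent.Helper27.LLS
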