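import Mathlib
import Groth.Agent.Lib.Helper27.LLSg

set_option autoImplicit false
set_option linter.style.haveILetI false

namespace Groth.Agent.Helper27.LLS

open FunFld Polynomial
open Groth.Agent.Helper16.FF
open scoped WithZero

variable {k K : Type*} [Field k] [Field K] [Algebra k K]

section Coord

variable (hK : IsFunctionField k K) {P₀ O : Place k K} (hPO : P₀ ≠ O) {t : K}
  (ht : div k t = Finsupp.single P₀ 1 - Finsupp.single O 1)

include hK hPO ht

theorem coord_ne_zero : t ≠ 0 := by
  classical
  rintro rfl
  rw [div_zero hK] at ht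
  have := congrArg (fun E : Divisor k K => E P₀) ht
  simp [Finsupp.single_apply, Ne.symm hPO] at this

theorem coord_val_O : O.1 t = WithZero.exp (1 : ℤ) := by
  classical
  have ht0 := coord_ne_zero hK hPO ht
  rw [Place.val_eq_exp_neg_ord O ht0, ← div_apply hK, ht]
  simp [Finsupp.single_apply, hPO]

theorem coord_val_le {S : Place k K} (hS : S ≠ O) : S.1 t ≤ 1 := by
  classical
  have ht0 := coord_ne_zero hK hPO ht
  rw [Place.val_le_one_iff S ht0, ← div_apply hK, ht]
  simp only [Finsupp.coe_sub, Pi.sub_apply, Finsupp.single_apply, if_neg (Ne.symm hS)]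
  split_ifs <;> omega

theorem coord_transcendental : Transcendental k t := by
  have ht0 := coord_ne_zero hK hPO ht
  apply Place.transcendental_of_val_ne_one hK O ht0
  rw [coord_val_O hK hPO ht]
  intro h
  have : (1 : ℤ) = 0 := by
    have h1 : WithZero.exp (1 : ℤ) = WithZero.exp (0 : ℤ) := by rw [h, WithZero.exp_zero]
    exact WithZero.exp_injective h1
  omega

/-- integrality of polynomials in `t` away from `O` -/
theorem val_aeval_le {S : Place k K} (hS : S ≠ O) (p : k[X]) : S.1 (aeval t p) ≤ 1 := by
  rw [aeval_eq_sum_range]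
  apply Valuation.map_sum_le
  intro i _
  rw [Algebra.smul_def, map_mul, map_pow]
  exact mul_le_one' (S.2.1 _) (pow_le_one' (coord_val_le hK hPO ht hS) i)

/-- the pole order of a polynomial in `t` at `O` is its degree -/
theorem val_aeval_O {p : k[X]} (hp : p ≠ 0) :
    O.1 (aeval t p) = WithZero.exp (p.natDegree : ℤ) := by
  have hvt := coord_val_O hK hPO ht
  rw [aeval_eq_sum_range, Finset.sum_range_succ]
  have hlead : O.1 (p.coeff p.natDegree • t ^ p.natDegree) = WithZero.exp (p.natDegree : ℤ) := by
    rw [Algebra.smul_def, map_mul, map_pow, hvt,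
      Place.val_algebraMap O (by simpa using hp : p.coeff p.natDegree ≠ 0), one_mul,
      ← WithZero.exp_nsmul]
    simp
  rcases Nat.eq_zero_or_pos p.natDegree with h0 | h0
  · rw [h0] at hlead ⊢
    simp only [Finset.range_zero, Finset.sum_empty, zero_add]
    exact hlead
  · have hrest : O.1 (∑ i ∈ Finset.range p.natDegree, p.coeff i • t ^ i) <
        WithZero.exp (p.natDegree : ℤ) := by
      apply Valuation.map_sum_lt _ (by simp)
      intro i hi
      rw [Finset.mem_range] at hi
      rw [Algebra.smul_def, map_mul, map_pow, hvt, ← WithZero.exp_nsmul]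
      calc O.1 (algebraMap k K (p.coeff i)) * WithZero.exp (i • (1 : ℤ))
          ≤ 1 * WithZero.exp (i • (1 : ℤ)) := by gcongr; exact O.2.1 _
        _ = WithZero.exp (i • (1 : ℤ)) := one_mul _
        _ < WithZero.exp (p.natDegree : ℤ) := by
            apply WithZero.exp_lt_exp.mpr
            rw [nsmul_eq_mul, mul_one]
            exact_mod_cast hi
    rw [add_comm, Valuation.map_add_eq_of_lt_left _ (by rw [hlead]; exact hrest), hlead]

end Coord

end Groth.Agent.Helper27.LLS
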