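import Mathlib
import Groth.Agent.Lib.Helper27.LLSp1

set_option autoImplicit false
set_option linter.style.haveILetI false

namespace Groth.Agent.Helper27.LLS

open FunFld Polynomial
open Groth.Agent.Helper16.FF
open scoped WithZero

variable {k K : Type*} [Field k] [Field K] [Algebra k K]

theorem aeval_sub (t : K) (c : k) : aeval t (X - C c : k[X]) = t - algebraMap k K c := by
  simp

section Coord

variable [IsAlgClosed k] (hK : IsFunctionField k K) {P₀ O : Place k K} (hPO : P₀ ≠ O) {t : K}
  (ht : div k t = Finsupp.single P₀ 1 - Finsupp.single O 1)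

include hK hPO ht

/-- the coordinate of a finite place -/
theorem exists_coordOf {R : Place k K} (hR : R ≠ O) :
    ∃ c : k, R.1 (t - algebraMap k K c) = WithZero.exp (-1 : ℤ) := by
  obtain ⟨c, hc⟩ := exists_const_sub_lt_one hK (Place.deg_eq_one hK R) (coord_val_le hK hPO ht hR)
  exact ⟨c, val_sub_const_eq hK hR ht hPO hc⟩

/-- valuation of a polynomial in `t` at a finite place -/
theorem val_aeval_finite {R : Place k K} (hR : R ≠ O) {c : k}
    (hc : R.1 (t - algebraMap k K c) = WithZero.exp (-1 : ℤ)) {p : k[X]} (hp : p ≠ 0) :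
    R.1 (aeval t p) = WithZero.exp (-(p.rootMultiplicity c : ℤ)) := by
  obtain ⟨q, hq, hndvd⟩ := exists_eq_pow_rootMultiplicity_mul_and_not_dvd p hp c
  have hqc : q.eval c ≠ 0 := by
    intro h0
    exact hndvd (dvd_iff_isRoot.mpr h0)
  -- q = (X - c) * q' + q(c)
  have hq' : q = (X - C c) * (q /ₘ (X - C c)) + C (q.eval c) := by
    rw [X_sub_C_mul_divByMonic_eq_sub_modByMonic, modByMonic_X_sub_C_eq_C_eval]; ring
  have hvq : R.1 (aeval t q) = 1 := by
    rw [hq', map_add, map_mul, aeval_sub, aeval_C, add_comm]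
    rw [Valuation.map_add_eq_of_lt_left, Place.val_algebraMap R hqc]
    rw [Place.val_algebraMap R hqc, map_mul, hc]
    calc WithZero.exp (-1 : ℤ) * R.1 (aeval t (q /ₘ (X - C c)))
        ≤ WithZero.exp (-1 : ℤ) * 1 := by gcongr; exact val_aeval_le hK hPO ht hR _
      _ < 1 := by
          rw [mul_one, ← WithZero.exp_zero]; exact WithZero.exp_lt_exp.mpr (by norm_num)
  conv_lhs => rw [hq]
  rw [map_mul, map_pow, aeval_sub, map_mul, map_pow, hc, hvq, mul_one, ← WithZero.exp_nsmul]
  congr 1
  simp

theorem val_aeval_le_iff {R : Place k K} (hR : R ≠ O) {c : k}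
    (hc : R.1 (t - algebraMap k K c) = WithZero.exp (-1 : ℤ)) (p : k[X]) (n : ℕ) :
    R.1 (aeval t p) ≤ WithZero.exp (-(n : ℤ)) ↔ (X - C c) ^ n ∣ p := by
  by_cases hp : p = 0
  · subst hp; simp
  rw [val_aeval_finite hK hPO ht hR hc hp, WithZero.exp_le_exp, ← le_rootMultiplicity_iff hp]
  omega

/-- distinct finite places have distinct coordinates -/
theorem coordOf_injective {R R' : Place k K} (hR : R ≠ O) (hR' : R' ≠ O) {c : k}
    (hc : R.1 (t - algebraMap k K c) = WithZero.exp (-1 : ℤ))
    (hc' : R'.1 (t - algebraMap k K c) = WithZero.exp (-1 : ℤ)) : R = R' := by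
  classical
  by_contra hne
  have ht0 := coord_ne_zero hK hPO ht
  have hpos : (0 : Divisor k K) ≤ Finsupp.single O 1 := single_nonneg O (by norm_num)
  have htL : t ∈ L (Finsupp.single O 1 : Divisor k K) := by
    rw [mem_L_iff hK _ ht0, ht]
    intro S
    simp only [Finsupp.coe_neg, Pi.neg_apply, Finsupp.coe_sub, Pi.sub_apply, Finsupp.single_apply]
    split_ifs <;> omega
  set s := t - algebraMap k K c with hs
  have hs0 : s ≠ 0 := by
    intro h0
    rw [h0, map_zero] at hc
    exact (WithZero.exp_ne_zero).symm hc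
  have hsL : s ∈ L (Finsupp.single O 1 : Divisor k K) :=
    Submodule.sub_mem _ htL (algebraMap_mem_L hK hpos c)
  rw [mem_L_iff hK _ hs0] at hsL
  have ho1 : R.ord s = 1 := by
    have := Place.val_eq_exp_neg_ord R hs0
    rw [hc] at this
    have := WithZero.exp_injective this
    omega
  have ho2 : R'.ord s = 1 := by
    have := Place.val_eq_exp_neg_ord R' hs0
    rw [hc'] at this
    have := WithZero.exp_injective this
    omega
  have hE : 0 ≤ div k s + Finsupp.single O 1 - Finsupp.single R 1 - Finsupp.single R' 1 := by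
    intro S
    have h3 := hsL S
    simp only [Finsupp.coe_neg, Pi.neg_apply, Finsupp.single_apply] at h3
    simp only [Finsupp.coe_sub, Finsupp.coe_add, Pi.sub_apply, Pi.add_apply, Finsupp.single_apply,
      Finsupp.coe_zero, Pi.zero_apply]
    by_cases h1 : R = S
    · subst h1
      rw [if_neg (Ne.symm hR), if_pos rfl, if_neg (Ne.symm hne), div_apply hK, ho1]
      norm_num
    · by_cases h2 : R' = S
      · subst h2
        rw [if_neg (Ne.symm hR'), if_neg h1, if_pos rfl, div_apply hK, ho2]
        norm_num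
      · rw [if_neg h1, if_neg h2]
        split_ifs at h3 ⊢ <;> omega
  have := Divisor.deg_mono hE
  rw [Divisor.deg_zero, Divisor.deg_sub, Divisor.deg_sub, Divisor.deg_add, deg_div hK,
    Divisor.deg_single, Divisor.deg_single, Divisor.deg_single, Place.deg_eq_one hK,
    Place.deg_eq_one hK, Place.deg_eq_one hK] at this
  simp at this

end Coord

end Groth.Agent.Helper27.LLS
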