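import Mathlib

set_option autoImplicit false

open Polynomial Matrix

namespace Groth.Agent.Helper27.PW

variable {k : Type*} [Field k]

/-- Wronskian matrix -/
noncomputable def wrMat {n : ℕ} (f : Fin n → k[X]) : Matrix (Fin n) (Fin n) k[X] :=
  Matrix.of fun j i => derivative^[j.val] (f i)

/-- Wronskian determinant -/
noncomputable def wr {n : ℕ} (f : Fin n → k[X]) : k[X] := (wrMat f).det

lemma wrMat_apply {n : ℕ} (f : Fin n → k[X]) (j i : Fin n) :
    wrMat f j i = derivative^[j.val] (f i) := rfl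

theorem wrMat_mul {n : ℕ} (f g : Fin n → k[X]) (M : Matrix (Fin n) (Fin n) k)
    (hg : ∀ i, g i = ∑ l, M l i • f l) :
    wrMat g = wrMat f * M.map Polynomial.C := by
  refine Matrix.ext fun j i => ?_
  rw [wrMat_apply, Matrix.mul_apply, hg, iterate_derivative_sum]
  apply Finset.sum_congr rfl
  intro l _
  rw [iterate_derivative_smul, wrMat_apply, Matrix.map_apply, smul_eq_C_mul, mul_comm]

theorem wr_mul {n : ℕ} (f g : Fin n → k[X]) (M : Matrix (Fin n) (Fin n) k)
    (hg : ∀ i, g i = ∑ l, M l i • f l) : wr g = wr f * Polynomial.C M.det := by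
  unfold wr
  rw [wrMat_mul f g M hg, Matrix.det_mul]
  congr 1
  have := RingHom.map_det (Polynomial.C : k →+* k[X]) M
  rw [this]
  rfl

theorem sum_fin_val (n : ℕ) : ∑ i : Fin n, (i : ℕ) = n * (n - 1) / 2 := by
  rw [Fin.sum_univ_eq_sum_range (fun i => i) n, Finset.sum_range_id]

/-- local divisibility -/
theorem dvd_wr {n : ℕ} (f : Fin n → k[X]) (q : k[X]) (m : Fin n → ℕ)
    (hf : ∀ i, q ^ (m i) ∣ f i) : q ^ ((∑ i, m i) - n * (n - 1) / 2) ∣ wr f := by
  unfold wr
  rw [Matrix.det_apply]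
  apply Finset.dvd_sum
  intro σ _
  apply dvd_smul_of_dvd
  have h1 : ∀ i, q ^ (m i - (σ i).val) ∣ wrMat f (σ i) i := fun i =>
    pow_sub_dvd_iterate_derivative_of_pow_dvd _ (hf i)
  have h2 : ∏ i, q ^ (m i - (σ i).val) ∣ ∏ i, wrMat f (σ i) i :=
    Finset.prod_dvd_prod_of_dvd _ _ fun i _ => h1 i
  refine dvd_trans ?_ h2
  rw [Finset.prod_pow_eq_pow_sum]
  apply pow_dvd_pow
  have h3 : ∑ i, ((σ i : Fin n) : ℕ) = n * (n - 1) / 2 := by
    rw [← sum_fin_val n]
    exact Equiv.sum_comp σ (fun i : Fin n => (i : ℕ))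
  have h4 : ∑ i, m i ≤ ∑ i, (m i - (σ i).val) + ∑ i, ((σ i : Fin n) : ℕ) := by
    rw [← Finset.sum_add_distrib]
    apply Finset.sum_le_sum
    intro i _
    omega
  omega

/-- degree bound -/
theorem natDegree_wr_le {n : ℕ} (f : Fin n → k[X]) (N : Fin n → ℕ)
    (hf : ∀ i, (f i).natDegree ≤ N i) :
    (wr f).natDegree + n * (n - 1) / 2 ≤ ∑ i, N i ∨ wr f = 0 := by
  by_cases h0 : wr f = 0
  · exact Or.inr h0
  left
  unfold wr at h0 ⊢
  rw [Matrix.det_apply] at h0 ⊢
  -- bound each term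
  have key : ∀ σ : Equiv.Perm (Fin n), (∏ i, wrMat f (σ i) i) ≠ 0 →
      (∏ i, wrMat f (σ i) i).natDegree + n * (n - 1) / 2 ≤ ∑ i, N i := by
    intro σ hne
    have h1 : ∀ i, (σ i).val ≤ (f i).natDegree := by
      intro i
      by_contra hcon
      push Not at hcon
      apply hne
      apply Finset.prod_eq_zero (Finset.mem_univ i)
      rw [wrMat_apply]
      exact iterate_derivative_eq_zero hcon
    have h2 : (∏ i, wrMat f (σ i) i).natDegree ≤ ∑ i, (wrMat f (σ i) i).natDegree :=
      natDegree_prod_le _ _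
    have h3 : ∑ i, (wrMat f (σ i) i).natDegree ≤ ∑ i, (N i - (σ i).val) := by
      apply Finset.sum_le_sum
      intro i _
      rw [wrMat_apply]
      exact (natDegree_iterate_derivative _ _).trans (Nat.sub_le_sub_right (hf i) _)
    have h4 : ∑ i, ((σ i : Fin n) : ℕ) = n * (n - 1) / 2 := by
      rw [← sum_fin_val n]
      exact Equiv.sum_comp σ (fun i : Fin n => (i : ℕ))
    have h5 : ∑ i, (N i - (σ i).val) + ∑ i, ((σ i : Fin n) : ℕ) = ∑ i, N i := by
      rw [← Finset.sum_add_distrib]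
      apply Finset.sum_congr rfl
      intro i _
      have := h1 i
      have := hf i
      omega
    omega
  by_contra hcon
  push Not at hcon
  apply h0
  -- all terms have small degree, so the sum has small degree; contradiction
  have hB : ∀ σ : Equiv.Perm (Fin n),
      (Equiv.Perm.sign σ • ∏ i, wrMat f (σ i) i).natDegree + n * (n - 1) / 2 ≤ ∑ i, N i ∨
        (Equiv.Perm.sign σ • ∏ i, wrMat f (σ i) i) = 0 := by
    intro σ
    by_cases hne : (∏ i, wrMat f (σ i) i) = 0
    · right; rw [hne, smul_zero]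
    · left
      have := key σ hne
      have h6 : (Equiv.Perm.sign σ • ∏ i, wrMat f (σ i) i).natDegree ≤
          (∏ i, wrMat f (σ i) i).natDegree := by
        rcases Int.units_eq_one_or (Equiv.Perm.sign σ) with h | h
        · rw [h, one_smul]
        · rw [h, Units.neg_smul, one_smul, natDegree_neg]
      omega
  exfalso
  have hsum : (∑ σ : Equiv.Perm (Fin n), Equiv.Perm.sign σ • ∏ i, wrMat f (σ i) i).natDegree ≤
      ∑ i, N i - n * (n - 1) / 2 := by
    apply natDegree_sum_le_of_forall_le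
    intro σ _
    rcases hB σ with h | h
    · omega
    · rw [h, natDegree_zero]; exact Nat.zero_le _
  -- need `n(n-1)/2 ≤ ∑ N` : from a nonzero term
  have hex : ∃ σ : Equiv.Perm (Fin n), (∏ i, wrMat f (σ i) i) ≠ 0 := by
    by_contra hall
    push Not at hall
    apply h0
    apply Finset.sum_eq_zero
    intro σ _
    rw [hall σ, smul_zero]
  obtain ⟨σ, hσ⟩ := hex
  have := key σ hσ
  omega

end Groth.Agent.Helper27.PW
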