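import Mathlib
import Groth.Agent.Lib.Helper27.PW1

set_option autoImplicit false

open Polynomial Matrix

namespace Groth.Agent.Helper27.PW

variable {k : Type*} [Field k]

theorem exists_smul_of_wronskian_zero [CharZero k] {p q : k[X]} (hp : p ≠ 0)
    (h : p * derivative q = derivative p * q) : ∃ c : k, q = c • p := by
  classical
  have hg0 : EuclideanDomain.gcd p q ≠ 0 := fun h0 => hp (EuclideanDomain.gcd_eq_zero_iff.mp h0).1
  obtain ⟨p₁, hp₁⟩ := EuclideanDomain.gcd_dvd_left p q
  obtain ⟨q₁, hq₁⟩ := EuclideanDomain.gcd_dvd_right p q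
  have hab := EuclideanDomain.gcd_eq_gcd_ab p q
  set g := EuclideanDomain.gcd p q with hg
  set A := EuclideanDomain.gcdA p q
  set B := EuclideanDomain.gcdB p q
  have hcop : IsCoprime p₁ q₁ := by
    refine ⟨A, B, ?_⟩
    apply mul_left_cancel₀ hg0
    calc g * (A * p₁ + B * q₁) = (g * p₁) * A + (g * q₁) * B := by ring
      _ = p * A + q * B := by rw [← hp₁, ← hq₁]
      _ = g * 1 := by rw [← hab, mul_one]
  have hw : wronskian p₁ q₁ = 0 := by
    have h1 : g ^ 2 * wronskian p₁ q₁ = 0 := by
      have h2 : p * derivative q - derivative p * q = 0 := sub_eq_zero.mpr h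
      rw [hp₁, hq₁, derivative_mul, derivative_mul] at h2
      rw [wronskian, ← h2]
      ring
    exact (mul_eq_zero.mp h1).resolve_left (pow_ne_zero 2 hg0)
  obtain ⟨h1, h2⟩ := hcop.wronskian_eq_zero_iff.mp hw
  obtain ⟨a, rfl⟩ : ∃ a, p₁ = C a := ⟨_, eq_C_of_derivative_eq_zero h1⟩
  obtain ⟨b, rfl⟩ : ∃ b, q₁ = C b := ⟨_, eq_C_of_derivative_eq_zero h2⟩
  have ha : a ≠ 0 := by
    rintro rfl
    apply hp
    rw [hp₁, map_zero, mul_zero]
  refine ⟨b / a, ?_⟩
  rw [smul_eq_C_mul]
  conv_lhs => rw [hq₁]
  conv_rhs => rw [hp₁]
  rw [mul_left_comm, ← C_mul, div_mul_cancel₀ b ha]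

/-- kernel-vector characterisation -/
theorem exists_kernel_of_wr_eq_zero {n : ℕ} (f : Fin n → k[X]) (h : wr f = 0) :
    ∃ a : Fin n → k[X], a ≠ 0 ∧ ∀ j : Fin n, ∑ i, derivative^[j.val] (f i) * a i = 0 := by
  obtain ⟨a, ha0, ha⟩ := Matrix.exists_mulVec_eq_zero_iff.mpr h
  refine ⟨a, ha0, fun j => ?_⟩
  have := congrFun ha j
  simpa [Matrix.mulVec, dotProduct, wrMat_apply] using this

theorem eq_zero_of_kernel_of_wr_ne_zero {n : ℕ} (f : Fin n → k[X]) (h : wr f ≠ 0)
    (a : Fin n → k[X]) (ha : ∀ j : Fin n, ∑ i, derivative^[j.val] (f i) * a i = 0) : a = 0 := by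
  by_contra h0
  apply h
  apply Matrix.exists_mulVec_eq_zero_iff.mp
  refine ⟨a, h0, ?_⟩
  funext j
  simpa [Matrix.mulVec, dotProduct, wrMat_apply] using ha j

/-- nonvanishing of the Wronskian of linearly independent polynomials in characteristic zero -/
theorem wr_ne_zero [CharZero k] : ∀ (n : ℕ) (f : Fin n → k[X]), LinearIndependent k f → wr f ≠ 0 := by
  intro n
  induction n with
  | zero =>
    intro f _
    unfold wr
    simp
  | succ n ih =>
    intro f hf hW
    obtain ⟨a, ha0, ha⟩ := exists_kernel_of_wr_eq_zero f hW
    have hf' : LinearIndependent k (fun i : Fin n => f i.succ) :=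
      hf.comp Fin.succ (Fin.succ_injective n)
    have hW' := ih _ hf'
    -- a 0 ≠ 0
    have key : ∀ b : Fin (n + 1) → k[X], b 0 = 0 →
        (∀ j : Fin n, ∑ i, derivative^[j.val] (f i) * b i = 0) → b = 0 := by
      intro b hb0 hb
      have : (fun i : Fin n => b i.succ) = 0 := by
        apply eq_zero_of_kernel_of_wr_ne_zero _ hW'
        intro j
        have := hb j
        rw [Fin.sum_univ_succ, hb0, mul_zero, zero_add] at this
        exact this
      funext i
      refine Fin.cases hb0 (fun i => ?_) i
      exact congrFun this i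
    have ha00 : a 0 ≠ 0 := by
      intro h0
      apply ha0
      apply key a h0
      intro j
      exact ha j.castSucc
    -- differentiate
    have hder : ∀ j : Fin n, ∑ i, derivative^[j.val] (f i) * derivative (a i) = 0 := by
      intro j
      have h1 := ha j.castSucc
      have h2 := ha j.succ
      have h3 := congrArg derivative h1
      rw [derivative_sum, derivative_zero] at h3
      simp only [derivative_mul, Fin.val_castSucc] at h3
      rw [Finset.sum_add_distrib] at h3
      simp only [Fin.val_succ, Function.iterate_succ_apply'] at h2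
      simp only [Fin.val_castSucc] at h1
      rw [h2, zero_add] at h3
      exact h3
    -- b i = a 0 * (a i)' - (a 0)' * a i
    have hb : (fun i => a 0 * derivative (a i) - derivative (a 0) * a i) = 0 := by
      apply key
      · ring
      · intro j
        have h1 := ha j.castSucc
        have h2 := hder j
        simp only [Fin.val_castSucc] at h1
        calc ∑ i, derivative^[j.val] (f i) * (a 0 * derivative (a i) - derivative (a 0) * a i)
            = a 0 * ∑ i, derivative^[j.val] (f i) * derivative (a i) -
              derivative (a 0) * ∑ i, derivative^[j.val] (f i) * a i := by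
              rw [Finset.mul_sum, Finset.mul_sum, ← Finset.sum_sub_distrib]
              apply Finset.sum_congr rfl
              intro i _
              ring
          _ = 0 := by rw [h1, h2]; ring
    have hprop : ∀ i, ∃ c : k, a i = c • a 0 := by
      intro i
      apply exists_smul_of_wronskian_zero ha00
      have := congrFun hb i
      simp only [Pi.zero_apply] at this
      exact sub_eq_zero.mp this
    choose c hc using hprop
    have hc0 : c 0 = 1 := by
      have := hc 0
      have h1 : (1 : k) • a 0 = c 0 • a 0 := by rw [one_smul]; exact this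
      have := smul_left_injective k ha00 h1
      exact this.symm
    -- relation among f
    have hrel : ∑ i, c i • f i = 0 := by
      have h1 := ha 0
      simp only [Fin.val_zero, Function.iterate_zero, id_eq] at h1
      have h2 : a 0 * ∑ i, c i • f i = 0 := by
        rw [Finset.mul_sum, ← h1]
        apply Finset.sum_congr rfl
        intro i _
        conv_rhs => rw [hc i]
        rw [smul_eq_C_mul, smul_eq_C_mul]
        ring
      exact (mul_eq_zero.mp h2).resolve_left ha00
    have := Fintype.linearIndependent_iff.mp hf c hrel 0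
    rw [hc0] at this
    exact one_ne_zero this

end Groth.Agent.Helper27.PW
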