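import Mathlib

set_option autoImplicit false
set_option linter.style.haveILetI false

namespace Groth.Agent.Helper27.PW

variable {k : Type*} [Field k]

theorem sum_ite_lt (N n₁ : ℕ) (h : n₁ ≤ N) :
    ∑ n ∈ Finset.range N, (if n < n₁ then 1 else 0) = n₁ := by
  induction N with
  | zero => simp; omega
  | succ N ih =>
    rw [Finset.sum_range_succ]
    rcases Nat.lt_or_ge N n₁ with h1 | h1
    · have e : n₁ = N + 1 := by omega
      subst e
      rw [if_pos (Nat.lt_succ_self N)]
      have : ∑ n ∈ Finset.range N, (if n < N + 1 then 1 else 0) = N := by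
        rw [Finset.sum_congr rfl (g := fun _ => 1)]
        · simp
        · intro n hn
          rw [Finset.mem_range] at hn
          rw [if_pos (by omega)]
      rw [this]
    · rw [if_neg (by omega), add_zero]
      exact ih h1

/-- a basis adapted to a decreasing filtration -/
theorem exists_adapted {M : Type*} [AddCommGroup M] [Module k M] (G : ℕ → Submodule k M)
    (hG : Antitone G) (N : ℕ) :
    ∀ (r : ℕ) (V : Submodule k M), FiniteDimensional k V → Module.finrank k V = r → V ≤ G 0 →
      V ⊓ G N = ⊥ →
      ∃ (g : Fin r → M) (ℓ : Fin r → ℕ), LinearIndependent k g ∧ (∀ i, g i ∈ V) ∧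
        (∀ i, g i ∈ G (ℓ i)) ∧
        ∑ n ∈ Finset.range N, Module.finrank k ↥(V ⊓ G (n + 1)) ≤ ∑ i, ℓ i := by
  intro r
  induction r with
  | zero =>
    intro V hfd hr _ _
    refine ⟨Fin.elim0, Fin.elim0, linearIndependent_empty_type, fun i => i.elim0,
      fun i => i.elim0, ?_⟩
    have hV : V = ⊥ := Submodule.finrank_eq_zero.mp hr
    subst hV
    simp
  | succ r ih =>
    intro V hfd hr hV0 hVN
    classical
    have hVne : V ≠ ⊥ := by
      intro h
      rw [h, finrank_bot] at hr
      omega
    set n₁ := Nat.findGreatest (fun n => V ≤ G n) N with hn₁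
    have h1 : V ≤ G n₁ := Nat.findGreatest_spec (P := fun n => V ≤ G n) (Nat.zero_le N) hV0
    have h2 : n₁ < N := by
      have hle : n₁ ≤ N := Nat.findGreatest_le N
      rcases Nat.lt_or_ge n₁ N with h | h
      · exact h
      · exfalso
        have e : n₁ = N := le_antisymm hle h
        rw [e] at h1
        exact hVne (by rw [← hVN]; exact (inf_eq_left.mpr h1).symm)
    have h3 : ¬ V ≤ G (n₁ + 1) :=
      Nat.findGreatest_is_greatest (P := fun n => V ≤ G n) (Nat.lt_succ_self n₁) h2
    obtain ⟨x, hxV, hxG⟩ := SetLike.not_le_iff_exists.mp h3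
    have hxF : x ∉ V ⊓ G (n₁ + 1) := fun h => hxG h.2
    obtain ⟨φ, hφx, hφF⟩ := Submodule.exists_le_ker_of_notMem hxF
    set V' : Submodule k M := V ⊓ LinearMap.ker φ with hV'
    have hV'V : V' ≤ V := inf_le_left
    have hfd' : FiniteDimensional k V' := Submodule.finiteDimensional_of_le hV'V
    have hx0 : x ≠ 0 := by
      rintro rfl
      exact hφx (map_zero φ)
    -- finrank V' = r
    have hsup : V' ⊔ Submodule.span k {x} = V := by
      apply le_antisymm
      · exact sup_le hV'V ((Submodule.span_singleton_le_iff_mem _ _).mpr hxV)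
      · intro v hv
        rw [Submodule.mem_sup]
        refine ⟨v - (φ v / φ x) • x, ⟨V.sub_mem hv (V.smul_mem _ hxV), ?_⟩, (φ v / φ x) • x,
          Submodule.smul_mem _ _ (Submodule.mem_span_singleton_self x), by abel⟩
        rw [SetLike.mem_coe, LinearMap.mem_ker, map_sub, map_smul, smul_eq_mul, div_mul_cancel₀ _ hφx, sub_self]
    have hinf : V' ⊓ Submodule.span k {x} = ⊥ := by
      rw [eq_bot_iff]
      rintro y ⟨hy1, hy2⟩
      obtain ⟨c, rfl⟩ := Submodule.mem_span_singleton.mp hy2
      have : φ (c • x) = 0 := hy1.2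
      rw [map_smul, smul_eq_mul, mul_eq_zero] at this
      rcases this with h | h
      · rw [h, zero_smul]; exact Submodule.zero_mem _
      · exact absurd h hφx
    have hr' : Module.finrank k V' = r := by
      have h4 := Submodule.finrank_sup_add_finrank_inf_eq V' (Submodule.span k {x})
      rw [hsup, hinf, finrank_bot, finrank_span_singleton hx0, hr] at h4
      omega
    obtain ⟨g', ℓ', hli, hgV', hgG, hsum⟩ := ih V' hfd' hr' (hV'V.trans hV0)
      (by rw [eq_bot_iff, ← hVN]; exact inf_le_inf_right _ hV'V)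
    refine ⟨Fin.cons x g', Fin.cons n₁ ℓ', ?_, ?_, ?_, ?_⟩
    · rw [linearIndependent_fin_cons]
      refine ⟨hli, fun hx => ?_⟩
      have hle : Submodule.span k (Set.range g') ≤ LinearMap.ker φ := by
        rw [Submodule.span_le]
        rintro _ ⟨i, rfl⟩
        exact (hgV' i).2
      exact hφx (hle hx)
    · intro i
      refine Fin.cases ?_ (fun i => ?_) i
      · simpa using hxV
      · simpa using hV'V (hgV' i)
    · intro i
      refine Fin.cases ?_ (fun i => ?_) i
      · simpa using h1 hxV
      · simpa using hgG i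
    · rw [Fin.sum_univ_succ]
      simp only [Fin.cons_zero, Fin.cons_succ]
      have hterm : ∀ n, Module.finrank k ↥(V ⊓ G (n + 1)) ≤
          Module.finrank k ↥(V' ⊓ G (n + 1)) + (if n < n₁ then 1 else 0) := by
        intro n
        split_ifs with hn
        · have e1 : V ⊓ G (n + 1) = V := inf_eq_left.mpr (h1.trans (hG (by omega)))
          have e2 : V' ⊓ G (n + 1) = V' :=
            inf_eq_left.mpr (hV'V.trans (h1.trans (hG (by omega))))
          rw [e1, e2, hr, hr']
        · have e : V ⊓ G (n + 1) = V' ⊓ G (n + 1) := by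
            apply le_antisymm
            · intro y hy
              refine ⟨⟨hy.1, hφF ⟨hy.1, hG (show n₁ + 1 ≤ n + 1 by omega) hy.2⟩⟩, hy.2⟩
            · exact inf_le_inf_right _ hV'V
          rw [e, add_zero]
      calc ∑ n ∈ Finset.range N, Module.finrank k ↥(V ⊓ G (n + 1))
          ≤ ∑ n ∈ Finset.range N, (Module.finrank k ↥(V' ⊓ G (n + 1)) + (if n < n₁ then 1 else 0)) :=
            Finset.sum_le_sum fun n _ => hterm n
        _ = ∑ n ∈ Finset.range N, Module.finrank k ↥(V' ⊓ G (n + 1)) + n₁ := by
            rw [Finset.sum_add_distrib, sum_ite_lt N n₁ (le_of_lt h2)]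
        _ ≤ n₁ + ∑ i, ℓ' i := by omega

end Groth.Agent.Helper27.PW
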