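import Mathlib
import Groth.Agent.Lib.Helper27.PW2
import Groth.Agent.Lib.Helper27.PW3

set_option autoImplicit false
set_option linter.style.haveILetI false

open Polynomial Matrix

namespace Groth.Agent.Helper27.PW

variable {k : Type*} [Field k]

/-- polynomials divisible by `(X - c)^n` -/
noncomputable def Gc (c : k) (n : ℕ) : Submodule k k[X] :=
  (Ideal.span {(X - C c) ^ n}).restrictScalars k

lemma mem_Gc {c : k} {n : ℕ} {p : k[X]} : p ∈ Gc c n ↔ (X - C c) ^ n ∣ p := by
  unfold Gc
  rw [Submodule.restrictScalars_mem, Ideal.mem_span_singleton]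

lemma Gc_antitone (c : k) : Antitone (Gc c) := by
  intro m n hmn p hp
  rw [mem_Gc] at hp ⊢
  exact (pow_dvd_pow _ hmn).trans hp

/-- degree filtration -/
noncomputable def Ginf (d : ℕ) (n : ℕ) : Submodule k k[X] := degreeLT k (d + 1 - n)

lemma Ginf_antitone (d : ℕ) : Antitone (Ginf (k := k) d) := by
  intro m n hmn
  exact degreeLT_mono (by omega)

/-- transfer of the Wronskian along an independent family in `V` -/
theorem wr_transfer [CharZero k] {n : ℕ} (V : Submodule k k[X]) (b : Module.Basis (Fin n) k V)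
    (g : Fin n → k[X]) (hg : ∀ i, g i ∈ V) (hli : LinearIndependent k g) :
    ∃ a : k, a ≠ 0 ∧ wr g = wr (fun i => (b i : k[X])) * C a := by
  set M : Matrix (Fin n) (Fin n) k := fun l i => b.repr ⟨g i, hg i⟩ l with hM
  have h1 : ∀ i, g i = ∑ l, M l i • (fun i => (b i : k[X])) l := by
    intro i
    have := b.sum_repr ⟨g i, hg i⟩
    have h2 := congrArg (Subtype.val) this
    simp only [Submodule.coe_sum, Submodule.coe_smul] at h2
    exact h2.symm
  have h2 := wr_mul (fun i => (b i : k[X])) g M h1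
  refine ⟨M.det, ?_, h2⟩
  intro h0
  have := wr_ne_zero n g hli
  rw [h2, h0, map_zero, mul_zero] at this
  exact this rfl

theorem polyPlucker [CharZero k] {d r : ℕ} (V : Submodule k k[X]) (hV : V ≤ degreeLT k (d + 1))
    (hr : Module.finrank k V = r + 1) (S : Finset k) :
    ∑ c ∈ S, ((∑ n ∈ Finset.range d, Module.finrank k ↥(V ⊓ Gc c (n + 1))) - (r + 1) * r / 2) +
      ∑ n ∈ Finset.range d, Module.finrank k ↥(V ⊓ Ginf d (n + 1)) + (r + 1) * r / 2 ≤
      (r + 1) * d := by
  classical
  have hfd : FiniteDimensional k V := Submodule.finiteDimensional_of_le hV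
  set b := Module.finBasisOfFinrankEq k V hr with hb
  set f : Fin (r + 1) → k[X] := fun i => (b i : k[X]) with hf
  have hfli : LinearIndependent k f :=
    b.linearIndependent.map' V.subtype (Submodule.ker_subtype V)
  have hW : wr f ≠ 0 := wr_ne_zero _ f hfli
  have he : (r + 1) * (r + 1 - 1) / 2 = (r + 1) * r / 2 := by simp
  -- local divisibility
  have hloc : ∀ c : k, (X - C c) ^ ((∑ n ∈ Finset.range d, Module.finrank k ↥(V ⊓ Gc c (n + 1))) -
      (r + 1) * r / 2) ∣ wr f := by
    intro c
    have h0 : V ≤ Gc c 0 := by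
      intro p _
      rw [mem_Gc, pow_zero]; exact one_dvd _
    have hN : V ⊓ Gc c (d + 1) = ⊥ := by
      rw [eq_bot_iff]
      rintro p ⟨hp1, hp2⟩
      rw [SetLike.mem_coe, mem_Gc] at hp2
      have hp3 := mem_degreeLT.mp (hV hp1)
      rw [Submodule.mem_bot]
      apply eq_zero_of_dvd_of_degree_lt hp2
      rw [degree_pow, degree_X_sub_C]
      simpa using hp3
    obtain ⟨g, ℓ, hli, hgV, hgG, hsum⟩ := exists_adapted (Gc c) (Gc_antitone c) (d + 1) (r + 1) V
      hfd hr h0 hN
    obtain ⟨a, ha, hwr⟩ := wr_transfer V b g hgV hli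
    have h1 := dvd_wr g (X - C c) ℓ (fun i => mem_Gc.mp (hgG i))
    rw [he, hwr] at h1
    have h2 : (X - C c) ^ ((∑ i, ℓ i) - (r + 1) * r / 2) ∣ wr f :=
      (IsUnit.dvd_mul_right (isUnit_C.mpr (isUnit_iff_ne_zero.mpr ha))).mp h1
    refine (pow_dvd_pow _ ?_).trans h2
    rw [Finset.sum_range_succ] at hsum
    omega
  -- degree bound
  have hdeg : (wr f).natDegree + (r + 1) * r / 2 +
      ∑ n ∈ Finset.range d, Module.finrank k ↥(V ⊓ Ginf d (n + 1)) ≤ (r + 1) * d := by
    have h0 : V ≤ Ginf d 0 := hV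
    have hN : V ⊓ Ginf d (d + 1) = ⊥ := by
      rw [eq_bot_iff]
      rintro p ⟨_, hp2⟩
      have : p ∈ degreeLT k 0 := by simpa [Ginf] using hp2
      rw [mem_degreeLT] at this
      rw [Submodule.mem_bot]
      simpa using this
    obtain ⟨g, ℓ, hli, hgV, hgG, hsum⟩ := exists_adapted (Ginf d) (Ginf_antitone d) (d + 1) (r + 1) V
      hfd hr h0 hN
    obtain ⟨a, ha, hwr⟩ := wr_transfer V b g hgV hli
    have hg0 : ∀ i, g i ≠ 0 := fun i => hli.ne_zero i
    have hgd : ∀ i, (g i).natDegree + ℓ i ≤ d := by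
      intro i
      have h1 := mem_degreeLT.mp (hgG i)
      rw [degree_eq_natDegree (hg0 i)] at h1
      have h2 : (g i).natDegree < d + 1 - ℓ i := by exact_mod_cast h1
      omega
    have h1 := natDegree_wr_le g (fun i => d - ℓ i) (fun i => by have := hgd i; omega)
    rcases h1 with h1 | h1
    · rw [he, hwr, natDegree_mul_C ha] at h1
      change (wr f).natDegree + _ ≤ _ at h1
      have h2 : ∑ i : Fin (r + 1), (d - ℓ i) + ∑ i, ℓ i = (r + 1) * d := by
        rw [← Finset.sum_add_distrib]
        rw [Finset.sum_congr rfl (g := fun _ => d)]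
        · simp
        · intro i _
          have := hgd i
          omega
      rw [Finset.sum_range_succ] at hsum
      omega
    · exfalso
      exact wr_ne_zero _ g hli h1
  -- combine
  set w : k → ℕ := fun c => (∑ n ∈ Finset.range d, Module.finrank k ↥(V ⊓ Gc c (n + 1))) -
      (r + 1) * r / 2 with hw
  have hprod : ∏ c ∈ S, (X - C c) ^ (w c) ∣ wr f := by
    apply Finset.prod_dvd_of_coprime
    · intro c₁ _ c₂ _ hne
      exact (pairwise_coprime_X_sub_C (K := k) (s := id) Function.injective_id hne).pow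
    · intro c _
      exact hloc c
  have hnd : (∏ c ∈ S, (X - C c) ^ (w c)).natDegree = ∑ c ∈ S, w c := by
    rw [natDegree_prod_of_monic _ _ (fun c _ => (monic_X_sub_C c).pow _)]
    apply Finset.sum_congr rfl
    intro c _
    rw [natDegree_pow, natDegree_X_sub_C, mul_one]
  have h3 := natDegree_le_of_dvd hprod hW
  rw [hnd] at h3
  have h4 : ∑ c ∈ S, w c = S.sum w := rfl
  omega

end Groth.Agent.Helper27.PW
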