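import Mathlib
import Groth.Agent.Lib.Helper27.LLSp2
import Groth.Agent.Lib.Helper27.PW4

set_option autoImplicit false
set_option linter.style.haveILetI false

namespace Groth.Agent.Helper27.LLS

open FunFld Polynomial
open Groth.Agent.Helper16.FF
open scoped WithZero

variable {k K : Type*} [Field k] [Field K] [Algebra k K]

/-- evaluation of polynomials at `t` as a linear map -/
noncomputable def ev (t : K) : k[X] →ₗ[k] K := (aeval t : k[X] →ₐ[k] K).toLinearMap

lemma ev_apply (t : K) (p : k[X]) : ev t p = aeval t p := rfl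

theorem finrank_comap_eq {M M' : Type*} [AddCommGroup M] [Module k M] [AddCommGroup M']
    [Module k M'] (f : M →ₗ[k] M') (hf : Function.Injective f) (N : Submodule k M')
    (hN : N ≤ LinearMap.range f) : Module.finrank k ↥(N.comap f) = Module.finrank k N := by
  have e := Submodule.equivMapOfInjective f hf (N.comap f)
  rw [e.finrank_eq, Submodule.map_comap_eq, inf_eq_right.mpr hN]

theorem finrank_degreeLT (n : ℕ) : Module.finrank k ↥(degreeLT k n) = n := by
  rw [(degreeLTEquiv k n).finrank_eq, Module.finrank_fin_fun]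

instance (n : ℕ) : FiniteDimensional k ↥(degreeLT k n) :=
  Module.Finite.equiv (degreeLTEquiv k n).symm

section Coord

variable [IsAlgClosed k] (hK : IsFunctionField k K) (hg0 : genus k K = 0)
  {P₀ O : Place k K} (hPO : P₀ ≠ O) {t : K}
  (ht : div k t = Finsupp.single P₀ 1 - Finsupp.single O 1)

include hK hPO ht

theorem ev_injective : Function.Injective (ev (k := k) t) :=
  transcendental_iff_injective.mp (coord_transcendental hK hPO ht)

theorem ev_mem_L_O {d : ℕ} {p : k[X]} (hp : p ∈ degreeLT k (d + 1)) :
    ev t p ∈ L (Finsupp.single O (d : ℤ) : Divisor k K) := by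
  classical
  intro S
  rw [ev_apply]
  by_cases hS : S = O
  · subst hS
    rw [Finsupp.single_apply, if_pos rfl]
    by_cases hp0 : p = 0
    · subst hp0; simp
    · rw [val_aeval_O hK hPO ht hp0, WithZero.exp_le_exp]
      rw [mem_degreeLT, degree_eq_natDegree hp0] at hp
      have : p.natDegree < d + 1 := by exact_mod_cast hp
      omega
  · rw [Finsupp.single_apply, if_neg (Ne.symm hS), WithZero.exp_zero]
    exact val_aeval_le hK hPO ht hS p

include hg0 in
theorem L_O_eq_map (d : ℕ) :
    L (Finsupp.single O (d : ℤ) : Divisor k K) = (degreeLT k (d + 1)).map (ev t) := by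
  symm
  have hfd := finiteDimensional_L hK (Finsupp.single O (d : ℤ) : Divisor k K)
  apply Submodule.eq_of_le_of_finrank_eq
  · rintro _ ⟨p, hp, rfl⟩
    exact ev_mem_L_O hK hPO ht hp
  · have e := Submodule.equivMapOfInjective (ev (k := k) t) (ev_injective hK hPO ht)
      (degreeLT k (d + 1))
    rw [← e.finrank_eq, finrank_degreeLT]
    have h1 := riemann_le hK (Finsupp.single O (d : ℤ) : Divisor k K)
    have h2 := ell_le_deg_add_one hK (single_nonneg O (show (0 : ℤ) ≤ d by positivity))
    rw [Divisor.deg_single, Place.deg_eq_one hK, hg0] at h1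
    rw [Divisor.deg_single, Place.deg_eq_one hK] at h2
    unfold ell at h1 h2
    simp only [Nat.cast_one, mul_one, Nat.cast_zero] at h1 h2
    omega

theorem ev_mem_iff_finite {d : ℕ} {p : k[X]} (hp : p ∈ degreeLT k (d + 1)) {R : Place k K}
    (hR : R ≠ O) {c : k} (hc : R.1 (t - algebraMap k K c) = WithZero.exp (-1 : ℤ)) (n : ℕ) :
    ev t p ∈ L (Finsupp.single O (d : ℤ) - Finsupp.single R (n : ℤ) : Divisor k K) ↔
      (X - C c) ^ n ∣ p := by
  classical
  constructor
  · intro h
    have := h R
    rw [Finsupp.sub_apply, Finsupp.single_apply, Finsupp.single_apply, if_neg (Ne.symm hR),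
      if_pos rfl, zero_sub, ev_apply] at this
    exact (val_aeval_le_iff hK hPO ht hR hc p n).mp this
  · intro h S
    rw [Finsupp.sub_apply, Finsupp.single_apply, Finsupp.single_apply]
    by_cases hS : S = O
    · subst hS
      rw [if_pos rfl, if_neg hR, sub_zero]
      have := ev_mem_L_O hK hPO ht hp S
      rwa [Finsupp.single_apply, if_pos rfl] at this
    · rw [if_neg (Ne.symm hS), zero_sub]
      by_cases hSR : S = R
      · subst hSR
        rw [if_pos rfl, ev_apply]
        exact (val_aeval_le_iff hK hPO ht hR hc p n).mpr h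
      · rw [if_neg (Ne.symm hSR), neg_zero, WithZero.exp_zero]
        exact val_aeval_le hK hPO ht hS p

theorem ev_mem_iff_O {d : ℕ} {p : k[X]} (n : ℕ) (hn : n ≤ d + 1) :
    ev t p ∈ L (Finsupp.single O (d : ℤ) - Finsupp.single O (n : ℤ) : Divisor k K) ↔
      p ∈ degreeLT k (d + 1 - n) := by
  classical
  by_cases hp0 : p = 0
  · subst hp0; simp
  constructor
  · intro h
    have := h O
    rw [Finsupp.sub_apply, Finsupp.single_apply, if_pos rfl, Finsupp.single_apply, if_pos rfl,
      ev_apply, val_aeval_O hK hPO ht hp0, WithZero.exp_le_exp] at this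
    rw [mem_degreeLT, degree_eq_natDegree hp0]
    have h2 : p.natDegree < d + 1 - n := by omega
    exact_mod_cast h2
  · intro h S
    rw [mem_degreeLT, degree_eq_natDegree hp0] at h
    have h2 : p.natDegree < d + 1 - n := by exact_mod_cast h
    rw [Finsupp.sub_apply, Finsupp.single_apply, Finsupp.single_apply, ev_apply]
    by_cases hS : S = O
    · subst hS
      rw [if_pos rfl, val_aeval_O hK hPO ht hp0, WithZero.exp_le_exp]
      omega
    · rw [if_neg (Ne.symm hS), if_neg (Ne.symm hS), sub_zero, WithZero.exp_zero]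
      exact val_aeval_le hK hPO ht hS p

end Coord

end Groth.Agent.Helper27.LLS
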