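import Mathlib
import Groth.Agent.Lib.Helper27.LLSp3

set_option autoImplicit false
set_option linter.style.haveILetI false

namespace Groth.Agent.Helper27.LLS

open FunFld Polynomial
open Groth.Agent.Helper16.FF
open scoped WithZero

variable {k K : Type*} [Field k] [Field K] [Algebra k K]

/-- on a genus zero curve every divisor of degree `d` is equivalent to `d O` -/
theorem exists_div_eq [IsAlgClosed k] (hK : IsFunctionField k K) (hg0 : genus k K = 0)
    {d : ℕ} {D : Divisor k K} (hD : D.deg = d) (O : Place k K) :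
    ∃ u : K, u ≠ 0 ∧ div k u = D - Finsupp.single O (d : ℤ) := by
  have h1 := riemann_le hK (Finsupp.single O (d : ℤ) - D)
  rw [Divisor.deg_sub, Divisor.deg_single, Place.deg_eq_one hK, hD, hg0] at h1
  have h2 : 0 < ell (Finsupp.single O (d : ℤ) - D) := by
    have : (0 : ℤ) < ell (Finsupp.single O (d : ℤ) - D) := by simp at h1; omega
    exact_mod_cast this
  obtain ⟨u, hu0, hu⟩ := exists_ne_zero_mem_L hK h2
  refine ⟨u, hu0, ?_⟩
  rw [mem_L_iff hK _ hu0] at hu
  have hE : 0 ≤ div k u - (D - Finsupp.single O (d : ℤ)) := by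
    have := sub_nonneg.mpr hu
    have e : div k u - -(Finsupp.single O (d : ℤ) - D) = div k u - (D - Finsupp.single O (d : ℤ)) := by
      abel
    rwa [e] at this
  have hdeg : (div k u - (D - Finsupp.single O (d : ℤ))).deg ≤ 0 := by
    rw [Divisor.deg_sub, Divisor.deg_sub, deg_div hK, Divisor.deg_single, Place.deg_eq_one hK, hD]
    simp
  exact sub_eq_zero.mp (eq_zero_of_nonneg_of_deg_le hK hE hdeg)

section Transfer

variable [IsAlgClosed k] (hK : IsFunctionField k K) (hg0 : genus k K = 0)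
  {P₀ O : Place k K} (hPO : P₀ ≠ O) {t : K}
  (ht : div k t = Finsupp.single P₀ 1 - Finsupp.single O 1)
  {d : ℕ} {D : Divisor k K} {u : K} (hu0 : u ≠ 0)
  (hu : div k u = D - Finsupp.single O (d : ℤ))

/-- the transfer map `p ↦ u⁻¹ p(t)` -/
noncomputable def Psi (t u : K) : k[X] →ₗ[k] K := (LinearMap.mulLeft k u⁻¹).comp (ev t)

lemma Psi_apply (t u : K) (p : k[X]) : Psi t u p = u⁻¹ * aeval t p := rfl

include hK hPO ht hu0 hu

theorem Psi_injective : Function.Injective (Psi (k := k) t u) := by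
  intro p q h
  rw [Psi_apply, Psi_apply] at h
  exact ev_injective hK hPO ht (mul_left_cancel₀ (inv_ne_zero hu0) h)

theorem Psi_mem_iff (E : Divisor k K) (p : k[X]) :
    Psi t u p ∈ L E ↔ ev t p ∈ L (E - D + Finsupp.single O (d : ℤ)) := by
  rw [Psi_apply, mul_mem_L_iff hK E (inv_ne_zero hu0), div_inv hK, hu, ev_apply]
  have : E + -(D - Finsupp.single O (d : ℤ)) = E - D + Finsupp.single O (d : ℤ) := by abel
  rw [this]

include hg0 in
theorem L_le_range_Psi : L D ≤ LinearMap.range (Psi (k := k) t u) := by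
  intro y hy
  have h1 : u * y ∈ L (Finsupp.single O (d : ℤ) : Divisor k K) := by
    rw [mul_mem_L_iff hK _ hu0, hu]
    have : Finsupp.single O (d : ℤ) + (D - Finsupp.single O (d : ℤ)) = D := by abel
    rwa [this]
  rw [L_O_eq_map hK hg0 hPO ht d] at h1
  obtain ⟨p, _, hp⟩ := h1
  refine ⟨p, ?_⟩
  rw [Psi_apply, ← ev_apply, hp, ← mul_assoc, inv_mul_cancel₀ hu0, one_mul]

include hg0 in
theorem comap_Psi_le {V : Submodule k K} (hV : V ≤ L D) :
    V.comap (Psi t u) ≤ degreeLT k (d + 1) := by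
  intro p hp
  have h1 : Psi t u p ∈ L D := hV hp
  rw [Psi_mem_iff hK hPO ht hu0 hu, sub_self, zero_add, L_O_eq_map hK hg0 hPO ht d] at h1
  obtain ⟨q, hq, hqp⟩ := h1
  rwa [← ev_injective hK hPO ht hqp]

include hg0 in
theorem av_transfer_finite {V : Submodule k K} (hV : V ≤ L D) {R : Place k K} (hR : R ≠ O) {c : k}
    (hc : R.1 (t - algebraMap k K c) = WithZero.exp (-1 : ℤ)) (n : ℕ) :
    av V D R (n : ℤ) = Module.finrank k ↥(V.comap (Psi t u) ⊓ PW.Gc c n) := by
  unfold av
  rw [← finrank_comap_eq (Psi t u) (Psi_injective hK hPO ht hu0 hu) _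
    (inf_le_left.trans (hV.trans (L_le_range_Psi hK hg0 hPO ht hu0 hu))), Submodule.comap_inf]
  suffices hs : Submodule.comap (Psi t u) V ⊓ Submodule.comap (Psi t u) (L (D - Finsupp.single R (n : ℤ))) =
      Submodule.comap (Psi t u) V ⊓ PW.Gc c n by rw [hs]
  ext p
  simp only [Submodule.mem_inf, Submodule.mem_comap]
  constructor
  · rintro ⟨h1, h2⟩
    refine ⟨h1, ?_⟩
    rw [Psi_mem_iff hK hPO ht hu0 hu] at h2
    have e : D - Finsupp.single R (n : ℤ) - D + Finsupp.single O (d : ℤ) =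
        Finsupp.single O (d : ℤ) - Finsupp.single R (n : ℤ) := by abel
    rw [e] at h2
    exact PW.mem_Gc.mpr ((ev_mem_iff_finite hK hPO ht
      (comap_Psi_le hK hg0 hPO ht hu0 hu hV h1) hR hc n).mp h2)
  · rintro ⟨h1, h2⟩
    refine ⟨h1, ?_⟩
    rw [Psi_mem_iff hK hPO ht hu0 hu]
    have e : D - Finsupp.single R (n : ℤ) - D + Finsupp.single O (d : ℤ) =
        Finsupp.single O (d : ℤ) - Finsupp.single R (n : ℤ) := by abel
    rw [e]
    exact (ev_mem_iff_finite hK hPO ht
      (comap_Psi_le hK hg0 hPO ht hu0 hu hV h1) hR hc n).mpr (PW.mem_Gc.mp h2)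

include hg0 in
theorem av_transfer_O {V : Submodule k K} (hV : V ≤ L D) (n : ℕ) (hn : n ≤ d + 1) :
    av V D O (n : ℤ) = Module.finrank k ↥(V.comap (Psi t u) ⊓ PW.Ginf d n) := by
  unfold av
  rw [← finrank_comap_eq (Psi t u) (Psi_injective hK hPO ht hu0 hu) _
    (inf_le_left.trans (hV.trans (L_le_range_Psi hK hg0 hPO ht hu0 hu))), Submodule.comap_inf]
  suffices hs : Submodule.comap (Psi t u) V ⊓ Submodule.comap (Psi t u) (L (D - Finsupp.single O (n : ℤ))) =
      Submodule.comap (Psi t u) V ⊓ PW.Ginf d n by rw [hs]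
  ext p
  simp only [Submodule.mem_inf, Submodule.mem_comap]
  have e : D - Finsupp.single O (n : ℤ) - D + Finsupp.single O (d : ℤ) =
      Finsupp.single O (d : ℤ) - Finsupp.single O (n : ℤ) := by abel
  constructor
  · rintro ⟨h1, h2⟩
    refine ⟨h1, ?_⟩
    rw [Psi_mem_iff hK hPO ht hu0 hu, e] at h2
    exact (ev_mem_iff_O hK hPO ht n hn).mp h2
  · rintro ⟨h1, h2⟩
    refine ⟨h1, ?_⟩
    rw [Psi_mem_iff hK hPO ht hu0 hu, e]
    exact (ev_mem_iff_O hK hPO ht n hn).mpr h2

end Transfer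

end Groth.Agent.Helper27.LLS
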