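import Mathlib
import Groth.Agent.Lib.Helper27.LLSp4

set_option autoImplicit false
set_option linter.style.haveILetI false

namespace Groth.Agent.Helper27.LLS

open FunFld Polynomial
open Groth.Agent.Helper16.FF
open scoped WithZero

variable {k K : Type*} [Field k] [Field K] [Algebra k K]

/-- the Plücker inequality on a curve of genus zero, in characteristic zero -/
theorem plucker_ff [IsAlgClosed k] [CharZero k] (hK : IsFunctionField k K) (hg0 : genus k K = 0)
    {d r : ℕ} {D : Divisor k K} (hD : D.deg = d) {V : Submodule k K} (hV : V ≤ L D)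
    (hVr : Module.finrank k V = r + 1) (O : Place k K) (S : Finset (Place k K)) (hOS : O ∉ S) :
    ∑ R ∈ S, (wt V D R d - (r + 1) * r / 2) + wt V D O d + (r + 1) * r / 2 ≤ (r + 1) * d := by
  classical
  have := infinite_places hK
  obtain ⟨P₀, hPO⟩ := exists_ne O
  obtain ⟨t, -, ht⟩ := exists_coord hK hg0 hPO
  obtain ⟨u, hu0, hu⟩ := exists_div_eq hK hg0 hD O
  have hV'' : V.comap (Psi t u) ≤ degreeLT k (d + 1) := comap_Psi_le hK hg0 hPO ht hu0 hu hV
  have hr'' : Module.finrank k ↥(V.comap (Psi t u)) = r + 1 := by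
    rw [finrank_comap_eq (Psi t u) (Psi_injective hK hPO ht hu0 hu) _
      (hV.trans (L_le_range_Psi hK hg0 hPO ht hu0 hu)), hVr]
  have hex : ∀ R : Place k K, ∃ c : k, R ≠ O →
      R.1 (t - algebraMap k K c) = WithZero.exp (-1 : ℤ) := by
    intro R
    by_cases h : R = O
    · exact ⟨0, fun h' => absurd h h'⟩
    · obtain ⟨c, hc⟩ := exists_coordOf hK hPO ht h
      exact ⟨c, fun _ => hc⟩
  choose cR hcR using hex
  have hSO : ∀ R ∈ S, R ≠ O := fun R hR h => hOS (h ▸ hR)
  have hinj : Set.InjOn cR (S : Set (Place k K)) := by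
    intro R hR R' hR' h
    exact coordOf_injective hK hPO ht (hSO R hR) (hSO R' hR') (hcR R (hSO R hR))
      (by rw [h]; exact hcR R' (hSO R' hR'))
  have hwtR : ∀ R ∈ S, wt V D R d =
      ∑ n ∈ Finset.range d, Module.finrank k ↥(V.comap (Psi t u) ⊓ PW.Gc (cR R) (n + 1)) := by
    intro R hR
    unfold wt
    apply Finset.sum_congr rfl
    intro n _
    rw [← av_transfer_finite hK hg0 hPO ht hu0 hu hV (hSO R hR) (hcR R (hSO R hR)) (n + 1),
      Nat.cast_succ]
  have hwtO : wt V D O d =
      ∑ n ∈ Finset.range d, Module.finrank k ↥(V.comap (Psi t u) ⊓ PW.Ginf d (n + 1)) := by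
    unfold wt
    apply Finset.sum_congr rfl
    intro n hn
    rw [Finset.mem_range] at hn
    rw [← av_transfer_O hK hg0 hPO ht hu0 hu hV (n + 1) (by omega), Nat.cast_succ]
  have key := PW.polyPlucker (V.comap (Psi t u)) hV'' hr'' (S.image cR)
  rw [Finset.sum_image hinj] at key
  rw [hwtO]
  have e : ∑ R ∈ S, (wt V D R d - (r + 1) * r / 2) =
      ∑ R ∈ S, ((∑ n ∈ Finset.range d,
        Module.finrank k ↥(V.comap (Psi t u) ⊓ PW.Gc (cR R) (n + 1))) - (r + 1) * r / 2) := by
    apply Finset.sum_congr rfl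
    intro R hR
    rw [hwtR R hR]
  rw [e]
  exact key

end Groth.Agent.Helper27.LLS
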