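import Mathlib
import Groth.Agent.Lib.Helper27.LLSk
import Groth.Agent.Lib.Helper27.LLSp5

set_option autoImplicit false
set_option linter.style.haveILetI false

namespace Groth.Agent.Helper27.LLS

open FunFld
open Groth.Agent.Helper16.FF
open scoped WithZero

section Plucker

variable {k K : Type*} [Field k] [Field K] [Algebra k K] [IsAlgClosed k] [CharZero k]
  (hK : IsFunctionField k K) (hg0 : genus k K = 0)
  {d r : ℕ} {D : Divisor k K} (hD : D.deg = d) {V : Submodule k K} (hV : V ≤ L D)
  (hVr : Module.finrank k V = r + 1)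

include hK hg0 hD hV hVr

theorem plucker_sum (S : Finset (Place k K)) (hS : S.Nonempty) :
    ∑ R ∈ S, wt V D R d + r * (r + 1) ≤ (r + 1) * d + S.card * (r * (r + 1) / 2) := by
  classical
  obtain ⟨O, hO⟩ := hS
  have h1 := plucker_ff hK hg0 hD hV hVr O (S.erase O) (Finset.notMem_erase O S)
  have he : (r + 1) * r / 2 = r * (r + 1) / 2 := by rw [mul_comm]
  have h2 := two_mul_half r
  rw [he] at h1
  have h3 : ∑ R ∈ S.erase O, (wt V D R d - r * (r + 1) / 2) + (S.erase O).card * (r * (r + 1) / 2) =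
      ∑ R ∈ S.erase O, wt V D R d := by
    calc _ = ∑ R ∈ S.erase O, (wt V D R d - r * (r + 1) / 2) +
          ∑ _R ∈ S.erase O, (r * (r + 1) / 2) := by rw [Finset.sum_const, smul_eq_mul]
      _ = ∑ R ∈ S.erase O, ((wt V D R d - r * (r + 1) / 2) + r * (r + 1) / 2) :=
          Finset.sum_add_distrib.symm
      _ = _ := by
          apply Finset.sum_congr rfl
          intro R _
          have := two_mul_wt_ge hK hD hV hVr R
          omega
  have h4 : ∑ R ∈ S, wt V D R d = ∑ R ∈ S.erase O, wt V D R d + wt V D O d :=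
    (Finset.sum_erase_add S _ hO).symm
  have h5 : S.card = (S.erase O).card + 1 := (Finset.card_erase_add_one hO).symm
  have h6 : S.card * (r * (r + 1) / 2) =
      (S.erase O).card * (r * (r + 1) / 2) + r * (r + 1) / 2 := by
    rw [h5, add_mul, one_mul]
  rw [h4, h6]
  omega

theorem plucker3 {A B Q : Place k K} (hAB : A ≠ B) (hAQ : A ≠ Q) (hBQ : B ≠ Q) :
    wt V D A d + wt V D B d + wt V D Q d + r * (r + 1) ≤ (r + 1) * d + 3 * (r * (r + 1) / 2) := by
  classical
  have := plucker_sum hK hg0 hD hV hVr {A, B, Q} (by simp)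
  rw [Finset.sum_insert (by simp [hAB, hAQ]), Finset.sum_insert (by simp [hBQ]),
    Finset.sum_singleton, Finset.card_insert_of_notMem (by simp [hAB, hAQ]),
    Finset.card_insert_of_notMem (by simp [hBQ]), Finset.card_singleton] at this
  omega

theorem plucker4 {A B Q Q' : Place k K} (hAB : A ≠ B) (hAQ : A ≠ Q) (hBQ : B ≠ Q)
    (hAQ' : A ≠ Q') (hBQ' : B ≠ Q') (hQQ' : Q ≠ Q') :
    wt V D A d + wt V D B d + wt V D Q d + wt V D Q' d + r * (r + 1) ≤
      (r + 1) * d + 4 * (r * (r + 1) / 2) := by
  classical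
  have := plucker_sum hK hg0 hD hV hVr {A, B, Q, Q'} (by simp)
  rw [Finset.sum_insert (by simp [hAB, hAQ, hAQ']), Finset.sum_insert (by simp [hBQ, hBQ']),
    Finset.sum_insert (by simp [hQQ']),
    Finset.sum_singleton, Finset.card_insert_of_notMem (by simp [hAB, hAQ, hAQ']),
    Finset.card_insert_of_notMem (by simp [hBQ, hBQ']),
    Finset.card_insert_of_notMem (by simp [hQQ']), Finset.card_singleton] at this
  omega

end Plucker

section Backbone

variable {k : Type*} [Field k] [IsAlgClosed k] [CharZero k]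
  {N : ℕ} {Z : Fin (N + 1) → Type*} [∀ l, Field (Z l)] [∀ l, Algebra k (Z l)]
  (hZ : ∀ l, IsFunctionField k (Z l)) (hrat : ∀ i, genus k (Z i) = 0)
  {d r : ℕ} {D : ∀ l, Divisor k (Z l)} (hD : ∀ l, (D l).deg = d)
  {V : ∀ l, Submodule k (Z l)} (hV : ∀ l, V l ≤ L (D l))
  (hVr : ∀ l, Module.finrank k ↥(V l) = r + 1)
  {A B : ∀ l, Place k (Z l)}
  (hAB : ∀ l : Fin (N + 1), 0 < (l : ℕ) → (l : ℕ) < N → A l ≠ B l)
  (hcomp : ∀ (l : Fin N) (m : ℕ), m ≤ d + 1 →
      av (V l.castSucc) (D l.castSucc) (B l.castSucc) (m : ℤ) +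
        av (V l.succ) (D l.succ) (A l.succ) ((d : ℤ) + 1 - m) = r + 1)
  (T : Finset (Fin (N + 1))) {Q : ∀ i, Place k (Z i)}
  (hQA : ∀ i ∈ T, 0 < (i : ℕ) → Q i ≠ A i) (hQB : ∀ i ∈ T, (i : ℕ) < N → Q i ≠ B i)
  (hcusp : ∀ i ∈ T, r ≤ av (V i) (D i) (Q i) 2)

include hZ hrat hD hV hVr hAB hcomp hQA hQB hcusp

theorem backbone_left (hN : 0 < N) (i : Fin (N + 1)) (hi : 0 < (i : ℕ)) :
    r * (r + 1) + 2 * (r * ((T.map Fin.valEmbedding).filter (· < i.1)).card) ≤
      2 * wt (V i) (D i) (A i) d := by
  obtain ⟨wA, wB, hwA, hwB, h0, hN', hstep, hin⟩ :=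
    backbone_data hZ hrat hD hV hVr hAB hcomp T hQA hQB hcusp hN
  have hl := chain_left (T.map Fin.valEmbedding) h0 hstep hin i.1 hi (by have := i.2; omega)
  rw [hwA i.1 i.2, mul_assoc] at hl
  exact hl

theorem backbone_right (hN : 0 < N) (i : Fin (N + 1)) (hi : (i : ℕ) < N) :
    r * (r + 1) + 2 * (r * ((T.map Fin.valEmbedding).filter (i.1 < ·)).card) ≤
      2 * wt (V i) (D i) (B i) d := by
  obtain ⟨wA, wB, hwA, hwB, h0, hN', hstep, hin⟩ :=
    backbone_data hZ hrat hD hV hVr hAB hcomp T hQA hQB hcusp hN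
  have hT : ∀ x ∈ T.map Fin.valEmbedding, x ≤ N := by
    intro x hx
    rw [Finset.mem_map] at hx
    obtain ⟨y, _, rfl⟩ := hx
    have := y.2
    simp only [Fin.valEmbedding_apply]; omega
  have hr := chain_right (T.map Fin.valEmbedding) hN' hstep hin hT i.1 hi
  rw [hwB i.1 i.2, mul_assoc] at hr
  exact hr

omit hZ hrat hD hV hVr hAB hcomp hQA hQB hcusp in
theorem card_split (i : Fin (N + 1)) :
    T.card = ((T.map Fin.valEmbedding).filter (· < i.1)).card +
      ((T.map Fin.valEmbedding).filter (i.1 < ·)).card + (if i ∈ T then 1 else 0) := by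
  classical
  have hc : (T.erase i).card =
      ((T.map Fin.valEmbedding).filter (· < i.1)).card +
        ((T.map Fin.valEmbedding).filter (i.1 < ·)).card := by
    rw [← card_erase_eq, ← Fin.valEmbedding_apply, ← Finset.map_erase, Finset.card_map]
  rw [← hc]
  split_ifs with h
  · exact (Finset.card_erase_add_one h).symm
  · rw [Finset.erase_eq_of_notMem h, add_zero]

/-- S18181 -/
theorem main181 (i : Fin (N + 1)) (hiT : i ∈ T) (hi0 : 0 < (i : ℕ)) (hiN : (i : ℕ) < N) :
    wt (V i) (D i) (Q i) d + r * (T.erase i).card + r * (r + 1) / 2 ≤ (r + 1) * d := by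
  classical
  have hN : 0 < N := by omega
  have hl := backbone_left hZ hrat hD hV hVr hAB hcomp T hQA hQB hcusp hN i hi0
  have hr := backbone_right hZ hrat hD hV hVr hAB hcomp T hQA hQB hcusp hN i hiN
  have hc : (T.erase i).card =
      ((T.map Fin.valEmbedding).filter (· < i.1)).card +
        ((T.map Fin.valEmbedding).filter (i.1 < ·)).card := by
    rw [← card_erase_eq, ← Fin.valEmbedding_apply, ← Finset.map_erase, Finset.card_map]
  have h3 := plucker3 (hZ i) (hrat i) (hD i) (hV i) (hVr i) (hAB i hi0 hiN)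
    (Ne.symm (hQA i hiT hi0)) (Ne.symm (hQB i hiT hiN))
  have h2 := two_mul_half r
  rw [hc, mul_add]
  generalize r * (r + 1) = q at *
  omega

/-- S18183 -/
theorem main183 (i : Fin (N + 1)) (Q' : Place k (Z i)) (hQ'A : 0 < (i : ℕ) → Q' ≠ A i)
    (hQ'B : (i : ℕ) < N → Q' ≠ B i) (hQ'Q : i ∈ T → Q' ≠ Q i) :
    wt (V i) (D i) Q' d + r * T.card + r * (r + 1) ≤ (r + 1) * d + r * (r + 1) / 2 := by
  classical
  have h2 := two_mul_half r
  have hcs := card_split T i
  rcases Nat.eq_zero_or_pos N with hN | hN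
  · subst hN
    have hi : i = 0 := Fin.ext (by have := i.2; simp only [Fin.val_zero]; omega)
    subst hi
    by_cases hT : (0 : Fin 1) ∈ T
    · have hcard : T.card = 1 := by
        apply le_antisymm
        · have := Finset.card_le_univ T
          simpa using this
        · exact Finset.card_pos.mpr ⟨0, hT⟩
      have h1 := wt_add_le (hZ 0) (hV 0) (hQ'Q hT) (hD 0)
      rw [hVr] at h1
      have h3 := two_mul_wt_ge_of_cusp (hZ 0) (hD 0) (hV 0) (hVr 0) (hcusp 0 hT)
      rw [hcard, mul_one]
      generalize r * (r + 1) = q at *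
      omega
    · have hcard : T.card = 0 := by
        rw [Finset.card_eq_zero, Finset.eq_empty_iff_forall_notMem]
        intro x hx
        have hx0 : x = 0 := Fin.ext (by have := x.2; simp only [Fin.val_zero]; omega)
        exact hT (hx0 ▸ hx)
      have h1 := two_mul_wt_le (hZ 0) (hD 0) (hV 0) (hVr 0) Q'
      rw [hcard, mul_zero, add_zero]
      generalize r * (r + 1) = q at *
      omega
  · rcases Nat.eq_zero_or_pos (i : ℕ) with hi0 | hi0
    · -- i = 0
      have hiN : (i : ℕ) < N := by omega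
      have hr := backbone_right hZ hrat hD hV hVr hAB hcomp T hQA hQB hcusp hN i hiN
      have hcL : ((T.map Fin.valEmbedding).filter (· < i.1)).card = 0 := by
        rw [Finset.card_eq_zero, Finset.filter_eq_empty_iff]
        intro x _; omega
      rw [hcL, zero_add] at hcs
      by_cases hT : i ∈ T
      · rw [if_pos hT] at hcs
        have h3 := plucker3 (hZ i) (hrat i) (hD i) (hV i) (hVr i) (Ne.symm (hQB i hT hiN))
          (Ne.symm (hQ'B hiN)) (Ne.symm (hQ'Q hT))
        have h4 := two_mul_wt_ge_of_cusp (hZ i) (hD i) (hV i) (hVr i) (hcusp i hT)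
        rw [hcs, mul_add, mul_one]
        generalize r * (r + 1) = q at *
        omega
      · rw [if_neg hT, add_zero] at hcs
        have h3 := wt_add_le (hZ i) (hV i) (hQ'B hiN) (hD i)
        rw [hVr] at h3
        rw [hcs]
        generalize r * (r + 1) = q at *
        omega
    · rcases Nat.lt_or_ge (i : ℕ) N with hiN | hiN
      · -- inner
        have hl := backbone_left hZ hrat hD hV hVr hAB hcomp T hQA hQB hcusp hN i hi0
        have hr := backbone_right hZ hrat hD hV hVr hAB hcomp T hQA hQB hcusp hN i hiN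
        by_cases hT : i ∈ T
        · rw [if_pos hT] at hcs
          have h4 := plucker4 (hZ i) (hrat i) (hD i) (hV i) (hVr i) (hAB i hi0 hiN)
            (Ne.symm (hQA i hT hi0)) (Ne.symm (hQB i hT hiN)) (Ne.symm (hQ'A hi0))
            (Ne.symm (hQ'B hiN)) (Ne.symm (hQ'Q hT))
          have h5 := two_mul_wt_ge_of_cusp (hZ i) (hD i) (hV i) (hVr i) (hcusp i hT)
          rw [hcs, mul_add, mul_add, mul_one]
          generalize r * (r + 1) = q at *
          omega
        · rw [if_neg hT, add_zero] at hcs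
          have h3 := plucker3 (hZ i) (hrat i) (hD i) (hV i) (hVr i) (hAB i hi0 hiN)
            (Ne.symm (hQ'A hi0)) (Ne.symm (hQ'B hiN))
          rw [hcs, mul_add]
          generalize r * (r + 1) = q at *
          omega
      · -- i = N
        have hiN' : (i : ℕ) = N := by have := i.2; omega
        have hl := backbone_left hZ hrat hD hV hVr hAB hcomp T hQA hQB hcusp hN i hi0
        have hcR : ((T.map Fin.valEmbedding).filter (i.1 < ·)).card = 0 := by
          rw [Finset.card_eq_zero, Finset.filter_eq_empty_iff]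
          intro x hx
          rw [Finset.mem_map] at hx
          obtain ⟨y, _, rfl⟩ := hx
          have := y.2
          simp only [Fin.valEmbedding_apply]; omega
        rw [hcR, add_zero] at hcs
        by_cases hT : i ∈ T
        · rw [if_pos hT] at hcs
          have h3 := plucker3 (hZ i) (hrat i) (hD i) (hV i) (hVr i) (Ne.symm (hQA i hT hi0))
            (Ne.symm (hQ'A hi0)) (Ne.symm (hQ'Q hT))
          have h4 := two_mul_wt_ge_of_cusp (hZ i) (hD i) (hV i) (hVr i) (hcusp i hT)
          rw [hcs, mul_add, mul_one]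
          generalize r * (r + 1) = q at *
          omega
        · rw [if_neg hT, add_zero] at hcs
          have h3 := wt_add_le (hZ i) (hV i) (hQ'A hi0) (hD i)
          rw [hVr] at h3
          rw [hcs]
          generalize r * (r + 1) = q at *
          omega

end Backbone

end Groth.Agent.Helper27.LLS
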