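import Mathlib
import Groth.Agent.Lib.Helper27.LLSf

set_option autoImplicit false

namespace Groth.Agent.Helper27.LLS

open FunFld
open Groth.Agent.Helper16.FF
open scoped WithZero

theorem main19710
    {k : Type*} [Field k] [IsAlgClosed k] [CharZero k]
    {KY : Type*} [Field KY] [Algebra k KY] (hKY : FunFld.IsFunctionField k KY) (hg0 : FunFld.genus k KY = 0)
    {KZ : Type*} [Field KZ] [Algebra k KZ] (hKZ : FunFld.IsFunctionField k KZ)
    (d r : ℕ) (DY : FunFld.Divisor k KY) (hDY : DY.deg = d) (DZ : FunFld.Divisor k KZ) (hDZ : DZ.deg = d)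
    (VY : Submodule k KY) (hVY : VY ≤ FunFld.L DY) (hVYr : Module.finrank k ↥VY = r + 1)
    (VZ : Submodule k KZ) (hVZ : VZ ≤ FunFld.L DZ) (hVZr : Module.finrank k ↥VZ = r + 1)
    (QY : FunFld.Place k KY) (hcusp : r ≤ Module.finrank k ↥(VY ⊓ FunFld.L (DY - Finsupp.single QY ((2 : ℤ)))))
    (P : FunFld.Place k KY) (hP : P ≠ QY) (Q : FunFld.Place k KZ)
    (hcomp : ∀ n : ℕ, n ≤ d + 1 →
      Module.finrank k ↥(VY ⊓ FunFld.L (DY - Finsupp.single P ((n : ℤ)))) + Module.finrank k ↥(VZ ⊓ FunFld.L (DZ - Finsupp.single Q ((d : ℤ) + 1 - n))) = r + 1)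
    (P' : FunFld.Place k KY) (hP'P : P' ≠ P) (hP'Q : P' ≠ QY) :
    {i : ℕ | i ≤ r ∧ ∃ m : ℕ,
        Module.finrank k ↥(VY ⊓ FunFld.L (DY - Finsupp.single P' ((m : ℤ)))) = r + 1 - i ∧
        Module.finrank k ↥(VY ⊓ FunFld.L (DY - Finsupp.single P' ((m : ℤ) + 1))) = r - i ∧
        Module.finrank k ↥(VZ ⊓ FunFld.L (DZ - Finsupp.single Q ((m : ℤ)))) = r + 1 - i ∧
        Module.finrank k ↥(VZ ⊓ FunFld.L (DZ - Finsupp.single Q ((m : ℤ) + 1))) = r - i}.Subsingleton := by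
  classical
  -- for each index in the set: a section with divisor m P' + (d - m) P
  have key : ∀ i m : ℕ, i ≤ r →
      av VY DY P' (m : ℤ) = r + 1 - i → av VZ DZ Q (m : ℤ) = r + 1 - i →
      av VZ DZ Q ((m : ℤ) + 1) = r - i →
      ∃ h : KY, h ∈ VY ∧ h ≠ 0 ∧
        div k h + DY = Finsupp.single P' (m : ℤ) + Finsupp.single P ((d : ℤ) - m) := by
    intro i m hi h1 h3 h4
    have hmd : m ≤ d := by
      by_contra hcon
      push Not at hcon
      have := av_eq_zero hKZ VZ (D := DZ) Q (n := (m : ℤ)) (by rw [hDZ]; omega)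
      omega
    have c2 := hcomp (d - m) (by omega)
    have e2 : (d : ℤ) + 1 - ((d - m : ℕ) : ℤ) = (m : ℤ) + 1 := by omega
    rw [e2] at c2
    rw [av_def, av_def] at c2
    have e3 : (((d - m : ℕ) : ℤ)) = (d : ℤ) - m := by omega
    rw [e3] at c2
    obtain ⟨h, h0, hhV, hh1, hh2⟩ := exists_common hKY hVY P' P (n := (m : ℤ)) (m := (d : ℤ) - m)
      (by rw [hVYr]; omega)
    exact ⟨h, hhV, h0, exact_div hKY hP'P (by rw [hDY]; ring) h0 hh1 hh2⟩
  rintro i₁ ⟨hi₁, m₁, a1, a2, a3, a4⟩ i₂ ⟨hi₂, m₂, b1, b2, b3, b4⟩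
  rw [av_def] at a1 a3 b1 b3
  rw [av_def] at a4 b4
  obtain ⟨h₁, hv1, h10, hd1⟩ := key i₁ m₁ hi₁ a1 a3 a4
  obtain ⟨h₂, hv2, h20, hd2⟩ := key i₂ m₂ hi₂ b1 b3 b4
  have hs1 : ∀ R : Place k KY, R ≠ P' → R ≠ P → (div k h₁ + DY) R = 0 := by
    intro R hRA hRB
    rw [hd1]; simp [Finsupp.single_apply, Ne.symm hRA, Ne.symm hRB]
  have hs2 : ∀ R : Place k KY, R ≠ P' → R ≠ P → (div k h₂ + DY) R = 0 := by
    intro R hRA hRB
    rw [hd2]; simp [Finsupp.single_apply, Ne.symm hRA, Ne.symm hRB]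
  obtain ⟨c, hc⟩ := dep_of_cusp hKY hg0 hVY hVYr hcusp hP'Q hP hv1 hv2 h10 h20 hs1 hs2
  have hc0 : c ≠ 0 := by
    rintro rfl
    rw [zero_smul] at hc
    exact h20 hc
  have hdiv : div k h₂ = div k h₁ := by
    rw [hc, Algebra.smul_def, div_mul hKY ((map_ne_zero_iff _ (algebraMap k KY).injective).2 hc0) h10,
      div_algebraMap hKY, zero_add]
  have hmm : (m₁ : ℤ) = m₂ := by
    have e : div k h₁ + DY = div k h₂ + DY := by rw [hdiv]
    rw [hd1, hd2] at e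
    have := DFunLike.congr_fun e P'
    simpa [Finsupp.single_apply, Ne.symm hP'P, hP'P] using this
  have hmm' : m₁ = m₂ := by exact_mod_cast hmm
  subst hmm'
  omega

end Groth.Agent.Helper27.LLS
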