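import Mathlib

/-! Lifting étale algebras along a surjection with nilpotent kernel. -/

set_option autoImplicit false

namespace Groth.Agent.Helper27.Lf

open MvPolynomial Algebra

universe u v

/-- An étale algebra lifts along a surjection with nilpotent kernel. -/
theorem exists_etale_lift {B A : Type u} [CommRing B] [CommRing A] (π : B →+* A)
    (hπ : Function.Surjective π) (hnil : IsNilpotent (RingHom.ker π))
    (C : Type v) [CommRing C] [Algebra A C] [Algebra.Etale A C] :
    ∃ (C' : Type u) (_ : CommRing C') (_ : Algebra B C') (_ : Algebra.Etale B C') (πC : C' →+* C),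
      Function.Surjective πC ∧
      RingHom.ker πC = Ideal.map (algebraMap B C') (RingHom.ker π) ∧
      ∀ b, πC (algebraMap B C' b) = algebraMap A C (π b) := by
  classical
  obtain ⟨ι', σ', _, _, P, hP⟩ :=
    (Algebra.Etale.iff_isStandardSmoothOfRelativeDimension_zero.mp ‹Algebra.Etale A C›).out
  haveI : Fintype σ' := Fintype.ofFinite _
  have hsurj : Function.Surjective (MvPolynomial.map π : MvPolynomial ι' B → MvPolynomial ι' A) :=
    MvPolynomial.map_surjective π hπ
  choose r hr using fun j => hsurj (P.relation j)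
  set I : Ideal (MvPolynomial ι' B) := Ideal.span (Set.range r) with hI
  -- the map to `C`
  set φ : MvPolynomial ι' B →+* C :=
    ((MvPolynomial.aeval P.val : MvPolynomial ι' A →ₐ[A] C) : MvPolynomial ι' A →+* C).comp
      (MvPolynomial.map π) with hφ
  have hφr : ∀ j, φ (r j) = 0 := by
    intro j
    show MvPolynomial.aeval P.val (MvPolynomial.map π (r j)) = 0
    rw [hr, P.aeval_val_relation]
  have hφI : ∀ x ∈ I, φ x = 0 := by
    intro x hx
    rw [← RingHom.mem_ker]
    refine (Ideal.span_le.2 ?_) hx
    rintro _ ⟨j, rfl⟩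
    exact hφr j
  set πC : (MvPolynomial ι' B ⧸ I) →+* C := Ideal.Quotient.lift I φ hφI with hπC
  have hπCmk : ∀ y, πC (Ideal.Quotient.mk I y) = φ y := fun y => Ideal.Quotient.lift_mk I φ hφI
  have halg : ∀ b : B, algebraMap B (MvPolynomial ι' B ⧸ I) b =
      Ideal.Quotient.mk I (MvPolynomial.C b) := fun b => rfl
  have hcomm : ∀ b, πC (algebraMap B (MvPolynomial ι' B ⧸ I) b) = algebraMap A C (π b) := by
    intro b
    rw [halg, hπCmk]
    show MvPolynomial.aeval P.val (MvPolynomial.map π (MvPolynomial.C b)) = _
    rw [MvPolynomial.map_C, MvPolynomial.aeval_C]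
  have hπCsurj : Function.Surjective πC := by
    intro c
    obtain ⟨y, rfl⟩ := P.aeval_val_surjective c
    obtain ⟨z, rfl⟩ := hsurj y
    exact ⟨Ideal.Quotient.mk I z, hπCmk z⟩
  -- the kernel
  have hker : RingHom.ker πC =
      Ideal.map (algebraMap B (MvPolynomial ι' B ⧸ I)) (RingHom.ker π) := by
    apply le_antisymm
    · intro x hx
      obtain ⟨y, rfl⟩ := Ideal.Quotient.mk_surjective x
      rw [RingHom.mem_ker, hπCmk] at hx
      have h1 : MvPolynomial.map π y ∈ Ideal.span (Set.range P.relation) := by
        rw [P.span_range_relation_eq_ker, P.ker_eq_ker_aeval_val, RingHom.mem_ker]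
        exact hx
      have h2 : Ideal.span (Set.range P.relation) =
          Ideal.map (MvPolynomial.map π : MvPolynomial ι' B →+* MvPolynomial ι' A) I := by
        rw [hI, Ideal.map_span, ← Set.range_comp]
        congr 2
        funext j
        exact (hr j).symm
      rw [h2, Ideal.mem_map_iff_of_surjective _ hsurj] at h1
      obtain ⟨z, hzI, hz⟩ := h1
      have h3 : y - z ∈ RingHom.ker (MvPolynomial.map π :
          MvPolynomial ι' B →+* MvPolynomial ι' A) := by
        rw [RingHom.mem_ker, map_sub, hz, sub_self]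
      rw [MvPolynomial.ker_map] at h3
      have h4 : Ideal.Quotient.mk I y = Ideal.Quotient.mk I (y - z) := by
        rw [map_sub, Ideal.Quotient.eq_zero_iff_mem.2 hzI, sub_zero]
      rw [h4]
      have h5 : Ideal.map (algebraMap B (MvPolynomial ι' B ⧸ I)) (RingHom.ker π) =
          Ideal.map (Ideal.Quotient.mk I) (Ideal.map (MvPolynomial.C : B →+* MvPolynomial ι' B)
            (RingHom.ker π)) := by
        rw [Ideal.map_map]; rfl
      rw [h5]
      exact Ideal.mem_map_of_mem _ h3
    · rw [Ideal.map_le_iff_le_comap]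
      intro b hb
      rw [Ideal.mem_comap, RingHom.mem_ker, hcomm, (RingHom.mem_ker).1 hb, map_zero]
  have hKnil : IsNilpotent (RingHom.ker πC) := by
    obtain ⟨n, hn⟩ := hnil
    refine ⟨n, ?_⟩
    rw [hker, ← Ideal.map_pow, hn]
    exact Ideal.map_bot
  -- the presentation
  let P' : PreSubmersivePresentation B (MvPolynomial ι' B ⧸ I) ι' σ' :=
    PreSubmersivePresentation.naive (v := r) P.map P.map_inj
  have hjacmap : πC P'.jacobian = P.jacobian := by
    rw [P'.jacobian_eq_jacobiMatrix_det, P.jacobian_eq_jacobiMatrix_det]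
    have hL : ∀ y : MvPolynomial ι' B,
        algebraMap P'.Ring (MvPolynomial ι' B ⧸ I) y = Ideal.Quotient.mk I y := by
      intro y
      rw [Algebra.Generators.algebraMap_apply]
      induction y using MvPolynomial.induction_on with
      | C a => rw [MvPolynomial.aeval_C]; rfl
      | add p q hp hq => rw [map_add, map_add, hp, hq]
      | mul_X p i hp => rw [map_mul, map_mul, hp, MvPolynomial.aeval_X]; rfl
    rw [hL, hπCmk, Algebra.Generators.algebraMap_apply]
    show MvPolynomial.aeval P.val (MvPolynomial.map π P'.jacobiMatrix.det) = _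
    congr 1
    rw [RingHom.map_det]
    congr 1
    ext i j : 1
    rw [RingHom.mapMatrix_apply, Matrix.map_apply, PreSubmersivePresentation.jacobiMatrix_naive,
      P.jacobiMatrix_apply, ← MvPolynomial.pderiv_map, hr]
  have hjac : IsUnit P'.jacobian := by
    have h1 : IsUnit (πC P'.jacobian) := by rw [hjacmap]; exact P.jacobian_isUnit
    rw [← IsNilpotent.isUnit_quotient_mk_iff hKnil]
    let e := RingHom.quotientKerEquivOfSurjective hπCsurj
    have h2 : e (Ideal.Quotient.mk _ P'.jacobian) = πC P'.jacobian := rfl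
    rw [← h2] at h1
    exact (MulEquiv.isUnit_map e.toMulEquiv).1 h1
  let P'' : SubmersivePresentation B (MvPolynomial ι' B ⧸ I) ι' σ' :=
    { toPreSubmersivePresentation := P', jacobian_isUnit := hjac }
  have hdim : P''.dimension = 0 := hP
  haveI : IsStandardSmoothOfRelativeDimension 0 B (MvPolynomial ι' B ⧸ I) :=
    P''.isStandardSmoothOfRelativeDimension hdim
  exact ⟨MvPolynomial ι' B ⧸ I, inferInstance, inferInstance, inferInstance, πC, hπCsurj, hker,
    hcomm⟩

end Groth.Agent.Helper27.Lf
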