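import Mathlib
import Groth.Prelude.Def_W4c1liftfrobW2
import Groth.Agent.Lib.Helper27.LfA
import Groth.Agent.Lib.Helper20.W2k

/-! Frobenius liftability passes to étale algebras. -/

set_option autoImplicit false

namespace Groth.Agent.Helper27.Lf

universe u v

/-- A type synonym, used to carry a twisted algebra structure. -/
def Tw (X : Type v) : Type v := X

instance (X : Type v) [CommRing X] : CommRing (Tw X) := inferInstanceAs (CommRing X)

theorem main18155 (p : ℕ) [Fact p.Prime] (k : Type u) [Field k] [IsAlgClosed k] [CharP k p]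
    (A C : Type v) [CommRing A] [CommRing C] [Algebra k A] [Algebra k C] [Algebra A C]
    [IsScalarTower k A C] [Algebra.Etale A C] (hA : FrobAlg.IsFLiftable p k A) :
    FrobAlg.IsFLiftable p k C := by
  classical
  obtain ⟨B, _, ι, π, Φ, hF⟩ := hA
  haveI : PerfectRing k p := inferInstance
  -- nilpotency of the kernel
  have hnil : IsNilpotent (RingHom.ker π) := by
    refine ⟨2, ?_⟩
    rw [hF.ker_eq, Groth.Agent.Helper20.W2.ker_res, Ideal.map_span, Set.image_singleton,
      Ideal.span_singleton_pow, ← map_pow, pow_two, Groth.Agent.Helper20.W2.p_mul_p, map_zero]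
    exact Ideal.span_singleton_eq_bot.2 rfl
  obtain ⟨C', _, _, _, πC, hπCsurj, hker, hcomm⟩ := exists_etale_lift π hF.surj hnil C
  have hKnil : IsNilpotent (RingHom.ker πC) := by
    obtain ⟨n, hn⟩ := hnil
    refine ⟨n, ?_⟩
    rw [hker, ← Ideal.map_pow, hn]
    exact Ideal.map_bot
  have hlift : FrobAlg.IsLift p k C C' ((algebraMap B C').comp ι) πC := by
    refine ⟨?_, hπCsurj, ?_, ?_⟩
    · refine RingHom.Flat.comp hF.flat ?_
      rw [RingHom.flat_algebraMap_iff]
      infer_instance
    · rw [hker, hF.ker_eq, Ideal.map_map]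
    · ext w
      show πC (algebraMap B C' (ι w)) = algebraMap k C (FrobAlg.res p k w)
      rw [hcomm]
      have h1 : π (ι w) = algebraMap k A (FrobAlg.res p k w) := RingHom.congr_fun hF.comm w
      rw [h1, ← IsScalarTower.algebraMap_apply]
  -- the Frobenius lift
  have hΦ : ∃ ΦC : C' →+* C', (∀ b, ΦC (algebraMap B C' b) = algebraMap B C' (Φ b)) ∧
      ∀ x, πC (ΦC x) = πC x ^ p := by
    rcases subsingleton_or_nontrivial C with hC | hC
    · haveI : Subsingleton C' := by
        obtain ⟨n, hn⟩ := hKnil
        have h1 : (1 : C') ∈ RingHom.ker πC := by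
          rw [RingHom.mem_ker]; exact Subsingleton.elim _ _
        have h2 : (1 : C') ^ n ∈ RingHom.ker πC ^ n := Ideal.pow_mem_pow h1 n
        rw [hn, one_pow, Ideal.zero_eq_bot, Ideal.mem_bot] at h2
        exact subsingleton_of_zero_eq_one h2.symm
      exact ⟨RingHom.id C', fun b => Subsingleton.elim _ _, fun x => Subsingleton.elim _ _⟩
    · haveI : CharP C p := charP_of_injective_algebraMap (algebraMap k C).injective p
      letI algTw : Algebra B (Tw C') := ((algebraMap B C').comp Φ).toAlgebra
      letI algTwC : Algebra B (Tw C) := (πC.comp ((algebraMap B C').comp Φ)).toAlgebra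
      let g : Tw C' →ₐ[B] Tw C := { πC with commutes' := fun b => rfl }
      let f : C' →ₐ[B] Tw C :=
        { (frobenius C p).comp πC with
          commutes' := by
            intro b
            show (frobenius C p) (πC (algebraMap B C' b)) = πC (algebraMap B C' (Φ b))
            rw [hcomm, hcomm, hF.red, frobenius_def, map_pow] }
      have hg : Function.Surjective g := hπCsurj
      have hg' : IsNilpotent (RingHom.ker (g : Tw C' →+* Tw C)) := hKnil
      let h := Algebra.FormallySmooth.liftOfSurjective f g hg hg'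
      refine ⟨(h : C' →+* Tw C'), ?_, ?_⟩
      · intro b
        exact h.commutes b
      · intro x
        have := Algebra.FormallySmooth.liftOfSurjective_apply f g hg hg' x
        exact this
  obtain ⟨ΦC, hΦ1, hΦ2⟩ := hΦ
  refine ⟨C', inferInstance, (algebraMap B C').comp ι, πC, ΦC, ⟨hlift, ?_, hΦ2⟩⟩
  ext w
  show ΦC (algebraMap B C' (ι w)) = algebraMap B C' (ι (FrobAlg.sigma p k w))
  rw [hΦ1]
  have h1 : Φ (ι w) = ι (FrobAlg.sigma p k w) := RingHom.congr_fun hF.semi w
  rw [h1]

end Groth.Agent.Helper27.Lf
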