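import Mathlib
import Groth.Agent.Lib.Helper21.FL8

/-!
# Flat + locally finitely presented ⇒ finitely presented (helper27), part A

Auxiliary lemmas:
* `eq_zero_of_flat_of_forall_exists_smul`: if `R` embeds into a finite product of its local rings
  `R_{p_j}`, `X` is `R`-flat and `x ∈ X` dies in every `X_{p_j}`, then `x = 0`.
* `exists_finset_ker_of_localized_fp`: if `π : F → M` is surjective with `F` finite and `M_T`
  finitely presented over `A_T`, there is a finite subset `W` of `ker π` generating it up to `T`.
-/

set_option autoImplicit false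

universe u

open TensorProduct Function

namespace Groth.Agent.Helper27.Lfp

section A

variable {R : Type*} [CommRing R] (s : Finset (PrimeSpectrum R))
  (hs : Function.Injective fun r : R => fun p : s => algebraMap R (Localization.AtPrime p.1.asIdeal) r)

include hs in
theorem eq_zero_of_flat_of_forall_exists_smul {X : Type*} [AddCommGroup X] [Module R X]
    [Module.Flat R X] (x : X) (hx : ∀ p ∈ s, ∃ t : R, t ∉ p.asIdeal ∧ t • x = 0) : x = 0 := by
  classical
  let P := ∀ p : s, Localization.AtPrime p.1.asIdeal
  let φ : R →ₗ[R] P := LinearMap.pi fun p => Algebra.linearMap R (Localization.AtPrime p.1.asIdeal)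
  have hφ : Injective φ := by
    intro a b hab
    apply hs
    funext p
    exact congrFun hab p
  have hinj : Injective (φ.lTensor X) :=
    Module.Flat.lTensor_preserves_injective_linearMap φ hφ
  have h1 : φ.lTensor X (x ⊗ₜ[R] (1 : R)) = 0 := by
    rw [LinearMap.lTensor_tmul]
    have h2 : φ 1 = ∑ p : s, Pi.single p (1 : Localization.AtPrime p.1.asIdeal) := by
      funext p
      rw [Finset.sum_apply, Finset.sum_eq_single p]
      · rw [Pi.single_eq_same]
        change algebraMap R (Localization.AtPrime p.1.asIdeal) 1 = 1
        exact map_one _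
      · intro b _ hb
        exact Pi.single_eq_of_ne' hb _
      · intro h
        exact absurd (Finset.mem_univ p) h
    rw [h2, TensorProduct.tmul_sum]
    apply Finset.sum_eq_zero
    intro p _
    obtain ⟨t, ht, htx⟩ := hx p.1 p.2
    have h3 : (Pi.single p (1 : Localization.AtPrime p.1.asIdeal) : P) =
        t • (Pi.single p (IsLocalization.mk' (Localization.AtPrime p.1.asIdeal) (1 : R)
          (⟨t, ht⟩ : p.1.asIdeal.primeCompl)) : P) := by
      rw [← Pi.single_smul, Algebra.smul_def, IsLocalization.mk'_spec'_mk]
      simp
    rw [h3, ← TensorProduct.smul_tmul, htx, TensorProduct.zero_tmul]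
  have h4 : x ⊗ₜ[R] (1 : R) = 0 := hinj (by rw [h1, map_zero])
  have h5 := congrArg (TensorProduct.rid R X) h4
  simpa using h5

end A

section C

variable {A : Type*} [CommRing A] (T : Submonoid A) {F M : Type*} [AddCommGroup F] [Module A F]
  [AddCommGroup M] [Module A M]

theorem exists_finset_ker_of_localized_fp [Module.Finite A F] (π : F →ₗ[A] M) (hπ : Surjective π)
    (h : Module.FinitePresentation (Localization T) (LocalizedModule T M)) :
    ∃ W : Finset F, (∀ w ∈ W, π w = 0) ∧
      ∀ x, π x = 0 → ∃ t ∈ T, t • x ∈ Submodule.span A (W : Set F) := by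
  classical
  let f := LocalizedModule.mkLinearMap T F
  let f' := LocalizedModule.mkLinearMap T M
  let πT : LocalizedModule T F →ₗ[Localization T] LocalizedModule T M :=
    (IsLocalizedModule.map T f f' π).extendScalarsOfIsLocalization T (Localization T)
  have hsurj : Surjective πT := IsLocalizedModule.map_surjective T f f' π hπ
  have hfg : (LinearMap.ker πT).FG := Module.FinitePresentation.fg_ker πT hsurj
  have hker : (LinearMap.ker π).localized' (Localization T) T f = LinearMap.ker πT :=
    LinearMap.localized'_ker_eq_ker_localizedMap (Localization T) T f f' π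
  obtain ⟨G, hG⟩ := hfg
  have hGmem : ∀ y ∈ G, ∃ m ∈ LinearMap.ker π, ∃ t : T, IsLocalizedModule.mk' f m t = y := by
    intro y hy
    have : y ∈ (LinearMap.ker π).localized' (Localization T) T f := by
      rw [hker, ← hG]
      exact Submodule.subset_span hy
    exact (Submodule.mem_localized' _ _ _ _ _).1 this
  choose! w hw using hGmem
  refine ⟨G.image w, ?_, ?_⟩
  · intro v hv
    obtain ⟨y, hy, rfl⟩ := Finset.mem_image.1 hv
    exact (hw y hy).1
  · intro x hx
    have hx1 : f x ∈ (LinearMap.ker π).localized' (Localization T) T f :=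
      (Submodule.mem_localized' _ _ _ _ _).2 ⟨x, hx, 1, by simp⟩
    have hle : (LinearMap.ker π).localized' (Localization T) T f ≤
        (Submodule.span A ((G.image w : Finset F) : Set F)).localized' (Localization T) T f := by
      rw [hker, ← hG, Submodule.span_le]
      intro y hy
      obtain ⟨-, t, ht⟩ := hw y hy
      exact (Submodule.mem_localized' _ _ _ _ _).2
        ⟨w y, Submodule.subset_span (Finset.mem_coe.2 (Finset.mem_image_of_mem w hy)), t, ht⟩
    obtain ⟨m, hm, t, hmt⟩ := (Submodule.mem_localized' _ _ _ _ _).1 (hle hx1)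
    rw [IsLocalizedModule.mk'_eq_iff] at hmt
    have h2 : f m = f ((t : A) • x) := by
      rw [hmt, map_smul]
      rfl
    obtain ⟨c, hc⟩ := (IsLocalizedModule.eq_iff_exists T f).1 h2
    refine ⟨c * t, T.mul_mem c.2 t.2, ?_⟩
    rw [mul_smul]
    have : (c : A) • (t : A) • x = (c : A) • m := hc.symm
    rw [this]
    exact Submodule.smul_mem _ _ hm

end C

end Groth.Agent.Helper27.Lfp
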