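import Mathlib
import Groth.Agent.Lib.Helper27.LfpA

/-!
# Flat + locally finitely presented ⇒ finitely presented (helper27), part B

`R → S` of finite presentation, `π : F → M` a surjection of `S`-modules with `F` finitely presented
and `M` flat over `R`; `R` embeds in a finite product of local rings `R_{p_j}`.

* `local_claim`: near a prime `q` of `S`, a finite subset `W` of `ker π` that generates `ker π`
  after localizing at `q ∩ R` and at all `p_j` generates `ker π` after inverting some `g ∉ q`.
* `ker_fg`: if such `W` exist for every prime of `R`, then `ker π` is finitely generated.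
-/

set_option autoImplicit false

universe u

open TensorProduct Function

namespace Groth.Agent.Helper27.Lfp

variable {R S : Type u} [CommRing R] [CommRing S] [Algebra R S] [Algebra.FinitePresentation R S]
  {F M : Type u} [AddCommGroup F] [Module S F] [Module R F] [IsScalarTower R S F]
  [Module.FinitePresentation S F]
  [AddCommGroup M] [Module S M] [Module R M] [IsScalarTower R S M] [Module.Flat R M]
  (s : Finset (PrimeSpectrum R))
  (hs : Function.Injective fun r : R => fun p : s => algebraMap R (Localization.AtPrime p.1.asIdeal) r)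
  (π : F →ₗ[S] M) (hπ : Surjective π)

include hs hπ in
theorem local_claim (q : Ideal S) [q.IsPrime] (W : Finset F) (hW : ∀ w ∈ W, π w = 0)
    (ha : ∀ p ∈ s, ∀ x, π x = 0 → ∃ t : R, t ∉ p.asIdeal ∧
      algebraMap R S t • x ∈ Submodule.span S (W : Set F))
    (hb : ∀ x, π x = 0 → ∃ t : R, algebraMap R S t ∉ q ∧
      algebraMap R S t • x ∈ Submodule.span S (W : Set F)) :
    ∃ g : S, g ∉ q ∧ ∀ x, π x = 0 → ∃ N : ℕ, g ^ N • x ∈ Submodule.span S (W : Set F) := by
  classical
  set K' : Submodule S F := Submodule.span S (W : Set F) with hK'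
  have hK'le : K' ≤ LinearMap.ker π := by
    rw [hK', Submodule.span_le]
    intro w hw
    exact hW w hw
  let M' := F ⧸ K'
  haveI : Module.FinitePresentation S M' :=
    Module.finitePresentation_of_surjective K'.mkQ (Submodule.mkQ_surjective K')
      (by rw [Submodule.ker_mkQ]; exact Submodule.fg_span (Finset.finite_toSet W))
  let ρ : M' →ₗ[S] M := K'.liftQ π hK'le
  have hρ : ∀ x : F, ρ (K'.mkQ x) = π x := fun x => rfl
  -- `M_q` is a localization of `M'`
  let fq := LocalizedModule.mkLinearMap q.primeCompl M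
  have hloc : IsLocalizedModule q.primeCompl (fq ∘ₗ ρ) := by
    refine ⟨fun c => IsLocalizedModule.map_units fq c, ?_, ?_⟩
    · intro y
      obtain ⟨⟨m, c⟩, hmc⟩ := IsLocalizedModule.surj q.primeCompl fq y
      obtain ⟨x, rfl⟩ := hπ m
      exact ⟨⟨K'.mkQ x, c⟩, by rw [LinearMap.comp_apply, hρ]; exact hmc⟩
    · intro y₁ y₂ h
      obtain ⟨x₁, rfl⟩ := Submodule.mkQ_surjective K' y₁
      obtain ⟨x₂, rfl⟩ := Submodule.mkQ_surjective K' y₂
      rw [LinearMap.comp_apply, LinearMap.comp_apply, hρ, hρ] at h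
      obtain ⟨c, hc⟩ := IsLocalizedModule.exists_of_eq (S := q.primeCompl) (f := fq) h
      have h1 : π ((c : S) • (x₁ - x₂)) = 0 := by
        rw [map_smul, map_sub, smul_sub]
        exact sub_eq_zero.2 hc
      obtain ⟨t, htq, ht⟩ := hb _ h1
      refine ⟨⟨algebraMap R S t * c, q.primeCompl.mul_mem htq c.2⟩, ?_⟩
      change (algebraMap R S t * (c : S)) • K'.mkQ x₁ = (algebraMap R S t * (c : S)) • K'.mkQ x₂
      rw [← sub_eq_zero, ← smul_sub, ← map_sub, ← map_smul,
        Submodule.mkQ_apply, Submodule.Quotient.mk_eq_zero, mul_smul]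
      exact ht
  haveI : Module.Flat R (LocalizedModule q.primeCompl M) :=
    Groth.Agent.Helper21.FL.flat_of_isLocalizedModule q.primeCompl fq
  have hflat : Module.Flat R (LocalizedModule q.primeCompl M') := by
    let e : LocalizedModule q.primeCompl M' ≃ₗ[S] LocalizedModule q.primeCompl M :=
      IsLocalizedModule.iso q.primeCompl (fq ∘ₗ ρ)
    exact Module.Flat.of_linearEquiv (e.restrictScalars R)
  -- openness of the flat locus
  have hopen := Groth.Agent.Helper21.FL.isOpen_flatLocus (R := R) (S := S) (M := M')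
  have hqmem : (⟨q, inferInstance⟩ : PrimeSpectrum S) ∈
      {q : PrimeSpectrum S | Module.Flat R (LocalizedModule q.asIdeal.primeCompl M')} := hflat
  obtain ⟨_, ⟨g, rfl⟩, hqg, hgU⟩ :=
    PrimeSpectrum.isTopologicalBasis_basic_opens.exists_subset_of_mem_open hqmem hopen
  refine ⟨g, hqg, ?_⟩
  intro x hx
  let xb : M' := K'.mkQ x
  let J : Ideal S := LinearMap.ker (LinearMap.toSpanSingleton S M' xb)
  have hJ : ∀ a : S, a ∈ J ↔ a • xb = 0 := fun a => by
    rw [LinearMap.mem_ker, LinearMap.toSpanSingleton_apply]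
  have hgJ : g ∈ J.radical := by
    rw [Ideal.radical_eq_sInf, Ideal.mem_sInf]
    rintro q' ⟨hJq', hq'⟩
    by_contra hgq'
    haveI := hq'
    have hmem : (⟨q', hq'⟩ : PrimeSpectrum S) ∈
        {q : PrimeSpectrum S | Module.Flat R (LocalizedModule q.asIdeal.primeCompl M')} :=
      hgU hgq'
    haveI : Module.Flat R (LocalizedModule q'.primeCompl M') := hmem
    have h0 : LocalizedModule.mkLinearMap q'.primeCompl M' xb = 0 := by
      apply eq_zero_of_flat_of_forall_exists_smul s hs
      intro p hp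
      obtain ⟨t, htp, ht⟩ := ha p hp x hx
      refine ⟨t, htp, ?_⟩
      rw [← algebraMap_smul S t, ← map_smul]
      have : algebraMap R S t • xb = 0 := by
        change algebraMap R S t • K'.mkQ x = 0
        rw [← map_smul, Submodule.mkQ_apply, Submodule.Quotient.mk_eq_zero]
        exact ht
      rw [this, map_zero]
    obtain ⟨c, hc⟩ := (IsLocalizedModule.eq_zero_iff q'.primeCompl
      (LocalizedModule.mkLinearMap q'.primeCompl M')).1 h0
    exact c.2 (hJq' ((hJ c).2 hc))
  obtain ⟨N, hN⟩ := hgJ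
  refine ⟨N, ?_⟩
  have := (hJ _).1 hN
  change g ^ N • K'.mkQ x = 0 at this
  rwa [← map_smul, Submodule.mkQ_apply, Submodule.Quotient.mk_eq_zero] at this

include hs hπ in
theorem ker_fg
    (hloc : ∀ (p : Ideal R) [p.IsPrime], ∃ W : Finset F, (∀ w ∈ W, π w = 0) ∧
      ∀ x, π x = 0 → ∃ t : R, t ∉ p ∧ algebraMap R S t • x ∈ Submodule.span S (W : Set F)) :
    (LinearMap.ker π).FG := by
  classical
  -- the set of good `g`
  let Good : Set S := {g | ∃ W : Finset F, (∀ w ∈ W, π w = 0) ∧
    ∀ x, π x = 0 → ∃ N : ℕ, g ^ N • x ∈ Submodule.span S (W : Set F)}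
  have htop : Ideal.span Good = ⊤ := by
    by_contra hne
    obtain ⟨q, hqmax, hq⟩ := Ideal.exists_le_maximal _ hne
    haveI : q.IsPrime := hqmax.isPrime
    -- finite set for q ∩ R and all p_j
    choose Wp hWp1 hWp2 using hloc
    let W : Finset F := Wp (q.comap (algebraMap R S)) ∪ s.attach.biUnion fun p => Wp p.1.asIdeal
    have hsub0 : (Wp (q.comap (algebraMap R S)) : Set F) ⊆ (W : Set F) := by
      intro w hw
      exact Finset.mem_coe.2 (Finset.mem_union_left _ (Finset.mem_coe.1 hw))
    have hsubp : ∀ p (hp : p ∈ s), (Wp p.asIdeal : Set F) ⊆ (W : Set F) := by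
      intro p hp w hw
      refine Finset.mem_coe.2 (Finset.mem_union_right _ ?_)
      rw [Finset.mem_biUnion]
      exact ⟨⟨p, hp⟩, Finset.mem_attach _ _, Finset.mem_coe.1 hw⟩
    have hW : ∀ w ∈ W, π w = 0 := by
      intro w hw
      rcases Finset.mem_union.1 hw with h | h
      · exact hWp1 _ w h
      · rw [Finset.mem_biUnion] at h
        obtain ⟨p, -, hp⟩ := h
        exact hWp1 _ w hp
    obtain ⟨g, hgq, hg⟩ := local_claim s hs π hπ q W hW
      (fun p hp x hx => by
        obtain ⟨t, ht1, ht2⟩ := hWp2 p.asIdeal x hx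
        exact ⟨t, ht1, Submodule.span_mono (hsubp p hp) ht2⟩)
      (fun x hx => by
        obtain ⟨t, ht1, ht2⟩ := hWp2 (q.comap (algebraMap R S)) x hx
        exact ⟨t, ht1, Submodule.span_mono hsub0 ht2⟩)
    exact hgq (hq (Ideal.subset_span ⟨W, hW, hg⟩))
  -- finitely many good `g` generate the unit ideal
  obtain ⟨G, hGsub, hG⟩ := (Ideal.span_eq_top_iff_finite Good).1 htop
  have hGW : ∀ g : G, ∃ W : Finset F, (∀ w ∈ W, π w = 0) ∧
      ∀ x, π x = 0 → ∃ N : ℕ, (g : S) ^ N • x ∈ Submodule.span S (W : Set F) :=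
    fun g => hGsub g.2
  choose Wg hWg1 hWg2 using hGW
  let W : Finset F := G.attach.biUnion Wg
  have hWle : Submodule.span S (W : Set F) ≤ LinearMap.ker π := by
    rw [Submodule.span_le]
    intro w hw
    obtain ⟨g, -, hg⟩ := Finset.mem_biUnion.1 (Finset.mem_coe.1 hw)
    exact hWg1 g w hg
  refine ⟨W, le_antisymm hWle ?_⟩
  intro x hx
  have hx0 : π x = 0 := hx
  choose Ng hNg using fun g : G => hWg2 g x hx0
  let N : ℕ := Finset.univ.sup Ng
  have hpow : ∀ g : G, (g : S) ^ N • x ∈ Submodule.span S (W : Set F) := by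
    intro g
    have hle : Ng g ≤ N := Finset.le_sup (f := Ng) (Finset.mem_univ g)
    have : (g : S) ^ N • x = (g : S) ^ (N - Ng g) • ((g : S) ^ Ng g • x) := by
      rw [← mul_smul, ← pow_add, Nat.sub_add_cancel hle]
    rw [this]
    refine Submodule.smul_mem _ _ (Submodule.span_mono ?_ (hNg g))
    intro w hw
    exact Finset.mem_coe.2 (Finset.mem_biUnion.2 ⟨g, Finset.mem_attach _ _, Finset.mem_coe.1 hw⟩)
  have h1 : Ideal.span ((fun g : S => g ^ N) '' (G : Set S)) = ⊤ :=
    Ideal.span_pow_eq_top _ hG N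
  have h2 : (1 : S) ∈ Ideal.span ((fun g : S => g ^ N) '' (G : Set S)) := by
    rw [h1]; exact Submodule.mem_top
  -- the colon ideal of x into span W contains all g^N
  let C : Ideal S := (Submodule.span S (W : Set F)).colon {x}
  have hC : Ideal.span ((fun g : S => g ^ N) '' (G : Set S)) ≤ C := by
    rw [Ideal.span_le]
    rintro _ ⟨g, hg, rfl⟩
    change g ^ N ∈ (Submodule.span S (W : Set F)).colon {x}
    rw [Submodule.mem_colon_singleton]
    exact hpow ⟨g, hg⟩
  have h3 := hC h2
  change (1 : S) ∈ (Submodule.span S (W : Set F)).colon {x} at h3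
  rw [Submodule.mem_colon_singleton, one_smul] at h3
  exact h3

end Groth.Agent.Helper27.Lfp
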