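import Mathlib
import Groth.Agent.Lib.Helper27.LfpB

/-!
# Flat + locally finitely presented ⇒ finitely presented (helper27), part C: algebras
-/

set_option autoImplicit false

universe u

open TensorProduct Function MvPolynomial

namespace Groth.Agent.Helper27.Lfp

attribute [local instance] MvPolynomial.algebraMvPolynomial

section

variable {R S : Type u} [CommRing R] [CommRing S] [Algebra R S] {n : ℕ}
  (φ : MvPolynomial (Fin n) R →ₐ[R] S) (hφ : Surjective φ) (p : Ideal R) [p.IsPrime]

/-- the localized presentation -/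
noncomputable def psi : MvPolynomial (Fin n) (Localization.AtPrime p) →ₐ[Localization.AtPrime p]
    Localization (Algebra.algebraMapSubmonoid S p.primeCompl) :=
  MvPolynomial.aeval fun i =>
    algebraMap S (Localization (Algebra.algebraMapSubmonoid S p.primeCompl)) (φ (X i))

theorem psi_map (x : MvPolynomial (Fin n) R) :
    psi φ p (MvPolynomial.map (algebraMap R (Localization.AtPrime p)) x) =
      algebraMap S (Localization (Algebra.algebraMapSubmonoid S p.primeCompl)) (φ x) := by
  have h : ((psi φ p).toRingHom.comp (MvPolynomial.map (algebraMap R (Localization.AtPrime p)))) =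
      (algebraMap S (Localization (Algebra.algebraMapSubmonoid S p.primeCompl))).comp
        φ.toRingHom := by
    apply MvPolynomial.ringHom_ext
    · intro r
      simp only [RingHom.comp_apply, MvPolynomial.map_C, AlgHom.toRingHom_eq_coe, RingHom.coe_coe]
      rw [psi, MvPolynomial.aeval_C, ← MvPolynomial.algebraMap_eq, AlgHom.commutes,
        ← IsScalarTower.algebraMap_apply, ← IsScalarTower.algebraMap_apply]
    · intro i
      simp only [RingHom.comp_apply, MvPolynomial.map_X, AlgHom.toRingHom_eq_coe, RingHom.coe_coe]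
      rw [psi, MvPolynomial.aeval_X]
  exact congrArg (fun f => f x) h

include hφ in
theorem psi_surjective : Surjective (psi φ p) := by
  intro y
  obtain ⟨⟨a, ⟨_, t0, ht0, rfl⟩⟩, rfl⟩ := IsLocalization.mk'_surjective
    (Algebra.algebraMapSubmonoid S p.primeCompl) y
  obtain ⟨x, rfl⟩ := hφ a
  refine ⟨C (IsLocalization.mk' (Localization.AtPrime p) (1 : R) (⟨t0, ht0⟩ : p.primeCompl)) *
    MvPolynomial.map (algebraMap R (Localization.AtPrime p)) x, ?_⟩
  rw [map_mul, psi_map, IsLocalization.eq_mk'_iff_mul_eq]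
  simp only
  rw [mul_comm, ← mul_assoc]
  have h1 : algebraMap S (Localization (Algebra.algebraMapSubmonoid S p.primeCompl))
      (algebraMap R S t0) * psi φ p (C (IsLocalization.mk' (Localization.AtPrime p) (1 : R)
        (⟨t0, ht0⟩ : p.primeCompl))) = 1 := by
    rw [psi, MvPolynomial.aeval_C, ← IsScalarTower.algebraMap_apply,
      IsScalarTower.algebraMap_apply R (Localization.AtPrime p), ← map_mul,
      IsLocalization.mk'_spec'_mk, map_one, map_one]
  rw [h1, one_mul]

include hφ in
theorem exists_finset_of_localization_fp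
    (h : Algebra.FinitePresentation (Localization.AtPrime p)
      (Localization (Algebra.algebraMapSubmonoid S p.primeCompl))) :
    ∃ W : Finset (MvPolynomial (Fin n) R), (∀ w ∈ W, φ w = 0) ∧
      ∀ x, φ x = 0 → ∃ t : R, t ∉ p ∧ C t * x ∈ Ideal.span (W : Set (MvPolynomial (Fin n) R)) := by
  classical
  let Rp := Localization.AtPrime p
  let P := MvPolynomial (Fin n) R
  let Pp := MvPolynomial (Fin n) Rp
  let T : Submonoid P := p.primeCompl.map (C (σ := Fin n))
  haveI : IsLocalization T Pp := MvPolynomial.isLocalization p.primeCompl Rp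
  have hfg : (RingHom.ker (psi φ p).toRingHom).FG :=
    Algebra.FinitePresentation.ker_fG_of_surjective (psi φ p) (psi_surjective φ hφ p)
  let I : Ideal P := RingHom.ker φ.toRingHom
  have hI : ∀ x, x ∈ I ↔ φ x = 0 := fun x => Iff.rfl
  have hT : ∀ m ∈ T, ∃ t : R, t ∉ p ∧ m = C t := by
    rintro m ⟨t, ht, rfl⟩
    exact ⟨t, ht, rfl⟩
  -- ker ψ = I Pp
  have hker : RingHom.ker (psi φ p).toRingHom = Ideal.map (algebraMap P Pp) I := by
    apply le_antisymm
    · intro y hy
      have hy0 : psi φ p y = 0 := hy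
      obtain ⟨⟨a, m⟩, ha⟩ := IsLocalization.surj T y
      obtain ⟨t, htp, hmt⟩ := hT m.1 m.2
      have h1 : algebraMap S (Localization (Algebra.algebraMapSubmonoid S p.primeCompl)) (φ a)
          = 0 := by
        rw [← psi_map, ← MvPolynomial.algebraMap_def, ← ha, map_mul, hy0, zero_mul]
      obtain ⟨⟨_, u, hu, rfl⟩, hc⟩ := (IsLocalization.map_eq_zero_iff
        (Algebra.algebraMapSubmonoid S p.primeCompl) _ _).1 h1
      have h2 : C u * a ∈ I := by
        rw [hI, map_mul, ← MvPolynomial.algebraMap_eq, AlgHom.commutes]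
        exact hc
      rw [IsLocalization.mem_map_algebraMap_iff T]
      refine ⟨⟨⟨C u * a, h2⟩, ⟨C u * m.1, T.mul_mem ⟨u, hu, rfl⟩ m.2⟩⟩, ?_⟩
      simp only
      rw [map_mul, map_mul, ← ha]
      ring
    · rw [Ideal.map_le_iff_le_comap]
      intro x hx
      change psi φ p (algebraMap P Pp x) = 0
      rw [MvPolynomial.algebraMap_def, psi_map, (hI x).1 hx, map_zero]
  rw [hker] at hfg
  obtain ⟨G, hG⟩ := hfg
  have hGmem : ∀ y ∈ G, ∃ x : I × T, y * algebraMap P Pp x.2 = algebraMap P Pp x.1 := by
    intro y hy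
    have : y ∈ Ideal.map (algebraMap P Pp) I := by
      rw [← hG]; exact Ideal.subset_span hy
    exact (IsLocalization.mem_map_algebraMap_iff T Pp).1 this
  choose! w hw using hGmem
  let W : Finset P := G.image fun y => ((w y).1 : P)
  refine ⟨W, ?_, ?_⟩
  · intro v hv
    obtain ⟨y, -, rfl⟩ := Finset.mem_image.1 hv
    exact (hI _).1 (w y).1.2
  · intro x hx
    have hx1 : algebraMap P Pp x ∈ Ideal.map (algebraMap P Pp) I := Ideal.mem_map_of_mem _ ((hI x).2 hx)
    have hle : Ideal.map (algebraMap P Pp) I ≤ Ideal.map (algebraMap P Pp) (Ideal.span (W : Set P)) := by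
      rw [← hG, Ideal.span_le]
      intro y hy
      rw [SetLike.mem_coe, IsLocalization.mem_map_algebraMap_iff T]
      exact ⟨⟨⟨(w y).1, Ideal.subset_span (Finset.mem_coe.2 (Finset.mem_image_of_mem _ hy))⟩,
        (w y).2⟩, hw y hy⟩
    obtain ⟨⟨a, m⟩, ham⟩ := (IsLocalization.mem_map_algebraMap_iff T Pp).1 (hle hx1)
    simp only at ham
    rw [← map_mul] at ham
    obtain ⟨c, hc⟩ := (IsLocalization.eq_iff_exists T Pp).1 ham
    obtain ⟨t1, ht1, hm1⟩ := hT m.1 m.2
    obtain ⟨t2, ht2, hm2⟩ := hT c.1 c.2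
    refine ⟨t2 * t1, p.primeCompl.mul_mem ht2 ht1, ?_⟩
    have : C (t2 * t1) * x = (c : P) * (a : P) := by
      rw [← hc, hm1, hm2, map_mul]
      ring
    rw [this]
    exact Ideal.mul_mem_left _ _ a.2

end

end Groth.Agent.Helper27.Lfp
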