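import Mathlib
import Groth.Agent.Lib.Helper27.LocC
import Groth.Prelude.Def_W4bk4goldsch45

set_option autoImplicit false

namespace Groth.Agent.Helper27.Loc

open PowerSeries WithZero FunFld
open Groth.Agent.Helper16.FF Groth.Agent.Helper27.Hasse Groth.Agent.Helper27.Expn

variable {k K : Type*} [Field k] [Field K] [Algebra k K]

/-- The subalgebra `k + m_P^2`. -/
def Bsub (P : Place k K) : Subalgebra k K where
  carrier := {z | ∃ c : k, P.1 (z - algebraMap k K c) ≤ exp (-2)}
  mul_mem' := by
    rintro a b ⟨c, hc⟩ ⟨d, hd⟩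
    refine ⟨c * d, ?_⟩
    have : a * b - algebraMap k K (c * d) =
        (a - algebraMap k K c) * b + algebraMap k K c * (b - algebraMap k K d) := by
      rw [map_mul]; ring
    rw [this]
    have hb : P.1 b ≤ 1 := by
      have : b = (b - algebraMap k K d) + algebraMap k K d := by ring
      rw [this]
      exact Valuation.map_add_le _ (le_trans hd (by rw [← exp_zero, exp_le_exp]; norm_num))
        (P.2.1 d)
    apply Valuation.map_add_le
    · rw [map_mul]
      calc P.1 (a - algebraMap k K c) * P.1 b ≤ exp (-2) * 1 := mul_le_mul' hc hb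
        _ = _ := mul_one _
    · rw [map_mul]
      calc P.1 (algebraMap k K c) * P.1 (b - algebraMap k K d) ≤ 1 * exp (-2) :=
            mul_le_mul' (P.2.1 c) hd
        _ = _ := one_mul _
  add_mem' := by
    rintro a b ⟨c, hc⟩ ⟨d, hd⟩
    refine ⟨c + d, ?_⟩
    have : a + b - algebraMap k K (c + d) =
        (a - algebraMap k K c) + (b - algebraMap k K d) := by
      rw [map_add]; ring
    rw [this]
    exact Valuation.map_add_le _ hc hd
  algebraMap_mem' := fun c => ⟨c, by simp⟩

theorem main12617 [IsAlgClosed k] (hK : IsFunctionField k K) (P : Place k K) {n : ℕ} (hn : 0 < n)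
    (φ : Fin (n + 1) → K) (hφ : LinearIndependent k φ)
    (heff : (1 : K) ∈ Submodule.span k (Set.range φ)) (hnorm : ∀ i, P.1 (φ i) ≤ 1)
    (hns : IsNonsingularAt φ P) (t : K) (ht : P.1 t = exp (-1))
    (Ht : K →ₐ[k] K⟦X⟧) (hHt : LocRes.IsHasseFamily t Ht)
    (J' : Fin n → ℕ) (hJ' : IsOrders (IsLocalRing.ResidueField P.O) (hcolAt P Ht φ) J') :
    J' ⟨0, hn⟩ = 1 := by
  have hpos := orders_pos hK P φ hnorm t ht Ht hHt J' hJ'
  have hmain := (main12607 hK P φ hφ heff hnorm t ht Ht hHt J' hJ').2
  -- it suffices to find an element of order one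
  suffices hex : ∃ f ∈ Submodule.span k (Set.range φ), P.1 f = exp (-((1 : ℕ) : ℤ)) by
    rcases (hmain 1).2 hex with h | ⟨l, hl⟩
    · omega
    · have h1 : J' ⟨0, hn⟩ ≤ J' l := hJ'.1.monotone (Fin.mk_le_of_le_val (Nat.zero_le _))
      have := hpos ⟨0, hn⟩
      omega
  by_contra hno
  push Not at hno
  have hspanint : ∀ z ∈ Submodule.span k (Set.range φ), P.1 z ≤ 1 := by
    intro z hz
    obtain ⟨l, rfl⟩ := (Submodule.mem_span_range_iff_exists_fun k).1 hz
    apply Valuation.map_sum_le
    intro i _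
    rw [Algebra.smul_def, map_mul]
    exact mul_le_one' (P.2.1 _) (hnorm i)
  -- every element of the span of positive order has order at least two
  have hkey : ∀ z ∈ Submodule.span k (Set.range φ), P.1 z < 1 → P.1 z ≤ exp (-2) := by
    intro z hz hlt
    rcases eq_or_ne z 0 with rfl | hz0
    · rw [map_zero]; exact zero_le
    have hvz : P.1 z ≠ 0 := (Valuation.ne_zero_iff _).2 hz0
    obtain ⟨a, ha⟩ : ∃ a : ℤ, P.1 z = exp a := ⟨log (P.1 z), (exp_log hvz).symm⟩
    rw [ha, ← exp_zero, exp_lt_exp] at hlt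
    have hne := hno z hz
    rw [ha, Ne, exp_inj] at hne
    rw [ha, exp_le_exp]
    push_cast at hne
    omega
  obtain ⟨j, hj0, hjmax, u, hu, w, hw, hw1, huw⟩ := hns t (by rw [ht, ← exp_zero, exp_le_exp]; norm_num)
  -- φ j is a unit
  have hunit : P.1 (φ j) = 1 := by
    apply le_antisymm (hnorm j)
    obtain ⟨l, hl⟩ := (Submodule.mem_span_range_iff_exists_fun k).1 heff
    have : P.1 (∑ i, l i • φ i) ≤ P.1 (φ j) := by
      apply Valuation.map_sum_le
      intro i _
      rw [Algebra.smul_def, map_mul]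
      calc P.1 (algebraMap k K (l i)) * P.1 (φ i) ≤ 1 * P.1 (φ j) :=
            mul_le_mul' (P.2.1 _) (hjmax i)
        _ = _ := one_mul _
    rwa [hl, map_one] at this
  have hadj : Algebra.adjoin k (Set.range fun i => φ i / φ j) ≤ Bsub P := by
    apply Algebra.adjoin_le
    rintro _ ⟨i, rfl⟩
    have hxi : P.1 (φ i / φ j) ≤ 1 := by
      rw [map_div₀, hunit, div_one]; exact hnorm i
    obtain ⟨c, hc⟩ := exists_const_sub_lt_one hK (Place.deg_eq_one hK P) hxi
    refine ⟨c, ?_⟩
    have h1 : φ i / φ j - algebraMap k K c = (φ i - c • φ j) / φ j := by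
      rw [Algebra.smul_def]; field_simp
    have h2 : φ i - c • φ j ∈ Submodule.span k (Set.range φ) :=
      Submodule.sub_mem _ (Submodule.subset_span ⟨i, rfl⟩)
        (Submodule.smul_mem _ _ (Submodule.subset_span ⟨j, rfl⟩))
    have h3 : P.1 (φ i - c • φ j) < 1 := by
      have := hc
      rw [h1, map_div₀, hunit, div_one] at this
      exact this
    rw [h1, map_div₀, hunit, div_one]
    exact hkey _ h2 h3
  obtain ⟨c, hc⟩ := hadj hu
  -- u = t * w has order one
  have hu1 : P.1 u = exp (-1) := by rw [← huw, map_mul, ht, hw1, mul_one]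
  -- hence c = 0
  have hc0 : c = 0 := by
    by_contra hcne
    have h1 : P.1 (algebraMap k K c) = 1 := Place.val_algebraMap P hcne
    have h2 : P.1 (algebraMap k K c) ≤ exp (-1) := by
      have : algebraMap k K c = u - (u - algebraMap k K c) := by ring
      rw [this]
      exact Valuation.map_sub_le _ hu1.le
        (le_trans hc (by rw [exp_le_exp]; norm_num))
    rw [h1, ← exp_zero, exp_le_exp] at h2
    omega
  rw [hc0, map_zero, sub_zero, hu1, exp_le_exp] at hc
  omega

end Groth.Agent.Helper27.Loc
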