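import Mathlib

set_option autoImplicit false
universe u

namespace Groth.Agent.Helper27.LDc

variable {A : Type u} [CommRing A] {ι : Type} (𝔓 : ι → Ideal A) [∀ i, (𝔓 i).IsPrime]

/-- elements vanishing at all `𝔓 i`, `i ∈ T` -/
noncomputable def vanAt (X : Type u) [AddCommGroup X] [Module A X] (T : Set ι) : Submodule A X :=
  ⨅ i ∈ T, LinearMap.ker (LocalizedModule.mkLinearMap (𝔓 i).primeCompl X)

lemma mem_vanAt {X : Type u} [AddCommGroup X] [Module A X] {T : Set ι} {x : X} :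
    x ∈ vanAt 𝔓 X T ↔ ∀ i ∈ T, ∃ s : A, s ∉ 𝔓 i ∧ s • x = 0 := by
  simp only [vanAt, Submodule.mem_iInf, LinearMap.mem_ker]
  refine forall₂_congr fun i _ => ?_
  rw [IsLocalizedModule.eq_zero_iff (𝔓 i).primeCompl]
  constructor
  · rintro ⟨s, hs⟩
    exact ⟨s.1, s.2, hs⟩
  · rintro ⟨s, hs, h⟩
    exact ⟨⟨s, hs⟩, h⟩

lemma vanAt_inf_compl_le {X : Type u} [AddCommGroup X] [Module A X] (T : Set ι) :
    vanAt 𝔓 X T ⊓ vanAt 𝔓 X Tᶜ ≤ vanAt 𝔓 X Set.univ := by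
  intro x hx
  rw [Submodule.mem_inf, mem_vanAt, mem_vanAt] at hx
  rw [mem_vanAt]
  intro i _
  by_cases hi : i ∈ T
  · exact hx.1 i hi
  · exact hx.2 i hi

lemma map_mem_vanAt {X Y : Type u} [AddCommGroup X] [Module A X] [AddCommGroup Y] [Module A Y]
    (φ : X →ₗ[A] Y) {T : Set ι} {x : X} (hx : x ∈ vanAt 𝔓 X T) : φ x ∈ vanAt 𝔓 Y T := by
  rw [mem_vanAt] at hx ⊢
  intro i hi
  obtain ⟨s, hs, h⟩ := hx i hi
  exact ⟨s, hs, by rw [← map_smul, h, map_zero]⟩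

variable {M : Type u} [AddCommGroup M] [Module A M] (π : A)

/-- `πM` -/
abbrev pM (M : Type u) [AddCommGroup M] [Module A M] : Submodule A M :=
  Ideal.span {π} • (⊤ : Submodule A M)

lemma mem_pM {m : M} : m ∈ pM π M ↔ ∃ n : M, π • n = m := by
  rw [pM, Submodule.ideal_span_singleton_smul, Submodule.mem_smul_pointwise_iff_exists]
  simp

lemma mkQ_eq_zero {m : M} : (pM π M).mkQ m = 0 ↔ ∃ n : M, π • n = m := by
  rw [Submodule.mkQ_apply, Submodule.Quotient.mk_eq_zero, mem_pM]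

theorem main365 (hπ : ∀ m : M, π • m = 0 → m = 0)
    (htf : vanAt 𝔓 (M ⧸ pM π M) Set.univ = ⊥)
    (Y Z : Set ι)
    (hY : vanAt 𝔓 (M ⧸ pM π M) Y ⊔ vanAt 𝔓 (M ⧸ pM π M) Yᶜ = ⊤)
    (NY : Submodule A M) (hNY : NY = (vanAt 𝔓 (M ⧸ pM π M) Y).comap (pM π M).mkQ)
    (hZ : vanAt 𝔓 (↥NY ⧸ pM π ↥NY) Z ⊔ vanAt 𝔓 (↥NY ⧸ pM π ↥NY) Zᶜ = ⊤) :
    vanAt 𝔓 (M ⧸ pM π M) Z ⊔ vanAt 𝔓 (M ⧸ pM π M) Zᶜ = ⊤ := by
  set Q := M ⧸ pM π M
  set q : M →ₗ[A] Q := (pM π M).mkQ with hq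
  set K : Set ι → Submodule A Q := fun T => vanAt 𝔓 Q T with hKdef
  have hinj : ∀ a b : M, π • a = π • b → a = b := by
    intro a b h
    have := hπ (a - b) (by rw [smul_sub, h, sub_self])
    exact sub_eq_zero.mp this
  have hmemNY : ∀ m : M, m ∈ NY ↔ q m ∈ K Y := by
    intro m; rw [hNY]; rfl
  have hdisjY : ∀ x : Q, x ∈ K Y → x ∈ K Yᶜ → x = 0 := by
    intro x h1 h2
    have := vanAt_inf_compl_le 𝔓 Y (Submodule.mem_inf.mpr ⟨h1, h2⟩)
    rw [htf] at this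
    exact (Submodule.mem_bot A).mp this
  have hdisjZ : ∀ x : Q, x ∈ K Z → x ∈ K Zᶜ → x = 0 := by
    intro x h1 h2
    have := vanAt_inf_compl_le 𝔓 Z (Submodule.mem_inf.mpr ⟨h1, h2⟩)
    rw [htf] at this
    exact (Submodule.mem_bot A).mp this
  -- the map N̄ → Q
  have hle : pM π ↥NY ≤ (pM π M).comap NY.subtype := by
    intro x hx
    rw [mem_pM] at hx
    obtain ⟨n, rfl⟩ := hx
    rw [Submodule.mem_comap, map_smul, mem_pM]
    exact ⟨_, rfl⟩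
  set Φ : (↥NY ⧸ pM π ↥NY) →ₗ[A] Q := Submodule.mapQ _ _ NY.subtype hle with hΦ
  have hΦmk : ∀ n : ↥NY, Φ ((pM π ↥NY).mkQ n) = q n.1 := by
    intro n; rfl
  have hΦY : ∀ x, Φ x ∈ K Y := by
    intro x
    obtain ⟨n, rfl⟩ := Submodule.mkQ_surjective _ x
    rw [hΦmk]
    exact (hmemNY _).mp n.2
  rw [eq_top_iff]
  intro x _
  have hx : x ∈ K Y ⊔ K Yᶜ := by rw [hY]; trivial
  obtain ⟨y, hy, y', hy', rfl⟩ := Submodule.mem_sup.mp hx
  refine Submodule.add_mem _ ?_ ?_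
  · -- Part A
    obtain ⟨n, rfl⟩ := Submodule.mkQ_surjective _ y
    have hn : n ∈ NY := (hmemNY n).mpr hy
    have hdec : (pM π ↥NY).mkQ ⟨n, hn⟩ ∈ vanAt 𝔓 (↥NY ⧸ pM π ↥NY) Z ⊔ vanAt 𝔓 (↥NY ⧸ pM π ↥NY) Zᶜ := by
      rw [hZ]; trivial
    obtain ⟨α, hα, β, hβ, hab⟩ := Submodule.mem_sup.mp hdec
    have : q n = Φ α + Φ β := by
      rw [← map_add, hab, hΦmk]
    change q n ∈ _
    rw [this]
    exact Submodule.add_mem _ (Submodule.mem_sup_left (map_mem_vanAt 𝔓 Φ hα))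
      (Submodule.mem_sup_right (map_mem_vanAt 𝔓 Φ hβ))
  · -- Part B
    obtain ⟨m, rfl⟩ := Submodule.mkQ_surjective _ y'
    change q m ∈ K Yᶜ at hy'
    have hπm : π • m ∈ NY := by
      rw [hmemNY]
      have : q (π • m) = 0 := (mkQ_eq_zero π).mpr ⟨m, rfl⟩
      rw [this]; exact Submodule.zero_mem _
    have hdec : (pM π ↥NY).mkQ ⟨π • m, hπm⟩ ∈ vanAt 𝔓 (↥NY ⧸ pM π ↥NY) Z ⊔ vanAt 𝔓 (↥NY ⧸ pM π ↥NY) Zᶜ := by
      rw [hZ]; trivial
    obtain ⟨α, hα, β, hβ, hab⟩ := Submodule.mem_sup.mp hdec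
    obtain ⟨a, rfl⟩ := Submodule.mkQ_surjective _ α
    obtain ⟨b, rfl⟩ := Submodule.mkQ_surjective _ β
    -- w - a - b ∈ πN
    have h1 : (pM π ↥NY).mkQ (⟨π • m, hπm⟩ - a - b) = 0 := by
      rw [map_sub, map_sub, ← hab]; abel
    obtain ⟨n, hn⟩ := (mkQ_eq_zero π).mp h1
    have h2 : π • m = a.1 + b.1 + π • n.1 := by
      have := congrArg Subtype.val hn
      simp only [Submodule.coe_smul, Submodule.coe_sub] at this
      rw [this]; abel
    have hsum : Φ ((pM π ↥NY).mkQ a) + Φ ((pM π ↥NY).mkQ b) = 0 := by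
      rw [hΦmk, hΦmk, ← map_add]
      have : a.1 + b.1 = π • (m - n.1) := by rw [smul_sub, h2]; abel
      rw [this]
      exact (mkQ_eq_zero π).mpr ⟨_, rfl⟩
    have hΦa : Φ ((pM π ↥NY).mkQ a) = 0 := by
      apply hdisjZ _ (map_mem_vanAt 𝔓 Φ hα)
      have : Φ ((pM π ↥NY).mkQ a) = - Φ ((pM π ↥NY).mkQ b) := eq_neg_of_add_eq_zero_left hsum
      rw [this]
      exact Submodule.neg_mem _ (map_mem_vanAt 𝔓 Φ hβ)
    have hΦb : Φ ((pM π ↥NY).mkQ b) = 0 := by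
      rw [hΦa, zero_add] at hsum; exact hsum
    rw [hΦmk] at hΦa hΦb
    obtain ⟨a', ha'⟩ := (mkQ_eq_zero π).mp hΦa
    obtain ⟨b', hb'⟩ := (mkQ_eq_zero π).mp hΦb
    have hm : m = a' + b' + n.1 := by
      apply hinj
      rw [h2, smul_add, smul_add, ha', hb']
    -- key claim
    have key : ∀ (T : Set ι) (c : ↥NY) (c' : M), π • c' = c.1 →
        (pM π ↥NY).mkQ c ∈ vanAt 𝔓 (↥NY ⧸ pM π ↥NY) T →
        ∃ u ∈ K Y, ∃ u' ∈ K Yᶜ, u' ∈ K T ∧ q c' = u + u' := by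
      intro T c c' hc hvan
      have hx : q c' ∈ K Y ⊔ K Yᶜ := by rw [hY]; trivial
      obtain ⟨u, hu, u', hu', huu⟩ := Submodule.mem_sup.mp hx
      refine ⟨u, hu, u', hu', ?_, huu.symm⟩
      rw [hKdef]
      simp only
      rw [mem_vanAt]
      intro i hi
      obtain ⟨s, hs, hs0⟩ := (mem_vanAt 𝔓).mp hvan i hi
      refine ⟨s, hs, ?_⟩
      rw [← map_smul] at hs0
      obtain ⟨n₁, hn₁⟩ := (mkQ_eq_zero π).mp hs0
      have h3 : s • c' = n₁.1 := by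
        apply hinj
        have := congrArg Subtype.val hn₁
        simp only [Submodule.coe_smul] at this
        rw [this, smul_comm, hc]
      have h4 : s • q c' ∈ K Y := by
        rw [← map_smul, h3]; exact (hmemNY _).mp n₁.2
      apply hdisjY
      · have : s • u' = s • q c' - s • u := by rw [← huu]; simp
        rw [this]
        exact Submodule.sub_mem _ h4 (Submodule.smul_mem _ _ hu)
      · exact Submodule.smul_mem _ _ hu'
    obtain ⟨u, hu, u', hu', huZ, hqa⟩ := key Z a a' ha' hα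
    obtain ⟨v, hv, v', hv', hvZ, hqb⟩ := key Zᶜ b b' hb' hβ
    have hqn : q n.1 ∈ K Y := (hmemNY _).mp n.2
    have hfin : q m = u' + v' := by
      have e : q m = (u + v + q n.1) + (u' + v') := by
        rw [hm, map_add, map_add, hqa, hqb]; abel
      have hz : u + v + q n.1 = 0 := by
        apply hdisjY
        · exact Submodule.add_mem _ (Submodule.add_mem _ hu hv) hqn
        · have : u + v + q n.1 = q m - (u' + v') := by rw [e]; abel
          rw [this]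
          exact Submodule.sub_mem _ hy' (Submodule.add_mem _ hu' hv')
      rw [e, hz, zero_add]
    change q m ∈ _
    rw [hfin]
    exact Submodule.add_mem _ (Submodule.mem_sup_left huZ) (Submodule.mem_sup_right hvZ)


lemma exists_mul_pow_mem (I : Ideal A) (q : Ideal A) [q.IsPrime] (hq : q ∈ I.minimalPrimes) {s : A}
    (hs : s ∈ q) : ∃ u : A, u ∉ q ∧ ∃ k : ℕ, u * s ^ k ∈ I := by
  have h := IsLocalization.AtPrime.radical_map_of_mem_minimalPrimes (A := Localization.AtPrime q) q I hq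
  have h1 : algebraMap A (Localization.AtPrime q) s ∈ (I.map (algebraMap A (Localization.AtPrime q))).radical := by
    rw [h]; exact Ideal.mem_map_of_mem _ hs
  obtain ⟨k, hk⟩ := h1
  rw [← map_pow, IsLocalization.mem_map_algebraMap_iff q.primeCompl] at hk
  obtain ⟨⟨a, t⟩, hat⟩ := hk
  simp only at hat
  rw [← map_mul] at hat
  obtain ⟨c, hc⟩ := (IsLocalization.eq_iff_exists q.primeCompl _).mp hat
  refine ⟨c.1 * t.1, ?_, k, ?_⟩
  · exact (c * t).2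
  · have : c.1 * t.1 * s ^ k = c.1 * (s ^ k * t.1) := by ring
    rw [this, hc]
    exact I.mul_mem_left _ a.2

theorem main364 [Finite ι] (h𝔓 : ∀ i, 𝔓 i ∈ (Ideal.span {π}).minimalPrimes) (h𝔓inj : Function.Injective 𝔓)
    (htf : vanAt 𝔓 (M ⧸ pM π M) Set.univ = ⊥)
    (Y : Set ι)
    (NY NYc : Submodule A M) (hNY : NY = (vanAt 𝔓 (M ⧸ pM π M) Y).comap (pM π M).mkQ)
    (hNYc : NYc = (vanAt 𝔓 (M ⧸ pM π M) Yᶜ).comap (pM π M).mkQ) :
    NY ⊓ NYc = pM π M ∧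
    Submodule.map NY.subtype ((vanAt 𝔓 (↥NY ⧸ pM π ↥NY) Yᶜ).comap (pM π ↥NY).mkQ) = NY ⊓ NYc := by
  classical
  haveI := Fintype.ofFinite ι
  set Q := M ⧸ pM π M
  set q : M →ₗ[A] Q := (pM π M).mkQ with hq
  have hmemNY : ∀ m : M, m ∈ NY ↔ q m ∈ vanAt 𝔓 Q Y := by
    intro m; rw [hNY]; rfl
  have hmemNYc : ∀ m : M, m ∈ NYc ↔ q m ∈ vanAt 𝔓 Q Yᶜ := by
    intro m; rw [hNYc]; rfl
  have part1 : NY ⊓ NYc = pM π M := by
    apply le_antisymm
    · intro m hm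
      rw [Submodule.mem_inf, hmemNY, hmemNYc] at hm
      have := vanAt_inf_compl_le 𝔓 Y (Submodule.mem_inf.mpr hm)
      rw [htf, Submodule.mem_bot] at this
      exact (Submodule.Quotient.mk_eq_zero _).mp this
    · intro m hm
      have : q m = 0 := (Submodule.Quotient.mk_eq_zero _).mpr hm
      rw [Submodule.mem_inf, hmemNY, hmemNYc, this]
      exact ⟨Submodule.zero_mem _, Submodule.zero_mem _⟩
  refine ⟨part1, ?_⟩
  have hle : pM π ↥NY ≤ (pM π M).comap NY.subtype := by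
    intro x hx
    rw [mem_pM] at hx
    obtain ⟨n, rfl⟩ := hx
    rw [Submodule.mem_comap, map_smul, mem_pM]
    exact ⟨_, rfl⟩
  set Φ : (↥NY ⧸ pM π ↥NY) →ₗ[A] Q := Submodule.mapQ _ _ NY.subtype hle with hΦ
  have hΦmk : ∀ n : ↥NY, Φ ((pM π ↥NY).mkQ n) = q n.1 := by
    intro n; rfl
  -- π kills Q
  have hπQ : ∀ (a : A) (x : Q), a ∈ Ideal.span {π} → a • x = 0 := by
    intro a x ha
    obtain ⟨m, rfl⟩ := Submodule.mkQ_surjective _ x
    rw [← map_smul]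
    exact (Submodule.Quotient.mk_eq_zero _).mpr (Submodule.smul_mem_smul ha Submodule.mem_top)
  -- key: for i ∉ Y and x : Q there is s ∉ 𝔓 i with s • x ∈ vanAt Y
  have key : ∀ i, i ∉ Y → ∀ x : Q, ∃ s : A, s ∉ 𝔓 i ∧ s • x ∈ vanAt 𝔓 Q Y := by
    intro i hi x
    have hj : ∀ j : ι, ∃ t : A, t ∉ 𝔓 i ∧ (j ∈ Y → ∃ u : A, u ∉ 𝔓 j ∧ u * t ∈ Ideal.span {π}) := by
      intro j
      by_cases hjY : j ∈ Y
      · have hne : ¬ (𝔓 j ≤ 𝔓 i) := by
          intro hle'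
          have : 𝔓 i ≤ 𝔓 j := (h𝔓 i).2 ⟨inferInstance, (h𝔓 j).1.2⟩ hle'
          have hij : 𝔓 i = 𝔓 j := le_antisymm this hle'
          exact hi (h𝔓inj hij ▸ hjY)
        obtain ⟨s, hsj, hsi⟩ := SetLike.not_le_iff_exists.mp hne
        obtain ⟨u, hu, k, hk⟩ := exists_mul_pow_mem (Ideal.span {π}) (𝔓 j) (h𝔓 j) hsj
        refine ⟨s ^ k, ?_, fun _ => ⟨u, hu, hk⟩⟩
        intro h
        exact hsi (Ideal.IsPrime.mem_of_pow_mem inferInstance k h)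
      · exact ⟨1, (Ideal.ne_top_iff_one _).mp (Ideal.IsPrime.ne_top inferInstance), fun h => (hjY h).elim⟩
    choose t ht1 ht2 using hj
    refine ⟨∏ j, t j, ?_, ?_⟩
    · intro h
      obtain ⟨j, _, hj'⟩ := (Ideal.IsPrime.prod_mem_iff (p := 𝔓 i)).mp h
      exact ht1 j hj'
    · rw [mem_vanAt]
      intro j hjY
      obtain ⟨u, hu, hut⟩ := ht2 j hjY
      refine ⟨u, hu, ?_⟩
      rw [← mul_smul, ← Finset.mul_prod_erase Finset.univ t (Finset.mem_univ j), ← mul_assoc]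
      apply hπQ
      exact Ideal.mul_mem_right _ _ hut
  apply le_antisymm
  · rintro x ⟨n, hn, rfl⟩
    rw [SetLike.mem_coe, Submodule.mem_comap] at hn
    rw [Submodule.mem_inf]
    refine ⟨n.2, ?_⟩
    rw [hmemNYc]
    have := map_mem_vanAt 𝔓 Φ hn
    rwa [hΦmk] at this
  · intro x hx
    have hxN : x ∈ NY := (Submodule.mem_inf.mp hx).1
    rw [part1, mem_pM] at hx
    obtain ⟨m, rfl⟩ := hx
    refine ⟨⟨π • m, hxN⟩, ?_, rfl⟩
    rw [SetLike.mem_coe, Submodule.mem_comap, mem_vanAt]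
    intro i hi
    obtain ⟨s, hs, hsm⟩ := key i hi (q m)
    refine ⟨s, hs, ?_⟩
    rw [← map_smul] at hsm ⊢
    have hsmN : s • m ∈ NY := (hmemNY _).mpr hsm
    rw [mkQ_eq_zero]
    refine ⟨⟨s • m, hsmN⟩, ?_⟩
    ext
    simp only [Submodule.coe_smul]
    rw [smul_comm]

end Groth.Agent.Helper27.LDc
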