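import Mathlib
import Groth.Agent.Lib.Helper27.LocC
import Groth.Agent.Lib.Helper16.FF.Gap2
import Groth.Agent.Lib.Helper16.FF.RR

set_option autoImplicit false

namespace Groth.Agent.Helper27.Loc

open PowerSeries FunFld
open Groth.Agent.Helper16.FF Groth.Agent.Helper27.Hasse Groth.Agent.Helper27.Expn

variable {k K : Type*} [Field k] [Field K] [Algebra k K]

theorem exists_val_eq_iff_isGap [IsAlgClosed k] (hK : IsFunctionField k K) {C : Divisor k K}
    (hC : IsCanonical k K C) (P : Place k K) (m : ℕ) :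
    (∃ g ∈ L C, P.1 g = WithZero.exp (C P - (m : ℤ))) ↔ IsGap P (m + 1) := by
  classical
  have hP : P.deg = 1 := Place.deg_eq_one hK P
  set D₁ : Divisor k K := C - Finsupp.single P (((m + 1 : ℕ) : ℤ)) with hD₁
  set D₂ : Divisor k K := C - Finsupp.single P ((m : ℤ)) with hD₂
  have hle : D₁ ≤ D₂ := by
    intro Q
    rw [hD₁, hD₂, Finsupp.sub_apply, Finsupp.sub_apply, Finsupp.single_apply, Finsupp.single_apply]
    split_ifs <;> push_cast <;> omega
  have hD₂C : D₂ ≤ C := by
    intro Q
    rw [hD₂, Finsupp.sub_apply, Finsupp.single_apply]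
    split_ifs <;> omega
  have hD₁P : D₁ P = C P - (m : ℤ) - 1 := by
    rw [hD₁, Finsupp.sub_apply, Finsupp.single_eq_same]; push_cast; ring
  have hD₂P : D₂ P = C P - (m : ℤ) := by
    rw [hD₂, Finsupp.sub_apply, Finsupp.single_eq_same]
  have hD₁Q : ∀ Q, Q ≠ P → D₁ Q = C Q := fun Q hQ => by
    rw [hD₁, Finsupp.sub_apply, single_apply_ne hQ, sub_zero]
  have hD₂Q : ∀ Q, Q ≠ P → D₂ Q = C Q := fun Q hQ => by
    rw [hD₂, Finsupp.sub_apply, single_apply_ne hQ, sub_zero]
  -- step 1: existence iff L D₁ ≠ L D₂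
  have hstep1 : (∃ g ∈ L C, P.1 g = WithZero.exp (C P - (m : ℤ))) ↔ ¬ L D₂ ≤ L D₁ := by
    constructor
    · rintro ⟨g, hg, hgP⟩ hle'
      have hg2 : g ∈ L D₂ := by
        rw [mem_L]
        intro Q
        by_cases hQ : Q = P
        · subst hQ; rw [hD₂P, hgP]
        · rw [hD₂Q Q hQ]; exact hg Q
      have := hle' hg2 P
      rw [hD₁P, hgP, WithZero.exp_le_exp] at this
      omega
    · intro hnle
      obtain ⟨g, hg2, hg1⟩ := SetLike.not_le_iff_exists.1 hnle
      refine ⟨g, L_mono hD₂C hg2, ?_⟩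
      rw [mem_L] at hg1
      push Not at hg1
      obtain ⟨Q, hQ⟩ := hg1
      have hQP : Q = P := by
        by_contra hne
        rw [hD₁Q Q hne] at hQ
        have := hg2 Q
        rw [hD₂Q Q hne] at this
        exact absurd this (not_le.2 hQ)
      subst hQP
      have h1 := hg2 Q
      rw [hD₂P] at h1
      rw [hD₁P] at hQ
      apply le_antisymm h1
      by_contra hlt
      push Not at hlt
      have : Q.1 g ≤ WithZero.exp (C Q - (m : ℤ) - 1) := by
        rw [← lt_exp_succ_iff]; simpa using hlt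
      exact absurd this (not_le.2 hQ)
  rw [hstep1]
  -- step 2: dimension count
  have hfd := finiteDimensional_L hK D₂
  have hrr1 := riemann_roch hK hC (Finsupp.single P ((m : ℤ)))
  have hrr2 := riemann_roch hK hC (Finsupp.single P (((m + 1 : ℕ) : ℤ)))
  rw [Divisor.deg_single, hP, ← hD₂] at hrr1
  rw [Divisor.deg_single, hP, ← hD₁] at hrr2
  have hgs := ell_single_succ hK hP m
  have hmono := ell_mono hK hle
  generalize ell (Finsupp.single P ((m : ℤ)) : Divisor k K) = a1 at hrr1 hgs
  generalize ell (Finsupp.single P (((m + 1 : ℕ) : ℤ)) : Divisor k K) = a2 at hrr2 hgs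
  have hell1 : ell D₁ = Module.finrank k (L D₁) := rfl
  have hell2 : ell D₂ = Module.finrank k (L D₂) := rfl
  generalize hb1 : ell D₁ = b1 at hrr2 hmono hell1
  generalize hb2 : ell D₂ = b2 at hrr1 hmono hell2
  generalize genus k K = gg at hrr1 hrr2
  push_cast at hrr1 hrr2
  constructor
  · intro hnle
    by_contra hng
    rw [if_neg hng] at hgs
    have heq : b1 = b2 := by omega
    apply hnle
    have : L D₁ = L D₂ :=
      Submodule.eq_of_le_of_finrank_eq (L_mono hle) (by rw [← hell1, ← hell2, heq])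
    rw [this]
  · intro hgap hle'
    rw [if_pos hgap] at hgs
    have heq : L D₁ = L D₂ := le_antisymm (L_mono hle) hle'
    have heq' : b1 = b2 := by rw [hell1, hell2, heq]
    omega

theorem main12609 [IsAlgClosed k] (hK : IsFunctionField k K) (C : Divisor k K)
    (hC : IsCanonical k K C) {n : ℕ} (φ : Fin (n + 1) → K) (hφ : LinearIndependent k φ)
    (hspan : Submodule.span k (Set.range φ) = L C)
    (P : Place k K) (y : K) (hy : y ≠ 0)
    (heff : (1 : K) ∈ Submodule.span k (Set.range (y • φ))) (hnorm : ∀ i, P.1 (y * φ i) ≤ 1)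
    (t : K) (ht : P.1 t = WithZero.exp (-1))
    (Ht : K →ₐ[k] K⟦X⟧) (hHt : LocRes.IsHasseFamily t Ht) (j : ℕ) (hj : 1 ≤ j) :
    IsJump (IsLocalRing.ResidueField P.O) (hcolAt P Ht (y • φ)) (j + 1) ↔
      L (Finsupp.single P ((j : ℤ) + 1)) = L (Finsupp.single P (j : ℤ)) := by
  classical
  have hP : P.deg = 1 := Place.deg_eq_one hK P
  -- membership in the scaled span
  have hmem : ∀ f : K, f ∈ Submodule.span k (Set.range (y • φ)) ↔ ∃ g ∈ L C, f = y * g := by
    intro f
    rw [← hspan]
    constructor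
    · intro hf
      obtain ⟨c, rfl⟩ := (Submodule.mem_span_range_iff_exists_fun k).1 hf
      refine ⟨∑ i, c i • φ i, Submodule.sum_mem _ fun i _ =>
        Submodule.smul_mem _ _ (Submodule.subset_span ⟨i, rfl⟩), ?_⟩
      rw [Finset.mul_sum]
      refine Finset.sum_congr rfl fun i _ => ?_
      simp only [Pi.smul_apply, smul_eq_mul, Algebra.smul_def]; ring
    · rintro ⟨g, hg, rfl⟩
      obtain ⟨c, rfl⟩ := (Submodule.mem_span_range_iff_exists_fun k).1 hg
      rw [Finset.mul_sum]
      refine Submodule.sum_mem _ fun i _ => ?_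
      have : y * c i • φ i = c i • (y • φ) i := by
        simp only [Pi.smul_apply, smul_eq_mul, Algebra.smul_def]; ring
      rw [this]
      exact Submodule.smul_mem _ _ (Submodule.subset_span ⟨i, rfl⟩)
  -- genus at least one, hence 1 is a gap
  have hgen : 1 ≤ genus k K := by
    have h1 := (canonical_ell_deg hK hC).1
    have h2 : ell C = n + 1 := by
      unfold ell
      rw [← hspan, finrank_span_eq_card hφ]; simp
    omega
  have hgap1 : IsGap P 1 := by
    have := le_gapCount hK hP 1 le_rfl hgen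
    unfold gapCount at this
    by_contra hng
    have hempty : (Finset.Icc 1 (2 * 1 - 1)).filter (IsGap P) = ∅ := by
      classical
      rw [Finset.filter_eq_empty_iff]
      intro m hm
      rw [Finset.mem_Icc] at hm
      have : m = 1 := by omega
      rw [this]; exact hng
    rw [hempty, Finset.card_empty] at this
    omega
  -- the value of y at P
  have hyP : P.1 y = WithZero.exp (-(C P)) := by
    obtain ⟨g0, hg0, hg0P⟩ := (exists_val_eq_iff_isGap hK hC P 0).2 hgap1
    simp only [Nat.cast_zero, sub_zero] at hg0P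
    have hy0 : P.1 y ≠ 0 := (Valuation.ne_zero_iff _).2 hy
    obtain ⟨a, ha⟩ : ∃ a : ℤ, P.1 y = WithZero.exp a :=
      ⟨WithZero.log (P.1 y), (WithZero.exp_log hy0).symm⟩
    have h1 : P.1 (y * g0) ≤ 1 := by
      rw [← hspan] at hg0
      obtain ⟨c, rfl⟩ := (Submodule.mem_span_range_iff_exists_fun k).1 hg0
      rw [Finset.mul_sum]
      apply Valuation.map_sum_le
      intro i _
      have : y * c i • φ i = algebraMap k K (c i) * (y * φ i) := by
        rw [Algebra.smul_def]; ring
      rw [this, map_mul]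
      exact mul_le_one' (P.2.1 _) (hnorm i)
    rw [map_mul, hg0P, ha, ← WithZero.exp_add, ← WithZero.exp_zero, WithZero.exp_le_exp] at h1
    obtain ⟨g1, hg1, hg1e⟩ := (hmem 1).1 heff
    have h2 : P.1 y * P.1 g1 = 1 := by rw [← map_mul, ← hg1e, map_one]
    have h3 : P.1 g1 ≤ WithZero.exp (C P) := hg1 P
    have h4 : (1 : WithZero (Multiplicative ℤ)) ≤ WithZero.exp (a + C P) := by
      calc (1 : WithZero (Multiplicative ℤ)) = P.1 y * P.1 g1 := h2.symm
        _ ≤ P.1 y * WithZero.exp (C P) := mul_le_mul' le_rfl h3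
        _ = WithZero.exp (a + C P) := by rw [ha, WithZero.exp_add]
    rw [← WithZero.exp_zero, WithZero.exp_le_exp] at h4
    rw [ha]
    congr 1
    omega
  have hnorm' : ∀ i, P.1 ((y • φ) i) ≤ 1 := fun i => by
    simpa only [Pi.smul_apply, smul_eq_mul] using hnorm i
  rw [isJump_hcolAt_succ_iff hK P (y • φ) hnorm' t ht Ht hHt j hj]
  have hgapiff : L (Finsupp.single P ((j : ℤ) + 1)) = L (Finsupp.single P (j : ℤ)) ↔
      IsGap P (j + 1) := by
    unfold IsGap
    have e1 : (((j + 1 : ℕ) : ℤ)) = (j : ℤ) + 1 := by push_cast; ring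
    have e2 : (((j + 1 : ℕ) : ℤ)) - 1 = (j : ℤ) := by push_cast; ring
    rw [e2, e1]
  rw [hgapiff, ← exists_val_eq_iff_isGap hK hC P j]
  constructor
  · rintro ⟨f, hf, hfP⟩
    obtain ⟨g, hg, rfl⟩ := (hmem f).1 hf
    refine ⟨g, hg, ?_⟩
    rw [map_mul, hyP] at hfP
    have : P.1 g = WithZero.exp (C P) * (WithZero.exp (-(C P)) * P.1 g) := by
      rw [← mul_assoc, ← WithZero.exp_add]; simp
    rw [this, hfP, ← WithZero.exp_add]
    congr 1
  · rintro ⟨g, hg, hgP⟩
    refine ⟨y * g, (hmem _).2 ⟨g, hg, rfl⟩, ?_⟩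
    rw [map_mul, hyP, hgP, ← WithZero.exp_add]
    congr 1; ring

end Groth.Agent.Helper27.Loc
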