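import Mathlib
import Groth.Prelude.Def_W4c5cptfessfintypeLocImm

set_option autoImplicit false
universe u
open CategoryTheory AlgebraicGeometry

namespace Groth.Agent.Helper27.LI

theorem epi_of_isLocHom {A B : CommRingCat.{u}} (φ : A ⟶ B) (h : LocImm.IsLocHom φ.hom) : Epi φ := by
  letI := φ.hom.toAlgebra
  obtain ⟨S, hS⟩ := h
  refine ⟨fun {C} a b hab => ?_⟩
  apply CommRingCat.hom_ext
  apply IsLocalization.ringHom_ext S
  have := congrArg (fun k => k.hom) hab
  exact this

theorem locImm_iff {X Y : Scheme.{u}} (f : X ⟶ Y) :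
    LocImm.IsLocImmersion f ↔ (LocImm.IsLocalizing f ∧ Mono f) := by
  constructor
  · rintro ⟨hloc, hinj⟩
    refine ⟨hloc, ⟨fun {T} g h hgh => ?_⟩⟩
    have hbase : ∀ t, g t = h t := by
      intro t
      apply hinj
      have := congrArg (fun k : T ⟶ Y => k t) hgh
      simpa using this
    choose U V hxV e hφ using hloc
    let W : T → T.Opens := fun t => g ⁻¹ᵁ (V (g t)).1
    have hW : TopologicalSpace.IsOpenCover W := by
      refine TopologicalSpace.IsOpenCover.mk ?_
      rw [eq_top_iff]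
      intro t _
      rw [TopologicalSpace.Opens.mem_iSup]
      exact ⟨t, hxV (g t)⟩
    refine Scheme.Cover.hom_ext (T.openCoverOfIsOpenCover W hW) _ _ fun t => ?_
    change (W t).ι ≫ g = (W t).ι ≫ h
    have hV : IsAffineOpen (V (g t)).1 := (V (g t)).2
    have hU : IsAffineOpen (U (g t)).1 := (U (g t)).2
    have hr1 : Set.range ((W t).ι ≫ g) ⊆ Set.range hV.fromSpec := by
      rw [hV.range_fromSpec]
      rintro _ ⟨w, rfl⟩
      exact w.2
    have hr2 : Set.range ((W t).ι ≫ h) ⊆ Set.range hV.fromSpec := by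
      rw [hV.range_fromSpec]
      rintro _ ⟨w, rfl⟩
      have : ((W t).ι ≫ h) w = g ((W t).ι w) := by
        simp [hbase]
      rw [this]
      exact w.2
    have e1 := IsOpenImmersion.lift_fac hV.fromSpec _ hr1
    have e2 := IsOpenImmersion.lift_fac hV.fromSpec _ hr2
    rw [← e1, ← e2]
    congr 1
    haveI : Epi (f.appLE (U (g t)).1 (V (g t)).1 (e (g t))) := epi_of_isLocHom _ (hφ (g t))
    haveI : Mono (Spec.map (f.appLE (U (g t)).1 (V (g t)).1 (e (g t)))) := by
      change Mono (Scheme.Spec.map (f.appLE (U (g t)).1 (V (g t)).1 (e (g t))).op)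
      infer_instance
    rw [← cancel_mono (Spec.map (f.appLE (U (g t)).1 (V (g t)).1 (e (g t)))),
      ← cancel_mono hU.fromSpec]
    simp only [Category.assoc]
    rw [IsAffineOpen.SpecMap_appLE_fromSpec f hU hV (e (g t)), reassoc_of% e1, reassoc_of% e2]
    simp only [Category.assoc, hgh]
  · rintro ⟨hloc, hmono⟩
    exact ⟨hloc, Scheme.Hom.injective f⟩

end Groth.Agent.Helper27.LI
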