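import Mathlib
import Groth.Agent.Lib.Helper27.LocImmLib

set_option autoImplicit false
universe u
open CategoryTheory AlgebraicGeometry TopologicalSpace

namespace Groth.Agent.Helper27.LI2

variable {X Y : Scheme.{u}} (f : X ⟶ Y)

section Local

variable {U : Y.Opens} (hU : IsAffineOpen U) {V : X.Opens} (hV : IsAffineOpen V)
  (e : V ≤ f ⁻¹ᵁ U)

include hU hV in
lemma apply_fromSpec (q : Spec Γ(X, V)) :
    f (hV.fromSpec q) = hU.fromSpec (Spec.map (f.appLE U V e) q) := by
  have := IsAffineOpen.SpecMap_appLE_fromSpec f hU hV e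
  have h2 := congrArg (fun g : Spec Γ(X, V) ⟶ Y => g q) this
  simp only [Scheme.Hom.comp_apply] at h2
  exact h2.symm

include hU hV in
/-- the image of `V` is stable under generization -/
lemma exists_of_specializes (hφ : LocImm.IsLocHom (f.appLE U V e).hom) {v : X} (hv : v ∈ V) {y' : Y}
    (hy : y' ⤳ f v) : ∃ v' ∈ V, f v' = y' := by
  letI := (f.appLE U V e).hom.toAlgebra
  obtain ⟨S, hS⟩ := hφ
  have hy'U : y' ∈ U := hy.mem_open U.isOpen (e hv)
  obtain ⟨q, hq⟩ : ∃ q, hV.fromSpec q = v := by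
    have : v ∈ Set.range hV.fromSpec := by rw [hV.range_fromSpec]; exact hv
    exact this
  obtain ⟨p', hp'⟩ : ∃ p', hU.fromSpec p' = y' := by
    have : y' ∈ Set.range hU.fromSpec := by rw [hU.range_fromSpec]; exact hy'U
    exact this
  have h1 := apply_fromSpec f hU hV e q
  rw [hq] at h1
  rw [← hp', h1] at hy
  have hy2 : p' ⤳ Spec.map (f.appLE U V e) q :=
    (hU.fromSpec.isOpenEmbedding.isInducing.specializes_iff).mp hy
  have hr : Spec.map (f.appLE U V e) q ∈
      Set.range (PrimeSpectrum.comap (algebraMap Γ(Y, U) Γ(X, V))) := ⟨q, rfl⟩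
  rw [PrimeSpectrum.localization_comap_range Γ(X, V) S] at hr
  have hle : p'.asIdeal ≤ (Spec.map (f.appLE U V e) q).asIdeal :=
    (PrimeSpectrum.le_iff_specializes _ _).mpr hy2
  have hp'r : p' ∈ Set.range (PrimeSpectrum.comap (algebraMap Γ(Y, U) Γ(X, V))) := by
    rw [PrimeSpectrum.localization_comap_range Γ(X, V) S]
    exact Set.disjoint_of_subset_right hle hr
  obtain ⟨q', hq'⟩ := hp'r
  refine ⟨hV.fromSpec q', ?_, ?_⟩
  · have : hV.fromSpec q' ∈ Set.range hV.fromSpec := ⟨q', rfl⟩
    rwa [hV.range_fromSpec] at this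
  · rw [apply_fromSpec f hU hV e q', ← hp']
    congr 1

include hU hV in
/-- local inducing -/
lemma exists_open_preimage (hφ : LocImm.IsLocHom (f.appLE U V e).hom) (W : X.Opens) :
    ∃ N : Y.Opens, ∀ v ∈ V, (f v ∈ N ↔ v ∈ W) := by
  letI := (f.appLE U V e).hom.toAlgebra
  obtain ⟨S, hS⟩ := hφ
  have hind := PrimeSpectrum.localization_comap_isInducing Γ(X, V) S
  have hW' : IsOpen (hV.fromSpec ⁻¹' (W : Set X)) := W.isOpen.preimage hV.fromSpec.continuous
  obtain ⟨N', hN'o, hN'⟩ := hind.isOpen_iff.mp hW'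
  refine ⟨⟨hU.fromSpec '' N', hU.fromSpec.isOpenEmbedding.isOpenMap _ hN'o⟩, ?_⟩
  intro v hv
  obtain ⟨q, rfl⟩ : ∃ q, hV.fromSpec q = v := by
    have : v ∈ Set.range hV.fromSpec := by rw [hV.range_fromSpec]; exact hv
    exact this
  rw [apply_fromSpec f hU hV e q]
  change hU.fromSpec _ ∈ hU.fromSpec '' N' ↔ _
  rw [hU.fromSpec.isOpenEmbedding.injective.mem_set_image]
  have : q ∈ hV.fromSpec ⁻¹' (W : Set X) ↔ hV.fromSpec q ∈ W := Iff.rfl
  rw [← this, ← hN']
  rfl

end Local


section Topo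

variable {α β : Type*} [TopologicalSpace α] [TopologicalSpace β]

lemma exists_finite_generic [NoetherianSpace α] [QuasiSober α] {Z : Set α} (hZ : IsClosed Z) :
    ∃ T : Set α, T.Finite ∧ T ⊆ Z ∧ Z ⊆ ⋃ z ∈ T, closure {z} := by
  obtain ⟨S, hSf, hSc, hSi, rfl⟩ := NoetherianSpace.exists_finite_set_isClosed_irreducible hZ
  choose g hg using fun t : S => QuasiSober.sober (hSi t.1 t.2) (hSc t.1 t.2)
  haveI : Finite S := hSf.to_subtype
  refine ⟨Set.range g, Set.finite_range g, ?_, ?_⟩
  · rintro _ ⟨t, rfl⟩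
    refine ⟨t.1, t.2, ?_⟩
    have : g t ∈ closure {g t} := subset_closure rfl
    rw [(hg t).def] at this
    exact this
  · rintro a ⟨t, ht, hat⟩
    simp only [Set.mem_iUnion]
    refine ⟨g ⟨t, ht⟩, ⟨⟨t, ht⟩, rfl⟩, ?_⟩
    rw [(hg ⟨t, ht⟩).def]
    exact hat

lemma closure_image_subset [NoetherianSpace α] [QuasiSober α] {φ : α → β} (hφ : Continuous φ)
    {Z : Set α} (hZ : IsClosed Z) {y : β} (hy : y ∈ closure (φ '' Z)) :
    ∃ z ∈ Z, φ z ⤳ y := by
  obtain ⟨T, hTf, hTZ, hZT⟩ := exists_finite_generic hZ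
  have hcl : IsClosed (⋃ z ∈ T, closure {φ z}) := hTf.isClosed_biUnion fun _ _ => isClosed_closure
  have hsub : φ '' Z ⊆ ⋃ z ∈ T, closure {φ z} := by
    rintro _ ⟨a, ha, rfl⟩
    have := hZT ha
    simp only [Set.mem_iUnion] at this ⊢
    obtain ⟨z, hz, haz⟩ := this
    refine ⟨z, hz, ?_⟩
    have h1 : φ a ∈ φ '' closure {z} := ⟨a, haz, rfl⟩
    have h2 := image_closure_subset_closure_image hφ h1
    simpa using h2
  have := closure_minimal hsub hcl hy
  simp only [Set.mem_iUnion] at this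
  obtain ⟨z, hz, hyz⟩ := this
  exact ⟨z, hTZ hz, specializes_iff_mem_closure.mpr hyz⟩

end Topo


section Global

/-- bijectivity of the local ring hom for a localization map -/
lemma localRingHom_bijective {A B : Type u} [CommRing A] [CommRing B] [Algebra A B] (S : Submonoid A)
    [IsLocalization S B] (q : Ideal B) [q.IsPrime] (p : Ideal A) [p.IsPrime]
    (hpq : p = q.comap (algebraMap A B)) :
    Function.Bijective (Localization.localRingHom p q (algebraMap A B) hpq) := by
  subst hpq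
  haveI : IsLocalization.AtPrime (Localization.AtPrime q) (q.comap (algebraMap A B)) :=
    IsLocalization.isLocalization_isLocalization_atPrime_isLocalization S (Localization.AtPrime q) q
  let e := IsLocalization.algEquiv (q.comap (algebraMap A B)).primeCompl
    (Localization.AtPrime (q.comap (algebraMap A B))) (Localization.AtPrime q)
  have : Localization.localRingHom (q.comap (algebraMap A B)) q (algebraMap A B) rfl =
      (e : Localization.AtPrime (q.comap (algebraMap A B)) →+* Localization.AtPrime q) := by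
    apply IsLocalization.ringHom_ext (q.comap (algebraMap A B)).primeCompl
    ext a
    simp only [RingHom.comp_apply, Localization.localRingHom_to_map]
    rw [← IsScalarTower.algebraMap_apply]
    exact (e.commutes a).symm
  rw [this]
  exact e.bijective

variable {f}

lemma stalkMap_isIso_of_isLocalizing (hf : LocImm.IsLocalizing f) (x : X) : IsIso (f.stalkMap x) := by
  obtain ⟨U, V, hx, e, hφ⟩ := hf x
  have iso := IsAffineOpen.arrowStalkMapIso f U.1 U.2 V.1 V.2 e hx
  rw [← MorphismProperty.isomorphisms.iff,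
    (MorphismProperty.isomorphisms CommRingCat).arrow_mk_iso_iff iso, MorphismProperty.isomorphisms.iff,
    ConcreteCategory.isIso_iff_bijective]
  letI := (f.appLE U.1 V.1 e).hom.toAlgebra
  obtain ⟨S, hS⟩ := hφ
  exact localRingHom_bijective S _ _
    (congr($(IsAffineOpen.comap_primeIdealOf_appLE U.1 U.2 V.1 V.2 e hx).1).symm)


lemma stableUnderGeneralization_range (hf : LocImm.IsLocalizing f) :
    StableUnderGeneralization (Set.range (fun x => f x)) := by
  rintro _ y' hy ⟨x, rfl⟩
  obtain ⟨U, V, hx, e, hφ⟩ := hf x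
  obtain ⟨v', _, hv'⟩ := exists_of_specializes f U.2 V.2 e hφ hx hy
  exact ⟨v', hv'⟩

/-- key separation: `f x` is not in the closure of the image of the complement of `V` -/
lemma not_mem_closure_image_compl [IsNoetherian X] (hinj : Function.Injective (fun x => f x))
    {U : Y.Opens} (hU : IsAffineOpen U) {V : X.Opens} (hV : IsAffineOpen V)
    (e : V ≤ f ⁻¹ᵁ U) (hφ : LocImm.IsLocHom (f.appLE U V e).hom) {x : X} (hx : x ∈ V) :
    f x ∉ closure ((fun x => f x) '' ((V : Set X)ᶜ)) := by
  intro hcl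
  obtain ⟨z, hz, hzx⟩ := closure_image_subset (φ := fun x => f x) f.continuous
    V.isOpen.isClosed_compl hcl
  obtain ⟨v', hv', hfv'⟩ := exists_of_specializes f hU hV e hφ hx hzx
  have : v' = z := hinj hfv'
  exact hz (this ▸ hv')

lemma isEmbedding_of_isLocImmersion [IsNoetherian X] (hf : LocImm.IsLocImmersion f) :
    Topology.IsEmbedding (fun x => f x) := by
  obtain ⟨hloc, hinj⟩ := hf
  have hinj' : Function.Injective (fun x => f x) := hinj
  refine ⟨⟨le_antisymm (continuous_iff_le_induced.mp f.continuous) ?_⟩, hinj'⟩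
  intro W hW
  rw [isOpen_induced_iff]
  -- for every x ∈ W find N
  have key : ∀ x ∈ W, ∃ N : Set Y, IsOpen N ∧ f x ∈ N ∧ (fun x => f x) ⁻¹' N ⊆ W := by
    intro x hxW
    obtain ⟨U, V, hx, e, hφ⟩ := hloc x
    obtain ⟨N₁, hN₁⟩ := exists_open_preimage f U.2 V.2 e hφ ⟨W, hW⟩
    refine ⟨(N₁ : Set Y) ∩ (closure ((fun x => f x) '' ((V.1 : Set X)ᶜ)))ᶜ,
      N₁.isOpen.inter isClosed_closure.isOpen_compl, ⟨?_, ?_⟩, ?_⟩
    · exact (hN₁ x hx).mpr hxW
    · exact not_mem_closure_image_compl hinj' U.2 V.2 e hφ hx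
    · rintro x' ⟨h1, h2⟩
      have hx'V : x' ∈ V.1 := by
        by_contra hn
        exact h2 (subset_closure ⟨x', hn, rfl⟩)
      exact (hN₁ x' hx'V).mp h1
  choose N hNo hNx hNW using key
  refine ⟨⋃ x : W, N x.1 x.2, isOpen_iUnion fun x => hNo x.1 x.2, ?_⟩
  apply Set.Subset.antisymm
  · intro x' hx'
    simp only [Set.mem_preimage, Set.mem_iUnion] at hx'
    obtain ⟨x, hx⟩ := hx'
    exact hNW x.1 x.2 hx
  · intro x hx
    simp only [Set.mem_preimage, Set.mem_iUnion]
    exact ⟨⟨x, hx⟩, hNx x hx⟩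

theorem main203 [IsNoetherian X] (hf : LocImm.IsLocImmersion f) :
    Topology.IsEmbedding (fun x => f x) ∧ StableUnderGeneralization (Set.range (fun x => f x)) ∧
      ∀ x : X, IsIso (f.stalkMap x) :=
  ⟨isEmbedding_of_isLocImmersion hf, stableUnderGeneralization_range hf.1,
    fun x => stalkMap_isIso_of_isLocalizing hf.1 x⟩


lemma isOpen_of_isClosed_of_stableUnderGeneralization {β : Type*} [TopologicalSpace β]
    [NoetherianSpace β] [QuasiSober β] {Z : Set β} (hZ : IsClosed Z)
    (hg : StableUnderGeneralization Z) : IsOpen Z := by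
  obtain ⟨T, hTf, -, hT⟩ := exists_finite_generic (isClosed_univ (X := β))
  rw [← isClosed_compl_iff]
  have : Zᶜ = ⋃ t ∈ {t ∈ T | t ∉ Z}, closure {t} := by
    ext y
    simp only [Set.mem_compl_iff, Set.mem_iUnion, Set.mem_ofPred_eq, exists_prop]
    constructor
    · intro hy
      have := hT (Set.mem_univ y)
      simp only [Set.mem_iUnion, exists_prop] at this
      obtain ⟨t, ht, hyt⟩ := this
      refine ⟨t, ⟨ht, fun htZ => hy ?_⟩, hyt⟩
      exact (hZ.closure_subset_iff.mpr (Set.singleton_subset_iff.mpr htZ)) hyt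
    · rintro ⟨t, ⟨_, htZ⟩, hyt⟩ hyZ
      exact htZ (hg (specializes_iff_mem_closure.mpr hyt) hyZ)
  rw [this]
  exact (hTf.subset (fun t ht => ht.1)).isClosed_biUnion fun _ _ => isClosed_closure

theorem main205 [IsNoetherian X] [IsNoetherian Y] (hf : LocImm.IsLocImmersion f)
    (hc : IsClosed (Set.range (fun x => f x))) : IsOpenImmersion f := by
  obtain ⟨hemb, hgen, hiso⟩ := main203 hf
  have hopen : IsOpen (Set.range (fun x => f x)) :=
    isOpen_of_isClosed_of_stableUnderGeneralization hc hgen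
  exact IsOpenImmersion.of_isIso_stalkMap f ⟨hemb, hopen⟩


lemma flat_of_isLocalizing (hf : LocImm.IsLocalizing f) : Flat f := by
  apply Flat.of_stalkMap
  intro x
  have := stalkMap_isIso_of_isLocalizing hf x
  exact RingHom.Flat.of_bijective ((ConcreteCategory.isIso_iff_bijective _).mp this)

theorem main204 [IsNoetherian Y] (hf : LocImm.IsLocImmersion f) [LocallyOfFiniteType f] :
    IsOpenImmersion f := by
  have : Flat f := flat_of_isLocalizing hf.1
  have : Mono f := ((Groth.Agent.Helper27.LI.locImm_iff f).mp hf).2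
  have : LocallyOfFinitePresentation f := inferInstance
  exact IsOpenImmersion.of_flat_of_mono f


/-- localizing maps are stable under localizing away compatibly -/
lemma isLocHom_of_square {A B A' T : Type u} [CommRing A] [CommRing B] [CommRing A'] [CommRing T]
    (φ : A →+* B) (α : A →+* A') (β : B →+* T) (ψ : A' →+* T) (hsq : ψ.comp α = β.comp φ) (a : A)
    (hα : @IsLocalization.Away A _ a A' _ α.toAlgebra)
    (hβ : @IsLocalization.Away B _ (φ a) T _ β.toAlgebra) (hφ : LocImm.IsLocHom φ) :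
    LocImm.IsLocHom ψ := by
  letI := φ.toAlgebra
  letI := α.toAlgebra
  letI := β.toAlgebra
  letI := ψ.toAlgebra
  letI : Algebra A T := (β.comp φ).toAlgebra
  haveI : IsScalarTower A A' T := IsScalarTower.of_algebraMap_eq' hsq.symm
  haveI : IsScalarTower A B T := IsScalarTower.of_algebraMap_eq' rfl
  obtain ⟨S, hS⟩ := hφ
  haveI : IsLocalization (Algebra.algebraMapSubmonoid B (Submonoid.powers a)) T := by
    have : Algebra.algebraMapSubmonoid B (Submonoid.powers a) = Submonoid.powers (φ a) := by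
      simp [Algebra.algebraMapSubmonoid, Submonoid.map_powers]
      rfl
    rw [this]
    exact hβ
  haveI : IsLocalization (Submonoid.powers a) A' := hα
  exact ⟨_, IsLocalization.commutes A' B T (Submonoid.powers a) S⟩

theorem main208 [IsNoetherian X] :
    LocImm.IsLocImmersion f ↔ ∀ x : X, ∃ V : Y.Opens, f x ∈ V ∧ IsAffineOpen V ∧
      IsAffineOpen (f ⁻¹ᵁ V) ∧ LocImm.IsLocHom (f.app V).hom := by
  constructor
  · rintro ⟨hloc, hinj⟩ x
    have hinj' : Function.Injective (fun x => f x) := hinj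
    obtain ⟨U, V', hx, e, hφ⟩ := hloc x
    have hnot := not_mem_closure_image_compl hinj' U.2 V'.2 e hφ hx
    let O : Y.Opens := U.1 ⊓ ⟨(closure ((fun x => f x) '' ((V'.1 : Set X)ᶜ)))ᶜ, isClosed_closure.isOpen_compl⟩
    have hxO : f x ∈ O := ⟨e hx, hnot⟩
    obtain ⟨a, haO, hxa⟩ := U.2.exists_basicOpen_le ⟨f x, hxO⟩ (e hx)
    have hpre : f ⁻¹ᵁ (Y.basicOpen a) ≤ V'.1 := by
      intro x' hx'
      by_contra hn
      exact (haO hx').2 (subset_closure ⟨x', hn, rfl⟩)
    have hEq : f ⁻¹ᵁ (Y.basicOpen a) = X.basicOpen (f.appLE U.1 V'.1 e a) := by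
      rw [Scheme.preimage_basicOpen, Scheme.Hom.appLE, CommRingCat.comp_apply, Scheme.basicOpen_res]
      rw [Scheme.preimage_basicOpen] at hpre
      exact (inf_eq_right.mpr hpre).symm
    have haff : IsAffineOpen (f ⁻¹ᵁ (Y.basicOpen a)) := by
      rw [hEq]; exact V'.2.basicOpen _
    refine ⟨Y.basicOpen a, hxa, U.2.basicOpen a, haff, ?_⟩
    have hα := U.2.isLocalization_of_eq_basicOpen a (homOfLE (Y.basicOpen_le a)) rfl
    have hβ := V'.2.isLocalization_of_eq_basicOpen (f.appLE U.1 V'.1 e a) (homOfLE hpre) hEq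
    refine isLocHom_of_square (f.appLE U.1 V'.1 e).hom _ _ (f.app (Y.basicOpen a)).hom ?_ a hα hβ hφ
    rw [← CommRingCat.hom_comp, ← CommRingCat.hom_comp, Scheme.Hom.appLE_map,
      Scheme.Hom.app_eq_appLE, Scheme.Hom.map_appLE]
  · intro h
    constructor
    · intro x
      obtain ⟨V, hxV, hV, hpre, hφ⟩ := h x
      refine ⟨⟨V, hV⟩, ⟨f ⁻¹ᵁ V, hpre⟩, hxV, le_rfl, ?_⟩
      rw [← Scheme.Hom.app_eq_appLE]
      exact hφ
    · intro x x' hxx'
      obtain ⟨V, hxV, hV, hpre, hφ⟩ := h x
      have hx'V : x' ∈ f ⁻¹ᵁ V := by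
        change f x' ∈ V
        have : f x' = f x := hxx'.symm
        rw [this]; exact hxV
      obtain ⟨q, rfl⟩ : ∃ q, hpre.fromSpec q = x := by
        have : x ∈ Set.range hpre.fromSpec := by rw [hpre.range_fromSpec]; exact hxV
        exact this
      obtain ⟨q', rfl⟩ : ∃ q', hpre.fromSpec q' = x' := by
        have : x' ∈ Set.range hpre.fromSpec := by rw [hpre.range_fromSpec]; exact hx'V
        exact this
      have h1 := apply_fromSpec f hV hpre le_rfl q
      have h2 := apply_fromSpec f hV hpre le_rfl q'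
      have h3 : f (hpre.fromSpec q) = f (hpre.fromSpec q') := hxx'
      rw [h1, h2] at h3
      have h4 := hV.fromSpec.isOpenEmbedding.injective h3
      rw [← Scheme.Hom.app_eq_appLE] at h4
      letI := (f.app V).hom.toAlgebra
      obtain ⟨S, hS⟩ := hφ
      have := PrimeSpectrum.localization_comap_injective Γ(X, f ⁻¹ᵁ V) S h4
      rw [this]

end Global

end Groth.Agent.Helper27.LI2
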