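import Mathlib
import Groth.Agent.Lib.Helper27.LocImm2Lib

set_option autoImplicit false
universe u
open CategoryTheory AlgebraicGeometry TopologicalSpace Limits

namespace Groth.Agent.Helper27.LI3

variable {X Y : Scheme.{u}}

lemma toImage_ker (f : X ⟶ Y) [QuasiCompact f] : f.toImage.ker = ⊥ := by
  let W : Y.affineOpens → f.image.affineOpens := fun U => ⟨f.imageι ⁻¹ᵁ U.1, U.2.preimage f.imageι⟩
  have hW : ⨆ U, (W U).1 = ⊤ := by
    rw [eq_top_iff]
    intro z _
    obtain ⟨_, ⟨U, hU, rfl⟩, hzU, -⟩ :=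
      Y.isBasis_affineOpens.exists_subset_of_mem_open (Set.mem_univ (f.imageι z)) isOpen_univ
    exact TopologicalSpace.Opens.mem_iSup.mpr ⟨⟨U, hU⟩, hzU⟩
  refine Scheme.IdealSheafData.ext_of_iSup_eq_top W hW fun U => ?_
  rw [Scheme.Hom.ker_apply, Scheme.IdealSheafData.ideal_bot]
  exact (RingHom.injective_iff_ker_eq_bot _).mp (f.toImage_app_injective U)

instance (f : X ⟶ Y) [QuasiCompact f] : IsSchemeTheoreticallyDominant f.toImage := ⟨toImage_ker f⟩

theorem comap_map_eq_of_flat_mono' (f : X ⟶ Y) [Flat f] [Mono f]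
    (I : X.IdealSheafData) [QuasiCompact (I.subschemeι ≫ f)] : (I.map f).comap f = I := by
  apply le_antisymm (Scheme.IdealSheafData.comap_map_le I f)
  have htj : (I.subschemeι ≫ f).toImage ≫ (I.subschemeι ≫ f).imageι = I.subschemeι ≫ f :=
    (I.subschemeι ≫ f).toImage_imageι
  let l : I.subscheme ⟶ pullback f (I.subschemeι ≫ f).imageι :=
    pullback.lift I.subschemeι (I.subschemeι ≫ f).toImage htj.symm
  have hl1 : l ≫ pullback.fst f (I.subschemeι ≫ f).imageι = I.subschemeι := pullback.lift_fst _ _ _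
  have hl2 : l ≫ pullback.snd f (I.subschemeι ≫ f).imageι = (I.subschemeι ≫ f).toImage :=
    pullback.lift_snd _ _ _
  -- the outer rectangle is a pullback
  have hout : IsPullback (I.subschemeι ≫ 𝟙 X) (𝟙 I.subscheme) f (I.subschemeι ≫ f) :=
    (IsPullback.id_vert I.subschemeι).paste_horiz (IsKernelPair.id_of_mono f)
  have hleft : IsPullback l (𝟙 I.subscheme) (pullback.snd f (I.subschemeι ≫ f).imageι)
      (I.subschemeι ≫ f).toImage := by
    refine IsPullback.of_right ?_ ?_ (IsPullback.of_hasPullback f (I.subschemeι ≫ f).imageι)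
    · rw [hl1, htj]; simpa using hout
    · rw [hl2, Category.id_comp]
  haveI : IsSchemeTheoreticallyDominant l :=
    IsSchemeTheoreticallyDominant.of_isPullback hleft.flip
  have : I.subschemeι.ker = (pullback.fst f (I.subschemeι ≫ f).imageι).ker := by
    conv_lhs => rw [← hl1]
    rw [Scheme.Hom.ker_comp, IsSchemeTheoreticallyDominant.ker_eq_bot l,
      Scheme.IdealSheafData.map_bot]
  rw [Scheme.IdealSheafData.ker_subschemeι] at this
  exact le_of_eq this


theorem comap_map_eq_of_flat_mono [IsNoetherian X] (f : X ⟶ Y) [Flat f] [Mono f]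
    (I : X.IdealSheafData) : (I.map f).comap f = I :=
  comap_map_eq_of_flat_mono' f I

theorem main206 [IsNoetherian X] (f : X ⟶ Y) (hf : LocImm.IsLocImmersion f) (I : X.IdealSheafData) :
    ∃ J : Y.IdealSheafData, J.comap f = I := by
  have : Flat f := Groth.Agent.Helper27.LI2.flat_of_isLocalizing hf.1
  have : Mono f := ((Groth.Agent.Helper27.LI.locImm_iff f).mp hf).2
  exact ⟨I.map f, comap_map_eq_of_flat_mono f I⟩

end Groth.Agent.Helper27.LI3
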