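import Mathlib
import Groth.Agent.Lib.Helper27.LocImm2Lib

set_option autoImplicit false
universe u
open CategoryTheory AlgebraicGeometry TopologicalSpace Limits TensorProduct

namespace Groth.Agent.Helper27.LI4

lemma isLocHom_comp_equiv {A T T' : Type u} [CommRing A] [CommRing T] [CommRing T'] (ψ : A →+* T)
    (hψ : LocImm.IsLocHom ψ) (e : T ≃+* T') : LocImm.IsLocHom ((e : T →+* T').comp ψ) := by
  letI := ψ.toAlgebra
  letI := ((e : T →+* T').comp ψ).toAlgebra
  obtain ⟨S, hS⟩ := hψ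
  refine ⟨S, ?_⟩
  let e' : T ≃ₐ[A] T' := { e with commutes' := fun a => rfl }
  exact IsLocalization.isLocalization_of_algEquiv S e'

lemma isLocHom_includeRight {A B A' : Type u} [CommRing A] [CommRing B] [CommRing A']
    [Algebra A B] [Algebra A A'] (hφ : LocImm.IsLocHom (algebraMap A B)) :
    LocImm.IsLocHom (Algebra.TensorProduct.includeRight (R := A) (A := B) (B := A')).toRingHom := by
  obtain ⟨S, hS⟩ := hφ
  have hS' : IsLocalization S B := by
    convert hS
    exact Algebra.algebra_ext _ _ fun _ => rfl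
  letI := Algebra.TensorProduct.rightAlgebra (R := A) (A := B) (B := A')
  have := IsLocalization.tensorRight (R := A) (S := A') (A := B) S
  refine ⟨Algebra.algebraMapSubmonoid A' S, ?_⟩
  convert this


lemma isLocHom_appLE_of_fac {P Y' : Scheme.{u}} (s : P ⟶ Y') {U' : Y'.Opens} (hU' : IsAffineOpen U')
    {T : CommRingCat.{u}} (ι : Spec T ⟶ P) [IsOpenImmersion ι] (ψ : Γ(Y', U') ⟶ T)
    (hfac : ι ≫ s = Spec.map ψ ≫ hU'.fromSpec) (hψ : LocImm.IsLocHom ψ.hom)
    (e : ι.opensRange ≤ s ⁻¹ᵁ U') :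
    LocImm.IsLocHom (s.appLE U' ι.opensRange e).hom := by
  have hW : IsAffineOpen ι.opensRange := isAffineOpen_opensRange ι
  let θ : Spec T ≅ Spec Γ(P, ι.opensRange) :=
    IsOpenImmersion.isoOfRangeEq ι hW.fromSpec (by rw [hW.range_fromSpec]; rfl)
  have hθ : θ.hom ≫ hW.fromSpec = ι := IsOpenImmersion.isoOfRangeEq_hom_fac _ _ _
  have h1 := IsAffineOpen.SpecMap_appLE_fromSpec s hU' hW e
  have h2 : θ.hom ≫ Spec.map (s.appLE U' ι.opensRange e) = Spec.map ψ := by
    rw [← cancel_mono hU'.fromSpec, Category.assoc, h1, ← Category.assoc, hθ, hfac]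
  let a : Γ(P, ι.opensRange) ⟶ T := Spec.preimage θ.hom
  let b : T ⟶ Γ(P, ι.opensRange) := Spec.preimage θ.inv
  have hab : a ≫ b = 𝟙 _ := by
    apply Spec.map_injective
    rw [Spec.map_comp, Spec.map_preimage, Spec.map_preimage, Iso.inv_hom_id, Spec.map_id]
  have hba : b ≫ a = 𝟙 _ := by
    apply Spec.map_injective
    rw [Spec.map_comp, Spec.map_preimage, Spec.map_preimage, Iso.hom_inv_id, Spec.map_id]
  have h3 : s.appLE U' ι.opensRange e ≫ a = ψ := by
    apply Spec.map_injective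
    rw [Spec.map_comp, Spec.map_preimage, h2]
  have h4 : s.appLE U' ι.opensRange e = ψ ≫ b := by
    rw [← h3, Category.assoc, hab, Category.comp_id]
  let eqv : T ≃+* Γ(P, ι.opensRange) := (Iso.mk b a hba hab).commRingCatIsoToRingEquiv
  have := isLocHom_comp_equiv ψ.hom hψ eqv
  rw [h4]
  exact this


theorem main202 {X Y Y' : Scheme.{u}} [IsNoetherian X] (f : X ⟶ Y) (g : Y' ⟶ Y)
    (hf : LocImm.IsLocImmersion f) : LocImm.IsLocImmersion (pullback.snd f g) := by
  have hmono : Mono f := ((Groth.Agent.Helper27.LI.locImm_iff f).mp hf).2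
  refine ⟨?_, (pullback.snd f g).injective⟩
  intro z
  obtain ⟨N, hxN, hN, hV, hφ⟩ := (Groth.Agent.Helper27.LI2.main208.mp hf) (pullback.fst f g z)
  have hy' : pullback.snd f g z ∈ g ⁻¹ᵁ N := by
    change g (pullback.snd f g z) ∈ N
    rw [← Scheme.Hom.comp_apply, ← pullback.condition, Scheme.Hom.comp_apply]; exact hxN
  obtain ⟨_, ⟨U', hU', rfl⟩, hyU', hU'N⟩ :=
    Y'.isBasis_affineOpens.exists_subset_of_mem_open hy' (g ⁻¹ᵁ N).isOpen
  letI := (f.app N).hom.toAlgebra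
  letI := (g.appLE N U' hU'N).hom.toAlgebra
  have e₁ : Spec.map (CommRingCat.ofHom (algebraMap Γ(Y, N) Γ(X, f ⁻¹ᵁ N))) ≫ hN.fromSpec =
      hV.fromSpec ≫ f := by
    have := IsAffineOpen.SpecMap_appLE_fromSpec f hN hV le_rfl
    rw [← Scheme.Hom.app_eq_appLE] at this
    exact this
  have e₂ : Spec.map (CommRingCat.ofHom (algebraMap Γ(Y, N) Γ(Y', U'))) ≫ hN.fromSpec =
      hU'.fromSpec ≫ g := IsAffineOpen.SpecMap_appLE_fromSpec g hN hU' hU'N
  let k := pullback.map (Spec.map (CommRingCat.ofHom (algebraMap Γ(Y, N) Γ(X, f ⁻¹ᵁ N))))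
    (Spec.map (CommRingCat.ofHom (algebraMap Γ(Y, N) Γ(Y', U')))) f g hV.fromSpec hU'.fromSpec
    hN.fromSpec e₁ e₂
  let ι := (pullbackSpecIso Γ(Y, N) Γ(X, f ⁻¹ᵁ N) Γ(Y', U')).inv ≫ k
  have hrange : Set.range ι = pullback.fst f g ⁻¹' (f ⁻¹ᵁ N : Set X) ∩ pullback.snd f g ⁻¹' (U' : Set Y') := by
    have h1 : Set.range ι = Set.range k := by
      simp only [ι, Scheme.Hom.comp_base, TopCat.coe_comp]
      rw [Set.range_comp, Set.range_eq_univ.mpr
        (pullbackSpecIso Γ(Y, N) Γ(X, f ⁻¹ᵁ N) Γ(Y', U')).inv.surjective, Set.image_univ]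
    rw [h1, Scheme.Pullback.range_map, hV.range_fromSpec, hU'.range_fromSpec]
  have hz : z ∈ ι.opensRange := by
    change z ∈ Set.range ι
    rw [hrange]
    exact ⟨hxN, hyU'⟩
  have e : ι.opensRange ≤ pullback.snd f g ⁻¹ᵁ U' := by
    intro w hw
    change w ∈ Set.range ι at hw
    rw [hrange] at hw
    exact hw.2
  have hfac : ι ≫ pullback.snd f g = Spec.map (CommRingCat.ofHom
      (Algebra.TensorProduct.includeRight (R := Γ(Y, N)) (A := Γ(X, f ⁻¹ᵁ N)) (B := Γ(Y', U'))).toRingHom) ≫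
      hU'.fromSpec := by
    simp only [ι, k, Category.assoc, pullback.lift_snd]
    rw [← Category.assoc, pullbackSpecIso_inv_snd]
    rfl
  refine ⟨⟨U', hU'⟩, ⟨ι.opensRange, isAffineOpen_opensRange ι⟩, hz, e, ?_⟩
  refine isLocHom_appLE_of_fac (pullback.snd f g) hU' ι _ hfac ?_ e
  exact isLocHom_includeRight hφ

end Groth.Agent.Helper27.LI4
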