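import Mathlib
import Groth.Agent.Lib.Helper27.LocImm2Lib

set_option autoImplicit false
universe u
open CategoryTheory AlgebraicGeometry TopologicalSpace Limits

namespace Groth.Agent.Helper27.LI5

variable {X Y : Scheme.{u}} {f : X ⟶ Y}

/-- the local section `Spec 𝒪_{Y,y} ⟶ X` through a point `x` over `y` -/
noncomputable def sec (hf : LocImm.IsLocalizing f) : (y : Y) → (x : X) → f x = y →
    (Spec (Y.presheaf.stalk y) ⟶ X)
  | _, x, rfl =>
    haveI := Groth.Agent.Helper27.LI2.stalkMap_isIso_of_isLocalizing hf x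
    Spec.map (inv (f.stalkMap x)) ≫ X.fromSpecStalk x

lemma sec_comp (hf : LocImm.IsLocalizing f) (y : Y) (x : X) (h : f x = y) :
    sec hf y x h ≫ f = Y.fromSpecStalk y := by
  subst h
  haveI := Groth.Agent.Helper27.LI2.stalkMap_isIso_of_isLocalizing hf x
  simp only [sec, Category.assoc]
  rw [← Scheme.SpecMap_stalkMap_fromSpecStalk, ← Category.assoc, ← Spec.map_comp,
    IsIso.hom_inv_id, Spec.map_id, Category.id_comp]

/-- `sec` as composite of an iso with `fromSpecStalk` -/
lemma sec_eq (hf : LocImm.IsLocalizing f) (y : Y) (x : X) (h : f x = y) :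
    ∃ θ : Spec (Y.presheaf.stalk y) ≅ Spec (X.presheaf.stalk x),
      sec hf y x h = θ.hom ≫ X.fromSpecStalk x ∧
      θ.hom (IsLocalRing.closedPoint _) = IsLocalRing.closedPoint _ := by
  subst h
  haveI := Groth.Agent.Helper27.LI2.stalkMap_isIso_of_isLocalizing hf x
  refine ⟨Scheme.Spec.mapIso (asIso (inv (f.stalkMap x))).op, rfl, ?_⟩
  change Spec.map (inv (f.stalkMap x)) _ = _
  exact IsLocalRing.comap_closedPoint (inv (f.stalkMap x)).hom


lemma sec_closedPoint (hf : LocImm.IsLocalizing f) (y : Y) (x : X) (h : f x = y) :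
    sec hf y x h (IsLocalRing.closedPoint _) = x := by
  obtain ⟨θ, hθ, hcp⟩ := sec_eq hf y x h
  rw [hθ, Scheme.Hom.comp_apply, hcp, Scheme.fromSpecStalk_closedPoint]

lemma sec_maximal (hf : LocImm.IsLocalizing f) (y : Y) (x : X) (h : f x = y)
    (ξ : Spec (Y.presheaf.stalk y)) (hξ : ∀ w, w ⤳ ξ → w = ξ) :
    ∀ w : X, w ⤳ sec hf y x h ξ → w = sec hf y x h ξ := by
  obtain ⟨θ, hθ, hcp⟩ := sec_eq hf y x h
  intro w hw
  rw [hθ, Scheme.Hom.comp_apply] at hw ⊢
  have hx : X.fromSpecStalk x (θ.hom ξ) ⤳ x := by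
    have : X.fromSpecStalk x (θ.hom ξ) ∈ Set.range (X.fromSpecStalk x) := ⟨_, rfl⟩
    rw [Scheme.range_fromSpecStalk] at this
    exact this
  have hwr : w ∈ Set.range (X.fromSpecStalk x) := by
    rw [Scheme.range_fromSpecStalk]
    exact hw.trans hx
  obtain ⟨w₁, rfl⟩ := hwr
  have h1 : w₁ ⤳ θ.hom ξ :=
    ((X.fromSpecStalk x).isEmbedding.isInducing.specializes_iff).mp hw
  have h2 : θ.inv w₁ ⤳ ξ := by
    have := h1.map θ.inv.continuous
    rwa [Scheme.hom_inv_apply] at this
  have h3 := hξ _ h2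
  have h4 : w₁ = θ.hom ξ := by
    rw [← h3, Scheme.inv_hom_apply]
  rw [h4]


lemma mono_restrict {U : Y.Opens} (hU : IsAffineOpen U) {V : X.Opens} (hV : IsAffineOpen V)
    (e : V ≤ f ⁻¹ᵁ U) (hφ : LocImm.IsLocHom (f.appLE U V e).hom) : Mono (V.ι ≫ f) := by
  haveI : Epi (f.appLE U V e) := Groth.Agent.Helper27.LI.epi_of_isLocHom _ hφ
  haveI : Mono (Spec.map (f.appLE U V e)) := by
    change Mono (Scheme.Spec.map (f.appLE U V e).op)
    infer_instance
  have h1 : V.ι ≫ f = hV.isoSpec.hom ≫ Spec.map (f.appLE U V e) ≫ hU.fromSpec := by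
    rw [IsAffineOpen.SpecMap_appLE_fromSpec f hU hV e, ← Category.assoc]
    congr 1
    rw [← hV.isoSpec_inv_ι, Iso.hom_inv_id_assoc]
  rw [h1]
  infer_instance

theorem main197 [IsNoetherian X] (hf : LocImm.IsLocalizing f) :
    Function.Injective f.base ↔
      (IsSeparated f ∧ Set.InjOn (fun x => f x) {x : X | ∀ x' : X, x' ⤳ x → x' = x}) := by
  constructor
  · intro hinj
    have : Mono f := ((Groth.Agent.Helper27.LI.locImm_iff f).mp ⟨hf, hinj⟩).2
    exact ⟨inferInstance, fun a _ b _ h => hinj h⟩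
  · rintro ⟨hsep, hmax⟩ x x' hxx'
    change f x = f x' at hxx'
    -- sections
    set y := f x with hy
    let σ := sec hf y x rfl
    let σ' := sec hf y x' hxx'.symm
    have hσ : σ ≫ f = Y.fromSpecStalk y := sec_comp hf y x rfl
    have hσ' : σ' ≫ f = Y.fromSpecStalk y := sec_comp hf y x' hxx'.symm
    -- a maximal point ξ
    obtain ⟨p, hp, -⟩ := Ideal.exists_minimalPrimes_le
      (I := (⊥ : Ideal (Y.presheaf.stalk y))) (J := IsLocalRing.maximalIdeal _) bot_le
    let ξ : Spec (Y.presheaf.stalk y) := ⟨p, hp.1.1⟩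
    have hξ : ∀ w : Spec (Y.presheaf.stalk y), w ⤳ ξ → w = ξ := by
      intro w hw
      have hle : w.asIdeal ≤ p := (PrimeSpectrum.le_iff_specializes w ξ).mpr hw
      have : p ≤ w.asIdeal := hp.2 ⟨w.2, bot_le⟩ hle
      exact PrimeSpectrum.ext (le_antisymm hle this)
    have hz : σ ξ = σ' ξ := by
      apply hmax (sec_maximal hf y x rfl ξ hξ) (sec_maximal hf y x' hxx'.symm ξ hξ)
      change f (σ ξ) = f (σ' ξ)
      rw [← Scheme.Hom.comp_apply, ← Scheme.Hom.comp_apply, hσ, hσ']
    -- local data at x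
    obtain ⟨U, V, hxV, e, hφ⟩ := hf x
    have hmono := mono_restrict U.2 V.2 e hφ
    have hzV : σ ξ ∈ V.1 := by
      have h1 : σ ξ ⤳ σ (IsLocalRing.closedPoint _) :=
        (IsLocalRing.specializes_closedPoint ξ).map σ.continuous
      rw [sec_closedPoint hf y x rfl] at h1
      exact h1.mem_open V.1.isOpen hxV
    let m := (Spec (Y.presheaf.stalk y)).fromSpecResidueField ξ
    have hr : Set.range (m ≫ σ) ⊆ Set.range V.1.ι := by
      rintro _ ⟨s, rfl⟩
      rw [Scheme.Opens.range_ι, Scheme.Hom.comp_apply, Scheme.fromSpecResidueField_apply]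
      exact hzV
    have hr' : Set.range (m ≫ σ') ⊆ Set.range V.1.ι := by
      rintro _ ⟨s, rfl⟩
      rw [Scheme.Opens.range_ι, Scheme.Hom.comp_apply, Scheme.fromSpecResidueField_apply, ← hz]
      exact hzV
    have hm : m ≫ σ = m ≫ σ' := by
      rw [← IsOpenImmersion.lift_fac V.1.ι _ hr, ← IsOpenImmersion.lift_fac V.1.ι _ hr']
      congr 1
      rw [← cancel_mono (V.1.ι ≫ f), ← Category.assoc, ← Category.assoc,
        IsOpenImmersion.lift_fac, IsOpenImmersion.lift_fac, Category.assoc, Category.assoc, hσ, hσ']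
    -- equalizer
    let Tov : Over Y := Over.mk (Y.fromSpecStalk y)
    let Xov : Over Y := Over.mk f
    let a : Tov ⟶ Xov := Over.homMk σ hσ
    let b : Tov ⟶ Xov := Over.homMk σ' hσ'
    haveI : IsSeparated Xov.hom := hsep
    have hcl : IsClosedImmersion (equalizer.ι a b).left := inferInstance
    let Kov : Over Y := Over.mk (m ≫ Y.fromSpecStalk y)
    let mo : Kov ⟶ Tov := Over.homMk m rfl
    have hmo : mo ≫ a = mo ≫ b := by
      ext1
      exact hm
    have hfac : (equalizer.lift mo hmo).left ≫ (equalizer.ι a b).left = m := by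
      rw [← Over.comp_left, equalizer.lift_ι]
      rfl
    have hξr : ξ ∈ Set.range (equalizer.ι a b).left := by
      obtain ⟨s⟩ : Nonempty (Spec ((Spec (Y.presheaf.stalk y)).residueField ξ)) := inferInstance
      refine ⟨(equalizer.lift mo hmo).left s, ?_⟩
      rw [← Scheme.Hom.comp_apply, hfac, Scheme.fromSpecResidueField_apply]
    have htr : IsLocalRing.closedPoint (Y.presheaf.stalk y) ∈ Set.range (equalizer.ι a b).left :=
      (IsLocalRing.specializes_closedPoint ξ).mem_closed
        (equalizer.ι a b).left.isClosedEmbedding.isClosed_range hξr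
    obtain ⟨w, hw⟩ := htr
    have hcond : (equalizer.ι a b).left ≫ σ = (equalizer.ι a b).left ≫ σ' :=
      congr($(equalizer.condition a b).left)
    have := congrArg (fun g : (equalizer a b).left ⟶ X => g w) hcond
    simp only [Scheme.Hom.comp_apply, hw] at this
    rw [sec_closedPoint hf y x rfl, sec_closedPoint hf y x' hxx'.symm] at this
    exact this

end Groth.Agent.Helper27.LI5
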