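import Mathlib
import Groth.Agent.Lib.Helper27.LocImm3Lib
import Groth.Agent.Lib.Helper27.LocImm4Lib

set_option autoImplicit false
set_option linter.style.haveILetI false
universe u
open CategoryTheory AlgebraicGeometry TopologicalSpace Limits

namespace Groth.Agent.Helper27.LI6

variable {X Y Z : Scheme.{u}}

lemma isLocImmersion_iso_comp {W : Scheme.{u}} [IsNoetherian X] [IsNoetherian W] (θ : W ⟶ X) [IsIso θ] (p : X ⟶ Y)
    (hp : LocImm.IsLocImmersion p) : LocImm.IsLocImmersion (θ ≫ p) := by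
  rw [Groth.Agent.Helper27.LI2.main208] at hp ⊢
  intro w
  obtain ⟨V, hV, hVa, hpVa, hφ⟩ := hp (θ w)
  refine ⟨V, by simpa using hV, hVa, ?_, ?_⟩
  · rw [Scheme.Hom.comp_preimage]
    exact hpVa.preimage_of_isIso θ
  · rw [Scheme.Hom.comp_app]
    have hiso : IsIso (θ.app (p ⁻¹ᵁ V)) := inferInstance
    let e : Γ(X, p ⁻¹ᵁ V) ≃+* Γ(W, θ ⁻¹ᵁ p ⁻¹ᵁ V) := (asIso (θ.app (p ⁻¹ᵁ V))).commRingCatIsoToRingEquiv
    exact Groth.Agent.Helper27.LI4.isLocHom_comp_equiv _ hφ e

theorem main195' [IsNoetherian X] [IsNoetherian Y] [IsNoetherian Z]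
    (f : X ⟶ Y) (g : Y ⟶ Z) (h : X ⟶ Z) (hh : f ≫ g = h) (hfg : LocImm.IsLocImmersion h) [IsSeparated g]
    (hd : ∀ U : Y.Opens, Function.Injective (f.app U).hom) : LocImm.IsLocImmersion f := by
  have hp₂ : LocImm.IsLocImmersion (pullback.snd h g) :=
    Groth.Agent.Helper27.LI4.main202 h g hfg
  haveI : Flat (pullback.snd h g) := Groth.Agent.Helper27.LI2.flat_of_isLocalizing hp₂.1
  haveI : Mono (pullback.snd h g) := ((Groth.Agent.Helper27.LI.locImm_iff _).mp hp₂).2
  let Γ : X ⟶ pullback h g := pullback.lift (𝟙 X) f (by simp [hh])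
  have hΓ1 : Γ ≫ pullback.fst h g = 𝟙 X := pullback.lift_fst _ _ _
  have hΓ2 : Γ ≫ pullback.snd h g = f := pullback.lift_snd _ _ _
  haveI : IsClosedImmersion (Γ ≫ pullback.fst h g) := by rw [hΓ1]; infer_instance
  haveI : IsClosedImmersion Γ := IsClosedImmersion.of_comp Γ (pullback.fst h g)
  haveI : QuasiCompact f := quasiCompact_of_noetherianSpace_source f
  have hker : f.ker = ⊥ := by
    let W : Y.affineOpens → Y.affineOpens := fun U => U
    have hW : ⨆ U, (W U).1 = ⊤ := by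
      rw [eq_top_iff]
      intro z _
      obtain ⟨_, ⟨U, hU, rfl⟩, hzU, -⟩ :=
        Y.isBasis_affineOpens.exists_subset_of_mem_open (Set.mem_univ z) isOpen_univ
      exact TopologicalSpace.Opens.mem_iSup.mpr ⟨⟨U, hU⟩, hzU⟩
    refine Scheme.IdealSheafData.ext_of_iSup_eq_top W hW fun U => ?_
    rw [Scheme.Hom.ker_apply, Scheme.IdealSheafData.ideal_bot]
    exact (RingHom.injective_iff_ker_eq_bot _).mp (hd U.1)
  have hΓker : Γ.ker = ⊥ := by
    have h1 : f.ker = Γ.ker.map (pullback.snd h g) := by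
      conv_lhs => rw [← hΓ2]
      rw [Scheme.Hom.ker_comp]
    haveI : IsIso Γ.toImage := inferInstance
    haveI : QuasiCompact (Γ.ker.subschemeι ≫ pullback.snd h g) := by
      have : Γ.ker.subschemeι ≫ pullback.snd h g = inv Γ.toImage ≫ f := by
        rw [IsIso.eq_inv_comp, ← hΓ2, ← Category.assoc]
        congr 1
        exact Γ.toImage_imageι
      rw [this]
      infer_instance
    have h2 := Groth.Agent.Helper27.LI3.comap_map_eq_of_flat_mono' (pullback.snd h g) Γ.ker
    rw [← h1, hker, Scheme.IdealSheafData.comap_bot] at h2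
    exact h2.symm
  haveI : IsIso Γ := IsClosedImmersion.isIso_iff_ker_eq_bot.mpr hΓker
  haveI : IsNoetherian (pullback h g) := by
    haveI : IsLocallyNoetherian (pullback h g) := isLocallyNoetherian_of_isOpenImmersion (inv Γ)
    haveI : CompactSpace ↥(pullback h g) := by
      have hc : CompactSpace ↥X := inferInstance
      exact (Scheme.Hom.homeomorph Γ).compactSpace
    exact {}
  rw [← hΓ2]
  exact isLocImmersion_iso_comp Γ _ hp₂

theorem main195 [IsNoetherian X] [IsNoetherian Y] [IsNoetherian Z]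
    (f : X ⟶ Y) (g : Y ⟶ Z) (hfg : LocImm.IsLocImmersion (f ≫ g)) [IsSeparated g]
    (hd : ∀ U : Y.Opens, Function.Injective (f.app U).hom) : LocImm.IsLocImmersion f :=
  main195' f g (f ≫ g) rfl hfg hd

end Groth.Agent.Helper27.LI6
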