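import Mathlib
import Groth.Agent.Lib.Helper27.LocJ

set_option autoImplicit false

namespace Groth.Agent.Helper27.Loc

open PowerSeries FunFld
open scoped LaurentSeries
open Groth.Agent.Helper16.FF Groth.Agent.Helper27.Hasse Groth.Agent.Helper27.Expn

variable {k K : Type*} [Field k] [Field K] [Algebra k K]

theorem main12608 [IsAlgClosed k] (hK : IsFunctionField k K) (P : Place k K) {n : ℕ}
    (φ : Fin (n + 1) → K) (hφ : LinearIndependent k φ)
    (heff : (1 : K) ∈ Submodule.span k (Set.range φ)) (hnorm : ∀ i, P.1 (φ i) ≤ 1)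
    (t : K) (ht : P.1 t = WithZero.exp (-1)) (Ht : K →ₐ[k] K⟦X⟧)
    (hHt : LocRes.IsHasseFamily t Ht)
    (J : Fin n → ℕ) (hJ : IsOrders K (hcol (AlgHom.id k K) Ht φ) J)
    (J' : Fin n → ℕ) (hJ' : IsOrders (IsLocalRing.ResidueField P.O) (hcolAt P Ht φ) J')
    (Φ : Place k K → (K →ₐ[k] LaurentSeries k))
    (hΦ : ∀ P : Place k K, LocRes.IsExpansionAt P.1 (Φ P)) :
    (∀ l, J l ≤ J' l) ∧
    ((∀ l, J' l = J l) ↔ evalP P (wrMat (AlgHom.id k K) Ht φ J).det ≠ 0) ∧
    ((∀ l, J' l = J l) ↔ wDiv (AlgHom.id k K) Ht Φ t φ J P = 0) := by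
  have hfix : IsFixedPt (AlgHom.id k K) P := fun z hz => hz
  have h1 := finrank_kaehler_of_isAlgClosed hK
  have hpos' := orders_pos hK P φ hnorm t ht Ht hHt J' hJ'
  have hposJ : ∀ l, 0 < J l := by
    intro l
    by_contra h0
    have h0' : J l = 0 := by omega
    exact not_isJump_hcol_id_one Ht hHt φ ((hJ.2 0).1 ⟨l, h0'⟩)
  -- part 1
  have hm' := main12605 hK (AlgHom.id k K) P hfix φ hφ heff hnorm t ht Ht hHt J' hJ' J'
  have hdet' : (wrMat (AlgHom.id k K) Ht φ J').det ≠ 0 := by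
    have := (hm'.2 (Or.inl fun l => hpos' l)).2
      (by rw [det_binomMat_self k J' hJ'.1]; exact one_ne_zero)
    intro h0
    rw [h0, map_zero] at this
    exact WithZero.exp_ne_zero this.symm
  have hle : ∀ l, J l ≤ J' l :=
    Groth.Agent.S12601.result k K hK φ hφ (AlgHom.id k K) t Ht hHt J hJ J' hJ'.1 hdet'
  -- parts 2 and 3
  have hdet : (wrMat (AlgHom.id k K) Ht φ J).det ≠ 0 :=
    det_wrMat_ne_zero _ Ht φ J hJ (span_hcol_eq_top hK h1 t Ht hHt _ φ hφ)
  have hm := main12605 hK (AlgHom.id k K) P hfix φ hφ heff hnorm t ht Ht hHt J' hJ' J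
  set S : ℤ := ∑ l, ((J' l : ℤ) - J l) with hS
  have hSnn : 0 ≤ S := Finset.sum_nonneg fun l _ => by have := hle l; omega
  have hS0 : S = 0 ↔ ∀ l, J' l = J l := by
    constructor
    · intro h l
      have := (Finset.sum_eq_zero_iff_of_nonneg (fun l _ => by have := hle l; omega)).1 h l
        (Finset.mem_univ l)
      have := hle l
      omega
    · intro h
      rw [hS]
      exact Finset.sum_eq_zero fun l _ => by rw [h l]; simp
  have hd1 : P.1 (wrMat (AlgHom.id k K) Ht φ J).det ≤ 1 :=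
    le_trans hm.1 (by rw [← WithZero.exp_zero, WithZero.exp_le_exp]; omega)
  have hiff : (∀ l, J' l = J l) ↔ P.1 (wrMat (AlgHom.id k K) Ht φ J).det = 1 := by
    constructor
    · intro h
      have hJJ : J' = J := funext h
      have := (hm.2 (Or.inl hposJ)).2
        (by rw [hJJ, det_binomMat_self k J hJ.1]; exact one_ne_zero)
      rw [this, hS0.2 h]; simp
    · intro h
      rw [← hS0]
      have := hm.1
      rw [h, ← WithZero.exp_zero, WithZero.exp_le_exp] at this
      omega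
  refine ⟨hle, ?_, ?_⟩
  · rw [hiff]
    constructor
    · intro h he
      rw [evalP_eq_zero_iff P hd1, h] at he
      exact lt_irrefl _ he
    · intro h
      apply le_antisymm hd1
      by_contra hlt
      exact h ((evalP_eq_zero_iff P hd1).2 (not_le.1 hlt))
  · rw [wDiv_apply hK _ P hfix φ heff hnorm t ht Ht J Φ hΦ, hiff,
      ← val_eq_exp_iff_ord P hdet 0]
    simp

end Groth.Agent.Helper27.Loc
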