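import Mathlib
import Groth.Agent.Lib.Helper27.LocJ
import Groth.Agent.Lib.Helper16.FFW.UnifB
import Groth.Agent.Lib.Helper16.FF.GeomD

set_option autoImplicit false

namespace Groth.Agent.Helper27.Loc

open PowerSeries FunFld IntermediateField
open scoped LaurentSeries
open Groth.Agent.Helper16.FF Groth.Agent.Helper27.Hasse Groth.Agent.Helper27.Expn

variable {k K : Type*} [Field k] [Field K] [Algebra k K]

theorem transcendental_of_D_ne_zero (hK : IsFunctionField k K) (x : K)
    (hx : KaehlerDifferential.D k K x ≠ 0) : Transcendental k x := by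
  intro halg
  obtain ⟨c, rfl⟩ := hK.2 x halg
  exact hx (by simp)

theorem separable_of_D_ne_zero [IsAlgClosed k] (hK : IsFunctionField k K) (x : K)
    (hx : KaehlerDifferential.D k K x ≠ 0) :
    Algebra.IsSeparable (adjoin k ({x} : Set K)) K := by
  have hg : IsGeometric k K := isGeometric_of_isAlgClosed
  have hxtr := transcendental_of_D_ne_zero hK x hx
  obtain ⟨p, hp⟩ := CharP.exists K
  rcases CharP.char_is_prime_or_zero K p with hpp | hp0
  · have := Fact.mk hpp
    by_contra hns
    exact hx ((mem_kKp_iff p hK hg x).1.1 ((mem_kKp_iff p hK hg x).2.2 hns))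
  · subst hp0
    have : CharZero K := CharP.charP_to_charZero K
    have : FiniteDimensional (adjoin k ({x} : Set K)) K := finite_of_transcendental hK hxtr
    have : CharZero (adjoin k ({x} : Set K)) :=
      (algebraMap (adjoin k ({x} : Set K)) K).charZero
    have : Algebra.IsAlgebraic (adjoin k ({x} : Set K)) K := Algebra.IsAlgebraic.of_finite _ _
    exact Algebra.IsAlgebraic.isSeparable_of_perfectField

theorem finite_not_unif [IsAlgClosed k] (hK : IsFunctionField k K) (x : K)
    (hx : KaehlerDifferential.D k K x ≠ 0) :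
    {Q : Place k K | ¬ ∃ c : k, Q.1 (x - algebraMap k K c) = WithZero.exp (-1 : ℤ)}.Finite := by
  classical
  set F := adjoin k ({x} : Set K) with hF
  have hxtr := transcendental_of_D_ne_zero hK x hx
  have hsep : Algebra.IsSeparable F K := separable_of_D_ne_zero hK x hx
  have hfin : FiniteDimensional F K := finite_of_transcendental hK hxtr
  have hFF : IsFunctionField k F := isFunctionField_intermediateField hK F
    ⟨x, mem_adjoin_simple_self k x, hxtr⟩
  have hR : {Q : Place k K | ¬ Function.Surjective (Q.1.comap (algebraMap F K))}.Finite :=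
    Groth.Agent.Helper16.FFW.finite_ramified hFF
  have hpoles : {Q : Place k K | 1 < Q.1 x}.Finite := by
    refine (finite_support_ord hK x).subset ?_
    intro Q hQ
    have hx0 : x ≠ 0 := by
      rintro rfl
      simp at hQ
    have := (Groth.Agent.Helper16.FFW.one_lt_val_iff' Q hx0).1 hQ
    simp only [Function.mem_support]
    omega
  refine (hR.union hpoles).subset ?_
  intro Q hQ
  by_contra hnot
  rw [Set.mem_union, not_or] at hnot
  exact hQ (Groth.Agent.Helper16.FFW.exists_const_uniformizer hK Q x (not_lt.1 hnot.2)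
    (not_not.1 hnot.1))

theorem ordDiff_eq_zero_of_unif (P : Place k K) (ε : K →ₐ[k] k⸨X⸩)
    (hε : LocRes.IsExpansionAt P.1 ε) (x : K) (c : k)
    (hc : P.1 (x - algebraMap k K c) = WithZero.exp (-1 : ℤ)) :
    LocRes.ordDiff ε 1 x = 0 := by
  unfold LocRes.ordDiff LocRes.vDiff
  have h1 : LocRes.D k (ε x) = LocRes.D k (ε (x - algebraMap k K c)) := by
    rw [map_sub, map_sub, LocRes.map_algebraMap]
    have : LocRes.D k (HahnSeries.C ((algebraMap k k) c)) = 0 := LocRes.derivative_C k _
    rw [this, sub_zero]
  rw [map_one, one_mul, h1,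
    Groth.Agent.Helper27.DExp.val_D_unif _ (by rw [hε.1, hc])]
  simp

theorem finite_support_ordDiff [IsAlgClosed k] (hK : IsFunctionField k K)
    (Φ : Place k K → (K →ₐ[k] LaurentSeries k))
    (hΦ : ∀ P : Place k K, LocRes.IsExpansionAt P.1 (Φ P)) (x : K)
    (hx : KaehlerDifferential.D k K x ≠ 0) :
    (Function.support fun P : Place k K => LocRes.ordDiff (Φ P) 1 x).Finite := by
  refine (finite_not_unif hK x hx).subset ?_
  intro P hP
  simp only [Function.mem_support] at hP
  intro hex
  obtain ⟨c, hc⟩ := hex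
  exact hP (ordDiff_eq_zero_of_unif P (Φ P) (hΦ P) x c hc)

theorem divDiff_apply [IsAlgClosed k] (hK : IsFunctionField k K)
    (Φ : Place k K → (K →ₐ[k] LaurentSeries k))
    (hΦ : ∀ P : Place k K, LocRes.IsExpansionAt P.1 (Φ P)) (x : K)
    (hx : KaehlerDifferential.D k K x ≠ 0) (P : Place k K) :
    divDiff Φ 1 x P = LocRes.ordDiff (Φ P) 1 x := by
  classical
  unfold divDiff
  rw [dif_pos (finite_support_ordDiff hK Φ hΦ x hx)]
  rfl

end Groth.Agent.Helper27.Loc
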