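import Mathlib
import Groth.Agent.Lib.Helper27.LocL
import Groth.Agent.Lib.Helper27.HasseI
import Groth.Agent.S12596
import Groth.Agent.S12597

set_option autoImplicit false

namespace Groth.Agent.Helper27.Loc

open PowerSeries FunFld IntermediateField
open scoped LaurentSeries
open Groth.Agent.Helper16.FF Groth.Agent.Helper27.Hasse Groth.Agent.Helper27.Expn

variable {k K : Type*} [Field k] [Field K] [Algebra k K]

/-- The first Hasse derivative is the differential quotient. -/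
theorem D_eq_hasseD_one_smul (h1 : Module.finrank K (Ω[K⁄k]) = 1) (t : K) (Ht : K →ₐ[k] K⟦X⟧)
    (hHt : LocRes.IsHasseFamily t Ht) (s c : K)
    (hc : KaehlerDifferential.D k K s = c • KaehlerDifferential.D k K t) :
    c = LocRes.hasseD Ht 1 s := by
  have := twisted_deriv (k := k) (RingHom.id K) (fun y => coeff 1 (Ht y))
    (fun a b => by simp only [map_add])
    (fun a b => by simpa using coeff_one_mul Ht hHt.2 a b)
    (fun c => by simp only [H_algebraMap]; rw [coeff_C]; simp) t s c hc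
  simp only [RingHom.id_apply, hHt.1, map_add, coeff_C, coeff_one_X] at this
  rw [LocRes.hasseD_apply, this]; simp

theorem ordDiff_chain (h1 : Module.finrank K (Ω[K⁄k]) = 1) (P : Place k K) (ε : K →ₐ[k] k⸨X⸩)
    (hε : LocRes.IsExpansionAt P.1 ε) (s : K) (Hs : K →ₐ[k] K⟦X⟧)
    (hHs : LocRes.IsHasseFamily s Hs) (t : K) (Ht : K →ₐ[k] K⟦X⟧)
    (hHt : LocRes.IsHasseFamily t Ht) :
    LocRes.ordDiff ε 1 s = LocRes.ordDiff ε 1 t + P.ord (LocRes.hasseD Ht 1 s) := by
  have hdt := ds_ne_zero t Ht hHt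
  obtain ⟨c, hc, hchain⟩ := Groth.Agent.Helper27.DExp.chain h1 t hdt s
  have hcu := D_eq_hasseD_one_smul h1 t Ht hHt s c hc
  have hu : LocRes.hasseD Ht 1 s ≠ 0 := by
    intro h0
    have := hasseD_one_mul h1 s Hs hHs t Ht hHt
    rw [LocRes.hasseD_apply] at h0
    rw [h0, zero_mul] at this
    exact zero_ne_one this
  -- D (ε t) ≠ 0
  obtain ⟨tP, htP⟩ := hε.2.2
  obtain ⟨c', _, hchain'⟩ := Groth.Agent.Helper27.DExp.chain h1 t hdt tP
  have hDt : LocRes.D k (ε t) ≠ 0 := by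
    intro h0
    have h2 := hchain' k ε
    rw [h0, mul_zero] at h2
    have h3 := Groth.Agent.Helper27.DExp.val_D_unif (ε tP) (by rw [hε.1, htP])
    rw [h2, map_zero] at h3
    exact zero_ne_one h3
  unfold LocRes.ordDiff LocRes.vDiff Place.ord
  rw [map_one, one_mul, one_mul, hchain k ε, map_mul, hε.1, ← hcu]
  have hv1 : P.1 c ≠ 0 := by rw [hcu]; exact (Valuation.ne_zero_iff _).2 hu
  have hv2 : Valued.v (LocRes.D k (ε t)) ≠ 0 := (Valuation.ne_zero_iff _).2 hDt
  rw [WithZero.log_mul hv1 hv2]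
  ring

theorem divDiff_chain [IsAlgClosed k] (hK : IsFunctionField k K)
    (Φ : Place k K → (K →ₐ[k] LaurentSeries k))
    (hΦ : ∀ P : Place k K, LocRes.IsExpansionAt P.1 (Φ P)) (s : K) (Hs : K →ₐ[k] K⟦X⟧)
    (hHs : LocRes.IsHasseFamily s Hs) (t : K) (Ht : K →ₐ[k] K⟦X⟧)
    (hHt : LocRes.IsHasseFamily t Ht) :
    divDiff Φ 1 s = divDiff Φ 1 t + div k (LocRes.hasseD Ht 1 s) := by
  have h1 := finrank_kaehler_of_isAlgClosed hK
  ext P
  rw [Finsupp.add_apply, divDiff_apply hK Φ hΦ s (ds_ne_zero s Hs hHs),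
    divDiff_apply hK Φ hΦ t (ds_ne_zero t Ht hHt), div_apply hK]
  exact ordDiff_chain h1 P (Φ P) (hΦ P) s Hs hHs t Ht hHt

theorem mapDiv_smul (hK : IsFunctionField k K) {ι : Type*} [Fintype ι] [Nonempty ι]
    (ψ : ι → K) (hψ : ∀ i, ψ i ≠ 0) (y : K) (hy : y ≠ 0) :
    mapDiv k (fun i => y * ψ i) = mapDiv k ψ - div k y := by
  ext P
  rw [Finsupp.sub_apply, mapDiv_apply hK, mapDiv_apply hK, div_apply hK]
  have h1 : (fun i => P.ord (y * ψ i)) = (fun x => P.ord y + x) ∘ (fun i => P.ord (ψ i)) := by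
    funext i
    exact Place.ord_mul P hy (hψ i)
  rw [h1, ← Finset.apply_inf'_eq_inf'_comp Finset.univ_nonempty
    (fun x => P.ord y + x) (fun a b => (min_add_add_left (P.ord y) a b).symm)]
  ring

theorem mapDiv_le_of_mem_span (hK : IsFunctionField k K) {ι ι' : Type*} [Fintype ι] [Nonempty ι]
    [Fintype ι'] [Nonempty ι'] (ψ : ι → K) (hψ : ∀ i, ψ i ≠ 0) (ψ' : ι' → K)
    (hψ' : ∀ i, ψ' i ≠ 0) (h : ∀ i, ψ' i ∈ Submodule.span k (Set.range ψ)) (P : Place k K) :
    mapDiv k ψ' P ≤ mapDiv k ψ P := by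
  obtain ⟨j', hj'⟩ := exists_val_eq_exp_mapDiv hK ψ' hψ' P
  rw [← WithZero.exp_le_exp, ← hj']
  obtain ⟨c, hc⟩ := (Submodule.mem_span_range_iff_exists_fun k).1 (h j')
  rw [← hc]
  apply Valuation.map_sum_le
  intro i _
  rw [Algebra.smul_def, map_mul]
  calc P.1 (algebraMap k K (c i)) * P.1 (ψ i) ≤ 1 * WithZero.exp (mapDiv k ψ P) :=
        mul_le_mul' (P.2.1 _) (val_le_exp_mapDiv hK ψ hψ P i)
    _ = _ := one_mul _

theorem mapDiv_eq_of_span_eq (hK : IsFunctionField k K) {ι ι' : Type*} [Fintype ι] [Nonempty ι]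
    [Fintype ι'] [Nonempty ι'] (ψ : ι → K) (hψ : ∀ i, ψ i ≠ 0) (ψ' : ι' → K)
    (hψ' : ∀ i, ψ' i ≠ 0)
    (h : Submodule.span k (Set.range ψ') = Submodule.span k (Set.range ψ)) :
    mapDiv k ψ' = mapDiv k ψ := by
  ext P
  apply le_antisymm
  · exact mapDiv_le_of_mem_span hK ψ hψ ψ' hψ' (fun i => h ▸ Submodule.subset_span ⟨i, rfl⟩) P
  · exact mapDiv_le_of_mem_span hK ψ' hψ' ψ hψ (fun i => h ▸ Submodule.subset_span ⟨i, rfl⟩) P

/-- The span of `Aφ` for an invertible matrix `A`. -/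
theorem span_matrix_eq {n : ℕ} (φ : Fin (n + 1) → K) (A : Matrix (Fin (n + 1)) (Fin (n + 1)) k)
    (hA : A.det ≠ 0) :
    Submodule.span k (Set.range fun i => ∑ j, A i j • φ j) = Submodule.span k (Set.range φ) := by
  apply le_antisymm
  · rw [Submodule.span_le]
    rintro _ ⟨i, rfl⟩
    exact Submodule.sum_mem _ fun j _ =>
      Submodule.smul_mem _ _ (Submodule.subset_span ⟨j, rfl⟩)
  · rw [Submodule.span_le]
    rintro _ ⟨l, rfl⟩
    have hinv : A⁻¹ * A = 1 := Matrix.nonsing_inv_mul A (isUnit_iff_ne_zero.2 hA)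
    have : φ l = ∑ i, A⁻¹ l i • ∑ j, A i j • φ j := by
      simp_rw [Finset.smul_sum, smul_smul]
      rw [Finset.sum_comm]
      simp_rw [← Finset.sum_smul]
      have : ∀ j, ∑ i, A⁻¹ l i * A i j = (1 : Matrix _ _ k) l j := fun j => by
        rw [← hinv, Matrix.mul_apply]
      simp_rw [this, Matrix.one_apply, ite_smul, one_smul, zero_smul]
      simp
    rw [this]
    exact Submodule.sum_mem _ fun i _ =>
      Submodule.smul_mem _ _ (Submodule.subset_span ⟨i, rfl⟩)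

theorem linearIndependent_matrix {n : ℕ} (φ : Fin (n + 1) → K) (hφ : LinearIndependent k φ)
    (A : Matrix (Fin (n + 1)) (Fin (n + 1)) k) (hA : A.det ≠ 0) :
    LinearIndependent k (fun i => ∑ j, A i j • φ j) := by
  rw [Fintype.linearIndependent_iff]
  intro g hg
  have h1 : ∑ j, (∑ i, g i * A i j) • φ j = 0 := by
    rw [← hg]
    simp_rw [Finset.smul_sum, smul_smul, Finset.sum_smul]
    rw [Finset.sum_comm]
  have h2 := (Fintype.linearIndependent_iff.1 hφ) _ h1
  have h3 : Matrix.vecMul g A = 0 := by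
    funext j
    rw [Matrix.vecMul, dotProduct]
    exact h2 j
  have := Matrix.eq_zero_of_vecMul_eq_zero hA h3
  intro i
  exact congrFun this i

end Groth.Agent.Helper27.Loc
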