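import Mathlib
import Groth.Agent.Lib.Helper27.LocM

set_option autoImplicit false

namespace Groth.Agent.Helper27.Loc

open PowerSeries FunFld IntermediateField
open scoped LaurentSeries
open Groth.Agent.Helper16.FF Groth.Agent.Helper27.Hasse Groth.Agent.Helper27.Expn

variable {k K : Type*} [Field k] [Field K] [Algebra k K]

theorem main12614 [IsAlgClosed k] (hK : IsFunctionField k K) {n : ℕ} (φ : Fin (n + 1) → K)
    (hφ : LinearIndependent k φ) (τ : K →ₐ[k] K) (s : K) (Hs : K →ₐ[k] K⟦X⟧)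
    (hHs : LocRes.IsHasseFamily s Hs) (t : K) (Ht : K →ₐ[k] K⟦X⟧)
    (hHt : LocRes.IsHasseFamily t Ht)
    (J : Fin n → ℕ) (hJ : IsOrders K (hcol τ Hs φ) J)
    (A : Matrix (Fin (n + 1)) (Fin (n + 1)) k) (hA : A.det ≠ 0) (y : K) (hy : y ≠ 0)
    (φ' : Fin (n + 1) → K) (hφ' : ∀ i, φ' i = y * ∑ j, A i j • φ j)
    (Φ : Place k K → (K →ₐ[k] LaurentSeries k))
    (hΦ : ∀ P : Place k K, LocRes.IsExpansionAt P.1 (Φ P)) :
    wDiv τ Ht Φ t φ' J = wDiv τ Hs Φ s φ J := by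
  have h1 := finrank_kaehler_of_isAlgClosed hK
  set ψ : Fin (n + 1) → K := fun i => ∑ j, A i j • φ j with hψ
  have hψli : LinearIndependent k ψ := linearIndependent_matrix φ hφ A hA
  have hφ'eq : φ' = y • ψ := funext fun i => by
    rw [hφ' i, Pi.smul_apply, smul_eq_mul]
  have h98 := main12598 hK φ τ s Hs hHs t Ht hHt
  have hJt : IsOrders K (hcol τ Ht φ) J := (h98.1 J).2 hJ
  have h96 := Groth.Agent.S12596.result k K hK φ hφ τ t Ht hHt A hA ψ (fun i => rfl)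
  have hJψ : IsOrders K (hcol τ Ht ψ) J := (h96.1 J).2 hJt
  have h97 := Groth.Agent.S12597.result k K hK ψ hψli τ t Ht hHt y hy
  set u := LocRes.hasseD Ht 1 s with hu
  set ds := (wrMat τ Hs φ J).det with hds
  have hdet : (wrMat τ Ht φ' J).det =
      τ y * y ^ n * (algebraMap k K A.det * (u ^ (∑ l, J l) * ds)) := by
    rw [hφ'eq, h97.2 J hJψ, h96.2 J, h98.2 J hJ]
  have hds0 : ds ≠ 0 := det_wrMat_ne_zero τ Hs φ J hJ (span_hcol_eq_top hK h1 s Hs hHs τ φ hφ)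
  have hu0 : u ≠ 0 := by
    intro h0
    have := hasseD_one_mul h1 s Hs hHs t Ht hHt
    rw [hu, LocRes.hasseD_apply] at h0
    rw [h0, zero_mul] at this
    exact zero_ne_one this
  have hτy : τ y ≠ 0 := (_root_.map_ne_zero τ).2 hy
  have hA0 : algebraMap k K A.det ≠ 0 := (_root_.map_ne_zero _).2 hA
  have hdiv : div k (wrMat τ Ht φ' J).det =
      div k (τ y) + n • div k y + ((∑ l, J l) • div k u + div k ds) := by
    rw [hdet, div_mul hK (mul_ne_zero hτy (pow_ne_zero _ hy))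
      (mul_ne_zero hA0 (mul_ne_zero (pow_ne_zero _ hu0) hds0)),
      div_mul hK hτy (pow_ne_zero _ hy), div_pow hK,
      div_mul hK hA0 (mul_ne_zero (pow_ne_zero _ hu0) hds0), div_algebraMap hK, zero_add,
      div_mul hK (pow_ne_zero _ hu0) hds0, div_pow hK]
  have hφnz : ∀ i, φ i ≠ 0 := fun i => hφ.ne_zero i
  have hψnz : ∀ i, ψ i ≠ 0 := fun i => hψli.ne_zero i
  have hτφnz : ∀ i, (τ ∘ φ) i ≠ 0 := fun i => (_root_.map_ne_zero τ).2 (hφnz i)
  have hτψnz : ∀ i, (τ ∘ ψ) i ≠ 0 := fun i => (_root_.map_ne_zero τ).2 (hψnz i)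
  have hm1 : mapDiv k φ' = mapDiv k φ - div k y := by
    have e1 : φ' = fun i => y * ψ i := funext fun i => hφ' i
    rw [e1, mapDiv_smul hK ψ hψnz y hy,
      mapDiv_eq_of_span_eq hK φ hφnz ψ hψnz (span_matrix_eq φ A hA)]
  have hm2 : mapDiv k (τ ∘ φ') = mapDiv k (τ ∘ φ) - div k (τ y) := by
    have e1 : τ ∘ φ' = fun i => τ y * (τ ∘ ψ) i := funext fun i => by
      simp only [Function.comp_apply, hφ' i, map_mul]; rfl
    have e2 : τ ∘ ψ = fun i => ∑ j, A i j • (τ ∘ φ) j := funext fun i => by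
      simp only [Function.comp_apply, hψ, map_sum, map_smul]
    rw [e1, mapDiv_smul hK (τ ∘ ψ) hτψnz (τ y) hτy]
    congr 1
    apply mapDiv_eq_of_span_eq hK (τ ∘ φ) hτφnz (τ ∘ ψ) hτψnz
    rw [e2]
    exact span_matrix_eq (τ ∘ φ) A hA
  have hdd := divDiff_chain hK Φ hΦ s Hs hHs t Ht hHt
  unfold wDiv
  rw [hdiv, hm1, hm2, hdd]
  ext P
  simp only [Finsupp.add_apply, Finsupp.sub_apply, Finsupp.smul_apply, smul_eq_mul, nsmul_eq_mul]
  push_cast
  ring

end Groth.Agent.Helper27.Loc
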