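import Mathlib
import Groth.Agent.Lib.Helper27.LocN
import Groth.Agent.Lib.Helper27.LocK
import Groth.Agent.S12595

set_option autoImplicit false

namespace Groth.Agent.Helper27.Loc

open PowerSeries FunFld IntermediateField
open scoped LaurentSeries
open Groth.Agent.Helper16.FF Groth.Agent.Helper27.Hasse Groth.Agent.Helper27.Expn

variable {k K : Type*} [Field k] [Field K] [Algebra k K]

/-- A Hasse family with respect to `t` from one with respect to `s`, by substitution. -/
theorem exists_hasse (s : K) (Hs : K →ₐ[k] K⟦X⟧) (hHs : LocRes.IsHasseFamily s Hs) (t : K)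
    (hu : coeff 1 (Hs t) ≠ 0) : ∃ Ht : K →ₐ[k] K⟦X⟧, LocRes.IsHasseFamily t Ht := by
  set w : K⟦X⟧ := Hs t - C t with hw
  have hw0 : constantCoeff w = 0 := by rw [hw, map_sub, hHs.2, constantCoeff_C, sub_self]
  have hw1 : IsUnit (coeff 1 w) := by
    rw [hw, map_sub, coeff_C, if_neg one_ne_zero, sub_zero]
    exact isUnit_iff_ne_zero.2 hu
  set v := substInvOfIsUnit w hw1 with hv
  have hvs : HasSubst v := HasSubst.substInvOfIsUnit w hw1
  have hv0 : constantCoeff v = 0 := constantCoeff_substInvOfIsUnit w hw1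
  refine ⟨((substAlgHom hvs : K⟦X⟧ →ₐ[K] K⟦X⟧).restrictScalars k).comp Hs, ?_, ?_⟩
  · show substAlgHom hvs (Hs t) = C t + X
    rw [coe_substAlgHom]
    have : Hs t = C t + w := by rw [hw]; ring
    rw [this, subst_add hvs, subst_C, subst_substInvOfIsUnit_right w hw0 hw1]
    rfl
  · intro y
    show constantCoeff (substAlgHom hvs (Hs y)) = y
    rw [coe_substAlgHom]
    exact (constantCoeff_subst' _ _ hv0).trans (hHs.2 y)

theorem D_unif_ne_zero (h1 : Module.finrank K (Ω[K⁄k]) = 1) (P : Place k K)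
    (ε : K →ₐ[k] k⸨X⸩) (hε : LocRes.IsExpansionAt P.1 ε) (s : K)
    (hds : KaehlerDifferential.D k K s ≠ 0) (t : K) (ht : P.1 t = WithZero.exp (-1)) :
    KaehlerDifferential.D k K t ≠ 0 := by
  intro h0
  obtain ⟨c, hc, hchain⟩ := Groth.Agent.Helper27.DExp.chain h1 s hds t
  rw [h0] at hc
  have hc0 : c = 0 := by
    rcases smul_eq_zero.1 hc.symm with h | h
    · exact h
    · exact absurd h hds
  have h2 := hchain k ε
  rw [hc0, map_zero, zero_mul] at h2
  have h3 := Groth.Agent.Helper27.DExp.val_D_unif (ε t) (by rw [hε.1, ht])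
  rw [h2, map_zero] at h3
  exact zero_ne_one h3

/-- Linearly independent rows give spanning columns. -/
theorem span_cols_eq_top {κ : Type*} [Field κ] {N : ℕ} (c : ℕ → (Fin N → κ))
    (hrows : LinearIndependent κ (fun i : Fin N => fun j : ℕ => c (j + 1) i)) :
    Submodule.span κ (Set.range c) = ⊤ := by
  by_contra hne
  obtain ⟨f, hf0, hf⟩ := Submodule.exists_le_ker_of_lt_top _ (lt_top_iff_ne_top.2 hne)
  set lam : Fin N → κ := fun i => f (fun j => if i = j then 1 else 0) with hlam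
  have hfx : ∀ x : Fin N → κ, f x = ∑ i, lam i * x i := by
    intro x
    rw [LinearMap.pi_apply_eq_sum_univ f x]
    refine Finset.sum_congr rfl fun i _ => ?_
    rw [smul_eq_mul, mul_comm]
  have hkill : ∀ m, ∑ i, lam i * c m i = 0 := by
    intro m
    rw [← hfx]
    exact hf (Submodule.subset_span ⟨m, rfl⟩)
  have hlam0 : lam = 0 := by
    have := (Fintype.linearIndependent_iff.1 hrows) lam (by
      funext j
      simp only [Finset.sum_apply, Pi.smul_apply, smul_eq_mul, Pi.zero_apply]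
      exact hkill (j + 1))
    exact funext this
  apply hf0
  apply LinearMap.ext
  intro x
  rw [hfx, hlam0]
  simp

theorem main12610 [IsAlgClosed k] (hK : IsFunctionField k K) {n : ℕ} (φ : Fin (n + 1) → K)
    (hφ : LinearIndependent k φ) (h0 : φ 0 ≠ 0)
    (hbir : IntermediateField.adjoin k (Set.range fun i => φ i / φ 0) = ⊤)
    (τ : K →ₐ[k] K) (hτ : τ ≠ AlgHom.id k K) (P : Place k K) (hP : IsFixedPt τ P)
    (s : K) (H : K →ₐ[k] K⟦X⟧) (hH : LocRes.IsHasseFamily s H)
    (J : Fin n → ℕ) (hJ : IsOrders K (hcol τ H φ) J)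
    (Φ : Place k K → (K →ₐ[k] LaurentSeries k))
    (hΦ : ∀ P : Place k K, LocRes.IsExpansionAt P.1 (Φ P)) :
    0 < wDiv τ H Φ s φ J P := by
  classical
  have h1 := finrank_kaehler_of_isAlgClosed hK
  -- n ≥ 1
  have hn : 0 < n := by
    by_contra hn0
    have hn0' : n = 0 := by omega
    subst hn0'
    have hrange : (Set.range fun i : Fin 1 => φ i / φ 0) = {1} := by
      ext z
      simp only [Set.mem_range, Set.mem_singleton_iff]
      constructor
      · rintro ⟨i, rfl⟩
        rw [Subsingleton.elim i 0, div_self h0]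
      · rintro rfl
        exact ⟨0, div_self h0⟩
    rw [hrange] at hbir
    obtain ⟨⟨x, hx, -⟩, -⟩ := hK
    have hxmem : x ∈ IntermediateField.adjoin k ({1} : Set K) := by rw [hbir]; trivial
    have hbot : IntermediateField.adjoin k ({1} : Set K) = ⊥ := by
      rw [IntermediateField.adjoin_eq_bot_iff]
      rintro _ rfl
      exact one_mem _
    rw [hbot, IntermediateField.mem_bot] at hxmem
    obtain ⟨c, rfl⟩ := hxmem
    exact hx (isAlgebraic_algebraMap c)
  -- local parameter and its Hasse family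
  obtain ⟨t, ht⟩ := (hΦ P).2.2
  have hds := ds_ne_zero s H hH
  have hdt := D_unif_ne_zero h1 P (Φ P) (hΦ P) s hds t ht
  obtain ⟨c, hc⟩ := (finrank_eq_one_iff_of_nonzero' (KaehlerDifferential.D k K s) hds).1 h1
    (KaehlerDifferential.D k K t)
  have hcu := D_eq_hasseD_one_smul h1 s H hH t c hc.symm
  have hu : coeff 1 (H t) ≠ 0 := by
    intro hu0
    rw [LocRes.hasseD_apply, hu0] at hcu
    rw [hcu, zero_smul] at hc
    exact hdt hc.symm
  obtain ⟨Ht, hHt⟩ := exists_hasse s H hH t hu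
  -- normalization
  obtain ⟨j0, -, hj0⟩ := Finset.exists_max_image Finset.univ (fun i => P.1 (φ i))
    Finset.univ_nonempty
  have hφj0 : φ j0 ≠ 0 := hφ.ne_zero j0
  set y := (φ j0)⁻¹ with hy
  have hy0 : y ≠ 0 := inv_ne_zero hφj0
  set φ'' : Fin (n + 1) → K := fun i => y * φ i with hφ''
  have hnorm : ∀ i, P.1 (φ'' i) ≤ 1 := by
    intro i
    simp only [hφ'', hy]
    rw [map_mul, map_inv₀, inv_mul_le_iff₀ (by
      exact lt_of_le_of_ne zero_le (Ne.symm ((Valuation.ne_zero_iff _).2 hφj0))), mul_one]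
    exact hj0 i (Finset.mem_univ i)
  have hφ''j0 : φ'' j0 = 1 := by simp only [hφ'', hy]; exact inv_mul_cancel₀ hφj0
  have heff : (1 : K) ∈ Submodule.span k (Set.range φ'') :=
    Submodule.subset_span ⟨j0, hφ''j0⟩
  have hφ''li : LinearIndependent k φ'' :=
    hφ.map' (LinearMap.mulLeft k y) (LinearMap.ker_eq_bot.2 (mul_right_injective₀ hy0))
  -- invariance of the Weierstrass divisor
  have hinv : wDiv τ Ht Φ t φ'' J = wDiv τ H Φ s φ J :=
    main12614 hK φ hφ τ s H hH t Ht hHt J hJ 1 (by simp) y hy0 φ'' (fun i => by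
      simp only [hφ'', Matrix.one_apply, ite_smul, one_smul, zero_smul, Finset.sum_ite_eq,
        Finset.mem_univ, if_true]) Φ hΦ
  rw [← hinv]
  -- orders
  have hJt : IsOrders K (hcol τ Ht φ) J :=
    ((main12598 hK φ τ s H hH t Ht hHt).1 J).2 hJ
  have hJ'' : IsOrders K (hcol τ Ht φ'') J :=
    (isOrders_hcol_smul_iff τ Ht hHt φ y hy0 J).2 hJt
  -- orders at P
  have hrows := main12599 hK φ'' hφ''li P hnorm t ht Ht hHt
  have hspan : Submodule.span (IsLocalRing.ResidueField P.O) (Set.range (hcolAt P Ht φ'')) = ⊤ :=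
    span_cols_eq_top (hcolAt P Ht φ'') hrows
  have hc0 : hcolAt P Ht φ'' 0 ≠ 0 := by
    intro h
    have := congrFun h j0
    simp only [hcolAt, Pi.zero_apply] at this
    rw [hφ''j0, evalP_one] at this
    exact one_ne_zero this
  obtain ⟨J', hJ'⟩ := exists_orders (hcolAt P Ht φ'') hc0 hspan
  have hpos' := orders_pos hK P φ'' hnorm t ht Ht hHt J' hJ'
  -- J ≤ J'
  have hm' := main12605 hK τ P hP φ'' hφ''li heff hnorm t ht Ht hHt J' hJ' J'
  have hdet' : (wrMat τ Ht φ'' J').det ≠ 0 := by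
    have := (hm'.2 (Or.inl fun l => hpos' l)).2
      (by rw [det_binomMat_self k J' hJ'.1]; exact one_ne_zero)
    intro h0
    rw [h0, map_zero] at this
    exact WithZero.exp_ne_zero this.symm
  have hle : ∀ l, J l ≤ J' l :=
    Groth.Agent.S12601.result k K hK φ'' hφ''li τ t Ht hHt J hJ'' J' hJ'.1 hdet'
  -- J 0 = 0
  have hjump1 : IsJump K (hcol τ H φ) 1 := by
    by_contra hnj
    exact hτ ((Groth.Agent.S12595.result k K hK φ h0 hbir τ s H hH).1 hnj)
  obtain ⟨l1, hl1⟩ := (hJ.2 0).2 hjump1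
  have hJ0 : J ⟨0, hn⟩ = 0 := by
    have := hJ.1.monotone (Fin.mk_le_of_le_val (Nat.zero_le _) : (⟨0, hn⟩ : Fin n) ≤ l1)
    omega
  -- conclusion
  have hmain := (main12615 hK τ P hP φ'' hφ''li heff hnorm t ht Ht hHt J hJ'' J' hJ' Φ hΦ).1
  have hsum : (1 : ℤ) ≤ ∑ l, ((J' l : ℤ) - J l) := by
    have h2 : ((J' ⟨0, hn⟩ : ℤ) - J ⟨0, hn⟩) ≤ ∑ l, ((J' l : ℤ) - J l) :=
      Finset.single_le_sum (f := fun l => ((J' l : ℤ) - J l))
        (fun l _ => by have := hle l; omega) (Finset.mem_univ _)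
    have := hpos' ⟨0, hn⟩
    rw [hJ0] at h2
    push_cast at h2
    omega
  omega

end Groth.Agent.Helper27.Loc
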