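import Groth.Agent.Lib.Helper27.WeilRes2
import Groth.Agent.Lib.Helper27.LocL

/-! Over an algebraically closed field, `[ds]` is canonical. -/

namespace Groth.Agent.Helper27.Tate

open FunFld Groth.Agent.Helper16.FF Groth.Agent.Helper27.Hasse Groth.Agent.Helper27.Loc
open scoped LaurentSeries

variable {k K : Type*} [Field k] [Field K] [Algebra k K]

theorem isCanonical_divDiff [IsAlgClosed k] (hK : IsFunctionField k K)
    (Φ : Place k K → (K →ₐ[k] LaurentSeries k))
    (hΦ : ∀ P : Place k K, LocRes.IsExpansionAt P.1 (Φ P)) (s : K)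
    (hs : KaehlerDifferential.D k K s ≠ 0) :
    IsCanonical k K (divDiff Φ 1 s) := by
  have h1 := finrank_kaehler_of_isAlgClosed hK
  have hdiv : IsDivOf (omegaRes (F := fun _ => k) hK Φ hΦ 1 s) (divDiff Φ 1 s) :=
    omegaRes_isDivOf (F := fun _ => k) hK h1 Φ hΦ 1 s one_ne_zero hs
      (fun P => ⟨1, by simp⟩) _ (fun P => divDiff_apply hK Φ hΦ s hs P)
  exact ⟨_, IsDivOf.ne_zero hK hdiv, hdiv⟩

theorem deg_divDiff [IsAlgClosed k] (hK : IsFunctionField k K)
    (Φ : Place k K → (K →ₐ[k] LaurentSeries k))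
    (hΦ : ∀ P : Place k K, LocRes.IsExpansionAt P.1 (Φ P)) (s : K)
    (hs : KaehlerDifferential.D k K s ≠ 0) :
    (divDiff Φ 1 s).deg = 2 * (genus k K : ℤ) - 2 :=
  (canonical_ell_deg hK (isCanonical_divDiff hK Φ hΦ s hs)).2

end Groth.Agent.Helper27.Tate
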