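import Mathlib
import Groth.Agent.Lib.Helper27.LocO
import Groth.Agent.Lib.Helper27.WeilRes3
import Groth.Agent.Lib.Helper16.FFW.Ext5

set_option autoImplicit false

namespace Groth.Agent.Helper27.Loc

open PowerSeries FunFld IntermediateField
open scoped LaurentSeries
open Groth.Agent.Helper16.FF Groth.Agent.Helper27.Hasse Groth.Agent.Helper27.Expn

variable {k K : Type*} [Field k] [Field K] [Algebra k K]

/-- Local set-up: a local parameter with Hasse family and a normalized scalar multiple. -/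
theorem exists_local_setup [IsAlgClosed k] (hK : IsFunctionField k K) {n : ℕ}
    (φ : Fin (n + 1) → K) (hφ : LinearIndependent k φ) (τ : K →ₐ[k] K)
    (s : K) (H : K →ₐ[k] K⟦X⟧) (hH : LocRes.IsHasseFamily s H)
    (J : Fin n → ℕ) (hJ : IsOrders K (hcol τ H φ) J)
    (Φ : Place k K → (K →ₐ[k] LaurentSeries k))
    (hΦ : ∀ P : Place k K, LocRes.IsExpansionAt P.1 (Φ P)) (P : Place k K) :
    ∃ (t : K) (Ht : K →ₐ[k] K⟦X⟧) (φ'' : Fin (n + 1) → K),
      P.1 t = WithZero.exp (-1) ∧ LocRes.IsHasseFamily t Ht ∧ LinearIndependent k φ'' ∧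
      (∀ i, P.1 (φ'' i) ≤ 1) ∧ (1 : K) ∈ Submodule.span k (Set.range φ'') ∧
      (∃ j0, φ'' j0 = 1) ∧
      IsOrders K (hcol τ Ht φ'') J ∧ wDiv τ Ht Φ t φ'' J = wDiv τ H Φ s φ J := by
  classical
  have h1 := finrank_kaehler_of_isAlgClosed hK
  obtain ⟨t, ht⟩ := (hΦ P).2.2
  have hds := ds_ne_zero s H hH
  have hdt := D_unif_ne_zero h1 P (Φ P) (hΦ P) s hds t ht
  obtain ⟨c, hc⟩ := (finrank_eq_one_iff_of_nonzero' (KaehlerDifferential.D k K s) hds).1 h1
    (KaehlerDifferential.D k K t)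
  have hcu := D_eq_hasseD_one_smul h1 s H hH t c hc.symm
  have hu : coeff 1 (H t) ≠ 0 := by
    intro hu0
    rw [LocRes.hasseD_apply, hu0] at hcu
    rw [hcu, zero_smul] at hc
    exact hdt hc.symm
  obtain ⟨Ht, hHt⟩ := exists_hasse s H hH t hu
  obtain ⟨j0, -, hj0⟩ := Finset.exists_max_image Finset.univ (fun i => P.1 (φ i))
    Finset.univ_nonempty
  have hφj0 : φ j0 ≠ 0 := hφ.ne_zero j0
  set y := (φ j0)⁻¹ with hy
  have hy0 : y ≠ 0 := inv_ne_zero hφj0
  set φ'' : Fin (n + 1) → K := fun i => y * φ i with hφ''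
  have hnorm : ∀ i, P.1 (φ'' i) ≤ 1 := by
    intro i
    simp only [hφ'', hy]
    rw [map_mul, map_inv₀, inv_mul_le_iff₀ (by
      exact lt_of_le_of_ne zero_le (Ne.symm ((Valuation.ne_zero_iff _).2 hφj0))), mul_one]
    exact hj0 i (Finset.mem_univ i)
  have hφ''j0 : φ'' j0 = 1 := by simp only [hφ'', hy]; exact inv_mul_cancel₀ hφj0
  have heff : (1 : K) ∈ Submodule.span k (Set.range φ'') :=
    Submodule.subset_span ⟨j0, hφ''j0⟩
  have hφ''li : LinearIndependent k φ'' :=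
    hφ.map' (LinearMap.mulLeft k y) (LinearMap.ker_eq_bot.2 (mul_right_injective₀ hy0))
  have hinv : wDiv τ Ht Φ t φ'' J = wDiv τ H Φ s φ J :=
    main12614 hK φ hφ τ s H hH t Ht hHt J hJ 1 (by simp) y hy0 φ'' (fun i => by
      simp only [hφ'', Matrix.one_apply, ite_smul, one_smul, zero_smul, Finset.sum_ite_eq,
        Finset.mem_univ, if_true]) Φ hΦ
  have hJt : IsOrders K (hcol τ Ht φ) J :=
    ((main12598 hK φ τ s H hH t Ht hHt).1 J).2 hJ
  have hJ'' : IsOrders K (hcol τ Ht φ'') J :=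
    (isOrders_hcol_smul_iff τ Ht hHt φ y hy0 J).2 hJt
  exact ⟨t, Ht, φ'', ht, hHt, hφ''li, hnorm, heff, ⟨j0, hφ''j0⟩, hJ'', hinv⟩

theorem wDiv_nonneg_at [IsAlgClosed k] (hK : IsFunctionField k K) {n : ℕ}
    (φ : Fin (n + 1) → K) (hφ : LinearIndependent k φ) (τ : K →ₐ[k] K)
    (s : K) (H : K →ₐ[k] K⟦X⟧) (hH : LocRes.IsHasseFamily s H)
    (J : Fin n → ℕ) (hJ : IsOrders K (hcol τ H φ) J)
    (Φ : Place k K → (K →ₐ[k] LaurentSeries k))
    (hΦ : ∀ P : Place k K, LocRes.IsExpansionAt P.1 (Φ P)) (P : Place k K) :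
    0 ≤ wDiv τ H Φ s φ J P := by
  classical
  have h1 := finrank_kaehler_of_isAlgClosed hK
  obtain ⟨t, Ht, φ'', ht, hHt, hli, hnorm, heff, ⟨j0, hj0⟩, hJ'', hinv⟩ :=
    exists_local_setup hK φ hφ τ s H hH J hJ Φ hΦ P
  rw [← hinv]
  have hdet : (wrMat τ Ht φ'' J).det ≠ 0 :=
    det_wrMat_ne_zero τ Ht φ'' J hJ'' (span_hcol_eq_top hK h1 t Ht hHt τ φ'' hli)
  have hm1 : mapDiv k φ'' P = 0 :=
    mapDiv_apply_eq_zero hK φ'' P hnorm ⟨j0, by rw [hj0, map_one]⟩
  have hτne : ∀ i, (τ ∘ φ'') i ≠ 0 := fun i => by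
    simp only [Function.comp_apply]
    exact (map_ne_zero_iff τ τ.injective).2 (hli.ne_zero i)
  set m := mapDiv k (τ ∘ φ'') P with hm
  unfold wDiv
  simp only [Finsupp.add_apply, Finsupp.smul_apply, hm1, divDiff_apply_of_unif Φ P (hΦ P) t ht,
    div_apply hK, smul_zero, add_zero]
  rw [← hm]
  -- P.1 det ≤ exp m
  obtain ⟨ε, hε, hεt⟩ := exists_expansion hK P t ht
  set z : K := t ^ (m : ℤ) with hz
  have hvz : P.1 z = WithZero.exp (-m) := by
    rw [hz, map_zpow₀, ht, ← WithZero.exp_zsmul]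
    congr 1
    simp
  set w : Fin (n + 1) → K := fun c => if c = 0 then z else 1 with hw
  set U : Matrix (Fin (n + 1)) (Fin (n + 1)) K :=
    Matrix.of fun l c => (1 : K) * (w c * wrMat τ Ht φ'' J l c) with hU
  have hUdet : U.det = z * (wrMat τ Ht φ'' J).det := by
    rw [hU, det_scale]
    simp only [Finset.prod_const_one, one_mul]
    congr 1
    rw [Fin.prod_univ_succ]
    simp [hw, Fin.succ_ne_zero]
  have hUint : ∀ l c, P.1 (U l c) ≤ 1 := by
    intro l c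
    simp only [hU, Matrix.of_apply, one_mul]
    refine Fin.cases ?_ (fun c' => ?_) c
    · simp only [hw, if_pos rfl, wrMat, Matrix.of_apply, Fin.cases_zero]
      rw [map_mul, hvz]
      have := val_le_exp_mapDiv hK (τ ∘ φ'') hτne P l
      rw [← hm] at this
      calc WithZero.exp (-m) * P.1 (τ (φ'' l)) ≤ WithZero.exp (-m) * WithZero.exp m :=
            mul_le_mul_right this _
        _ = 1 := by rw [← WithZero.exp_add]; simp
    · simp only [hw, if_neg (Fin.succ_ne_zero c'), one_mul, wrMat, Matrix.of_apply,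
        Fin.cases_succ]
      exact (hasseD_integral h1 hε hεt Ht hHt (hnorm l) _).1
  have hle := (evalP_det P U hUint).1
  rw [hUdet, map_mul, hvz] at hle
  have hdetle : P.1 (wrMat τ Ht φ'' J).det ≤ WithZero.exp (-(-m)) := by
    rw [neg_neg]
    have h0 : (0 : WithZero (Multiplicative ℤ)) < WithZero.exp (-m) := WithZero.exp_pos
    calc P.1 (wrMat τ Ht φ'' J).det
        = WithZero.exp m * (WithZero.exp (-m) * P.1 (wrMat τ Ht φ'' J).det) := by
          rw [← mul_assoc, ← WithZero.exp_add]; simp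
      _ ≤ WithZero.exp m * 1 := mul_le_mul_right hle _
      _ = WithZero.exp m := mul_one _
  have := (val_le_exp_iff_ord P hdet _).1 hdetle
  omega

theorem main12603 [IsAlgClosed k] (hK : IsFunctionField k K) {n : ℕ}
    (φ : Fin (n + 1) → K) (hφ : LinearIndependent k φ) (τ : K →ₐ[k] K)
    (s : K) (H : K →ₐ[k] K⟦X⟧) (hH : LocRes.IsHasseFamily s H)
    (J : Fin n → ℕ) (hJ : IsOrders K (hcol τ H φ) J)
    (Φ : Place k K → (K →ₐ[k] LaurentSeries k))
    (hΦ : ∀ P : Place k K, LocRes.IsExpansionAt P.1 (Φ P)) :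
    0 ≤ wDiv τ H Φ s φ J ∧
    (wDiv τ H Φ s φ J).deg =
      ((Module.finrank τ.fieldRange K : ℤ) + n) * (mapDiv k φ).deg +
        (2 * (genus k K : ℤ) - 2) * ∑ l, (J l : ℤ) := by
  refine ⟨fun P => wDiv_nonneg_at hK φ hφ τ s H hH J hJ Φ hΦ P, ?_⟩
  unfold wDiv
  rw [Divisor.deg_add, Divisor.deg_add, Divisor.deg_add, deg_div hK, Divisor.deg_smul,
    Divisor.deg_smul, Groth.Agent.Helper16.FFW.deg_mapDiv_comp_algHom hK τ φ,
    Groth.Agent.Helper27.Tate.deg_divDiff hK Φ hΦ s (ds_ne_zero s H hH)]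
  ring

end Groth.Agent.Helper27.Loc
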