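import Mathlib
import Groth.Agent.Lib.Helper27.LocP
import Groth.Agent.Lib.Helper27.LocH

set_option autoImplicit false

namespace Groth.Agent.Helper27.Loc

open PowerSeries FunFld IntermediateField
open scoped LaurentSeries
open Groth.Agent.Helper16.FF Groth.Agent.Helper27.Hasse Groth.Agent.Helper27.Expn

variable {k K : Type*} [Field k] [Field K] [Algebra k K]

/-- a family of expansions over an algebraically closed field -/
theorem exists_expansions [IsAlgClosed k] (hK : IsFunctionField k K) :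
    ∃ Φ : Place k K → (K →ₐ[k] LaurentSeries k),
      ∀ P : Place k K, LocRes.IsExpansionAt P.1 (Φ P) := by
  have : ∀ P : Place k K, ∃ ε : K →ₐ[k] LaurentSeries k, LocRes.IsExpansionAt P.1 ε := by
    intro P
    obtain ⟨t, ht⟩ := Place.exists_uniformizer P
    obtain ⟨ε, hε, -⟩ := exists_expansion hK P t ht
    exact ⟨ε, hε⟩
  choose Φ hΦ using this
  exact ⟨Φ, hΦ⟩

/-- at a strong fixed point the Weierstrass divisor has coefficient at least `n` -/
theorem le_wDiv_of_strongFixed [IsAlgClosed k] (hK : IsFunctionField k K) {n : ℕ} (hn : 0 < n)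
    (φ : Fin (n + 1) → K) (hφ : LinearIndependent k φ) (τ : K →ₐ[k] K)
    (s : K) (H : K →ₐ[k] K⟦X⟧) (hH : LocRes.IsHasseFamily s H)
    (J : Fin n → ℕ) (hJ : IsOrders K (hcol τ H φ) J)
    (Φ : Place k K → (K →ₐ[k] LaurentSeries k))
    (hΦ : ∀ P : Place k K, LocRes.IsExpansionAt P.1 (Φ P)) (P : Place k K)
    (hP : IsStrongFixedPt τ P) :
    (n : ℤ) ≤ wDiv τ H Φ s φ J P := by
  classical
  obtain ⟨t, Ht, φ'', ht, hHt, hli, hnorm, heff, ⟨j0, hj0⟩, hJ'', hinv⟩ :=
    exists_local_setup hK φ hφ τ s H hH J hJ Φ hΦ P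
  rw [← hinv]
  have hfix : IsFixedPt τ P := fun z hz =>
    lt_of_le_of_lt (hP z hz) (by rw [← WithZero.exp_zero, WithZero.exp_lt_exp]; norm_num)
  have hrows := main12599 hK φ'' hli P hnorm t ht Ht hHt
  have hspan : Submodule.span (IsLocalRing.ResidueField P.O) (Set.range (hcolAt P Ht φ'')) = ⊤ :=
    span_cols_eq_top (hcolAt P Ht φ'') hrows
  have hc0 : hcolAt P Ht φ'' 0 ≠ 0 := by
    intro h
    have := congrFun h j0
    simp only [hcolAt, Pi.zero_apply] at this
    rw [hj0, evalP_one] at this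
    exact one_ne_zero this
  obtain ⟨J', hJ'⟩ := exists_orders (hcolAt P Ht φ'') hc0 hspan
  have hpos' := orders_pos hK P φ'' hnorm t ht Ht hHt J' hJ'
  have h06 := main12606 hK τ P hP hn φ'' hli heff hnorm t ht Ht hHt J hJ'' J' hJ'
  have hmain := (main12615 hK τ P hfix φ'' hli heff hnorm t ht Ht hHt J hJ'' J' hJ' Φ hΦ).1
  have hsum : (n : ℤ) ≤ ∑ l, ((J' l : ℤ) - J l) := by
    have : ∑ _l : Fin n, (1 : ℤ) ≤ ∑ l, ((J' l : ℤ) - J l) := by
      apply Finset.sum_le_sum
      intro l _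
      have h1 := h06 l
      have h2 := hpos' ⟨0, hn⟩
      omega
    simpa using this
  omega

theorem main12604 [IsAlgClosed k] (hK : IsFunctionField k K) (τ : K →ₐ[k] K) {n : ℕ}
    (φ : Fin (n + 1) → K) (hφ : LinearIndependent k φ)
    (hτφ : ¬ ∃ y : K, ∀ i, τ (φ i) = y * φ i) (s : K) (H : K →ₐ[k] K⟦X⟧)
    (hH : LocRes.IsHasseFamily s H)
    (J : Fin n → ℕ) (hJ : IsOrders K (hcol τ H φ) J) :
    {P : Place k K | IsStrongFixedPt τ P}.Finite ∧
    (n : ℤ) * (Set.ncard {P : Place k K | IsStrongFixedPt τ P} : ℤ) ≤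
      ((n : ℤ) + Module.finrank τ.fieldRange K) * (mapDiv k φ).deg +
        (2 * (genus k K : ℤ) - 2) * ∑ l, (J l : ℤ) := by
  classical
  have hn : 0 < n := by
    by_contra hn0
    have hn0' : n = 0 := by omega
    subst hn0'
    apply hτφ
    refine ⟨τ (φ 0) / φ 0, fun i => ?_⟩
    have hi : i = 0 := Fin.ext (by have := i.2; omega)
    rw [hi, div_mul_cancel₀ _ (hφ.ne_zero 0)]
  obtain ⟨Φ, hΦ⟩ := exists_expansions hK
  obtain ⟨hW0, hWdeg⟩ := main12603 hK φ hφ τ s H hH J hJ Φ hΦ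
  set W := wDiv τ H Φ s φ J with hW
  have hle : ∀ P : Place k K, IsStrongFixedPt τ P → (n : ℤ) ≤ W P := fun P hP =>
    le_wDiv_of_strongFixed hK hn φ hφ τ s H hH J hJ Φ hΦ P hP
  have hsub : {P : Place k K | IsStrongFixedPt τ P} ⊆ ↑W.support := by
    intro P hP
    rw [Finset.mem_coe, Finsupp.mem_support_iff]
    have := hle P hP
    have hn' : (0 : ℤ) < n := by exact_mod_cast hn
    omega
  have hfin : {P : Place k K | IsStrongFixedPt τ P}.Finite := W.support.finite_toSet.subset hsub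
  refine ⟨hfin, ?_⟩
  have hdeg : W.deg = ∑ P ∈ W.support, W P := by
    rw [Divisor.deg_eq_sum W W.support le_rfl]
    refine Finset.sum_congr rfl fun P _ => ?_
    rw [Place.deg_eq_one hK P]; simp
  have hcard : (Set.ncard {P : Place k K | IsStrongFixedPt τ P} : ℤ) = hfin.toFinset.card := by
    rw [Set.ncard_eq_toFinset_card _ hfin]
  have hsubF : hfin.toFinset ⊆ W.support := by
    intro P hP
    rw [Set.Finite.mem_toFinset] at hP
    exact hsub hP
  have h1 : (n : ℤ) * hfin.toFinset.card ≤ ∑ P ∈ hfin.toFinset, W P := by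
    rw [mul_comm, ← nsmul_eq_mul, ← Finset.sum_const]
    apply Finset.sum_le_sum
    intro P hP
    rw [Set.Finite.mem_toFinset] at hP
    exact hle P hP
  have h2 : ∑ P ∈ hfin.toFinset, W P ≤ ∑ P ∈ W.support, W P :=
    Finset.sum_le_sum_of_subset_of_nonneg hsubF (fun P _ _ => hW0 P)
  rw [hcard]
  calc (n : ℤ) * hfin.toFinset.card ≤ W.deg := by rw [hdeg]; exact h1.trans h2
    _ = _ := by rw [hWdeg]; ring

end Groth.Agent.Helper27.Loc
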