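import Mathlib
import Groth.Agent.Lib.Helper27.LocP

set_option autoImplicit false

namespace Groth.Agent.Helper27.Loc

open PowerSeries FunFld IntermediateField
open scoped LaurentSeries
open Groth.Agent.Helper16.FF Groth.Agent.Helper27.Hasse Groth.Agent.Helper27.Expn

variable {k K : Type*} [Field k] [Field K] [Algebra k K]

/-- Local set-up with the explicit scaling factor. -/
theorem exists_local_setup' [IsAlgClosed k] (hK : IsFunctionField k K) {n : ℕ}
    (φ : Fin (n + 1) → K) (hφ : LinearIndependent k φ) (τ : K →ₐ[k] K)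
    (s : K) (H : K →ₐ[k] K⟦X⟧) (hH : LocRes.IsHasseFamily s H)
    (J : Fin n → ℕ) (hJ : IsOrders K (hcol τ H φ) J)
    (Φ : Place k K → (K →ₐ[k] LaurentSeries k))
    (hΦ : ∀ P : Place k K, LocRes.IsExpansionAt P.1 (Φ P)) (P : Place k K) :
    ∃ (t : K) (Ht : K →ₐ[k] K⟦X⟧) (y : K), y ≠ 0 ∧
      P.1 t = WithZero.exp (-1) ∧ LocRes.IsHasseFamily t Ht ∧
      LinearIndependent k (fun i => y * φ i) ∧
      (∀ i, P.1 (y * φ i) ≤ 1) ∧ (1 : K) ∈ Submodule.span k (Set.range (fun i => y * φ i)) ∧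
      (∃ j0, y * φ j0 = 1) ∧
      IsOrders K (hcol τ Ht (fun i => y * φ i)) J ∧
      wDiv τ Ht Φ t (fun i => y * φ i) J = wDiv τ H Φ s φ J := by
  classical
  have h1 := finrank_kaehler_of_isAlgClosed hK
  obtain ⟨t, ht⟩ := (hΦ P).2.2
  have hds := ds_ne_zero s H hH
  have hdt := D_unif_ne_zero h1 P (Φ P) (hΦ P) s hds t ht
  obtain ⟨c, hc⟩ := (finrank_eq_one_iff_of_nonzero' (KaehlerDifferential.D k K s) hds).1 h1
    (KaehlerDifferential.D k K t)
  have hcu := D_eq_hasseD_one_smul h1 s H hH t c hc.symm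
  have hu : coeff 1 (H t) ≠ 0 := by
    intro hu0
    rw [LocRes.hasseD_apply, hu0] at hcu
    rw [hcu, zero_smul] at hc
    exact hdt hc.symm
  obtain ⟨Ht, hHt⟩ := exists_hasse s H hH t hu
  obtain ⟨j0, -, hj0⟩ := Finset.exists_max_image Finset.univ (fun i => P.1 (φ i))
    Finset.univ_nonempty
  have hφj0 : φ j0 ≠ 0 := hφ.ne_zero j0
  set y := (φ j0)⁻¹ with hy
  have hy0 : y ≠ 0 := inv_ne_zero hφj0
  set φ'' : Fin (n + 1) → K := fun i => y * φ i with hφ''
  have hnorm : ∀ i, P.1 (φ'' i) ≤ 1 := by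
    intro i
    simp only [hφ'', hy]
    rw [map_mul, map_inv₀, inv_mul_le_iff₀ (by
      exact lt_of_le_of_ne zero_le (Ne.symm ((Valuation.ne_zero_iff _).2 hφj0))), mul_one]
    exact hj0 i (Finset.mem_univ i)
  have hφ''j0 : φ'' j0 = 1 := by simp only [hφ'', hy]; exact inv_mul_cancel₀ hφj0
  have heff : (1 : K) ∈ Submodule.span k (Set.range φ'') :=
    Submodule.subset_span ⟨j0, hφ''j0⟩
  have hφ''li : LinearIndependent k φ'' :=
    hφ.map' (LinearMap.mulLeft k y) (LinearMap.ker_eq_bot.2 (mul_right_injective₀ hy0))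
  have hinv : wDiv τ Ht Φ t φ'' J = wDiv τ H Φ s φ J :=
    main12614 hK φ hφ τ s H hH t Ht hHt J hJ 1 (by simp) y hy0 φ'' (fun i => by
      simp only [hφ'', Matrix.one_apply, ite_smul, one_smul, zero_smul, Finset.sum_ite_eq,
        Finset.mem_univ, if_true]) Φ hΦ
  have hJt : IsOrders K (hcol τ Ht φ) J :=
    ((main12598 hK φ τ s H hH t Ht hHt).1 J).2 hJ
  have hJ'' : IsOrders K (hcol τ Ht φ'') J :=
    (isOrders_hcol_smul_iff τ Ht hHt φ y hy0 J).2 hJt
  exact ⟨t, Ht, y, hy0, ht, hHt, hφ''li, hnorm, heff, ⟨j0, hφ''j0⟩, hJ'', hinv⟩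

end Groth.Agent.Helper27.Loc
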