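import Mathlib
import Groth.Prelude.Def_LocRes
set_option autoImplicit false
universe u
open LaurentSeries HahnSeries

namespace Groth.Agent.Helper27.LR

theorem main (k : Type u) [Field k] [CharZero k] :
    (∀ f : LaurentSeries k, LocRes.D k f = 0 ↔ f = HahnSeries.C (f.coeff 0)) ∧
      ∀ g : LaurentSeries k, (∃ f : LaurentSeries k, LocRes.D k f = g) ↔ LocRes.res k g = 0 := by
  constructor
  · intro f
    constructor
    · intro h
      ext n
      rw [HahnSeries.C_apply, HahnSeries.coeff_single]
      split_ifs with hn
      · rw [hn]
      · have := congrArg (fun s => HahnSeries.coeff s (n - 1)) h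
        simp only [LocRes.D_coeff, HahnSeries.coeff_zero, sub_add_cancel] at this
        rw [zsmul_eq_mul] at this
        rcases mul_eq_zero.1 this with h1 | h1
        · exfalso; apply hn; exact_mod_cast h1
        · exact h1
    · intro h
      ext n
      rw [LocRes.D_coeff, HahnSeries.coeff_zero, h, HahnSeries.C_apply, HahnSeries.coeff_single]
      split_ifs with hn
      · have : n + 1 = 0 := hn
        rw [this, zero_smul]
      · rw [smul_zero]
  · intro g
    constructor
    · rintro ⟨f, rfl⟩
      rw [LocRes.res_apply, LocRes.D_coeff]
      simp
    · intro h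
      rw [LocRes.res_apply] at h
      have hbdd : BddBelow (Function.support (fun m : ℤ => g.coeff (m - 1) / (m : k))) := by
        refine ⟨g.order + 1, ?_⟩
        intro m hm
        rw [Function.mem_support] at hm
        by_contra hlt
        apply hm
        rw [HahnSeries.coeff_eq_zero_of_lt_order (by omega), zero_div]
      refine ⟨HahnSeries.ofSuppBddBelow _ hbdd, ?_⟩
      ext n
      rw [LocRes.D_coeff, HahnSeries.coeff_ofSuppBddBelow]
      simp only [add_sub_cancel_right]
      by_cases hn : n + 1 = 0
      · have : n = -1 := by omega
        subst this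
        simp [h]
      · rw [zsmul_eq_mul]
        have : ((n + 1 : ℤ) : k) ≠ 0 := by exact_mod_cast hn
        field_simp

end Groth.Agent.Helper27.LR
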