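import Mathlib

set_option autoImplicit false
universe u

namespace Groth.Agent.Helper27.LD

open Finset

section dom
variable {R : Type u} [CommRing R] [IsDomain R] {r : ℕ} (f : Fin r → R)

/-- a divisor of a product of primes is a unit times a product of those primes. -/
lemma factor_of_mul_eq (hf : ∀ i, Prime (f i)) :
    ∀ (M : Multiset (Fin r)) (x y : R), x * y = (M.map f).prod →
      ∃ (b : Rˣ) (c : Fin r → ℕ), x = b * ∏ i, f i ^ c i := by
  intro M
  induction M using Multiset.induction with
  | empty =>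
    intro x y h
    rw [Multiset.map_zero, Multiset.prod_zero] at h
    refine ⟨(IsUnit.of_mul_eq_one y h).unit, fun _ => 0, ?_⟩
    simp
  | cons j M ih =>
    intro x y h
    rw [Multiset.map_cons, Multiset.prod_cons] at h
    have hdvd : f j ∣ x * y := ⟨_, h⟩
    rcases (hf j).dvd_or_dvd hdvd with ⟨x', rfl⟩ | ⟨y', rfl⟩
    · have h' : x' * y = (M.map f).prod := by
        apply mul_left_cancel₀ (hf j).ne_zero
        rw [← h]; ring
      obtain ⟨b, c, hc⟩ := ih x' y h'
      refine ⟨b, c + Pi.single j 1, ?_⟩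
      rw [hc]
      simp only [Pi.add_apply, pow_add, Finset.prod_mul_distrib]
      have : ∏ i, f i ^ (Pi.single j 1 : Fin r → ℕ) i = f j := by
        rw [Finset.prod_eq_single j]
        · simp
        · intro i _ hij; simp [Pi.single_apply, hij]
        · intro h; exact absurd (Finset.mem_univ j) h
      rw [this]; ring
    · have h' : x * y' = (M.map f).prod := by
        apply mul_left_cancel₀ (hf j).ne_zero
        rw [← h]; ring
      exact ih x y' h'

lemma emult_eq (hf : ∀ i, Prime (f i)) (hfa : ∀ i j, Associated (f i) (f j) → i = j)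
    (u : Rˣ) (c : Fin r → ℕ) (j : Fin r) :
    emultiplicity (f j) ((u : R) * ∏ i, f i ^ c i) = c j := by
  rw [emultiplicity_mul (hf j), emultiplicity_of_unit_right (hf j).not_isUnit, zero_add,
    Finset.emultiplicity_prod (hf j)]
  rw [Finset.sum_eq_single j]
  · exact emultiplicity_pow_self_of_prime (hf j) _
  · intro i _ hij
    rw [emultiplicity_pow (hf j)]
    have : emultiplicity (f j) (f i) = 0 := by
      rw [emultiplicity_eq_zero]
      intro hd
      exact hij ((hfa j i ((hf j).associated_of_dvd (hf i) hd)).symm)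
    rw [this, mul_zero]
  · intro h; exact absurd (Finset.mem_univ j) h

end dom

theorem main579
    {R K : Type u} [CommRing R]
    [Field K] [Algebra R K] [IsFractionRing R K]
    {r : ℕ} (f : Fin r → R) (hf : ∀ i, Prime (f i)) (hfa : ∀ i j, Associated (f i) (f j) → i = j)
    (w : Kˣ)
    (hw : ∃ (a : R) (n : ℕ), (w : K) * algebraMap R K ((∏ i, f i) ^ n) = algebraMap R K a)
    (hw' : ∃ (a : R) (n : ℕ), (w⁻¹ : Kˣ) * algebraMap R K ((∏ i, f i) ^ n) = algebraMap R K a) :
    ∃! vb : Rˣ × (Fin r → ℤ),
      (w : K) = algebraMap R K (vb.1 : R) * ∏ i, (algebraMap R K (f i)) ^ (vb.2 i) := by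
  classical
  have hinj : Function.Injective (algebraMap R K) := IsFractionRing.injective R K
  have : IsDomain R := Function.Injective.isDomain (algebraMap R K) hinj
  have hne : ∀ i, algebraMap R K (f i) ≠ 0 := fun i => by
    rw [Ne, map_eq_zero_iff _ hinj]; exact (hf i).ne_zero
  obtain ⟨a, n, ha⟩ := hw
  obtain ⟨a', m, ha'⟩ := hw'
  have haa : a * a' = ((((n + m) • (Finset.univ : Finset (Fin r)).val).map f).prod) := by
    apply hinj
    rw [map_mul, ← ha, ← ha', Multiset.map_nsmul, Multiset.prod_nsmul]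
    change _ = algebraMap R K ((∏ i, f i) ^ (n + m))
    rw [pow_add, map_mul]
    have : (w : K) * ((w⁻¹ : Kˣ) : K) = 1 := by simp
    linear_combination (algebraMap R K ((∏ i, f i) ^ n) * algebraMap R K ((∏ i, f i) ^ m)) * this
  obtain ⟨b, c, hbc⟩ := factor_of_mul_eq f hf _ a a' haa
  have hFne : algebraMap R K ((∏ i, f i) ^ n) ≠ 0 := by
    rw [Ne, map_eq_zero_iff _ hinj]
    exact pow_ne_zero _ (Finset.prod_ne_zero_iff.mpr fun i _ => (hf i).ne_zero)
  refine ⟨(b, fun i => (c i : ℤ) - n), ?_, ?_⟩
  · dsimp only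
    have hw1 : (w : K) = algebraMap R K a / algebraMap R K ((∏ i, f i) ^ n) := by
      rw [eq_div_iff hFne, ha]
    rw [hw1, hbc]
    simp only [map_mul, map_prod, map_pow]
    have : ∀ i, algebraMap R K (f i) ^ ((c i : ℤ) - n) =
        algebraMap R K (f i) ^ c i / algebraMap R K (f i) ^ n := by
      intro i
      rw [zpow_sub₀ (hne i), zpow_natCast, zpow_natCast]
    simp only [this, Finset.prod_div_distrib, Finset.prod_pow]
    rw [mul_div_assoc]
  · rintro ⟨v', β'⟩ h'
    dsimp only at h'
    -- compare with (b, c - n)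
    have h0 : (w : K) = algebraMap R K (b : R) * ∏ i, (algebraMap R K (f i)) ^ ((c i : ℤ) - n) := by
      have hw1 : (w : K) = algebraMap R K a / algebraMap R K ((∏ i, f i) ^ n) := by
        rw [eq_div_iff hFne, ha]
      rw [hw1, hbc]
      simp only [map_mul, map_prod, map_pow]
      have : ∀ i, algebraMap R K (f i) ^ ((c i : ℤ) - n) =
          algebraMap R K (f i) ^ c i / algebraMap R K (f i) ^ n := by
        intro i
        rw [zpow_sub₀ (hne i), zpow_natCast, zpow_natCast]
      simp only [this, Finset.prod_div_distrib, Finset.prod_pow]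
      rw [mul_div_assoc]
    -- clear denominators
    set β : Fin r → ℤ := fun i => (c i : ℤ) - n with hβ
    obtain ⟨N, hN, hN'⟩ : ∃ N : ℕ, (∀ i, 0 ≤ β i + N) ∧ (∀ i, 0 ≤ β' i + N) := by
      obtain ⟨S1, hS1⟩ : ∃ S1 : ℕ, S1 = ∑ i, (β i).natAbs := ⟨_, rfl⟩
      obtain ⟨S2, hS2⟩ : ∃ S2 : ℕ, S2 = ∑ i, (β' i).natAbs := ⟨_, rfl⟩
      refine ⟨S1 + S2, fun i => ?_, fun i => ?_⟩
      · have h1 : (β i).natAbs ≤ S1 := hS1 ▸
          Finset.single_le_sum (f := fun i => (β i).natAbs) (fun _ _ => Nat.zero_le _) (Finset.mem_univ i)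
        omega
      · have h1 : (β' i).natAbs ≤ S2 := hS2 ▸
          Finset.single_le_sum (f := fun i => (β' i).natAbs) (fun _ _ => Nat.zero_le _) (Finset.mem_univ i)
        omega
    have key : ∀ (v : Rˣ) (γ : Fin r → ℤ), (∀ i, 0 ≤ γ i + N) →
        (algebraMap R K (v : R) * ∏ i, (algebraMap R K (f i)) ^ (γ i)) *
          ∏ i, (algebraMap R K (f i)) ^ N =
        algebraMap R K ((v : R) * ∏ i, f i ^ (γ i + N).toNat) := by
      intro v γ hγ
      rw [mul_assoc, ← Finset.prod_mul_distrib, map_mul, map_prod]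
      congr 1
      apply Finset.prod_congr rfl
      intro i _
      rw [map_pow, ← zpow_natCast, ← zpow_natCast, ← zpow_add₀ (hne i), Int.toNat_of_nonneg (hγ i)]
    have e1 := key b β hN
    have e2 := key v' β' hN'
    rw [← h0] at e1
    rw [← h'] at e2
    have e3 := hinj (e1.symm.trans e2)
    have hexp : ∀ j, (β j + N).toNat = (β' j + N).toNat := by
      intro j
      have := congrArg (emultiplicity (f j)) e3
      rw [emult_eq f hf hfa, emult_eq f hf hfa] at this
      exact_mod_cast this
    have hββ' : β' = β := by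
      funext j
      have := hexp j
      have h1 := Int.toNat_of_nonneg (hN j)
      have h2 := Int.toNat_of_nonneg (hN' j)
      omega
    have hv : v' = b := by
      subst hββ'
      have hP : (∏ i, (algebraMap R K (f i)) ^ (β i)) ≠ 0 :=
        Finset.prod_ne_zero_iff.mpr fun i _ => zpow_ne_zero _ (hne i)
      have := h0.symm.trans h'
      have := mul_right_cancel₀ hP this
      exact (Units.ext (hinj this)).symm
    rw [hv, hββ']

end Groth.Agent.Helper27.LD
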