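import Mathlib
import Groth.Prelude.Def_Magnet3
set_option autoImplicit false
universe v₁ u₁
open CategoryTheory CategoryTheory.Limits MonoidalCategory CartesianMonoidalCategory MonObj Opposite
open Magnet Magnet.MonAct

namespace Groth.Agent.Helper27.Mg

variable {C : Type u₁} [Category.{v₁} C] [CartesianMonoidalCategory C]

lemma aux291 {A X : C} [MonObj A] (a : Magnet.MonAct A X) {T : C} (φ : A ⊗ T ⟶ X)
    (hφ : IsEquivariant ((regular A).prod (MonAct.trivial A T)) a φ) :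
    (A ◁ (lift (toUnit T ≫ η[A]) (𝟙 T) ≫ φ)) ≫ a.act = φ := by
  apply hom_ext_lift₂
  intro T' g t
  have h := (mem_eqvHom_iff φ).1 hφ T' g (1 : T' ⟶ A) t
  rw [lift_regular_act, _root_.mul_one] at h
  rw [h, lift_whiskerLeft_assoc]
  congr 2
  rw [comp_lift_assoc, Category.comp_id, ← Category.assoc, Hom.one_def]
  congr 2
  congr 1
  exact toUnit_unique _ _

theorem main291 (A X : C) [MonObj A] (a : Magnet.MonAct A X) :
    Magnet.MonAct.eqvHom.ofPoint a ≫ Magnet.MonAct.eqvHom.evalAt (Magnet.MonAct.regular A) a η[A] = 𝟙 _ ∧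
      Magnet.MonAct.eqvHom.evalAt (Magnet.MonAct.regular A) a η[A] ≫ Magnet.MonAct.eqvHom.ofPoint a = 𝟙 _ := by
  constructor
  · ext T x
    simp only [NatTrans.comp_app, NatTrans.id_app]
    change lift (toUnit (unop T) ≫ η[A]) (𝟙 (unop T)) ≫ ((A ◁ x) ≫ a.act) = x
    rw [lift_whiskerLeft_assoc, Category.id_comp, ← Hom.one_def, lift_one_act]
  · ext T φ
    simp only [NatTrans.comp_app, NatTrans.id_app]
    apply Subtype.ext
    exact aux291 a φ.1 φ.2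


theorem main292 {A B X₁ X₂ X₃ P : C} [MonObj A] (ρ : Magnet.MonAct A B) (a₁ : Magnet.MonAct A X₁) (a₂ : Magnet.MonAct A X₂)
    (a₃ : Magnet.MonAct A X₃) (aP : Magnet.MonAct A P) (f₁ : X₁ ⟶ X₂) (f₃ : X₃ ⟶ X₂) (p₁ : P ⟶ X₁) (p₃ : P ⟶ X₃)
    (hsq : IsPullback p₁ p₃ f₁ f₃) (hf₁ : Magnet.MonAct.IsEquivariant a₁ a₂ f₁)
    (hf₃ : Magnet.MonAct.IsEquivariant a₃ a₂ f₃) (hp₁ : Magnet.MonAct.IsEquivariant aP a₁ p₁)
    (hp₃ : Magnet.MonAct.IsEquivariant aP a₃ p₃) :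
    IsPullback (Magnet.MonAct.eqvHom.postcomp ρ p₁ hp₁) (Magnet.MonAct.eqvHom.postcomp ρ p₃ hp₃)
      (Magnet.MonAct.eqvHom.postcomp ρ f₁ hf₁) (Magnet.MonAct.eqvHom.postcomp ρ f₃ hf₃) := by
  apply IsPullback.of_forall_isPullback_app
  intro T
  rw [Types.isPullback_iff]
  refine ⟨?_, ?_, ?_⟩
  · ext φ
    apply Subtype.ext
    change (φ.1 ≫ p₁) ≫ f₁ = (φ.1 ≫ p₃) ≫ f₃
    rw [Category.assoc, Category.assoc, hsq.w]
  · rintro φ ψ ⟨h1, h3⟩
    apply Subtype.ext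
    have e1 : φ.1 ≫ p₁ = ψ.1 ≫ p₁ := congrArg Subtype.val h1
    have e3 : φ.1 ≫ p₃ = ψ.1 ≫ p₃ := congrArg Subtype.val h3
    exact hsq.hom_ext e1 e3
  · intro φ₁ φ₃ h
    have hw : φ₁.1 ≫ f₁ = φ₃.1 ≫ f₃ := congrArg Subtype.val h
    refine ⟨⟨hsq.lift φ₁.1 φ₃.1 hw, ?_⟩, ?_, ?_⟩
    · unfold IsEquivariant
      apply hsq.hom_ext
      · rw [Category.assoc, hsq.lift_fst, Category.assoc, hp₁, ← MonoidalCategory.whiskerLeft_comp_assoc,
          hsq.lift_fst]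
        exact φ₁.2
      · rw [Category.assoc, hsq.lift_snd, Category.assoc, hp₃, ← MonoidalCategory.whiskerLeft_comp_assoc,
          hsq.lift_snd]
        exact φ₃.2
    · apply Subtype.ext
      exact hsq.lift_fst _ _ _
    · apply Subtype.ext
      exact hsq.lift_snd _ _ _


theorem main293 {A X₁ X₂ X₃ P : C} [MonObj A] (a₁ : Magnet.MonAct A X₁) (a₂ : Magnet.MonAct A X₂) (a₃ : Magnet.MonAct A X₃)
    (f₁ : X₁ ⟶ X₂) (f₃ : X₃ ⟶ X₂) (p₁ : P ⟶ X₁) (p₃ : P ⟶ X₃) (hsq : IsPullback p₁ p₃ f₁ f₃)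
    (hf₁ : Magnet.MonAct.IsEquivariant a₁ a₂ f₁) (hf₃ : Magnet.MonAct.IsEquivariant a₃ a₂ f₃) :
    ∃! aP : Magnet.MonAct A P, Magnet.MonAct.IsEquivariant aP a₁ p₁ ∧ Magnet.MonAct.IsEquivariant aP a₃ p₃ := by
  have hw : ((A ◁ p₁) ≫ a₁.act) ≫ f₁ = ((A ◁ p₃) ≫ a₃.act) ≫ f₃ := by
    rw [Category.assoc, Category.assoc, hf₁, hf₃, ← MonoidalCategory.whiskerLeft_comp_assoc,
      ← MonoidalCategory.whiskerLeft_comp_assoc, hsq.w]
  set act : A ⊗ P ⟶ P := hsq.lift ((A ◁ p₁) ≫ a₁.act) ((A ◁ p₃) ≫ a₃.act) hw with hact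
  have h1 : act ≫ p₁ = (A ◁ p₁) ≫ a₁.act := hsq.lift_fst _ _ _
  have h3 : act ≫ p₃ = (A ◁ p₃) ≫ a₃.act := hsq.lift_snd _ _ _
  have hone : ∀ (T : C) (x : T ⟶ P), lift (1 : T ⟶ A) x ≫ act = x := by
    intro T x
    apply hsq.hom_ext
    · rw [Category.assoc, h1, lift_whiskerLeft_assoc, lift_one_act]
    · rw [Category.assoc, h3, lift_whiskerLeft_assoc, lift_one_act]
  have hmul : ∀ (T : C) (g h : T ⟶ A) (x : T ⟶ P),
      lift (g * h) x ≫ act = lift g (lift h x ≫ act) ≫ act := by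
    intro T g h x
    apply hsq.hom_ext
    · rw [Category.assoc, h1, lift_whiskerLeft_assoc, lift_mul_act, Category.assoc, h1,
        lift_whiskerLeft_assoc, Category.assoc, h1, lift_whiskerLeft_assoc]
    · rw [Category.assoc, h3, lift_whiskerLeft_assoc, lift_mul_act, Category.assoc, h3,
        lift_whiskerLeft_assoc, Category.assoc, h3, lift_whiskerLeft_assoc]
  refine ⟨MonAct.mk' act hone hmul, ⟨h1, h3⟩, ?_⟩
  rintro aP' ⟨h1', h3'⟩
  apply MonAct.ext'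
  rw [mk'_act]
  apply hsq.hom_ext
  · rw [h1]; exact h1'
  · rw [h3]; exact h3'

/-- a pair of equivariant maps is equivariant into the product -/
lemma isEquivariant_lift {A B Y Z : C} [MonObj A] (ρ : Magnet.MonAct A B) (a : Magnet.MonAct A Y)
    (b : Magnet.MonAct A Z) {T : C} (φ₁ : B ⊗ T ⟶ Y) (φ₂ : B ⊗ T ⟶ Z)
    (h₁ : IsEquivariant (ρ.prod (MonAct.trivial A T)) a φ₁)
    (h₂ : IsEquivariant (ρ.prod (MonAct.trivial A T)) b φ₂) :
    IsEquivariant (ρ.prod (MonAct.trivial A T)) (a.prod b) (lift φ₁ φ₂) := by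
  rw [mem_eqvHom_iff] at h₁ h₂ ⊢
  intro T' g b' t
  rw [comp_lift, comp_lift, lift_prod_act, h₁, h₂]

theorem main296 {A B Y Z : C} [MonObj A] (ρ : Magnet.MonAct A B) (a : Magnet.MonAct A Y) (b : Magnet.MonAct A Z) (T : Cᵒᵖ) :
    Function.Bijective (fun φ : (Magnet.MonAct.eqvHom ρ (a.prod b)).obj T =>
      ((Magnet.MonAct.eqvHom.postcomp ρ (fst Y Z) (Magnet.MonAct.isEquivariant_prod_fst a b)).app T φ,
        (Magnet.MonAct.eqvHom.postcomp ρ (snd Y Z) (Magnet.MonAct.isEquivariant_prod_snd a b)).app T φ)) := by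
  constructor
  · intro φ ψ h
    have e1 : φ.1 ≫ fst Y Z = ψ.1 ≫ fst Y Z := congrArg (fun p => p.1.1) h
    have e2 : φ.1 ≫ snd Y Z = ψ.1 ≫ snd Y Z := congrArg (fun p => p.2.1) h
    apply Subtype.ext
    exact CartesianMonoidalCategory.hom_ext _ _ e1 e2
  · rintro ⟨φ₁, φ₂⟩
    refine ⟨⟨lift φ₁.1 φ₂.1, isEquivariant_lift ρ a b φ₁.1 φ₂.1 φ₁.2 φ₂.2⟩, ?_⟩
    apply Prod.ext
    · apply Subtype.ext
      exact lift_fst _ _
    · apply Subtype.ext
      exact lift_snd _ _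

theorem main297 {A B X : C} [MonObj A] [MonObj X] (ρ : Magnet.MonAct A B) (a : Magnet.MonAct A X)
    (hμ : Magnet.MonAct.IsEquivariant (a.prod a) a μ[X])
    (hη : Magnet.MonAct.IsEquivariant (Magnet.MonAct.trivial A (𝟙_ C)) a η[X]) (T : C) (φ ψ : B ⊗ T ⟶ X)
    (hφ : Magnet.MonAct.IsEquivariant (ρ.prod (Magnet.MonAct.trivial A T)) a φ)
    (hψ : Magnet.MonAct.IsEquivariant (ρ.prod (Magnet.MonAct.trivial A T)) a ψ) :
    Magnet.MonAct.IsEquivariant (ρ.prod (Magnet.MonAct.trivial A T)) a (φ * ψ) ∧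
      Magnet.MonAct.IsEquivariant (ρ.prod (Magnet.MonAct.trivial A T)) a (1 : B ⊗ T ⟶ X) := by
  constructor
  · rw [Hom.mul_def]
    exact (isEquivariant_lift ρ a a φ ψ hφ hψ).comp hμ
  · rw [Hom.one_def]
    refine IsEquivariant.comp (b := MonAct.trivial A (𝟙_ C)) ?_ hη
    unfold IsEquivariant
    exact toUnit_unique _ _

theorem main301 {A B X : C} [MonObj A] [GrpObj X] (ρ : Magnet.MonAct A B) (a : Magnet.MonAct A X)
    (hμ : Magnet.MonAct.IsEquivariant (a.prod a) a μ[X]) (T : C) (φ : B ⊗ T ⟶ X)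
    (hφ : Magnet.MonAct.IsEquivariant (ρ.prod (Magnet.MonAct.trivial A T)) a φ) :
    Magnet.MonAct.IsEquivariant (ρ.prod (Magnet.MonAct.trivial A T)) a φ⁻¹ := by
  -- points form of hμ
  have hmul : ∀ (T' : C) (g : T' ⟶ A) (x y : T' ⟶ X),
      lift g (x * y) ≫ a.act = (lift g x ≫ a.act) * (lift g y ≫ a.act) := by
    intro T' g x y
    have := (isEquivariant_iff _ _ _).1 hμ T' g (lift x y)
    rw [lift_prod_act_assoc, ← Hom.mul_def, ← Hom.mul_def] at this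
    exact this.symm
  have hone : ∀ (T' : C) (g : T' ⟶ A), lift g (1 : T' ⟶ X) ≫ a.act = 1 := by
    intro T' g
    have := hmul T' g 1 1
    rw [_root_.mul_one] at this
    exact (mul_eq_left (a := lift g (1 : T' ⟶ X) ≫ a.act)).1 this.symm |>.symm ▸ rfl
  have hinv : ∀ (T' : C) (g : T' ⟶ A) (x : T' ⟶ X),
      lift g x⁻¹ ≫ a.act = (lift g x ≫ a.act)⁻¹ := by
    intro T' g x
    have := hmul T' g x x⁻¹
    rw [mul_inv_cancel, hone] at this
    exact (eq_inv_of_mul_eq_one_right this.symm)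
  rw [mem_eqvHom_iff] at hφ ⊢
  intro T' g b t
  rw [GrpObj.comp_inv, GrpObj.comp_inv, hφ, hinv]

end Groth.Agent.Helper27.Mg
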