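import Mathlib
import Groth.Agent.Lib.Helper27.MnA
import Groth.Agent.Lib.Helper27.MnB

/-! S18238, part C: a smooth monoid algebra of a fine sharp monoid is a polynomial algebra. -/

set_option autoImplicit false

namespace Groth.Agent.Helper27.Mn

open MvPolynomial

universe u

variable (R : Type u) [CommRing R] (N : Type) [AddCommMonoid N] [IsCancelAdd N]

/-- The type of atoms. -/
abbrev At : Type := ↥{a : N | IsAtm a}

/-- The map `R[At] → R[N]`. -/
noncomputable def phi : MvPolynomial (At N) R →ₐ[R] AddMonoidAlgebra R N :=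
  aeval (fun a : At N => AddMonoidAlgebra.of' R N a.1)

variable {N}

theorem phi_surjective [AddMonoid.FG N] (hsharp : ∀ n : N, IsAddUnit n → n = 0) :
    Function.Surjective (phi R N) :=
  AddMonoidAlgebra.mvPolynomial_aeval_of_surjective_of_closure (closure_atoms hsharp)

variable (N)

open Classical in
/-- The map `N → P/I²`. -/
noncomputable def tfun (n : N) : MvPolynomial (At N) R ⧸ (idealOfVars (At N) R) ^ 2 :=
  if n = 0 then 1 else if h : IsAtm n then Ideal.Quotient.mk _ (X ⟨n, h⟩) else 0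

variable {N}

theorem tfun_zero : tfun R N 0 = 1 := by simp [tfun]

theorem tfun_atom (a : At N) : tfun R N a.1 = Ideal.Quotient.mk _ (X a) := by
  have h : IsAtm a.1 := a.2
  simp [tfun, h.1, h]

theorem tfun_mul_tfun {m n : N} (hm : m ≠ 0) (hn : n ≠ 0) : tfun R N m * tfun R N n = 0 := by
  classical
  simp only [tfun, hm, hn, if_false]
  by_cases h1 : IsAtm m
  · by_cases h2 : IsAtm n
    · simp only [h1, h2, dif_pos]
      rw [← map_mul, Ideal.Quotient.eq_zero_iff_mem, pow_two]
      exact Ideal.mul_mem_mul (Ideal.subset_span ⟨_, rfl⟩) (Ideal.subset_span ⟨_, rfl⟩)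
    · simp [h2]
  · simp [h1]

theorem tfun_add (hsharp : ∀ n : N, IsAddUnit n → n = 0) (m n : N) :
    tfun R N (m + n) = tfun R N m * tfun R N n := by
  classical
  by_cases hm : m = 0
  · subst hm; rw [zero_add, tfun_zero, one_mul]
  by_cases hn : n = 0
  · subst hn; rw [add_zero, tfun_zero, mul_one]
  rw [tfun_mul_tfun R hm hn]
  have h0 : m + n ≠ 0 := fun h => hm (eq_zero_of_add_eq_zero hsharp h)
  have hna : ¬ IsAtm (m + n) := by
    intro h
    rcases h.2 m n rfl with h | h
    · exact hm h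
    · exact hn h
  simp [tfun, h0, hna]

/-- The algebra map `R[N] → P/I²`. -/
noncomputable def theta (hsharp : ∀ n : N, IsAddUnit n → n = 0) :
    AddMonoidAlgebra R N →ₐ[R] MvPolynomial (At N) R ⧸ (idealOfVars (At N) R) ^ 2 :=
  AddMonoidAlgebra.lift R _ N
    { toFun := fun n => tfun R N (Multiplicative.toAdd n)
      map_one' := tfun_zero R
      map_mul' := fun _ _ => tfun_add R hsharp _ _ }

theorem theta_of' (hsharp : ∀ n : N, IsAddUnit n → n = 0) (n : N) :
    theta R hsharp (AddMonoidAlgebra.of' R N n) = tfun R N n := by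
  rw [theta, AddMonoidAlgebra.lift_of']
  rfl

theorem theta_phi_X (hsharp : ∀ n : N, IsAddUnit n → n = 0) (a : At N) :
    theta R hsharp (phi R N (X a)) = Ideal.Quotient.mk _ (X a) := by
  rw [phi, aeval_X, theta_of', tfun_atom]

/-- the transition map `P/I^K → P/I²`. -/
noncomputable def gK (K : ℕ) (hK : 2 ≤ K) :
    (MvPolynomial (At N) R ⧸ (idealOfVars (At N) R) ^ K) →ₐ[R]
      MvPolynomial (At N) R ⧸ (idealOfVars (At N) R) ^ 2 :=
  Ideal.Quotient.factorₐ R (Ideal.pow_le_pow_right hK)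

theorem gK_mk (K : ℕ) (hK : 2 ≤ K) (r : MvPolynomial (At N) R) :
    gK R (N := N) K hK (Ideal.Quotient.mk _ r) = Ideal.Quotient.mk _ r := rfl

theorem gK_surjective (K : ℕ) (hK : 2 ≤ K) : Function.Surjective (gK R (N := N) K hK) := by
  intro x
  obtain ⟨r, rfl⟩ := Ideal.Quotient.mk_surjective x
  exact ⟨Ideal.Quotient.mk _ r, rfl⟩

theorem gK_nilpotent (K : ℕ) (hK : 2 ≤ K) :
    IsNilpotent (RingHom.ker ((gK R (N := N) K hK).toRingHom)) := by
  refine ⟨K, ?_⟩
  have h1 : RingHom.ker ((gK R (N := N) K hK).toRingHom)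
      ≤ Ideal.map (Ideal.Quotient.mk ((idealOfVars (At N) R) ^ K)) ((idealOfVars (At N) R) ^ 2) := by
    intro x hx
    obtain ⟨r, rfl⟩ := Ideal.Quotient.mk_surjective x
    rw [RingHom.mem_ker] at hx
    have : Ideal.Quotient.mk ((idealOfVars (At N) R) ^ 2) r = 0 := hx
    rw [Ideal.Quotient.eq_zero_iff_mem] at this
    exact Ideal.mem_map_of_mem _ this
  rw [Submodule.zero_eq_bot, eq_bot_iff]
  calc RingHom.ker ((gK R (N := N) K hK).toRingHom) ^ K
      ≤ (Ideal.map (Ideal.Quotient.mk ((idealOfVars (At N) R) ^ K))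
          ((idealOfVars (At N) R) ^ 2)) ^ K := Ideal.pow_right_mono h1 K
    _ = Ideal.map (Ideal.Quotient.mk ((idealOfVars (At N) R) ^ K))
          ((idealOfVars (At N) R) ^ (2 * K)) := by rw [← Ideal.map_pow, ← pow_mul]
    _ ≤ Ideal.map (Ideal.Quotient.mk ((idealOfVars (At N) R) ^ K))
          ((idealOfVars (At N) R) ^ K) :=
        Ideal.map_mono (Ideal.pow_le_pow_right (by omega))
    _ = ⊥ := Ideal.map_quotient_self _

theorem phi_injective [Algebra.FormallySmooth R (AddMonoidAlgebra R N)]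
    (hsharp : ∀ n : N, IsAddUnit n → n = 0) : Function.Injective (phi R N) := by
  rw [injective_iff_map_eq_zero]
  intro f hf
  apply eq_zero_of_forall_mem
  intro k
  suffices h : f ∈ idealOfVars (At N) R ^ (k + 2) from
    Ideal.pow_le_pow_right (Nat.le_add_right k 2) h
  have hK : 2 ≤ k + 2 := Nat.le_add_left 2 k
  let ψ := Algebra.FormallySmooth.liftOfSurjective (theta R hsharp) (gK R (N := N) (k + 2) hK)
    (gK_surjective R _ hK) (gK_nilpotent R _ hK)
  have hψ : ∀ x, gK R (N := N) (k + 2) hK (ψ x) = theta R hsharp x :=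
    Algebra.FormallySmooth.liftOfSurjective_apply _ _ _ _
  have hex : ∀ a : At N, ∃ q ∈ idealOfVars (At N) R ^ 2,
      ψ (phi R N (X a)) = Ideal.Quotient.mk _ (X a + q) := by
    intro a
    obtain ⟨r, hr⟩ := Ideal.Quotient.mk_surjective (ψ (phi R N (X a)))
    refine ⟨r - X a, ?_, by rw [← hr]; congr 1; ring⟩
    have h1 := hψ (phi R N (X a))
    rw [← hr, gK_mk, theta_phi_X] at h1
    exact Ideal.Quotient.eq.1 h1
  choose q hq hqe using hex
  have hcomp : ψ.comp (phi R N)
      = (Ideal.Quotient.mkₐ R (idealOfVars (At N) R ^ (k + 2))).comp (sb q) := by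
    apply MvPolynomial.algHom_ext
    intro a
    rw [AlgHom.comp_apply, hqe, AlgHom.comp_apply, sb, aeval_X]
    rfl
  have h0 : Ideal.Quotient.mk (idealOfVars (At N) R ^ (k + 2)) (sb q f) = 0 := by
    have h2 := congrArg (fun h => h f) hcomp
    simp only [AlgHom.comp_apply] at h2
    rw [hf, map_zero] at h2
    exact h2.symm
  exact mem_of_sb_mem q hq (k + 2) f (Ideal.Quotient.eq_zero_iff_mem.1 h0)

theorem main [AddMonoid.FG N] (hsharp : ∀ n : N, IsAddUnit n → n = 0)
    [Algebra.Smooth R (AddMonoidAlgebra R N)] :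
    ∃ (P : Type u) (_ : AddCommGroup P) (_ : Module R P), Module.Finite R P ∧
      Module.Projective R P ∧ Nonempty (AddMonoidAlgebra R N ≃ₐ[R] SymmetricAlgebra R P) := by
  haveI : Finite (At N) := (atoms_finite (N := N)).to_subtype
  haveI : Algebra.FormallySmooth R (AddMonoidAlgebra R N) := Algebra.Smooth.formallySmooth
  refine ⟨At N →₀ R, inferInstance, inferInstance, inferInstance, inferInstance, ⟨?_⟩⟩
  let e1 : MvPolynomial (At N) R ≃ₐ[R] AddMonoidAlgebra R N :=
    AlgEquiv.ofBijective (phi R N) ⟨phi_injective R hsharp, phi_surjective R hsharp⟩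
  let e2 := SymmetricAlgebra.equivMvPolynomial
    (Finsupp.basisSingleOne : Module.Basis (At N) R (At N →₀ R))
  exact e1.symm.trans e2.symm

end Groth.Agent.Helper27.Mn
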