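import Mathlib
set_option autoImplicit false
open Polynomial

/-! Minimal central orders, part A: the functional equation of a Weil polynomial. -/

namespace Groth.Agent.Helper27.Mo

/-- functional equation of a monic integer polynomial, separable over `ℂ`, all of whose complex
roots have squared norm `q`: `c_{n-i} q^{n-i} = c_0 c_i`. -/
theorem coeff_sym (P : ℤ[X]) (hmonic : P.Monic) (hsep : (P.map (algebraMap ℤ ℂ)).Separable)
    (q : ℤ) (hq : 0 < q)
    (hweil : ∀ z ∈ P.aroots ℂ, ‖z‖ = Real.sqrt (q : ℝ)) :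
    ∀ i ≤ P.natDegree,
      P.coeff (P.natDegree - i) * q ^ (P.natDegree - i) = P.coeff 0 * P.coeff i := by
  classical
  set Pc : ℂ[X] := P.map (algebraMap ℤ ℂ) with hPc
  have hPcmonic : Pc.Monic := hmonic.map _
  have hdeg : Pc.natDegree = P.natDegree := hmonic.natDegree_map _
  have hPc0 : Pc ≠ 0 := hPcmonic.ne_zero
  have hroots : P.aroots ℂ = Pc.roots := rfl
  have hnodup : Pc.roots.Nodup := nodup_roots hsep
  have hcardroots : Pc.roots.card = Pc.natDegree := IsAlgClosed.card_roots_eq_natDegree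
  set S : Finset ℂ := Pc.roots.toFinset with hS
  have hScard : S.card = P.natDegree := by
    rw [hS, Multiset.toFinset_card_of_nodup hnodup, hcardroots, hdeg]
  have hmemS : ∀ z, z ∈ S ↔ Pc.eval z = 0 := by
    intro z
    rw [hS, Multiset.mem_toFinset, mem_roots hPc0, IsRoot.def]
  have hqR : (0 : ℝ) < (q : ℝ) := by exact_mod_cast hq
  have hconj : ∀ z ∈ S, (starRingEnd ℂ) z ∈ S := by
    intro z hz
    rw [hmemS] at hz ⊢
    have : Pc.eval ((starRingEnd ℂ) z) = (starRingEnd ℂ) (Pc.eval z) := by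
      rw [hPc, eval_map, eval_map, hom_eval₂]
      congr 1
      exact Subsingleton.elim _ _
    rw [this, hz, map_zero]
  have hnorm : ∀ z ∈ S, z * (starRingEnd ℂ) z = (q : ℂ) := by
    intro z hz
    have h := hweil z (by rw [hroots]; exact Multiset.mem_toFinset.1 hz)
    rw [Complex.mul_conj, Complex.normSq_eq_norm_sq, h, Real.sq_sqrt hqR.le]
    push_cast
    rfl
  have hqC : (q : ℂ) ≠ 0 := by exact_mod_cast hq.ne'
  have hcoeff0ne : Pc.coeff 0 ≠ 0 := by
    intro h0
    have h1 : (0 : ℂ) ∈ S := by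
      rw [hmemS, ← coeff_zero_eq_eval_zero]
      exact h0
    have h2 := hnorm 0 h1
    rw [zero_mul] at h2
    exact hqC h2.symm
  have hrevdeg : Pc.reverse.natDegree = Pc.natDegree := by
    rw [reverse_natDegree, natTrailingDegree_eq_zero.2 (Or.inr hcoeff0ne), Nat.sub_zero]
  set F : ℂ[X] := scaleRoots Pc.reverse (q : ℂ) with hF
  have hFdeg : F.natDegree = Pc.natDegree := by rw [hF, natDegree_scaleRoots, hrevdeg]
  have hFcoeff : ∀ i ≤ Pc.natDegree,
      F.coeff i = Pc.coeff (Pc.natDegree - i) * (q : ℂ) ^ (Pc.natDegree - i) := by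
    intro i hi
    rw [hF, coeff_scaleRoots, hrevdeg, coeff_reverse, revAt_le hi]
  have hFroot : ∀ w ∈ S, F.eval w = 0 := by
    intro w hw
    have hz' := hconj w hw
    set z' := (starRingEnd ℂ) w with hz'def
    have hz'0 : z' ≠ 0 := by
      intro h0
      have := hnorm w hw
      rw [← hz'def, h0, mul_zero] at this
      exact hqC this.symm
    have hw_eq : w = (q : ℂ) * z'⁻¹ := by
      have := hnorm w hw
      rw [← hz'def] at this
      field_simp
      exact this
    haveI : Invertible z' := invertibleOfNonzero hz'0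
    have h1 : eval₂ (RingHom.id ℂ) (⅟z') Pc.reverse = 0 := by
      rw [eval₂_reverse_eq_zero_iff, eval₂_id]
      exact (hmemS z').1 hz'
    have h2 := scaleRoots_eval₂_eq_zero (RingHom.id ℂ) (s := (q : ℂ)) h1
    rw [eval₂_id, RingHom.id_apply, invOf_eq_inv] at h2
    rw [hw_eq]; exact h2
  have hFeq : F = C (Pc.coeff 0) * Pc := by
    rw [← sub_eq_zero]
    by_contra hG
    have hdeglt : (F - C (Pc.coeff 0) * Pc).degree < (Pc.natDegree : ℕ) := by
      rw [degree_lt_iff_coeff_zero]
      intro m hm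
      rw [coeff_sub, coeff_C_mul]
      rcases Nat.eq_or_lt_of_le hm with h | h
      · subst h
        rw [hFcoeff _ le_rfl, Nat.sub_self, pow_zero, mul_one, hPcmonic.coeff_natDegree,
          mul_one, sub_self]
      · rw [coeff_eq_zero_of_natDegree_lt (by rw [hFdeg]; exact h),
          coeff_eq_zero_of_natDegree_lt h, mul_zero, sub_zero]
    have hnatlt : (F - C (Pc.coeff 0) * Pc).natDegree < S.card := by
      rw [hScard, ← hdeg]
      exact (natDegree_lt_iff_degree_lt hG).2 hdeglt
    apply hG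
    apply eq_zero_of_natDegree_lt_card_of_eval_eq_zero' _ S _ hnatlt
    intro w hw
    rw [eval_sub, eval_mul, hFroot w hw, (hmemS w).1 hw, mul_zero, sub_zero]
  intro i hi
  have hcast : ∀ j, ((P.coeff j : ℤ) : ℂ) = Pc.coeff j := by
    intro j; rw [hPc, coeff_map]; rfl
  have h1 := hFcoeff i (by rw [hdeg]; exact hi)
  rw [hFeq, coeff_C_mul, hdeg] at h1
  rw [← hcast, ← hcast, ← hcast] at h1
  have h3 : (((P.coeff (P.natDegree - i) * q ^ (P.natDegree - i) : ℤ)) : ℂ) =
      ((P.coeff 0 * P.coeff i : ℤ) : ℂ) := by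
    push_cast
    rw [h1]
  exact_mod_cast h3

end Groth.Agent.Helper27.Mo
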