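import Mathlib
import Groth.Agent.Lib.Helper22.WeilKer
import Groth.Agent.Lib.Helper27.MoA
set_option autoImplicit false
universe u
open MvPolynomial

/-! Minimal central orders, part B: the product polynomial and the element `h`. -/

namespace Groth.Agent.Helper27.Mo

open Groth.Agent.Helper22.WeilKer

theorem prod_separable {ι : Type} [Fintype ι] (K : ι → Type u) [∀ i, Field (K i)]
    [∀ i, CharZero (K i)] (π : ∀ i, K i) (hint : ∀ i, IsIntegral ℤ (π i))
    (hinj : ∀ i j, minpoly ℤ (π i) = minpoly ℤ (π j) → i = j) :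
    ((∏ i, minpoly ℤ (π i)).map (algebraMap ℤ ℂ)).Separable := by
  classical
  have h1 : ∀ i, minpoly ℚ (π i) = (minpoly ℤ (π i)).map (algebraMap ℤ ℚ) :=
    fun i => minpoly.isIntegrallyClosed_eq_field_fractions' ℚ (hint i)
  have hintQ : ∀ i, IsIntegral ℚ (π i) := fun i => (hint i).tower_top
  have h2 : (∏ i, minpoly ℚ (π i)).Separable := by
    apply Polynomial.separable_prod'
    · intro i _ j _ hij
      have hirr_i := minpoly.irreducible (hintQ i)
      have hirr_j := minpoly.irreducible (hintQ j)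
      rw [hirr_i.coprime_iff_not_dvd]
      intro hdvd
      apply hij
      apply hinj
      have heq : minpoly ℚ (π i) = minpoly ℚ (π j) :=
        Polynomial.eq_of_monic_of_associated (minpoly.monic (hintQ i)) (minpoly.monic (hintQ j))
          (associated_of_dvd_dvd hdvd (hirr_i.dvd_symm hirr_j hdvd))
      rw [h1, h1] at heq
      exact Polynomial.map_injective _ (RingHom.injective_int (algebraMap ℤ ℚ)) heq
    · intro i _
      exact (minpoly.irreducible (hintQ i)).separable
  have h3 : (∏ i, minpoly ℤ (π i)).map (algebraMap ℤ ℂ) =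
      (∏ i, minpoly ℚ (π i)).map (algebraMap ℚ ℂ) := by
    rw [Polynomial.map_prod, Polynomial.map_prod]
    apply Finset.prod_congr rfl
    intro i _
    rw [h1, Polynomial.map_map]
    congr 1
  rw [h3]
  exact h2.map

/-- the element `h` -/
theorem exists_h (q : ℤ) (D : ℕ) (P : Polynomial ℤ) (hdeg : P.natDegree = 2 * D) (u : ℤ)
    (hsym : ∀ r ≤ D, P.coeff (D - r) = u * q ^ r * P.coeff (D + r)) :
    ∃ h : R2, X 0 ^ D * h - Polynomial.aeval (X 0 : R2) P ∈
      Ideal.span ({X 0 * X 1 - C q} : Set R2) := by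
  refine ⟨∑ k ∈ Finset.range (D + 1), C (P.coeff (D + k)) * X 0 ^ k +
    ∑ k ∈ Finset.range D, C (u * P.coeff (D + (k + 1))) * X 1 ^ (k + 1), ?_⟩
  obtain ⟨I, hI⟩ : ∃ I : Ideal R2, I = Ideal.span ({X 0 * X 1 - C q} : Set R2) := ⟨_, rfl⟩
  rw [← hI, ← Ideal.Quotient.mk_eq_mk_iff_sub_mem]
  have hfv : Ideal.Quotient.mk I (X 0) * Ideal.Quotient.mk I (X 1) =
      Ideal.Quotient.mk I (C q) := by
    rw [← map_mul, Ideal.Quotient.mk_eq_mk_iff_sub_mem, hI]
    exact Ideal.subset_span (Set.mem_singleton _)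
  have hP : Polynomial.aeval (X 0 : R2) P =
      ∑ j ∈ Finset.range D, P.coeff (D - 1 - j) • (X 0 : R2) ^ (D - 1 - j) +
        ∑ k ∈ Finset.range (D + 1), P.coeff (D + k) • (X 0 : R2) ^ (D + k) := by
    rw [Polynomial.aeval_eq_sum_range' (by omega : P.natDegree < D + (D + 1)),
      Finset.sum_range_add,
      Finset.sum_range_reflect (fun j => P.coeff j • (X 0 : R2) ^ j) D]
  rw [hP]
  simp only [map_add, map_mul, map_sum, map_pow, mul_add, Finset.mul_sum]
  rw [add_comm]
  congr 1
  · apply Finset.sum_congr rfl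
    intro k hk
    rw [Finset.mem_range] at hk
    have h1 := hsym (k + 1) (by omega)
    have e0 : D - 1 - k = D - (k + 1) := by omega
    have e : Ideal.Quotient.mk I (X 0) ^ D =
        Ideal.Quotient.mk I (X 0) ^ (D - (k + 1)) * Ideal.Quotient.mk I (X 0) ^ (k + 1) := by
      rw [← pow_add]
      congr 1
      omega
    rw [e0, h1, Algebra.smul_def, MvPolynomial.algebraMap_eq, map_mul, map_pow, e]
    simp only [MvPolynomial.C_mul, MvPolynomial.C_pow, map_mul, map_pow]
    rw [← hfv, mul_pow]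
    ring
  · apply Finset.sum_congr rfl
    intro k _
    rw [Algebra.smul_def, MvPolynomial.algebraMap_eq, map_mul, map_pow, pow_add]
    ring

end Groth.Agent.Helper27.Mo
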