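import Mathlib
import Groth.Agent.Lib.Helper7.IntDim
import Groth.Agent.Lib.Helper22.WeilKer
set_option autoImplicit false
universe u
open Polynomial

/-! Minimal central orders, part C: freeness, rank and dimension. -/

namespace Groth.Agent.Helper27.Mo

lemma aeval_pi_apply {ι : Type} {K : ι → Type u} [∀ i, Field (K i)]
    (x : ∀ i, K i) (G : ℤ[X]) (i : ι) :
    (Polynomial.aeval x G) i = Polynomial.aeval (x i) G :=
  (Polynomial.aeval_algHom_apply (Pi.evalAlgHom ℤ K i) x G).symm

lemma rev_eval {L : Type*} [Field L] (P : ℤ[X]) (q : ℤ) (n : ℕ) (hn : P.natDegree = n)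
    (hsym : ∀ i ≤ n, P.coeff (n - i) * q ^ (n - i) = P.coeff 0 * P.coeff i)
    (x : L) (hx : x ≠ 0) :
    x ^ n * Polynomial.aeval ((q : L) / x) P = (P.coeff 0 : L) * Polynomial.aeval x P := by
  rw [Polynomial.aeval_eq_sum_range' (by omega : P.natDegree < n + 1),
    Polynomial.aeval_eq_sum_range' (by omega : P.natDegree < n + 1), Finset.mul_sum,
    Finset.mul_sum]
  rw [← Finset.sum_range_reflect (fun j => (P.coeff 0 : L) * (P.coeff j • x ^ j)) (n + 1)]
  apply Finset.sum_congr rfl
  intro i hi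
  rw [Finset.mem_range] at hi
  have e1 : n + 1 - 1 - i = n - i := by omega
  rw [e1]
  have h1 := hsym (n - i) (by omega)
  rw [show n - (n - i) = i by omega] at h1
  have h1L : (P.coeff i : L) * (q : L) ^ i = (P.coeff 0 : L) * (P.coeff (n - i) : L) := by
    exact_mod_cast congrArg (Int.cast : ℤ → L) h1
  have e2 : x ^ n = x ^ (n - i) * x ^ i := by
    rw [← pow_add]
    congr 1
    omega
  simp only [zsmul_eq_mul]
  rw [div_pow, e2]
  field_simp
  exact h1L

theorem order_props {ι : Type} [Fintype ι] [Nonempty ι] (K : ι → Type u) [∀ i, Field (K i)]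
    [∀ i, CharZero (K i)] (a b : ∀ i, K i) (q : ℤ) (hab : ∀ i, a i * b i = (q : K i))
    (P : ℤ[X]) (hmonic : P.Monic) (hPa : ∀ i, Polynomial.aeval (a i) P = 0)
    (hPb : ∀ i, Polynomial.aeval (b i) P = 0)
    (hdvd : ∀ G : ℤ[X], (∀ i, Polynomial.aeval (a i) G = 0) → P ∣ G)
    (hc0 : P.coeff 0 ≠ 0) :
    Module.Free ℤ (MvPolynomial.aeval ![a, b] :
        MvPolynomial (Fin 2) ℤ →ₐ[ℤ] (∀ i, K i)).range ∧
    Module.finrank ℤ (MvPolynomial.aeval ![a, b] :
        MvPolynomial (Fin 2) ℤ →ₐ[ℤ] (∀ i, K i)).range = P.natDegree ∧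
    ringKrullDim (MvPolynomial.aeval ![a, b] :
        MvPolynomial (Fin 2) ℤ →ₐ[ℤ] (∀ i, K i)).range = 1 := by
  classical
  obtain ⟨φ, hφ⟩ : ∃ φ : MvPolynomial (Fin 2) ℤ →ₐ[ℤ] (∀ i, K i),
      φ = MvPolynomial.aeval ![a, b] := ⟨_, rfl⟩
  rw [← hφ]
  have hφ0 : φ (MvPolynomial.X 0) = a := by rw [hφ]; simp
  have hφ1 : φ (MvPolynomial.X 1) = b := by rw [hφ]; simp
  have hPa' : Polynomial.aeval a P = 0 := by
    funext i
    rw [aeval_pi_apply]
    exact hPa i
  have hPb' : Polynomial.aeval b P = 0 := by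
    funext i
    rw [aeval_pi_apply]
    exact hPb i
  have hinta : IsIntegral ℤ a := ⟨P, hmonic, hPa'⟩
  have hintb : IsIntegral ℤ b := ⟨P, hmonic, hPb'⟩
  have hfin : Module.Finite ℤ φ.range := by
    have h1 : φ.range = Algebra.adjoin ℤ (Set.range ![a, b]) := by
      rw [hφ]
      exact (Algebra.adjoin_range_eq_range_aeval ℤ _).symm
    have h2 : (Algebra.adjoin ℤ (Set.range ![a, b])).toSubmodule.FG := by
      apply fg_adjoin_of_finite (Set.finite_range _)
      rintro _ ⟨j, rfl⟩
      fin_cases j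
      · exact hinta
      · exact hintb
    rw [h1]
    exact Module.Finite.of_fg h2
  have htf : Module.IsTorsionFree ℤ φ.range := by
    apply Module.IsTorsionFree.of_smul_eq_zero
    intro r m hrm
    by_cases hr : r = 0
    · exact Or.inl hr
    · right
      apply Subtype.ext
      funext i
      have h1 : (r • m).val i = 0 := by rw [hrm]; rfl
      have h2 : (r • m).val i = (r : K i) * m.val i := by
        show (r • m.val) i = _
        rw [Pi.smul_apply, zsmul_eq_mul]
      rw [h2] at h1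
      have hr' : (r : K i) ≠ 0 := by exact_mod_cast hr
      exact (mul_eq_zero.mp h1).resolve_left hr'
  have hfree : Module.Free ℤ φ.range := Module.free_of_finite_type_torsion_free'
  refine ⟨hfree, ?_, ?_⟩
  · -- the rank
    let Fw : φ.range := ⟨a, ⟨MvPolynomial.X 0, hφ0⟩⟩
    have hval : ∀ G : ℤ[X],
        ((Polynomial.aeval Fw G : φ.range) : ∀ i, K i) = Polynomial.aeval a G := by
      intro G
      exact (Polynomial.aeval_algHom_apply φ.range.val Fw G).symm
    have hFw0 : Polynomial.aeval Fw P = 0 := Subtype.ext (by rw [hval]; exact hPa')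
    have hFwP : Polynomial.eval₂ (Algebra.ofId ℤ φ.range) Fw P = 0 := hFw0
    let j : AdjoinRoot P →ₐ[ℤ] φ.range :=
      AdjoinRoot.liftAlgHom P (Algebra.ofId ℤ φ.range) Fw hFwP
    have hj_mk : ∀ G : ℤ[X], j (AdjoinRoot.mk P G) = Polynomial.aeval Fw G := by
      intro G
      rfl
    have hj_inj : Function.Injective j := by
      rw [injective_iff_map_eq_zero]
      intro x hx
      obtain ⟨G, rfl⟩ := AdjoinRoot.mk_surjective x
      rw [hj_mk] at hx
      rw [AdjoinRoot.mk_eq_zero]
      apply hdvd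
      intro i
      have h1 : ((Polynomial.aeval Fw G : φ.range) : ∀ i, K i) i = 0 := by rw [hx]; rfl
      rw [hval, aeval_pi_apply] at h1
      exact h1
    obtain ⟨N, hN⟩ : ∃ N : Submodule ℤ φ.range, N = LinearMap.range j.toLinearMap := ⟨_, rfl⟩
    have hNrank : Module.finrank ℤ N = P.natDegree := by
      rw [hN, ← (LinearEquiv.ofInjective j.toLinearMap hj_inj).finrank_eq,
        (AdjoinRoot.powerBasis' hmonic).finrank, AdjoinRoot.powerBasis'_dim]
    have h3 : -(Polynomial.aeval Fw P.divX) * Fw = algebraMap ℤ φ.range (P.coeff 0) := by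
      have h4 := congrArg (Polynomial.aeval Fw) (Polynomial.divX_mul_X_add P)
      rw [hFw0, map_add, map_mul, Polynomial.aeval_X, Polynomial.aeval_C] at h4
      linear_combination (-1 : ↥φ.range) * h4
    have hker : ∀ g ∈ Ideal.span ({MvPolynomial.X 0 * MvPolynomial.X 1 - MvPolynomial.C q} :
        Set (MvPolynomial (Fin 2) ℤ)), φ g = 0 := by
      intro g hg
      obtain ⟨s, rfl⟩ := Ideal.mem_span_singleton'.mp hg
      rw [map_mul, map_sub, map_mul, hφ0, hφ1]
      have h5 : a * b - φ (MvPolynomial.C q) = 0 := by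
        funext i
        have h6 : φ (MvPolynomial.C q) i = (q : K i) := by
          rw [hφ, MvPolynomial.aeval_C]
          simp
        rw [Pi.sub_apply, Pi.mul_apply, h6, hab i, sub_self]
        rfl
      rw [h5, mul_zero]
    have htors : Module.IsTorsion ℤ (φ.range ⧸ N) := by
      intro x
      obtain ⟨m, rfl⟩ := Submodule.Quotient.mk_surjective N x
      obtain ⟨g, hg0⟩ := m.2
      have hg : φ g = m.val := hg0
      obtain ⟨n, G, hnG⟩ := Groth.Agent.Helper22.WeilKer.red q 0 1 (by decide) g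
      have h1 : Fw ^ n * m = Polynomial.aeval Fw G := by
        apply Subtype.ext
        rw [hval]
        have h2 := hker _ hnG
        rw [map_sub, map_mul, map_pow, hφ0, ← Polynomial.aeval_algHom_apply, hφ0, hg,
          sub_eq_zero] at h2
        rw [← h2]
        rfl
      refine ⟨⟨(P.coeff 0) ^ n, mem_nonZeroDivisors_of_ne_zero (pow_ne_zero n hc0)⟩, ?_⟩
      rw [Submonoid.mk_smul, ← Submodule.Quotient.mk_smul, Submodule.Quotient.mk_eq_zero, hN]
      refine ⟨AdjoinRoot.mk P ((-P.divX) ^ n * G), ?_⟩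
      show j (AdjoinRoot.mk P _) = _
      rw [hj_mk, map_mul, map_pow, map_neg, ← h1, Algebra.smul_def, map_pow, ← h3]
      ring
    have h7 := Submodule.finrank_quotient_add_finrank N
    rw [htors.finrank_eq_zero, zero_add, hNrank] at h7
    exact h7.symm
  · -- the dimension
    haveI : Algebra.IsIntegral ℤ φ.range := Algebra.IsIntegral.of_finite ℤ _
    have hinj : Function.Injective (algebraMap ℤ φ.range) := by
      intro r s hrs
      obtain ⟨i⟩ := ‹Nonempty ι›
      have h2 : ∀ r : ℤ, ((algebraMap ℤ φ.range r : φ.range) : ∀ i, K i) i = (r : K i) := by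
        intro r
        simp
      have h1 : ((algebraMap ℤ φ.range r : φ.range) : ∀ i, K i) i =
          ((algebraMap ℤ φ.range s : φ.range) : ∀ i, K i) i := by rw [hrs]
      rw [h2, h2] at h1
      exact_mod_cast h1
    rw [Groth.Agent.Helper7.IntDim.ringKrullDim_eq_of_isIntegral_of_injective hinj]
    exact IsPrincipalIdealRing.ringKrullDim_eq_one ℤ Int.not_isField

end Groth.Agent.Helper27.Mo
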