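import Mathlib
import Groth.Agent.Lib.Helper12.GorField
set_option autoImplicit false
universe u

/-! Minimal central orders, part D: quotient of a Gorenstein ring by a regular sequence of
length two. -/

namespace Groth.Agent.Helper27.Mo

open Groth.Agent.Helper12

theorem gor_of_ci {T S : Type u} [CommRing T] [CommRing S] (hT : LocCoh.IsGorensteinRing T)
    (ψ : T →+* S) (hsurj : Function.Surjective ψ) (a b : T)
    (ha : IsSMulRegular T a)
    (hb : ∀ y, b * y ∈ Ideal.span ({a} : Set T) → y ∈ Ideal.span ({a} : Set T))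
    (hker : RingHom.ker ψ = Ideal.span {a, b}) : LocCoh.IsGorensteinRing S := by
  have h1 := GorField.isGorensteinRing_quotient_of_regular T hT a ha
  obtain ⟨I, hI⟩ : ∃ I : Ideal T, I = Ideal.span ({a} : Set T) := ⟨_, rfl⟩
  rw [← hI] at h1 hb
  have hb' : IsSMulRegular (T ⧸ I) (Ideal.Quotient.mk I b) := by
    intro x y hxy
    obtain ⟨x, rfl⟩ := Ideal.Quotient.mk_surjective x
    obtain ⟨y, rfl⟩ := Ideal.Quotient.mk_surjective y
    simp only [smul_eq_mul, ← map_mul] at hxy
    rw [Ideal.Quotient.mk_eq_mk_iff_sub_mem, ← mul_sub] at hxy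
    rw [Ideal.Quotient.mk_eq_mk_iff_sub_mem]
    exact hb _ hxy
  have h2 := GorField.isGorensteinRing_quotient_of_regular (T ⧸ I) h1 _ hb'
  have hmap : (Ideal.span ({b} : Set T)).map (Ideal.Quotient.mk I) =
      Ideal.span {Ideal.Quotient.mk I b} := by
    rw [Ideal.map_span, Set.image_singleton]
  have hsup : I ⊔ Ideal.span ({b} : Set T) = RingHom.ker ψ := by
    rw [hker, hI, ← Ideal.span_union, Set.singleton_union]
  let e1 : (T ⧸ I) ⧸ Ideal.span {Ideal.Quotient.mk I b} ≃+*
      (T ⧸ I) ⧸ (Ideal.span ({b} : Set T)).map (Ideal.Quotient.mk I) :=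
    Ideal.quotEquivOfEq hmap.symm
  let e2 := DoubleQuot.quotQuotEquivQuotSup I (Ideal.span ({b} : Set T))
  let e3 : T ⧸ (I ⊔ Ideal.span ({b} : Set T)) ≃+* T ⧸ RingHom.ker ψ := Ideal.quotEquivOfEq hsup
  let e4 := RingHom.quotientKerEquivOfSurjective hsurj
  exact GorField.isGorensteinRing_of_ringEquiv (((e1.trans e2).trans e3).trans e4) h2

/-- the same with the ambient regular ring living in `Type`. -/
theorem gor_of_ci' {T0 : Type} {S : Type u} [CommRing T0] [CommRing S] [IsRegularRing T0]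
    (ψ : T0 →+* S) (hsurj : Function.Surjective ψ) (a b : T0)
    (ha : ∀ x y : T0, a * x = a * y → x = y)
    (hb : ∀ y, b * y ∈ Ideal.span ({a} : Set T0) → y ∈ Ideal.span ({a} : Set T0))
    (hker : RingHom.ker ψ = Ideal.span {a, b}) : LocCoh.IsGorensteinRing S := by
  haveI : IsRegularRing (ULift.{u} T0) :=
    IsRegularRing.of_ringEquiv (ULift.ringEquiv (R := T0)).symm
  have hT : LocCoh.IsGorensteinRing (ULift.{u} T0) := GorFib.isGorensteinRing_of_isRegularRing _
  refine gor_of_ci hT (ψ.comp (ULift.ringEquiv (R := T0)).toRingHom) ?_ (ULift.up a) (ULift.up b)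
    ?_ ?_ ?_
  · intro s
    obtain ⟨t, rfl⟩ := hsurj s
    exact ⟨ULift.up t, rfl⟩
  · intro x y hxy
    have h1 : a * x.down = a * y.down := congrArg ULift.down hxy
    exact ULift.ext _ _ (ha _ _ h1)
  · intro y hy
    rw [Ideal.mem_span_singleton'] at hy ⊢
    obtain ⟨s, hs⟩ := hy
    have h1 : b * y.down ∈ Ideal.span ({a} : Set T0) :=
      Ideal.mem_span_singleton'.mpr ⟨s.down, congrArg ULift.down hs⟩
    obtain ⟨s', hs'⟩ := Ideal.mem_span_singleton'.mp (hb _ h1)
    exact ⟨ULift.up s', ULift.ext _ _ hs'⟩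
  · ext x
    rw [RingHom.mem_ker, Ideal.mem_span_pair]
    have h0 : (ψ.comp (ULift.ringEquiv (R := T0)).toRingHom) x = ψ x.down := rfl
    rw [h0, ← RingHom.mem_ker, hker, Ideal.mem_span_pair]
    constructor
    · rintro ⟨s, t, hst⟩
      exact ⟨ULift.up s, ULift.up t, ULift.ext _ _ hst⟩
    · rintro ⟨s, t, hst⟩
      exact ⟨s.down, t.down, congrArg ULift.down hst⟩

end Groth.Agent.Helper27.Mo
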