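import Mathlib
import Groth.Agent.Lib.Helper27.MoB
import Groth.Agent.Lib.Helper27.MoC
import Groth.Agent.Lib.Helper27.MoD
set_option autoImplicit false
universe u
open MvPolynomial

/-! Minimal central orders, part E: assembly. -/

namespace Groth.Agent.Helper27.Mo

open Groth.Agent.Helper22.WeilKer

theorem main (p e : ℕ) [Fact p.Prime] (he : 0 < e)
    (ι : Type) [Fintype ι] (K : ι → Type u) [∀ i, Field (K i)] [∀ i, CharZero (K i)]
    (π : ∀ i, K i)
    (hint : ∀ i, IsIntegral ℤ (π i))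
    (hweil : ∀ i, ∀ z ∈ (minpoly ℤ (π i)).aroots ℂ, ‖z‖ = Real.sqrt ((p : ℝ) ^ e))
    (hinj : ∀ i j, minpoly ℤ (π i) = minpoly ℤ (π j) → i = j)
    [Nonempty ι] (D : ℕ) (hD : ∑ i, (minpoly ℤ (π i)).natDegree = 2 * D) :
    Module.Free ℤ (MvPolynomial.aeval ![fun i => π i, fun i => ((p : K i) ^ e) / π i] :
        MvPolynomial (Fin 2) ℤ →ₐ[ℤ] ((i : ι) → K i)).range ∧
      Module.finrank ℤ (MvPolynomial.aeval ![fun i => π i, fun i => ((p : K i) ^ e) / π i] :
        MvPolynomial (Fin 2) ℤ →ₐ[ℤ] ((i : ι) → K i)).range = 2 * D ∧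
      ringKrullDim (MvPolynomial.aeval ![fun i => π i, fun i => ((p : K i) ^ e) / π i] :
        MvPolynomial (Fin 2) ℤ →ₐ[ℤ] ((i : ι) → K i)).range = 1 ∧
      LocCoh.IsGorensteinRing (MvPolynomial.aeval ![fun i => π i, fun i => ((p : K i) ^ e) / π i] :
        MvPolynomial (Fin 2) ℤ →ₐ[ℤ] ((i : ι) → K i)).range := by
  classical
  have hppos : 0 < p := (Fact.out : p.Prime).pos
  have hp0 : (p : ℤ) ≠ 0 := by exact_mod_cast hppos.ne'
  have hsqrt_pos : 0 < Real.sqrt ((p : ℝ) ^ e) := Real.sqrt_pos.mpr (by positivity)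
  obtain ⟨q, hqdef⟩ : ∃ q : ℤ, q = (p : ℤ) ^ e := ⟨_, rfl⟩
  have hq : q ≠ 0 := by rw [hqdef]; exact pow_ne_zero e hp0
  have hqpos : 0 < q := by rw [hqdef]; positivity
  have hqR : (q : ℝ) = (p : ℝ) ^ e := by rw [hqdef]; push_cast; rfl
  obtain ⟨P, hPdef⟩ : ∃ P : Polynomial ℤ, P = ∏ i, minpoly ℤ (π i) := ⟨_, rfl⟩
  have hPmon : P.Monic := by
    rw [hPdef]
    exact Polynomial.monic_prod_of_monic _ _ (fun i _ => minpoly.monic (hint i))
  have hPdeg : P.natDegree = 2 * D := by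
    rw [hPdef, Polynomial.natDegree_prod_of_monic _ _ (fun i _ => minpoly.monic (hint i)), hD]
  -- the constant term
  have hr : ∀ i, |(((minpoly ℤ (π i)).coeff 0 : ℤ) : ℝ)| =
      Real.sqrt ((p : ℝ) ^ e) ^ (minpoly ℤ (π i)).natDegree :=
    fun i => abs_coeff_zero _ (minpoly.monic (hint i)) _ (hweil i)
  have hc0 : P.coeff 0 = ∏ i, (minpoly ℤ (π i)).coeff 0 := by
    rw [hPdef, Polynomial.coeff_zero_eq_eval_zero, Polynomial.eval_prod]
    exact Finset.prod_congr rfl (fun i _ => (Polynomial.coeff_zero_eq_eval_zero _).symm)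
  have habs : |((P.coeff 0 : ℤ) : ℝ)| = ((p : ℝ) ^ e) ^ D := by
    rw [hc0, Int.cast_prod, Finset.abs_prod, Finset.prod_congr rfl (fun i _ => hr i),
      Finset.prod_pow_eq_pow_sum, hD, pow_mul, Real.sq_sqrt (by positivity)]
  have habsZ : |P.coeff 0| = q ^ D := by
    rw [hqdef]
    exact_mod_cast habs
  obtain ⟨u, hu, hPu⟩ : ∃ u : ℤ, u * u = 1 ∧ P.coeff 0 = u * q ^ D := by
    have hnn : (0 : ℤ) ≤ q ^ D := by rw [hqdef]; positivity
    rcases (abs_eq hnn).mp habsZ with h1 | h1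
    · exact ⟨1, by norm_num, by rw [h1, one_mul]⟩
    · exact ⟨-1, by norm_num, by rw [h1]; ring⟩
  have hu0 : u ≠ 0 := by
    rintro rfl
    simp at hu
  have hPc0 : P.coeff 0 ≠ 0 := by
    rw [hPu]
    exact mul_ne_zero hu0 (pow_ne_zero D hq)
  -- π i ≠ 0
  have hπ0 : ∀ i, π i ≠ 0 := by
    intro i h0
    have h1 := minpoly.aeval ℤ (π i)
    have h3 := hr i
    rw [h0] at h1 h3
    rw [← Polynomial.coeff_zero_eq_aeval_zero'] at h1
    have h2 : (minpoly ℤ (0 : K i)).coeff 0 = 0 := by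
      have h4 : (((minpoly ℤ (0 : K i)).coeff 0 : ℤ) : K i) = 0 := by simpa using h1
      exact_mod_cast h4
    rw [h2, Int.cast_zero, abs_zero] at h3
    exact absurd h3 (ne_of_lt (pow_pos hsqrt_pos _))
  have hqK : ∀ i, ((q : ℤ) : K i) = (p : K i) ^ e := by
    intro i
    rw [hqdef]
    push_cast
    rfl
  have hab : ∀ i, π i * (((p : K i) ^ e) / π i) = ((q : ℤ) : K i) := by
    intro i
    have hπi := hπ0 i
    rw [hqK]
    field_simp
  -- roots of the product
  have hweil' : ∀ z ∈ P.aroots ℂ, ‖z‖ = Real.sqrt (q : ℝ) := by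
    intro z hz
    rw [Polynomial.mem_aroots] at hz
    have h1 := hz.2
    rw [hPdef, map_prod, Finset.prod_eq_zero_iff] at h1
    obtain ⟨i, -, hi⟩ := h1
    rw [hqR]
    exact hweil i z (Polynomial.mem_aroots.mpr ⟨(minpoly.monic (hint i)).ne_zero, hi⟩)
  have hsep : (P.map (algebraMap ℤ ℂ)).Separable := by
    rw [hPdef]
    exact prod_separable K π hint hinj
  have hsym0 := coeff_sym P hPmon hsep q hqpos hweil'
  rw [hPdeg] at hsym0
  have hsym : ∀ r ≤ D, P.coeff (D - r) = u * q ^ r * P.coeff (D + r) := by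
    intro r hr
    have h1 := hsym0 (D + r) (by omega)
    rw [show 2 * D - (D + r) = D - r by omega, hPu] at h1
    have h2 : q ^ D = q ^ r * q ^ (D - r) := by
      rw [← pow_add]
      congr 1
      omega
    rw [h2] at h1
    apply mul_right_cancel₀ (pow_ne_zero (D - r) hq)
    rw [h1]
    ring
  obtain ⟨h, hh⟩ := exists_h q D P hPdeg u hsym
  have hmain := Groth.Agent.Helper22.WeilKer.main p e he ι K π hint hweil hinj D hD h
    (by rw [← hqdef, ← hPdef]; exact hh)
  rw [← hqdef] at hmain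
  obtain ⟨hkerEq, -⟩ := hmain
  -- the polynomial kills both generators
  have hPa : ∀ i, Polynomial.aeval (π i) P = 0 := by
    intro i
    rw [hPdef, map_prod]
    exact Finset.prod_eq_zero (Finset.mem_univ i) (minpoly.aeval ℤ (π i))
  have hPb : ∀ i, Polynomial.aeval (((p : K i) ^ e) / π i) P = 0 := by
    intro i
    have h1 := rev_eval (L := K i) P q (2 * D) hPdeg hsym0 (π i) (hπ0 i)
    rw [hPa i, mul_zero, hqK] at h1
    exact (mul_eq_zero.mp h1).resolve_left (pow_ne_zero _ (hπ0 i))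
  have hdvd : ∀ G : Polynomial ℤ, (∀ i, Polynomial.aeval (π i) G = 0) → P ∣ G := by
    intro G hGi
    rw [hPdef]
    refine prod_dvd_of_primes Finset.univ (fun i => minpoly ℤ (π i)) G ?_ ?_ ?_
    · intro i _
      exact minpoly.prime_of_isIntegrallyClosed (hint i)
    · intro i _
      exact minpoly.isIntegrallyClosed_dvd (hint i) (hGi i)
    · intro i _ j _ hij hdvd
      apply hij
      apply hinj
      have hirr_i := (minpoly.prime_of_isIntegrallyClosed (hint i)).irreducible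
      have hirr_j := (minpoly.prime_of_isIntegrallyClosed (hint j)).irreducible
      exact Polynomial.eq_of_monic_of_associated (minpoly.monic (hint i))
        (minpoly.monic (hint j))
        (associated_of_dvd_dvd hdvd (hirr_i.dvd_symm hirr_j hdvd))
  obtain ⟨hfree, hrank, hdim⟩ := order_props K (fun i => π i) (fun i => ((p : K i) ^ e) / π i)
    q hab P hPmon hPa hPb hdvd hPc0
  refine ⟨hfree, by rw [hrank, hPdeg], hdim, ?_⟩
  -- Gorenstein
  obtain ⟨φ, hφ⟩ : ∃ φ : MvPolynomial (Fin 2) ℤ →ₐ[ℤ] ((i : ι) → K i),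
      φ = MvPolynomial.aeval ![fun i => π i, fun i => ((p : K i) ^ e) / π i] := ⟨_, rfl⟩
  rw [← hφ] at hkerEq ⊢
  refine gor_of_ci' (φ.rangeRestrict : MvPolynomial (Fin 2) ℤ →+* φ.range)
    φ.rangeRestrict_surjective (X 0 * X 1 - C q) h ?_ ?_ ?_
  · intro x y hxy
    exact mul_left_cancel₀ (g0_ne_zero q hq) hxy
  · intro y hy
    rcases mem_or_mem q hq h y hy with h1 | h1
    · exfalso
      have h2 : Polynomial.aeval (X 0 : MvPolynomial (Fin 2) ℤ) P ∈
          Ideal.span ({X 0 * X 1 - C q} : Set (MvPolynomial (Fin 2) ℤ)) := by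
        have h3 := Ideal.sub_mem _ (Ideal.mul_mem_left _ (X 0 ^ D) h1) hh
        simpa using h3
      exact hPmon.ne_zero (aeval0_mem q P h2)
    · exact h1
  · rw [← hkerEq]
    ext x
    rw [RingHom.mem_ker, RingHom.mem_ker]
    constructor
    · intro hx
      exact congrArg Subtype.val hx
    · intro hx
      exact Subtype.ext hx

end Groth.Agent.Helper27.Mo
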