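import Mathlib
import Groth.Prelude.Def_W4c5suslinpi1abAdj
set_option autoImplicit false
set_option linter.unusedSectionVars false
universe v u
open CategoryTheory MonoidalCategory Functor.LaxMonoidal Functor.OplaxMonoidal

namespace Groth.Agent.Helper27.MA
open W4c5suslinpi1ab

variable {S₀ : Type u} [Category.{v} S₀] [MonoidalCategory S₀]
    {Y₁ : Type u} [Category.{v} Y₁] [MonoidalCategory Y₁]
    {Y₂ : Type u} [Category.{v} Y₂] [MonoidalCategory Y₂]
    {X : Type u} [Category.{v} X] [MonoidalCategory X]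

section general
variable {C : Type u} [Category.{v} C] [MonoidalCategory C]
variable {D : Type u} [Category.{v} D] [MonoidalCategory D]
variable {L : C ⥤ D} {R : D ⥤ C} (adj : L ⊣ R) [L.OplaxMonoidal] [R.LaxMonoidal] [adj.IsMonoidal]

/-- transpose of projR -/
lemma projR_transpose (A : D) (B : C) :
    L.map (projR adj A B) ≫ adj.counit.app (A ⊗ L.obj B) =
      δ L (R.obj A) B ≫ (adj.counit.app A ▷ L.obj B) := by
  unfold projR
  rw [Functor.map_comp, Category.assoc, adj.map_μ_comp_counit_app_tensor]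
  have h := δ_natural_right L (R.obj A) (adj.unit.app B)
  dsimp at h
  rw [← reassoc_of% h, tensorHom_def', ← MonoidalCategory.whiskerLeft_comp_assoc, adj.left_triangle_components]
  simp

/-- transpose of projL -/
lemma projL_transpose (A : C) (B : D) :
    L.map (projL adj A B) ≫ adj.counit.app (L.obj A ⊗ B) =
      δ L A (R.obj B) ≫ (L.obj A ◁ adj.counit.app B) := by
  unfold projL
  rw [Functor.map_comp, Category.assoc, adj.map_μ_comp_counit_app_tensor]
  have h := δ_natural_left L (adj.unit.app A) (R.obj B)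
  dsimp at h
  rw [← reassoc_of% h, MonoidalCategory.tensorHom_def, ← MonoidalCategory.comp_whiskerRight_assoc, adj.left_triangle_components]
  simp

omit [L.OplaxMonoidal] [adj.IsMonoidal] in
lemma projR_natural {A A' : D} {B B' : C} (f : A ⟶ A') (g : B ⟶ B') :
    (R.map f ⊗ₘ g) ≫ projR adj A' B' = projR adj A B ≫ R.map (f ⊗ₘ L.map g) := by
  unfold projR
  have h := adj.unit.naturality g
  dsimp at h
  rw [Category.assoc, ← μ_natural, ← Category.assoc, ← Category.assoc]
  congr 1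
  rw [← id_tensorHom, ← id_tensorHom, tensorHom_comp_tensorHom, tensorHom_comp_tensorHom, h]
  simp

omit [L.OplaxMonoidal] [adj.IsMonoidal] in
lemma projL_natural {A A' : C} {B B' : D} (f : A ⟶ A') (g : B ⟶ B') :
    (f ⊗ₘ R.map g) ≫ projL adj A' B' = projL adj A B ≫ R.map (L.map f ⊗ₘ g) := by
  unfold projL
  have h := adj.unit.naturality f
  dsimp at h
  rw [Category.assoc, ← μ_natural, ← Category.assoc, ← Category.assoc]
  congr 1
  rw [← tensorHom_id, ← tensorHom_id, tensorHom_comp_tensorHom, tensorHom_comp_tensorHom, h]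
  simp

section shriek
variable {S : C ⥤ D} (adj' : R ⊣ S) [∀ (A : D) (B : C), IsIso (projR adj A B)]

omit [L.OplaxMonoidal] [adj.IsMonoidal] in
lemma cupShriek_counit (A B : C) :
    R.map (cupShriek adj adj' A B) ≫ adj'.counit.app (A ⊗ B) =
      inv (projR adj (S.obj A) B) ≫ (adj'.counit.app A ▷ B) := by
  unfold cupShriek
  exact (adj'.homEquiv_counit ..).symm.trans (Equiv.symm_apply_apply _ _)

omit [L.OplaxMonoidal] [adj.IsMonoidal] in
lemma cupShriek_natural (A : C) {B B' : C} (g : B ⟶ B') :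
    cupShriek adj adj' A B ≫ S.map (A ◁ g) = (S.obj A ◁ L.map g) ≫ cupShriek adj adj' A B' := by
  unfold cupShriek
  rw [← Adjunction.homEquiv_naturality_right, ← Adjunction.homEquiv_naturality_left]
  congr 1
  have h := projR_natural adj (𝟙 (S.obj A)) g
  rw [CategoryTheory.Functor.map_id, id_tensorHom, id_tensorHom] at h
  have hw := whisker_exchange (adj'.counit.app A) g
  dsimp at hw
  rw [Category.assoc, ← hw, IsIso.inv_comp_eq, ← Category.assoc, ← Category.assoc,
    ← h, Category.assoc, Category.assoc, IsIso.hom_inv_id_assoc]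

end shriek

end general

section square
variable {fL : S₀ ⥤ Y₁} {fR : Y₁ ⥤ S₀} (adjf : fL ⊣ fR) [fL.OplaxMonoidal] [fR.LaxMonoidal]
    [adjf.IsMonoidal] {gR : Y₂ ⥤ S₀}
    {pL : Y₁ ⥤ X} {pR : X ⥤ Y₁} (adjp : pL ⊣ pR) [pL.OplaxMonoidal] [pR.LaxMonoidal]
    [adjp.IsMonoidal] {qL : Y₂ ⥤ X} {qR : X ⥤ Y₂} (adjq : qL ⊣ qR)
    (ν : qR ⋙ gR ⟶ pR ⋙ fR)

/-- first transpose of extProd (under adjf) -/
lemma extProd_transpose_f (A : Y₁) (B : Y₂) :
    fL.map (extProd adjf adjp adjq ν A B) ≫ adjf.counit.app _ =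
      δ fL (fR.obj A) (gR.obj B) ≫ (adjf.counit.app A ▷ fL.obj (gR.obj B)) ≫
        (A ◁ (bcMor adjf adjq ν).app B) ≫ projL adjp A (qL.obj B) := by
  unfold extProd
  have e1 := adjf.counit_naturality (projL adjp A (qL.obj B))
  have e2 := adjf.counit_naturality (A ◁ (bcMor adjf adjq ν).app B)
  have e3 := projR_transpose adjf A (gR.obj B)
  rw [Functor.map_comp, Functor.map_comp, Category.assoc, Category.assoc]
  erw [e1, reassoc_of% e2, reassoc_of% e3]

theorem main591 (A : Y₁) (B : Y₂) :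
    ((adjf.comp adjp).homEquiv _ _).symm (W4c5suslinpi1ab.extProd adjf adjp adjq ν A B) =
      δ (fL ⋙ pL) (fR.obj A) (gR.obj B) ≫
        (pL.map (adjf.counit.app A) ⊗ₘ
          (pL.map ((W4c5suslinpi1ab.bcMor adjf adjq ν).app B) ≫ adjp.counit.app (qL.obj B))) := by
  rw [Adjunction.homEquiv_counit, Adjunction.comp_counit_app, Functor.comp_map,
    ← Functor.map_comp_assoc, extProd_transpose_f]
  simp only [Functor.map_comp, Category.assoc]
  rw [projL_transpose]
  have h1 := δ_natural_right pL A ((bcMor adjf adjq ν).app B)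
  have h2 := δ_natural_left pL (adjf.counit.app A) (fL.obj (gR.obj B))
  dsimp at h1 h2
  rw [← reassoc_of% h1, ← reassoc_of% h2, comp_δ, MonoidalCategory.tensorHom_def]
  simp only [Category.assoc, MonoidalCategory.whiskerLeft_comp]
  rfl

omit [fL.OplaxMonoidal] [adjf.IsMonoidal] [pL.OplaxMonoidal] [adjp.IsMonoidal] in
@[reassoc]
lemma extProd_natural {A A' : Y₁} {B B' : Y₂} (f : A ⟶ A') (g : B ⟶ B') :
    (fR.map f ⊗ₘ gR.map g) ≫ extProd adjf adjp adjq ν A' B' =
      extProd adjf adjp adjq ν A B ≫ fR.map (pR.map (pL.map f ⊗ₘ qL.map g)) := by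
  unfold extProd
  have h1 := projR_natural adjf f (gR.map g)
  have h2 : (f ⊗ₘ fL.map (gR.map g)) ≫ (A' ◁ (bcMor adjf adjq ν).app B') =
      (A ◁ (bcMor adjf adjq ν).app B) ≫ (f ⊗ₘ pR.map (qL.map g)) := by
    have := (bcMor adjf adjq ν).naturality g
    dsimp at this
    rw [← id_tensorHom, ← id_tensorHom, tensorHom_comp_tensorHom, tensorHom_comp_tensorHom, this]
    simp
  have h3 := projL_natural adjp f (qL.map g)
  rw [reassoc_of% h1]
  simp only [Category.assoc, ← Functor.map_comp]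
  congr 2
  rw [reassoc_of% h2, h3]

omit [fL.OplaxMonoidal] [adjf.IsMonoidal] [pL.OplaxMonoidal] [adjp.IsMonoidal] in
lemma extProd_isIso [∀ (A : Y₁) (B : S₀), IsIso (projR adjf A B)]
    [∀ (A : Y₁) (B : X), IsIso (projL adjp A B)]
    [∀ B : Y₂, IsIso ((bcMor adjf adjq ν).app B)] (A : Y₁) (B : Y₂) :
    IsIso (extProd adjf adjp adjq ν A B) := by
  unfold extProd
  infer_instance

section triples
variable {fS : S₀ ⥤ Y₁} (adjf' : fR ⊣ fS) {gS : S₀ ⥤ Y₂} (adjg' : gR ⊣ gS)
    {pS : Y₁ ⥤ X} (adjp' : pR ⊣ pS)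
    [∀ (A : Y₁) (B : S₀), IsIso (W4c5suslinpi1ab.projR adjf A B)]
    [∀ (A : Y₁) (B : X), IsIso (W4c5suslinpi1ab.projL adjp A B)]
    [∀ B : Y₂, IsIso ((W4c5suslinpi1ab.bcMor adjf adjq ν).app B)]

omit [fL.OplaxMonoidal] [adjf.IsMonoidal] [pL.OplaxMonoidal] [adjp.IsMonoidal] in
lemma extProd_cancel (A' : Y₁) (B' : Y₂) {Z : Y₁} (W : A' ⊗ fL.obj (gR.obj B') ⟶ Z) :
    extProd adjf adjp adjq ν A' B' ≫ fR.map (inv (projL adjp A' (qL.obj B')) ≫
      (A' ◁ inv ((bcMor adjf adjq ν).app B')) ≫ W) =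
    projR adjf A' (gR.obj B') ≫ fR.map W := by
  unfold extProd
  simp only [Category.assoc, ← Functor.map_comp]
  congr 2
  rw [IsIso.hom_inv_id_assoc, ← MonoidalCategory.whiskerLeft_comp_assoc]
  erw [IsIso.hom_inv_id]
  simp

omit [fL.OplaxMonoidal] [adjf.IsMonoidal] [pL.OplaxMonoidal] [adjp.IsMonoidal] in
lemma prodShriek_counit (A B : S₀) :
    pR.map (prodShriek adjf adjf' adjg' adjp adjp' adjq ν A B) ≫ adjp'.counit.app _ =
      inv (projL adjp (fS.obj A) (qL.obj (gS.obj B))) ≫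
        (fS.obj A ◁ inv ((bcMor adjf adjq ν).app (gS.obj B))) ≫
        cupShriek adjf adjf' A (gR.obj (gS.obj B)) ≫ fS.map (A ◁ adjg'.counit.app B) := by
  unfold prodShriek
  exact (adjp'.homEquiv_counit ..).symm.trans (Equiv.symm_apply_apply _ _)

omit [fL.OplaxMonoidal] [adjf.IsMonoidal] [pL.OplaxMonoidal] [adjp.IsMonoidal] in
theorem main593 (A B : S₀) :
    W4c5suslinpi1ab.extProd adjf adjp adjq ν (fS.obj A) (gS.obj B) ≫
      fR.map (pR.map (W4c5suslinpi1ab.prodShriek adjf adjf' adjg' adjp adjp' adjq ν A B)) ≫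
        fR.map (adjp'.counit.app (fS.obj (A ⊗ B))) =
      (fR.obj (fS.obj A) ◁ adjg'.counit.app B) ≫ W4c5suslinpi1ab.projR adjf (fS.obj A) B ≫
        fR.map (W4c5suslinpi1ab.cupShriek adjf adjf' A B) := by
  rw [← Functor.map_comp, prodShriek_counit, extProd_cancel]
  have hn := cupShriek_natural adjf adjf' A (adjg'.counit.app B)
  have hp := projR_natural adjf (𝟙 (fS.obj A)) (adjg'.counit.app B)
  rw [CategoryTheory.Functor.map_id, id_tensorHom, id_tensorHom] at hp
  dsimp at hn hp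
  rw [reassoc_of% hp, ← Functor.map_comp, ← hn]

omit [fL.OplaxMonoidal] [adjf.IsMonoidal] [pL.OplaxMonoidal] [adjp.IsMonoidal] in
theorem main592 (A B : S₀) :
    W4c5suslinpi1ab.extProd adjf adjp adjq ν (fS.obj A) (gS.obj B) ≫
      ((adjp'.comp adjf').homEquiv _ _).symm
        (W4c5suslinpi1ab.prodShriek adjf adjf' adjg' adjp adjp' adjq ν A B) =
      (adjf'.counit.app A ⊗ₘ adjg'.counit.app B) := by
  rw [Adjunction.homEquiv_counit, Adjunction.comp_counit_app, Functor.comp_map]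
  have h := main593 adjf adjp adjq ν adjf' adjg' adjp' A B
  rw [reassoc_of% h, cupShriek_counit, IsIso.hom_inv_id_assoc, MonoidalCategory.tensorHom_def']
  rfl

omit [fL.OplaxMonoidal] [adjf.IsMonoidal] [pL.OplaxMonoidal] [adjp.IsMonoidal] in
theorem main594 (A B : S₀) (A' : Y₁) (B' : Y₂) (C' : X)
    (trA : A' ⟶ fS.obj A) (trB : B' ⟶ gS.obj B) (trC : C' ⟶ pS.obj (fS.obj (A ⊗ B)))
    (m : pL.obj A' ⊗ qL.obj B' ⟶ C') :
    ((pL.map trA ⊗ₘ qL.map trB) ≫ W4c5suslinpi1ab.prodShriek adjf adjf' adjg' adjp adjp' adjq ν A B =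
        m ≫ trC) ↔
      (((adjf'.homEquiv _ _).symm trA ⊗ₘ (adjg'.homEquiv _ _).symm trB) =
        W4c5suslinpi1ab.extProd adjf adjp adjq ν A' B' ≫ fR.map (pR.map m) ≫
          ((adjp'.comp adjf').homEquiv _ _).symm trC) := by
  have := extProd_isIso adjf adjp adjq ν A' B'
  have hL : W4c5suslinpi1ab.extProd adjf adjp adjq ν A' B' ≫
      ((adjp'.comp adjf').homEquiv _ _).symm
        ((pL.map trA ⊗ₘ qL.map trB) ≫ W4c5suslinpi1ab.prodShriek adjf adjf' adjg' adjp adjp' adjq ν A B) =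
      ((adjf'.homEquiv _ _).symm trA ⊗ₘ (adjg'.homEquiv _ _).symm trB) := by
    rw [Adjunction.homEquiv_naturality_left_symm, Functor.comp_map,
      ← extProd_natural_assoc, main592, tensorHom_comp_tensorHom,
      Adjunction.homEquiv_counit, Adjunction.homEquiv_counit]
  have hR : W4c5suslinpi1ab.extProd adjf adjp adjq ν A' B' ≫
      ((adjp'.comp adjf').homEquiv _ _).symm (m ≫ trC) =
      W4c5suslinpi1ab.extProd adjf adjp adjq ν A' B' ≫ fR.map (pR.map m) ≫
          ((adjp'.comp adjf').homEquiv _ _).symm trC := by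
    rw [Adjunction.homEquiv_naturality_left_symm, Functor.comp_map]
  rw [← hL, ← hR, cancel_epi, Equiv.apply_eq_iff_eq]

end triples

end square

end Groth.Agent.Helper27.MA
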