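import Mathlib

/-! S1875, part A: the abstract key lemma. -/

set_option autoImplicit false

namespace Groth.Agent.Helper27.Mp

universe u

open IsLocalRing

theorem length_eq_of_ringEquiv {R S : Type*} [CommRing R] [CommRing S] (e : R ≃+* S) :
    Module.length R R = Module.length S S := by
  letI := e.toRingHom.toAlgebra
  rw [← Module.length_eq_of_surjective (S := R) (R := S) (M := S) e.surjective]
  exact (LinearEquiv.ofBijective (Algebra.linearMap R S) e.bijective).length_eq

theorem length_self_of_isField {E : Type*} [CommRing E] (hE : IsField E) :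
    Module.length E E = 1 := by
  letI := hE.toField
  exact Module.length_eq_one E E

theorem arith {p m : ℕ} (hp : p.Prime ∨ p = 1) {ℓ c : ℕ∞} (h : ((p ^ m : ℕ) : ℕ∞) = ℓ * c) :
    ∃ n : ℕ, ℓ = (p ^ n : ℕ) := by
  have hne : ((p ^ m : ℕ) : ℕ∞) ≠ ⊤ := ENat.natCast_ne_top _
  have hp0 : p ≠ 0 := by
    rcases hp with hp | hp
    · exact hp.ne_zero
    · omega
  have hpm0 : p ^ m ≠ 0 := pow_ne_zero _ hp0
  have hℓ0 : ℓ ≠ 0 := by
    rintro rfl
    rw [zero_mul] at h
    exact hpm0 (by exact_mod_cast h)
  have hc0 : c ≠ 0 := by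
    rintro rfl
    rw [mul_zero] at h
    exact hpm0 (by exact_mod_cast h)
  have hℓt : ℓ ≠ ⊤ := by
    rintro rfl
    rw [ENat.top_mul hc0] at h
    exact hne h
  have hct : c ≠ ⊤ := by
    rintro rfl
    rw [ENat.mul_top hℓ0] at h
    exact hne h
  lift ℓ to ℕ using hℓt
  lift c to ℕ using hct
  have h' : p ^ m = ℓ * c := by exact_mod_cast h
  have hdvd : ℓ ∣ p ^ m := ⟨c, h'⟩
  rcases hp with hp | hp
  · obtain ⟨n, -, hn⟩ := (Nat.dvd_prime_pow hp).mp hdvd
    exact ⟨n, by rw [hn]⟩
  · subst hp
    rw [one_pow] at hdvd
    exact ⟨0, by rw [Nat.dvd_one.mp hdvd]; simp⟩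

section KL

variable {B A : Type u} [CommRing B] [CommRing A] [Algebra B A]

/-- comap of a minimal prime under a flat map is minimal -/
theorem under_mem_minimalPrimes [Module.Flat B A] (q : Ideal A) [q.IsPrime]
    (hq : q ∈ minimalPrimes A) : q.under B ∈ minimalPrimes B := by
  refine ⟨⟨inferInstance, bot_le⟩, ?_⟩
  rintro P ⟨hP, -⟩ hPq
  haveI := hP
  haveI : q.LiesOver (q.under B) := ⟨rfl⟩
  obtain ⟨P', hP'q, hP', hP'P⟩ :=
    Ideal.exists_ideal_le_liesOver_of_le (p := P) (q := q.under B) q hPq
  have h1 : q ≤ P' := hq.2 ⟨hP', bot_le⟩ hP'q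
  have h2 : P' = q := le_antisymm hP'q h1
  rw [hP'P.over, h2]

theorem isField_localization_of_minimal [IsReduced B] (P : Ideal B) [P.IsPrime]
    (hP : P ∈ minimalPrimes B) : IsField (Localization.AtPrime P) := by
  rw [IsLocalRing.isField_iff_maximalIdeal_eq]
  have h := IsLocalization.AtPrime.radical_map_of_mem_minimalPrimes
    (A := Localization.AtPrime P) P ⊥ hP
  rw [Ideal.map_bot, IsLocalization.AtPrime.map_eq_maximalIdeal] at h
  rw [← h]
  exact nilradical_eq_zero _

theorem KL (p m : ℕ) (hp : p.Prime ∨ p = 1) [Module.Free B A] [Module.Finite B A]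
    (hrank : Module.finrank B A = p ^ m) [IsReduced B]
    (hpow : ∀ a : A, ∃ n : ℕ, a ^ (p ^ n) ∈ (algebraMap B A).range)
    (q : Ideal A) [q.IsPrime] (hq : q ∈ minimalPrimes A) :
    ∃ n : ℕ, Module.length (Localization.AtPrime q) (Localization.AtPrime q) = (p ^ n : ℕ) := by
  have hp0 : p ≠ 0 := by
    rcases hp with hp | hp
    · exact hp.ne_zero
    · omega
  set P := q.under B with hPdef
  have hPmin : P ∈ minimalPrimes B := under_mem_minimalPrimes q hq
  have hE : IsField (Localization.AtPrime P) := isField_localization_of_minimal P hPmin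
  set M := Algebra.algebraMapSubmonoid A P.primeCompl with hM
  have hfree : Module.Free (Localization.AtPrime P) (Localization M) :=
    Module.free_of_isLocalizedModule P.primeCompl
      (IsScalarTower.toAlgHom B A (Localization M)).toLinearMap
  have hfr : Module.finrank (Localization.AtPrime P) (Localization M) = p ^ m := by
    rw [Module.finrank_of_isLocalizedModule_of_free (Localization.AtPrime P) P.primeCompl
      (IsScalarTower.toAlgHom B A (Localization M)).toLinearMap, hrank]
  have hle : M ≤ q.primeCompl := by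
    rintro _ ⟨b, hb, rfl⟩
    exact hb
  have hunits : ∀ a ∈ q.primeCompl, IsUnit (algebraMap A (Localization M) a) := by
    intro a ha
    obtain ⟨n, b, hb⟩ := hpow a
    have hbP : b ∈ P.primeCompl := by
      intro hbP
      apply ha
      have : a ^ (p ^ n) ∈ q := by rw [← hb]; exact hbP
      exact Ideal.IsPrime.mem_of_pow_mem inferInstance _ this
    have hu : IsUnit (algebraMap A (Localization M) (a ^ (p ^ n))) := by
      rw [← hb]
      exact IsLocalization.map_units (Localization M) (⟨algebraMap B A b, ⟨b, hbP, rfl⟩⟩ : M)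
    rw [map_pow] at hu
    exact (isUnit_pow_iff (pow_ne_zero _ hp0)).mp hu
  haveI : IsLocalization.AtPrime (Localization M) q :=
    IsLocalization.of_le M q.primeCompl hle hunits
  haveI : IsLocalRing (Localization M) := IsLocalization.AtPrime.isLocalRing (Localization M) q
  haveI : Module.Finite (Localization.AtPrime P) (Localization M) :=
    Module.finite_of_finrank_pos (by rw [hfr]; positivity)
  haveI : IsLocalHom (algebraMap (Localization.AtPrime P) (Localization M)) := by
    constructor
    intro a ha
    by_cases h0 : a = 0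
    · rw [h0, map_zero] at ha
      exact absurd ha not_isUnit_zero
    · obtain ⟨b, hb⟩ := hE.mul_inv_cancel h0
      exact IsUnit.of_mul_eq_one _ hb
  have h1 := IsLocalRing.length_restrictScalars (Localization.AtPrime P) (Localization M)
    (Localization M)
  rw [Module.length_of_free_of_finite, hfr, length_self_of_isField hE, mul_one] at h1
  -- transport to Localization.AtPrime q
  have e : Localization M ≃ₐ[A] Localization.AtPrime q :=
    IsLocalization.algEquiv q.primeCompl _ _
  rw [← length_eq_of_ringEquiv e.toRingEquiv]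
  -- arithmetic
  generalize Module.length (Localization M) (Localization M) = ℓ at h1
  generalize Module.length (ResidueField (Localization.AtPrime P))
    (ResidueField (Localization M)) = c at h1
  exact arith hp h1

end KL

end Groth.Agent.Helper27.Mp
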