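import Mathlib

/-! S1875, part B: `F ⊗[k] K` is a domain for `F/k` purely transcendental. -/

set_option autoImplicit false

namespace Groth.Agent.Helper27.Mp

open TensorProduct

theorem isDomain_tensor_of_isFractionRing (k K P Q : Type*) [Field k] [Field K] [Algebra k K]
    [CommRing P] [IsDomain P] [CommRing Q] [Algebra k P] [Algebra k Q] [Algebra P Q]
    [IsScalarTower k P Q] [IsFractionRing P Q] [IsDomain (P ⊗[k] K)] : IsDomain (Q ⊗[k] K) := by
  letI : Algebra (P ⊗[k] K) (Q ⊗[k] K) :=
    (Algebra.TensorProduct.map (IsScalarTower.toAlgHom k P Q) (AlgHom.id k K)).toRingHom.toAlgebra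
  haveI : IsScalarTower P (P ⊗[k] K) (Q ⊗[k] K) := IsScalarTower.of_algebraMap_eq (fun x => by
    simp [RingHom.algebraMap_toAlgebra, Algebra.TensorProduct.algebraMap_apply])
  have hloc := IsLocalization.tensorProduct_tensorProduct k K (nonZeroDivisors P) Q (by
    ext; simp [RingHom.algebraMap_toAlgebra])
  refine IsLocalization.isDomain_of_le_nonZeroDivisors
    (M := Algebra.algebraMapSubmonoid (P ⊗[k] K) (nonZeroDivisors P)) (Q ⊗[k] K) ?_
  rintro _ ⟨f, hf, rfl⟩
  apply mem_nonZeroDivisors_of_ne_zero
  intro h0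
  have hinj : Function.Injective (algebraMap P (P ⊗[k] K)) :=
    Algebra.TensorProduct.includeLeft_injective (S := P) (algebraMap k K).injective
  exact nonZeroDivisors.ne_zero hf (hinj (by rw [h0, map_zero]))

theorem isDomain_mvPolynomial_tensor (ι k K : Type*) [Field k] [Field K] [Algebra k K] :
    IsDomain (MvPolynomial ι k ⊗[k] K) :=
  MulEquiv.isDomain (MvPolynomial ι K)
    ((Algebra.TensorProduct.comm k (MvPolynomial ι k) K).toMulEquiv.trans
      (MvPolynomial.algebraTensorAlgEquiv k K).toMulEquiv)

theorem isDomain_adjoin_tensor {ι k K L : Type*} [Field k] [Field K] [Field L] [Algebra k K]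
    [Algebra k L] {x : ι → L} (hx : AlgebraicIndependent k x) :
    IsDomain ((IntermediateField.adjoin k (Set.range x)) ⊗[k] K) := by
  haveI := isDomain_mvPolynomial_tensor ι k K
  haveI := isDomain_tensor_of_isFractionRing k K (MvPolynomial ι k)
    (FractionRing (MvPolynomial ι k))
  exact MulEquiv.isDomain (FractionRing (MvPolynomial ι k) ⊗[k] K)
    (Algebra.TensorProduct.congr hx.aevalEquivField.symm (AlgEquiv.refl (A₁ := K))).toMulEquiv

end Groth.Agent.Helper27.Mp
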