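import Mathlib

/-! S1875, part C: reducedness, freeness and the `p`-power property. -/

set_option autoImplicit false

namespace Groth.Agent.Helper27.Mp

open TensorProduct

universe u

theorem isReduced_tensor (k F K E : Type u) [Field k] [Field F] [Field K] [Field E]
    [Algebra k F] [Algebra k K] [Algebra F E] [Algebra k E] [IsScalarTower k F E]
    [Algebra.IsSeparable F E] [Module.Finite F E] [IsDomain (F ⊗[k] K)] :
    IsReduced (E ⊗[k] K) := by
  haveI : Algebra.FormallyUnramified F E := Algebra.FormallyUnramified.of_isSeparable F E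
  haveI : IsReduced (FractionRing (F ⊗[k] K) ⊗[F] E) :=
    Algebra.FormallyUnramified.isReduced_of_field (FractionRing (F ⊗[k] K)) _
  haveI : IsReduced (E ⊗[F] FractionRing (F ⊗[k] K)) :=
    isReduced_of_injective (Algebra.TensorProduct.comm F E (FractionRing (F ⊗[k] K))).toAlgHom
      (Algebra.TensorProduct.comm F E (FractionRing (F ⊗[k] K))).injective
  let f3 : E ⊗[F] (F ⊗[k] K) →ₐ[E] E ⊗[F] FractionRing (F ⊗[k] K) :=
    Algebra.TensorProduct.map (AlgHom.id E E)
      (IsScalarTower.toAlgHom F (F ⊗[k] K) (FractionRing (F ⊗[k] K)))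
  have hf3 : Function.Injective f3 :=
    Module.Flat.lTensor_preserves_injective_linearMap (M := E)
      (IsScalarTower.toAlgHom F (F ⊗[k] K) (FractionRing (F ⊗[k] K))).toLinearMap
      (IsFractionRing.injective (F ⊗[k] K) (FractionRing (F ⊗[k] K)))
  let f2 := Algebra.TensorProduct.cancelBaseChange k F F E K
  exact isReduced_of_injective (f3.toRingHom.comp f2.symm.toRingEquiv.toRingHom)
    (hf3.comp f2.symm.injective)

section Free

variable (k K E₁ E₂ : Type u) [Field k] [Field K] [Field E₁] [Field E₂]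
  [Algebra k K] [Algebra k E₁] [Algebra k E₂] [Algebra E₁ E₂] [IsScalarTower k E₁ E₂]

/-- the base change map `E₁ ⊗ K → E₂ ⊗ K` -/
noncomputable def bc : E₁ ⊗[k] K →ₐ[k] E₂ ⊗[k] K :=
  Algebra.TensorProduct.map (IsScalarTower.toAlgHom k E₁ E₂) (AlgHom.id k K)

theorem free_bc [Module.Finite E₁ E₂] :
    letI : Algebra (E₁ ⊗[k] K) (E₂ ⊗[k] K) := (bc k K E₁ E₂).toRingHom.toAlgebra
    Module.Free (E₁ ⊗[k] K) (E₂ ⊗[k] K) ∧ Module.Finite (E₁ ⊗[k] K) (E₂ ⊗[k] K) ∧
      Module.finrank (E₁ ⊗[k] K) (E₂ ⊗[k] K) = Module.finrank E₁ E₂ := by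
  letI : Algebra (E₁ ⊗[k] K) (E₂ ⊗[k] K) := (bc k K E₁ E₂).toRingHom.toAlgebra
  haveI : IsScalarTower E₁ (E₁ ⊗[k] K) (E₂ ⊗[k] K) := IsScalarTower.of_algebraMap_eq (fun x => by
    simp [RingHom.algebraMap_toAlgebra, Algebra.TensorProduct.algebraMap_apply, bc])
  have hpo : Algebra.IsPushout E₁ E₂ (E₁ ⊗[k] K) (E₂ ⊗[k] K) :=
    Algebra.IsPushout.tensorProduct_tensorProduct k K E₁ E₂ (by
      ext; simp [RingHom.algebraMap_toAlgebra, bc])
  have hbc := hpo.symm.out
  have e := hbc.equiv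
  haveI : Nontrivial (E₁ ⊗[k] K) := by
    have hinj : Function.Injective (algebraMap E₁ (E₁ ⊗[k] K)) :=
      Algebra.TensorProduct.includeLeft_injective (S := E₁) (algebraMap k K).injective
    exact hinj.nontrivial
  refine ⟨Module.Free.of_equiv e, Module.Finite.equiv e, ?_⟩
  rw [← e.finrank_eq, Module.finrank_baseChange]

theorem pow_mem_range_bc [Algebra.IsAlgebraic E₁ E₂] (p : ℕ) [ExpChar k p] [IsPurelyInseparable E₁ E₂]
    (x : E₂ ⊗[k] K) : ∃ n : ℕ, x ^ (p ^ n) ∈ (bc k K E₁ E₂).toRingHom.range := by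
  haveI : Nontrivial (E₂ ⊗[k] K) := by
    have hinj : Function.Injective (algebraMap E₂ (E₂ ⊗[k] K)) :=
      Algebra.TensorProduct.includeLeft_injective (S := E₂) (algebraMap k K).injective
    exact hinj.nontrivial
  haveI : ExpChar (E₂ ⊗[k] K) p :=
    expChar_of_injective_algebraMap (algebraMap k (E₂ ⊗[k] K)).injective p
  haveI : ExpChar E₁ p := expChar_of_injective_algebraMap (algebraMap k E₁).injective p
  induction x using TensorProduct.induction_on with
  | zero => exact ⟨0, 0, by simp⟩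
  | tmul a b =>
    obtain ⟨n, c, hc⟩ := IsPurelyInseparable.pow_mem E₁ p a
    refine ⟨n, c ⊗ₜ (b ^ (p ^ n)), ?_⟩
    rw [Algebra.TensorProduct.tmul_pow, ← hc]
    simp [bc]
  | add x y hx hy =>
    obtain ⟨n, hn⟩ := hx
    obtain ⟨m, hm⟩ := hy
    refine ⟨n + m, ?_⟩
    rw [add_pow_expChar_pow]
    refine add_mem ?_ ?_
    · rw [pow_add, pow_mul]
      exact pow_mem hn _
    · rw [pow_add, mul_comm, pow_mul]
      exact pow_mem hm _

end Free

end Groth.Agent.Helper27.Mp
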