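import Mathlib
import Groth.Agent.Lib.Helper27.MpA
import Groth.Agent.Lib.Helper27.MpB
import Groth.Agent.Lib.Helper27.MpC

/-! S1875, part D: assembly. -/

set_option autoImplicit false

namespace Groth.Agent.Helper27.Mp

open TensorProduct

universe u

theorem main1875 (k K L : Type u) [Field k] [Field K] [Field L] [Algebra k K] [Algebra k L]
    (hL : (⊤ : IntermediateField k L).FG) (p : ℕ) [ExpChar k p] (q : Ideal (K ⊗[k] L))
    [q.IsPrime] (hq : q ∈ minimalPrimes (K ⊗[k] L)) :
    ∃ n : ℕ, Module.length (Localization.AtPrime q) (Localization.AtPrime q) = (p ^ n : ℕ) := by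
  classical
  haveI : Algebra.EssFiniteType k L := IntermediateField.fg_top_iff.mp hL
  obtain ⟨s, hs⟩ := exists_isTranscendenceBasis k L
  let F := IntermediateField.adjoin k (Set.range ((↑) : s → L))
  haveI : Algebra.IsAlgebraic F L := hs.isAlgebraic_field
  haveI : Algebra.EssFiniteType F L := Algebra.EssFiniteType.of_comp k F L
  haveI : Module.Finite F L := Algebra.finite_of_essFiniteType_of_isAlgebraic
  let E₁ := separableClosure F L
  haveI : IsPurelyInseparable E₁ L := separableClosure.isPurelyInseparable F L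
  haveI : Algebra.IsSeparable F E₁ := separableClosure.isSeparable F L
  haveI : IsDomain (F ⊗[k] K) := isDomain_adjoin_tensor hs.1
  haveI : IsReduced (E₁ ⊗[k] K) := isReduced_tensor k F K E₁
  haveI : IsScalarTower k E₁ L := IsScalarTower.of_algebraMap_eq (fun x => rfl)
  haveI : ExpChar E₁ p := expChar_of_injective_algebraMap (algebraMap k E₁).injective p
  obtain ⟨m, hm⟩ := IsPurelyInseparable.finrank_eq_pow (F := E₁) L p
  letI alg₀ : Algebra (E₁ ⊗[k] K) (L ⊗[k] K) := (bc k K E₁ L).toRingHom.toAlgebra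
  obtain ⟨hfree, hfin, hrank⟩ := free_bc k K E₁ L
  letI alg : Algebra (E₁ ⊗[k] K) (K ⊗[k] L) :=
    ((Algebra.TensorProduct.comm k L K).toAlgHom.comp (bc k K E₁ L)).toRingHom.toAlgebra
  let e : (L ⊗[k] K) ≃ₐ[E₁ ⊗[k] K] (K ⊗[k] L) :=
    AlgEquiv.ofRingEquiv (f := (Algebra.TensorProduct.comm k L K).toRingEquiv) (fun x => rfl)
  haveI : Module.Free (E₁ ⊗[k] K) (K ⊗[k] L) := Module.Free.of_equiv e.toLinearEquiv
  haveI : Module.Finite (E₁ ⊗[k] K) (K ⊗[k] L) := Module.Finite.equiv e.toLinearEquiv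
  have hrank' : Module.finrank (E₁ ⊗[k] K) (K ⊗[k] L) = p ^ m := by
    rw [← e.toLinearEquiv.finrank_eq, hrank, hm]
  refine KL p m (expChar_is_prime_or_one k p) hrank' ?_ q hq
  intro a
  obtain ⟨n, b, hb⟩ := pow_mem_range_bc k K E₁ L p ((Algebra.TensorProduct.comm k L K).symm a)
  refine ⟨n, b, ?_⟩
  show (Algebra.TensorProduct.comm k L K) (bc k K E₁ L b) = a ^ (p ^ n)
  rw [show bc k K E₁ L b = _ from hb, map_pow, AlgEquiv.apply_symm_apply]

end Groth.Agent.Helper27.Mp
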