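import Mathlib
import Groth.Prelude.Def_DecSh

/-!
# Dropping steps of a weighted filtration raises `mu` by a bounded amount (request (MU2), helper6)
-/

universe v u
open CategoryTheory CategoryTheory.Limits

namespace Groth.Agent.Helper27.MuSub

/-- (MU2) dropping steps of a weighted filtration raises `mu` by at most `w · a · (αE − 1)`. -/
theorem mu_le_mu_sub {C : Type u} [Category.{v} C] {E : C} (𝓕 𝓕₁ : DecSh.WFilt E)
    (e : Fin 𝓕₁.t → Fin 𝓕.t) (hpiece : ∀ j, 𝓕₁.piece j = 𝓕.piece (e j))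
    (hwt : ∀ j, 𝓕₁.wt j = 𝓕.wt (e j)) (αE : ℤ) (α : Subobject E → ℤ) {a : ℕ} (N : DecSh.NV E a)
    (h1 : ∀ i, 1 ≤ α (𝓕.piece i)) (h2 : ∀ i, α (𝓕.piece i) ≤ αE) :
    𝓕.mu αE α N ≤ 𝓕₁.mu αE α N +
      ((∑ i, 𝓕.wt i) - ∑ j, 𝓕₁.wt j) * (a : ℚ) * ((αE : ℚ) - 1) := by
  classical
  have hinj : Function.Injective e := by
    intro j j' h
    apply 𝓕₁.piece_strictMono.injective
    rw [hpiece, hpiece, h]
  have hαE : (1 : ℤ) ≤ αE := (h1 ⟨0, 𝓕.t_pos⟩).trans (h2 ⟨0, 𝓕.t_pos⟩)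
  have hαEq : (1 : ℚ) ≤ (αE : ℚ) := by exact_mod_cast hαE
  have ha0 : (0 : ℚ) ≤ (a : ℚ) := Nat.cast_nonneg a
  obtain ⟨I₁, hadm₁, hgam₁⟩ := 𝓕₁.exists_gam_eq_mu αE α N
  let ehat : Fin (𝓕₁.t + 1) → Fin (𝓕.t + 1) :=
    Fin.lastCases (Fin.last 𝓕.t) (fun j => (e j).castSucc)
  have hpX : ∀ x, 𝓕.pieceX (ehat x) = 𝓕₁.pieceX x := by
    intro x
    refine Fin.lastCases ?_ (fun j => ?_) x
    · simp [ehat]
    · simp [ehat, hpiece]
  have hmX : ∀ x, 𝓕.mulX αE α (ehat x) = 𝓕₁.mulX αE α x := by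
    intro x
    refine Fin.lastCases ?_ (fun j => ?_) x
    · simp [ehat]
    · simp [ehat, hpiece]
  let I : Fin a → Fin (𝓕.t + 1) := fun j => ehat (I₁ j)
  have hadm : 𝓕.Adm N I := by
    unfold DecSh.WFilt.Adm
    have : (fun j => 𝓕.pieceX (I j)) = fun j => 𝓕₁.pieceX (I₁ j) := by
      funext j
      exact hpX _
    rw [this]
    exact hadm₁
  refine (𝓕.mu_le_gam αE α N hadm).trans ?_
  rw [← hgam₁]
  -- comparison of `nu`
  have hnu : ∀ k, 𝓕.nu αE α I (e k) = 𝓕₁.nu αE α I₁ k := by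
    intro k
    unfold DecSh.WFilt.nu
    congr 1
    ext j
    simp only [Finset.mem_filter, Finset.mem_univ, true_and]
    rw [show 𝓕.mulX αE α (I j) = 𝓕₁.mulX αE α (I₁ j) from hmX _, hpiece]
  -- the terms
  let T : Fin 𝓕.t → ℚ := fun i =>
    𝓕.wt i * ((a : ℚ) * (α (𝓕.piece i) : ℚ) - (𝓕.nu αE α I i : ℚ) * (αE : ℚ))
  have hg : 𝓕.gam αE α I = ∑ i ∈ Finset.univ.image e, T i + ∑ i ∈ (Finset.univ.image e)ᶜ, T i :=
    (Finset.sum_add_sum_compl (Finset.univ.image e) T).symm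
  have hsum1 : ∑ i ∈ Finset.univ.image e, T i = 𝓕₁.gam αE α I₁ := by
    rw [Finset.sum_image (fun x _ y _ h => hinj h)]
    unfold DecSh.WFilt.gam
    refine Finset.sum_congr rfl (fun k _ => ?_)
    simp only [T]
    rw [hnu, ← hwt, ← hpiece]
  have hterm : ∀ i, T i ≤ 𝓕.wt i * ((a : ℚ) * ((αE : ℚ) - 1)) := by
    intro i
    apply mul_le_mul_of_nonneg_left _ (𝓕.wt_pos i).le
    rcases (h2 i).lt_or_eq with hlt | heq
    · have h3 : α (𝓕.piece i) ≤ αE - 1 := by omega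
      have h3q : (α (𝓕.piece i) : ℚ) ≤ (αE : ℚ) - 1 := by exact_mod_cast h3
      have hnn : (0 : ℚ) ≤ (𝓕.nu αE α I i : ℚ) * (αE : ℚ) :=
        mul_nonneg (Nat.cast_nonneg _) (by linarith)
      have := mul_le_mul_of_nonneg_left h3q ha0
      linarith
    · have hnua : 𝓕.nu αE α I i = a := by
        unfold DecSh.WFilt.nu
        rw [Finset.filter_true_of_mem]
        · simp
        · intro j _
          rw [heq]
          refine Fin.lastCases ?_ (fun i' => ?_) (I j)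
          · simp
          · simp [h2 i']
      rw [hnua, heq]
      nlinarith
  have hsum2 : ∑ i ∈ (Finset.univ.image e)ᶜ, T i ≤
      (∑ i ∈ (Finset.univ.image e)ᶜ, 𝓕.wt i) * ((a : ℚ) * ((αE : ℚ) - 1)) := by
    rw [Finset.sum_mul]
    exact Finset.sum_le_sum (fun i _ => hterm i)
  have hw : ∑ i ∈ (Finset.univ.image e)ᶜ, 𝓕.wt i = (∑ i, 𝓕.wt i) - ∑ j, 𝓕₁.wt j := by
    have key := Finset.sum_add_sum_compl (Finset.univ.image e) 𝓕.wt
    rw [Finset.sum_image (fun x _ y _ h => hinj h)] at key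
    have : ∑ j, 𝓕₁.wt j = ∑ x, 𝓕.wt (e x) := Finset.sum_congr rfl (fun k _ => hwt k)
    linarith
  rw [hg, hsum1]
  rw [hw] at hsum2
  linarith

end Groth.Agent.Helper27.MuSub
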