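import Mathlib

/-! A multiplicative polynomial function on `n × n` matrices over an algebraically closed field
is a power of the determinant. -/

namespace Groth.Agent.Helper27.MultDet
open Matrix

variable {F : Type*} [Field F]

lemma eval_aeval_poly {σ : Type*} (g : σ → Polynomial F) (N : MvPolynomial σ F) (c : F) :
    (MvPolynomial.aeval g N).eval c = MvPolynomial.eval (fun s => (g s).eval c) N := by
  induction N using MvPolynomial.induction_on with
  | C a => simp
  | add p q hp hq => simp [hp, hq]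
  | mul_X p s hp => simp [hp]

/-- a polynomial function `F → F` turning addition into multiplication is constant `1` -/
lemma additive_char_trivial [IsAlgClosed F] (Q : Polynomial F)
    (hQ : ∀ c d : F, Q.eval (c + d) = Q.eval c * Q.eval d) (h0 : Q.eval 0 = 1) (c : F) :
    Q.eval c = 1 := by
  have hne : ∀ c, Q.eval c ≠ 0 := by
    intro c hc
    have := hQ c (-c)
    rw [add_neg_cancel, h0, hc, zero_mul] at this
    exact one_ne_zero this
  have hdeg : Q.degree = 0 := by
    by_contra hd
    obtain ⟨r, hr⟩ := IsAlgClosed.exists_root Q hd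
    exact hne r hr
  rw [Polynomial.eq_C_of_degree_eq_zero hdeg] at h0 ⊢
  simpa using h0

/-- a polynomial function `F → F` that is multiplicative and sends `1` to `1` is a power -/
lemma mult_char_pow [Infinite F] (Q : Polynomial F)
    (hQ : ∀ c d : F, Q.eval (c * d) = Q.eval c * Q.eval d) (h1 : Q.eval 1 = 1) :
    ∃ m : ℕ, ∀ t : F, Q.eval t = t ^ m := by
  have hQ0 : Q ≠ 0 := by
    rintro rfl
    simp at h1
  refine ⟨Q.natDegree, fun t => ?_⟩
  have hpoly : Q.comp (Polynomial.C t * Polynomial.X) = Polynomial.C (Q.eval t) * Q := by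
    apply Polynomial.funext
    intro s
    simp [hQ]
  have := congrArg (fun p => Polynomial.coeff p Q.natDegree) hpoly
  simp only [Polynomial.comp_C_mul_X_coeff, Polynomial.coeff_C_mul] at this
  have hlead : Q.coeff Q.natDegree ≠ 0 := by
    rw [Polynomial.coeff_natDegree]; exact Polynomial.leadingCoeff_ne_zero.mpr hQ0
  have h2 : Q.coeff Q.natDegree * (t ^ Q.natDegree - Q.eval t) = 0 := by
    linear_combination this
  rcases mul_eq_zero.mp h2 with h | h
  · exact absurd h hlead
  · exact (sub_eq_zero.mp h).symm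

section main
variable {n : ℕ} (N : MvPolynomial (Fin n × Fin n) F)

/-- the function on matrices defined by `N` -/
noncomputable def ν (x : Matrix (Fin n) (Fin n) F) : F :=
  MvPolynomial.eval (fun ij : Fin n × Fin n => x ij.1 ij.2) N

variable (hmul : ∀ x y : Matrix (Fin n) (Fin n) F, ν N (x * y) = ν N x * ν N y)
include hmul

lemma ν_one [Infinite F] (hN : N ≠ 0) : ν N 1 = 1 := by
  have h := hmul 1 1
  rw [one_mul] at h
  have h' : ν N 1 * (ν N 1 - 1) = 0 := by linear_combination -h
  rcases mul_eq_zero.mp h' with h0 | h0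
  · exfalso
    apply hN
    apply MvPolynomial.funext
    intro v
    have hx := hmul (Matrix.of fun i j => v (i, j)) 1
    rw [mul_one, h0, mul_zero] at hx
    simpa [ν] using hx
  · exact sub_eq_zero.mp h0

lemma ν_transvection [IsAlgClosed F] (h1 : ν N 1 = 1) (i j : Fin n) (hij : i ≠ j) (c : F) :
    ν N (transvection i j c) = 1 := by
  obtain ⟨Q, hQ⟩ : ∃ Q : Polynomial F, ∀ c, Q.eval c = ν N (transvection i j c) := by
    refine ⟨MvPolynomial.aeval (fun ab : Fin n × Fin n =>
      Polynomial.C ((1 : Matrix (Fin n) (Fin n) F) ab.1 ab.2) +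
        (if ab.1 = i ∧ ab.2 = j then Polynomial.X else 0)) N, fun c => ?_⟩
    rw [eval_aeval_poly]
    unfold ν
    congr 2
    funext ab
    by_cases h : ab.1 = i ∧ ab.2 = j
    · obtain ⟨a, b⟩ := ab
      obtain ⟨rfl, rfl⟩ := h
      simp [transvection, Matrix.single]
    · simp only [transvection, h, if_false, Polynomial.eval_add, Polynomial.eval_C,
        Polynomial.eval_zero, add_zero, Matrix.add_apply]
      have : Matrix.single i j c ab.1 ab.2 = 0 := by
        simp only [Matrix.single, Matrix.of_apply]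
        rw [if_neg]
        rintro ⟨rfl, rfl⟩
        exact h ⟨rfl, rfl⟩
      rw [this, add_zero]
  rw [← hQ]
  apply additive_char_trivial Q
  · intro c d
    rw [hQ, hQ, hQ, ← hmul, transvection_mul_transvection_same i j hij]
  · rw [hQ, transvection_zero, h1]

lemma ν_mulSingle [Infinite F] (h1 : ν N 1 = 1) (l : Fin n) :
    ∃ m : ℕ, ∀ t : F, ν N (diagonal (Pi.mulSingle l t)) = t ^ m := by
  obtain ⟨Q, hQ⟩ : ∃ Q : Polynomial F, ∀ t, Q.eval t = ν N (diagonal (Pi.mulSingle l t)) := by
    refine ⟨MvPolynomial.aeval (fun ab : Fin n × Fin n =>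
      if ab.1 = ab.2 then (if ab.1 = l then Polynomial.X else 1) else 0) N, fun t => ?_⟩
    rw [eval_aeval_poly]
    unfold ν
    congr 2
    funext ab
    by_cases h : ab.1 = ab.2
    · rw [if_pos h, ← h, Matrix.diagonal_apply_eq]
      by_cases h' : ab.1 = l
      · rw [if_pos h', h']; simp
      · rw [if_neg h', Pi.mulSingle_eq_of_ne h']; simp
    · rw [if_neg h, Matrix.diagonal_apply_ne _ h]; simp
  obtain ⟨m, hm⟩ := mult_char_pow Q (by
    intro c d
    rw [hQ, hQ, hQ, ← hmul, Matrix.diagonal_mul_diagonal]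
    congr 2
    rw [Pi.mulSingle_mul]
    rfl) (by
    rw [hQ, Pi.mulSingle_one, ← h1]
    rfl)
  exact ⟨m, fun t => by rw [← hQ, hm]⟩

lemma ν_swap (h1 : ν N 1 = 1) (l l' : Fin n) (d : Fin n → F) :
    ν N (diagonal (d ∘ Equiv.swap l l')) = ν N (diagonal d) := by
  obtain ⟨P, hP⟩ : ∃ P : Matrix (Fin n) (Fin n) F, P = (Equiv.swap l l').toPEquiv.toMatrix :=
    ⟨_, rfl⟩
  have hPP : P * P = 1 := by
    rw [hP, ← PEquiv.toMatrix_trans, ← Equiv.toPEquiv_trans]
    have : (Equiv.swap l l').trans (Equiv.swap l l') = Equiv.refl _ := by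
      ext x; simp
    rw [this, Equiv.toPEquiv_refl, PEquiv.toMatrix_refl]
  have hconj : P * diagonal d * P = diagonal (d ∘ Equiv.swap l l') := by
    rw [hP, PEquiv.toMatrix_toPEquiv_mul, PEquiv.mul_toMatrix_toPEquiv, Equiv.symm_swap,
      Matrix.submatrix_submatrix]
    exact Matrix.submatrix_diagonal d _ (Equiv.injective _)
  rw [← hconj, hmul, hmul]
  have : ν N P * ν N P = 1 := by rw [← hmul, hPP, h1]
  linear_combination (ν N (diagonal d)) * this

theorem main [IsAlgClosed F] [CharZero F] (hN : N ≠ 0) :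
    ∃ m : ℕ, ∀ x : Matrix (Fin n) (Fin n) F, ν N x = x.det ^ m := by
  have h1 := ν_one N hmul hN
  rcases Nat.eq_zero_or_pos n with hn | hn
  · subst hn
    refine ⟨0, fun x => ?_⟩
    rw [pow_zero, Subsingleton.elim x 1, h1]
  obtain ⟨m, hm⟩ := ν_mulSingle N hmul h1 ⟨0, hn⟩
  have hsingle : ∀ (l : Fin n) (t : F), ν N (diagonal (Pi.mulSingle l t)) = t ^ m := by
    intro l t
    rw [← hm t, ← ν_swap N hmul h1 l ⟨0, hn⟩ (Pi.mulSingle l t)]
    congr 2
    funext a
    simp only [Function.comp_apply]
    by_cases ha : a = ⟨0, hn⟩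
    · subst ha; simp
    · rw [Pi.mulSingle_eq_of_ne ha]
      by_cases ha' : a = l
      · subst ha'
        rw [Equiv.swap_apply_left]
        by_cases h0 : (⟨0, hn⟩ : Fin n) = a
        · exact absurd h0.symm ha
        · rw [Pi.mulSingle_eq_of_ne h0]
      · rw [Equiv.swap_apply_of_ne_of_ne ha' ha, Pi.mulSingle_eq_of_ne ha']
  -- diagonal matrices
  let φ : (Fin n → F) →* F :=
    { toFun := fun d => ν N (diagonal d)
      map_one' := by rw [← h1]; rfl
      map_mul' := fun d d' => by rw [← hmul, Matrix.diagonal_mul_diagonal]; rfl }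
  have hdiag : ∀ D : Fin n → F, ν N (diagonal D) = (∏ l, D l) ^ m := by
    intro D
    have e1 : ν N (diagonal D) = φ D := rfl
    rw [e1, ← Finset.univ_prod_mulSingle D, map_prod, ← Finset.prod_pow]
    apply Finset.prod_congr rfl
    intro l _
    have : φ (Pi.mulSingle l (D l)) = ν N (diagonal (Pi.mulSingle l (D l))) := rfl
    rw [this, hsingle, Finset.univ_prod_mulSingle]
  refine ⟨m, fun x => ?_⟩
  apply Matrix.diagonal_transvection_induction (fun x => ν N x = x.det ^ m) x
  · intro D _
    rw [hdiag, Matrix.det_diagonal]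
  · intro t
    rw [TransvectionStruct.det, one_pow]
    exact ν_transvection N hmul h1 t.i t.j t.hij t.c
  · intro A B hA hB
    rw [hmul, hA, hB, Matrix.det_mul, mul_pow]

end main

end Groth.Agent.Helper27.MultDet
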