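import Mathlib
import Groth.Prelude.Def_W4c5spincurvestfNode

set_option autoImplicit false
universe u

namespace Groth.Agent.Helper27.Node

open MvPowerSeries Finsupp

variable (k : Type u) [Field k]

/-- coefficient map -/
noncomputable def Φ (u v : ℕ) : MvPowerSeries (Fin 2) k →ₗ[k] (Fin u → k) × (Fin (v - 1) → k) :=
  LinearMap.prod (LinearMap.pi fun i => coeff (single 0 (i : ℕ)))
    (LinearMap.pi fun j => coeff (single 1 ((j : ℕ) + 1)))

variable {k}

lemma Φ_eq_zero_iff (u v : ℕ) (hu : 1 ≤ u) (f : MvPowerSeries (Fin 2) k) :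
    Φ k u v f = 0 ↔ (∀ i < u, coeff (single 0 i) f = 0) ∧ (∀ j < v, coeff (single 1 j) f = 0) := by
  constructor
  · intro h
    have h1 := congrArg Prod.fst h
    have h2 := congrArg Prod.snd h
    refine ⟨fun i hi => ?_, fun j hj => ?_⟩
    · exact congrFun h1 ⟨i, hi⟩
    · rcases Nat.eq_zero_or_pos j with rfl | hj0
      · have := congrFun h1 ⟨0, hu⟩
        have e : (single (1 : Fin 2) 0 : Fin 2 →₀ ℕ) = single 0 0 := by simp
        rw [e]; exact this
      · have := congrFun h2 ⟨j - 1, by omega⟩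
        have e : j - 1 + 1 = j := by omega
        change coeff (single 1 (j - 1 + 1)) f = 0 at this
        rw [e] at this
        exact this
  · rintro ⟨h1, h2⟩
    ext i
    · exact h1 i i.2
    · exact h2 _ (by have := i.2; omega)

lemma single01_ne (a b : ℕ) (hb : b ≠ 0) : (single (0 : Fin 2) a : Fin 2 →₀ ℕ) ≠ single 1 b := by
  intro h
  have := DFunLike.congr_fun h 1
  simp at this
  exact hb this.symm

lemma le_iff (m n : Fin 2 →₀ ℕ) : m ≤ n ↔ m 0 ≤ n 0 ∧ m 1 ≤ n 1 := by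
  constructor
  · intro h; exact ⟨h 0, h 1⟩
  · rintro ⟨h0, h1⟩ i
    fin_cases i
    · exact h0
    · exact h1

noncomputable def pA (u : ℕ) (f : MvPowerSeries (Fin 2) k) : MvPowerSeries (Fin 2) k :=
  fun m => if m 1 = 0 then coeff (m + single 0 u) f else 0
noncomputable def pB (v : ℕ) (w : k) (f : MvPowerSeries (Fin 2) k) : MvPowerSeries (Fin 2) k :=
  fun m => if m 0 = 0 then w⁻¹ * coeff (m + single 1 v) f else 0
noncomputable def pC (f : MvPowerSeries (Fin 2) k) : MvPowerSeries (Fin 2) k :=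
  fun m => coeff (m + (single 0 1 + single 1 1)) f

lemma coeff_pA (u : ℕ) (f : MvPowerSeries (Fin 2) k) (m) :
    coeff m (pA u f) = if m 1 = 0 then coeff (m + single 0 u) f else 0 := rfl
lemma coeff_pB (v : ℕ) (w : k) (f : MvPowerSeries (Fin 2) k) (m) :
    coeff m (pB v w f) = if m 0 = 0 then w⁻¹ * coeff (m + single 1 v) f else 0 := rfl
lemma coeff_pC (f : MvPowerSeries (Fin 2) k) (m) :
    coeff m (pC f) = coeff (m + (single 0 1 + single 1 1)) f := rfl

lemma ker_Φ (u v : ℕ) (hu : 1 ≤ u) (hv : 1 ≤ v) (w : k) (hw : w ≠ 0) (f : MvPowerSeries (Fin 2) k) :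
    Φ k u v f = 0 ↔ ∃ a b c : MvPowerSeries (Fin 2) k,
      f = a * X 0 ^ u + b * (C w * X 1 ^ v) + c * (X 0 * X 1 - C 0) := by
  classical
  rw [Φ_eq_zero_iff u v hu]
  have hXY : (X 0 * X 1 - C 0 : MvPowerSeries (Fin 2) k) = monomial (single 0 1 + single 1 1) 1 := by
    rw [map_zero, sub_zero, X, X, monomial_mul_monomial, one_mul]
  constructor
  · rintro ⟨h1, h2⟩
    refine ⟨pA u f, pB v w f, pC f, ?_⟩
    ext m
    rw [hXY, X_pow_eq, X_pow_eq, map_add, map_add, coeff_mul_monomial, ← mul_assoc, coeff_mul_monomial,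
      coeff_mul_monomial, coeff_mul_C, coeff_pA, coeff_pB, coeff_pC]
    simp only [le_iff, Finsupp.add_apply, Finsupp.single_apply, Finsupp.tsub_apply]
    by_cases hm1 : m 1 = 0
    · by_cases hm0 : u ≤ m 0
      · have e : m - single 0 u + single 0 u = m := tsub_add_cancel_of_le (by
          rw [le_iff]; simp [hm0])
        simp [hm1, hm0, e]
        intro h; omega
      · have hm : m = single 0 (m 0) := by
          ext i; fin_cases i <;> simp [hm1]
        have := h1 (m 0) (by omega)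
        rw [← hm] at this
        have hv0 : v ≠ 0 := by omega
        simp [hm1, hm0, this, hv0]
    · by_cases hm0 : m 0 = 0
      · by_cases hmv : v ≤ m 1
        · have e : m - single 1 v + single 1 v = m := tsub_add_cancel_of_le (by
            rw [le_iff]; simp [hmv])
          simp [hm1, hm0, hmv, e]
          field_simp
        · have hm : m = single 1 (m 1) := by
            ext i; fin_cases i <;> simp [hm0]
          have := h2 (m 1) (by omega)
          rw [← hm] at this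
          simp [hm1, hm0, hmv, this]
      · have e : m - (single 0 1 + single 1 1) + (single 0 1 + single 1 1) = m :=
          tsub_add_cancel_of_le (by
            rw [le_iff]; simp; omega)
        have h11 : 1 ≤ m 0 ∧ 1 ≤ m 1 := by omega
        simp [hm1, hm0, e, h11]
  · rintro ⟨a, b, c, rfl⟩
    rw [hXY, X_pow_eq, X_pow_eq, ← mul_assoc]
    refine ⟨fun i hi => ?_, fun j hj => ?_⟩
    · rw [map_add, map_add, coeff_mul_monomial, coeff_mul_monomial, coeff_mul_monomial]
      simp only [le_iff, Finsupp.add_apply, Finsupp.single_apply]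
      simp
      rw [if_neg (by omega), if_neg (by omega), add_zero]
    · rw [map_add, map_add, coeff_mul_monomial, coeff_mul_monomial, coeff_mul_monomial]
      simp only [le_iff, Finsupp.add_apply, Finsupp.single_apply]
      simp
      rw [if_neg (by omega), if_neg (by omega), add_zero]


noncomputable def pS (u v : ℕ) (p : (Fin u → k) × (Fin (v - 1) → k)) : MvPowerSeries (Fin 2) k :=
  fun m => if h : m 1 = 0 ∧ m 0 < u then p.1 ⟨m 0, h.2⟩
    else if h' : m 0 = 0 ∧ 1 ≤ m 1 ∧ m 1 < v then p.2 ⟨m 1 - 1, by omega⟩ else 0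

lemma Φ_surj (u v : ℕ) : Function.Surjective (Φ k u v) := by
  intro p
  refine ⟨pS u v p, ?_⟩
  ext i
  · change coeff (single 0 (i : ℕ)) (pS u v p) = p.1 i
    rw [coeff_apply, pS]
    have h : (single (0 : Fin 2) (i : ℕ) : Fin 2 →₀ ℕ) 1 = 0 ∧ (single (0 : Fin 2) (i : ℕ) : Fin 2 →₀ ℕ) 0 < u := by
      simp
    rw [dif_pos h]
    exact congrArg _ (Fin.ext (by simp))
  · change coeff (single 1 ((i : ℕ) + 1)) (pS u v p) = p.2 i
    rw [coeff_apply, pS]
    have h : ¬ ((single (1 : Fin 2) ((i : ℕ) + 1) : Fin 2 →₀ ℕ) 1 = 0 ∧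
        (single (1 : Fin 2) ((i : ℕ) + 1) : Fin 2 →₀ ℕ) 0 < u) := by
      simp
    have h' : (single (1 : Fin 2) ((i : ℕ) + 1) : Fin 2 →₀ ℕ) 0 = 0 ∧
        1 ≤ (single (1 : Fin 2) ((i : ℕ) + 1) : Fin 2 →₀ ℕ) 1 ∧
        (single (1 : Fin 2) ((i : ℕ) + 1) : Fin 2 →₀ ℕ) 1 < v := by
      have := i.2
      simp
      omega
    rw [dif_neg h, dif_pos h']
    exact congrArg _ (Fin.ext (by simp))

theorem finrank_node (k : Type u) [Field k] (u v : ℕ) (hu : 1 ≤ u) (hv : 1 ≤ v)
    (w : k) (hw : w ≠ 0) :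
    Module.finrank k (SpinCurv.NodeRing k 0 ⧸
      Ideal.span {SpinCurv.NodeRing.x k 0 ^ u, algebraMap k (SpinCurv.NodeRing k 0) w * SpinCurv.NodeRing.y k 0 ^ v}) =
      u + v - 1 := by
  classical
  set I₁ : Ideal (MvPowerSeries (Fin 2) k) :=
    Ideal.span {(MvPowerSeries.X 0 * MvPowerSeries.X 1 - MvPowerSeries.C (0 : k) : MvPowerSeries (Fin 2) k)} with hI₁
  set I₂ : Ideal (SpinCurv.NodeRing k 0) :=
    Ideal.span {SpinCurv.NodeRing.x k 0 ^ u, algebraMap k (SpinCurv.NodeRing k 0) w * SpinCurv.NodeRing.y k 0 ^ v} with hI₂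
  let π : MvPowerSeries (Fin 2) k →ₗ[k] (SpinCurv.NodeRing k 0 ⧸ I₂) :=
    (Ideal.Quotient.mkₐ k I₂).toLinearMap ∘ₗ (Ideal.Quotient.mkₐ k I₁).toLinearMap
  have hπ : Function.Surjective π := by
    intro z
    obtain ⟨y, rfl⟩ := Ideal.Quotient.mk_surjective z
    obtain ⟨x, rfl⟩ := Ideal.Quotient.mk_surjective y
    exact ⟨x, rfl⟩
  have hker : LinearMap.ker π = LinearMap.ker (Φ k u v) := by
    ext f
    rw [LinearMap.mem_ker, LinearMap.mem_ker, ker_Φ u v hu hv w hw]
    change Ideal.Quotient.mk I₂ (Ideal.Quotient.mk I₁ f) = 0 ↔ _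
    rw [Ideal.Quotient.eq_zero_iff_mem, hI₂, Ideal.mem_span_pair]
    constructor
    · rintro ⟨a, b, hab⟩
      obtain ⟨a, rfl⟩ := Ideal.Quotient.mk_surjective a
      obtain ⟨b, rfl⟩ := Ideal.Quotient.mk_surjective b
      have e : Ideal.Quotient.mk I₁ (a * X 0 ^ u + b * (C w * X 1 ^ v)) = Ideal.Quotient.mk I₁ f := by
        rw [← hab]
        simp only [map_add, map_mul, map_pow]
        rfl
      rw [Ideal.Quotient.eq, hI₁, Ideal.mem_span_singleton'] at e
      obtain ⟨c, hc⟩ := e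
      refine ⟨a, b, -c, ?_⟩
      rw [neg_mul, hc]; ring
    · rintro ⟨a, b, c, rfl⟩
      refine ⟨Ideal.Quotient.mk I₁ a, Ideal.Quotient.mk I₁ b, ?_⟩
      have hc : Ideal.Quotient.mk I₁ (c * (X 0 * X 1 - C 0)) = 0 := by
        rw [Ideal.Quotient.eq_zero_iff_mem]
        exact Ideal.mul_mem_left _ _ (Ideal.subset_span rfl)
      rw [map_add, hc, add_zero]
      simp only [map_add, map_mul, map_pow]
      rfl
  let e : (SpinCurv.NodeRing k 0 ⧸ I₂) ≃ₗ[k] (Fin u → k) × (Fin (v - 1) → k) :=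
    (π.quotKerEquivOfSurjective hπ).symm ≪≫ₗ (Submodule.quotEquivOfEq _ _ hker) ≪≫ₗ
      (Φ k u v).quotKerEquivOfSurjective (Φ_surj u v)
  rw [e.finrank_eq, Module.finrank_prod, Module.finrank_fin_fun, Module.finrank_fin_fun]
  omega

end Groth.Agent.Helper27.Node
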