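import Mathlib
import Groth.Agent.Lib.Helper27.FcH

/-!
# Nilpotent pairs as filtered colimits with fibre products (helper27; for S18016), part A:
elements of a pullback of commutative rings; light versions of lemmas on `tau`.
-/

set_option autoImplicit false

universe u

open Groth.Agent.Helper11 Groth.Agent.Helper11.UH MvPolynomial CategoryTheory Limits

namespace Groth.Agent.Helper27.Np

open Groth.Agent.Helper27.Fc

section pb

variable {B D D' P : Type u} [CommRing B] [CommRing D] [CommRing D'] [CommRing P]
  (f : B →+* D) (i : D' →+* D) (q₁ : P →+* B) (q₂ : P →+* D')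

theorem pullback_elems
    (hP : IsPullback (CommRingCat.ofHom q₁) (CommRingCat.ofHom q₂) (CommRingCat.ofHom f)
      (CommRingCat.ofHom i)) :
    (∀ p, f (q₁ p) = i (q₂ p)) ∧ (∀ p p', q₁ p = q₁ p' → q₂ p = q₂ p' → p = p') ∧
      (∀ b d', f b = i d' → ∃ p, q₁ p = b ∧ q₂ p = d') := by
  have h' := IsPullback.of_isLimit
    (CommRingCat.pullbackConeIsLimit (CommRingCat.ofHom f) (CommRingCat.ofHom i))
  let E : Subring (B × D') :=
    RingHom.eqLocus (f.comp (RingHom.fst B D')) (i.comp (RingHom.snd B D'))
  let e : CommRingCat.of P ≅ CommRingCat.of E := hP.isoIsPullback _ _ h'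
  have e1 : ∀ p : P, (e.hom.hom p : E).1.1 = q₁ p := by
    intro p
    have := hP.isoIsPullback_hom_fst _ _ h'
    exact congrArg (fun g => g.hom p) this
  have e2 : ∀ p : P, (e.hom.hom p : E).1.2 = q₂ p := by
    intro p
    have := hP.isoIsPullback_hom_snd _ _ h'
    exact congrArg (fun g => g.hom p) this
  refine ⟨?_, ?_, ?_⟩
  · intro p
    have := hP.w
    exact congrArg (fun g => g.hom p) this
  · intro p p' h1 h2
    have h3 : e.hom.hom p = e.hom.hom p' := by
      apply Subtype.ext
      apply Prod.ext
      · rw [e1, e1, h1]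
      · rw [e2, e2, h2]
    have h4 : e.inv.hom (e.hom.hom p) = e.inv.hom (e.hom.hom p') := by rw [h3]
    have h5 : ∀ z : P, e.inv.hom (e.hom.hom z) = z := by
      intro z
      have := e.hom_inv_id
      exact congrArg (fun g => g.hom z) this
    rw [h5, h5] at h4
    exact h4
  · intro b d' hbd
    let x : E := ⟨(b, d'), hbd⟩
    refine ⟨e.inv.hom x, ?_, ?_⟩
    · have := hP.isoIsPullback_inv_fst _ _ h'
      exact congrArg (fun g => g.hom x) this
    · have := hP.isoIsPullback_inv_snd _ _ h'
      exact congrArg (fun g => g.hom x) this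

end pb

end Groth.Agent.Helper27.Np
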