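import Mathlib
import Groth.Agent.Lib.Helper27.NpA

/-!
# Nilpotent pairs as filtered colimits with fibre products (helper27; for S18016), part B:
repair of locally nilpotent kernels for a pair of approximations.
-/

set_option autoImplicit false

universe u

open Groth.Agent.Helper11 Groth.Agent.Helper11.UH MvPolynomial CategoryTheory Limits

namespace Groth.Agent.Helper27.Np

open Groth.Agent.Helper27.Fc

variable {A B C : Type u} [CommRing A] [CommRing B] [CommRing C] [Algebra A B] [Algebra A C]
  [Algebra B C] [IsScalarTower A B C]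

theorem gen_congr (j : PreIdx A B) {s s' : B} (h : s = s') (hs : s ∈ j.1) (hs' : s' ∈ j.1) :
    gen j s hs = gen j s' hs' := by
  subst h
  rfl

theorem tau_surjective' (i : PIdx A B C) (h : Compat i)
    (hl : ∀ t ∈ i.2.1, ∃ s ∈ i.1.1, algebraMap B C s = t) : Function.Surjective (tau i h) := by
  intro y
  refine gen_induction i.2 (fun y => ∃ x, tau i h x = y) ?_ ?_ ?_ ?_ y
  · intro a
    exact ⟨algebraMap A (QQ i.1) a, tau_algebraMap i h a⟩
  · rintro x y ⟨a, rfl⟩ ⟨b, rfl⟩
    exact ⟨a + b, map_add _ _ _⟩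
  · rintro x y ⟨a, rfl⟩ ⟨b, rfl⟩
    exact ⟨a * b, map_mul _ _ _⟩
  · intro t ht
    obtain ⟨s, hs', rfl⟩ := hl t ht
    exact ⟨gen i.1 s hs', tau_gen i h s hs'⟩

theorem ker_tau_fg' (i : PIdx A B C) (h : Compat i) (hs : Function.Surjective (tau i h)) :
    (RingHom.ker (tau i h)).FG := by
  haveI : Algebra.FinitePresentation A (QQ i.1) :=
    RingHom.finitePresentation_algebraMap.mp (finitePresentation_QQ i.1)
  haveI : Algebra.FinitePresentation A (QQ i.2) :=
    RingHom.finitePresentation_algebraMap.mp (finitePresentation_QQ i.2)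
  exact Algebra.FinitePresentation.ker_fG_of_surjective (tauA i h) hs

/-- Finitely many relations on the source side which make the kernel of `tau` locally nilpotent
in every larger pair with the same source variables and injective target transition. -/
theorem exists_rels_nil (i : PIdx A B C) (h : Compat i) (hsurj : Function.Surjective (tau i h))
    (hnil : ∀ x ∈ RingHom.ker (algebraMap B C), IsNilpotent x) :
    ∃ T : Finset (PP A B), (∀ t ∈ T, piB A B t = 0) ∧
      (∀ t ∈ T, ∃ x : RR i.1, (x : PP A B) = t ∧ tau i h (mkQ i.1 x) = 0) ∧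
      ∀ (i' : PIdx A B C) (h' : Compat i') (hle : i ≤ i'), i'.1.1 = i.1.1 → T ⊆ i'.1.2 →
        Function.Injective (UH.trans hle.2) → ∀ x ∈ RingHom.ker (tau i' h'), IsNilpotent x := by
  classical
  obtain ⟨S, hS⟩ := ker_tau_fg' i h hsurj
  let L : QQ i.1 → RR i.1 := Function.surjInv (mkQ_surjective i.1)
  have hL : ∀ g, mkQ i.1 (L g) = g := Function.surjInv_eq (mkQ_surjective i.1)
  have hSker : ∀ g ∈ S, tau i h g = 0 := by
    intro g hg
    have : g ∈ RingHom.ker (tau i h) := by
      rw [← hS]
      exact Ideal.subset_span hg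
    exact this
  have hgam : ∀ g ∈ S, IsNilpotent (gam i.1 g) := by
    intro g hg
    apply hnil
    rw [RingHom.mem_ker, ← gam_tau i h, hSker g hg, map_zero]
  let n : QQ i.1 → ℕ := fun g => if hg : IsNilpotent (gam i.1 g) then hg.choose else 0
  have hn : ∀ g ∈ S, gam i.1 g ^ (n g + 1) = 0 := by
    intro g hg
    have h1 := hgam g hg
    have h2 : gam i.1 g ^ n g = 0 := by
      simp only [n, dif_pos h1]
      exact h1.choose_spec
    rw [pow_succ, h2, zero_mul]
  let P : QQ i.1 → RR i.1 := fun g => L g ^ (n g + 1)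
  have hPmk : ∀ g, mkQ i.1 (P g) = g ^ (n g + 1) := by
    intro g
    show mkQ i.1 (L g ^ (n g + 1)) = _
    rw [map_pow, hL]
  have hPpi : ∀ g ∈ S, piB A B (P g : PP A B) = 0 := by
    intro g hg
    have h1 : piB A B (P g : PP A B) = gam i.1 (mkQ i.1 (P g)) := (gam_mk i.1 _).symm
    rw [h1, hPmk, map_pow, hn g hg]
  have hPtau : ∀ g ∈ S, tau i h (mkQ i.1 (P g)) = 0 := by
    intro g hg
    rw [hPmk, map_pow, hSker g hg, pow_succ, mul_zero]
  refine ⟨S.image (fun g => (P g : PP A B)), ?_, ?_, ?_⟩
  · intro t ht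
    obtain ⟨g, hg, rfl⟩ := Finset.mem_image.mp ht
    exact hPpi g hg
  · intro t ht
    obtain ⟨g, hg, rfl⟩ := Finset.mem_image.mp ht
    exact ⟨P g, rfl, hPtau g hg⟩
  · intro i' h' hle hv hT hinj x hx
    have hsurj' : Function.Surjective (UH.trans hle.1) := trans_surjective_of_var_eq hle.1 hv
    have hker : RingHom.ker (tau i' h') ≤ (RingHom.ker (tau i h)).map (UH.trans hle.1) := by
      intro y' hy'
      obtain ⟨y, rfl⟩ := hsurj' y'
      have h1 : UH.trans hle.2 (tau i h y) = 0 := by
        rw [tau_trans h h' hle]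
        exact hy'
      have h2 : tau i h y = 0 := hinj (by rw [h1, map_zero])
      exact Ideal.mem_map_of_mem _ h2
    have hle2 : (RingHom.ker (tau i h)).map (UH.trans hle.1) ≤ nilradical (QQ i'.1) := by
      rw [← hS, Ideal.map_span, Ideal.span_le]
      rintro _ ⟨g, hg, rfl⟩
      rw [SetLike.mem_coe, mem_nilradical]
      refine ⟨n g + 1, ?_⟩
      rw [← map_pow, ← hPmk]
      apply mkQ_eq_zero_of_rel
      · exact hT (Finset.mem_image_of_mem _ hg)
      · exact hPpi g hg
    exact mem_nilradical.mp (hle2 (hker hx))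

/-- Integrality of a generator over the source approximation is preserved by transitions. -/
theorem isIntegralElem_trans_tau {i i' : PIdx A B C} (h : Compat i) (h' : Compat i')
    (hle : i ≤ i') {y : QQ i.2} (hy : (tau i h).IsIntegralElem y) :
    (tau i' h').IsIntegralElem (UH.trans hle.2 y) := by
  obtain ⟨p, hp, hpy⟩ := hy
  refine ⟨p.map (UH.trans hle.1), hp.map _, ?_⟩
  rw [Polynomial.eval₂_map]
  have h1 : (tau i' h').comp (UH.trans hle.1) = (UH.trans hle.2).comp (tau i h) :=
    RingHom.ext (fun z => (tau_trans h h' hle z).symm)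
  rw [h1, ← Polynomial.hom_eval₂, hpy, map_zero]

end Groth.Agent.Helper27.Np
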