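import Mathlib
import Groth.Agent.Lib.Helper27.NpB

/-!
# Nilpotent pairs as filtered colimits with fibre products (helper27; for S18016), part C:
triples of approximations of a cospan `B → D ← D'` of `R`-algebras.
-/

set_option autoImplicit false

universe u

open Groth.Agent.Helper11 Groth.Agent.Helper11.UH MvPolynomial CategoryTheory Limits

namespace Groth.Agent.Helper27.Np

open Groth.Agent.Helper27.Fc

variable (R B D D' : Type u) [CommRing R] [CommRing B] [CommRing D] [CommRing D']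
  [Algebra R B] [Algebra R D] [Algebra R D'] [Algebra B D] [IsScalarTower R B D]
  [Algebra D' D] [IsScalarTower R D' D]

/-- Triples of pre-indices. -/
abbrev TIdx : Type u := PreIdx R B × PreIdx R D × PreIdx R D'

variable {R B D D'}

/-- The pair for `B → D`. -/
abbrev pair1 (j : TIdx R B D D') : PIdx R B D := (j.1, j.2.1)

/-- The pair for `D' → D`. -/
abbrev pair2 (j : TIdx R B D D') : PIdx R D' D := (j.2.2, j.2.1)

theorem pair1_le {j j' : TIdx R B D D'} (h : j ≤ j') : pair1 j ≤ pair1 j' := ⟨h.1, h.2.1⟩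

theorem pair2_le {j j' : TIdx R B D D'} (h : j ≤ j') : pair2 j ≤ pair2 j' := ⟨h.2.2, h.2.1⟩

/-- Pre-good triples. -/
structure PreGood3 (j : TIdx R B D D') : Prop where
  c1 : Compat (pair1 j)
  c2 : Compat (pair2 j)
  s : ∀ d ∈ j.2.1.1, ∃ d' ∈ j.2.2.1, algebraMap D' D d' = d
  fs : Function.Surjective (algebraMap B D) → ∀ d ∈ j.2.1.1, ∃ b ∈ j.1.1, algebraMap B D b = d
  fi : (algebraMap B D).IsIntegral → ∀ d hd, (tau (pair1 j) c1).IsIntegralElem (gen j.2.1 d hd)

/-- Good triples. -/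
structure Good3 (j : TIdx R B D D') : Prop where
  pre : PreGood3 j
  n : ∀ x ∈ RingHom.ker (tau (pair2 j) pre.c2), IsNilpotent x
  fn : (Function.Surjective (algebraMap B D) ∧
      ∀ x ∈ RingHom.ker (algebraMap B D), IsNilpotent x) →
    ∀ x ∈ RingHom.ker (tau (pair1 j) pre.c1), IsNilpotent x

/-- Monotonicity of the per-generator conditions. -/
theorem preGood3_of_cover {j' : TIdx R B D D'} (hc1 : Compat (pair1 j')) (hc2 : Compat (pair2 j'))
    (hD : ∀ d ∈ j'.2.1.1, ∃ j : TIdx R B D D', PreGood3 j ∧ j ≤ j' ∧ d ∈ j.2.1.1) :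
    PreGood3 j' := by
  refine ⟨hc1, hc2, ?_, ?_, ?_⟩
  · intro d hd
    obtain ⟨j, hj, hle, hdj⟩ := hD d hd
    obtain ⟨d', hd', hdd⟩ := hj.s d hdj
    exact ⟨d', hle.2.2.1 hd', hdd⟩
  · intro hs d hd
    obtain ⟨j, hj, hle, hdj⟩ := hD d hd
    obtain ⟨b, hb, hbd⟩ := hj.fs hs d hdj
    exact ⟨b, hle.1.1 hb, hbd⟩
  · intro hi d hd
    obtain ⟨j, hj, hle, hdj⟩ := hD d hd
    have h1 := isIntegralElem_trans_tau hj.c1 hc1 (pair1_le hle) (hj.fi hi d hdj)
    have h2 : UH.trans (pair1_le hle).2 (gen j.2.1 d hdj) = gen j'.2.1 d hd :=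
      trans_gen _ d hdj
    rw [h2] at h1
    exact h1

/-- Supremum of triples. -/
noncomputable def tsup (j₁ j₂ : TIdx R B D D') : TIdx R B D D' :=
  (jsup j₁.1 j₂.1, jsup j₁.2.1 j₂.2.1, jsup j₁.2.2 j₂.2.2)

theorem le_tsup_left (j₁ j₂ : TIdx R B D D') : j₁ ≤ tsup j₁ j₂ :=
  ⟨le_jsup_left _ _, le_jsup_left _ _, le_jsup_left _ _⟩

theorem le_tsup_right (j₁ j₂ : TIdx R B D D') : j₂ ≤ tsup j₁ j₂ :=
  ⟨le_jsup_right _ _, le_jsup_right _ _, le_jsup_right _ _⟩

theorem preGood3_tsup {j₁ j₂ : TIdx R B D D'} (h₁ : PreGood3 j₁) (h₂ : PreGood3 j₂) :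
    PreGood3 (tsup j₁ j₂) := by
  classical
  apply preGood3_of_cover
  · exact compat_psup (i₁ := pair1 j₁) (i₂ := pair1 j₂) h₁.c1 h₂.c1
  · exact compat_psup (i₁ := pair2 j₁) (i₂ := pair2 j₂) h₁.c2 h₂.c2
  · intro d hd
    rcases Finset.mem_union.mp hd with h | h
    · exact ⟨j₁, h₁, le_tsup_left _ _, h⟩
    · exact ⟨j₂, h₂, le_tsup_right _ _, h⟩

open Classical in
/-- Adding relations. -/
noncomputable def trel (j : TIdx R B D D') (TB : Finset (PP R B)) (TD : Finset (PP R D))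
    (TD' : Finset (PP R D')) : TIdx R B D D' :=
  (jrel j.1 TB, jrel j.2.1 (TB.image (ren R B D) ∪ TD'.image (ren R D' D) ∪ TD), jrel j.2.2 TD')

theorem le_trel (j : TIdx R B D D') (TB : Finset (PP R B)) (TD : Finset (PP R D))
    (TD' : Finset (PP R D')) : j ≤ trel j TB TD TD' :=
  ⟨le_jrel _ _, le_jrel _ _, le_jrel _ _⟩

theorem preGood3_trel {j : TIdx R B D D'} (h : PreGood3 j) (TB : Finset (PP R B))
    (TD : Finset (PP R D)) (TD' : Finset (PP R D')) : PreGood3 (trel j TB TD TD') := by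
  classical
  apply preGood3_of_cover
  · constructor
    · exact h.c1.1
    · intro c hc
      obtain ⟨b, hb, rfl⟩ := Finset.mem_image.mp hc
      rcases Finset.mem_union.mp hb with hb | hb
      · exact Finset.mem_union_left _ (h.c1.mem_rel hb)
      · exact Finset.mem_union_right _ (Finset.mem_union_left _
          (Finset.mem_union_left _ (Finset.mem_image_of_mem _ hb)))
  · constructor
    · exact h.c2.1
    · intro c hc
      obtain ⟨b, hb, rfl⟩ := Finset.mem_image.mp hc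
      rcases Finset.mem_union.mp hb with hb | hb
      · exact Finset.mem_union_left _ (h.c2.mem_rel hb)
      · exact Finset.mem_union_right _ (Finset.mem_union_left _
          (Finset.mem_union_right _ (Finset.mem_image_of_mem _ hb)))
  · intro d hd
    exact ⟨j, h, le_trel j TB TD TD', hd⟩

end Groth.Agent.Helper27.Np
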