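import Mathlib
import Groth.Agent.Lib.Helper27.NpC

/-!
# Nilpotent pairs as filtered colimits with fibre products (helper27; for S18016), part D:
the repair step for triples.
-/

set_option autoImplicit false

universe u

open Groth.Agent.Helper11 Groth.Agent.Helper11.UH MvPolynomial CategoryTheory Limits

namespace Groth.Agent.Helper27.Np

open Groth.Agent.Helper27.Fc

variable {R B D D' : Type u} [CommRing R] [CommRing B] [CommRing D] [CommRing D']
  [Algebra R B] [Algebra R D] [Algebra R D'] [Algebra B D] [IsScalarTower R B D]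
  [Algebra D' D] [IsScalarTower R D' D]

theorem exists_good3_ge (hnil : ∀ x ∈ RingHom.ker (algebraMap D' D), IsNilpotent x)
    {j : TIdx R B D D'} (h : PreGood3 j) :
    ∃ j' : TIdx R B D D', j ≤ j' ∧ Good3 j' ∧ j'.1.1 = j.1.1 ∧ j'.2.1.1 = j.2.1.1 ∧
      j'.2.2.1 = j.2.2.1 := by
  classical
  have hψ : Function.Surjective (tau (pair2 j) h.c2) :=
    tau_surjective' _ _ (fun t ht => h.s t ht)
  obtain ⟨TD', hT0, hT1, hT2⟩ := exists_rels_nil (pair2 j) h.c2 hψ hnil
  obtain ⟨TB, hB0, hB1, hB2⟩ : ∃ TB : Finset (PP R B), (∀ t ∈ TB, piB R B t = 0) ∧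
      (∀ t ∈ TB, ∃ x : RR j.1, (x : PP R B) = t ∧ tau (pair1 j) h.c1 (mkQ j.1 x) = 0) ∧
      ((Function.Surjective (algebraMap B D) ∧
          ∀ x ∈ RingHom.ker (algebraMap B D), IsNilpotent x) →
        ∀ (i' : PIdx R B D) (h' : Compat i') (hle : pair1 j ≤ i'), i'.1.1 = j.1.1 →
          TB ⊆ i'.1.2 → Function.Injective (UH.trans hle.2) →
          ∀ x ∈ RingHom.ker (tau i' h'), IsNilpotent x) := by
    by_cases hf : Function.Surjective (algebraMap B D) ∧
        ∀ x ∈ RingHom.ker (algebraMap B D), IsNilpotent x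
    · obtain ⟨T, h0, h1, h2⟩ := exists_rels_nil (pair1 j) h.c1
        (tau_surjective' _ _ (fun t ht => h.fs hf.1 t ht)) hf.2
      exact ⟨T, h0, h1, fun _ => h2⟩
    · refine ⟨∅, ?_, ?_, fun hh => absurd hh hf⟩
      · intro t ht
        exact absurd ht (Finset.notMem_empty t)
      · intro t ht
        exact absurd ht (Finset.notMem_empty t)
  obtain ⟨j', hj'⟩ : ∃ j', j' = trel j TB (∅ : Finset (PP R D)) TD' := ⟨_, rfl⟩
  have hle : j ≤ j' := by rw [hj']; exact le_trel _ _ _ _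
  have hpre : PreGood3 j' := by rw [hj']; exact preGood3_trel h _ _ _
  have hv1 : j'.1.1 = j.1.1 := by rw [hj']; rfl
  have hv2 : j'.2.1.1 = j.2.1.1 := by rw [hj']; rfl
  have hv3 : j'.2.2.1 = j.2.2.1 := by rw [hj']; rfl
  have hTB : TB ⊆ j'.1.2 := by
    rw [hj']
    exact Finset.subset_union_right
  have hTD' : TD' ⊆ j'.2.2.2 := by
    rw [hj']
    exact Finset.subset_union_right
  have hinjD : Function.Injective (UH.trans hle.2.1) := by
    apply trans_injective_of_rels hle.2.1 hv2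
    intro x hx hx0
    have hx' : (x : PP R D) ∈
        j.2.1.2 ∪ (TB.image (ren R B D) ∪ TD'.image (ren R D' D) ∪ ∅) := by
      rw [hj'] at hx
      exact hx
    rcases Finset.mem_union.mp hx' with hx1 | hx1
    · rw [mkQ_eq_zero_iff]
      exact Ideal.subset_span ⟨hx1, hx0⟩
    · rw [Finset.union_empty] at hx1
      rcases Finset.mem_union.mp hx1 with hx2 | hx2
      · obtain ⟨t, ht, htx⟩ := Finset.mem_image.mp hx2
        obtain ⟨x₀, hx₀, hx₀τ⟩ := hB1 t ht
        have e : x = renR (pair1 j) h.c1 x₀ :=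
          Subtype.ext (by rw [renR_coe, hx₀, htx])
        rw [e]
        rw [tau_mk] at hx₀τ
        exact hx₀τ
      · obtain ⟨t, ht, htx⟩ := Finset.mem_image.mp hx2
        obtain ⟨x₀, hx₀, hx₀τ⟩ := hT1 t ht
        have e : x = renR (pair2 j) h.c2 x₀ :=
          Subtype.ext (by rw [renR_coe, hx₀, htx])
        rw [e]
        rw [tau_mk] at hx₀τ
        exact hx₀τ
  refine ⟨j', hle, ⟨hpre, ?_, ?_⟩, hv1, hv2, hv3⟩
  · exact hT2 (pair2 j') hpre.c2 (pair2_le hle) hv3 hTD' hinjD
  · intro hf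
    exact hB2 hf (pair1 j') hpre.c1 (pair1_le hle) hv1 hTB hinjD

end Groth.Agent.Helper27.Np
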