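import Mathlib
import Groth.Agent.Lib.Helper27.NpD

/-!
# Nilpotent pairs as filtered colimits with fibre products (helper27; for S18016), part E:
integrality from a relation; basic pre-good triples.
-/

set_option autoImplicit false

universe u

open Groth.Agent.Helper11 Groth.Agent.Helper11.UH MvPolynomial CategoryTheory Limits

namespace Groth.Agent.Helper27.Np

open Groth.Agent.Helper27.Fc

section pairs

variable {A B C : Type u} [CommRing A] [CommRing B] [CommRing C] [Algebra A B] [Algebra A C]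
  [Algebra B C] [IsScalarTower A B C]

/-- The relation polynomial `X_d^n + ∑ X_{f(c k)} X_d^k`. -/
noncomputable def relPoly (d : C) (n : ℕ) (c : Fin n → B) : PP A C :=
  (X d : PP A C) ^ n + ∑ k : Fin n, (X (algebraMap B C (c k)) : PP A C) * (X d : PP A C) ^ (k : ℕ)

theorem piB_relPoly (d : C) (n : ℕ) (c : Fin n → B) :
    piB A C (relPoly (A := A) d n c) = d ^ n + ∑ k : Fin n, algebraMap B C (c k) * d ^ (k : ℕ) := by
  unfold relPoly
  rw [map_add, map_pow, piB_X, map_sum]
  congr 1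
  apply Finset.sum_congr rfl
  intro k _
  rw [map_mul, map_pow, piB_X, piB_X]

theorem isIntegralElem_gen_of_rel (i : PIdx A B C) (h : Compat i) (d : C) (hd : d ∈ i.2.1)
    (n : ℕ) (c : Fin n → B) (hc : ∀ k, c k ∈ i.1.1)
    (hrel : relPoly (A := A) d n c ∈ i.2.2)
    (h0 : d ^ n + ∑ k : Fin n, algebraMap B C (c k) * d ^ (k : ℕ) = 0) :
    (tau i h).IsIntegralElem (gen i.2 d hd) := by
  let q : Polynomial (QQ i.1) :=
    Polynomial.X ^ n + ∑ k : Fin n, Polynomial.C (gen i.1 (c k) (hc k)) * Polynomial.X ^ (k : ℕ)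
  have hq : q.Monic := by
    apply Polynomial.monic_X_pow_add
    refine (Polynomial.degree_sum_le _ _).trans_lt ?_
    apply (Finset.sup_lt_iff (WithBot.bot_lt_coe n)).mpr
    intro k _
    refine lt_of_le_of_lt (Polynomial.degree_C_mul_X_pow_le _ _) ?_
    exact WithBot.coe_lt_coe.mpr k.2
  refine ⟨q, hq, ?_⟩
  let xd : RR i.2 := ⟨X d, X_mem_RR i.2 d hd⟩
  let xc : Fin n → RR i.2 := fun k =>
    ⟨X (algebraMap B C (c k)), X_mem_RR i.2 _ (h.mem_var (hc k))⟩
  let x : RR i.2 := xd ^ n + ∑ k : Fin n, xc k * xd ^ (k : ℕ)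
  have hxcoe : (x : PP A C) = relPoly (A := A) d n c := by
    show ((xd ^ n + ∑ k : Fin n, xc k * xd ^ (k : ℕ) : RR i.2) : PP A C) = _
    rw [Subalgebra.coe_add, Subalgebra.coe_pow, AddSubmonoidClass.coe_finsetSum]
    unfold relPoly
    congr 1
  have hx0 : mkQ i.2 x = 0 := by
    rw [mkQ_eq_zero_iff]
    apply Ideal.subset_span
    refine ⟨?_, ?_⟩
    · rw [hxcoe]
      exact hrel
    · rw [hxcoe, piB_relPoly, h0]
  have hgd : gen i.2 d hd = mkQ i.2 xd := rfl
  have hgc : ∀ k, tau i h (gen i.1 (c k) (hc k)) = mkQ i.2 (xc k) := by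
    intro k
    rw [tau_gen]
    rfl
  show Polynomial.eval₂ (tau i h) (gen i.2 d hd) q = 0
  simp only [q, Polynomial.eval₂_add, Polynomial.eval₂_pow, Polynomial.eval₂_X,
    Polynomial.eval₂_finsetSum, Polynomial.eval₂_mul, Polynomial.eval₂_C]
  rw [← hx0]
  show _ = mkQ i.2 (xd ^ n + ∑ k : Fin n, xc k * xd ^ (k : ℕ))
  rw [map_add, map_pow, map_sum, hgd]
  congr 1
  apply Finset.sum_congr rfl
  intro k _
  rw [map_mul, map_pow, hgc]

/-- Data extracted from integrality of an element. -/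
theorem exists_relData_of_isIntegralElem {d : C} (hd : (algebraMap B C).IsIntegralElem d) :
    ∃ (n : ℕ) (c : Fin n → B), d ^ n + ∑ k : Fin n, algebraMap B C (c k) * d ^ (k : ℕ) = 0 := by
  obtain ⟨p, hp, hpd⟩ := hd
  refine ⟨p.natDegree, fun k => p.coeff k, ?_⟩
  rw [Polynomial.eval₂_eq_sum_range, Finset.sum_range_succ, hp.coeff_natDegree, map_one,
    one_mul] at hpd
  rw [Fin.sum_univ_eq_sum_range (fun k => algebraMap B C (p.coeff k) * d ^ k) p.natDegree,
    add_comm]
  exact hpd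

end pairs

end Groth.Agent.Helper27.Np
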