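import Mathlib
import Groth.Agent.Lib.Helper27.NpE

/-!
# Nilpotent pairs as filtered colimits with fibre products (helper27; for S18016), part F:
basic pre-good triples.
-/

set_option autoImplicit false

universe u

open Groth.Agent.Helper11 Groth.Agent.Helper11.UH MvPolynomial CategoryTheory Limits

namespace Groth.Agent.Helper27.Np

open Groth.Agent.Helper27.Fc

variable {R B D D' : Type u} [CommRing R] [CommRing B] [CommRing D] [CommRing D']
  [Algebra R B] [Algebra R D] [Algebra R D'] [Algebra B D] [IsScalarTower R B D]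
  [Algebra D' D] [IsScalarTower R D' D]

variable (hi : Function.Surjective (algebraMap D' D))

open Classical in
/-- A triple built from a finite set of elements of `B`, a finite set of elements of `D'` and
relations on `D`. -/
noncomputable def mkTriple (SB : Finset B) (SD' : Finset D') (TD : Finset (PP R D)) :
    TIdx R B D D' :=
  ((SB, ∅), (SB.image (algebraMap B D) ∪ SD'.image (algebraMap D' D), TD),
   (SD' ∪ SB.image (fun b => Function.surjInv hi (algebraMap B D b)), ∅))

theorem preGood3_mkTriple (SB : Finset B) (SD' : Finset D') (TD : Finset (PP R D))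
    (hfs : Function.Surjective (algebraMap B D) → ∀ d' ∈ SD', ∃ b ∈ SB,
      algebraMap B D b = algebraMap D' D d')
    (hfi : (algebraMap B D).IsIntegral → ∀ d' ∈ SD', ∃ (n : ℕ) (c : Fin n → B),
      (∀ k, c k ∈ SB) ∧ relPoly (A := R) (algebraMap D' D d') n c ∈ TD ∧
      (algebraMap D' D d') ^ n + ∑ k : Fin n, algebraMap B D (c k) * (algebraMap D' D d') ^ (k : ℕ)
        = 0) :
    PreGood3 (mkTriple (R := R) hi SB SD' TD) := by
  classical
  obtain ⟨j, hj⟩ : ∃ j, j = mkTriple (R := R) hi SB SD' TD := ⟨_, rfl⟩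
  rw [← hj]
  have hj1 : j.1.1 = SB := by rw [hj]; rfl
  have hj2 : j.2.1.1 = SB.image (algebraMap B D) ∪ SD'.image (algebraMap D' D) := by
    rw [hj]; rfl
  have hj3 : j.2.2.1 = SD' ∪ SB.image (fun b => Function.surjInv hi (algebraMap B D b)) := by
    rw [hj]; rfl
  have hj4 : j.1.2 = ∅ := by rw [hj]; rfl
  have hj5 : j.2.2.2 = ∅ := by rw [hj]; rfl
  have hj6 : j.2.1.2 = TD := by rw [hj]; rfl
  have c1 : Compat (pair1 j) := by
    constructor
    · show j.1.1.image (algebraMap B D) ⊆ j.2.1.1
      rw [hj1, hj2]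
      exact Finset.subset_union_left
    · show j.1.2.image (ren R B D) ⊆ j.2.1.2
      rw [hj4, Finset.image_empty]
      exact Finset.empty_subset _
  have c2 : Compat (pair2 j) := by
    constructor
    · show j.2.2.1.image (algebraMap D' D) ⊆ j.2.1.1
      rw [hj3, hj2]
      intro x hx
      obtain ⟨y, hy, rfl⟩ := Finset.mem_image.mp hx
      rcases Finset.mem_union.mp hy with hy | hy
      · exact Finset.mem_union_right _ (Finset.mem_image_of_mem _ hy)
      · obtain ⟨b, hb, rfl⟩ := Finset.mem_image.mp hy
        rw [Function.surjInv_eq hi]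
        exact Finset.mem_union_left _ (Finset.mem_image_of_mem _ hb)
    · show j.2.2.2.image (ren R D' D) ⊆ j.2.1.2
      rw [hj5, Finset.image_empty]
      exact Finset.empty_subset _
  refine ⟨c1, c2, ?_, ?_, ?_⟩
  · intro d hd
    rw [hj2] at hd
    rw [hj3]
    rcases Finset.mem_union.mp hd with hd | hd
    · obtain ⟨b, hb, rfl⟩ := Finset.mem_image.mp hd
      refine ⟨Function.surjInv hi (algebraMap B D b), ?_, Function.surjInv_eq hi _⟩
      exact Finset.mem_union_right _ (Finset.mem_image_of_mem _ hb)
    · obtain ⟨d', hd', rfl⟩ := Finset.mem_image.mp hd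
      exact ⟨d', Finset.mem_union_left _ hd', rfl⟩
  · intro hs d hd
    rw [hj2] at hd
    rw [hj1]
    rcases Finset.mem_union.mp hd with hd | hd
    · obtain ⟨b, hb, rfl⟩ := Finset.mem_image.mp hd
      exact ⟨b, hb, rfl⟩
    · obtain ⟨d', hd', rfl⟩ := Finset.mem_image.mp hd
      exact hfs hs d' hd'
  · intro hint d hd
    have hd2 := hd
    rw [hj2] at hd2
    rcases Finset.mem_union.mp hd2 with hd3 | hd3
    · obtain ⟨b, hb, rfl⟩ := Finset.mem_image.mp hd3
      have hb' : b ∈ (pair1 j).1.1 := by
        show b ∈ j.1.1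
        rw [hj1]
        exact hb
      have h1 : gen j.2.1 (algebraMap B D b) hd = tau (pair1 j) c1 (gen j.1 b hb') :=
        (tau_gen (pair1 j) c1 b hb').symm
      rw [h1]
      exact (tau (pair1 j) c1).isIntegralElem_map
    · obtain ⟨d', hd', rfl⟩ := Finset.mem_image.mp hd3
      obtain ⟨n, c, hc, hrel, h0⟩ := hfi hint d' hd'
      refine isIntegralElem_gen_of_rel (pair1 j) c1 _ hd n c ?_ ?_ h0
      · intro k
        show c k ∈ j.1.1
        rw [hj1]
        exact hc k
      · show _ ∈ j.2.1.2
        rw [hj6]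
        exact hrel

include hi in
theorem exists_preGood3_B (b : B) : ∃ j : TIdx R B D D', PreGood3 j ∧ b ∈ j.1.1 := by
  classical
  refine ⟨mkTriple (R := R) hi {b} ∅ ∅, preGood3_mkTriple hi _ _ _ ?_ ?_, ?_⟩
  · intro _ d' hd'
    exact absurd hd' (Finset.notMem_empty d')
  · intro _ d' hd'
    exact absurd hd' (Finset.notMem_empty d')
  · exact Finset.mem_singleton_self b

include hi in
open Classical in
theorem exists_preGood3_D' (d' : D') : ∃ j : TIdx R B D D', PreGood3 j ∧ d' ∈ j.2.2.1 := by
  obtain ⟨d, hd⟩ : ∃ d, d = algebraMap D' D d' := ⟨_, rfl⟩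
  -- data for surjectivity
  let SB1 : Finset B := if h : d ∈ Set.range (algebraMap B D) then {h.choose} else ∅
  -- data for integrality
  by_cases hint : (algebraMap B D).IsIntegralElem d
  · obtain ⟨n, c, h0⟩ := exists_relData_of_isIntegralElem hint
    let SB : Finset B := SB1 ∪ Finset.univ.image c
    refine ⟨mkTriple (R := R) hi SB {d'} {relPoly (A := R) d n c},
      preGood3_mkTriple hi _ _ _ ?_ ?_, ?_⟩
    · intro hs x hx
      obtain rfl := Finset.mem_singleton.mp hx
      have hr : d ∈ Set.range (algebraMap B D) := hs d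
      refine ⟨hr.choose, ?_, ?_⟩
      · apply Finset.mem_union_left
        show _ ∈ SB1
        simp only [SB1, dif_pos hr]
        exact Finset.mem_singleton_self _
      · rw [hr.choose_spec, hd]
    · intro _ x hx
      obtain rfl := Finset.mem_singleton.mp hx
      refine ⟨n, c, ?_, ?_, ?_⟩
      · intro k
        exact Finset.mem_union_right _ (Finset.mem_image_of_mem _ (Finset.mem_univ k))
      · rw [← hd]
        exact Finset.mem_singleton_self _
      · rw [← hd]
        exact h0
    · exact Finset.mem_union_left _ (Finset.mem_singleton_self d')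
  · refine ⟨mkTriple (R := R) hi SB1 {d'} ∅, preGood3_mkTriple hi _ _ _ ?_ ?_, ?_⟩
    · intro hs x hx
      obtain rfl := Finset.mem_singleton.mp hx
      have hr : d ∈ Set.range (algebraMap B D) := hs d
      refine ⟨hr.choose, ?_, ?_⟩
      · show _ ∈ SB1
        simp only [SB1, dif_pos hr]
        exact Finset.mem_singleton_self _
      · rw [hr.choose_spec, hd]
    · intro hall x hx
      exact absurd (hall d) hint
    · exact Finset.mem_union_left _ (Finset.mem_singleton_self d')

include hi in
theorem exists_preGood3_D (d : D) : ∃ j : TIdx R B D D', PreGood3 j ∧ d ∈ j.2.1.1 := by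
  obtain ⟨d', rfl⟩ := hi d
  obtain ⟨j, hj, hd'⟩ := exists_preGood3_D' (R := R) (B := B) hi d'
  exact ⟨j, hj, hj.c2.mem_var hd'⟩

theorem preGood3_empty : PreGood3 (mkTriple (R := R) (B := B) hi ∅ ∅ ∅) := by
  apply preGood3_mkTriple
  · intro _ d' hd'
    exact absurd hd' (Finset.notMem_empty d')
  · intro _ d' hd'
    exact absurd hd' (Finset.notMem_empty d')

end Groth.Agent.Helper27.Np
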