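import Mathlib
import Groth.Agent.Lib.Helper27.NpF

/-!
# Nilpotent pairs as filtered colimits with fibre products (helper27; for S18016), part G:
the index category and the diagrams for `B`, `D`, `D'`.
-/

set_option autoImplicit false

universe u

open Groth.Agent.Helper11 Groth.Agent.Helper11.UH MvPolynomial CategoryTheory Limits

namespace Groth.Agent.Helper27.Np

open Groth.Agent.Helper27.Fc

section Cat

variable (R B D D' : Type u) [CommRing R] [CommRing B] [CommRing D] [CommRing D']
  [Algebra R B] [Algebra R D] [Algebra R D'] [Algebra B D] [IsScalarTower R B D]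
  [Algebra D' D] [IsScalarTower R D' D]

/-- The index type of good triples. -/
structure GI3 : Type u where
  /-- the underlying triple -/
  idx : TIdx R B D D'
  /-- goodness -/
  good : Good3 idx

instance : Preorder (GI3 R B D D') := Preorder.lift (GI3.idx (R := R) (B := B) (D := D) (D' := D'))

variable {R B D D'}

theorem gi3_nonempty (hi : Function.Surjective (algebraMap D' D))
    (hnil : ∀ x ∈ RingHom.ker (algebraMap D' D), IsNilpotent x) : Nonempty (GI3 R B D D') := by
  obtain ⟨j', -, hg, -, -, -⟩ := exists_good3_ge hnil (preGood3_empty (R := R) (B := B) hi)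
  exact ⟨⟨j', hg⟩⟩

theorem gi3_directed (hnil : ∀ x ∈ RingHom.ker (algebraMap D' D), IsNilpotent x) :
    IsDirectedOrder (GI3 R B D D') :=
  ⟨fun a b => by
    obtain ⟨j', hle, hg, -, -, -⟩ := exists_good3_ge hnil (preGood3_tsup a.good.pre b.good.pre)
    exact ⟨⟨j', hg⟩, (le_tsup_left a.idx b.idx).trans hle, (le_tsup_right a.idx b.idx).trans hle⟩⟩

theorem GI3_le {j j' : GI3 R B D D'} (f : j ⟶ j') : j.idx ≤ j'.idx := leOfHom f

variable (R B D D')

/-- The diagram of approximations of `B`. -/
noncomputable def DB3 : GI3 R B D D' ⥤ Under (CommRingCat.of R) where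
  obj j := Under.mk (CommRingCat.ofHom (algebraMap R (QQ j.idx.1)))
  map {j j'} f := Under.homMk (CommRingCat.ofHom (UH.trans (GI3_le f).1)) (by
    apply CommRingCat.hom_ext
    apply RingHom.ext
    intro a
    exact trans_algebraMap _ a)
  map_id j := by
    apply Under.UnderMorphism.ext
    apply CommRingCat.hom_ext
    apply RingHom.ext
    intro y
    exact trans_refl _ y
  map_comp f g := by
    apply Under.UnderMorphism.ext
    apply CommRingCat.hom_ext
    apply RingHom.ext
    intro y
    exact (trans_trans _ _ y).symm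

/-- The diagram of approximations of `D`. -/
noncomputable def DD3 : GI3 R B D D' ⥤ Under (CommRingCat.of R) where
  obj j := Under.mk (CommRingCat.ofHom (algebraMap R (QQ j.idx.2.1)))
  map {j j'} f := Under.homMk (CommRingCat.ofHom (UH.trans (GI3_le f).2.1)) (by
    apply CommRingCat.hom_ext
    apply RingHom.ext
    intro a
    exact trans_algebraMap _ a)
  map_id j := by
    apply Under.UnderMorphism.ext
    apply CommRingCat.hom_ext
    apply RingHom.ext
    intro y
    exact trans_refl _ y
  map_comp f g := by
    apply Under.UnderMorphism.ext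
    apply CommRingCat.hom_ext
    apply RingHom.ext
    intro y
    exact (trans_trans _ _ y).symm

/-- The diagram of approximations of `D'`. -/
noncomputable def DD'3 : GI3 R B D D' ⥤ Under (CommRingCat.of R) where
  obj j := Under.mk (CommRingCat.ofHom (algebraMap R (QQ j.idx.2.2)))
  map {j j'} f := Under.homMk (CommRingCat.ofHom (UH.trans (GI3_le f).2.2)) (by
    apply CommRingCat.hom_ext
    apply RingHom.ext
    intro a
    exact trans_algebraMap _ a)
  map_id j := by
    apply Under.UnderMorphism.ext
    apply CommRingCat.hom_ext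
    apply RingHom.ext
    intro y
    exact trans_refl _ y
  map_comp f g := by
    apply Under.UnderMorphism.ext
    apply CommRingCat.hom_ext
    apply RingHom.ext
    intro y
    exact (trans_trans _ _ y).symm

/-- The comparison `B_j → D_j`. -/
noncomputable def phi3 : DB3 R B D D' ⟶ DD3 R B D D' where
  app j := Under.homMk (CommRingCat.ofHom (tau (pair1 j.idx) j.good.pre.c1)) (by
    apply CommRingCat.hom_ext
    apply RingHom.ext
    intro a
    exact tau_algebraMap _ _ a)
  naturality j j' f := by
    apply Under.UnderMorphism.ext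
    apply CommRingCat.hom_ext
    apply RingHom.ext
    intro y
    exact (tau_trans j.good.pre.c1 j'.good.pre.c1 (pair1_le (GI3_le f)) y).symm

/-- The comparison `D'_j → D_j`. -/
noncomputable def psi3 : DD'3 R B D D' ⟶ DD3 R B D D' where
  app j := Under.homMk (CommRingCat.ofHom (tau (pair2 j.idx) j.good.pre.c2)) (by
    apply CommRingCat.hom_ext
    apply RingHom.ext
    intro a
    exact tau_algebraMap _ _ a)
  naturality j j' f := by
    apply Under.UnderMorphism.ext
    apply CommRingCat.hom_ext
    apply RingHom.ext
    intro y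
    exact (tau_trans j.good.pre.c2 j'.good.pre.c2 (pair2_le (GI3_le f)) y).symm

/-- The cocone legs to `B`. -/
noncomputable def cB3 : DB3 R B D D' ⟶
    (Functor.const (GI3 R B D D')).obj (Under.mk (CommRingCat.ofHom (algebraMap R B))) where
  app j := Under.homMk (CommRingCat.ofHom (gam j.idx.1)) (by
    apply CommRingCat.hom_ext
    apply RingHom.ext
    intro a
    exact gam_algebraMap j.idx.1 a)
  naturality j j' f := by
    apply Under.UnderMorphism.ext
    apply CommRingCat.hom_ext
    apply RingHom.ext
    intro y
    exact gam_trans _ y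

/-- The cocone legs to `D`. -/
noncomputable def cD3 : DD3 R B D D' ⟶
    (Functor.const (GI3 R B D D')).obj (Under.mk (CommRingCat.ofHom (algebraMap R D))) where
  app j := Under.homMk (CommRingCat.ofHom (gam j.idx.2.1)) (by
    apply CommRingCat.hom_ext
    apply RingHom.ext
    intro a
    exact gam_algebraMap j.idx.2.1 a)
  naturality j j' f := by
    apply Under.UnderMorphism.ext
    apply CommRingCat.hom_ext
    apply RingHom.ext
    intro y
    exact gam_trans _ y

/-- The cocone legs to `D'`. -/
noncomputable def cD'3 : DD'3 R B D D' ⟶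
    (Functor.const (GI3 R B D D')).obj (Under.mk (CommRingCat.ofHom (algebraMap R D'))) where
  app j := Under.homMk (CommRingCat.ofHom (gam j.idx.2.2)) (by
    apply CommRingCat.hom_ext
    apply RingHom.ext
    intro a
    exact gam_algebraMap j.idx.2.2 a)
  naturality j j' f := by
    apply Under.UnderMorphism.ext
    apply CommRingCat.hom_ext
    apply RingHom.ext
    intro y
    exact gam_trans _ y

variable {R B D D'}

/-- Simultaneous coequalisation in the three components. -/
theorem exists_coeq3 (hnil : ∀ x ∈ RingHom.ker (algebraMap D' D), IsNilpotent x)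
    (j : GI3 R B D D') (xB yB : QQ j.idx.1) (xD yD : QQ j.idx.2.1) (xD' yD' : QQ j.idx.2.2)
    (hB : gam j.idx.1 xB = gam j.idx.1 yB) (hD : gam j.idx.2.1 xD = gam j.idx.2.1 yD)
    (hD' : gam j.idx.2.2 xD' = gam j.idx.2.2 yD') :
    ∃ (k : GI3 R B D D') (f : j ⟶ k), UH.trans (GI3_le f).1 xB = UH.trans (GI3_le f).1 yB ∧
      UH.trans (GI3_le f).2.1 xD = UH.trans (GI3_le f).2.1 yD ∧
      UH.trans (GI3_le f).2.2 xD' = UH.trans (GI3_le f).2.2 yD' := by
  classical
  obtain ⟨rB, hrB⟩ := mkQ_surjective j.idx.1 (xB - yB)
  obtain ⟨rD, hrD⟩ := mkQ_surjective j.idx.2.1 (xD - yD)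
  obtain ⟨rD', hrD'⟩ := mkQ_surjective j.idx.2.2 (xD' - yD')
  have hrB0 : piB R B rB = 0 := by rw [← gam_mk, hrB, map_sub, hB, sub_self]
  have hrD0 : piB R D rD = 0 := by rw [← gam_mk, hrD, map_sub, hD, sub_self]
  have hrD'0 : piB R D' rD' = 0 := by rw [← gam_mk, hrD', map_sub, hD', sub_self]
  obtain ⟨j', hle', hg, -, -, -⟩ := exists_good3_ge hnil
    (preGood3_trel j.good.pre {(rB : PP R B)} {(rD : PP R D)} {(rD' : PP R D')})
  have hle0 : j.idx ≤ trel j.idx {(rB : PP R B)} {(rD : PP R D)} {(rD' : PP R D')} :=
    le_trel _ _ _ _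
  have hle : j.idx ≤ j' := hle0.trans hle'
  let k : GI3 R B D D' := ⟨j', hg⟩
  have hlek : j ≤ k := hle
  refine ⟨k, homOfLE hlek, ?_, ?_, ?_⟩
  · have h0 : UH.trans hle.1 (xB - yB) = 0 := by
      rw [← hrB]
      apply mkQ_eq_zero_of_rel
      · apply hle'.1.2
        exact Finset.mem_union_right _ (Finset.mem_singleton_self _)
      · exact hrB0
    rw [map_sub] at h0
    exact sub_eq_zero.mp h0
  · have h0 : UH.trans hle.2.1 (xD - yD) = 0 := by
      rw [← hrD]
      apply mkQ_eq_zero_of_rel
      · apply hle'.2.1.2
        exact Finset.mem_union_right _ (Finset.mem_union_right _ (Finset.mem_singleton_self _))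
      · exact hrD0
    rw [map_sub] at h0
    exact sub_eq_zero.mp h0
  · have h0 : UH.trans hle.2.2 (xD' - yD') = 0 := by
      rw [← hrD']
      apply mkQ_eq_zero_of_rel
      · apply hle'.2.2.2
        exact Finset.mem_union_right _ (Finset.mem_singleton_self _)
      · exact hrD'0
    rw [map_sub] at h0
    exact sub_eq_zero.mp h0

end Cat

end Groth.Agent.Helper27.Np
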