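import Mathlib
import Groth.Agent.Lib.Helper27.NpG

/-!
# Nilpotent pairs as filtered colimits with fibre products (helper27; for S18016), part H:
the colimits for `B`, `D`, `D'`.
-/

set_option autoImplicit false

universe u

open Groth.Agent.Helper11 Groth.Agent.Helper11.UH MvPolynomial CategoryTheory Limits

namespace Groth.Agent.Helper27.Np

open Groth.Agent.Helper27.Fc

section Cat

variable {R B D D' : Type u} [CommRing R] [CommRing B] [CommRing D] [CommRing D']
  [Algebra R B] [Algebra R D] [Algebra R D'] [Algebra B D] [IsScalarTower R B D]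
  [Algebra D' D] [IsScalarTower R D' D]

variable (hi : Function.Surjective (algebraMap D' D))
  (hnil : ∀ x ∈ RingHom.ker (algebraMap D' D), IsNilpotent x)

include hi hnil in
theorem isColimit_cB3 :
    Nonempty (IsColimit (Cocone.mk _ (cB3 R B D D'))) := by
  haveI := gi3_nonempty (R := R) (B := B) hi hnil
  haveI := gi3_directed (R := R) (B := B) hnil
  haveI : IsConnected (GI3 R B D D') := IsFiltered.isConnected _
  haveI : ReflectsColimitsOfShape (GI3 R B D D') (forget CommRingCat.{u}) :=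
    reflectsColimitsOfShape_of_reflectsIsomorphisms
  refine ⟨?_⟩
  apply isColimitOfReflects (Under.forget (CommRingCat.of R))
  apply isColimitOfReflects (forget CommRingCat.{u})
  apply Types.FilteredColimit.isColimitOf'
  · intro b'
    obtain ⟨b, hbb⟩ : ∃ b : B, b = b' := ⟨b', rfl⟩
    rw [← hbb]
    obtain ⟨j, hj, hb⟩ := exists_preGood3_B (R := R) hi b
    obtain ⟨j', hle, hg, hv, -, -⟩ := exists_good3_ge hnil hj
    have hb' : b ∈ j'.1.1 := by rw [hv]; exact hb
    exact ⟨⟨j', hg⟩, gen j'.1 b hb', (gam_gen j'.1 b hb').symm⟩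
  · intro j x y hxy
    obtain ⟨k, f, hk, -, -⟩ := exists_coeq3 hnil j x y 0 0 0 0 hxy rfl rfl
    exact ⟨k, f, hk⟩

include hi hnil in
theorem isColimit_cD3 :
    Nonempty (IsColimit (Cocone.mk _ (cD3 R B D D'))) := by
  haveI := gi3_nonempty (R := R) (B := B) hi hnil
  haveI := gi3_directed (R := R) (B := B) hnil
  haveI : IsConnected (GI3 R B D D') := IsFiltered.isConnected _
  haveI : ReflectsColimitsOfShape (GI3 R B D D') (forget CommRingCat.{u}) :=
    reflectsColimitsOfShape_of_reflectsIsomorphisms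
  refine ⟨?_⟩
  apply isColimitOfReflects (Under.forget (CommRingCat.of R))
  apply isColimitOfReflects (forget CommRingCat.{u})
  apply Types.FilteredColimit.isColimitOf'
  · intro b'
    obtain ⟨b, hbb⟩ : ∃ b : D, b = b' := ⟨b', rfl⟩
    rw [← hbb]
    obtain ⟨j, hj, hb⟩ := exists_preGood3_D (R := R) (B := B) hi b
    obtain ⟨j', hle, hg, -, hv, -⟩ := exists_good3_ge hnil hj
    have hb' : b ∈ j'.2.1.1 := by rw [hv]; exact hb
    exact ⟨⟨j', hg⟩, gen j'.2.1 b hb', (gam_gen j'.2.1 b hb').symm⟩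
  · intro j x y hxy
    obtain ⟨k, f, -, hk, -⟩ := exists_coeq3 hnil j 0 0 x y 0 0 rfl hxy rfl
    exact ⟨k, f, hk⟩

include hi hnil in
theorem isColimit_cD'3 :
    Nonempty (IsColimit (Cocone.mk _ (cD'3 R B D D'))) := by
  haveI := gi3_nonempty (R := R) (B := B) hi hnil
  haveI := gi3_directed (R := R) (B := B) hnil
  haveI : IsConnected (GI3 R B D D') := IsFiltered.isConnected _
  haveI : ReflectsColimitsOfShape (GI3 R B D D') (forget CommRingCat.{u}) :=
    reflectsColimitsOfShape_of_reflectsIsomorphisms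
  refine ⟨?_⟩
  apply isColimitOfReflects (Under.forget (CommRingCat.of R))
  apply isColimitOfReflects (forget CommRingCat.{u})
  apply Types.FilteredColimit.isColimitOf'
  · intro b'
    obtain ⟨b, hbb⟩ : ∃ b : D', b = b' := ⟨b', rfl⟩
    rw [← hbb]
    obtain ⟨j, hj, hb⟩ := exists_preGood3_D' (R := R) (B := B) hi b
    obtain ⟨j', hle, hg, -, -, hv⟩ := exists_good3_ge hnil hj
    have hb' : b ∈ j'.2.2.1 := by rw [hv]; exact hb
    exact ⟨⟨j', hg⟩, gen j'.2.2 b hb', (gam_gen j'.2.2 b hb').symm⟩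
  · intro j x y hxy
    obtain ⟨k, f, -, -, hk⟩ := exists_coeq3 hnil j 0 0 0 0 x y rfl rfl hxy
    exact ⟨k, f, hk⟩

end Cat

end Groth.Agent.Helper27.Np
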