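import Mathlib
import Groth.Agent.Lib.Helper27.NpH

/-!
# Nilpotent pairs as filtered colimits with fibre products (helper27; for S18016), part I:
the diagram of fibre products.
-/

set_option autoImplicit false

universe u

open Groth.Agent.Helper11 Groth.Agent.Helper11.UH MvPolynomial CategoryTheory Limits

namespace Groth.Agent.Helper27.Np

open Groth.Agent.Helper27.Fc

section Cat

variable {R B D D' : Type u} [CommRing R] [CommRing B] [CommRing D] [CommRing D']
  [Algebra R B] [Algebra R D] [Algebra R D'] [Algebra B D] [IsScalarTower R B D]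
  [Algebra D' D] [IsScalarTower R D' D]

/-- The comparison `B_j → D_j` as a ring map. -/
noncomputable abbrev t1 (j : GI3 R B D D') : QQ j.idx.1 →+* QQ j.idx.2.1 :=
  tau (pair1 j.idx) j.good.pre.c1

/-- The comparison `D'_j → D_j` as a ring map. -/
noncomputable abbrev t2 (j : GI3 R B D D') : QQ j.idx.2.2 →+* QQ j.idx.2.1 :=
  tau (pair2 j.idx) j.good.pre.c2

/-- The fibre product ring `B_j ×_{D_j} D'_j`. -/
noncomputable abbrev PR (j : GI3 R B D D') : Subring (QQ j.idx.1 × QQ j.idx.2.2) :=
  RingHom.eqLocus ((t1 j).comp (RingHom.fst _ _)) ((t2 j).comp (RingHom.snd _ _))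

theorem mem_PR (j : GI3 R B D D') (x : QQ j.idx.1 × QQ j.idx.2.2) :
    x ∈ PR j ↔ t1 j x.1 = t2 j x.2 := Iff.rfl

/-- The structure map `R → P_j`. -/
noncomputable def algP (j : GI3 R B D D') : R →+* PR j :=
  RingHom.codRestrict ((algebraMap R (QQ j.idx.1)).prod (algebraMap R (QQ j.idx.2.2))) (PR j)
    (fun r => by
      rw [mem_PR]
      show t1 j (algebraMap R _ r) = t2 j (algebraMap R _ r)
      rw [tau_algebraMap, tau_algebraMap])

theorem algP_fst (j : GI3 R B D D') (r : R) : (algP j r).1.1 = algebraMap R (QQ j.idx.1) r := rfl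

theorem algP_snd (j : GI3 R B D D') (r : R) : (algP j r).1.2 = algebraMap R (QQ j.idx.2.2) r := rfl

/-- The transition maps of the fibre products. -/
noncomputable def transP {j k : GI3 R B D D'} (hle : j.idx ≤ k.idx) : PR j →+* PR k :=
  RingHom.codRestrict
    ((RingHom.prodMap (UH.trans hle.1) (UH.trans hle.2.2)).comp (PR j).subtype) (PR k)
    (fun x => by
      rw [mem_PR]
      show t1 k (UH.trans hle.1 x.1.1) = t2 k (UH.trans hle.2.2 x.1.2)
      have h1 := tau_trans j.good.pre.c1 k.good.pre.c1 (pair1_le hle) x.1.1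
      have h2 := tau_trans j.good.pre.c2 k.good.pre.c2 (pair2_le hle) x.1.2
      have h3 : t1 j x.1.1 = t2 j x.1.2 := x.2
      rw [← h1, ← h2, h3])

theorem transP_fst {j k : GI3 R B D D'} (hle : j.idx ≤ k.idx) (x : PR j) :
    (transP hle x).1.1 = UH.trans hle.1 x.1.1 := rfl

theorem transP_snd {j k : GI3 R B D D'} (hle : j.idx ≤ k.idx) (x : PR j) :
    (transP hle x).1.2 = UH.trans hle.2.2 x.1.2 := rfl

theorem PR_ext {j : GI3 R B D D'} {x y : PR j} (h1 : x.1.1 = y.1.1) (h2 : x.1.2 = y.1.2) :
    x = y :=
  Subtype.ext (Prod.ext h1 h2)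

variable (R B D D')

/-- The diagram of fibre products. -/
noncomputable def DP3 : GI3 R B D D' ⥤ Under (CommRingCat.of R) where
  obj j := Under.mk (CommRingCat.ofHom (algP j))
  map {j j'} f := Under.homMk (CommRingCat.ofHom (transP (GI3_le f))) (by
    apply CommRingCat.hom_ext
    apply RingHom.ext
    intro a
    apply PR_ext
    · exact trans_algebraMap _ a
    · exact trans_algebraMap _ a)
  map_id j := by
    apply Under.UnderMorphism.ext
    apply CommRingCat.hom_ext
    apply RingHom.ext
    intro y
    apply PR_ext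
    · exact trans_refl _ _
    · exact trans_refl _ _
  map_comp f g := by
    apply Under.UnderMorphism.ext
    apply CommRingCat.hom_ext
    apply RingHom.ext
    intro y
    apply PR_ext
    · exact (trans_trans _ _ _).symm
    · exact (trans_trans _ _ _).symm

/-- The first projections. -/
noncomputable def pi1 : DP3 R B D D' ⟶ DB3 R B D D' where
  app j := Under.homMk (CommRingCat.ofHom ((RingHom.fst _ _).comp (PR j).subtype)) (by
    apply CommRingCat.hom_ext
    apply RingHom.ext
    intro a
    rfl)
  naturality j j' f := by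
    apply Under.UnderMorphism.ext
    apply CommRingCat.hom_ext
    apply RingHom.ext
    intro y
    rfl

/-- The second projections. -/
noncomputable def pi2 : DP3 R B D D' ⟶ DD'3 R B D D' where
  app j := Under.homMk (CommRingCat.ofHom ((RingHom.snd _ _).comp (PR j).subtype)) (by
    apply CommRingCat.hom_ext
    apply RingHom.ext
    intro a
    rfl)
  naturality j j' f := by
    apply Under.UnderMorphism.ext
    apply CommRingCat.hom_ext
    apply RingHom.ext
    intro y
    rfl

theorem isPullback_pi (j : GI3 R B D D') :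
    IsPullback ((pi1 R B D D').app j).right ((pi2 R B D D').app j).right
      ((phi3 R B D D').app j).right ((psi3 R B D D').app j).right :=
  IsPullback.of_isLimit
    (CommRingCat.pullbackConeIsLimit (CommRingCat.ofHom (t1 j)) (CommRingCat.ofHom (t2 j)))

end Cat

end Groth.Agent.Helper27.Np
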