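import Mathlib
import Groth.Agent.Lib.Helper27.NpI

/-!
# Nilpotent pairs as filtered colimits with fibre products (helper27; for S18016), part J:
the cocone of fibre products and its colimit property.
-/

set_option autoImplicit false

universe u

open Groth.Agent.Helper11 Groth.Agent.Helper11.UH MvPolynomial CategoryTheory Limits

namespace Groth.Agent.Helper27.Np

open Groth.Agent.Helper27.Fc

section Cat

variable {R B D D' P : Type u} [CommRing R] [CommRing B] [CommRing D] [CommRing D'] [CommRing P]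
  [Algebra R B] [Algebra R D] [Algebra R D'] [Algebra R P] [Algebra B D] [IsScalarTower R B D]
  [Algebra D' D] [IsScalarTower R D' D]
  (q₁ : P →+* B) (q₂ : P →+* D')
  (hq₁ : ∀ r, q₁ (algebraMap R P r) = algebraMap R B r)
  (hq₂ : ∀ r, q₂ (algebraMap R P r) = algebraMap R D' r)
  (hP : IsPullback (CommRingCat.ofHom q₁) (CommRingCat.ofHom q₂)
    (CommRingCat.ofHom (algebraMap B D)) (CommRingCat.ofHom (algebraMap D' D)))

theorem gam_compat (j : GI3 R B D D') (x : PR j) :
    algebraMap B D (gam j.idx.1 x.1.1) = algebraMap D' D (gam j.idx.2.2 x.1.2) := by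
  have h1 := gam_tau (pair1 j.idx) j.good.pre.c1 x.1.1
  have h2 := gam_tau (pair2 j.idx) j.good.pre.c2 x.1.2
  have h3 : t1 j x.1.1 = t2 j x.1.2 := x.2
  rw [← h1, ← h2]
  exact congrArg _ h3

/-- The leg `P_j → P`. -/
noncomputable def legP (j : GI3 R B D D') : CommRingCat.of (PR j) ⟶ CommRingCat.of P :=
  hP.lift (CommRingCat.ofHom ((gam j.idx.1).comp ((RingHom.fst _ _).comp (PR j).subtype)))
    (CommRingCat.ofHom ((gam j.idx.2.2).comp ((RingHom.snd _ _).comp (PR j).subtype)))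
    (by
      apply CommRingCat.hom_ext
      apply RingHom.ext
      intro x
      exact gam_compat j x)

theorem q₁_legP (j : GI3 R B D D') (x : PR j) :
    q₁ ((legP q₁ q₂ hP j).hom x) = gam j.idx.1 x.1.1 := by
  have := hP.lift_fst (CommRingCat.ofHom ((gam j.idx.1).comp ((RingHom.fst _ _).comp (PR j).subtype)))
    (CommRingCat.ofHom ((gam j.idx.2.2).comp ((RingHom.snd _ _).comp (PR j).subtype)))
    (by
      apply CommRingCat.hom_ext
      apply RingHom.ext
      intro x
      exact gam_compat j x)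
  exact congrArg (fun g => g.hom x) this

theorem q₂_legP (j : GI3 R B D D') (x : PR j) :
    q₂ ((legP q₁ q₂ hP j).hom x) = gam j.idx.2.2 x.1.2 := by
  have := hP.lift_snd (CommRingCat.ofHom ((gam j.idx.1).comp ((RingHom.fst _ _).comp (PR j).subtype)))
    (CommRingCat.ofHom ((gam j.idx.2.2).comp ((RingHom.snd _ _).comp (PR j).subtype)))
    (by
      apply CommRingCat.hom_ext
      apply RingHom.ext
      intro x
      exact gam_compat j x)
  exact congrArg (fun g => g.hom x) this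

include hP in
theorem P_ext {p p' : P} (h1 : q₁ p = q₁ p') (h2 : q₂ p = q₂ p') : p = p' :=
  (pullback_elems _ _ q₁ q₂ hP).2.1 p p' h1 h2

/-- The cocone legs to `P`. -/
noncomputable def cP3 : DP3 R B D D' ⟶
    (Functor.const (GI3 R B D D')).obj (Under.mk (CommRingCat.ofHom (algebraMap R P))) where
  app j := Under.homMk (legP q₁ q₂ hP j) (by
    apply CommRingCat.hom_ext
    apply RingHom.ext
    intro r
    apply P_ext q₁ q₂ hP
    · show q₁ ((legP q₁ q₂ hP j).hom (algP j r)) = q₁ (algebraMap R P r)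
      rw [q₁_legP, hq₁, algP_fst, gam_algebraMap]
    · show q₂ ((legP q₁ q₂ hP j).hom (algP j r)) = q₂ (algebraMap R P r)
      rw [q₂_legP, hq₂, algP_snd, gam_algebraMap])
  naturality j k f := by
    apply Under.UnderMorphism.ext
    apply CommRingCat.hom_ext
    apply RingHom.ext
    intro x
    apply P_ext q₁ q₂ hP
    · show q₁ ((legP q₁ q₂ hP k).hom (transP (GI3_le f) x)) = q₁ ((legP q₁ q₂ hP j).hom x)
      rw [q₁_legP, q₁_legP, transP_fst, gam_trans]
    · show q₂ ((legP q₁ q₂ hP k).hom (transP (GI3_le f) x)) = q₂ ((legP q₁ q₂ hP j).hom x)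
      rw [q₂_legP, q₂_legP, transP_snd, gam_trans]

variable (hi : Function.Surjective (algebraMap D' D))
  (hnil : ∀ x ∈ RingHom.ker (algebraMap D' D), IsNilpotent x)

include hi hnil in
theorem isColimit_cP3 :
    Nonempty (IsColimit (Cocone.mk _ (cP3 q₁ q₂ hq₁ hq₂ hP))) := by
  haveI := gi3_nonempty (R := R) (B := B) hi hnil
  haveI := gi3_directed (R := R) (B := B) hnil
  haveI : IsConnected (GI3 R B D D') := IsFiltered.isConnected _
  haveI : ReflectsColimitsOfShape (GI3 R B D D') (forget CommRingCat.{u}) :=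
    reflectsColimitsOfShape_of_reflectsIsomorphisms
  refine ⟨?_⟩
  apply isColimitOfReflects (Under.forget (CommRingCat.of R))
  apply isColimitOfReflects (forget CommRingCat.{u})
  apply Types.FilteredColimit.isColimitOf'
  · intro p'
    obtain ⟨p, hpp⟩ : ∃ p : P, p = p' := ⟨p', rfl⟩
    rw [← hpp]
    obtain ⟨jb, hjb, hb⟩ := exists_preGood3_B (R := R) (D' := D') hi (q₁ p)
    obtain ⟨jd, hjd, hd⟩ := exists_preGood3_D' (R := R) (B := B) hi (q₂ p)
    obtain ⟨j', hle, hg, hv1, -, hv3⟩ := exists_good3_ge hnil (preGood3_tsup hjb hjd)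
    have hb' : q₁ p ∈ j'.1.1 := by
      rw [hv1]
      exact (le_tsup_left jb jd).1.1 hb
    have hd' : q₂ p ∈ j'.2.2.1 := by
      rw [hv3]
      exact (le_tsup_right jb jd).2.2.1 hd
    let j : GI3 R B D D' := ⟨j', hg⟩
    have hmem : (gen j'.1 (q₁ p) hb', gen j'.2.2 (q₂ p) hd') ∈ PR j := by
      rw [mem_PR]
      show tau (pair1 j') hg.pre.c1 (gen j'.1 (q₁ p) hb') =
        tau (pair2 j') hg.pre.c2 (gen j'.2.2 (q₂ p) hd')
      rw [tau_gen (pair1 j') hg.pre.c1 (q₁ p) hb', tau_gen (pair2 j') hg.pre.c2 (q₂ p) hd']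
      exact gen_congr _ ((pullback_elems _ _ q₁ q₂ hP).1 p) _ _
    refine ⟨j, ⟨_, hmem⟩, ?_⟩
    apply P_ext q₁ q₂ hP
    · show q₁ p = q₁ ((legP q₁ q₂ hP j).hom ⟨_, hmem⟩)
      rw [q₁_legP]
      exact (gam_gen j'.1 (q₁ p) hb').symm
    · show q₂ p = q₂ ((legP q₁ q₂ hP j).hom ⟨_, hmem⟩)
      rw [q₂_legP]
      exact (gam_gen j'.2.2 (q₂ p) hd').symm
  · intro j x y hxy
    have hxy' : (legP q₁ q₂ hP j).hom x = (legP q₁ q₂ hP j).hom y := hxy
    have h1 : gam j.idx.1 x.1.1 = gam j.idx.1 y.1.1 := by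
      rw [← q₁_legP q₁ q₂ hP, ← q₁_legP q₁ q₂ hP, hxy']
    have h2 : gam j.idx.2.2 x.1.2 = gam j.idx.2.2 y.1.2 := by
      rw [← q₂_legP q₁ q₂ hP, ← q₂_legP q₁ q₂ hP, hxy']
    obtain ⟨k, f, hk1, -, hk3⟩ := exists_coeq3 hnil j x.1.1 y.1.1 0 0 x.1.2 y.1.2 h1 rfl h2
    refine ⟨k, f, ?_⟩
    show transP (GI3_le f) x = transP (GI3_le f) y
    apply PR_ext
    · exact hk1
    · exact hk3

end Cat

end Groth.Agent.Helper27.Np
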