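import Mathlib
import Groth.Agent.Lib.Helper27.NpJ

/-!
# Nilpotent pairs as filtered colimits with fibre products (helper27; for S18016), part K:
the main theorem.
-/

set_option autoImplicit false

universe u

open Groth.Agent.Helper11 Groth.Agent.Helper11.UH MvPolynomial CategoryTheory Limits

namespace Groth.Agent.Helper27.Np

open Groth.Agent.Helper27.Fc

section aux

variable {R B D D' : Type u} [CommRing R] [CommRing B] [CommRing D] [CommRing D']
  [Algebra R B] [Algebra R D] [Algebra R D'] [Algebra B D] [IsScalarTower R B D]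
  [Algebra D' D] [IsScalarTower R D' D]

theorem t1_isIntegral (j : GI3 R B D D') (hint : (algebraMap B D).IsIntegral) :
    (t1 j).IsIntegral := by
  intro y
  refine gen_induction j.idx.2.1 (fun y => (t1 j).IsIntegralElem y) ?_ ?_ ?_ ?_ y
  · intro a
    have h1 : algebraMap R (QQ j.idx.2.1) a = t1 j (algebraMap R (QQ j.idx.1) a) :=
      (tau_algebraMap (pair1 j.idx) j.good.pre.c1 a).symm
    rw [h1]
    exact (t1 j).isIntegralElem_map
  · intro x y hx hy
    exact RingHom.IsIntegralElem.add _ hx hy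
  · intro x y hx hy
    exact RingHom.IsIntegralElem.mul _ hx hy
  · intro s hs
    exact j.good.pre.fi hint s hs

end aux

theorem main {R B D D' P : Type u} [CommRing R] [CommRing B]
    [CommRing D] [CommRing D'] [CommRing P] [Algebra R B] [Algebra R D] [Algebra R D'] [Algebra R P]
    (f : B →ₐ[R] D) (i : D' →ₐ[R] D) (hi : Function.Surjective i)
    (hnil : ∀ x ∈ RingHom.ker i.toRingHom, IsNilpotent x) (q₁ : P →ₐ[R] B) (q₂ : P →ₐ[R] D')
    (hP : IsPullback (CommRingCat.ofHom q₁.toRingHom) (CommRingCat.ofHom q₂.toRingHom)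
      (CommRingCat.ofHom f.toRingHom) (CommRingCat.ofHom i.toRingHom)) :
    ∃ (ι : Type u) (_ : SmallCategory ι) (_ : IsFiltered ι) (DB DD DD' DP : ι ⥤ Under (CommRingCat.of R))
      (φ : DB ⟶ DD) (ψ : DD' ⟶ DD) (π₁ : DP ⟶ DB) (π₂ : DP ⟶ DD')
      (cB : DB ⟶ (Functor.const ι).obj (Under.mk (CommRingCat.ofHom (algebraMap R B))))
      (cD : DD ⟶ (Functor.const ι).obj (Under.mk (CommRingCat.ofHom (algebraMap R D))))
      (cD' : DD' ⟶ (Functor.const ι).obj (Under.mk (CommRingCat.ofHom (algebraMap R D'))))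
      (cP : DP ⟶ (Functor.const ι).obj (Under.mk (CommRingCat.ofHom (algebraMap R P)))),
      Nonempty (IsColimit (Cocone.mk _ cB)) ∧ Nonempty (IsColimit (Cocone.mk _ cD)) ∧
      Nonempty (IsColimit (Cocone.mk _ cD')) ∧ Nonempty (IsColimit (Cocone.mk _ cP)) ∧
      (∀ j, (φ.app j).right ≫ (cD.app j).right = (cB.app j).right ≫ CommRingCat.ofHom f.toRingHom) ∧
      (∀ j, (ψ.app j).right ≫ (cD.app j).right = (cD'.app j).right ≫ CommRingCat.ofHom i.toRingHom) ∧
      (∀ j, (π₁.app j).right ≫ (cB.app j).right = (cP.app j).right ≫ CommRingCat.ofHom q₁.toRingHom) ∧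
      (∀ j, (π₂.app j).right ≫ (cD'.app j).right = (cP.app j).right ≫ CommRingCat.ofHom q₂.toRingHom) ∧
      (∀ j, (DB.obj j).hom.hom.FinitePresentation ∧ (DD.obj j).hom.hom.FinitePresentation ∧
        (DD'.obj j).hom.hom.FinitePresentation) ∧
      (∀ j, Function.Surjective (ψ.app j).right.hom ∧ ∀ x ∈ RingHom.ker (ψ.app j).right.hom, IsNilpotent x) ∧
      (∀ j, IsPullback (π₁.app j).right (π₂.app j).right (φ.app j).right (ψ.app j).right) ∧
      (Function.Surjective f → ∀ j, Function.Surjective (φ.app j).right.hom) ∧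
      (Function.Surjective f → (∀ x ∈ RingHom.ker f.toRingHom, IsNilpotent x) →
        ∀ j, Function.Surjective (φ.app j).right.hom ∧ ∀ x ∈ RingHom.ker (φ.app j).right.hom, IsNilpotent x) ∧
      (f.toRingHom.IsIntegral → ∀ j, (φ.app j).right.hom.IsIntegral) := by
  letI : Algebra B D := f.toRingHom.toAlgebra
  letI : Algebra D' D := i.toRingHom.toAlgebra
  haveI : IsScalarTower R B D := IsScalarTower.of_algebraMap_eq (fun r => (f.commutes r).symm)
  haveI : IsScalarTower R D' D := IsScalarTower.of_algebraMap_eq (fun r => (i.commutes r).symm)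
  have hi' : Function.Surjective (algebraMap D' D) := hi
  have hnil' : ∀ x ∈ RingHom.ker (algebraMap D' D), IsNilpotent x := hnil
  have hP' : IsPullback (CommRingCat.ofHom q₁.toRingHom) (CommRingCat.ofHom q₂.toRingHom)
      (CommRingCat.ofHom (algebraMap B D)) (CommRingCat.ofHom (algebraMap D' D)) := hP
  haveI := gi3_nonempty (R := R) (B := B) hi' hnil'
  haveI := gi3_directed (R := R) (B := B) hnil'
  have hφs : Function.Surjective f → ∀ j : GI3 R B D D', Function.Surjective (t1 j) := by
    intro hs j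
    exact tau_surjective' _ _ (fun t ht => j.good.pre.fs hs t ht)
  refine ⟨GI3 R B D D', inferInstance, inferInstance, DB3 R B D D', DD3 R B D D', DD'3 R B D D',
    DP3 R B D D', phi3 R B D D', psi3 R B D D', pi1 R B D D', pi2 R B D D', cB3 R B D D',
    cD3 R B D D', cD'3 R B D D',
    cP3 q₁.toRingHom q₂.toRingHom (fun r => q₁.commutes r) (fun r => q₂.commutes r) hP',
    isColimit_cB3 hi' hnil', isColimit_cD3 hi' hnil', isColimit_cD'3 hi' hnil',
    isColimit_cP3 _ _ _ _ hP' hi' hnil', ?_, ?_, ?_, ?_, ?_, ?_, ?_, ?_, ?_, ?_⟩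
  · intro j
    apply CommRingCat.hom_ext
    apply RingHom.ext
    intro y
    exact gam_tau (pair1 j.idx) j.good.pre.c1 y
  · intro j
    apply CommRingCat.hom_ext
    apply RingHom.ext
    intro y
    exact gam_tau (pair2 j.idx) j.good.pre.c2 y
  · intro j
    apply CommRingCat.hom_ext
    apply RingHom.ext
    intro x
    exact (q₁_legP q₁.toRingHom q₂.toRingHom hP' j x).symm
  · intro j
    apply CommRingCat.hom_ext
    apply RingHom.ext
    intro x
    exact (q₂_legP q₁.toRingHom q₂.toRingHom hP' j x).symm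
  · intro j
    exact ⟨finitePresentation_QQ j.idx.1, finitePresentation_QQ j.idx.2.1,
      finitePresentation_QQ j.idx.2.2⟩
  · intro j
    exact ⟨tau_surjective' _ _ (fun t ht => j.good.pre.s t ht), j.good.n⟩
  · intro j
    exact isPullback_pi R B D D' j
  · exact hφs
  · intro hs hn j
    exact ⟨hφs hs j, j.good.fn ⟨hs, hn⟩⟩
  · intro hint j
    exact t1_isIntegral j hint

end Groth.Agent.Helper27.Np
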