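import Mathlib
universe u v
open TensorProduct

namespace Groth.Agent.Helper27.OT2

variable {R : Type u} [CommRing R] {A : Type v} [CommRing A] [HopfAlgebra R A]

theorem pair_li (x : A) (hx : Bialgebra.counitAlgHom R A x = 0)
    (hfree : ∀ r : R, r • x = 0 → r = 0) :
    LinearIndependent R ![(1 : A), x] := by
  rw [LinearIndependent.pair_iff]
  intro s t hst
  have h1 := congrArg (Bialgebra.counitAlgHom R A) hst
  rw [map_add, map_smul, map_smul, map_one, hx, smul_zero, add_zero, map_zero, smul_eq_mul,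
    mul_one] at h1
  subst h1
  rw [zero_smul, zero_add] at hst
  exact ⟨rfl, hfree t hst⟩

/-- the basis `1, x` -/
theorem exists_basis (x : A) (hx : Bialgebra.counitAlgHom R A x = 0)
    (hgen : ∀ f : A, Bialgebra.counitAlgHom R A f = 0 → ∃ r : R, f = r • x)
    (hfree : ∀ r : R, r • x = 0 → r = 0) :
    ∃ B : Module.Basis (Fin 2) R A, B 0 = 1 ∧ B 1 = x := by
  have hli : LinearIndependent R ![(1 : A), x] := pair_li x hx hfree
  have hsp : ⊤ ≤ Submodule.span R (Set.range ![(1 : A), x]) := by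
    intro f _
    have h0 : Bialgebra.counitAlgHom R A (f - algebraMap R A (Bialgebra.counitAlgHom R A f)) = 0 := by
      rw [map_sub, AlgHom.commutes, Algebra.algebraMap_self_apply, sub_self]
    obtain ⟨r, hr⟩ := hgen _ h0
    have : f = (Bialgebra.counitAlgHom R A f) • (1 : A) + r • x := by
      rw [← hr, Algebra.algebraMap_eq_smul_one]; abel
    rw [this]
    apply Submodule.add_mem
    · exact Submodule.smul_mem _ _ (Submodule.subset_span ⟨0, rfl⟩)
    · exact Submodule.smul_mem _ _ (Submodule.subset_span ⟨1, rfl⟩)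
  refine ⟨Module.Basis.mk hli hsp, ?_, ?_⟩
  · rw [Module.Basis.mk_apply]; rfl
  · rw [Module.Basis.mk_apply]; rfl

/-- expansion of an element of `A ⊗ A` in the basis `1⊗1, 1⊗x, x⊗1, x⊗x`. -/
theorem tensor_expand (x : A) (hx : Bialgebra.counitAlgHom R A x = 0)
    (hgen : ∀ f : A, Bialgebra.counitAlgHom R A f = 0 → ∃ r : R, f = r • x)
    (hfree : ∀ r : R, r • x = 0 → r = 0) (z : A ⊗[R] A) :
    ∃ c00 c01 c10 c11 : R, z = c00 • ((1 : A) ⊗ₜ[R] (1 : A)) + c01 • ((1 : A) ⊗ₜ[R] x)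
      + c10 • (x ⊗ₜ[R] (1 : A)) + c11 • (x ⊗ₜ[R] x) := by
  obtain ⟨B, hB0, hB1⟩ := exists_basis x hx hgen hfree
  have h := ((B.tensorProduct B).sum_repr z).symm
  rw [Fintype.sum_prod_type, Fin.sum_univ_two, Fin.sum_univ_two, Fin.sum_univ_two] at h
  simp only [Module.Basis.tensorProduct_apply, hB0, hB1] at h
  exact ⟨_, _, _, _, by rw [h]; abel⟩

/-- the coefficient functional of `x ⊗ x`. -/
theorem exists_coord11 (x : A) (hx : Bialgebra.counitAlgHom R A x = 0)
    (hgen : ∀ f : A, Bialgebra.counitAlgHom R A f = 0 → ∃ r : R, f = r • x)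
    (hfree : ∀ r : R, r • x = 0 → r = 0) :
    ∃ φ : A ⊗[R] A →ₗ[R] R, φ ((1 : A) ⊗ₜ[R] (1 : A)) = 0 ∧ φ ((1 : A) ⊗ₜ[R] x) = 0 ∧
      φ (x ⊗ₜ[R] (1 : A)) = 0 ∧ φ (x ⊗ₜ[R] x) = 1 := by
  obtain ⟨B, hB0, hB1⟩ := exists_basis x hx hgen hfree
  refine ⟨(B.tensorProduct B).coord (1, 1), ?_, ?_, ?_, ?_⟩
  · rw [← hB0, ← Module.Basis.tensorProduct_apply, Module.Basis.coord_apply,
      Module.Basis.repr_self, Finsupp.single_apply, if_neg (by decide)]
  · rw [← hB0, ← hB1, ← Module.Basis.tensorProduct_apply, Module.Basis.coord_apply,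
      Module.Basis.repr_self, Finsupp.single_apply, if_neg (by decide)]
  · rw [← hB0, ← hB1, ← Module.Basis.tensorProduct_apply, Module.Basis.coord_apply,
      Module.Basis.repr_self, Finsupp.single_apply, if_neg (by decide)]
  · rw [← hB1, ← Module.Basis.tensorProduct_apply, Module.Basis.coord_apply,
      Module.Basis.repr_self, Finsupp.single_apply, if_pos rfl]

theorem coeff_unique (x : A) (hx : Bialgebra.counitAlgHom R A x = 0)
    (hfree : ∀ r : R, r • x = 0 → r = 0) {s t s' t' : R}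
    (h : s • (1 : A) + t • x = s' • (1 : A) + t' • x) : s = s' ∧ t = t' := by
  have hli := pair_li x hx hfree
  rw [LinearIndependent.pair_iff] at hli
  have := hli (s - s') (t - t') (by rw [sub_smul, sub_smul]; linear_combination (exp := 1) h)
  exact ⟨sub_eq_zero.mp this.1, sub_eq_zero.mp this.2⟩

/-- the shape of the comultiplication of `x`. -/
theorem comul_shape (x : A) (hx : Bialgebra.counitAlgHom R A x = 0)
    (hgen : ∀ f : A, Bialgebra.counitAlgHom R A f = 0 → ∃ r : R, f = r • x)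
    (hfree : ∀ r : R, r • x = 0 → r = 0) :
    ∃ b : R, Bialgebra.comulAlgHom R A x = x ⊗ₜ[R] 1 + 1 ⊗ₜ[R] x + b • (x ⊗ₜ[R] x) := by
  obtain ⟨c00, c01, c10, c11, hc⟩ := tensor_expand x hx hgen hfree (Bialgebra.comulAlgHom R A x)
  have hx' : Coalgebra.counit (R := R) x = 0 := hx
  have hc' : Coalgebra.comul (R := R) x = c00 • ((1 : A) ⊗ₜ[R] (1 : A)) + c01 • ((1 : A) ⊗ₜ[R] x)
      + c10 • (x ⊗ₜ[R] (1 : A)) + c11 • (x ⊗ₜ[R] x) := hc
  have h1 := congrArg (TensorProduct.lid R A) (Coalgebra.rTensor_counit_comul (R := R) x)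
  rw [hc'] at h1
  simp only [map_add, map_smul, LinearMap.rTensor_tmul, TensorProduct.lid_tmul, hx',
    Bialgebra.counit_one, zero_smul, smul_zero, add_zero, one_smul] at h1
  have h2 := congrArg (TensorProduct.rid R A) (Coalgebra.lTensor_counit_comul (R := R) x)
  rw [hc'] at h2
  simp only [map_add, map_smul, LinearMap.lTensor_tmul, TensorProduct.rid_tmul, hx',
    Bialgebra.counit_one, zero_smul, smul_zero, add_zero, one_smul] at h2
  obtain ⟨e1, e2⟩ := coeff_unique (s' := 0) (t' := 1) x hx hfree (by rw [h1]; simp)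
  obtain ⟨e3, e4⟩ := coeff_unique (s' := 0) (t' := 1) x hx hfree (by rw [h2]; simp)
  refine ⟨c11, ?_⟩
  rw [hc, e1, e2, e4]
  simp
  abel

end Groth.Agent.Helper27.OT2
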