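import Mathlib
import Groth.Agent.Lib.Helper27.OT2
universe u v
open TensorProduct
namespace Groth.Agent.Helper27.OT2
variable {R : Type u} [CommRing R] {A : Type v} [CommRing A] [HopfAlgebra R A]

theorem iso_of_same {A' : Type v} [CommRing A'] [HopfAlgebra R A']
    (x : A) (hx : Bialgebra.counitAlgHom R A x = 0)
    (hgen : ∀ f : A, Bialgebra.counitAlgHom R A f = 0 → ∃ r : R, f = r • x)
    (hfree : ∀ r : R, r • x = 0 → r = 0)
    (x' : A') (hx' : Bialgebra.counitAlgHom R A' x' = 0)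
    (hgen' : ∀ f : A', Bialgebra.counitAlgHom R A' f = 0 → ∃ r : R, f = r • x')
    (hfree' : ∀ r : R, r • x' = 0 → r = 0)
    (a b : R) (hxa : x * x = a • x)
    (hxb : Bialgebra.comulAlgHom R A x = x ⊗ₜ[R] 1 + 1 ⊗ₜ[R] x + b • (x ⊗ₜ[R] x))
    (hxa' : x' * x' = a • x')
    (hxb' : Bialgebra.comulAlgHom R A' x' = x' ⊗ₜ[R] 1 + 1 ⊗ₜ[R] x' + b • (x' ⊗ₜ[R] x')) :
    Nonempty (A ≃ₐc[R] A') := by
  obtain ⟨B, hB0, hB1⟩ := exists_basis x hx hgen hfree
  obtain ⟨B', hB0', hB1'⟩ := exists_basis x' hx' hgen' hfree'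
  obtain ⟨e, he⟩ : ∃ e : A ≃ₗ[R] A', e = B.equiv B' (Equiv.refl _) := ⟨_, rfl⟩
  have e1 : e 1 = 1 := by
    rw [he, ← hB0, Module.Basis.equiv_apply, Equiv.refl_apply, hB0']
  have ex : e x = x' := by
    rw [he, ← hB1, Module.Basis.equiv_apply, Equiv.refl_apply, hB1']
  have hmul : ∀ u v, e (u * v) = e u * e v := by
    have : (LinearMap.mul R A).compr₂ e.toLinearMap =
        (LinearMap.mul R A').compl₁₂ e.toLinearMap e.toLinearMap := by
      apply B.ext; intro i; apply B.ext; intro j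
      fin_cases i <;> fin_cases j <;>
        simp [hB0, hB1, e1, ex, hxa, hxa']
    intro u v
    exact LinearMap.congr_fun₂ this u v
  obtain ⟨f, hf⟩ : ∃ f : A ≃ₐ[R] A', ∀ u, f u = e u :=
    ⟨AlgEquiv.ofLinearEquiv e e1 hmul, fun u => rfl⟩
  have f1 : f 1 = 1 := map_one f
  have fx : f x = x' := by rw [hf, ex]
  refine ⟨BialgEquiv.ofAlgEquiv f ?_ ?_⟩
  · apply AlgHom.toLinearMap_injective; apply B.ext; intro i
    fin_cases i
    · simp [hB0]
    · change (Bialgebra.counitAlgHom R A') (f (B 1)) = Bialgebra.counitAlgHom R A (B 1)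
      rw [hB1, fx, hx, hx']
  · apply AlgHom.toLinearMap_injective; apply B.ext; intro i
    fin_cases i
    · change (Algebra.TensorProduct.map (f : A →ₐ[R] A') (f : A →ₐ[R] A'))
        (Bialgebra.comulAlgHom R A (B 0)) = Bialgebra.comulAlgHom R A' (f (B 0))
      rw [hB0, map_one, map_one, map_one, map_one]
    · change (Algebra.TensorProduct.map (f : A →ₐ[R] A') (f : A →ₐ[R] A'))
        (Bialgebra.comulAlgHom R A (B 1)) = Bialgebra.comulAlgHom R A' (f (B 1))
      rw [hB1, fx, hxb, hxb']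
      have f1' : (f : A →ₐ[R] A') 1 = 1 := map_one _
      have fx' : (f : A →ₐ[R] A') x = x' := fx
      simp only [map_add, map_smul, Algebra.TensorProduct.map_tmul, fx', f1']

end Groth.Agent.Helper27.OT2
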