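import Mathlib
import Groth.Agent.Lib.Helper27.OT2
import Groth.Agent.Lib.Helper27.OT2Iso
universe u v
open TensorProduct
namespace Groth.Agent.Helper27.OT2
variable {R : Type u} [CommRing R] {A : Type v} [CommRing A] [HopfAlgebra R A]

theorem main479 (x : A) (hx : Bialgebra.counitAlgHom R A x = 0)
    (hgen : ∀ f : A, Bialgebra.counitAlgHom R A f = 0 → ∃ r : R, f = r • x)
    (hfree : ∀ r : R, r • x = 0 → r = 0) :
    ∃ a b : R, x * x = a • x ∧
      Bialgebra.comulAlgHom R A x = x ⊗ₜ[R] 1 + 1 ⊗ₜ[R] x + b • (x ⊗ₜ[R] x) ∧ a * b = -2 := by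
  have hxx : Bialgebra.counitAlgHom R A (x * x) = 0 := by rw [map_mul, hx, mul_zero]
  obtain ⟨a, ha⟩ := hgen _ hxx
  obtain ⟨b, hb⟩ := comul_shape x hx hgen hfree
  obtain ⟨φ, h00, h01, h10, h11⟩ := exists_coord11 x hx hgen hfree
  refine ⟨a, b, ha, hb, ?_⟩
  -- multiplicativity of Δ
  have hmul : Bialgebra.comulAlgHom R A (x * x) =
      Bialgebra.comulAlgHom R A x * Bialgebra.comulAlgHom R A x := map_mul _ _ _
  rw [ha, map_smul, hb] at hmul
  have hsq : (x ⊗ₜ[R] (1 : A) + (1 : A) ⊗ₜ[R] x + b • (x ⊗ₜ[R] x)) *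
      (x ⊗ₜ[R] (1 : A) + (1 : A) ⊗ₜ[R] x + b • (x ⊗ₜ[R] x)) =
      a • (x ⊗ₜ[R] (1 : A)) + a • ((1 : A) ⊗ₜ[R] x) +
        (a * a * b * b + 2 + 4 * a * b) • (x ⊗ₜ[R] x) := by
    simp only [mul_add, add_mul, Algebra.TensorProduct.tmul_mul_tmul, mul_one, one_mul,
      smul_mul_assoc, mul_smul_comm, ha, ← TensorProduct.smul_tmul', TensorProduct.tmul_smul,
      smul_smul, smul_add]
    module
  rw [hsq] at hmul
  have h1 := congrArg φ hmul
  simp only [map_add, map_smul, h00, h01, h10, h11, smul_eq_mul, mul_zero, mul_one, zero_add,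
    add_zero] at h1
  -- antipode
  have hS : Bialgebra.counitAlgHom R A (HopfAlgebra.antipode R x) = 0 := by
    rw [Bialgebra.counitAlgHom_apply, HopfAlgebra.counit_antipode]; exact hx
  obtain ⟨c, hc⟩ := hgen _ hS
  have h2 := HopfAlgebra.mul_antipode_rTensor_comul_apply (R := R) x
  have hb' : Coalgebra.comul (R := R) x = x ⊗ₜ[R] 1 + 1 ⊗ₜ[R] x + b • (x ⊗ₜ[R] x) := hb
  have hx' : Coalgebra.counit (R := R) x = 0 := hx
  rw [hb', hx'] at h2
  simp only [map_add, map_smul, LinearMap.rTensor_tmul, LinearMap.mul'_apply,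
    HopfAlgebra.antipode_one, hc, mul_one, one_mul, smul_mul_assoc, ha, smul_smul, map_zero] at h2
  have h3 : (c + 1 + b * c * a) • x = 0 := by
    rw [add_smul, add_smul, one_smul, mul_assoc]; exact h2
  have h4 := hfree _ h3
  linear_combination c * h1 + (a * b + 2) * h4

theorem main480
    (x : A) (hx : Bialgebra.counitAlgHom R A x = 0)
    (hgen : ∀ f : A, Bialgebra.counitAlgHom R A f = 0 → ∃ r : R, f = r • x)
    (hfree : ∀ r : R, r • x = 0 → r = 0)
    (a b : R) (hxa : x * x = a • x)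
    (hxb : Bialgebra.comulAlgHom R A x = x ⊗ₜ[R] 1 + 1 ⊗ₜ[R] x + b • (x ⊗ₜ[R] x))
    (A' : Type v) [CommRing A'] [HopfAlgebra R A']
    (x' : A') (hx' : Bialgebra.counitAlgHom R A' x' = 0)
    (hgen' : ∀ f : A', Bialgebra.counitAlgHom R A' f = 0 → ∃ r : R, f = r • x')
    (hfree' : ∀ r : R, r • x' = 0 → r = 0)
    (a' b' : R) (hxa' : x' * x' = a' • x')
    (hxb' : Bialgebra.comulAlgHom R A' x' = x' ⊗ₜ[R] 1 + 1 ⊗ₜ[R] x' + b' • (x' ⊗ₜ[R] x')) :
    Nonempty (A ≃ₐc[R] A') ↔ ∃ s : Rˣ, a = a' * (s : R) ∧ b' = b * (s : R) := by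
  constructor
  · rintro ⟨φ⟩
    have h1 : Bialgebra.counitAlgHom R A' (φ x) = 0 := by
      rw [Bialgebra.counitAlgHom_apply, CoalgHomClass.counit_comp_apply]; exact hx
    obtain ⟨s, hs⟩ := hgen' _ h1
    have h2 : Bialgebra.counitAlgHom R A (φ.symm x') = 0 := by
      rw [Bialgebra.counitAlgHom_apply, CoalgHomClass.counit_comp_apply]; exact hx'
    obtain ⟨t, ht⟩ := hgen _ h2
    have hst : s * t = 1 := by
      have : φ.symm (φ x) = x := φ.symm_apply_apply x
      rw [hs, map_smul, ht, smul_smul] at this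
      have h3 : (s * t - 1) • x = 0 := by rw [sub_smul, one_smul, this, sub_self]
      exact sub_eq_zero.mp (hfree _ h3)
    refine ⟨⟨s, t, hst, by rw [mul_comm]; exact hst⟩, ?_, ?_⟩
    · have h3 : φ (x * x) = φ x * φ x := map_mul φ x x
      rw [hxa, map_smul, hs, smul_mul_smul_comm, hxa', smul_smul, smul_smul] at h3
      have h4 : (a * s - s * s * a') • x' = 0 := by rw [sub_smul, h3, sub_self]
      have h5 := sub_eq_zero.mp (hfree' _ h4)
      change a = a' * s
      linear_combination t * h5 - (a - a' * s) * hst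
    · have h3 := CoalgHomClass.map_comp_comul_apply (R := R) φ x
      have hb1 : Coalgebra.comul (R := R) x = x ⊗ₜ[R] 1 + 1 ⊗ₜ[R] x + b • (x ⊗ₜ[R] x) := hxb
      have hb2 : Coalgebra.comul (R := R) x' = x' ⊗ₜ[R] 1 + 1 ⊗ₜ[R] x' + b' • (x' ⊗ₜ[R] x') := hxb'
      have φ1 : φ 1 = 1 := map_one φ
      rw [hb1, hs, map_smul, hb2] at h3
      simp only [map_add, map_smul, TensorProduct.map_tmul, LinearMap.coe_coe, hs, φ1] at h3
      obtain ⟨ψ, h00, h01, h10, h11⟩ := exists_coord11 x' hx' hgen' hfree'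
      have h4 := congrArg ψ h3
      simp only [map_add, map_smul, ← TensorProduct.smul_tmul', TensorProduct.tmul_smul, smul_add,
        h00, h01, h10, h11, smul_eq_mul, mul_zero, mul_one, zero_add, add_zero] at h4
      change b' = b * s
      linear_combination (-t) * h4 - (b' - b * s) * hst
  · rintro ⟨s, hsa, hsb⟩
    have hss : (s : R) * ((s⁻¹ : Rˣ) : R) = 1 := s.mul_inv
    have hx'' : Bialgebra.counitAlgHom R A' ((s : R) • x') = 0 := by
      rw [map_smul, hx', smul_zero]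
    have hgen'' : ∀ f : A', Bialgebra.counitAlgHom R A' f = 0 → ∃ r : R, f = r • ((s : R) • x') := by
      intro f hf
      obtain ⟨r, hr⟩ := hgen' f hf
      refine ⟨r * ((s⁻¹ : Rˣ) : R), ?_⟩
      rw [smul_smul, mul_assoc, s.inv_mul, mul_one, hr]
    have hfree'' : ∀ r : R, r • ((s : R) • x') = 0 → r = 0 := by
      intro r hr
      rw [smul_smul] at hr
      have := hfree' _ hr
      calc r = r * s * ((s⁻¹ : Rˣ) : R) := by rw [mul_assoc, hss, mul_one]
        _ = 0 := by rw [this, zero_mul]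
    have hxa'' : ((s : R) • x') * ((s : R) • x') = a • ((s : R) • x') := by
      rw [smul_mul_smul_comm, hxa', smul_smul, smul_smul, hsa]
      congr 1; ring
    have hxb'' : Bialgebra.comulAlgHom R A' ((s : R) • x') =
        ((s : R) • x') ⊗ₜ[R] 1 + 1 ⊗ₜ[R] ((s : R) • x') + b • (((s : R) • x') ⊗ₜ[R] ((s : R) • x')) := by
      rw [map_smul, hxb', hsb]
      simp only [← TensorProduct.smul_tmul', TensorProduct.tmul_smul, smul_add, smul_smul]
      congr 2; ring
    exact iso_of_same x hx hgen hfree _ hx'' hgen'' hfree'' a b hxa hxb hxa'' hxb''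


end Groth.Agent.Helper27.OT2
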