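import Mathlib
import Groth.Prelude.Def_W4c5ffgsreadingcourseOT
universe u
open WithConv

namespace Groth.Agent.Helper27.OT468

variable {R : Type u} [CommRing R] {A : Type u} [CommRing A] [HopfAlgebra R A]

theorem comp_convPow {B : Type u} [CommRing B] [Algebra R B] (h : A →ₐ[R] B)
    (f : WithConv (A →ₐ[R] A)) (n : ℕ) :
    h.comp (f ^ n).ofConv = ofConv ((toConv (h.comp f.ofConv)) ^ n) := by
  induction n with
  | zero =>
    rw [pow_zero, pow_zero]
    ext a
    simp [AlgHom.convOne_def]
  | succ n ih =>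
    rw [pow_succ, pow_succ, AlgHom.comp_convMul_distrib, ih]

theorem powConv_comp (m n : ℕ) :
    (SGA3b.powConv R A m).comp (SGA3b.powConv R A n) = SGA3b.powConv R A (m * n) := by
  unfold SGA3b.powConv
  rw [comp_convPow, pow_mul]
  rfl

theorem counit_comp_powConv (n : ℕ) :
    (Bialgebra.counitAlgHom R A).comp (SGA3b.powConv R A n) = Bialgebra.counitAlgHom R A := by
  unfold SGA3b.powConv
  rw [comp_convPow]
  have : toConv ((Bialgebra.counitAlgHom R A).comp (toConv (AlgHom.id R A)).ofConv) =
      (1 : WithConv (A →ₐ[R] R)) := by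
    rw [AlgHom.convOne_def]
    congr 1
  rw [this, one_pow]
  rfl

theorem powConv_one : SGA3b.powConv R A 1 = AlgHom.id R A := by
  unfold SGA3b.powConv
  rw [pow_one]

theorem powConv_mod (p : ℕ) (hp : (WithConv.toConv (AlgHom.id R A)) ^ p = 1) (n : ℕ) :
    SGA3b.powConv R A n = SGA3b.powConv R A (n % p) := by
  unfold SGA3b.powConv
  conv_lhs => rw [← Nat.div_add_mod n p, pow_add, pow_mul, hp, one_pow, one_mul]

end Groth.Agent.Helper27.OT468
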