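import Mathlib

/-! Orthogonal idempotents of the group algebra of `(ZMod p)ˣ` attached to a character. -/

namespace Groth.Agent.Helper27

universe u
open Finset

namespace T467

variable (p : ℕ) [Fact p.Prime] {R : Type u} [CommRing R]
  (χ : (ZMod p)ˣ →* Rˣ) (hχ : ∀ m : (ZMod p)ˣ, m ≠ 1 → IsUnit ((χ m : R) - 1))

include hχ in
/-- orthogonality -/
theorem sum_char_pow_eq_zero (k : ℕ) (hk0 : 0 < k) (hk : k < p - 1) :
    ∑ m : (ZMod p)ˣ, ((χ m : Rˣ) : R) ^ k = 0 := by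
  obtain ⟨g, hg⟩ := IsCyclic.exists_generator (α := (ZMod p)ˣ)
  have hord : orderOf g = p - 1 := by
    rw [orderOf_eq_card_of_forall_mem_zpowers hg, Nat.card_eq_fintype_card, ZMod.card_units]
  have hgk : g ^ k ≠ 1 := by
    intro h
    have := orderOf_dvd_of_pow_eq_one h
    rw [hord] at this
    exact absurd (Nat.le_of_dvd hk0 this) (not_le.mpr hk)
  have hunit := hχ (g ^ k) hgk
  have hshift : ∑ m : (ZMod p)ˣ, ((χ m : Rˣ) : R) ^ k
      = ((χ (g ^ k) : Rˣ) : R) * ∑ m : (ZMod p)ˣ, ((χ m : Rˣ) : R) ^ k := by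
    rw [Finset.mul_sum]
    rw [← Fintype.sum_equiv (Equiv.mulLeft g) (fun m => ((χ (g * m) : Rˣ) : R) ^ k)
      (fun m => ((χ m : Rˣ) : R) ^ k) (fun m => rfl)]
    apply Finset.sum_congr rfl
    intro m _
    rw [map_mul, map_pow, Units.val_mul, Units.val_pow_eq_pow_val, mul_pow]
  have : (((χ (g ^ k) : Rˣ) : R) - 1) * ∑ m : (ZMod p)ˣ, ((χ m : Rˣ) : R) ^ k = 0 := by
    rw [sub_mul, one_mul, ← hshift, sub_self]
  exact (hunit.mul_right_eq_zero).mp this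

include hχ in
theorem sum_char_inv_pow_eq_zero (k : ℕ) (hk0 : 0 < k) (hk : k < p - 1) :
    ∑ m : (ZMod p)ˣ, ((χ m⁻¹ : Rˣ) : R) ^ k = 0 := by
  rw [← sum_char_pow_eq_zero p χ hχ k hk0 hk]
  exact Fintype.sum_equiv (Equiv.inv _) _ _ (fun m => rfl)

include hχ in
/-- geometric sum -/
theorem sum_range_char_pow_eq_zero (m : (ZMod p)ˣ) (hm : m ≠ 1) :
    ∑ i ∈ range (p - 1), ((χ m : Rˣ) : R) ^ i = 0 := by
  have hunit := hχ m hm
  have h1 : ((χ m : Rˣ) : R) ^ (p - 1) = 1 := by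
    rw [← Units.val_pow_eq_pow_val, ← map_pow, ZMod.units_pow_card_sub_one_eq_one, map_one,
      Units.val_one]
  have := mul_geom_sum ((χ m : Rˣ) : R) (p - 1)
  rw [h1, sub_self] at this
  exact (hunit.mul_right_eq_zero).mp this

end T467

theorem coi_groupAlgebra
    (p : ℕ) [Fact p.Prime] (R : Type u) [CommRing R] (u : R) (hu : u * ((p - 1 : ℕ) : R) = 1)
    (χ : (ZMod p)ˣ →* Rˣ) (hχ : ∀ m : (ZMod p)ˣ, m ≠ 1 → IsUnit ((χ m : R) - 1)) :
    CompleteOrthogonalIdempotents (fun i : Fin (p - 1) =>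
      u • ∑ m : (ZMod p)ˣ, ((χ m⁻¹ : Rˣ) : R) ^ (i : ℕ) • MonoidAlgebra.of R (ZMod p)ˣ m) := by
  classical
  rw [CompleteOrthogonalIdempotents.iff_ortho_complete]
  have hinv : ∀ m : (ZMod p)ˣ, ((χ m⁻¹ : Rˣ) : R) * ((χ m : Rˣ) : R) = 1 := by
    intro m
    rw [← Units.val_mul, ← map_mul, inv_mul_cancel, map_one, Units.val_one]
  constructor
  · intro i j hij
    show (u • ∑ m : (ZMod p)ˣ, ((χ m⁻¹ : Rˣ) : R) ^ (i : ℕ) • MonoidAlgebra.of R (ZMod p)ˣ m)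
      * (u • ∑ m : (ZMod p)ˣ, ((χ m⁻¹ : Rˣ) : R) ^ (j : ℕ) • MonoidAlgebra.of R (ZMod p)ˣ m) = 0
    rw [smul_mul_smul_comm, Finset.sum_mul_sum]
    have hinner : ∀ m : (ZMod p)ˣ,
        ∑ m' : (ZMod p)ˣ, (((χ m⁻¹ : Rˣ) : R) ^ (i : ℕ) • MonoidAlgebra.of R (ZMod p)ˣ m)
          * (((χ m'⁻¹ : Rˣ) : R) ^ (j : ℕ) • MonoidAlgebra.of R (ZMod p)ˣ m')
        = ∑ n : (ZMod p)ˣ, ((((χ m⁻¹ : Rˣ) : R) ^ (i : ℕ) * ((χ m : Rˣ) : R) ^ (j : ℕ))
            * ((χ n⁻¹ : Rˣ) : R) ^ (j : ℕ)) • MonoidAlgebra.of R (ZMod p)ˣ n := by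
      intro m
      apply Fintype.sum_equiv (Equiv.mulLeft m)
      intro m'
      rw [Equiv.coe_mulLeft, smul_mul_smul_comm, ← map_mul]
      congr 1
      rw [mul_inv_rev, map_mul, Units.val_mul, mul_pow]
      have := hinv m
      calc ((χ m⁻¹ : Rˣ) : R) ^ (i : ℕ) * ((χ m'⁻¹ : Rˣ) : R) ^ (j : ℕ)
          = ((χ m⁻¹ : Rˣ) : R) ^ (i : ℕ) * (((χ m⁻¹ : Rˣ) : R) * ((χ m : Rˣ) : R)) ^ (j : ℕ)
              * ((χ m'⁻¹ : Rˣ) : R) ^ (j : ℕ) := by rw [this, one_pow, mul_one]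
        _ = _ := by ring
    rw [Finset.sum_congr rfl (fun m _ => hinner m), Finset.sum_comm]
    have hzero : ∀ n : (ZMod p)ˣ,
        ∑ m : (ZMod p)ˣ, ((((χ m⁻¹ : Rˣ) : R) ^ (i : ℕ) * ((χ m : Rˣ) : R) ^ (j : ℕ))
            * ((χ n⁻¹ : Rˣ) : R) ^ (j : ℕ)) • MonoidAlgebra.of R (ZMod p)ˣ n = 0 := by
      intro n
      rw [← Finset.sum_smul, ← Finset.sum_mul]
      have hs : ∑ m : (ZMod p)ˣ, ((χ m⁻¹ : Rˣ) : R) ^ (i : ℕ) * ((χ m : Rˣ) : R) ^ (j : ℕ) = 0 := by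
        have hi := i.2
        have hj := j.2
        rcases lt_or_gt_of_ne (fun h => hij (Fin.ext h) : (i : ℕ) ≠ (j : ℕ)) with h | h
        · rw [← T467.sum_char_pow_eq_zero p χ hχ ((j : ℕ) - (i : ℕ)) (by omega) (by omega)]
          apply Finset.sum_congr rfl
          intro m _
          have e : (j : ℕ) = (i : ℕ) + ((j : ℕ) - (i : ℕ)) := by omega
          conv_lhs => rw [e, pow_add, ← mul_assoc, ← mul_pow, hinv m, one_pow, one_mul]
        · rw [← T467.sum_char_inv_pow_eq_zero p χ hχ ((i : ℕ) - (j : ℕ)) (by omega) (by omega)]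
          apply Finset.sum_congr rfl
          intro m _
          have e : (i : ℕ) = ((i : ℕ) - (j : ℕ)) + (j : ℕ) := by omega
          conv_lhs => rw [e, pow_add, mul_assoc, ← mul_pow, hinv m, one_pow, mul_one]
      rw [hs, zero_mul, zero_smul]
    rw [Finset.sum_congr rfl (fun n _ => hzero n), Finset.sum_const_zero, smul_zero]
  · rw [← Finset.smul_sum, Finset.sum_comm]
    have hcoef : ∀ m : (ZMod p)ˣ,
        ∑ i : Fin (p - 1), ((χ m⁻¹ : Rˣ) : R) ^ (i : ℕ) • MonoidAlgebra.of R (ZMod p)ˣ m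
          = if m = 1 then ((p - 1 : ℕ) : R) • MonoidAlgebra.of R (ZMod p)ˣ 1 else 0 := by
      intro m
      rw [← Finset.sum_smul, Fin.sum_univ_eq_sum_range (fun i => ((χ m⁻¹ : Rˣ) : R) ^ i) (p - 1)]
      split_ifs with h
      · subst h
        simp
      · rw [T467.sum_range_char_pow_eq_zero p χ hχ m⁻¹ (by simpa using h), zero_smul]
    rw [Finset.sum_congr rfl (fun m _ => hcoef m), Finset.sum_ite_eq' Finset.univ (1 : (ZMod p)ˣ),
      if_pos (Finset.mem_univ _), smul_smul, hu, one_smul]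
    rfl

end Groth.Agent.Helper27
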