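import Mathlib
import Groth.Prelude.Def_W4c5ffgsreadingcourseOT
import Groth.Agent.Lib.Helper27.OT468a
import Groth.Agent.Lib.Helper27.OTIdem
universe u
open WithConv

namespace Groth.Agent.Helper27.OT468

variable {R : Type u} [CommRing R] {A : Type u} [CommRing A] [HopfAlgebra R A]

/-- the action of `(ZMod p)ˣ` by power maps. -/
noncomputable def rho (p : ℕ) [Fact p.Prime] (hp : (WithConv.toConv (AlgHom.id R A)) ^ p = 1) :
    (ZMod p)ˣ →* Module.End R A where
  toFun m := (SGA3b.powConv R A (m : ZMod p).val).toLinearMap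
  map_one' := by
    have : Fact (1 < p) := ⟨(Fact.out : p.Prime).one_lt⟩
    rw [Units.val_one, ZMod.val_one, powConv_one]
    rfl
  map_mul' m m' := by
    rw [Units.val_mul, ZMod.val_mul, ← powConv_mod p hp, ← powConv_comp]
    rfl

theorem rho_apply (p : ℕ) [Fact p.Prime] (hp : (WithConv.toConv (AlgHom.id R A)) ^ p = 1)
    (m : (ZMod p)ˣ) : rho p hp m = (SGA3b.powConv R A (m : ZMod p).val).toLinearMap := rfl

theorem proj_eq (p : ℕ) [Fact p.Prime] (hp : (WithConv.toConv (AlgHom.id R A)) ^ p = 1)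
    (u : R) (χ : (ZMod p)ˣ →* Rˣ) (i : ℕ) :
    OortTate.proj R A p u χ i = u • ∑ m : (ZMod p)ˣ, (((χ m⁻¹ : Rˣ) : R) ^ i) • rho p hp m := rfl

theorem coi_proj (p : ℕ) [Fact p.Prime] (u : R) (hu : u * ((p - 1 : ℕ) : R) = 1)
    (χ : (ZMod p)ˣ →* Rˣ) (hχ : ∀ m : (ZMod p)ˣ, m ≠ 1 → IsUnit ((χ m : R) - 1))
    (hp : (WithConv.toConv (AlgHom.id R A)) ^ p = 1) :
    CompleteOrthogonalIdempotents (fun i : Fin (p - 1) => OortTate.proj R A p u χ (i : ℕ)) := by
  have h := (coi_groupAlgebra p R u hu χ hχ).map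
    (MonoidAlgebra.lift R (Module.End R A) (ZMod p)ˣ (rho p hp)).toRingHom
  convert h using 1
  funext i
  rw [proj_eq p hp, Function.comp_apply, AlgHom.toRingHom_eq_coe, RingHom.coe_coe, map_smul,
    map_sum]
  congr 1
  apply Finset.sum_congr rfl
  intro m _
  rw [map_smul, MonoidAlgebra.lift_of]

end Groth.Agent.Helper27.OT468
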