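import Mathlib
import Groth.Prelude.Def_W4c5ffgsreadingcourseOT
import Groth.Agent.Lib.Helper27.OT468b
universe u
open WithConv

namespace Groth.Agent.Helper27.OT468

variable {R : Type u} [CommRing R] {A : Type u} [CommRing A] [HopfAlgebra R A]

theorem mem_eigenAug_iff (p : ℕ) [Fact p.Prime] (hp : (WithConv.toConv (AlgHom.id R A)) ^ p = 1)
    (χ : (ZMod p)ˣ →* Rˣ) (i : ℕ) (f : A) :
    f ∈ OortTate.eigenAug R A p χ i ↔ Bialgebra.counitAlgHom R A f = 0 ∧
      ∀ m : (ZMod p)ˣ, rho p hp m f = (((χ m : Rˣ) : R) ^ i) • f := by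
  unfold OortTate.eigenAug
  rw [Submodule.mem_inf, LinearMap.mem_ker, Submodule.mem_iInf]
  simp only [Module.End.mem_eigenspace_iff]
  rfl

theorem rho_mul_proj (p : ℕ) [Fact p.Prime] (hp : (WithConv.toConv (AlgHom.id R A)) ^ p = 1)
    (u : R) (χ : (ZMod p)ˣ →* Rˣ) (i : ℕ) (m : (ZMod p)ˣ) :
    rho p hp m * OortTate.proj R A p u χ i =
      (((χ m : Rˣ) : R) ^ i) • OortTate.proj R A p u χ i := by
  rw [proj_eq p hp, mul_smul_comm, smul_comm (_ ^ i) u]
  congr 1
  rw [Finset.mul_sum, Finset.smul_sum]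
  conv_rhs => rw [← Equiv.sum_comp (Equiv.mulLeft m)]
  apply Finset.sum_congr rfl
  intro n _
  rw [mul_smul_comm, ← map_mul, smul_smul, ← mul_pow, Equiv.coe_mulLeft, ← Units.val_mul,
    ← map_mul]
  congr 4
  rw [mul_inv_rev, mul_comm, inv_mul_cancel_right]

theorem proj_apply_of_eigen (p : ℕ) [Fact p.Prime]
    (hp : (WithConv.toConv (AlgHom.id R A)) ^ p = 1)
    (u : R) (hu : u * ((p - 1 : ℕ) : R) = 1) (χ : (ZMod p)ˣ →* Rˣ) (i : ℕ) (f : A)
    (hf : ∀ m : (ZMod p)ˣ, rho p hp m f = (((χ m : Rˣ) : R) ^ i) • f) :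
    OortTate.proj R A p u χ i f = f := by
  rw [proj_eq p hp, LinearMap.smul_apply, LinearMap.sum_apply]
  have : ∀ m : (ZMod p)ˣ, ((((χ m⁻¹ : Rˣ) : R) ^ i) • rho p hp m) f = f := by
    intro m
    rw [LinearMap.smul_apply, hf, smul_smul, ← mul_pow, ← Units.val_mul, ← map_mul,
      inv_mul_cancel, map_one, Units.val_one, one_pow, one_smul]
  rw [Finset.sum_congr rfl (fun m _ => this m), Finset.sum_const, Finset.card_univ,
    ZMod.card_units, ← Nat.cast_smul_eq_nsmul R, smul_smul, hu, one_smul]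

theorem counit_rho (p : ℕ) [Fact p.Prime] (hp : (WithConv.toConv (AlgHom.id R A)) ^ p = 1)
    (m : (ZMod p)ˣ) (f : A) :
    Bialgebra.counitAlgHom R A (rho p hp m f) = Bialgebra.counitAlgHom R A f := by
  rw [rho_apply]
  exact DFunLike.congr_fun (counit_comp_powConv (R := R) (A := A) (m : ZMod p).val) f

theorem counit_proj (p : ℕ) [Fact p.Prime] (hp : (WithConv.toConv (AlgHom.id R A)) ^ p = 1)
    (u : R) (χ : (ZMod p)ˣ →* Rˣ) (i : ℕ) (f : A) (hf : Bialgebra.counitAlgHom R A f = 0) :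
    Bialgebra.counitAlgHom R A (OortTate.proj R A p u χ i f) = 0 := by
  rw [proj_eq p hp, LinearMap.smul_apply, LinearMap.sum_apply, map_smul, map_sum]
  rw [Finset.sum_eq_zero, smul_zero]
  intro m _
  rw [LinearMap.smul_apply, map_smul, counit_rho, hf, smul_zero]

theorem eigenAug_eq_map (p : ℕ) [Fact p.Prime] (hp : (WithConv.toConv (AlgHom.id R A)) ^ p = 1)
    (u : R) (hu : u * ((p - 1 : ℕ) : R) = 1) (χ : (ZMod p)ˣ →* Rˣ) (i : ℕ) :
    OortTate.eigenAug R A p χ i = Submodule.map (OortTate.proj R A p u χ i)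
      (LinearMap.ker (Bialgebra.counitAlgHom R A).toLinearMap) := by
  ext f
  rw [mem_eigenAug_iff p hp, Submodule.mem_map]
  constructor
  · rintro ⟨h0, hm⟩
    exact ⟨f, h0, proj_apply_of_eigen p hp u hu χ i f hm⟩
  · rintro ⟨g, hg, rfl⟩
    refine ⟨counit_proj p hp u χ i g hg, fun m => ?_⟩
    have := rho_mul_proj p hp u χ i m
    exact LinearMap.congr_fun this g

end Groth.Agent.Helper27.OT468
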