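import Mathlib
import Groth.Prelude.Def_W4c5ffgsreadingcourseOT
import Groth.Agent.Lib.Helper27.OT468c
universe u
open WithConv

namespace Groth.Agent.Helper27.OT468

theorem main
    (p : ℕ) [Fact p.Prime] (R : Type u) [CommRing R] (u : R) (hu : u * ((p - 1 : ℕ) : R) = 1)
    (χ : (ZMod p)ˣ →* Rˣ) (hχ : ∀ m : (ZMod p)ˣ, m ≠ 1 → IsUnit ((χ m : R) - 1))
    (A : Type u) [CommRing A] [HopfAlgebra R A]
    (hp : (WithConv.toConv (AlgHom.id R A)) ^ p = 1) :
    iSupIndep (fun i : Fin (p - 1) => OortTate.eigenAug R A p χ (i : ℕ)) ∧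
      (⨆ i : Fin (p - 1), OortTate.eigenAug R A p χ (i : ℕ)) =
        LinearMap.ker (Bialgebra.counitAlgHom R A).toLinearMap ∧
      ∀ i : Fin (p - 1), OortTate.eigenAug R A p χ (i : ℕ) =
        Submodule.map (OortTate.proj R A p u χ (i : ℕ))
          (LinearMap.ker (Bialgebra.counitAlgHom R A).toLinearMap) := by
  have hcoi := coi_proj (A := A) p u hu χ hχ hp
  have hfix : ∀ (i : Fin (p - 1)) (g : A), g ∈ OortTate.eigenAug R A p χ (i : ℕ) →
      OortTate.proj R A p u χ (i : ℕ) g = g := fun i g hg =>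
    proj_apply_of_eigen p hp u hu χ i g ((mem_eigenAug_iff p hp χ i g).mp hg).2
  refine ⟨?_, ?_, fun i => eigenAug_eq_map p hp u hu χ i⟩
  · rw [iSupIndep_def]
    intro i
    rw [Submodule.disjoint_def]
    intro f hf1 hf2
    have h2 : (⨆ j, ⨆ (_ : j ≠ i), OortTate.eigenAug R A p χ (j : ℕ)) ≤
        LinearMap.ker (OortTate.proj R A p u χ (i : ℕ)) := by
      apply iSup₂_le
      intro j hj g hg
      rw [LinearMap.mem_ker, ← hfix j g hg]
      have := hcoi.ortho (Ne.symm hj)
      exact LinearMap.congr_fun this g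
    rw [← hfix i f hf1]
    exact h2 hf2
  · apply le_antisymm
    · exact iSup_le fun i => inf_le_left
    · intro f hf
      have h1 : f = ∑ i : Fin (p - 1), OortTate.proj R A p u χ (i : ℕ) f := by
        have := LinearMap.congr_fun hcoi.complete f
        rw [LinearMap.sum_apply] at this
        rw [this]; rfl
      rw [h1]
      refine Submodule.sum_mem _ (fun i _ => Submodule.mem_iSup_of_mem i ?_)
      rw [eigenAug_eq_map p hp u hu χ i]
      exact Submodule.mem_map_of_mem hf

end Groth.Agent.Helper27.OT468
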