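import Mathlib
import Groth.Prelude.Def_W4c5spincurvestfNode

set_option autoImplicit false
universe u

namespace Groth.Agent.Helper27.PNode

open MvPolynomial

variable {k : Type u} [Field k]

/-- evaluation `X0 ↦ X, X1 ↦ 0` -/
noncomputable def α₀ : MvPolynomial (Fin 2) k →ₐ[k] Polynomial k :=
  MvPolynomial.aeval ![Polynomial.X, 0]

/-- inclusion `X ↦ X0` -/
noncomputable def ι₀ : Polynomial k →ₐ[k] MvPolynomial (Fin 2) k :=
  Polynomial.aeval (MvPolynomial.X 0)

lemma X1_dvd_sub (H : MvPolynomial (Fin 2) k) : (X 1 : MvPolynomial (Fin 2) k) ∣ H - ι₀ (α₀ H) := by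
  induction H using MvPolynomial.induction_on with
  | C a =>
    have : ι₀ (α₀ (C a : MvPolynomial (Fin 2) k)) = C a := by
      simp [ι₀, α₀]
    rw [this, sub_self]; exact dvd_zero _
  | add p q hp hq =>
    rw [map_add, map_add]
    have : p + q - (ι₀ (α₀ p) + ι₀ (α₀ q)) = (p - ι₀ (α₀ p)) + (q - ι₀ (α₀ q)) := by ring
    rw [this]; exact dvd_add hp hq
  | mul_X p i hp =>
    fin_cases i
    · have : p * X 0 - ι₀ (α₀ (p * X 0)) = (p - ι₀ (α₀ p)) * X 0 := by
        rw [map_mul, map_mul]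
        have e1 : α₀ (X 0 : MvPolynomial (Fin 2) k) = Polynomial.X := by simp [α₀]
        have e2 : ι₀ (Polynomial.X : Polynomial k) = X 0 := by simp [ι₀]
        rw [e1, e2]; ring
      simp only [Fin.zero_eta]
      rw [this]; exact Dvd.dvd.mul_right hp _
    · have : p * X 1 - ι₀ (α₀ (p * X 1)) = p * X 1 := by
        rw [map_mul]
        have e1 : α₀ (X 1 : MvPolynomial (Fin 2) k) = 0 := by simp [α₀]
        rw [e1, mul_zero, map_zero, sub_zero]
      simp only [Fin.mk_one]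
      rw [this]; exact Dvd.intro_left _ rfl

noncomputable abbrev I₀ (k : Type u) [Field k] : Ideal (MvPolynomial (Fin 2) k) :=
  Ideal.span {(MvPolynomial.X 0 * MvPolynomial.X 1 - MvPolynomial.C 0 : MvPolynomial (Fin 2) k)}

lemma mk_X0_mul_eq_zero (H : MvPolynomial (Fin 2) k) (h : α₀ H = 0) :
    (Ideal.Quotient.mk (I₀ k) (X 0 * H) : SpinCurv.PolyNodeRing k 0) = 0 := by
  rw [Ideal.Quotient.eq_zero_iff_mem]
  obtain ⟨c, hc⟩ := X1_dvd_sub H
  rw [h, map_zero, sub_zero] at hc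
  rw [hc, Ideal.mem_span_singleton']
  refine ⟨c, ?_⟩
  rw [map_zero, sub_zero]; ring

lemma exists_of_y_mul (g : SpinCurv.PolyNodeRing k 0) (h : SpinCurv.PolyNodeRing.y k 0 * g = 0) :
    ∃ H : MvPolynomial (Fin 2) k, g = Ideal.Quotient.mk (I₀ k) (X 0 * H) := by
  obtain ⟨G, rfl⟩ := Ideal.Quotient.mk_surjective g
  rw [← map_mul, Ideal.Quotient.eq_zero_iff_mem, Ideal.mem_span_singleton'] at h
  obtain ⟨c, hc⟩ := h
  rw [map_zero, sub_zero] at hc
  have h1 : (X 1 : MvPolynomial (Fin 2) k) * (X 0 * c) = X 1 * G := by rw [← hc]; ring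
  have h2 : X 0 * c = G := mul_left_cancel₀ (MvPolynomial.X_ne_zero _) h1
  exact ⟨c, by rw [h2]⟩

lemma laurent_key (P Q : Polynomial k)
    (h : LaurentPolynomial.T 1 * Polynomial.toLaurent P = LaurentPolynomial.invert (Polynomial.toLaurent Q)) :
    P = 0 ∧ Q = 0 := by
  have hco : ∀ (R : Polynomial k) (n : ℕ), (Polynomial.toLaurent R).coeff (n : ℤ) = R.coeff n := by
    intro R n
    rw [LaurentPolynomial.coeff_toLaurent]
    exact Finsupp.mapDomain_apply Nat.cast_injective _ _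
  have hneg : ∀ (R : Polynomial k) (n : ℤ), n < 0 → (Polynomial.toLaurent R).coeff n = 0 := by
    intro R n hn
    rw [LaurentPolynomial.coeff_toLaurent]
    apply Finsupp.mapDomain_of_notMem_range
    rintro ⟨m, hm⟩
    change (m : ℤ) = n at hm
    omega
  have hc : ∀ n : ℤ, (Polynomial.toLaurent P).coeff (-1 + n) = (Polynomial.toLaurent Q).coeff (-n) := by
    intro n
    have := congrArg (fun F : LaurentPolynomial k => F.coeff n) h
    simp only [LaurentPolynomial.invert_apply] at this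
    rw [← this, LaurentPolynomial.T, AddMonoidAlgebra.coeff_single_mul_apply, one_mul]
  constructor
  · ext n
    have := hc ((n : ℤ) + 1)
    rw [show (-1 + ((n : ℤ) + 1)) = (n : ℤ) by ring, hco, hneg Q _ (by omega)] at this
    simpa using this
  · ext n
    have := hc (-(n : ℤ))
    rw [neg_neg, hco, hneg P _ (by omega)] at this
    simpa using this.symm

theorem main435 (k : Type u) [Field k]
    (rU : SpinCurv.PolyNodeRing k 0 →ₐ[k] SpinCurv.PolyNodeRing k 0)
    (hrUx : rU (SpinCurv.PolyNodeRing.x k 0) = 0)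
    (hrUy : rU (SpinCurv.PolyNodeRing.y k 0) = SpinCurv.PolyNodeRing.y k 0)
    (rV : SpinCurv.PolyNodeRing k 0 →ₐ[k] SpinCurv.PolyNodeRing k 0)
    (hrVx : rV (SpinCurv.PolyNodeRing.x k 0) = SpinCurv.PolyNodeRing.y k 0)
    (hrVy : rV (SpinCurv.PolyNodeRing.y k 0) = 0)
    (gU : SpinCurv.PolyNodeRing k 0 →ₐ[k] LaurentPolynomial k)
    (hgUs : gU (SpinCurv.PolyNodeRing.x k 0) = LaurentPolynomial.T 1)
    (hgUy : gU (SpinCurv.PolyNodeRing.y k 0) = 0)
    (gV : SpinCurv.PolyNodeRing k 0 →ₐ[k] LaurentPolynomial k)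
    (hgVt : gV (SpinCurv.PolyNodeRing.x k 0) = LaurentPolynomial.T (-1))
    (hgVx : gV (SpinCurv.PolyNodeRing.y k 0) = 0)
    (g f : SpinCurv.PolyNodeRing k 0) (hsec : gU g = LaurentPolynomial.T 1 * gV f)
    (hx : rU (SpinCurv.PolyNodeRing.x k 0) * g = 0 ∧ rV (SpinCurv.PolyNodeRing.x k 0) * f = 0)
    (hy : rU (SpinCurv.PolyNodeRing.y k 0) * g = 0 ∧ rV (SpinCurv.PolyNodeRing.y k 0) * f = 0) :
    g = 0 ∧ f = 0 := by
  have hyg := hy.1
  rw [hrUy] at hyg
  have hyf := hx.2
  rw [hrVx] at hyf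
  obtain ⟨H, rfl⟩ := exists_of_y_mul g hyg
  obtain ⟨H', rfl⟩ := exists_of_y_mul f hyf
  have hU : ∀ P : MvPolynomial (Fin 2) k, gU (Ideal.Quotient.mk (I₀ k) P) = Polynomial.toLaurent (α₀ P) := by
    intro P
    have : gU.comp (Ideal.Quotient.mkₐ k (I₀ k)) = (Polynomial.toLaurentAlg).comp α₀ := by
      apply MvPolynomial.algHom_ext
      intro i
      fin_cases i
      · simp only [Fin.zero_eta, AlgHom.comp_apply, Ideal.Quotient.mkₐ_eq_mk]
        rw [hgUs]; simp [α₀]
      · simp only [Fin.mk_one, AlgHom.comp_apply, Ideal.Quotient.mkₐ_eq_mk]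
        rw [hgUy]; simp [α₀]
    have := congrArg (fun φ => φ P) this
    simpa using this
  have hV : ∀ P : MvPolynomial (Fin 2) k, gV (Ideal.Quotient.mk (I₀ k) P) =
      LaurentPolynomial.invert (Polynomial.toLaurent (α₀ P)) := by
    intro P
    have : gV.comp (Ideal.Quotient.mkₐ k (I₀ k)) =
        ((LaurentPolynomial.invert (R := k)).toAlgHom.comp Polynomial.toLaurentAlg).comp α₀ := by
      apply MvPolynomial.algHom_ext
      intro i
      fin_cases i
      · simp only [Fin.zero_eta, AlgHom.comp_apply, Ideal.Quotient.mkₐ_eq_mk]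
        rw [hgVt]; simp [α₀]
      · simp only [Fin.mk_one, AlgHom.comp_apply, Ideal.Quotient.mkₐ_eq_mk]
        rw [hgVx]; simp [α₀]
    have := congrArg (fun φ => φ P) this
    simpa using this
  rw [hU, hV] at hsec
  have e0 : α₀ (X 0 : MvPolynomial (Fin 2) k) = Polynomial.X := by simp [α₀]
  simp only [map_mul, e0, Polynomial.toLaurent_X, LaurentPolynomial.invert_T] at hsec
  rw [← mul_assoc (LaurentPolynomial.T 1) (LaurentPolynomial.T (-1)), ← LaurentPolynomial.T_add] at hsec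
  simp only [add_neg_cancel, LaurentPolynomial.T_zero, one_mul] at hsec
  obtain ⟨h1, h2⟩ := laurent_key _ _ hsec
  exact ⟨mk_X0_mul_eq_zero H h1, mk_X0_mul_eq_zero H' h2⟩

end Groth.Agent.Helper27.PNode
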