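import Mathlib

/-!
# Lifting invertible submodules along a split projection (helper27; for S17999)

Setting: `π : R → R₁` surjective, `R ⊆ Q`, `R₁ ⊆ Q₁`, `pr : Q → Q₁` a ring map compatible with `π`
and `ext : Q₁ → Q` an additive "extension by zero" section (`Q = Q₁ × Q₂`).
-/

set_option autoImplicit false

universe u v

namespace Groth.Agent.Helper27.Pc

open TensorProduct CommRing

section gen

variable {S : Type u} [CommRing S] (I : Ideal S)

theorem one_tmul_surjective (P : Type*) [AddCommGroup P] [Module S P]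
    (z : (S ⧸ I) ⊗[S] P) : ∃ x : P, z = (1 : S ⧸ I) ⊗ₜ[S] x := by
  induction z using TensorProduct.induction_on with
  | zero => exact ⟨0, by simp⟩
  | tmul s p =>
    obtain ⟨r, rfl⟩ := Ideal.Quotient.mk_surjective s
    refine ⟨r • p, ?_⟩
    rw [← TensorProduct.smul_tmul]
    congr 1
    rw [Algebra.smul_def, mul_one]; rfl
  | add a b ha hb =>
    obtain ⟨x, rfl⟩ := ha
    obtain ⟨y, rfl⟩ := hb
    exact ⟨x + y, by rw [TensorProduct.tmul_add]⟩

theorem one_tmul_eq_zero_iff (P : Type*) [AddCommGroup P] [Module S P] (x : P) :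
    (1 : S ⧸ I) ⊗ₜ[S] x = 0 ↔ x ∈ I • (⊤ : Submodule S P) := by
  rw [← (TensorProduct.quotTensorEquivQuotSMul P I).map_eq_zero_iff,
    TensorProduct.quotTensorEquivQuotSMul_mk_one_tmul, Submodule.Quotient.mk_eq_zero]

/-- An invertible module is generated by one element modulo an ideal with trivial Picard group of
the quotient. -/
theorem exists_gen_mod (P : Type v) [AddCommGroup P] [Module S P] [Module.Invertible S P]
    [Subsingleton (Pic (S ⧸ I))] :
    ∃ y : P, ∀ n : P, ∃ r : S, n - r • y ∈ I • (⊤ : Submodule S P) := by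
  haveI : Module.Free (S ⧸ I) ((S ⧸ I) ⊗[S] P) := inferInstance
  obtain ⟨e⟩ := (Module.Invertible.free_iff_linearEquiv (R := S ⧸ I)
    (M := (S ⧸ I) ⊗[S] P)).mp inferInstance
  obtain ⟨y, hy⟩ := one_tmul_surjective I P (e.symm 1)
  refine ⟨y, fun n => ?_⟩
  obtain ⟨r, hr⟩ := Ideal.Quotient.mk_surjective (e ((1 : S ⧸ I) ⊗ₜ[S] n))
  refine ⟨r, ?_⟩
  rw [← one_tmul_eq_zero_iff, TensorProduct.tmul_sub, sub_eq_zero]
  have h1 : (1 : S ⧸ I) ⊗ₜ[S] n = e.symm (e ((1 : S ⧸ I) ⊗ₜ[S] n)) := (e.symm_apply_apply _).symm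
  rw [h1, ← hr]
  have h2 : (Ideal.Quotient.mk I r : S ⧸ I) = (Ideal.Quotient.mk I r) • (1 : S ⧸ I) := by
    rw [smul_eq_mul, mul_one]
  rw [h2, map_smul, hy, TensorProduct.smul_tmul', smul_eq_mul, mul_one]
  have h3 : (Ideal.Quotient.mk I r : S ⧸ I) = r • (1 : S ⧸ I) := by
    rw [Algebra.smul_def, mul_one]; rfl
  rw [h3, TensorProduct.smul_tmul]

end gen

end Groth.Agent.Helper27.Pc
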