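import Mathlib
import Groth.Agent.Lib.Helper27.PcA

/-!
# Lifting invertible submodules along a split projection, part B (helper27; for S17999)
-/

set_option autoImplicit false

universe u v

namespace Groth.Agent.Helper27.Pc

open TensorProduct CommRing

section split

variable {R R₁ : Type u} {Q Q₁ : Type v} [CommRing R] [CommRing R₁] [CommRing Q] [CommRing Q₁]
  [Algebra R Q] [Algebra R₁ Q₁]

/-- The hypotheses on `π : R → R₁`, `pr : Q → Q₁`, `ext : Q₁ → Q`. -/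
structure IsSplit (π : R →+* R₁) (pr : Q →+* Q₁) (ext : Q₁ →+ Q) : Prop where
  surj : Function.Surjective π
  hpr : ∀ r, pr (algebraMap R Q r) = algebraMap R₁ Q₁ (π r)
  hpe : ∀ x, pr (ext x) = x
  hext : ∀ x q, ext x * q = ext (x * pr q)

variable {π : R →+* R₁} {pr : Q →+* Q₁} {ext : Q₁ →+ Q} (h : IsSplit π pr ext)

include h in
theorem ext_mul_ext (x x' : Q₁) : ext x * ext x' = ext (x * x') := by
  rw [h.hext, h.hpe]

include h in
theorem one_add_ext_mul_ext (u z : Q₁) : (1 + ext u) * ext z = ext (z + u * z) := by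
  rw [add_mul, one_mul, ext_mul_ext h, map_add]

include h in
theorem one_add_ext_mul (u v : Q₁) :
    (1 + ext u) * (1 + ext v) = 1 + ext (u + v + u * v) := by
  rw [add_mul, one_mul, mul_add, mul_one, ext_mul_ext h, map_add, map_add]
  ring

include h in
theorem smul_ext (r : R) (z : Q₁) : r • ext z = ext (π r • z) := by
  rw [Algebra.smul_def, mul_comm, h.hext, h.hpr, Algebra.smul_def, mul_comm]

/-- The conductor ideal in `R`: elements of `R` lying in the image of `ext`. -/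
def condR : Ideal R where
  carrier := {r | ∃ x, algebraMap R Q r = ext x}
  add_mem' := by
    rintro a b ⟨x, hx⟩ ⟨x', hx'⟩
    exact ⟨x + x', by rw [map_add, map_add, hx, hx']⟩
  zero_mem' := ⟨0, by simp⟩
  smul_mem' := by
    rintro c r ⟨x, hx⟩
    refine ⟨x * pr (algebraMap R Q c), ?_⟩
    rw [smul_eq_mul, map_mul, hx, mul_comm, h.hext]

/-- The conductor ideal in `R₁`. -/
def cond : Ideal R₁ := (condR h).map π

theorem exists_of_mem_cond {c₀ : R₁} (hc : c₀ ∈ cond h) :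
    ∃ β : R, algebraMap R Q β = ext (algebraMap R₁ Q₁ c₀) := by
  obtain ⟨β, ⟨x, hx⟩, rfl⟩ := (Ideal.mem_map_iff_of_surjective π h.surj).mp hc
  refine ⟨β, ?_⟩
  have : x = algebraMap R₁ Q₁ (π β) := by
    rw [← h.hpr, hx, h.hpe]
  rw [hx, this]

theorem ext_mem_one {c₀ : R₁} (hc : c₀ ∈ cond h) :
    ext (algebraMap R₁ Q₁ c₀) ∈ (1 : Submodule R Q) := by
  obtain ⟨β, hβ⟩ := exists_of_mem_cond h hc
  exact Submodule.mem_one.mpr ⟨β, hβ⟩

/-- The image of an `R₁`-submodule of `Q₁` under `ext`, as an `R`-submodule of `Q`. -/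
def extSub (T : Submodule R₁ Q₁) : Submodule R Q where
  carrier := ext '' T
  add_mem' := by
    rintro _ _ ⟨z, hz, rfl⟩ ⟨z', hz', rfl⟩
    exact ⟨z + z', T.add_mem hz hz', map_add _ _ _⟩
  zero_mem' := ⟨0, T.zero_mem, map_zero _⟩
  smul_mem' := by
    rintro r _ ⟨z, hz, rfl⟩
    exact ⟨π r • z, T.smul_mem _ hz, (smul_ext h r z).symm⟩

theorem mem_extSub {T : Submodule R₁ Q₁} {q : Q} : q ∈ extSub h T ↔ ∃ z ∈ T, ext z = q :=
  Iff.rfl

theorem mul_mem_one {x y : Q} (hx : x ∈ (1 : Submodule R Q)) (hy : y ∈ (1 : Submodule R Q)) :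
    x * y ∈ (1 : Submodule R Q) := by
  obtain ⟨a, rfl⟩ := Submodule.mem_one.mp hx
  obtain ⟨b, rfl⟩ := Submodule.mem_one.mp hy
  exact Submodule.mem_one.mpr ⟨a * b, map_mul _ _ _⟩

/-- L1 -/
theorem smul_mul_mem (c : Ideal R₁) (T T' : Submodule R₁ Q₁) (hTT : T * T' ≤ 1)
    {z : Q₁} (hz : z ∈ c • T) {n' : Q₁} (hn' : n' ∈ T') :
    ∃ c₀ ∈ c, z * n' = algebraMap R₁ Q₁ c₀ := by
  refine Submodule.smul_induction_on (p := fun z => ∃ c₀ ∈ c, z * n' = algebraMap R₁ Q₁ c₀) hz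
    ?_ ?_
  · intro a ha n hn
    obtain ⟨r, hr⟩ := Submodule.mem_one.mp (hTT (Submodule.mul_mem_mul hn hn'))
    refine ⟨a * r, c.mul_mem_right _ ha, ?_⟩
    rw [smul_mul_assoc, ← hr, Algebra.smul_def, map_mul]
  · rintro x y ⟨c₁, hc₁, h₁⟩ ⟨c₂, hc₂, h₂⟩
    exact ⟨c₁ + c₂, c.add_mem hc₁ hc₂, by rw [add_mul, h₁, h₂, map_add]⟩

end split

end Groth.Agent.Helper27.Pc
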