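import Mathlib
import Groth.Agent.Lib.Helper27.PcB

/-!
# Lifting invertible submodules along a split projection, part C (helper27; for S17999)
-/

set_option autoImplicit false

universe u v

namespace Groth.Agent.Helper27.Pc

open TensorProduct CommRing

section split

variable {R R₁ : Type u} {Q Q₁ : Type v} [CommRing R] [CommRing R₁] [CommRing Q] [CommRing Q₁]
  [Algebra R Q] [Algebra R₁ Q₁] [FaithfulSMul R Q] [FaithfulSMul R₁ Q₁]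
variable {π : R →+* R₁} {pr : Q →+* Q₁} {ext : Q₁ →+ Q} (h : IsSplit π pr ext)

/-- The data extracted from an invertible submodule `N₁`: a generator `y` modulo the conductor,
and `y'` in the inverse with `y y' ≡ 1`. -/
theorem exists_gens (N₁ : (Submodule R₁ Q₁)ˣ) [Subsingleton (Pic (R₁ ⧸ cond h))] :
    ∃ y ∈ (N₁ : Submodule R₁ Q₁), ∃ y' ∈ ((N₁⁻¹ : (Submodule R₁ Q₁)ˣ) : Submodule R₁ Q₁),
      ∃ c₀ ∈ cond h, (1 : Q₁) = y * y' + algebraMap R₁ Q₁ c₀ ∧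
        ∀ n ∈ (N₁ : Submodule R₁ Q₁), ∃ r : R₁,
          n - r • y ∈ cond h • (N₁ : Submodule R₁ Q₁) := by
  set c := cond h with hc
  set N₁s : Submodule R₁ Q₁ := (N₁ : Submodule R₁ Q₁) with hN₁s
  set N₁i : Submodule R₁ Q₁ := ((N₁⁻¹ : (Submodule R₁ Q₁)ˣ) : Submodule R₁ Q₁) with hN₁i
  have hmul : N₁s * N₁i = 1 := by
    rw [hN₁s, hN₁i, ← Units.val_mul, mul_inv_cancel, Units.val_one]
  obtain ⟨y₀, hy₀⟩ := exists_gen_mod c (↥N₁s)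
  have hmap : (c • (⊤ : Submodule R₁ ↥N₁s)).map N₁s.subtype = c • N₁s := by
    rw [Submodule.map_smul'', Submodule.map_subtype_top]
  have hgen : ∀ n ∈ N₁s, ∃ r : R₁, n - r • (y₀ : Q₁) ∈ c • N₁s := by
    intro n hn
    obtain ⟨r, hr⟩ := hy₀ ⟨n, hn⟩
    refine ⟨r, ?_⟩
    rw [← hmap]
    exact ⟨_, hr, rfl⟩
  have hP : ∀ x ∈ N₁s * N₁i, ∃ y' ∈ N₁i, ∃ c₀ ∈ c,
      x = (y₀ : Q₁) * y' + algebraMap R₁ Q₁ c₀ := by
    intro x hx
    refine Submodule.mul_induction_on hx ?_ ?_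
    · intro m hm n' hn'
      obtain ⟨r, hr⟩ := hgen m hm
      obtain ⟨c₀, hc₀, hc₀'⟩ := smul_mul_mem c N₁s N₁i hmul.le hr hn'
      refine ⟨r • n', N₁i.smul_mem _ hn', c₀, hc₀, ?_⟩
      rw [← hc₀', sub_mul, mul_smul_comm, smul_mul_assoc]
      ring
    · rintro x₁ x₂ ⟨y₁, hy₁, c₁, hc₁, rfl⟩ ⟨y₂, hy₂, c₂, hc₂, rfl⟩
      refine ⟨y₁ + y₂, N₁i.add_mem hy₁ hy₂, c₁ + c₂, c.add_mem hc₁ hc₂, ?_⟩
      rw [map_add]
      ring
  have h1 : (1 : Q₁) ∈ N₁s * N₁i := by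
    rw [hmul]
    exact Submodule.mem_one.mpr ⟨1, map_one _⟩
  obtain ⟨y', hy', c₀, hc₀, h1'⟩ := hP 1 h1
  exact ⟨y₀, y₀.2, y', hy', c₀, hc₀, h1', hgen⟩

end split

end Groth.Agent.Helper27.Pc
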