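import Mathlib
import Groth.Agent.Lib.Helper27.PcC

/-!
# Lifting invertible submodules along a split projection, part D (helper27; for S17999)
-/

set_option autoImplicit false

universe u v

namespace Groth.Agent.Helper27.Pc

open TensorProduct CommRing

section split

variable {R R₁ : Type u} {Q Q₁ : Type v} [CommRing R] [CommRing R₁] [CommRing Q] [CommRing Q₁]
  [Algebra R Q] [Algebra R₁ Q₁] [FaithfulSMul R Q] [FaithfulSMul R₁ Q₁]
variable {π : R →+* R₁} {pr : Q →+* Q₁} {ext : Q₁ →+ Q} (h : IsSplit π pr ext)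

/-- The lifted submodule. -/
def liftSub (T : Submodule R₁ Q₁) (y : Q₁) : Submodule R Q :=
  Submodule.span R {1 + ext (y - 1)} ⊔ extSub h (cond h • T)

theorem gen_mem_liftSub (T : Submodule R₁ Q₁) (y : Q₁) : 1 + ext (y - 1) ∈ liftSub h T y :=
  Submodule.mem_sup_left (Submodule.subset_span rfl)

theorem ext_mem_liftSub (T : Submodule R₁ Q₁) (y : Q₁) {z : Q₁} (hz : z ∈ cond h • T) :
    ext z ∈ liftSub h T y :=
  Submodule.mem_sup_right ⟨z, hz, rfl⟩

theorem mem_liftSub {T : Submodule R₁ Q₁} {y : Q₁} {q : Q} (hq : q ∈ liftSub h T y) :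
    ∃ (a : R) (z : Q₁), z ∈ cond h • T ∧ q = a • (1 + ext (y - 1)) + ext z := by
  obtain ⟨m₁, hm₁, m₂, hm₂, rfl⟩ := Submodule.mem_sup.mp hq
  obtain ⟨a, rfl⟩ := Submodule.mem_span_singleton.mp hm₁
  obtain ⟨z, hz, rfl⟩ := hm₂
  exact ⟨a, z, hz, rfl⟩

theorem liftSub_mul_le (T T' : Submodule R₁ Q₁) (hTT : T * T' = 1) (y y' : Q₁) (hy : y ∈ T)
    (hy' : y' ∈ T') (c₀ : R₁) (hc₀ : c₀ ∈ cond h) (h1 : (1 : Q₁) = y * y' + algebraMap R₁ Q₁ c₀) :
    liftSub h T y * liftSub h T' y' ≤ 1 := by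
  have hT'T : T' * T ≤ 1 := by rw [mul_comm, hTT]
  rw [Submodule.mul_le]
  intro m hm n hn
  obtain ⟨a, z, hz, rfl⟩ := mem_liftSub h hm
  obtain ⟨a', z', hz', rfl⟩ := mem_liftSub h hn
  -- the four products
  have e1 : (1 + ext (y - 1)) * (1 + ext (y' - 1)) ∈ (1 : Submodule R Q) := by
    rw [one_add_ext_mul h]
    have : y - 1 + (y' - 1) + (y - 1) * (y' - 1) = algebraMap R₁ Q₁ (-c₀) := by
      rw [map_neg]
      linear_combination -h1
    rw [this]
    refine Submodule.add_mem _ (Submodule.mem_one.mpr ⟨1, map_one _⟩) ?_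
    exact ext_mem_one h ((cond h).neg_mem hc₀)
  have e2 : (1 + ext (y - 1)) * ext z' ∈ (1 : Submodule R Q) := by
    rw [one_add_ext_mul_ext h]
    obtain ⟨c₁, hc₁, hc₁'⟩ := smul_mul_mem (cond h) T' T hT'T hz' hy
    have : z' + (y - 1) * z' = algebraMap R₁ Q₁ c₁ := by
      rw [← hc₁']
      ring
    rw [this]
    exact ext_mem_one h hc₁
  have e3 : (1 + ext (y' - 1)) * ext z ∈ (1 : Submodule R Q) := by
    rw [one_add_ext_mul_ext h]
    obtain ⟨c₁, hc₁, hc₁'⟩ := smul_mul_mem (cond h) T T' hTT.le hz hy'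
    have : z + (y' - 1) * z = algebraMap R₁ Q₁ c₁ := by
      rw [← hc₁']
      ring
    rw [this]
    exact ext_mem_one h hc₁
  have e4 : ext z * ext z' ∈ (1 : Submodule R Q) := by
    rw [ext_mul_ext h]
    obtain ⟨c₁, hc₁, hc₁'⟩ := smul_mul_mem (cond h) T T' hTT.le hz
      (Submodule.smul_le_right hz')
    rw [hc₁']
    exact ext_mem_one h hc₁
  have ha : algebraMap R Q a ∈ (1 : Submodule R Q) := Submodule.mem_one.mpr ⟨a, rfl⟩
  have ha' : algebraMap R Q a' ∈ (1 : Submodule R Q) := Submodule.mem_one.mpr ⟨a', rfl⟩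
  have hexp : (a • (1 + ext (y - 1)) + ext z) * (a' • (1 + ext (y' - 1)) + ext z') =
      algebraMap R Q a * algebraMap R Q a' * ((1 + ext (y - 1)) * (1 + ext (y' - 1))) +
      algebraMap R Q a * ((1 + ext (y - 1)) * ext z') +
      algebraMap R Q a' * ((1 + ext (y' - 1)) * ext z) + ext z * ext z' := by
    rw [Algebra.smul_def, Algebra.smul_def]
    ring
  rw [hexp]
  exact Submodule.add_mem _ (Submodule.add_mem _ (Submodule.add_mem _
    (mul_mem_one (mul_mem_one ha ha') e1) (mul_mem_one ha e2)) (mul_mem_one ha' e3)) e4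

theorem le_liftSub_mul (T T' : Submodule R₁ Q₁) (hTT : T * T' = 1) (y y' : Q₁)
    (hy' : y' ∈ T') (c₀ : R₁) (hc₀ : c₀ ∈ cond h) (h1 : (1 : Q₁) = y * y' + algebraMap R₁ Q₁ c₀) :
    1 ≤ liftSub h T y * liftSub h T' y' := by
  rw [Submodule.one_le]
  have hYY : (1 + ext (y - 1)) * (1 + ext (y' - 1)) ∈ liftSub h T y * liftSub h T' y' :=
    Submodule.mul_mem_mul (gen_mem_liftSub h T y) (gen_mem_liftSub h T' y')
  -- L2
  have hL2 : ∀ x ∈ T * T', ext ((c₀ * c₀) • x) ∈ liftSub h T y * liftSub h T' y' := by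
    intro x hx
    refine Submodule.mul_induction_on hx ?_ ?_
    · intro n hn n' hn'
      have : (c₀ * c₀) • (n * n') = (c₀ • n) * (c₀ • n') := by
        rw [smul_mul_smul_comm]
      rw [this, ← ext_mul_ext h]
      exact Submodule.mul_mem_mul
        (ext_mem_liftSub h T y (Submodule.smul_mem_smul hc₀ hn))
        (ext_mem_liftSub h T' y' (Submodule.smul_mem_smul hc₀ hn'))
    · intro x₁ x₂ h₁ h₂
      rw [smul_add, map_add]
      exact Submodule.add_mem _ h₁ h₂
  have h1T : (1 : Q₁) ∈ T * T' := by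
    rw [hTT]; exact Submodule.mem_one.mpr ⟨1, map_one _⟩
  have hA : ext (algebraMap R₁ Q₁ (c₀ * c₀)) ∈ liftSub h T y * liftSub h T' y' := by
    have := hL2 1 h1T
    rwa [Algebra.smul_def, mul_one] at this
  have hB : ext (y * (c₀ • y')) ∈ liftSub h T y * liftSub h T' y' := by
    have h2 : (1 + ext (y - 1)) * ext (c₀ • y') = ext (y * (c₀ • y')) := by
      rw [one_add_ext_mul_ext h]
      congr 1
      ring
    rw [← h2]
    exact Submodule.mul_mem_mul (gen_mem_liftSub h T y)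
      (ext_mem_liftSub h T' y' (Submodule.smul_mem_smul hc₀ hy'))
  have hC : ext (algebraMap R₁ Q₁ c₀) ∈ liftSub h T y * liftSub h T' y' := by
    have h3 : algebraMap R₁ Q₁ c₀ = y * (c₀ • y') + algebraMap R₁ Q₁ (c₀ * c₀) := by
      rw [map_mul, Algebra.smul_def]
      linear_combination (algebraMap R₁ Q₁ c₀) * h1
    rw [h3, map_add]
    exact Submodule.add_mem _ hB hA
  have h4 : (1 : Q) = (1 + ext (y - 1)) * (1 + ext (y' - 1)) + ext (algebraMap R₁ Q₁ c₀) := by
    rw [one_add_ext_mul h, add_assoc, ← map_add]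
    have : y - 1 + (y' - 1) + (y - 1) * (y' - 1) + algebraMap R₁ Q₁ c₀ = 0 := by
      linear_combination -h1
    rw [this, map_zero, add_zero]
  rw [h4]
  exact Submodule.add_mem _ hYY hC

end split

end Groth.Agent.Helper27.Pc
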