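import Mathlib
import Groth.Agent.Lib.Helper27.PcD

/-!
# Lifting invertible submodules along a split projection, part E (helper27; for S17999)
-/

set_option autoImplicit false

universe u v

namespace Groth.Agent.Helper27.Pc

open TensorProduct CommRing

section split

variable {R R₁ : Type u} {Q Q₁ : Type v} [CommRing R] [CommRing R₁] [CommRing Q] [CommRing Q₁]
  [Algebra R Q] [Algebra R₁ Q₁] [FaithfulSMul R Q] [FaithfulSMul R₁ Q₁]
variable {π : R →+* R₁} {pr : Q →+* Q₁} {ext : Q₁ →+ Q} (h : IsSplit π pr ext)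

include h in
theorem pr_smul (r : R) (q : Q) : pr (r • q) = π r • pr q := by
  rw [Algebra.smul_def, map_mul, h.hpr, Algebra.smul_def]

theorem pr_mem_of_mem_liftSub {T : Submodule R₁ Q₁} {y : Q₁} (hy : y ∈ T) {q : Q}
    (hq : q ∈ liftSub h T y) : pr q ∈ T := by
  obtain ⟨a, z, hz, rfl⟩ := mem_liftSub h hq
  rw [map_add, pr_smul h, map_add, map_one, h.hpe, h.hpe]
  have : (1 : Q₁) + (y - 1) = y := by ring
  rw [this]
  exact T.add_mem (T.smul_mem _ hy) (Submodule.smul_le_right hz)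

theorem exists_mem_liftSub_pr_eq {T : Submodule R₁ Q₁} {y : Q₁}
    (hgen : ∀ n ∈ T, ∃ r : R₁, n - r • y ∈ cond h • T) {n : Q₁} (hn : n ∈ T) :
    ∃ q ∈ liftSub h T y, pr q = n := by
  obtain ⟨r, hr⟩ := hgen n hn
  obtain ⟨a, rfl⟩ := h.surj r
  refine ⟨a • (1 + ext (y - 1)) + ext (n - π a • y), ?_, ?_⟩
  · exact Submodule.add_mem _ (Submodule.smul_mem _ _ (gen_mem_liftSub h T y))
      (ext_mem_liftSub h T y hr)
  · rw [map_add, pr_smul h, map_add, map_one, h.hpe, h.hpe]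
    have : (1 : Q₁) + (y - 1) = y := by ring
    rw [this]
    ring

include h in
theorem map_unitsToPic (N : (Submodule R Q)ˣ) (N₁ : (Submodule R₁ Q₁)ˣ)
    (hmem : ∀ q ∈ (N : Submodule R Q), pr q ∈ (N₁ : Submodule R₁ Q₁))
    (hsurj : ∀ n ∈ (N₁ : Submodule R₁ Q₁), ∃ q ∈ (N : Submodule R Q), pr q = n) :
    Pic.mapRingHom π (Submodule.unitsToPic R Q N) = Submodule.unitsToPic R₁ Q₁ N₁ := by
  letI : Algebra R R₁ := π.toAlgebra
  show Pic.mapAlgebra R R₁ _ = _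
  rw [Submodule.unitsToPic_apply, Submodule.unitsToPic_apply, Pic.mapAlgebra_apply,
    Pic.mk_eq_mk_iff]
  letI : Module R ↥(N₁ : Submodule R₁ Q₁) := Module.compHom _ π
  haveI : IsScalarTower R R₁ ↥(N₁ : Submodule R₁ Q₁) := ⟨fun r s x => by
    show (π r * s) • x = π r • (s • x)
    rw [mul_smul]⟩
  let g : ↥(N : Submodule R Q) →ₗ[R] ↥(N₁ : Submodule R₁ Q₁) :=
    { toFun := fun q => ⟨pr q.1, hmem q.1 q.2⟩
      map_add' := fun a b => Subtype.ext (by simp)
      map_smul' := fun r q => Subtype.ext (by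
        show pr (r • q.1) = π r • pr q.1
        exact pr_smul h r q.1) }
  let G : R₁ ⊗[R] ↥(N : Submodule R Q) →ₗ[R₁] ↥(N₁ : Submodule R₁ Q₁) :=
    LinearMap.liftBaseChange R₁ g
  have hG : Function.Surjective G := by
    intro n
    obtain ⟨q, hq, hqn⟩ := hsurj n.1 n.2
    refine ⟨(1 : R₁) ⊗ₜ[R] ⟨q, hq⟩, ?_⟩
    show LinearMap.liftBaseChange R₁ g ((1 : R₁) ⊗ₜ[R] ⟨q, hq⟩) = n
    rw [LinearMap.liftBaseChange_tmul, one_smul]
    exact Subtype.ext hqn
  have hGb : Function.Bijective G := Module.Invertible.bijective_of_surjective hG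
  exact ⟨(TensorProduct.AlgebraTensorModule.congr (LinearEquiv.refl R₁ R₁)
    (Pic.mk.linearEquiv R ↥(N : Submodule R Q))) ≪≫ₗ LinearEquiv.ofBijective G hGb⟩

theorem pic_surjective [Subsingleton (Pic Q₁)] [Subsingleton (Pic (R₁ ⧸ cond h))] :
    Function.Surjective (Pic.mapRingHom π) := by
  intro x
  have hx : x ∈ (Submodule.unitsToPic R₁ Q₁).range := by
    rw [Submodule.range_unitsToPic, relPic_eq_top]
    trivial
  obtain ⟨N₁, rfl⟩ := hx
  obtain ⟨y, hy, y', hy', c₀, hc₀, h1, hgen⟩ := exists_gens h N₁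
  have hTT : (N₁ : Submodule R₁ Q₁) * ((N₁⁻¹ : (Submodule R₁ Q₁)ˣ) : Submodule R₁ Q₁) = 1 := by
    rw [← Units.val_mul, mul_inv_cancel, Units.val_one]
  let N : (Submodule R Q)ˣ := Units.mkOfMulEqOne
    (liftSub h (N₁ : Submodule R₁ Q₁) y)
    (liftSub h ((N₁⁻¹ : (Submodule R₁ Q₁)ˣ) : Submodule R₁ Q₁) y')
    (le_antisymm (liftSub_mul_le h _ _ hTT y y' hy hy' c₀ hc₀ h1)
      (le_liftSub_mul h _ _ hTT y y' hy' c₀ hc₀ h1))
  refine ⟨Submodule.unitsToPic R Q N, map_unitsToPic h N N₁ ?_ ?_⟩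
  · intro q hq
    exact pr_mem_of_mem_liftSub h hy hq
  · intro n hn
    exact exists_mem_liftSub_pr_eq h hgen hn

end split

end Groth.Agent.Helper27.Pc
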