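import Mathlib
import Groth.Agent.Lib.Helper27.PcE

/-!
# Surjectivity on Pic for quotients by kernels into split products (helper27; for S17999)
-/

set_option autoImplicit false

universe u v

namespace Groth.Agent.Helper27.Pc

open TensorProduct CommRing

theorem subsingleton_pic_of_finite (S : Type u) [CommRing S] [Finite S] :
    Subsingleton (Pic S) := by
  infer_instance

theorem subsingleton_pic_of_torsion (S : Type u) [CommRing S] [Module.Finite ℤ S]
    (n : ℤ) (hn : n ≠ 0) (h0 : (n : S) = 0) : Subsingleton (Pic S) := by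
  haveI : Finite S := by
    apply Module.finite_of_fg_torsion
    intro x
    refine ⟨⟨n, mem_nonZeroDivisors_of_ne_zero hn⟩, ?_⟩
    show n • x = 0
    rw [zsmul_eq_mul, h0, zero_mul]
  exact subsingleton_pic_of_finite S

theorem pic_surjective_of_ker {A₀ : Type u} {Q Q₁ : Type v} [CommRing A₀] [CommRing Q]
    [CommRing Q₁]
    (Φ : A₀ →+* Q) (pr : Q →+* Q₁) (ext : Q₁ →+ Q)
    (hpe : ∀ x, pr (ext x) = x) (hext : ∀ x q, ext x * q = ext (x * pr q))
    (I I₁ : Ideal A₀) (hI : I = RingHom.ker Φ) (hI₁ : I₁ = RingHom.ker (pr.comp Φ))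
    (hle : I ≤ I₁)
    [Subsingleton (Pic Q₁)] (hfin : Module.Finite ℤ (A₀ ⧸ I₁))
    (n : ℤ) (hn : n ≠ 0) (g : A₀) (hg : Φ g = ext (n : Q₁)) :
    Function.Surjective (Pic.mapRingHom (Ideal.Quotient.factor hle)) := by
  subst hI hI₁
  letI : Algebra (A₀ ⧸ RingHom.ker Φ) Q := (RingHom.kerLift Φ).toAlgebra
  letI : Algebra (A₀ ⧸ RingHom.ker (pr.comp Φ)) Q₁ := (RingHom.kerLift (pr.comp Φ)).toAlgebra
  haveI : FaithfulSMul (A₀ ⧸ RingHom.ker Φ) Q :=
    (faithfulSMul_iff_algebraMap_injective _ _).mpr (RingHom.kerLift_injective Φ)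
  haveI : FaithfulSMul (A₀ ⧸ RingHom.ker (pr.comp Φ)) Q₁ :=
    (faithfulSMul_iff_algebraMap_injective _ _).mpr (RingHom.kerLift_injective (pr.comp Φ))
  have h : IsSplit (Ideal.Quotient.factor hle) pr ext :=
    { surj := Ideal.Quotient.factor_surjective hle
      hpr := by
        intro r
        obtain ⟨a, rfl⟩ := Ideal.Quotient.mk_surjective r
        rfl
      hpe := hpe
      hext := hext }
  have hmem : ((n : ℤ) : A₀ ⧸ RingHom.ker (pr.comp Φ)) ∈ cond h := by
    have h1 : Ideal.Quotient.mk (RingHom.ker Φ) g ∈ condR h := ⟨(n : Q₁), hg⟩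
    have h2 : Ideal.Quotient.factor hle (Ideal.Quotient.mk _ g) = (n : _) := by
      rw [Ideal.Quotient.factor_mk,
        ← map_intCast (Ideal.Quotient.mk (RingHom.ker (pr.comp Φ))), Ideal.Quotient.eq,
        RingHom.mem_ker]
      simp [hg, hpe]
    rw [← h2]
    exact Ideal.mem_map_of_mem _ h1
  haveI : Subsingleton (Pic ((A₀ ⧸ RingHom.ker (pr.comp Φ)) ⧸ cond h)) := by
    haveI : Module.Finite ℤ ((A₀ ⧸ RingHom.ker (pr.comp Φ)) ⧸ cond h) :=
      Module.Finite.of_surjective
        ((Ideal.Quotient.mk (cond h)).toIntAlgHom.toLinearMap)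
        Ideal.Quotient.mk_surjective
    refine subsingleton_pic_of_torsion _ n hn ?_
    rw [← map_intCast (Ideal.Quotient.mk (cond h)), Ideal.Quotient.eq_zero_iff_mem]
    exact hmem
  exact pic_surjective h

end Groth.Agent.Helper27.Pc
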