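import Mathlib
import Groth.Agent.Lib.Helper27.PcF

/-!
# Projection and extension by zero for subproducts (helper27; for S17999)
-/

set_option autoImplicit false

universe u v

namespace Groth.Agent.Helper27.Pc

open CommRing

section prod

variable {J J' : Type} [Fintype J'] (emb : J' → J) (K : J → Type u) [∀ j, CommRing (K j)]

/-- Projection to a subproduct. -/
def prPi : ((j : J) → K j) →+* ((j' : J') → K (emb j')) :=
  RingHom.pi (fun j' => Pi.evalRingHom K (emb j'))

omit [Fintype J'] in
@[simp] theorem prPi_apply (x : (j : J) → K j) (j' : J') : prPi emb K x j' = x (emb j') := rfl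

open Classical in
/-- Extension by zero from a subproduct. -/
noncomputable def extPi : ((j' : J') → K (emb j')) →+ ((j : J) → K j) :=
  ∑ j' : J', (AddMonoidHom.single K (emb j')).comp (Pi.evalAddMonoidHom (fun j' => K (emb j')) j')

open Classical in
theorem extPi_apply (x : (j' : J') → K (emb j')) (j : J) :
    extPi emb K x j = ∑ j' : J', (Pi.single (emb j') (x j') : (j : J) → K j) j := by
  unfold extPi
  rw [AddMonoidHom.finsetSum_apply, Finset.sum_apply]
  rfl

variable {emb} in
theorem extPi_apply_emb (hemb : Function.Injective emb) (x : (j' : J') → K (emb j')) (j' : J') :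
    extPi emb K x (emb j') = x j' := by
  classical
  rw [extPi_apply, Finset.sum_eq_single j']
  · exact Pi.single_eq_same _ _
  · intro b _ hb
    exact Pi.single_eq_of_ne (fun h => hb (hemb h).symm) _
  · intro h
    exact absurd (Finset.mem_univ _) h

theorem extPi_apply_of_not (x : (j' : J') → K (emb j')) (j : J) (hj : ¬ ∃ j', emb j' = j) :
    extPi emb K x j = 0 := by
  classical
  rw [extPi_apply]
  apply Finset.sum_eq_zero
  intro b _
  exact Pi.single_eq_of_ne (fun h => hj ⟨b, h.symm⟩) _

variable {emb} in
theorem prPi_extPi (hemb : Function.Injective emb) (x : (j' : J') → K (emb j')) :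
    prPi emb K (extPi emb K x) = x := by
  funext j'
  rw [prPi_apply, extPi_apply_emb K hemb]

variable {emb} in
theorem extPi_mul (hemb : Function.Injective emb) (x : (j' : J') → K (emb j'))
    (q : (j : J) → K j) :
    extPi emb K x * q = extPi emb K (x * prPi emb K q) := by
  funext j
  by_cases hj : ∃ j', emb j' = j
  · obtain ⟨j', rfl⟩ := hj
    rw [Pi.mul_apply, extPi_apply_emb K hemb, extPi_apply_emb K hemb, Pi.mul_apply, prPi_apply]
  · rw [Pi.mul_apply, extPi_apply_of_not emb K _ j hj, extPi_apply_of_not emb K _ j hj, zero_mul]

end prod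

end Groth.Agent.Helper27.Pc
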