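import Mathlib
import Groth.Agent.Lib.Helper27.MoE
import Groth.Agent.Lib.Helper27.PcG

/-!
# Weil numbers: integrality of `q/π` and a Bezout integer (helper27; for S17999)
-/

set_option autoImplicit false

universe u v

namespace Groth.Agent.Helper27.Pc

open Polynomial

theorem exists_int_bezout (f g : ℤ[X]) (hf : f.Monic) (hg : g.Monic)
    (H : IsCoprime (f.map (algebraMap ℤ ℚ)) (g.map (algebraMap ℤ ℚ))) :
    ∃ (n : ℤ) (u v : ℤ[X]), n ≠ 0 ∧ f * u + g * v = C n := by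
  by_cases h0 : f.natDegree ≠ 0 ∨ g.natDegree ≠ 0
  · obtain ⟨u, v, -, -, huv⟩ := exists_mul_add_mul_eq_C_resultant f g le_rfl le_rfl h0
    refine ⟨_, u, v, ?_, huv⟩
    have h1 := resultant_ne_zero _ _ H
    rw [hf.natDegree_map, hg.natDegree_map, resultant_map_map] at h1
    intro h
    apply h1
    rw [h, map_zero]
  · push Not at h0
    refine ⟨1, 1, 0, one_ne_zero, ?_⟩
    rw [eq_one_of_monic_natDegree_zero hf h0.1]
    simp

section weil

variable {ι : Type} (K : ι → Type u) [∀ i, Field (K i)] [∀ i, CharZero (K i)]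
  (π : ∀ i, K i) (hint : ∀ i, IsIntegral ℤ (π i))

include hint in
theorem coprime_prods (hinj : ∀ i j, minpoly ℤ (π i) = minpoly ℤ (π j) → i = j)
    (S T : Finset ι) (hST : Disjoint S T) :
    IsCoprime ((∏ i ∈ S, minpoly ℤ (π i)).map (algebraMap ℤ ℚ))
      ((∏ i ∈ T, minpoly ℤ (π i)).map (algebraMap ℤ ℚ)) := by
  have h1 : ∀ i, minpoly ℚ (π i) = (minpoly ℤ (π i)).map (algebraMap ℤ ℚ) :=
    fun i => minpoly.isIntegrallyClosed_eq_field_fractions' ℚ (hint i)
  have hintQ : ∀ i, IsIntegral ℚ (π i) := fun i => (hint i).tower_top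
  rw [Polynomial.map_prod, Polynomial.map_prod]
  apply IsCoprime.prod_left
  intro i hi
  apply IsCoprime.prod_right
  intro j hj
  have hij : i ≠ j := fun h => (Finset.disjoint_left.mp hST hi) (h ▸ hj)
  rw [← h1, ← h1]
  have hirr_i := minpoly.irreducible (hintQ i)
  have hirr_j := minpoly.irreducible (hintQ j)
  rw [hirr_i.coprime_iff_not_dvd]
  intro hdvd
  apply hij
  apply hinj
  have heq : minpoly ℚ (π i) = minpoly ℚ (π j) :=
    Polynomial.eq_of_monic_of_associated (minpoly.monic (hintQ i)) (minpoly.monic (hintQ j))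
      (associated_of_dvd_dvd hdvd (hirr_i.dvd_symm hirr_j hdvd))
  rw [h1, h1] at heq
  exact Polynomial.map_injective _ (RingHom.injective_int (algebraMap ℤ ℚ)) heq

end weil

section weil2

open Groth.Agent.Helper22.WeilKer Groth.Agent.Helper27.Mo

variable (p e : ℕ) [Fact p.Prime] {ι : Type} [Fintype ι] (K : ι → Type u) [∀ i, Field (K i)]
  [∀ i, CharZero (K i)]
  (π : ∀ i, K i) (hint : ∀ i, IsIntegral ℤ (π i))
  (hweil : ∀ i, ∀ z ∈ (minpoly ℤ (π i)).aroots ℂ, ‖z‖ = Real.sqrt ((p : ℝ) ^ e))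

include hint hweil in
theorem weil_ne_zero (i : ι) : π i ≠ 0 := by
  have hppos : 0 < p := (Fact.out : p.Prime).pos
  have hsqrt_pos : 0 < Real.sqrt ((p : ℝ) ^ e) := Real.sqrt_pos.mpr (by positivity)
  have hr : |(((minpoly ℤ (π i)).coeff 0 : ℤ) : ℝ)| =
      Real.sqrt ((p : ℝ) ^ e) ^ (minpoly ℤ (π i)).natDegree :=
    abs_coeff_zero _ (minpoly.monic (hint i)) _ (hweil i)
  intro h0
  have h1 := minpoly.aeval ℤ (π i)
  have h3 := hr
  rw [h0] at h1 h3
  rw [← Polynomial.coeff_zero_eq_aeval_zero'] at h1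
  have h2 : (minpoly ℤ (0 : K i)).coeff 0 = 0 := by
    have h4 : (((minpoly ℤ (0 : K i)).coeff 0 : ℤ) : K i) = 0 := by simpa using h1
    exact_mod_cast h4
  rw [h2, Int.cast_zero, abs_zero] at h3
  exact absurd h3 (ne_of_lt (pow_pos hsqrt_pos _))

include hint hweil in
theorem weil_roots (hinj : ∀ i j, minpoly ℤ (π i) = minpoly ℤ (π j) → i = j) :
    (∀ i, Polynomial.aeval (π i) (∏ i, minpoly ℤ (π i)) = 0) ∧
    (∀ i, Polynomial.aeval (((p : K i) ^ e) / π i) (∏ i, minpoly ℤ (π i)) = 0) := by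
  classical
  have hppos : 0 < p := (Fact.out : p.Prime).pos
  obtain ⟨q, hqdef⟩ : ∃ q : ℤ, q = (p : ℤ) ^ e := ⟨_, rfl⟩
  have hqpos : 0 < q := by rw [hqdef]; positivity
  have hqR : (q : ℝ) = (p : ℝ) ^ e := by rw [hqdef]; push_cast; rfl
  obtain ⟨P, hPdef⟩ : ∃ P : Polynomial ℤ, P = ∏ i, minpoly ℤ (π i) := ⟨_, rfl⟩
  rw [← hPdef]
  have hPmon : P.Monic := by
    rw [hPdef]
    exact Polynomial.monic_prod_of_monic _ _ (fun i _ => minpoly.monic (hint i))
  have hqK : ∀ i, ((q : ℤ) : K i) = (p : K i) ^ e := by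
    intro i
    rw [hqdef]
    push_cast
    rfl
  have hweil' : ∀ z ∈ P.aroots ℂ, ‖z‖ = Real.sqrt (q : ℝ) := by
    intro z hz
    rw [Polynomial.mem_aroots] at hz
    have h1 := hz.2
    rw [hPdef, map_prod, Finset.prod_eq_zero_iff] at h1
    obtain ⟨i, -, hi⟩ := h1
    rw [hqR]
    exact hweil i z (Polynomial.mem_aroots.mpr ⟨(minpoly.monic (hint i)).ne_zero, hi⟩)
  have hsep : (P.map (algebraMap ℤ ℂ)).Separable := by
    rw [hPdef]
    exact prod_separable K π hint hinj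
  have hsym0 := coeff_sym P hPmon hsep q hqpos hweil'
  have hPa : ∀ i, Polynomial.aeval (π i) P = 0 := by
    intro i
    rw [hPdef, map_prod]
    exact Finset.prod_eq_zero (Finset.mem_univ i) (minpoly.aeval ℤ (π i))
  refine ⟨hPa, ?_⟩
  intro i
  have hπ0 := weil_ne_zero p e K π hint hweil i
  have h1 := rev_eval (L := K i) P q P.natDegree rfl hsym0 (π i) hπ0
  rw [hPa i, mul_zero, hqK] at h1
  exact (mul_eq_zero.mp h1).resolve_left (pow_ne_zero _ hπ0)

include hint hweil in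
theorem finite_quot (hinj : ∀ i j, minpoly ℤ (π i) = minpoly ℤ (π j) → i = j) :
    Module.Finite ℤ (MvPolynomial (Fin 2) ℤ ⧸
      RingHom.ker (MvPolynomial.aeval ![fun i => π i, fun i => ((p : K i) ^ e) / π i] :
        MvPolynomial (Fin 2) ℤ →ₐ[ℤ] ((i : ι) → K i))) := by
  classical
  obtain ⟨hPa, hPb⟩ := weil_roots p e K π hint hweil hinj
  obtain ⟨P, hPdef⟩ : ∃ P : Polynomial ℤ, P = ∏ i, minpoly ℤ (π i) := ⟨_, rfl⟩
  rw [← hPdef] at hPa hPb
  have hPmon : P.Monic := by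
    rw [hPdef]
    exact Polynomial.monic_prod_of_monic _ _ (fun i _ => minpoly.monic (hint i))
  obtain ⟨a, ha⟩ : ∃ a : (i : ι) → K i, a = fun i => π i := ⟨_, rfl⟩
  obtain ⟨b, hb⟩ : ∃ b : (i : ι) → K i, b = fun i => ((p : K i) ^ e) / π i := ⟨_, rfl⟩
  rw [← ha, ← hb]
  obtain ⟨φ, hφ⟩ : ∃ φ : MvPolynomial (Fin 2) ℤ →ₐ[ℤ] (∀ i, K i),
      φ = MvPolynomial.aeval ![a, b] := ⟨_, rfl⟩
  rw [← hφ]
  have hPa' : Polynomial.aeval a P = 0 := by
    funext i
    rw [Mo.aeval_pi_apply, ha]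
    exact hPa i
  have hPb' : Polynomial.aeval b P = 0 := by
    funext i
    rw [Mo.aeval_pi_apply, hb]
    exact hPb i
  have hinta : IsIntegral ℤ a := ⟨P, hPmon, hPa'⟩
  have hintb : IsIntegral ℤ b := ⟨P, hPmon, hPb'⟩
  have hfin : Module.Finite ℤ φ.range := by
    have h1 : φ.range = Algebra.adjoin ℤ (Set.range ![a, b]) := by
      rw [hφ]
      exact (Algebra.adjoin_range_eq_range_aeval ℤ _).symm
    have h2 : (Algebra.adjoin ℤ (Set.range ![a, b])).toSubmodule.FG := by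
      apply fg_adjoin_of_finite (Set.finite_range _)
      rintro _ ⟨j, rfl⟩
      fin_cases j
      · exact hinta
      · exact hintb
    rw [h1]
    exact Module.Finite.of_fg h2
  exact Module.Finite.equiv (Ideal.quotientKerEquivRange φ).symm.toLinearEquiv

end weil2

end Groth.Agent.Helper27.Pc
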