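import Mathlib
import Groth.Agent.Lib.Helper27.PcH

/-!
# Surjectivity of `Pic R_w → Pic R_v` for finite sets of Weil numbers (helper27; for S17999)
-/

set_option autoImplicit false

universe u v

namespace Groth.Agent.Helper27.Pc

open Polynomial

theorem subsingleton_pic_pi {J' : Type} [Finite J'] (L : J' → Type u) [∀ j, Field (L j)] :
    Subsingleton (CommRing.Pic ((j : J') → L j)) := by
  infer_instance

theorem main (p e : ℕ) [Fact p.Prime]
    (J J' : Type) [Fintype J] [Fintype J'] (emb : J' → J) (hemb : Function.Injective emb)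
    (K : J → Type u) [∀ j, Field (K j)] [∀ j, CharZero (K j)] (ϖ : ∀ j, K j)
    (hint : ∀ j, IsIntegral ℤ (ϖ j))
    (hweil : ∀ j, ∀ z ∈ (minpoly ℤ (ϖ j)).aroots ℂ, ‖z‖ = Real.sqrt ((p : ℝ) ^ e))
    (hinj : ∀ i j, minpoly ℤ (ϖ i) = minpoly ℤ (ϖ j) → i = j)
    (hle : RingHom.ker (MvPolynomial.aeval ![fun j => ϖ j, fun j => ((p : K j) ^ e) / ϖ j] :
          MvPolynomial (Fin 2) ℤ →ₐ[ℤ] ((j : J) → K j)) ≤
        RingHom.ker (MvPolynomial.aeval
          ![fun j' => ϖ (emb j'), fun j' => ((p : K (emb j')) ^ e) / ϖ (emb j')] :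
          MvPolynomial (Fin 2) ℤ →ₐ[ℤ] ((j' : J') → K (emb j')))) :
    Function.Surjective (CommRing.Pic.mapRingHom (Ideal.Quotient.factor hle)) := by
  classical
  have hfin := finite_quot p e (fun j' => K (emb j')) (fun j' => ϖ (emb j'))
    (fun j' => hint _) (fun j' => hweil _) (fun i j h => hemb (hinj _ _ h))
  obtain ⟨Φw, hΦw⟩ : ∃ Φ : MvPolynomial (Fin 2) ℤ →ₐ[ℤ] ((j : J) → K j),
      Φ = MvPolynomial.aeval ![fun j => ϖ j, fun j => ((p : K j) ^ e) / ϖ j] := ⟨_, rfl⟩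
  obtain ⟨Φv, hΦv⟩ : ∃ Φ : MvPolynomial (Fin 2) ℤ →ₐ[ℤ] ((j' : J') → K (emb j')),
      Φ = MvPolynomial.aeval
        ![fun j' => ϖ (emb j'), fun j' => ((p : K (emb j')) ^ e) / ϖ (emb j')] := ⟨_, rfl⟩
  have hcomp : ∀ x, Φv x = prPi emb K (Φw x) := by
    intro x
    have h1 : Φv = ((prPi emb K).toIntAlgHom).comp Φw := by
      apply MvPolynomial.algHom_ext
      intro i
      rw [hΦv, hΦw]
      show MvPolynomial.aeval _ (MvPolynomial.X i) =
        prPi emb K (MvPolynomial.aeval _ (MvPolynomial.X i))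
      rw [MvPolynomial.aeval_X, MvPolynomial.aeval_X]
      fin_cases i <;> rfl
    rw [h1]
    rfl
  have hX0 : Φw (MvPolynomial.X 0) = fun j => ϖ j := by
    rw [hΦw, MvPolynomial.aeval_X]
    rfl
  -- the Bezout integer
  obtain ⟨T, hT⟩ : ∃ T : Finset J, T = Finset.univ.image emb := ⟨_, rfl⟩
  obtain ⟨S, hS⟩ : ∃ S : Finset J, S = Finset.univ \ T := ⟨_, rfl⟩
  have hST : Disjoint S T := by rw [hS]; exact Finset.sdiff_disjoint
  obtain ⟨f, hf⟩ : ∃ f : ℤ[X], f = ∏ i ∈ S, minpoly ℤ (ϖ i) := ⟨_, rfl⟩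
  obtain ⟨g, hg⟩ : ∃ g : ℤ[X], g = ∏ i ∈ T, minpoly ℤ (ϖ i) := ⟨_, rfl⟩
  have hfm : f.Monic := by
    rw [hf]
    exact Polynomial.monic_prod_of_monic _ _ (fun i _ => minpoly.monic (hint i))
  have hgm : g.Monic := by
    rw [hg]
    exact Polynomial.monic_prod_of_monic _ _ (fun i _ => minpoly.monic (hint i))
  have hcop := coprime_prods K ϖ hint hinj S T hST
  rw [← hf, ← hg] at hcop
  obtain ⟨n, u, v, hn, huv⟩ := exists_int_bezout f g hfm hgm hcop
  have hf0 : ∀ j ∈ S, Polynomial.aeval (ϖ j) f = 0 := by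
    intro j hj
    rw [hf, map_prod]
    exact Finset.prod_eq_zero hj (minpoly.aeval ℤ (ϖ j))
  have hg0 : ∀ j ∈ T, Polynomial.aeval (ϖ j) g = 0 := by
    intro j hj
    rw [hg, map_prod]
    exact Finset.prod_eq_zero hj (minpoly.aeval ℤ (ϖ j))
  have hgoal : Φw (Polynomial.aeval (MvPolynomial.X 0 : MvPolynomial (Fin 2) ℤ) (f * u)) =
      extPi emb K ((n : ℤ) : (j' : J') → K (emb j')) := by
    rw [← Polynomial.aeval_algHom_apply, hX0]
    funext j
    rw [Mo.aeval_pi_apply]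
    by_cases hj : ∃ j', emb j' = j
    · obtain ⟨j', rfl⟩ := hj
      rw [extPi_apply_emb K hemb]
      have hjT : emb j' ∈ T := by
        rw [hT]
        exact Finset.mem_image_of_mem _ (Finset.mem_univ _)
      have h1 := congrArg (Polynomial.aeval (ϖ (emb j'))) huv
      rw [map_add, map_mul _ g v, hg0 _ hjT, zero_mul, add_zero, Polynomial.aeval_C] at h1
      rw [h1]
      simp
    · rw [extPi_apply_of_not emb K _ j hj]
      have hjS : j ∈ S := by
        rw [hS, Finset.mem_sdiff, hT]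
        refine ⟨Finset.mem_univ _, ?_⟩
        intro h
        obtain ⟨j', -, hj'⟩ := Finset.mem_image.mp h
        exact hj ⟨j', hj'⟩
      rw [map_mul, hf0 j hjS, zero_mul]
  haveI := subsingleton_pic_pi (fun j' => K (emb j'))
  rw [← hΦv] at hfin
  revert hle
  rw [← hΦw, ← hΦv]
  intro hle
  refine pic_surjective_of_ker (Φw : MvPolynomial (Fin 2) ℤ →+* ((j : J) → K j))
    (prPi emb K) (extPi emb K) (prPi_extPi K hemb) (extPi_mul K hemb) _ _ rfl ?_ hle hfin n hn _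
    hgoal
  ext x
  rw [RingHom.mem_ker, RingHom.mem_ker, hcomp]
  rfl

end Groth.Agent.Helper27.Pc
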