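import Mathlib

/-!
# Transcendence degrees of residue extensions over a Prüfer domain (helper27), part A

Over a domain `R` all of whose localizations at primes are valuation rings, the transcendence
degree of `B ⧸ q` over `R ⧸ p` does not go up under specialization (`q₀ ≤ q`).
(Adaptation of `Helper14.ValRingTrdeg` from valuation rings to Prüfer domains.)
-/

set_option autoImplicit false

namespace Groth.Agent.Helper27.Pd

universe u

open MvPolynomial

section dvd

variable {R : Type*} [CommRing R] [IsDomain R]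

/-- In a valuation ring, a nonempty finite family has a member dividing all the others. -/
theorem exists_dvd_all' {V : Type*} [CommRing V] [IsDomain V] [ValuationRing V] {ι : Type*}
    (s : Finset ι) (hs : s.Nonempty) (c : ι → V) : ∃ i ∈ s, ∀ j ∈ s, c i ∣ c j := by
  induction hs using Finset.Nonempty.cons_induction with
  | singleton a =>
    exact ⟨a, Finset.mem_singleton_self a, fun j hj => by rw [Finset.mem_singleton.mp hj]⟩
  | cons a s ha hs ih =>
    obtain ⟨i, his, hi⟩ := ih
    rcases ValuationRing.dvd_total (c a) (c i) with h | h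
    · refine ⟨a, Finset.mem_cons_self a s, fun j hj => ?_⟩
      rcases Finset.mem_cons.mp hj with rfl | hj
      · exact dvd_rfl
      · exact h.trans (hi j hj)
    · refine ⟨i, Finset.mem_cons.mpr (Or.inr his), fun j hj => ?_⟩
      rcases Finset.mem_cons.mp hj with rfl | hj
      · exact h
      · exact hi j hj

/-- Divisibility in the localization at a prime, pulled back to `R`. -/
theorem exists_mul_of_dvd_localization (p : Ideal R) [p.IsPrime] (a b : R)
    (h : algebraMap R (Localization.AtPrime p) a ∣ algebraMap R (Localization.AtPrime p) b) :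
    ∃ s ∉ p, a ∣ s * b := by
  obtain ⟨y, hy⟩ := h
  obtain ⟨⟨r, s⟩, hrs⟩ := IsLocalization.surj p.primeCompl y
  refine ⟨s, s.2, r, ?_⟩
  have hinj : Function.Injective (algebraMap R (Localization.AtPrime p)) :=
    IsLocalization.injective _ p.primeCompl_le_nonZeroDivisors
  apply hinj
  rw [map_mul, map_mul, hy, ← hrs]
  ring

/-- In a domain whose localization at `p` is a valuation ring, a nonempty finite family has a
member dividing all the others up to a factor outside `p`. -/
theorem exists_dvd_smul_all (p : Ideal R) [p.IsPrime] [ValuationRing (Localization.AtPrime p)]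
    {ι : Type*} (T : Finset ι) (hT : T.Nonempty) (c : ι → R) :
    ∃ i ∈ T, ∃ s ∉ p, ∀ j ∈ T, c i ∣ s * c j := by
  classical
  obtain ⟨i, hi, hdiv⟩ := exists_dvd_all' T hT
    (fun j => algebraMap R (Localization.AtPrime p) (c j))
  refine ⟨i, hi, ?_⟩
  have h1 : ∀ j ∈ T, ∃ s ∉ p, c i ∣ s * c j := fun j hj =>
    exists_mul_of_dvd_localization p (c i) (c j) (hdiv j hj)
  choose! sj hsj1 hsj2 using h1
  refine ⟨∏ j ∈ T, sj j, ?_, ?_⟩
  · intro hmem
    obtain ⟨j, hj, hjm⟩ := Ideal.IsPrime.prod_mem_iff.mp hmem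
    exact hsj1 j hj hjm
  · intro j hj
    rw [← Finset.mul_prod_erase T sj hj, mul_right_comm]
    exact Dvd.dvd.mul_right (hsj2 j hj) _

end dvd

variable {R B : Type u} [CommRing R] [IsDomain R] [CommRing B] [Algebra R B]

omit [IsDomain R] in
theorem aeval_mk_map (p : Ideal R) (q : Ideal B) [q.LiesOver p] {ι : Type*} (t : ι → B)
    (F : MvPolynomial ι R) :
    aeval (fun i => Ideal.Quotient.mk q (t i)) (map (Ideal.Quotient.mk p) F) =
      Ideal.Quotient.mk q (aeval t F) := by
  have h1 := aeval_map_algebraMap (R := R) (A := R ⧸ p) (B := B ⧸ q)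
    (fun i => Ideal.Quotient.mk q (t i)) F
  have h2 := comp_aeval_apply (f := t) (Ideal.Quotient.mkₐ R q) F
  exact h1.trans h2.symm

/-- Algebraically independent families in the residue ring at a specialization lift to
algebraically independent families at the generization, over a Prüfer domain. -/
theorem algebraicIndependent_lift (p₀ p : Ideal R) [p₀.IsPrime] [p.IsPrime]
    [ValuationRing (Localization.AtPrime p)] (hp : p₀ ≤ p) (q₀ q : Ideal B)
    [q₀.IsPrime] [q.IsPrime] [q₀.LiesOver p₀] [q.LiesOver p] (hq : q₀ ≤ q) {ι : Type*} (t : ι → B)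
    (ht : AlgebraicIndependent (R ⧸ p) (fun i => Ideal.Quotient.mk q (t i))) :
    AlgebraicIndependent (R ⧸ p₀) (fun i => Ideal.Quotient.mk q₀ (t i)) := by
  classical
  rw [algebraicIndependent_iff]
  intro P hP
  by_contra hne
  obtain ⟨F, rfl⟩ := map_surjective (σ := ι) (Ideal.Quotient.mk p₀) Ideal.Quotient.mk_surjective P
  rw [aeval_mk_map, Ideal.Quotient.eq_zero_iff_mem] at hP
  -- some coefficient of `F` is outside `p₀`
  obtain ⟨m₁, hm₁⟩ : ∃ m, coeff m F ∉ p₀ := by
    by_contra hall
    push_neg at hall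
    apply hne
    ext m
    rw [coeff_map, coeff_zero]
    exact Ideal.Quotient.eq_zero_iff_mem.mpr (hall m)
  have hm₁supp : m₁ ∈ F.support := by
    rw [mem_support_iff]
    intro h0
    exact hm₁ (h0 ▸ p₀.zero_mem)
  obtain ⟨m₀, hm₀T, s, hsp, hdvdT⟩ :=
    exists_dvd_smul_all p F.support ⟨m₁, hm₁supp⟩ (fun m => coeff m F)
  set c := coeff m₀ F with hc
  have hcp₀ : c ∉ p₀ := by
    intro hmem
    obtain ⟨r, hr⟩ := hdvdT m₁ hm₁supp
    have h1 : s * coeff m₁ F ∈ p₀ := by
      rw [hr]
      exact p₀.mul_mem_right r hmem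
    rcases (Ideal.IsPrime.mem_or_mem inferInstance h1) with h | h
    · exact hsp (hp h)
    · exact hm₁ h
  have hc0 : c ≠ 0 := fun h => hcp₀ (h ▸ p₀.zero_mem)
  have hdvd : ∀ m, c ∣ coeff m (C s * F) := by
    intro m
    rw [coeff_C_mul]
    by_cases hm : m ∈ F.support
    · exact hdvdT m hm
    · rw [notMem_support_iff.mp hm, mul_zero]
      exact dvd_zero c
  have hFmem : C s * F ∈ Ideal.map (C : R →+* MvPolynomial ι R) (Ideal.span {c}) := by
    rw [mem_map_C_iff]
    intro m
    exact Ideal.mem_span_singleton.mpr (hdvd m)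
  rw [Ideal.map_span, Set.image_singleton] at hFmem
  obtain ⟨G, hG⟩ := Ideal.mem_span_singleton'.mp hFmem
  have hG1 : coeff m₀ G = s := by
    have h1 : coeff m₀ (C s * F) = coeff m₀ G * c := by
      rw [← hG, mul_comm G, coeff_C_mul, mul_comm]
    rw [coeff_C_mul, ← hc] at h1
    exact (mul_right_cancel₀ hc0 h1).symm
  have h3 : aeval t G * algebraMap R B c ∈ q₀ := by
    have : aeval t (G * C c) ∈ q₀ := by
      rw [hG, map_mul]
      exact q₀.mul_mem_left _ hP
    rwa [map_mul, aeval_C] at this
  have h4 : algebraMap R B c ∉ q₀ := by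
    intro h
    exact hcp₀ ((Ideal.mem_of_liesOver q₀ p₀ c).mpr h)
  have h5 : aeval t G ∈ q := hq ((Ideal.IsPrime.mem_or_mem inferInstance h3).resolve_right h4)
  have h6 : aeval (fun i => Ideal.Quotient.mk q (t i)) (map (Ideal.Quotient.mk p) G) = 0 := by
    rw [aeval_mk_map, Ideal.Quotient.eq_zero_iff_mem]
    exact h5
  have h7 := (algebraicIndependent_iff.mp ht) _ h6
  have h8 : coeff m₀ (map (Ideal.Quotient.mk p) G) = 0 := by rw [h7, coeff_zero]
  rw [coeff_map, hG1] at h8
  exact hsp (Ideal.Quotient.eq_zero_iff_mem.mp h8)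

/-- Over a Prüfer domain, the transcendence degree of the residue extension does not go up under
specialization. -/
theorem trdeg_quotient_le (p₀ p : Ideal R) [p₀.IsPrime] [p.IsPrime]
    [ValuationRing (Localization.AtPrime p)] (hp : p₀ ≤ p) (q₀ q : Ideal B)
    [q₀.IsPrime] [q.IsPrime] [q₀.LiesOver p₀] [q.LiesOver p] (hq : q₀ ≤ q) :
    Algebra.trdeg (R ⧸ p) (B ⧸ q) ≤ Algebra.trdeg (R ⧸ p₀) (B ⧸ q₀) := by
  haveI : Nontrivial (R ⧸ p₀) :=
    Ideal.Quotient.nontrivial_iff.mpr (Ideal.IsPrime.ne_top inferInstance)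
  rw [Algebra.trdeg]
  apply ciSup_le'
  rintro ⟨s, hs⟩
  let t : s → B := fun a => (Ideal.Quotient.mk_surjective (I := q) a.1).choose
  have htspec : ∀ a : s, Ideal.Quotient.mk q (t a) = a.1 := fun a =>
    (Ideal.Quotient.mk_surjective (I := q) a.1).choose_spec
  have hind : AlgebraicIndependent (R ⧸ p) (fun a : s => Ideal.Quotient.mk q (t a)) := by
    have : (fun a : s => Ideal.Quotient.mk q (t a)) = fun a : s => (a.1 : B ⧸ q) := funext htspec
    rw [this]
    exact hs
  exact (algebraicIndependent_lift p₀ p hp q₀ q hq t hind).cardinalMk_le_trdeg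

end Groth.Agent.Helper27.Pd
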