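import Mathlib

/-!
# Prüfer domains: quotients and going down (helper27), part B

* `prufer_quotient`: a quotient of a Prüfer domain by a prime is Prüfer.
* `flat_quotient`: for primes `P` over `p`, `S ⧸ P` is flat over `R ⧸ p` when `R` is Prüfer.
* `exists_prime_between`: going down between `P ≤ Q` for the primes between `p ≤ q`.
-/

set_option autoImplicit false
set_option linter.style.haveILetI false

namespace Groth.Agent.Helper27.Pd

universe u

variable {R : Type u} [CommRing R] [IsDomain R]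

/-- A quotient of a Prüfer domain by a prime ideal is a Prüfer domain. -/
theorem prufer_quotient
    (hR : ∀ (p : Ideal R) [p.IsPrime], ValuationRing (Localization.AtPrime p))
    (I : Ideal R) [I.IsPrime] (q : Ideal (R ⧸ I)) [q.IsPrime] :
    ValuationRing (Localization.AtPrime q) := by
  haveI hQ : (q.comap (Ideal.Quotient.mk I)).IsPrime := inferInstance
  haveI := hR (q.comap (Ideal.Quotient.mk I))
  refine Function.Surjective.valuationRing
    (Localization.localRingHom (q.comap (Ideal.Quotient.mk I)) q (Ideal.Quotient.mk I) rfl) ?_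
  intro x
  obtain ⟨a, s, rfl⟩ := IsLocalization.exists_mk'_eq q.primeCompl x
  obtain ⟨a', rfl⟩ := Ideal.Quotient.mk_surjective a
  obtain ⟨s', hs'⟩ := Ideal.Quotient.mk_surjective (s : R ⧸ I)
  have hsQ : s' ∈ (q.comap (Ideal.Quotient.mk I)).primeCompl := by
    intro h
    apply s.2
    rw [← hs']
    exact h
  refine ⟨IsLocalization.mk' _ a' ⟨s', hsQ⟩, ?_⟩
  rw [Localization.localRingHom_mk']
  congr 1
  exact Subtype.ext hs'

variable {S : Type u} [CommRing S] [Algebra R S]

/-- Over a Prüfer domain, `S ⧸ P` is flat over `R ⧸ p` for primes `P` over `p`. -/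
theorem flat_quotient
    (hR : ∀ (p : Ideal R) [p.IsPrime], ValuationRing (Localization.AtPrime p))
    (p : Ideal R) [p.IsPrime] (P : Ideal S) [P.IsPrime] [P.LiesOver p] :
    Module.Flat (R ⧸ p) (S ⧸ P) := by
  rw [Module.Flat.flat_iff_torsion_eq_bot_of_valuationRing_localization_isMaximal
    (fun m hm => by
      haveI : m.IsPrime := hm.isPrime
      exact prufer_quotient hR p m)]
  rw [eq_bot_iff]
  intro x hx
  rw [Submodule.mem_torsion_iff] at hx
  obtain ⟨a, ha⟩ := hx
  rw [Submodule.mem_bot]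
  have h1 : algebraMap (R ⧸ p) (S ⧸ P) (a : R ⧸ p) * x = 0 := by
    rw [← Algebra.smul_def]
    exact ha
  have h2 : algebraMap (R ⧸ p) (S ⧸ P) (a : R ⧸ p) ≠ 0 := by
    intro h0
    have hinj := FaithfulSMul.algebraMap_injective (R ⧸ p) (S ⧸ P)
    have : (a : R ⧸ p) = 0 := hinj (by rw [h0, map_zero])
    exact nonZeroDivisors.ne_zero a.2 this
  exact (mul_eq_zero.mp h1).resolve_left h2

/-- Going down over a Prüfer domain, between two given primes. -/
theorem exists_prime_between
    (hR : ∀ (p : Ideal R) [p.IsPrime], ValuationRing (Localization.AtPrime p))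
    (p p' q : Ideal R) [p.IsPrime] [p'.IsPrime] [q.IsPrime] (hpp' : p ≤ p') (hp'q : p' ≤ q)
    (P Q : Ideal S) [P.IsPrime] [Q.IsPrime] [P.LiesOver p] [hQq : Q.LiesOver q] (hPQ : P ≤ Q) :
    ∃ P' : Ideal S, P'.IsPrime ∧ P ≤ P' ∧ P' ≤ Q ∧ P'.LiesOver p' := by
  haveI := flat_quotient hR p P
  have hφ : Function.Surjective (Ideal.Quotient.mk P) := Ideal.Quotient.mk_surjective
  have hα : Function.Surjective (Ideal.Quotient.mk p) := Ideal.Quotient.mk_surjective
  haveI hQp : (Q.map (Ideal.Quotient.mk P)).IsPrime :=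
    Ideal.map_isPrime_of_surjective hφ (by rw [Ideal.mk_ker]; exact hPQ)
  have hQcomap : (Q.map (Ideal.Quotient.mk P)).comap (Ideal.Quotient.mk P) = Q := by
    rw [Ideal.comap_map_of_surjective' _ hφ, Ideal.mk_ker]
    exact sup_eq_left.mpr hPQ
  haveI hqp : (q.map (Ideal.Quotient.mk p)).IsPrime :=
    Ideal.map_isPrime_of_surjective hα (by rw [Ideal.mk_ker]; exact hpp'.trans hp'q)
  have hqcomap : (q.map (Ideal.Quotient.mk p)).comap (Ideal.Quotient.mk p) = q := by
    rw [Ideal.comap_map_of_surjective' _ hα, Ideal.mk_ker]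
    exact sup_eq_left.mpr (hpp'.trans hp'q)
  haveI hp'p : (p'.map (Ideal.Quotient.mk p)).IsPrime :=
    Ideal.map_isPrime_of_surjective hα (by rw [Ideal.mk_ker]; exact hpp')
  have hp'comap : (p'.map (Ideal.Quotient.mk p)).comap (Ideal.Quotient.mk p) = p' := by
    rw [Ideal.comap_map_of_surjective' _ hα, Ideal.mk_ker]
    exact sup_eq_left.mpr hpp'
  haveI hlo : (Q.map (Ideal.Quotient.mk P)).LiesOver (q.map (Ideal.Quotient.mk p)) := by
    constructor
    ext x
    obtain ⟨a, rfl⟩ := hα x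
    have h1 : Ideal.Quotient.mk p a ∈ q.map (Ideal.Quotient.mk p) ↔ a ∈ q := by
      rw [← Ideal.mem_comap, hqcomap]
    have h2 : Ideal.Quotient.mk p a ∈ (Q.map (Ideal.Quotient.mk P)).under (R ⧸ p) ↔ a ∈ q := by
      rw [Ideal.under_def, Ideal.mem_comap, Ideal.Quotient.algebraMap_mk_of_liesOver,
        ← Ideal.mem_comap, hQcomap, hQq.over, Ideal.under_def, Ideal.mem_comap]
    rw [h1, h2]
  have hle : p'.map (Ideal.Quotient.mk p) ≤ q.map (Ideal.Quotient.mk p) := Ideal.map_mono hp'q
  obtain ⟨P₁, hP₁Q, hP₁prime, hP₁lo⟩ :=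
    Ideal.exists_ideal_le_liesOver_of_le (p := p'.map (Ideal.Quotient.mk p))
      (q := q.map (Ideal.Quotient.mk p)) (Q.map (Ideal.Quotient.mk P)) hle
  haveI := hP₁prime
  refine ⟨P₁.comap (Ideal.Quotient.mk P), inferInstance, ?_, ?_, ?_⟩
  · intro x hx
    rw [Ideal.mem_comap, Ideal.Quotient.eq_zero_iff_mem.mpr hx]
    exact P₁.zero_mem
  · rw [← hQcomap]
    exact Ideal.comap_mono hP₁Q
  · constructor
    ext a
    have h1 : a ∈ p' ↔ Ideal.Quotient.mk p a ∈ p'.map (Ideal.Quotient.mk p) := by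
      rw [← Ideal.mem_comap, hp'comap]
    have h2 : a ∈ (P₁.comap (Ideal.Quotient.mk P)).under R ↔
        Ideal.Quotient.mk p a ∈ p'.map (Ideal.Quotient.mk p) := by
      rw [hP₁lo.over, Ideal.under_def, Ideal.mem_comap, Ideal.mem_comap, Ideal.under_def,
        Ideal.mem_comap, Ideal.Quotient.algebraMap_mk_of_liesOver]
    rw [h1, h2]

end Groth.Agent.Helper27.Pd
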