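import Mathlib
import Groth.Agent.Lib.Helper27.PdA

/-!
# Heights of primes in a Prüfer domain (helper27), part C

* `le_total_of_le_prime`: primes below a prime `q` with `R_q` a valuation ring form a chain.
* `height_eq_add_one_of_covBy`: if no prime lies strictly between `p < q` then
  `ht q = ht p + 1`.
-/

set_option autoImplicit false
set_option linter.style.haveILetI false

namespace Groth.Agent.Helper27.Pd

universe u

variable {R : Type u} [CommRing R] [IsDomain R]

/-- The primes below a prime `q` whose localization is a valuation ring are totally ordered. -/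
theorem le_total_of_le_prime (q : Ideal R) [q.IsPrime] [ValuationRing (Localization.AtPrime q)]
    (a b : Ideal R) [a.IsPrime] [b.IsPrime] (ha : a ≤ q) (hb : b ≤ q) : a ≤ b ∨ b ≤ a := by
  by_contra hcon
  push_neg at hcon
  obtain ⟨h1, h2⟩ := hcon
  obtain ⟨x, hxa, hxb⟩ := Set.not_subset.mp h1
  obtain ⟨y, hyb, hya⟩ := Set.not_subset.mp h2
  rcases ValuationRing.dvd_total (algebraMap R (Localization.AtPrime q) x)
    (algebraMap R (Localization.AtPrime q) y) with h | h
  · obtain ⟨s, hs, r, hr⟩ := exists_mul_of_dvd_localization q x y h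
    have : s * y ∈ a := by
      rw [hr]
      exact a.mul_mem_right r hxa
    rcases Ideal.IsPrime.mem_or_mem inferInstance this with h' | h'
    · exact hs (ha h')
    · exact hya h'
  · obtain ⟨s, hs, r, hr⟩ := exists_mul_of_dvd_localization q y x h
    have : s * x ∈ b := by
      rw [hr]
      exact b.mul_mem_right r hyb
    rcases Ideal.IsPrime.mem_or_mem inferInstance this with h' | h'
    · exact hs (hb h')
    · exact hxb h'

/-- In a Prüfer domain, if no prime lies strictly between `p < q`, then `ht q = ht p + 1`. -/
theorem height_eq_add_one_of_covBy (p q : Ideal R) [p.IsPrime] [q.IsPrime]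
    [ValuationRing (Localization.AtPrime q)] (hpq : p < q)
    (hcov : ∀ a : Ideal R, a.IsPrime → p < a → a < q → False) (hfin : p.height ≠ ⊤) :
    q.height = p.height + 1 := by
  apply le_antisymm
  · obtain ⟨n, hn⟩ := ENat.ne_top_iff_exists.mp hfin
    rw [← hn]
    have : ((n : ℕ∞) + 1) = ((n + 1 : ℕ) : ℕ∞) := by push_cast; rfl
    rw [this, Ideal.height_le_iff]
    intro a ha haq
    haveI := ha
    have hap : a ≤ p := by
      rcases le_total_of_le_prime q a p haq.le hpq.le with h | h
      · exact h
      · rcases eq_or_lt_of_le h with h' | h'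
        · exact h'.ge
        · exact (hcov a ha h' haq).elim
    have h1 : a.height ≤ p.height := Ideal.height_mono hap
    rw [← hn] at h1
    have h2 : ((n : ℕ) : ℕ∞) < ((n + 1 : ℕ) : ℕ∞) := by exact_mod_cast Nat.lt_succ_self n
    exact lt_of_le_of_lt h1 h2
  · exact Ideal.height_add_one_le_of_lt_of_isPrime hpq

/-- Heights of primes are finite in a ring of finite Krull dimension. -/
theorem height_ne_top_of_dim {A : Type*} [CommRing A] (hdim : ringKrullDim A < ⊤)
    (p : Ideal A) [p.IsPrime] : p.height ≠ ⊤ := by
  intro h
  have h1 := Ideal.height_le_ringKrullDim_of_ne_top (I := p) Ideal.IsPrime.ne_top'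
  rw [h] at h1
  exact absurd (lt_of_le_of_lt h1 hdim) (lt_irrefl _)

end Groth.Agent.Helper27.Pd
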