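import Mathlib
import Groth.Agent.Lib.Helper14.GenFibFormula

/-!
# Covering relations inside a fibre (helper27), part D

For a finite type ring map `A → B` and primes `q < q'` of `B` over the same prime `p` of `A`:

* `height_map_add_trdeg`: `ht (q'/q) + trdeg (B/q') = trdeg (B/q)` (over `A/p`);
* `covBy_iff_trdeg`: `q ⋖ q'` iff `trdeg (B/q) = trdeg (B/q') + 1`.
-/

set_option autoImplicit false
set_option linter.style.haveILetI false

namespace Groth.Agent.Helper27.Pd

universe u

open Groth.Agent.Helper14.GenFibFormula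

variable {A B : Type u} [CommRing A] [CommRing B] [Algebra A B] [Algebra.FiniteType A B]

theorem finiteType_quotient (p : Ideal A) [p.IsPrime] (q : Ideal B) [q.IsPrime] [q.LiesOver p] :
    Algebra.FiniteType (A ⧸ p) (B ⧸ q) := by
  haveI : Algebra.FiniteType A (B ⧸ q) := inferInstance
  exact Algebra.FiniteType.of_restrictScalars_finiteType A (A ⧸ p) (B ⧸ q)

theorem trdeg_quotient_lt_aleph0 (p : Ideal A) [p.IsPrime] (q : Ideal B) [q.IsPrime]
    [q.LiesOver p] : Algebra.trdeg (A ⧸ p) (B ⧸ q) < Cardinal.aleph0 := by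
  haveI := finiteType_quotient p q
  exact trdeg_lt_aleph0_of_finiteType

/-- `ht (q'/q) + trdeg (B/q') = trdeg (B/q)` inside a fibre. -/
theorem height_map_add_trdeg (p : Ideal A) [p.IsPrime] (q q' : Ideal B) [q.IsPrime] [q'.IsPrime]
    [q.LiesOver p] [q'.LiesOver p] (hle : q ≤ q') :
    ((q'.map (Ideal.Quotient.mk q)).height : Cardinal.{u}) + Algebra.trdeg (A ⧸ p) (B ⧸ q') =
      Algebra.trdeg (A ⧸ p) (B ⧸ q) := by
  obtain ⟨hQp, hQlo, hcomap, htr⟩ := quotient_setup A B p q q' hle
  haveI := hQp
  haveI := hQlo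
  haveI := finiteType_quotient p q
  have key := height_add_trdeg_eq (A ⧸ p) (B ⧸ q) (q'.map (Ideal.Quotient.mk q))
  rw [← htr] at key
  exact key

/-- Inside a fibre, `q ⋖ q'` iff the residue transcendence degree drops by exactly one. -/
theorem covBy_iff_trdeg (p : Ideal A) [p.IsPrime] (q q' : Ideal B) [hq : q.IsPrime]
    [hq' : q'.IsPrime] [hlo : q.LiesOver p] [hlo' : q'.LiesOver p] (hlt : q < q') :
    ((⟨q, hq⟩ : PrimeSpectrum B) ⋖ ⟨q', hq'⟩) ↔
      Algebra.trdeg (A ⧸ p) (B ⧸ q) = Algebra.trdeg (A ⧸ p) (B ⧸ q') + 1 := by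
  have hφ : Function.Surjective (Ideal.Quotient.mk q) := Ideal.Quotient.mk_surjective
  obtain ⟨n, hn⟩ := Cardinal.lt_aleph0.mp (trdeg_quotient_lt_aleph0 p q)
  obtain ⟨n', hn'⟩ := Cardinal.lt_aleph0.mp (trdeg_quotient_lt_aleph0 p q')
  constructor
  · intro hcov
    obtain ⟨hQp, hQlo, hcomap, htr⟩ := quotient_setup A B p q q' hlt.le
    haveI := hQp
    have key := height_map_add_trdeg p q q' hlt.le
    have hne : q'.map (Ideal.Quotient.mk q) ≠ ⊥ := by
      intro h
      rw [h, ← RingHom.ker_eq_comap_bot, Ideal.mk_ker] at hcomap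
      exact hlt.ne hcomap
    have hge : 1 ≤ (q'.map (Ideal.Quotient.mk q)).height := by
      rw [Order.one_le_iff_ne_zero, Ne, Ideal.height_eq_zero_iff_eq_bot]
      exact hne
    have hle1 : (q'.map (Ideal.Quotient.mk q)).height ≤ ((1 : ℕ) : ℕ∞) := by
      rw [Ideal.height_le_iff]
      intro y hy hyQ
      haveI := hy
      have hy0 : y = ⊥ := by
        by_contra hyne
        have h1 : q < y.comap (Ideal.Quotient.mk q) := by
          refine lt_of_le_of_ne ?_ ?_
          · intro x hx
            rw [Ideal.mem_comap, Ideal.Quotient.eq_zero_iff_mem.mpr hx]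
            exact y.zero_mem
          · intro heq
            apply hyne
            rw [eq_bot_iff]
            intro z hz
            obtain ⟨b, rfl⟩ := hφ z
            have : b ∈ y.comap (Ideal.Quotient.mk q) := hz
            rw [← heq] at this
            rw [Ideal.mem_bot]
            exact Ideal.Quotient.eq_zero_iff_mem.mpr this
        have h2 : y.comap (Ideal.Quotient.mk q) < q' := by
          rw [← hcomap]
          refine lt_of_le_of_ne (Ideal.comap_mono hyQ.le) ?_
          intro heq
          have := congrArg (Ideal.map (Ideal.Quotient.mk q)) heq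
          rw [Ideal.map_comap_of_surjective _ hφ, Ideal.map_comap_of_surjective _ hφ] at this
          exact hyQ.ne this
        exact hcov.2 (c := ⟨y.comap (Ideal.Quotient.mk q), inferInstance⟩) h1 h2
      rw [hy0, Ideal.height_bot]
      exact_mod_cast Nat.one_pos
    have h1 : (q'.map (Ideal.Quotient.mk q)).height = 1 := le_antisymm (by exact_mod_cast hle1) hge
    rw [h1] at key
    rw [← key, add_comm]
    simp
  · intro heq
    refine ⟨hlt, ?_⟩
    intro c hqc hcq'
    haveI : c.asIdeal.LiesOver p := by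
      constructor
      apply le_antisymm
      · rw [hlo.over]
        exact Ideal.comap_mono hqc.le
      · conv_rhs => rw [hlo'.over]
        exact Ideal.comap_mono hcq'.le
    have h1 := trdeg_lt_of_lt A B p q c.asIdeal hqc
    have h2 := trdeg_lt_of_lt A B p c.asIdeal q' hcq'
    obtain ⟨m, hm⟩ := Cardinal.lt_aleph0.mp (trdeg_quotient_lt_aleph0 p c.asIdeal)
    rw [hn, hn'] at heq
    rw [hn, hm] at h1
    rw [hm, hn'] at h2
    have e1 : n = n' + 1 := by exact_mod_cast heq
    have e2 : m < n := by exact_mod_cast h1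
    have e3 : n' < m := by exact_mod_cast h2
    omega

end Groth.Agent.Helper27.Pd
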