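import Mathlib
import Groth.Agent.Lib.Helper14.FibreMax
import Groth.Agent.Lib.Helper16.Sch.SpecFib
import Groth.Agent.Lib.Helper27.PdA

/-!
# Equidimensionality of fibres over a Prüfer domain (helper27), part E

For a finite type domain `B` over a Prüfer domain `R`, a prime `q` of `B` which is minimal among
the primes with the same contraction to `R` has the residue transcendence degree of the generic
point. (Chevalley semicontinuity from helper14's `EquidimAt`/`FibreMax` + `PdA`.)
-/

set_option autoImplicit false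
set_option linter.style.haveILetI false

namespace Groth.Agent.Helper27.Pd

universe u

open AlgebraicGeometry CategoryTheory
open Groth.Agent.Helper14 Groth.Agent.Helper16 Groth.Agent.Helper16.RingFibDim

variable {R B : Type u} [CommRing R] [IsDomain R] [CommRing B] [IsDomain B] [Algebra R B]
  [Algebra.FiniteType R B]

theorem trdeg_eq_of_fibre_minimal
    (p₀ p : Ideal R) [p₀.IsPrime] [p.IsPrime] [ValuationRing (Localization.AtPrime p)]
    [hbot : (⊥ : Ideal B).IsPrime] [hlo₀ : (⊥ : Ideal B).LiesOver p₀]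
    (q : Ideal B) [hq : q.IsPrime] [hlo : q.LiesOver p]
    (hmin : ∀ q' : Ideal B, q'.IsPrime → q' ≤ q → q'.under R = p → q' = q) :
    Algebra.trdeg (R ⧸ p) (B ⧸ q) = Algebra.trdeg (R ⧸ p₀) (B ⧸ (⊥ : Ideal B)) := by
  have hp : p₀ ≤ p := by
    rw [hlo₀.over, hlo.over]
    exact Ideal.comap_mono bot_le
  apply le_antisymm
  · exact trdeg_quotient_le p₀ p hp ⊥ q bot_le
  · let f := specMap R B
    let z : ↥(Spec (CommRingCat.of B)) := (⟨q, hq⟩ : PrimeSpectrum B)
    let η : ↥(Spec (CommRingCat.of B)) := (⟨⊥, hbot⟩ : PrimeSpectrum B)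
    haveI : (PrimeSpectrum.asIdeal z).LiesOver p := hlo
    haveI : (PrimeSpectrum.asIdeal η).LiesOver p₀ := hlo₀
    have hz := SpecFib.trdeg_residueField_eq R B z p
    have hη := SpecFib.trdeg_residueField_eq R B η p₀
    have hfinz : Algebra.trdeg (R ⧸ p) (B ⧸ q) < Cardinal.aleph0 := by
      haveI : Algebra.FiniteType R (B ⧸ q) := inferInstance
      haveI : Algebra.FiniteType (R ⧸ p) (B ⧸ q) :=
        Algebra.FiniteType.of_restrictScalars_finiteType R (R ⧸ p) (B ⧸ q)
      exact trdeg_lt_aleph0_of_finiteType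
    have hfinη : Algebra.trdeg (R ⧸ p₀) (B ⧸ (⊥ : Ideal B)) < Cardinal.aleph0 := by
      haveI : Algebra.FiniteType R (B ⧸ (⊥ : Ideal B)) := inferInstance
      haveI : Algebra.FiniteType (R ⧸ p₀) (B ⧸ (⊥ : Ideal B)) :=
        Algebra.FiniteType.of_restrictScalars_finiteType R (R ⧸ p₀) (B ⧸ (⊥ : Ideal B))
      exact trdeg_lt_aleph0_of_finiteType
    obtain ⟨nz, hnz⟩ := Cardinal.lt_aleph0.mp hfinz
    obtain ⟨nη, hnη⟩ := Cardinal.lt_aleph0.mp hfinη
    have hz' : @Algebra.trdeg ((Spec (CommRingCat.of R)).residueField (f z))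
        ((Spec (CommRingCat.of B)).residueField z) _ _ (f.residueFieldMap z).hom.toAlgebra = nz := by
      rw [hz]; exact hnz
    have hη' : @Algebra.trdeg ((Spec (CommRingCat.of R)).residueField (f η))
        ((Spec (CommRingCat.of B)).residueField η) _ _ (f.residueFieldMap η).hom.toAlgebra = nη := by
      rw [hη]; exact hnη
    have hmax : ∀ x₁ : ↥(Spec (CommRingCat.of B)), f x₁ = f z → x₁ ⤳ z → x₁ = z := by
      intro x₁ hfx hsp
      have hle : PrimeSpectrum.asIdeal x₁ ≤ q := (PrimeSpectrum.le_iff_specializes x₁ z).mpr hsp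
      have hunder : (PrimeSpectrum.asIdeal x₁).under R = p := by
        have h1 := congrArg PrimeSpectrum.asIdeal hfx
        rw [SpecFib.asIdeal_specMap, SpecFib.asIdeal_specMap] at h1
        rw [Ideal.under_def, h1]
        exact hlo.over.symm
      have := hmin (PrimeSpectrum.asIdeal x₁) x₁.isPrime hle hunder
      exact PrimeSpectrum.ext this
    have hηz : η ⤳ z := (PrimeSpectrum.le_iff_specializes η z).mp bot_le
    have h1 := FibreMax.fibreDimAt_eq_of_maximal f z hmax nz hz'
    have h2 := EquidimAt.trdeg_le_fibreDimAt f z η hηz nη hη'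
    rw [h1] at h2
    rw [hnz, hnη]
    have : nη ≤ nz := by exact_mod_cast h2
    exact_mod_cast this

end Groth.Agent.Helper27.Pd
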