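import Mathlib
import Groth.Agent.Lib.Helper27.PdB
import Groth.Agent.Lib.Helper27.PdC
import Groth.Agent.Lib.Helper27.PdD
import Groth.Agent.Lib.Helper27.PdE

/-!
# The dimension function `δ = trdeg − height` over a Prüfer domain (helper27), part F

`R` a Prüfer domain of finite Krull dimension, `S` an `R`-algebra of finite type. For primes
`P < Q` of `S`: `δ(Q) < δ(P)`, and `P ⋖ Q` iff `δ(P) = δ(Q) + 1`.
-/

set_option autoImplicit false
set_option linter.style.haveILetI false

namespace Groth.Agent.Helper27.Pd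

universe u

open Groth.Agent.Helper14 Groth.Agent.Helper14.GenFibFormula

variable {R S : Type u} [CommRing R] [IsDomain R] [CommRing S] [Algebra R S]
  [Algebra.FiniteType R S]

/-- Equality of residue transcendence degrees at a prime `Q ≥ P` which is minimal over its
contraction among the primes containing `P`. -/
theorem trdeg_eq_of_minimal_over
    (p q : Ideal R) [p.IsPrime] [q.IsPrime] [ValuationRing (Localization.AtPrime q)]
    (P Q : Ideal S) [hP : P.IsPrime] [hQ : Q.IsPrime] [hPp : P.LiesOver p] [hQq : Q.LiesOver q]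
    (hPQ : P ≤ Q)
    (hmin : ∀ Q' : Ideal S, Q'.IsPrime → P ≤ Q' → Q' ≤ Q → Q'.under R = q → Q' = Q) :
    Algebra.trdeg (R ⧸ q) (S ⧸ Q) = Algebra.trdeg (R ⧸ p) (S ⧸ P) := by
  have hφ : Function.Surjective (Ideal.Quotient.mk P) := Ideal.Quotient.mk_surjective
  haveI hQ' : (Q.map (Ideal.Quotient.mk P)).IsPrime :=
    Ideal.map_isPrime_of_surjective hφ (by rw [Ideal.mk_ker]; exact hPQ)
  have hQcomap : (Q.map (Ideal.Quotient.mk P)).comap (Ideal.Quotient.mk P) = Q := by
    rw [Ideal.comap_map_of_surjective' _ hφ, Ideal.mk_ker]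
    exact sup_eq_left.mpr hPQ
  have halg : algebraMap R (S ⧸ P) = (Ideal.Quotient.mk P).comp (algebraMap R S) := rfl
  haveI hlo' : (Q.map (Ideal.Quotient.mk P)).LiesOver q := by
    constructor
    rw [Ideal.under_def, halg, ← Ideal.comap_comap, hQcomap]
    exact hQq.over
  haveI hbot : (⊥ : Ideal (S ⧸ P)).IsPrime := Ideal.isPrime_bot
  have hbcomap : (⊥ : Ideal (S ⧸ P)).comap (Ideal.Quotient.mk P) = P := by
    rw [← RingHom.ker_eq_comap_bot, Ideal.mk_ker]
  haveI hlo₀ : (⊥ : Ideal (S ⧸ P)).LiesOver p := by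
    constructor
    rw [Ideal.under_def, halg, ← Ideal.comap_comap, hbcomap]
    exact hPp.over
  have key := trdeg_eq_of_fibre_minimal (R := R) (B := S ⧸ P) p q
    (Q.map (Ideal.Quotient.mk P)) (by
      intro q' hq' hle hunder
      haveI := hq'
      have h1 := hmin (q'.comap (Ideal.Quotient.mk P)) inferInstance
        (by
          intro x hx
          rw [Ideal.mem_comap, Ideal.Quotient.eq_zero_iff_mem.mpr hx]
          exact q'.zero_mem)
        (by rw [← hQcomap]; exact Ideal.comap_mono hle)
        (by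
          rw [Ideal.under_def, Ideal.comap_comap]
          exact hunder)
      rw [← h1, Ideal.map_comap_of_surjective _ hφ])
  have e1 : Algebra.trdeg (R ⧸ q) (S ⧸ Q) =
      Algebra.trdeg (R ⧸ q) ((S ⧸ P) ⧸ Q.map (Ideal.Quotient.mk P)) :=
    TrdegBridge.trdeg_quotient_eq_of_surjective (RingHom.id R) Function.surjective_id
      (Ideal.Quotient.mk P) hφ rfl q (Q.map (Ideal.Quotient.mk P)) q Q rfl hQcomap.symm
  have e2 : Algebra.trdeg (R ⧸ p) (S ⧸ P) =
      Algebra.trdeg (R ⧸ p) ((S ⧸ P) ⧸ (⊥ : Ideal (S ⧸ P))) :=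
    TrdegBridge.trdeg_quotient_eq_of_surjective (RingHom.id R) Function.surjective_id
      (Ideal.Quotient.mk P) hφ rfl p (⊥ : Ideal (S ⧸ P)) p P rfl hbcomap.symm
  rw [e1, e2, key]

/-- The dimension function over a Prüfer domain of finite Krull dimension. -/
theorem main
    (hR : ∀ (p : Ideal R) [p.IsPrime], ValuationRing (Localization.AtPrime p))
    (hdim : ringKrullDim R < ⊤)
    (p q : Ideal R) [hp : p.IsPrime] [hq : q.IsPrime]
    (P Q : Ideal S) [hP : P.IsPrime] [hQ : Q.IsPrime] [hPp : P.LiesOver p] [hQq : Q.LiesOver q]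
    (hPQ : P < Q) :
    ((Cardinal.toNat (Algebra.trdeg (R ⧸ q) (S ⧸ Q)) : ℤ) - (q.height.toNat : ℤ)
        < (Cardinal.toNat (Algebra.trdeg (R ⧸ p) (S ⧸ P)) : ℤ) - (p.height.toNat : ℤ)) ∧
      ((⟨P, hP⟩ : PrimeSpectrum S) ⋖ ⟨Q, hQ⟩ ↔
        (Cardinal.toNat (Algebra.trdeg (R ⧸ p) (S ⧸ P)) : ℤ) - (p.height.toNat : ℤ)
          = (Cardinal.toNat (Algebra.trdeg (R ⧸ q) (S ⧸ Q)) : ℤ) - (q.height.toNat : ℤ) + 1) := by
  have hpq : p ≤ q := by
    rw [hPp.over, hQq.over]
    exact Ideal.comap_mono hPQ.le
  haveI := hR q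
  obtain ⟨a, ha⟩ := Cardinal.lt_aleph0.mp (trdeg_quotient_lt_aleph0 p P)
  obtain ⟨b, hb⟩ := Cardinal.lt_aleph0.mp (trdeg_quotient_lt_aleph0 q Q)
  obtain ⟨m, hm⟩ := ENat.ne_top_iff_exists.mp (height_ne_top_of_dim hdim p)
  obtain ⟨n, hn⟩ := ENat.ne_top_iff_exists.mp (height_ne_top_of_dim hdim q)
  have hba : b ≤ a := by
    have := trdeg_quotient_le p q hpq P Q hPQ.le
    rw [ha, hb] at this
    exact_mod_cast this
  rw [ha, hb, ← hm, ← hn]
  simp only [Cardinal.toNat_natCast, ENat.toNat_coe]
  by_cases h : p = q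
  · subst h
    have hmn : m = n := by
      have : (m : ℕ∞) = n := hm.trans hn.symm
      exact_mod_cast this
    subst hmn
    have hlt := trdeg_lt_of_lt R S p P Q hPQ
    rw [ha, hb] at hlt
    have hlt' : b < a := by exact_mod_cast hlt
    refine ⟨by omega, ?_⟩
    rw [covBy_iff_trdeg p P Q hPQ, ha, hb]
    constructor
    · intro h1
      have : a = b + 1 := by exact_mod_cast h1
      omega
    · intro h1
      have : a = b + 1 := by omega
      exact_mod_cast this
  · have hlt : p < q := lt_of_le_of_ne hpq h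
    have hmn : m + 1 ≤ n := by
      have := Ideal.height_add_one_le_of_lt_of_isPrime hlt
      rw [← hm, ← hn] at this
      exact_mod_cast this
    refine ⟨by omega, ?_⟩
    constructor
    · intro hcov
      -- no prime strictly between `p` and `q`
      have hbetween : ∀ a' : Ideal R, a'.IsPrime → p < a' → a' < q → False := by
        intro a' ha' hpa' ha'q
        haveI := ha'
        obtain ⟨P', hP', hPP', hP'Q, hlo'⟩ :=
          exists_prime_between hR p a' q hpa'.le ha'q.le P Q hPQ.le
        have hne1 : P ≠ P' := by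
          intro heq
          subst heq
          exact hpa'.ne (hPp.over.trans hlo'.over.symm)
        have hne2 : P' ≠ Q := by
          intro heq
          subst heq
          exact ha'q.ne (hlo'.over.trans hQq.over.symm)
        exact hcov.2 (c := ⟨P', hP'⟩)
          ((PrimeSpectrum.asIdeal_lt_asIdeal ⟨P, hP⟩ ⟨P', hP'⟩).mp (lt_of_le_of_ne hPP' hne1))
          ((PrimeSpectrum.asIdeal_lt_asIdeal ⟨P', hP'⟩ ⟨Q, hQ⟩).mp (lt_of_le_of_ne hP'Q hne2))
      have hht := height_eq_add_one_of_covBy p q hlt hbetween (height_ne_top_of_dim hdim p)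
      rw [← hm, ← hn] at hht
      have hnm : n = m + 1 := by exact_mod_cast hht
      have heq := trdeg_eq_of_minimal_over p q P Q hPQ.le (by
        intro Q' hQ' hPQ' hQ'Q hunder
        by_contra hne
        have hne1 : P ≠ Q' := by
          intro heq
          subst heq
          exact h (hPp.over.trans hunder)
        exact hcov.2 (c := ⟨Q', hQ'⟩)
          ((PrimeSpectrum.asIdeal_lt_asIdeal ⟨P, hP⟩ ⟨Q', hQ'⟩).mp (lt_of_le_of_ne hPQ' hne1))
          ((PrimeSpectrum.asIdeal_lt_asIdeal ⟨Q', hQ'⟩ ⟨Q, hQ⟩).mp (lt_of_le_of_ne hQ'Q hne)))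
      rw [ha, hb] at heq
      have hab : b = a := by exact_mod_cast heq
      omega
    · intro heq
      have hab : a = b := by omega
      have hnm : n = m + 1 := by omega
      refine ⟨hPQ, ?_⟩
      intro c hPc hcQ
      haveI := c.isPrime
      have hpc : p ≤ c.asIdeal.under R := by
        rw [hPp.over]
        exact Ideal.comap_mono hPc.le
      have hcq : c.asIdeal.under R ≤ q := by
        rw [hQq.over]
        exact Ideal.comap_mono hcQ.le
      have hcases : c.asIdeal.under R = p ∨ c.asIdeal.under R = q := by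
        by_contra hcon
        push Not at hcon
        have h1 : p < c.asIdeal.under R := lt_of_le_of_ne hpc (Ne.symm hcon.1)
        have h2 : c.asIdeal.under R < q := lt_of_le_of_ne hcq hcon.2
        have h3 := Ideal.height_add_one_le_of_lt_of_isPrime h1
        have h4 := Ideal.height_add_one_le_of_lt_of_isPrime h2
        obtain ⟨k, hk⟩ := ENat.ne_top_iff_exists.mp
          (height_ne_top_of_dim hdim (c.asIdeal.under R))
        rw [← hm, ← hk] at h3
        rw [← hk, ← hn] at h4
        have h3' : m + 1 ≤ k := by exact_mod_cast h3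
        have h4' : k + 1 ≤ n := by exact_mod_cast h4
        omega
      rcases hcases with hc | hc
      · haveI : c.asIdeal.LiesOver p := ⟨hc.symm⟩
        have h1 := trdeg_lt_of_lt R S p P c.asIdeal hPc
        have h2 := trdeg_quotient_le p q hpq c.asIdeal Q hcQ.le
        rw [ha] at h1
        rw [hb] at h2
        have := lt_of_le_of_lt h2 h1
        have : b < a := by exact_mod_cast this
        omega
      · haveI : c.asIdeal.LiesOver q := ⟨hc.symm⟩
        have h1 := trdeg_lt_of_lt R S q c.asIdeal Q hcQ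
        have h2 := trdeg_quotient_le p q hpq P c.asIdeal hPc.le
        rw [hb] at h1
        rw [ha] at h2
        have := lt_of_lt_of_le h1 h2
        have : b < a := by exact_mod_cast this
        omega

end Groth.Agent.Helper27.Pd
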