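import Mathlib
import Groth.Agent.Lib.Helper14.CatenaryRing
import Groth.Agent.Lib.Helper27.PdA

/-!
# Posets with a dimension function are catenary (helper27), part G

* `length_le_of_dimFun`, `length_eq_of_dimFun`: lengths of (saturated) chains in a poset with a
  strictly antitone `ℤ`-valued function dropping by one along covers.
* `isCatPoset_of_dimFun`.
* `trdeg_quotient_le_card`: uniform bound for residue transcendence degrees of a finite type
  algebra.
-/

set_option autoImplicit false
set_option linter.style.haveILetI false

namespace Groth.Agent.Helper27.Pd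

universe u

open Groth.Agent.Helper14

section Poset

variable {X : Type*} [PartialOrder X] (δ : X → ℤ)

theorem length_le_of_dimFun (hanti : ∀ x y : X, x < y → δ y < δ x) (s : LTSeries X) :
    (s.length : ℤ) ≤ δ s.head - δ s.last := by
  have key : ∀ i : Fin (s.length + 1), ((i : ℕ) : ℤ) ≤ δ (s 0) - δ (s i) := by
    intro i
    induction i using Fin.induction with
    | zero => simp
    | succ i ih =>
      have h1 : s i.castSucc < s i.succ := s.step i
      have h2 := hanti _ _ h1
      have h3 : ((i.succ : Fin (s.length + 1)) : ℕ) = (i : ℕ) + 1 := Fin.val_succ i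
      have h4 : ((i.castSucc : Fin (s.length + 1)) : ℕ) = (i : ℕ) := Fin.val_castSucc i
      rw [h3]
      rw [h4] at ih
      push_cast
      omega
  have := key (Fin.last _)
  simpa [RelSeries.head, RelSeries.last] using this

theorem length_eq_of_dimFun (hcov : ∀ x y : X, x ⋖ y → δ x = δ y + 1) (s : LTSeries X)
    (hsat : ∀ i : Fin s.length, s (Fin.castSucc i) ⋖ s (Fin.succ i)) :
    (s.length : ℤ) = δ s.head - δ s.last := by
  have key : ∀ i : Fin (s.length + 1), ((i : ℕ) : ℤ) = δ (s 0) - δ (s i) := by
    intro i
    induction i using Fin.induction with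
    | zero => simp
    | succ i ih =>
      have h2 := hcov _ _ (hsat i)
      have h3 : ((i.succ : Fin (s.length + 1)) : ℕ) = (i : ℕ) + 1 := Fin.val_succ i
      have h4 : ((i.castSucc : Fin (s.length + 1)) : ℕ) = (i : ℕ) := Fin.val_castSucc i
      rw [h3]
      rw [h4] at ih
      push_cast
      omega
  have := key (Fin.last _)
  simpa [RelSeries.head, RelSeries.last] using this

theorem isCatPoset_of_dimFun {X : Type u} [PartialOrder X] (δ : X → ℤ)
    (hanti : ∀ x y : X, x < y → δ y < δ x)
    (hcov : ∀ x y : X, x ⋖ y → δ x = δ y + 1) : IsCatPoset X := by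
  constructor
  · intro p q _
    refine ⟨(δ p - δ q).toNat, ?_⟩
    intro s hs ht
    have := length_le_of_dimFun δ hanti s
    rw [hs, ht] at this
    omega
  · intro s t hh hl hs ht
    have h1 := length_eq_of_dimFun δ hcov s hs
    have h2 := length_eq_of_dimFun δ hcov t ht
    rw [hh, hl] at h1
    omega

end Poset

section Bound

variable {R S : Type u} [CommRing R] [CommRing S] [Algebra R S]

/-- Residue transcendence degrees of an algebra generated by `n` elements are at most `n`. -/
theorem trdeg_quotient_le_card (n : ℕ) (f : MvPolynomial (Fin n) R →ₐ[R] S)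
    (hf : Function.Surjective f) (p : Ideal R) [p.IsPrime] (P : Ideal S) [P.IsPrime]
    [P.LiesOver p] : Algebra.trdeg (R ⧸ p) (S ⧸ P) ≤ n := by
  haveI : IsDomain (R ⧸ p) := Ideal.Quotient.isDomain p
  let t : Fin n → S := fun i => f (MvPolynomial.X i)
  let g : MvPolynomial (Fin n) (R ⧸ p) →ₐ[R ⧸ p] (S ⧸ P) :=
    MvPolynomial.aeval (fun i => Ideal.Quotient.mk P (t i))
  have hg : Function.Surjective g := by
    intro y
    obtain ⟨x, rfl⟩ := Ideal.Quotient.mk_surjective y
    obtain ⟨F, rfl⟩ := hf x
    refine ⟨MvPolynomial.map (Ideal.Quotient.mk p) F, ?_⟩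
    have h1 := aeval_mk_map p P t F
    have h2 : MvPolynomial.aeval t F = f F := by
      have : (MvPolynomial.aeval t : MvPolynomial (Fin n) R →ₐ[R] S) = f := by
        apply MvPolynomial.algHom_ext
        intro i
        simp [t]
      rw [this]
    rw [h2] at h1
    exact h1
  have h1 := trdeg_le_of_surjective g hg
  rw [MvPolynomial.trdeg_of_isDomain] at h1
  simpa using h1

end Bound

end Groth.Agent.Helper27.Pd
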