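import Mathlib
import Groth.Agent.Lib.Helper14.CatenaryRing
import Groth.Agent.Lib.Helper27.PdF
import Groth.Agent.Lib.Helper27.PdG

/-!
# Finite type algebras over finite-dimensional Prüfer domains are catenary of finite dimension
(helper27), part H
-/

set_option autoImplicit false
set_option linter.style.haveILetI false

namespace Groth.Agent.Helper27.Pd

universe u

open Groth.Agent.Helper14

variable {R S : Type u} [CommRing R] [IsDomain R] [CommRing S] [Algebra R S]
  [Algebra.FiniteType R S]

/-- The dimension function `δ = trdeg − height` on `Spec S`. -/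
noncomputable def delta (R : Type u) {S : Type u} [CommRing R] [CommRing S] [Algebra R S]
    (x : PrimeSpectrum S) : ℤ :=
  (Cardinal.toNat (Algebra.trdeg (R ⧸ x.asIdeal.under R) (S ⧸ x.asIdeal)) : ℤ) -
    ((x.asIdeal.under R).height.toNat : ℤ)

theorem delta_anti
    (hR : ∀ (p : Ideal R) [p.IsPrime], ValuationRing (Localization.AtPrime p))
    (hdim : ringKrullDim R < ⊤) (x y : PrimeSpectrum S) (hxy : x < y) :
    delta R y < delta R x :=
  (main hR hdim (x.asIdeal.under R) (y.asIdeal.under R) x.asIdeal y.asIdeal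
    ((PrimeSpectrum.asIdeal_lt_asIdeal x y).mpr hxy)).1

theorem delta_covBy
    (hR : ∀ (p : Ideal R) [p.IsPrime], ValuationRing (Localization.AtPrime p))
    (hdim : ringKrullDim R < ⊤) (x y : PrimeSpectrum S) (hxy : x ⋖ y) :
    delta R x = delta R y + 1 :=
  (main hR hdim (x.asIdeal.under R) (y.asIdeal.under R) x.asIdeal y.asIdeal
    ((PrimeSpectrum.asIdeal_lt_asIdeal x y).mpr hxy.lt)).2.mp hxy

theorem catenary_and_dim
    (hR : ∀ (p : Ideal R) [p.IsPrime], ValuationRing (Localization.AtPrime p))
    (hdim : ringKrullDim R < ⊤) :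
    CAlg.IsCatenary S ∧ ringKrullDim S < ⊤ := by
  refine ⟨isCatPoset_of_dimFun (delta R) (delta_anti hR hdim) (delta_covBy hR hdim), ?_⟩
  obtain ⟨n, f, hf⟩ := Algebra.FiniteType.iff_quotient_mvPolynomial''.mp
    (inferInstance : Algebra.FiniteType R S)
  -- the dimension of `R` as a natural number
  have hnn : (0 : WithBot ℕ∞) ≤ ringKrullDim R := ringKrullDim_nonneg_of_nontrivial
  obtain ⟨d, hd⟩ : ∃ d : ℕ, ringKrullDim R = d := by
    have h1 : ringKrullDim R ≠ ⊤ := hdim.ne
    have h2 : ringKrullDim R ≠ ⊥ := by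
      intro h
      rw [h] at hnn
      exact absurd hnn (by simp)
    obtain ⟨e, he⟩ := WithBot.ne_bot_iff_exists.mp h2
    have h3 : e ≠ ⊤ := by
      intro h
      apply h1
      rw [← he, h]
      rfl
    obtain ⟨d, hd⟩ := ENat.ne_top_iff_exists.mp h3
    exact ⟨d, by rw [← he, ← hd]; rfl⟩
  have hupper : ∀ x : PrimeSpectrum S, delta R x ≤ n := by
    intro x
    have h1 := trdeg_quotient_le_card n f hf (x.asIdeal.under R) x.asIdeal
    obtain ⟨a, ha⟩ := Cardinal.lt_aleph0.mp (trdeg_quotient_lt_aleph0 (x.asIdeal.under R) x.asIdeal)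
    unfold delta
    rw [ha] at h1 ⊢
    have : a ≤ n := by exact_mod_cast h1
    simp only [Cardinal.toNat_natCast]
    omega
  have hlower : ∀ x : PrimeSpectrum S, -(d : ℤ) ≤ delta R x := by
    intro x
    have h1 := Ideal.height_le_ringKrullDim_of_ne_top (I := x.asIdeal.under R)
      Ideal.IsPrime.ne_top'
    obtain ⟨m, hm⟩ := ENat.ne_top_iff_exists.mp (height_ne_top_of_dim hdim (x.asIdeal.under R))
    rw [hd, ← hm] at h1
    have h2 : m ≤ d := by exact_mod_cast h1
    unfold delta
    rw [← hm]
    simp only [ENat.toNat_coe]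
    omega
  have hlt : ringKrullDim S < ((n + d + 1 : ℕ) : WithBot ℕ∞) := by
    unfold ringKrullDim
    rw [Order.krullDim_lt_coe_iff]
    intro l
    have h1 := length_le_of_dimFun (delta R) (delta_anti hR hdim) l
    have h2 := hupper l.head
    have h3 := hlower l.last
    omega
  exact lt_of_lt_of_le hlt le_top

theorem catenary_and_dim_localization
    (hR : ∀ (p : Ideal R) [p.IsPrime], ValuationRing (Localization.AtPrime p))
    (hdim : ringKrullDim R < ⊤)
    (M : Submonoid S) (T : Type u) [CommRing T] [Algebra S T] [IsLocalization M T] :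
    CAlg.IsCatenary T ∧ ringKrullDim T < ⊤ := by
  obtain ⟨h1, h2⟩ := catenary_and_dim (R := R) (S := S) hR hdim
  refine ⟨isCatenary_of_isLocalization T M h1, ?_⟩
  refine lt_of_le_of_lt ?_ h2
  exact Order.krullDim_le_of_strictMono (specEmbOfLocalization T M)
    (specEmbOfLocalization T M).strictMono

end Groth.Agent.Helper27.Pd
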