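import Mathlib

set_option autoImplicit false
universe u v

namespace Groth.Agent.Helper27.PB

open Module

theorem perm_basis {G : Type u} [Group G] (hG : Nat.card G = 2)
    {V : Type v} [AddCommGroup V] [Module (ZMod 2) V] [Module.Finite (ZMod 2) V]
    (ρ : Representation (ZMod 2) G V) :
    ∃ (ι : Type v) (b : Module.Basis ι (ZMod 2) V), ∀ g : G, ∀ i : ι, ∃ j : ι, ρ g (b i) = b j := by
  classical
  obtain ⟨g₀, hg₀, huniq⟩ := (Nat.card_eq_two_iff' (1 : G)).mp hG
  have hall : ∀ g : G, g = 1 ∨ g = g₀ := by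
    intro g
    by_cases h : g = 1
    · exact Or.inl h
    · exact Or.inr (huniq g h)
  have hgg : g₀ * g₀ = 1 := by
    by_contra h
    have := huniq _ h
    exact hg₀ (by simpa using this)
  set σ : V →ₗ[ZMod 2] V := ρ g₀ with hσ
  have hσσ : ∀ v, σ (σ v) = v := by
    intro v
    have : ρ (g₀ * g₀) v = v := by rw [hgg, map_one]; rfl
    rwa [map_mul] at this
  have h2 : ∀ v : V, v + v = 0 := fun v => ZModModule.add_self v
  set N : V →ₗ[ZMod 2] V := σ + LinearMap.id with hN
  have hNapp : ∀ v, N v = σ v + v := fun v => rfl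
  have hNN : ∀ v, N (N v) = 0 := by
    intro v
    rw [hNapp, hNapp, map_add, hσσ]
    have := h2 (σ v)
    have e : v + σ v + (σ v + v) = (σ v + σ v) + (v + v) := by abel
    rw [e, h2, h2, add_zero]
  have hNσ : ∀ v, N (σ v) = N v := by
    intro v
    rw [hNapp, hNapp, hσσ, add_comm]
  set R := LinearMap.range N with hR
  set K := LinearMap.ker N with hK
  have hRK : R ≤ K := by
    rintro _ ⟨v, rfl⟩
    exact hNN v
  obtain ⟨C₀, hC₀⟩ := Submodule.exists_isCompl R
  set C := C₀ ⊓ K with hC
  obtain ⟨s, hs⟩ := N.rangeRestrict.exists_rightInverse_of_surjective (LinearMap.range_rangeRestrict N)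
  have hs' : ∀ a : R, N (s a) = a := by
    intro a
    have := congrArg (fun f => ((f a : R) : V)) hs
    simpa using this
  set Φ : (R × R × C) →ₗ[ZMod 2] V := s.coprod ((σ ∘ₗ s).coprod C.subtype) with hΦ
  have hΦapp : ∀ a b z, Φ (a, b, z) = s a + (σ (s b) + (z : V)) := by
    intro a b z
    simp [hΦ, LinearMap.coprod_apply]
  have hinj : Function.Injective Φ := by
    rw [injective_iff_map_eq_zero]
    rintro ⟨a, b, z⟩ h
    rw [hΦapp] at h
    have hz : N (z : V) = 0 := (z.2).2
    have h1 := congrArg N h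
    rw [map_add, map_add, hNσ, hs', hs', hz, add_zero, map_zero] at h1
    have hab : a = b := by
      apply Subtype.ext
      have := h2 (b : V)
      have e : (a : V) = (a + b : V) + b := by
        rw [add_assoc, h2, add_zero]
      rw [e, h1, zero_add]
    subst hab
    have h3 : (a : V) + (z : V) = 0 := by
      have e : s a + (σ (s a) + (z : V)) = N (s a) + z := by
        rw [hNapp]; abel
      rw [e, hs'] at h
      exact h
    have h4 : (a : V) = (z : V) := by
      have e : (a : V) = ((a : V) + z) + z := by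
        rw [add_assoc, h2, add_zero]
      rw [e, h3, zero_add]
    have h5 : (a : V) ∈ R ⊓ C₀ := ⟨a.2, by rw [h4]; exact (z.2).1⟩
    rw [hC₀.inf_eq_bot] at h5
    have ha : a = 0 := Subtype.ext h5
    have hz0 : z = 0 := by
      apply Subtype.ext
      rw [← h4, ha]; rfl
    rw [ha, hz0]; rfl
  have hsup : R ⊔ C = K := by
    rw [hC, ← sup_inf_assoc_of_le _ hRK, hC₀.sup_eq_top, top_inf_eq]
  have hinf : R ⊓ C = ⊥ := by
    rw [eq_bot_iff, ← hC₀.inf_eq_bot]
    exact inf_le_inf_left _ inf_le_left
  have hdim : finrank (ZMod 2) (R × R × C) = finrank (ZMod 2) V := by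
    have e1 : finrank (ZMod 2) R + finrank (ZMod 2) K = finrank (ZMod 2) V :=
      LinearMap.finrank_range_add_finrank_ker N
    have e2 := Submodule.finrank_sup_add_finrank_inf_eq R C
    rw [hsup, hinf, finrank_bot, add_zero] at e2
    rw [Module.finrank_prod, Module.finrank_prod]
    omega
  let Φe : (R × R × C) ≃ₗ[ZMod 2] V := LinearMap.linearEquivOfInjective Φ hinj hdim
  let bR := Module.Free.chooseBasis (ZMod 2) R
  let bC := Module.Free.chooseBasis (ZMod 2) C
  let B := (bR.prod (bR.prod bC)).map Φe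
  have hB1 : ∀ i, B (Sum.inl i) = s (bR i) := by
    intro i
    simp only [B, Module.Basis.map_apply]
    change Φ _ = _
    rw [show (bR.prod (bR.prod bC)) (Sum.inl i) = (bR i, 0, 0) from by
      ext <;> simp]
    rw [hΦapp]; simp
  have hB2 : ∀ i, B (Sum.inr (Sum.inl i)) = σ (s (bR i)) := by
    intro i
    simp only [B, Module.Basis.map_apply]
    change Φ _ = _
    rw [show (bR.prod (bR.prod bC)) (Sum.inr (Sum.inl i)) = (0, bR i, 0) from by
      ext <;> simp]
    rw [hΦapp]; simp
  have hB3 : ∀ k, B (Sum.inr (Sum.inr k)) = (bC k : V) := by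
    intro k
    simp only [B, Module.Basis.map_apply]
    change Φ _ = _
    rw [show (bR.prod (bR.prod bC)) (Sum.inr (Sum.inr k)) = (0, 0, bC k) from by
      ext <;> simp]
    rw [hΦapp]; simp
  refine ⟨_, B, ?_⟩
  intro g i
  rcases hall g with rfl | rfl
  · exact ⟨i, by rw [map_one]; rfl⟩
  · change ∃ j, σ (B i) = B j
    rcases i with i | i | k
    · exact ⟨Sum.inr (Sum.inl i), by rw [hB1, hB2]⟩
    · exact ⟨Sum.inl i, by rw [hB1, hB2, hσσ]⟩
    · refine ⟨Sum.inr (Sum.inr k), ?_⟩
      rw [hB3]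
      have hz : N (bC k : V) = 0 := ((bC k).2).2
      rw [hNapp] at hz
      have e : σ (bC k : V) = (σ (bC k : V) + (bC k : V)) + (bC k : V) := by
        rw [add_assoc, h2, add_zero]
      rw [e, hz, zero_add]

end Groth.Agent.Helper27.PB
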