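import Groth.Prelude.Def_W4c5modbuncurvesppStab
import Mathlib

namespace Groth.Agent.Helper27.Phi
open PhiStab LabGraph
universe u
variable {V E : Type u}

theorem adj_symm (ends : E → V × V) {v w : V} (h : Adj ends v w) : Adj ends w v := by
  obtain ⟨e, he⟩ := h; exact ⟨e, he.symm⟩

theorem rtg_symm (ends : E → V × V) {v w : V} (h : Relation.ReflTransGen (Adj ends) v w) :
    Relation.ReflTransGen (Adj ends) w v := by
  induction h with
  | refl => exact .refl
  | tail _ hbc ih => exact Relation.ReflTransGen.head (adj_symm ends hbc) ih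

theorem const_of_connected (ends : E → V × V) (hc : Connected ends) {α : Type*} (f : V → α)
    (hf : ∀ e, f (ends e).1 = f (ends e).2) (v w : V) : f v = f w := by
  have := hc.2 v w
  induction this with
  | refl => rfl
  | tail _ hbc ih =>
    obtain ⟨e, he | he⟩ := hbc
    · have := hf e; rw [he] at this; exact ih.trans this
    · have := hf e; rw [he] at this; exact ih.trans this.symm

section F2
variable [DecidableEq V] [Fintype E] [DecidableEq E]

/-- mod-2 boundary of a `ZMod 2` edge vector. -/
def bd2 (ends : E → V × V) (χ : E → ZMod 2) (v : V) : ZMod 2 :=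
  ∑ e, χ e * ((if (ends e).1 = v then 1 else 0) + (if (ends e).2 = v then 1 else 0))

theorem bd2_add (ends : E → V × V) (χ χ' : E → ZMod 2) (v : V) :
    bd2 ends (χ + χ') v = bd2 ends χ v + bd2 ends χ' v := by
  simp only [bd2, Pi.add_apply, add_mul, Finset.sum_add_distrib]

theorem bd2_single (ends : E → V × V) (f : E) (v : V) :
    bd2 ends (Pi.single f 1) v =
      (if (ends f).1 = v then 1 else 0) + (if (ends f).2 = v then 1 else 0) := by
  simp only [bd2, Pi.single_apply, ite_mul, one_mul, zero_mul, Finset.sum_ite_eq', Finset.mem_univ,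
    if_true]

theorem zmod2_add_self (x : ZMod 2) : x + x = 0 := by
  have : (2 : ZMod 2) = 0 := rfl
  calc x + x = 2 * x := by ring
    _ = 0 := by rw [this, zero_mul]

theorem chain_bd2 (ends : E → V × V) (T : Finset E) {u w : V}
    (h : Relation.ReflTransGen (Adj (spanEnds ends T)) u w) :
    ∃ χ : E → ZMod 2, (∀ e, e ∉ T → χ e = 0) ∧
      ∀ v, bd2 ends χ v = (if u = v then 1 else 0) + (if w = v then 1 else 0) := by
  induction h with
  | refl =>
    refine ⟨0, fun _ _ => rfl, fun v => ?_⟩
    rw [zmod2_add_self]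
    simp [bd2]
  | @tail b c _ hbc ih =>
    obtain ⟨χ, h0, hχ⟩ := ih
    obtain ⟨⟨f, hf⟩, hfe⟩ := hbc
    refine ⟨χ + Pi.single f 1, ?_, ?_⟩
    · intro e he
      have hne : e ≠ f := fun h => he (h ▸ hf)
      simp [h0 e he, Pi.single_apply, hne]
    · intro v
      rw [bd2_add, hχ, bd2_single]
      simp only [spanEnds] at hfe
      rcases hfe with hfe | hfe
      · rw [hfe]
        have := zmod2_add_self (if b = v then (1 : ZMod 2) else 0)
        linear_combination this
      · rw [hfe]
        have := zmod2_add_self (if b = v then (1 : ZMod 2) else 0)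
        linear_combination this

theorem exists_circuit (ends : E → V × V) (C : Finset E) (hne : C.Nonempty)
    (hev : ∀ v, Even (endCount ends C v)) : ∃ C' ⊆ C, IsCircuit ends C' := by
  induction C using Finset.strongInduction with
  | H C ih =>
    by_cases hmin : ∀ C' ⊂ C, C'.Nonempty → ∃ v, ¬ Even (endCount ends C' v)
    · exact ⟨C, le_rfl, hne, hev, hmin⟩
    · push Not at hmin
      obtain ⟨C', hC', hne', hev'⟩ := hmin
      obtain ⟨C'', hsub, hcirc⟩ := ih C' hC' hne' hev'
      exact ⟨C'', hsub.trans hC'.subset, hcirc⟩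

theorem endCount_cast (ends : E → V × V) (χ : E → ZMod 2) (v : V) :
    ((endCount ends (Finset.univ.filter (fun e => χ e ≠ 0)) v : ℕ) : ZMod 2) = bd2 ends χ v := by
  unfold endCount bd2
  rw [Finset.sum_filter]
  push_cast
  refine Finset.sum_congr rfl fun e _ => ?_
  by_cases h : χ e = 0
  · simp [h]
  · have h1 : χ e = 1 := by
      have : ∀ x : ZMod 2, x ≠ 0 → x = 1 := by decide
      exact this _ h
    simp [h1]

theorem exists_circuit_of_bd2 (ends : E → V × V) (χ : E → ZMod 2) (hχ : χ ≠ 0)
    (hb : ∀ v, bd2 ends χ v = 0) : ∃ C, IsCircuit ends C := by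
  have h1 : (Finset.univ.filter (fun e => χ e ≠ 0)).Nonempty := by
    by_contra hne
    rw [Finset.not_nonempty_iff_eq_empty] at hne
    apply hχ
    funext e
    show χ e = 0
    by_contra he
    have : e ∈ Finset.univ.filter (fun e => χ e ≠ 0) := by simp [he]
    rw [hne] at this
    simp at this
  have h2 : ∀ v, Even (endCount ends (Finset.univ.filter (fun e => χ e ≠ 0)) v) := by
    intro v
    rw [← ZMod.natCast_eq_zero_iff_even, endCount_cast, hb]
  obtain ⟨C', -, hC'⟩ := exists_circuit ends _ h1 h2
  exact ⟨C', hC'⟩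

end F2

section Side
variable [Fintype V] [Fintype E] [DecidableEq V] [DecidableEq E]

theorem mem_side (ends : E → V × V) (e : E) (v : V) :
    v ∈ side ends e ↔
      Relation.ReflTransGen (Adj (spanEnds ends (Finset.univ.erase e))) (ends e).1 v := by
  unfold side
  simp only [Finset.mem_filter, Finset.mem_univ, true_and]

theorem fst_mem_side (ends : E → V × V) (e : E) : (ends e).1 ∈ side ends e :=
  (mem_side ends e _).2 .refl

theorem snd_not_mem_side (ends : E → V × V) (hF : DualGr.IsForest ends) (e : E) :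
    (ends e).2 ∉ side ends e := by
  intro h
  rw [mem_side] at h
  obtain ⟨χ, h0, hχ⟩ := chain_bd2 ends _ h
  have he0 : χ e = 0 := h0 e (by simp)
  have h1 : χ + Pi.single e 1 ≠ 0 := by
    intro h0'
    have := congrFun h0' e
    simp [he0] at this
  have h2 : ∀ v, bd2 ends (χ + Pi.single e 1) v = 0 := by
    intro v
    rw [bd2_add, hχ, bd2_single]
    exact zmod2_add_self _
  obtain ⟨C, hC⟩ := exists_circuit_of_bd2 ends (χ + Pi.single e 1) h1 h2
  exact hF C hC

theorem side_iff_of_ne (ends : E → V × V) {e e' : E} (hne : e' ≠ e) :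
    (ends e').1 ∈ side ends e ↔ (ends e').2 ∈ side ends e := by
  have hadj : Adj (spanEnds ends (Finset.univ.erase e)) (ends e').1 (ends e').2 :=
    ⟨⟨e', Finset.mem_erase.2 ⟨hne, Finset.mem_univ _⟩⟩, Or.inl rfl⟩
  rw [mem_side, mem_side]
  constructor
  · intro h; exact h.tail hadj
  · intro h; exact h.tail (adj_symm _ hadj)

open Classical in
/-- the key identity for trees -/
theorem key {R : Type*} [Ring R] (ends : E → V × V) (hF : DualGr.IsForest ends) (e e' : E) :
    ((if (ends e).1 ∈ side ends e' then (1 : R) else 0) -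
      (if (ends e).2 ∈ side ends e' then 1 else 0)) = if e = e' then 1 else 0 := by
  by_cases h : e = e'
  · subst h
    simp [fst_mem_side, snd_not_mem_side ends hF]
  · have := side_iff_of_ne ends h
    by_cases h1 : (ends e).1 ∈ side ends e'
    · simp [h1, this.1 h1, h]
    · have h2 : (ends e).2 ∉ side ends e' := fun h2 => h1 (this.2 h2)
      simp [h1, h2, h]

omit [Fintype V] [DecidableEq E] in
/-- flow sum over a vertex set -/
theorem sum_flow {R : Type*} [Ring R] (ends : E → V × V) (a : E → R) (S : Finset V) :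
    (∑ v ∈ S, ∑ e, a e * ((if (ends e).1 = v then (1 : R) else 0) -
      (if (ends e).2 = v then 1 else 0))) =
    ∑ e, a e * ((if (ends e).1 ∈ S then (1 : R) else 0) - (if (ends e).2 ∈ S then 1 else 0)) := by
  rw [Finset.sum_comm]
  refine Finset.sum_congr rfl fun e _ => ?_
  rw [← Finset.mul_sum, Finset.sum_sub_distrib]
  simp only [Finset.sum_ite_eq, Finset.sum_const_zero]

/-- the flow with edge values `a`, plus a point mass `c₀` at `v₀`. -/
def flow {R : Type*} [Ring R] (ends : E → V × V) (a : E → R) (c₀ : R) (v₀ : V) : V → R :=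
  fun v => (∑ e, a e * ((if (ends e).1 = v then (1 : R) else 0) -
      (if (ends e).2 = v then 1 else 0))) + c₀ * (if v₀ = v then 1 else 0)

omit [Fintype V] [DecidableEq E] in
theorem sum_flow' {R : Type*} [Ring R] (ends : E → V × V) (a : E → R) (c₀ : R) (v₀ : V)
    (S : Finset V) :
    (∑ v ∈ S, flow ends a c₀ v₀ v) =
    (∑ e, a e * ((if (ends e).1 ∈ S then (1 : R) else 0) - (if (ends e).2 ∈ S then 1 else 0)))
      + c₀ * (if v₀ ∈ S then 1 else 0) := by
  unfold flow
  rw [Finset.sum_add_distrib, sum_flow, ← Finset.mul_sum]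
  simp only [Finset.sum_ite_eq]

open Classical in
theorem sum_flow_side {R : Type*} [Ring R] (ends : E → V × V) (hF : DualGr.IsForest ends)
    (a : E → R) (c₀ : R) (v₀ : V) (e' : E) :
    (∑ v ∈ side ends e', flow ends a c₀ v₀ v) =
      a e' + c₀ * (if v₀ ∈ side ends e' then 1 else 0) := by
  rw [sum_flow']
  congr 1
  simp only [key ends hF]
  simp

omit [DecidableEq E] in
theorem sum_flow_univ {R : Type*} [Ring R] (ends : E → V × V)
    (a : E → R) (c₀ : R) (v₀ : V) :
    (∑ v, flow ends a c₀ v₀ v) = c₀ := by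
  rw [sum_flow']
  simp

/-- uniqueness for the tree system -/
theorem tree_unique (ends : E → V × V) (hT : DualGr.IsTree ends) (ψ : V → ℝ)
    (hs : ∀ e, (∑ v ∈ side ends e, ψ v) = 0) (h0 : (∑ v, ψ v) = 0) : ψ = 0 := by
  classical
  set g : V → ℝ := fun v => ψ v - ∑ e, (ψ (ends e).1 - ψ (ends e).2) *
    (if v ∈ side ends e then 1 else 0) with hg
  have hgc : ∀ e', g (ends e').1 = g (ends e').2 := by
    intro e'
    have : g (ends e').1 - g (ends e').2 = 0 := by
      simp only [hg]
      have h1 : (∑ e, (ψ (ends e).1 - ψ (ends e).2) *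
          (if (ends e').1 ∈ side ends e then (1:ℝ) else 0)) -
          (∑ e, (ψ (ends e).1 - ψ (ends e).2) *
          (if (ends e').2 ∈ side ends e then (1:ℝ) else 0)) = ψ (ends e').1 - ψ (ends e').2 := by
        rw [← Finset.sum_sub_distrib]
        have : ∀ e, (ψ (ends e).1 - ψ (ends e).2) *
          (if (ends e').1 ∈ side ends e then (1:ℝ) else 0) - (ψ (ends e).1 - ψ (ends e).2) *
          (if (ends e').2 ∈ side ends e then (1:ℝ) else 0) =
          (ψ (ends e).1 - ψ (ends e).2) * (if e' = e then 1 else 0) := by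
          intro e
          rw [← mul_sub, key ends hT.2 e' e]
        simp only [this]
        simp
      linarith
    linarith
  obtain ⟨v₀⟩ := hT.1.1
  have hconst : ∀ v, g v = g v₀ := fun v => const_of_connected ends hT.1 g hgc v v₀
  have hsq : ∑ v, ψ v * ψ v = 0 := by
    have : ∀ v, ψ v * ψ v = ψ v * g v₀ + ∑ e, (ψ (ends e).1 - ψ (ends e).2) *
        (if v ∈ side ends e then ψ v else 0) := by
      intro v
      have h1 := hconst v
      simp only [hg] at h1
      have : ψ v = g v₀ + ∑ e, (ψ (ends e).1 - ψ (ends e).2) *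
          (if v ∈ side ends e then 1 else 0) := by
        simp only [hg]; linarith
      conv_lhs => rw [this]
      rw [mul_add, Finset.mul_sum]
      congr 1
      · rw [← this]
      · refine Finset.sum_congr rfl fun e _ => ?_
        rw [← this]
        split_ifs <;> ring
    simp only [this]
    rw [Finset.sum_add_distrib, ← Finset.sum_mul, h0, zero_mul, zero_add, Finset.sum_comm]
    refine Finset.sum_eq_zero fun e _ => ?_
    rw [← Finset.mul_sum, ← Finset.sum_filter]
    have : (Finset.univ.filter fun v => v ∈ side ends e) = side ends e := by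
      ext v; simp
    rw [this, hs, mul_zero]
  funext v
  have := (Finset.sum_eq_zero_iff_of_nonneg (fun v _ => mul_self_nonneg (ψ v))).1 hsq v
    (Finset.mem_univ v)
  exact mul_self_eq_zero.1 this

open Classical in
theorem main382 (ends : E → V × V) (hT : DualGr.IsTree ends)
    (c : E → ℝ) (c₀ : ℝ) :
    ∃! φ : V → ℝ, (∀ e : E, (∑ v ∈ side ends e, φ v) = c e) ∧ (∑ v : V, φ v) = c₀ := by
  obtain ⟨v₀⟩ := hT.1.1
  refine ⟨flow ends (fun e => c e - c₀ * (if v₀ ∈ side ends e then 1 else 0)) c₀ v₀,
    ⟨fun e => ?_, sum_flow_univ _ _ _ _⟩, ?_⟩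
  · rw [sum_flow_side ends hT.2]; ring
  · rintro φ ⟨h1, h2⟩
    have := tree_unique ends hT (φ - flow ends (fun e => c e - c₀ *
      (if v₀ ∈ side ends e then 1 else 0)) c₀ v₀) ?_ ?_
    · exact sub_eq_zero.1 this
    · intro e
      simp only [Pi.sub_apply, Finset.sum_sub_distrib]
      rw [h1, sum_flow_side ends hT.2]; ring
    · simp only [Pi.sub_apply, Finset.sum_sub_distrib]
      rw [h2, sum_flow_univ]; ring

end Side

end Groth.Agent.Helper27.Phi
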