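import Groth.Agent.Lib.Helper27.PhiA

namespace Groth.Agent.Helper27.Phi
open PhiStab LabGraph
universe u
variable {V E : Type u}

section Beta
variable [Fintype V] [Fintype E] [DecidableEq V] [DecidableEq E]

/-- no edge joins `A` and `B`. -/
def NoCross (ends : E → V × V) (A B : Finset V) : Prop :=
  ∀ e, ¬((ends e).1 ∈ A ∧ (ends e).2 ∈ B) ∧ ¬((ends e).1 ∈ B ∧ (ends e).2 ∈ A)

/-- the stability defect of `S`. -/
noncomputable def beta (ends : E → V × V) (φ : V → ℝ) (m : V → ℤ) (N : Finset E)
    (S : Finset V) : ℝ :=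
  (degOn ends m N S : ℝ) - (∑ v ∈ S, φ v) + (cut ends S : ℝ) / 2

omit [Fintype V] [DecidableEq E] in
theorem cut_eq_sum (ends : E → V × V) (S : Finset V) :
    cut ends S = ∑ e, if (((ends e).1 ∈ S ∧ (ends e).2 ∉ S) ∨ ((ends e).1 ∉ S ∧ (ends e).2 ∈ S))
      then 1 else 0 := by
  unfold cut; rw [Finset.card_filter]

omit [Fintype V] in
theorem inner_card_eq_sum (ends : E → V × V) (N : Finset E) (S : Finset V) :
    (N ∩ inner ends S).card = ∑ e ∈ N, if ((ends e).1 ∈ S ∧ (ends e).2 ∈ S) then 1 else 0 := by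
  rw [← Finset.card_filter]; congr 1; ext e; simp [PhiStab.inner]

omit [Fintype V] [DecidableEq E] in
theorem cut_union (ends : E → V × V) {A B : Finset V} (hd : Disjoint A B)
    (hn : NoCross ends A B) : cut ends (A ∪ B) = cut ends A + cut ends B := by
  simp only [cut_eq_sum, ← Finset.sum_add_distrib]
  refine Finset.sum_congr rfl fun e _ => ?_
  have h1 := hn e
  have hd' : ∀ v, ¬ (v ∈ A ∧ v ∈ B) := fun v hv => Finset.disjoint_left.1 hd hv.1 hv.2
  have d1 := hd' (ends e).1
  have d2 := hd' (ends e).2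
  simp only [Finset.mem_union]
  by_cases a1 : (ends e).1 ∈ A <;> by_cases a2 : (ends e).2 ∈ A <;>
    by_cases b1 : (ends e).1 ∈ B <;> by_cases b2 : (ends e).2 ∈ B <;> simp_all

omit [Fintype V] in
theorem inner_union (ends : E → V × V) (N : Finset E) {A B : Finset V} (hd : Disjoint A B)
    (hn : NoCross ends A B) :
    (N ∩ inner ends (A ∪ B)).card = (N ∩ inner ends A).card + (N ∩ inner ends B).card := by
  simp only [inner_card_eq_sum, ← Finset.sum_add_distrib]
  refine Finset.sum_congr rfl fun e _ => ?_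
  have h1 := hn e
  have hd' : ∀ v, ¬ (v ∈ A ∧ v ∈ B) := fun v hv => Finset.disjoint_left.1 hd hv.1 hv.2
  have d1 := hd' (ends e).1
  have d2 := hd' (ends e).2
  simp only [Finset.mem_union]
  by_cases a1 : (ends e).1 ∈ A <;> by_cases a2 : (ends e).2 ∈ A <;>
    by_cases b1 : (ends e).1 ∈ B <;> by_cases b2 : (ends e).2 ∈ B <;> simp_all

omit [Fintype V] in
theorem beta_union (ends : E → V × V) (φ : V → ℝ) (m : V → ℤ) (N : Finset E)
    {A B : Finset V} (hd : Disjoint A B) (hn : NoCross ends A B) :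
    beta ends φ m N (A ∪ B) = beta ends φ m N A + beta ends φ m N B := by
  unfold beta degOn
  rw [cut_union ends hd hn, inner_union ends N hd hn, Finset.sum_union hd, Finset.sum_union hd]
  push_cast
  ring

/-- number of edges outside `N` crossing `S`. -/
def kap (ends : E → V × V) (N : Finset E) (S : Finset V) : ℕ :=
  ∑ e, if (e ∉ N ∧ (((ends e).1 ∈ S ∧ (ends e).2 ∉ S) ∨ ((ends e).1 ∉ S ∧ (ends e).2 ∈ S)))
      then 1 else 0

omit [Fintype V] in
theorem kap_union (ends : E → V × V) (N : Finset E) {A B : Finset V} (hd : Disjoint A B)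
    (hn : NoCross ends A B) : kap ends N (A ∪ B) = kap ends N A + kap ends N B := by
  simp only [kap, ← Finset.sum_add_distrib]
  refine Finset.sum_congr rfl fun e _ => ?_
  have h1 := hn e
  have hd' : ∀ v, ¬ (v ∈ A ∧ v ∈ B) := fun v hv => Finset.disjoint_left.1 hd hv.1 hv.2
  have d1 := hd' (ends e).1
  have d2 := hd' (ends e).2
  simp only [Finset.mem_union]
  by_cases hN : e ∈ N
  · simp [hN]
  by_cases a1 : (ends e).1 ∈ A <;> by_cases a2 : (ends e).2 ∈ A <;>
    by_cases b1 : (ends e).1 ∈ B <;> by_cases b2 : (ends e).2 ∈ B <;> simp_all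

theorem kap_compl (ends : E → V × V) (N : Finset E) (S : Finset V) :
    kap ends N Sᶜ = kap ends N S := by
  simp only [kap]
  refine Finset.sum_congr rfl fun e _ => ?_
  simp only [Finset.mem_compl, not_not]
  by_cases hN : e ∈ N
  · simp [hN]
  by_cases a1 : (ends e).1 ∈ S <;> by_cases a2 : (ends e).2 ∈ S <;> simp_all

theorem cut_compl (ends : E → V × V) (S : Finset V) : cut ends Sᶜ = cut ends S := by
  simp only [cut_eq_sum]
  refine Finset.sum_congr rfl fun e _ => ?_
  simp only [Finset.mem_compl, not_not]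
  by_cases a1 : (ends e).1 ∈ S <;> by_cases a2 : (ends e).2 ∈ S <;> simp_all

theorem beta_add_compl (ends : E → V × V) (φ : V → ℝ) (m : V → ℤ) (N : Finset E)
    (hdeg : (∑ v : V, φ v) = (totDeg m N : ℝ)) (S : Finset V) :
    beta ends φ m N S + beta ends φ m N Sᶜ = (kap ends N S : ℝ) := by
  unfold beta degOn
  rw [cut_compl]
  have h1 : (∑ v ∈ S, φ v) + ∑ v ∈ Sᶜ, φ v = (totDeg m N : ℝ) := by
    rw [Finset.sum_add_sum_compl, hdeg]
  have h2 : (∑ v ∈ S, m v) + ∑ v ∈ Sᶜ, m v = ∑ v, m v := Finset.sum_add_sum_compl _ _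
  have h3 : (N ∩ inner ends S).card + (N ∩ inner ends Sᶜ).card + cut ends S =
      N.card + kap ends N S := by
    rw [inner_card_eq_sum, inner_card_eq_sum, cut_eq_sum, kap, Finset.card_eq_sum_ones N,
      ← Finset.sum_add_distrib]
    have : ∀ f : E → ℕ, ∑ e ∈ N, f e = ∑ e, if e ∈ N then f e else 0 := by
      intro f; rw [Finset.sum_ite_mem, Finset.univ_inter]
    rw [this, this, ← Finset.sum_add_distrib, ← Finset.sum_add_distrib]
    refine Finset.sum_congr rfl fun e _ => ?_
    simp only [Finset.mem_compl]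
    by_cases hN : e ∈ N <;>
    by_cases a1 : (ends e).1 ∈ S <;> by_cases a2 : (ends e).2 ∈ S <;> simp_all
  unfold totDeg at h1
  have h2' : ((∑ v ∈ S, m v : ℤ) : ℝ) + ((∑ v ∈ Sᶜ, m v : ℤ) : ℝ) = ((∑ v, m v : ℤ) : ℝ) := by
    exact_mod_cast h2
  have h3' : ((N ∩ inner ends S).card : ℝ) + ((N ∩ inner ends Sᶜ).card : ℝ) + (cut ends S : ℝ) =
      (N.card : ℝ) + (kap ends N S : ℝ) := by exact_mod_cast h3
  push_cast at h1 h2' ⊢
  linarith

theorem exists_split (ends : E → V × V) (S : Finset V) (hS : S.Nonempty)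
    (hnc : ¬ Connected (indEnds ends S)) :
    ∃ A B : Finset V, A.Nonempty ∧ B.Nonempty ∧ Disjoint A B ∧ A ∪ B = S ∧ NoCross ends A B := by
  classical
  obtain ⟨v₀, hv₀⟩ := hS
  let R : V → Prop := fun v => ∃ h : v ∈ S,
    Relation.ReflTransGen (Adj (indEnds ends S)) ⟨v₀, hv₀⟩ ⟨v, h⟩
  have hA : v₀ ∈ S.filter R := Finset.mem_filter.2 ⟨hv₀, hv₀, .refl⟩
  have hB : (S.filter (fun v => ¬ R v)).Nonempty := by
    by_contra hB
    apply hnc
    refine ⟨⟨⟨v₀, hv₀⟩⟩, fun v w => ?_⟩
    have hv : R v.1 := by_contra fun h => hB ⟨v.1, Finset.mem_filter.2 ⟨v.2, h⟩⟩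
    have hw : R w.1 := by_contra fun h => hB ⟨w.1, Finset.mem_filter.2 ⟨w.2, h⟩⟩
    obtain ⟨_, hv'⟩ := hv
    obtain ⟨_, hw'⟩ := hw
    exact (rtg_symm _ hv').trans hw'
  refine ⟨S.filter R, S.filter (fun v => ¬ R v), ⟨v₀, hA⟩, hB, ?_, ?_, ?_⟩
  · exact Finset.disjoint_filter.2 (fun v _ h1 h2 => h2 h1)
  · exact Finset.filter_union_filter_not_eq _ _
  · intro e
    constructor
    · rintro ⟨h1, h2⟩
      rw [Finset.mem_filter] at h1 h2
      obtain ⟨hs1, ⟨_, hr⟩⟩ := h1
      apply h2.2
      refine ⟨h2.1, hr.tail ?_⟩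
      exact ⟨⟨e, Finset.mem_filter.2 ⟨Finset.mem_univ _, hs1, h2.1⟩⟩, Or.inl rfl⟩
    · rintro ⟨h2, h1⟩
      rw [Finset.mem_filter] at h1 h2
      obtain ⟨hs1, ⟨_, hr⟩⟩ := h1
      apply h2.2
      refine ⟨h2.1, hr.tail ?_⟩
      exact ⟨⟨e, Finset.mem_filter.2 ⟨Finset.mem_univ _, h2.1, hs1⟩⟩, Or.inr rfl⟩

omit [Fintype V] [Fintype E] [DecidableEq E] in
theorem exists_cross (ends : E → V × V) (A : Finset V) {v w : V}
    (h : Relation.ReflTransGen (Adj ends) v w) (hv : v ∈ A) (hw : w ∉ A) :
    ∃ e, ((ends e).1 ∈ A ∧ (ends e).2 ∉ A) ∨ ((ends e).1 ∉ A ∧ (ends e).2 ∈ A) := by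
  induction h with
  | refl => exact absurd hv hw
  | @tail b c _ hbc ih =>
    by_cases hb : b ∈ A
    · obtain ⟨e, he | he⟩ := hbc
      · exact ⟨e, Or.inl (by rw [he]; exact ⟨hb, hw⟩)⟩
      · exact ⟨e, Or.inr (by rw [he]; exact ⟨hw, hb⟩)⟩
    · exact ih hb

theorem cut_pos (ends : E → V × V) (hc : Connected ends) (A : Finset V) (hA : A.Nonempty)
    (hA' : A ≠ Finset.univ) : 0 < cut ends A := by
  obtain ⟨v, hv⟩ := hA
  obtain ⟨w, hw⟩ : ∃ w, w ∉ A := by
    by_contra h
    push Not at h
    exact hA' (Finset.eq_univ_iff_forall.2 h)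
  obtain ⟨e, he⟩ := exists_cross ends A (hc.2 v w) hv hw
  unfold cut
  exact Finset.card_pos.2 ⟨e, Finset.mem_filter.2 ⟨Finset.mem_univ _, he⟩⟩

theorem ne_univ_of_disjoint {A B : Finset V} (hd : Disjoint A B) (hB : B.Nonempty) :
    A ≠ Finset.univ := by
  rintro rfl
  obtain ⟨b, hb⟩ := hB
  exact Finset.disjoint_left.1 hd (Finset.mem_univ b) hb

theorem beta_all (ends : E → V × V) (hconn : Connected ends) (φ : V → ℝ) (m : V → ℤ)
    (N : Finset E) (hdeg : (∑ v : V, φ v) = (totDeg m N : ℝ)) (P : ℝ → Prop)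
    (hP : ∀ x y, P x → P y → P (x + y))
    (hel : ∀ S, IsElementary ends S → P (beta ends φ m N S)) :
    ∀ S : Finset V, S.Nonempty → S ≠ Finset.univ → P (beta ends φ m N S) := by
  have key : ∀ n, ∀ S : Finset V, cut ends S = n → S.Nonempty → S ≠ Finset.univ →
      P (beta ends φ m N S) := by
    intro n
    induction n using Nat.strong_induction_on with
    | _ n ih =>
      intro S hn hne hpr
      by_cases h : IsElementary ends S
      · exact hel S h
      · unfold IsElementary at h
        rw [not_and_or] at h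
        rcases h with h | h
        · obtain ⟨A, B, hA, hB, hd, hu, hnc⟩ := exists_split ends S hne h
          have hA' : A ≠ Finset.univ := ne_univ_of_disjoint hd hB
          have hB' : B ≠ Finset.univ := ne_univ_of_disjoint hd.symm hA
          have hcA := cut_pos ends hconn A hA hA'
          have hcB := cut_pos ends hconn B hB hB'
          have hcu := cut_union ends hd hnc
          rw [hu, hn] at hcu
          rw [← hu, beta_union ends φ m N hd hnc]
          exact hP _ _ (ih (cut ends A) (by omega) A rfl hA hA')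
            (ih (cut ends B) (by omega) B rfl hB hB')
        · have hSc : Sᶜ.Nonempty := by
            rw [Finset.nonempty_iff_ne_empty]
            intro h0
            apply hpr
            rw [← compl_compl S, h0, Finset.compl_empty]
          obtain ⟨A, B, hA, hB, hd, hu, hnc⟩ := exists_split ends Sᶜ hSc h
          have hA' : A ≠ Finset.univ := ne_univ_of_disjoint hd hB
          have hB' : B ≠ Finset.univ := ne_univ_of_disjoint hd.symm hA
          have hcA := cut_pos ends hconn A hA hA'
          have hcB := cut_pos ends hconn B hB hB'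
          have hcu := cut_union ends hd hnc
          rw [hu, cut_compl, hn] at hcu
          have e1 := beta_add_compl ends φ m N hdeg S
          have e2 := beta_add_compl ends φ m N hdeg A
          have e3 := beta_add_compl ends φ m N hdeg B
          have e4 := beta_union ends φ m N hd hnc
          have e5 := kap_union ends N hd hnc
          rw [hu] at e4 e5
          rw [kap_compl] at e5
          have e5' : (kap ends N S : ℝ) = (kap ends N A : ℝ) + (kap ends N B : ℝ) := by
            exact_mod_cast e5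
          have : beta ends φ m N S = beta ends φ m N Aᶜ + beta ends φ m N Bᶜ := by linarith
          rw [this]
          have hAc : Aᶜ.Nonempty := by
            obtain ⟨b, hb⟩ := hB
            exact ⟨b, Finset.mem_compl.2 fun ha => Finset.disjoint_left.1 hd ha hb⟩
          have hBc : Bᶜ.Nonempty := by
            obtain ⟨a, ha⟩ := hA
            exact ⟨a, Finset.mem_compl.2 fun hb => Finset.disjoint_left.1 hd ha hb⟩
          have hAc' : Aᶜ ≠ Finset.univ := by
            intro h0
            obtain ⟨a, ha⟩ := hA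
            have := Finset.mem_univ a
            rw [← h0] at this
            exact Finset.mem_compl.1 this ha
          have hBc' : Bᶜ ≠ Finset.univ := by
            intro h0
            obtain ⟨a, ha⟩ := hB
            have := Finset.mem_univ a
            rw [← h0] at this
            exact Finset.mem_compl.1 this ha
          exact hP _ _ (ih (cut ends Aᶜ) (by rw [cut_compl]; omega) Aᶜ rfl hAc hAc')
            (ih (cut ends Bᶜ) (by rw [cut_compl]; omega) Bᶜ rfl hBc hBc')
  intro S
  exact key _ S rfl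

theorem elementary_nonempty (ends : E → V × V) {S : Finset V} (h : IsElementary ends S) :
    S.Nonempty ∧ S ≠ Finset.univ := by
  obtain ⟨⟨⟨v, hv⟩⟩, _⟩ := h.1
  obtain ⟨⟨⟨w, hw⟩⟩, _⟩ := h.2
  refine ⟨⟨v, hv⟩, ?_⟩
  rintro rfl
  simp at hw

theorem main374 (ends : E → V × V) (hconn : LabGraph.Connected ends)
    (φ : V → ℝ) (m : V → ℤ) (N : Finset E) (hdeg : (∑ v : V, φ v) = (totDeg m N : ℝ)) :
    (IsSemistable ends φ m N ↔
      ∀ S : Finset V, IsElementary ends S →
        (∑ v ∈ S, φ v) - (LabGraph.cut ends S : ℝ) / 2 ≤ (degOn ends m N S : ℝ)) ∧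
    (IsStable ends φ m N ↔
      ∀ S : Finset V, IsElementary ends S →
        (∑ v ∈ S, φ v) - (LabGraph.cut ends S : ℝ) / 2 < (degOn ends m N S : ℝ)) := by
  constructor
  · constructor
    · intro h S hS
      exact h S (elementary_nonempty ends hS).1 (elementary_nonempty ends hS).2
    · intro h S hne hpr
      have := beta_all ends hconn φ m N hdeg (fun x => 0 ≤ x) (fun x y hx hy => add_nonneg hx hy)
        (fun S hS => by have := h S hS; unfold beta; linarith) S hne hpr
      unfold beta at this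
      linarith
  · constructor
    · intro h S hS
      exact h S (elementary_nonempty ends hS).1 (elementary_nonempty ends hS).2
    · intro h S hne hpr
      have := beta_all ends hconn φ m N hdeg (fun x => 0 < x) (fun x y hx hy => add_pos hx hy)
        (fun S hS => by have := h S hS; unfold beta; linarith) S hne hpr
      unfold beta at this
      linarith

end Beta

end Groth.Agent.Helper27.Phi
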