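import Groth.Agent.Lib.Helper27.PhiB

namespace Groth.Agent.Helper27.Phi
open PhiStab LabGraph
universe u
variable {V E : Type u}

section TreeBound
variable [Fintype V] [Fintype E] [DecidableEq V] [DecidableEq E]

/-- decomposition of a zero-sum vector on a tree as a flow -/
theorem tree_decomp (ends : E → V × V) (hT : DualGr.IsTree ends) (ψ : V → ℝ)
    (h0 : (∑ v, ψ v) = 0) (S : Finset V) :
    (∑ v ∈ S, ψ v) = ∑ e, (∑ v ∈ side ends e, ψ v) *
      ((if (ends e).1 ∈ S then (1 : ℝ) else 0) - (if (ends e).2 ∈ S then 1 else 0)) := by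
  classical
  obtain ⟨v₀⟩ := hT.1.1
  have hψ : ψ = flow ends (fun e => ∑ v ∈ side ends e, ψ v) 0 v₀ := by
    have := tree_unique ends hT (ψ - flow ends (fun e => ∑ v ∈ side ends e, ψ v) 0 v₀) ?_ ?_
    · exact sub_eq_zero.1 this
    · intro e
      simp only [Pi.sub_apply, Finset.sum_sub_distrib]
      rw [sum_flow_side ends hT.2]; ring
    · simp only [Pi.sub_apply, Finset.sum_sub_distrib]
      rw [h0, sum_flow_univ]; ring
  conv_lhs => rw [hψ]
  rw [sum_flow']
  simp

theorem tree_bound_le (ends : E → V × V) (hT : DualGr.IsTree ends) (ψ : V → ℝ)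
    (h0 : (∑ v, ψ v) = 0) (hx : ∀ e, |∑ v ∈ side ends e, ψ v| ≤ 1 / 2) (S : Finset V) :
    -((cut ends S : ℝ) / 2) ≤ ∑ v ∈ S, ψ v := by
  rw [tree_decomp ends hT ψ h0 S, cut_eq_sum]
  push_cast
  rw [Finset.sum_div, ← Finset.sum_neg_distrib]
  refine Finset.sum_le_sum fun e _ => ?_
  have := abs_le.1 (hx e)
  by_cases a1 : (ends e).1 ∈ S <;> by_cases a2 : (ends e).2 ∈ S <;> simp [a1, a2] <;> linarith

theorem tree_bound_lt (ends : E → V × V) (hT : DualGr.IsTree ends) (ψ : V → ℝ)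
    (h0 : (∑ v, ψ v) = 0) (hx : ∀ e, |∑ v ∈ side ends e, ψ v| < 1 / 2) (S : Finset V)
    (hS : S.Nonempty) (hS' : S ≠ Finset.univ) :
    -((cut ends S : ℝ) / 2) < ∑ v ∈ S, ψ v := by
  have hpos := cut_pos ends hT.1 S hS hS'
  unfold cut at hpos
  obtain ⟨e₀, he₀⟩ := Finset.card_pos.1 hpos
  rw [Finset.mem_filter] at he₀
  rw [tree_decomp ends hT ψ h0 S, cut_eq_sum]
  push_cast
  rw [Finset.sum_div, ← Finset.sum_neg_distrib]
  refine Finset.sum_lt_sum (fun e _ => ?_) ⟨e₀, Finset.mem_univ _, ?_⟩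
  · have := abs_lt.1 (hx e)
    by_cases a1 : (ends e).1 ∈ S <;> by_cases a2 : (ends e).2 ∈ S <;> simp [a1, a2] <;> linarith
  · have := abs_lt.1 (hx e₀)
    rcases he₀.2 with ⟨a1, a2⟩ | ⟨a1, a2⟩ <;> simp [a1, a2] <;> linarith

theorem cut_side (ends : E → V × V) (hF : DualGr.IsForest ends) (e : E) :
    cut ends (side ends e) = 1 := by
  unfold cut
  rw [Finset.card_eq_one]
  refine ⟨e, ?_⟩
  ext e'
  simp only [Finset.mem_filter, Finset.mem_univ, true_and, Finset.mem_singleton]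
  constructor
  · intro h
    by_contra hne
    have := side_iff_of_ne ends hne
    tauto
  · rintro rfl
    exact Or.inl ⟨fst_mem_side ends e', snd_not_mem_side ends hF e'⟩

theorem tree_bound_conv (ends : E → V × V) (hT : DualGr.IsTree ends) (ψ : V → ℝ)
    (h0 : (∑ v, ψ v) = 0)
    (h : ∀ S : Finset V, S.Nonempty → S ≠ Finset.univ → -((cut ends S : ℝ) / 2) < ∑ v ∈ S, ψ v)
    (e : E) : |∑ v ∈ side ends e, ψ v| < 1 / 2 := by
  have hne : (side ends e).Nonempty := ⟨_, fst_mem_side ends e⟩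
  have hpr : side ends e ≠ Finset.univ := by
    intro h0
    have := snd_not_mem_side ends hT.2 e
    rw [h0] at this
    exact this (Finset.mem_univ _)
  have h1 := h (side ends e) hne hpr
  have hne' : (side ends e)ᶜ.Nonempty := ⟨_, Finset.mem_compl.2 (snd_not_mem_side ends hT.2 e)⟩
  have hpr' : (side ends e)ᶜ ≠ Finset.univ := by
    intro h0
    have := Finset.mem_univ (ends e).1
    rw [← h0] at this
    exact Finset.mem_compl.1 this (fst_mem_side ends e)
  have h2 := h (side ends e)ᶜ hne' hpr'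
  rw [cut_compl] at h2
  rw [cut_side ends hT.2] at h1 h2
  have h3 : (∑ v ∈ side ends e, ψ v) + ∑ v ∈ (side ends e)ᶜ, ψ v = 0 := by
    rw [Finset.sum_add_sum_compl, h0]
  rw [abs_lt]
  push_cast at h1 h2
  constructor <;> linarith

end TreeBound

section Span
variable [Fintype V] [Fintype E] [DecidableEq V] [DecidableEq E]

omit [DecidableEq E] in
theorem sum_endCount (ends : E → V × V) (N : Finset E) (S : Finset V) :
    (∑ v ∈ S, endCount ends N v) =
      ∑ e ∈ N, ((if (ends e).1 ∈ S then 1 else 0) + (if (ends e).2 ∈ S then 1 else 0)) := by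
  unfold endCount
  rw [Finset.sum_comm]
  refine Finset.sum_congr rfl fun e _ => ?_
  rw [Finset.sum_add_distrib]
  simp only [Finset.sum_ite_eq, Finset.sum_const_zero]

omit [DecidableEq E] in
theorem sum_endCount_univ (ends : E → V × V) (N : Finset E) :
    (∑ v, endCount ends N v) = 2 * N.card := by
  rw [sum_endCount]
  simp
  ring

theorem cut_span (ends : E → V × V) (T : Finset E) (S : Finset V) :
    cut (spanEnds ends T) S = ∑ e ∈ T,
      if (((ends e).1 ∈ S ∧ (ends e).2 ∉ S) ∨ ((ends e).1 ∉ S ∧ (ends e).2 ∈ S)) then 1 else 0 := by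
  rw [cut_eq_sum]
  exact Finset.sum_coe_sort T (fun e =>
    if (((ends e).1 ∈ S ∧ (ends e).2 ∉ S) ∨ ((ends e).1 ∉ S ∧ (ends e).2 ∈ S)) then 1 else 0)

theorem nat_identity (ends : E → V × V) (T : Finset E) (S : Finset V) :
    2 * (Tᶜ ∩ PhiStab.inner ends S).card + cut ends S =
      (∑ v ∈ S, endCount ends Tᶜ v) + cut (spanEnds ends T) S := by
  rw [cut_span, sum_endCount, inner_card_eq_sum, cut_eq_sum, ← Finset.sum_add_sum_compl T,
    Finset.mul_sum]
  have : ∀ e, 2 * (if ((ends e).1 ∈ S ∧ (ends e).2 ∈ S) then 1 else 0) +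
      (if (((ends e).1 ∈ S ∧ (ends e).2 ∉ S) ∨ ((ends e).1 ∉ S ∧ (ends e).2 ∈ S)) then 1 else 0) =
      ((if (ends e).1 ∈ S then 1 else 0) + (if (ends e).2 ∈ S then 1 else 0)) := by
    intro e
    by_cases a1 : (ends e).1 ∈ S <;> by_cases a2 : (ends e).2 ∈ S <;> simp [a1, a2]
  have h2 : (∑ e ∈ Tᶜ, 2 * (if ((ends e).1 ∈ S ∧ (ends e).2 ∈ S) then 1 else 0)) +
      ∑ e ∈ Tᶜ, (if (((ends e).1 ∈ S ∧ (ends e).2 ∉ S) ∨ ((ends e).1 ∉ S ∧ (ends e).2 ∈ S))
        then 1 else 0) =
      ∑ e ∈ Tᶜ, ((if (ends e).1 ∈ S then 1 else 0) + (if (ends e).2 ∈ S then 1 else 0)) := by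
    rw [← Finset.sum_add_distrib]
    exact Finset.sum_congr rfl fun e _ => this e
  omega

/-- the modified defect vector -/
noncomputable def psi (ends : E → V × V) (φ : V → ℝ) (m : V → ℤ) (N : Finset E) (v : V) : ℝ :=
  (m v : ℝ) - φ v + (endCount ends N v : ℝ) / 2

theorem beta_eq_tree (ends : E → V × V) (T : Finset E) (φ : V → ℝ) (m : V → ℤ) (S : Finset V) :
    beta ends φ m Tᶜ S = (∑ v ∈ S, psi ends φ m Tᶜ v) + (cut (spanEnds ends T) S : ℝ) / 2 := by
  unfold beta degOn psi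
  have h := nat_identity ends T S
  have h' : 2 * ((Tᶜ ∩ PhiStab.inner ends S).card : ℝ) + (cut ends S : ℝ) =
      (∑ v ∈ S, (endCount ends Tᶜ v : ℝ)) + (cut (spanEnds ends T) S : ℝ) := by
    exact_mod_cast h
  rw [Finset.sum_add_distrib, Finset.sum_sub_distrib, ← Finset.sum_div]
  push_cast
  linarith

theorem sum_psi (ends : E → V × V) (φ : V → ℝ) (m : V → ℤ) (N : Finset E)
    (hdeg : (∑ v : V, φ v) = (totDeg m N : ℝ)) : (∑ v, psi ends φ m N v) = 0 := by
  unfold psi
  rw [Finset.sum_add_distrib, Finset.sum_sub_distrib, ← Finset.sum_div, hdeg]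
  have := sum_endCount_univ ends N
  have h' : (∑ v, (endCount ends N v : ℝ)) = 2 * (N.card : ℝ) := by exact_mod_cast this
  rw [h']
  unfold totDeg
  push_cast
  ring

theorem stable_iff_tree (ends : E → V × V) (T : Finset E)
    (hT : DualGr.IsTree (spanEnds ends T)) (φ : V → ℝ) (m : V → ℤ)
    (hdeg : (∑ v : V, φ v) = (totDeg m Tᶜ : ℝ)) :
    IsStable ends φ m Tᶜ ↔
      ∀ e : T, |∑ v ∈ side (spanEnds ends T) e, psi ends φ m Tᶜ v| < 1 / 2 := by
  have h0 := sum_psi ends φ m Tᶜ hdeg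
  constructor
  · intro h e
    refine tree_bound_conv (spanEnds ends T) hT _ h0 (fun S hS hS' => ?_) e
    have h1 := h S hS hS'
    have h2 := beta_eq_tree ends T φ m S
    unfold beta at h2
    linarith
  · intro h S hS hS'
    have h1 := tree_bound_lt (spanEnds ends T) hT _ h0 h S hS hS'
    have h2 := beta_eq_tree ends T φ m S
    unfold beta at h2
    linarith

theorem semistable_of_tree (ends : E → V × V) (T : Finset E)
    (hT : DualGr.IsTree (spanEnds ends T)) (φ : V → ℝ) (m : V → ℤ)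
    (hdeg : (∑ v : V, φ v) = (totDeg m Tᶜ : ℝ))
    (h : ∀ e : T, |∑ v ∈ side (spanEnds ends T) e, psi ends φ m Tᶜ v| ≤ 1 / 2) :
    IsSemistable ends φ m Tᶜ := by
  have h0 := sum_psi ends φ m Tᶜ hdeg
  intro S hS hS'
  have h1 := tree_bound_le (spanEnds ends T) hT _ h0 h S
  have h2 := beta_eq_tree ends T φ m S
  unfold beta at h2
  linarith

open Classical in
theorem main375 (ends : E → V × V) (T : Finset E)
    (hT : DualGr.IsTree (spanEnds ends T)) (b : ℤ) (φ : V → ℝ) (hφ : (∑ v : V, φ v) = (b : ℝ))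
    (hnd : Nondegenerate ends φ) :
    ∃! m : V → ℤ, totDeg m Tᶜ = b ∧ IsStable ends φ m Tᶜ := by
  obtain ⟨v₀⟩ := hT.1.1
  -- the target vector
  set θ : V → ℝ := fun v => φ v - (endCount ends Tᶜ v : ℝ) / 2 with hθ
  set d : T → ℤ := fun e => round (∑ v ∈ side (spanEnds ends T) e, θ v) with hd
  set c₀ : ℤ := b - (Tᶜ.card : ℤ) with hc₀
  set m : V → ℤ := flow (spanEnds ends T)
    (fun e => d e - c₀ * (if v₀ ∈ side (spanEnds ends T) e then 1 else 0)) c₀ v₀ with hm
  have hm1 : ∀ e : T, (∑ v ∈ side (spanEnds ends T) e, m v) = d e := by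
    intro e
    rw [hm, sum_flow_side _ hT.2]; ring
  have hm2 : (∑ v, m v) = c₀ := sum_flow_univ _ _ _ _
  have htot : totDeg m Tᶜ = b := by
    unfold totDeg; rw [hm2, hc₀]; ring
  have hdeg : (∑ v : V, φ v) = (totDeg m Tᶜ : ℝ) := by rw [htot, hφ]
  have hpsi : ∀ v, psi ends φ m Tᶜ v = (m v : ℝ) - θ v := by
    intro v; simp only [psi, hθ]; ring
  have hss : IsSemistable ends φ m Tᶜ := by
    refine semistable_of_tree ends T hT φ m hdeg (fun e => ?_)
    simp only [hpsi, Finset.sum_sub_distrib]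
    have h1 : (∑ v ∈ side (spanEnds ends T) e, (m v : ℝ)) = (d e : ℝ) := by
      exact_mod_cast hm1 e
    rw [h1, abs_sub_comm]
    exact abs_sub_round _
  refine ⟨m, ⟨htot, hnd m Tᶜ hdeg hss⟩, ?_⟩
  rintro m' ⟨htot', hst'⟩
  have hdeg' : (∑ v : V, φ v) = (totDeg m' Tᶜ : ℝ) := by rw [htot', hφ]
  have hst : IsStable ends φ m Tᶜ := hnd m Tᶜ hdeg hss
  have b1 := (stable_iff_tree ends T hT φ m hdeg).1 hst
  have b2 := (stable_iff_tree ends T hT φ m' hdeg').1 hst'
  -- the difference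
  have hz : (fun v => ((m' v : ℝ) - (m v : ℝ))) = 0 := by
    apply tree_unique (spanEnds ends T) hT
    · intro e
      have e1 := abs_lt.1 (b1 e)
      have e2 := abs_lt.1 (b2 e)
      have hpsi' : ∀ v, psi ends φ m' Tᶜ v = (m' v : ℝ) - θ v := by
        intro v; simp only [psi, hθ]; ring
      simp only [hpsi, hpsi', Finset.sum_sub_distrib] at e1 e2
      rw [Finset.sum_sub_distrib]
      have hint : ((∑ v ∈ side (spanEnds ends T) e, m' v) - (∑ v ∈ side (spanEnds ends T) e, m v)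
          : ℤ) = 0 := by
        have l1 : (((∑ v ∈ side (spanEnds ends T) e, m' v) -
            (∑ v ∈ side (spanEnds ends T) e, m v) : ℤ) : ℝ) < 1 := by
          push_cast; linarith
        have l2 : (-1 : ℝ) < (((∑ v ∈ side (spanEnds ends T) e, m' v) -
            (∑ v ∈ side (spanEnds ends T) e, m v) : ℤ) : ℝ) := by
          push_cast; linarith
        have l1' : ((∑ v ∈ side (spanEnds ends T) e, m' v) -
            (∑ v ∈ side (spanEnds ends T) e, m v) : ℤ) < 1 := by exact_mod_cast l1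
        have l2' : (-1 : ℤ) < ((∑ v ∈ side (spanEnds ends T) e, m' v) -
            (∑ v ∈ side (spanEnds ends T) e, m v) : ℤ) := by exact_mod_cast l2
        omega
      have : (((∑ v ∈ side (spanEnds ends T) e, m' v) -
            (∑ v ∈ side (spanEnds ends T) e, m v) : ℤ) : ℝ) = 0 := by rw [hint]; simp
      push_cast at this
      exact this
    · rw [Finset.sum_sub_distrib]
      have t1 : (∑ v, m' v) = (∑ v, m v) := by
        unfold totDeg at htot htot'
        linarith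
      have : ((∑ v, m' v : ℤ) : ℝ) = ((∑ v, m v : ℤ) : ℝ) := by rw [t1]
      push_cast at this
      linarith
  funext v
  have := congrFun hz v
  simp only [Pi.zero_apply] at this
  have h2 : (m' v : ℝ) = (m v : ℝ) := by linarith
  exact_mod_cast h2

end Span

end Groth.Agent.Helper27.Phi
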