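import Groth.Agent.Lib.Helper27.PhiC

namespace Groth.Agent.Helper27.Phi
open PhiStab LabGraph
universe u
variable {V E : Type u}

/-- adjacency through an edge satisfying `P`. -/
def AdjP (ends : E → V × V) (P : E → Prop) (v w : V) : Prop :=
  ∃ e, P e ∧ (ends e = (v, w) ∨ ends e = (w, v))

theorem adjP_symm (ends : E → V × V) (P : E → Prop) {v w : V} (h : AdjP ends P v w) :
    AdjP ends P w v := by
  obtain ⟨e, hP, he⟩ := h; exact ⟨e, hP, he.symm⟩

theorem rtgP_symm (ends : E → V × V) (P : E → Prop) {v w : V}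
    (h : Relation.ReflTransGen (AdjP ends P) v w) :
    Relation.ReflTransGen (AdjP ends P) w v := by
  induction h with
  | refl => exact .refl
  | tail _ hbc ih => exact Relation.ReflTransGen.head (adjP_symm ends P hbc) ih

theorem rtgP_mono (ends : E → V × V) {P Q : E → Prop} (hPQ : ∀ e, P e → Q e) {v w : V}
    (h : Relation.ReflTransGen (AdjP ends P) v w) :
    Relation.ReflTransGen (AdjP ends Q) v w := by
  refine Relation.ReflTransGen.mono ?_ _ _ h
  rintro a b ⟨e, hP, he⟩
  exact ⟨e, hPQ e hP, he⟩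

theorem exists_crossP (ends : E → V × V) (P : E → Prop) (A : Finset V) {v w : V}
    (h : Relation.ReflTransGen (AdjP ends P) v w) (hv : v ∈ A) (hw : w ∉ A) :
    ∃ e, P e ∧ (((ends e).1 ∈ A ∧ (ends e).2 ∉ A) ∨ ((ends e).1 ∉ A ∧ (ends e).2 ∈ A)) := by
  induction h with
  | refl => exact absurd hv hw
  | @tail b c _ hbc ih =>
    by_cases hb : b ∈ A
    · obtain ⟨e, hP, he | he⟩ := hbc
      · exact ⟨e, hP, Or.inl (by rw [he]; exact ⟨hb, hw⟩)⟩
      · exact ⟨e, hP, Or.inr (by rw [he]; exact ⟨hw, hb⟩)⟩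
    · exact ih hb

theorem rtgP_of_adj (ends : E → V × V) {v w : V}
    (h : Relation.ReflTransGen (Adj ends) v w) :
    Relation.ReflTransGen (AdjP ends (fun _ => True)) v w := by
  refine Relation.ReflTransGen.mono ?_ _ _ h
  rintro a b ⟨e, he⟩
  exact ⟨e, trivial, he⟩

theorem rtg_span_of_rtgP (ends : E → V × V) (T : Finset E) {v w : V}
    (h : Relation.ReflTransGen (AdjP ends (· ∈ T)) v w) :
    Relation.ReflTransGen (Adj (spanEnds ends T)) v w := by
  refine Relation.ReflTransGen.mono ?_ _ _ h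
  rintro a b ⟨e, hP, he⟩
  exact ⟨⟨e, hP⟩, he⟩

section Ind
variable [Fintype E] [DecidableEq V]

theorem rtgP_of_ind (ends : E → V × V) (S : Finset V) {a b : {v // v ∈ S}}
    (h : Relation.ReflTransGen (Adj (indEnds ends S)) a b) :
    Relation.ReflTransGen (AdjP ends (fun e => (ends e).1 ∈ S ∧ (ends e).2 ∈ S)) a.1 b.1 := by
  induction h with
  | refl => exact .refl
  | @tail b c _ hbc ih =>
    refine ih.tail ?_
    obtain ⟨⟨e, he⟩, h | h⟩ := hbc
    · refine ⟨e, (Finset.mem_filter.1 he).2, Or.inl ?_⟩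
      have h1 := congrArg (fun p => (p.1.1, p.2.1)) h
      simpa [indEnds] using h1
    · refine ⟨e, (Finset.mem_filter.1 he).2, Or.inr ?_⟩
      have h1 := congrArg (fun p => (p.1.1, p.2.1)) h
      simpa [indEnds] using h1

end Ind

section Par
variable [Fintype V] [DecidableEq V]

/-- parity of the number of edges of an even edge set crossing a vertex set. -/
theorem even_cross (ends : E → V × V) (C : Finset E) (A : Finset V)
    (hev : ∀ v, Even (endCount ends C v)) :
    Even (C.filter (fun e => ((ends e).1 ∈ A ∧ (ends e).2 ∉ A) ∨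
      ((ends e).1 ∉ A ∧ (ends e).2 ∈ A))).card := by
  have h1 : Even (∑ v ∈ A, endCount ends C v) := Finset.even_sum _ (fun v _ => hev v)
  have h2 : (∑ v ∈ A, endCount ends C v) =
      ∑ e ∈ C, ((if (ends e).1 ∈ A then 1 else 0) + (if (ends e).2 ∈ A then 1 else 0)) := by
    unfold endCount
    rw [Finset.sum_comm]
    refine Finset.sum_congr rfl fun e _ => ?_
    rw [Finset.sum_add_distrib]
    simp only [Finset.sum_ite_eq, Finset.sum_const_zero]
  have h3 : (∑ e ∈ C, ((if (ends e).1 ∈ A then 1 else 0) + (if (ends e).2 ∈ A then 1 else 0))) =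
      2 * (∑ e ∈ C, if ((ends e).1 ∈ A ∧ (ends e).2 ∈ A) then 1 else 0) +
      ∑ e ∈ C, if (((ends e).1 ∈ A ∧ (ends e).2 ∉ A) ∨
      ((ends e).1 ∉ A ∧ (ends e).2 ∈ A)) then 1 else 0 := by
    rw [Finset.mul_sum, ← Finset.sum_add_distrib]
    refine Finset.sum_congr rfl fun e _ => ?_
    by_cases a1 : (ends e).1 ∈ A <;> by_cases a2 : (ends e).2 ∈ A <;> simp [a1, a2]
  rw [Finset.card_filter]
  rw [h2, h3] at h1
  obtain ⟨k, hk⟩ := h1
  exact ⟨k - (∑ e ∈ C, if ((ends e).1 ∈ A ∧ (ends e).2 ∈ A) then 1 else 0), by omega⟩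

/-- no nonempty even edge subset. -/
def EvenFree (ends : E → V × V) (T : Finset E) : Prop :=
  ∀ C : Finset E, C ⊆ T → C.Nonempty → ∃ v, ¬ Even (endCount ends C v)

omit [Fintype V] in
theorem evenFree_empty (ends : E → V × V) : EvenFree ends (∅ : Finset E) := by
  intro C hC hne
  obtain ⟨e, he⟩ := hne
  exact absurd (hC he) (by simp)

omit [Fintype V] in
theorem forest_of_evenFree (ends : E → V × V) (T : Finset E) (h : EvenFree ends T) :
    DualGr.IsForest (spanEnds ends T) := by
  intro C hC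
  obtain ⟨hne, hev, -⟩ := hC
  have hsub : C.map (Function.Embedding.subtype _) ⊆ T := by
    intro e he
    rw [Finset.mem_map] at he
    obtain ⟨e', -, rfl⟩ := he
    exact e'.2
  obtain ⟨v, hv⟩ := h _ hsub (by simpa using hne)
  apply hv
  have : endCount ends (C.map (Function.Embedding.subtype _)) v =
      endCount (spanEnds ends T) C v := by
    unfold endCount
    rw [Finset.sum_map]
    rfl
  rw [this]
  exact hev v

variable [DecidableEq E]

/-- adding a bridge over a closed set keeps even-freeness. -/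
theorem evenFree_insert (ends : E → V × V) (T : Finset E) (h : EvenFree ends T) (A : Finset V)
    (hA : ∀ e ∈ T, ¬ (((ends e).1 ∈ A ∧ (ends e).2 ∉ A) ∨ ((ends e).1 ∉ A ∧ (ends e).2 ∈ A)))
    (e₀ : E) (he₀ : ((ends e₀).1 ∈ A ∧ (ends e₀).2 ∉ A) ∨ ((ends e₀).1 ∉ A ∧ (ends e₀).2 ∈ A)) :
    EvenFree ends (insert e₀ T) := by
  intro C hC hne
  by_contra hev
  push Not at hev
  by_cases he : e₀ ∈ C
  · have hpar := even_cross ends C A hev
    have : C.filter (fun e => ((ends e).1 ∈ A ∧ (ends e).2 ∉ A) ∨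
        ((ends e).1 ∉ A ∧ (ends e).2 ∈ A)) = {e₀} := by
      ext e
      simp only [Finset.mem_filter, Finset.mem_singleton]
      constructor
      · rintro ⟨h1, h2⟩
        rcases Finset.mem_insert.1 (hC h1) with h3 | h3
        · exact h3
        · exact absurd h2 (hA e h3)
      · rintro rfl
        exact ⟨he, he₀⟩
    rw [this] at hpar
    simp at hpar
  · have hsub : C ⊆ T := by
      intro e h1
      rcases Finset.mem_insert.1 (hC h1) with h3 | h3
      · exact absurd (h3 ▸ h1) he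
      · exact h3
    obtain ⟨v, hv⟩ := h C hsub hne
    exact hv (hev v)

/-- a maximal even-free set of `P`-edges connects everything `P`-edges connect. -/
theorem maximal_connects (ends : E → V × V) (P : E → Prop) (T : Finset E)
    (hT : Maximal (fun T : Finset E => (∀ e ∈ T, P e) ∧ EvenFree ends T) T) {v w : V}
    (h : Relation.ReflTransGen (AdjP ends P) v w) :
    Relation.ReflTransGen (AdjP ends (· ∈ T)) v w := by
  classical
  by_contra hnot
  set A : Finset V := Finset.univ.filter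
    (fun u => Relation.ReflTransGen (AdjP ends (· ∈ T)) v u) with hAdef
  have hvA : v ∈ A := by simp [hAdef, Relation.ReflTransGen.refl]
  have hwA : w ∉ A := by simp [hAdef, hnot]
  obtain ⟨e₀, hP, he₀⟩ := exists_crossP ends P A h hvA hwA
  have hclosed : ∀ e ∈ T,
      ¬ (((ends e).1 ∈ A ∧ (ends e).2 ∉ A) ∨ ((ends e).1 ∉ A ∧ (ends e).2 ∈ A)) := by
    intro e he hcr
    rcases hcr with ⟨h1, h2⟩ | ⟨h1, h2⟩
    · apply h2
      simp only [hAdef, Finset.mem_filter, Finset.mem_univ, true_and] at h1 ⊢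
      exact h1.tail ⟨e, he, Or.inl rfl⟩
    · apply h1
      simp only [hAdef, Finset.mem_filter, Finset.mem_univ, true_and] at h2 ⊢
      exact h2.tail ⟨e, he, Or.inr rfl⟩
  have he₀T : e₀ ∉ T := fun h1 => hclosed e₀ h1 he₀
  have hnew : (∀ e ∈ insert e₀ T, P e) ∧ EvenFree ends (insert e₀ T) := by
    refine ⟨?_, evenFree_insert ends T hT.1.2 A hclosed e₀ he₀⟩
    intro e he
    rcases Finset.mem_insert.1 he with rfl | h1
    · exact hP
    · exact hT.1.1 e h1
  have := hT.2 hnew (Finset.subset_insert _ _)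
  exact he₀T (this (Finset.mem_insert_self _ _))

end Par

section Main
variable [Fintype V] [Fintype E] [DecidableEq V] [DecidableEq E]

/-- for an elementary set there is a spanning tree with exactly one crossing edge. -/
theorem exists_tree_one_cross (ends : E → V × V) (hconn : Connected ends) (S : Finset V)
    (hS : IsElementary ends S) :
    ∃ T : Finset E, DualGr.IsTree (spanEnds ends T) ∧ kap ends Tᶜ S = 1 := by
  classical
  obtain ⟨hne, hpr⟩ := elementary_nonempty ends hS
  set P : E → Prop := fun e => ((ends e).1 ∈ S ∧ (ends e).2 ∈ S) ∨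
    ((ends e).1 ∉ S ∧ (ends e).2 ∉ S) with hP
  obtain ⟨F, -, hF⟩ := Finite.exists_le_maximal
    (p := fun T : Finset E => (∀ e ∈ T, P e) ∧ EvenFree ends T) (a := ∅)
    ⟨by simp, evenFree_empty ends⟩
  -- a crossing edge
  have hpos := cut_pos ends hconn S hne hpr
  unfold cut at hpos
  obtain ⟨e₀, he₀⟩ := Finset.card_pos.1 hpos
  rw [Finset.mem_filter] at he₀
  have he₀ := he₀.2
  have hFno : ∀ e ∈ F,
      ¬ (((ends e).1 ∈ S ∧ (ends e).2 ∉ S) ∨ ((ends e).1 ∉ S ∧ (ends e).2 ∈ S)) := by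
    intro e he hcr
    have := hF.1.1 e he
    simp only [hP] at this
    tauto
  have hev : EvenFree ends (insert e₀ F) := evenFree_insert ends F hF.1.2 S hFno e₀ he₀
  -- connectivity inside S and inside Sᶜ
  have hinS : ∀ v w, v ∈ S → w ∈ S →
      Relation.ReflTransGen (AdjP ends (· ∈ insert e₀ F)) v w := by
    intro v w hv hw
    have h1 := rtgP_of_ind ends S (hS.1.2 ⟨v, hv⟩ ⟨w, hw⟩)
    have h2 := rtgP_mono ends (Q := P) (fun e he => Or.inl he) h1
    exact rtgP_mono ends (fun e he => Finset.mem_insert_of_mem he) (maximal_connects ends P F hF h2)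
  have hinSc : ∀ v w, v ∉ S → w ∉ S →
      Relation.ReflTransGen (AdjP ends (· ∈ insert e₀ F)) v w := by
    intro v w hv hw
    have h1 := rtgP_of_ind ends Sᶜ (hS.2.2 ⟨v, Finset.mem_compl.2 hv⟩ ⟨w, Finset.mem_compl.2 hw⟩)
    have h2 := rtgP_mono ends (Q := P)
      (fun e he => Or.inr ⟨Finset.mem_compl.1 he.1, Finset.mem_compl.1 he.2⟩) h1
    exact rtgP_mono ends (fun e he => Finset.mem_insert_of_mem he) (maximal_connects ends P F hF h2)
  -- the two ends of e₀
  obtain ⟨s₀, t₀, hs₀, ht₀, hst⟩ : ∃ s₀ t₀, s₀ ∈ S ∧ t₀ ∉ S ∧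
      AdjP ends (· ∈ insert e₀ F) s₀ t₀ := by
    rcases he₀ with ⟨h1, h2⟩ | ⟨h1, h2⟩
    · exact ⟨_, _, h1, h2, e₀, Finset.mem_insert_self _ _, Or.inl rfl⟩
    · exact ⟨_, _, h2, h1, e₀, Finset.mem_insert_self _ _, Or.inr rfl⟩
  have hall : ∀ v w, Relation.ReflTransGen (AdjP ends (· ∈ insert e₀ F)) v w := by
    intro v w
    by_cases hv : v ∈ S <;> by_cases hw : w ∈ S
    · exact hinS v w hv hw
    · exact ((hinS v s₀ hv hs₀).tail hst).trans (hinSc t₀ w ht₀ hw)
    · exact ((hinSc v t₀ hv ht₀).tail (adjP_symm _ _ hst)).trans (hinS s₀ w hs₀ hw)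
    · exact hinSc v w hv hw
  refine ⟨insert e₀ F, ⟨⟨hconn.1, fun v w => rtg_span_of_rtgP ends _ (hall v w)⟩,
    forest_of_evenFree ends _ hev⟩, ?_⟩
  -- exactly one crossing edge
  unfold kap
  rw [← Finset.card_filter, Finset.card_eq_one]
  refine ⟨e₀, ?_⟩
  ext e
  simp only [Finset.mem_filter, Finset.mem_univ, true_and, Finset.mem_compl, not_not,
    Finset.mem_singleton]
  constructor
  · rintro ⟨h1, h2⟩
    rcases Finset.mem_insert.1 h1 with h3 | h3
    · exact h3
    · exact absurd h2 (hFno e h3)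
  · rintro rfl
    exact ⟨Finset.mem_insert_self _ _, he₀⟩

theorem main376 (ends : E → V × V)
    (hconn : LabGraph.Connected ends) (b : ℤ) (φ₁ φ₂ : V → ℝ) (h₁ : (∑ v : V, φ₁ v) = (b : ℝ))
    (h₂ : (∑ v : V, φ₂ v) = (b : ℝ)) (hnd : Nondegenerate ends φ₁) :
    (∀ (m : V → ℤ) (N : Finset E), totDeg m N = b → IsStable ends φ₁ m N →
      IsSemistable ends φ₂ m N) ↔ InClosedPolytope ends φ₁ φ₂ := by
  constructor
  · intro h S hS d hd
    obtain ⟨T, hT, hk⟩ := exists_tree_one_cross ends hconn S hS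
    obtain ⟨m, ⟨htot, hst⟩, -⟩ := main375 ends T hT b φ₁ h₁ hnd
    have hss := h m Tᶜ htot hst
    obtain ⟨hne, hpr⟩ := elementary_nonempty ends hS
    have hne' : Sᶜ.Nonempty := by
      rw [Finset.nonempty_iff_ne_empty]
      intro h0
      apply hpr
      rw [← compl_compl S, h0, Finset.compl_empty]
    have hpr' : Sᶜ ≠ Finset.univ := by
      intro h0
      obtain ⟨a, ha⟩ := hne
      have := Finset.mem_univ a
      rw [← h0] at this
      exact Finset.mem_compl.1 this ha
    have hdeg : (∑ v : V, φ₁ v) = (totDeg m Tᶜ : ℝ) := by rw [htot, h₁]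
    have e1 := beta_add_compl ends φ₁ m Tᶜ hdeg S
    rw [hk] at e1
    have s1 := hst S hne hpr
    have s2 := hst Sᶜ hne' hpr'
    have s3 := hss S hne hpr
    unfold beta at e1
    unfold ell at hd ⊢
    -- d ≥ degOn S
    have hge : degOn ends m Tᶜ S ≤ d := by
      have : ((degOn ends m Tᶜ S : ℤ) : ℝ) < (d : ℝ) + 1 := by
        push_cast at e1
        linarith
      have : degOn ends m Tᶜ S < d + 1 := by exact_mod_cast this
      omega
    have hge' : ((degOn ends m Tᶜ S : ℤ) : ℝ) ≤ (d : ℝ) := by exact_mod_cast hge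
    linarith
  · intro h m N htot hst
    have hdeg : (∑ v : V, φ₂ v) = (totDeg m N : ℝ) := by rw [htot, h₂]
    rw [(main374 ends hconn φ₂ m N hdeg).1]
    intro S hS
    obtain ⟨hne, hpr⟩ := elementary_nonempty ends hS
    have s1 := hst S hne hpr
    have := h S hS (degOn ends m N S) (by unfold ell; linarith)
    unfold ell at this
    linarith

end Main

end Groth.Agent.Helper27.Phi
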