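import Mathlib

/-! Valuation-theoretic steps: a ramified step (`ram_step`) and a residually inseparable step
(`res_step`). -/

set_option autoImplicit false

namespace Groth.Agent.Helper27.Pi

open IsLocalRing Polynomial

universe u

theorem ram_step (D' : Type u) [CommRing D'] [IsDomain D'] [IsDiscreteValuationRing D']
    (K₁ : Type u) [Field K₁] [Algebra D' K₁] [IsFractionRing D' K₁]
    (L : Type u) [Field L] [Algebra K₁ L] (π : D') (hπ : Irreducible π) (n : ℕ) (hn : 0 < n)
    (t : L) (V : ValuationSubring L)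
    (hqn : V.valuation t ^ n = V.valuation (algebraMap K₁ L (algebraMap D' K₁ π)))
    (hV : ∀ d : D', algebraMap K₁ L (algebraMap D' K₁ d) ∈ V)
    (hdom : V.valuation (algebraMap K₁ L (algebraMap D' K₁ π)) < 1) :
    V.valuation t < 1 ∧ V.valuation t ≠ 0 ∧
    ∀ c : ℕ → K₁, (∃ j < n, c j ≠ 0) →
      ∃ k : ℤ, V.valuation (∑ j ∈ Finset.range n, algebraMap K₁ L (c j) * t ^ j) =
          V.valuation t ^ k ∧
        (k = 0 → ∃ d : D', V.valuation ((∑ j ∈ Finset.range n, algebraMap K₁ L (c j) * t ^ j) -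
          algebraMap K₁ L (algebraMap D' K₁ d)) < 1) ∧
        ∀ j < n, V.valuation (algebraMap K₁ L (c j) * t ^ j) ≤
          V.valuation (∑ j ∈ Finset.range n, algebraMap K₁ L (c j) * t ^ j) := by
  classical
  have hinjD : Function.Injective (algebraMap D' K₁) := IsFractionRing.injective D' K₁
  have hinjK : Function.Injective (algebraMap K₁ L) := (algebraMap K₁ L).injective
  have hπK : algebraMap D' K₁ π ≠ 0 := fun h => hπ.ne_zero (hinjD (by rw [h, map_zero]))
  have hπL : algebraMap K₁ L (algebraMap D' K₁ π) ≠ 0 := fun h => hπK (hinjK (by rw [h, map_zero]))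
  have hq0 : V.valuation t ≠ 0 := by
    intro h
    rw [h, zero_pow hn.ne'] at hqn
    exact (Valuation.ne_zero_iff _).mpr hπL hqn.symm
  have hq0' : 0 < V.valuation t := zero_lt_iff.mpr hq0
  have hq1 : V.valuation t < 1 := by
    by_contra h
    push Not at h
    have h1 : 1 ≤ V.valuation t ^ n := one_le_pow₀ h
    rw [hqn] at h1
    exact absurd hdom (not_lt.mpr h1)
  refine ⟨hq1, hq0, ?_⟩
  -- units have valuation one
  have hunit : ∀ u : D'ˣ, V.valuation (algebraMap K₁ L (algebraMap D' K₁ (u : D'))) = 1 := by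
    intro u
    have h1 := (V.valuation_le_one_iff _).mpr (hV (u : D'))
    have h2 := (V.valuation_le_one_iff _).mpr (hV ((u⁻¹ : D'ˣ) : D'))
    have h3 : V.valuation (algebraMap K₁ L (algebraMap D' K₁ (u : D'))) *
        V.valuation (algebraMap K₁ L (algebraMap D' K₁ ((u⁻¹ : D'ˣ) : D'))) = 1 := by
      rw [← map_mul, ← map_mul, ← map_mul, Units.mul_inv, map_one, map_one, map_one]
    refine le_antisymm h1 ?_
    calc (1 : _) = V.valuation (algebraMap K₁ L (algebraMap D' K₁ (u : D'))) *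
        V.valuation (algebraMap K₁ L (algebraMap D' K₁ ((u⁻¹ : D'ˣ) : D'))) := h3.symm
      _ ≤ V.valuation (algebraMap K₁ L (algebraMap D' K₁ (u : D'))) * 1 := by gcongr
      _ = _ := mul_one _
  -- valuation on `K₁`
  have hvK : ∀ a : K₁, a ≠ 0 → ∃ m : ℤ, V.valuation (algebraMap K₁ L a) = V.valuation t ^ (n * m) ∧
      (m = 0 → ∃ d : D', algebraMap D' K₁ d = a) := by
    intro a ha
    obtain ⟨m, u, rfl⟩ := IsDiscreteValuationRing.exists_units_eq_smul_zpow_of_irreducible
      (K := K₁) hπ ha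
    refine ⟨m, ?_, ?_⟩
    · rw [Units.smul_def, Algebra.smul_def, map_mul, map_mul, hunit, one_mul, map_zpow₀, map_zpow₀,
        ← hqn, ← zpow_natCast, ← zpow_mul]
    · intro hm
      refine ⟨(u : D'), ?_⟩
      rw [hm, zpow_zero, Units.smul_def, Algebra.smul_def, mul_one]
  intro c hcne
  set x : L := ∑ j ∈ Finset.range n, algebraMap K₁ L (c j) * t ^ j with hc
  let J := (Finset.range n).filter (fun j => c j ≠ 0)
  have hJne : J.Nonempty := by
    obtain ⟨j, hj, hcj⟩ := hcne
    exact ⟨j, Finset.mem_filter.mpr ⟨Finset.mem_range.mpr hj, hcj⟩⟩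
  choose! m hm using hvK
  let k : ℕ → ℤ := fun j => n * m (c j) + j
  have hterm : ∀ j ∈ J, V.valuation (algebraMap K₁ L (c j) * t ^ j) = V.valuation t ^ (k j) := by
    intro j hj
    have hcj : c j ≠ 0 := (Finset.mem_filter.mp hj).2
    rw [map_mul, map_pow, (hm (c j) hcj).1, zpow_add₀ hq0, zpow_natCast]
  obtain ⟨j₀, hj₀, hmin⟩ := Finset.exists_min_image J k hJne
  have hj₀n : j₀ < n := Finset.mem_range.mp (Finset.mem_filter.mp hj₀).1
  have hlt : ∀ j ∈ Finset.range n \ {j₀}, V.valuation (algebraMap K₁ L (c j) * t ^ j) <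
      V.valuation (algebraMap K₁ L (c j₀) * t ^ j₀) := by
    intro j hj
    rw [Finset.mem_sdiff, Finset.mem_singleton] at hj
    obtain ⟨hjn, hjne⟩ := hj
    rw [hterm j₀ hj₀]
    by_cases hcj : c j = 0
    · rw [hcj, map_zero, zero_mul, map_zero]
      exact zero_lt_iff.mpr (zpow_ne_zero _ hq0)
    · have hjJ : j ∈ J := Finset.mem_filter.mpr ⟨hjn, hcj⟩
      rw [hterm j hjJ]
      apply zpow_lt_zpow_right_of_lt_one₀ hq0' hq1
      refine lt_of_le_of_ne (hmin j hjJ) ?_
      intro hk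
      apply hjne
      have hjn' : j < n := Finset.mem_range.mp hjn
      have h1 : ((k j₀) % (n : ℤ)) = ((k j) % (n : ℤ)) := by rw [hk]
      simp only [k] at h1
      rw [add_comm, Int.add_mul_emod_self_left, add_comm, Int.add_mul_emod_self_left] at h1
      have h2 : ((j₀ : ℤ) % (n : ℤ)) = j₀ := Int.emod_eq_of_lt (by positivity) (by exact_mod_cast hj₀n)
      have h3 : ((j : ℤ) % (n : ℤ)) = j := Int.emod_eq_of_lt (by positivity) (by exact_mod_cast hjn')
      rw [h2, h3] at h1
      exact_mod_cast h1.symm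
  have hvx : V.valuation x = V.valuation t ^ (k j₀) := by
    rw [hc, Valuation.map_sum_eq_of_lt _ (Finset.mem_range.mpr hj₀n) hlt, hterm j₀ hj₀]
  refine ⟨k j₀, hvx, ?_, ?_⟩
  swap
  · intro j hj
    by_cases hjj : j = j₀
    · rw [hjj, hvx, hterm j₀ hj₀]
    · have := hlt j (by rw [Finset.mem_sdiff, Finset.mem_singleton]; exact ⟨Finset.mem_range.mpr hj, hjj⟩)
      rw [hterm j₀ hj₀, ← hvx] at this
      exact this.le
  intro hk0
  have hcj₀ : c j₀ ≠ 0 := (Finset.mem_filter.mp hj₀).2
  have hj₀0 : j₀ = 0 := by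
    have h1 : ((k j₀) % (n : ℤ)) = 0 := by rw [hk0]; simp
    simp only [k] at h1
    rw [add_comm, Int.add_mul_emod_self_left] at h1
    have h2 : ((j₀ : ℤ) % (n : ℤ)) = j₀ := Int.emod_eq_of_lt (by positivity) (by exact_mod_cast hj₀n)
    rw [h2] at h1
    exact_mod_cast h1
  have hm0 : m (c j₀) = 0 := by
    have h1 : (n : ℤ) * m (c j₀) + (j₀ : ℤ) = 0 := hk0
    rw [hj₀0] at h1
    simp only [Nat.cast_zero, add_zero] at h1
    rcases mul_eq_zero.mp h1 with h | h
    · exact absurd (by exact_mod_cast h) hn.ne'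
    · rw [hj₀0]; exact h
  obtain ⟨d, hd⟩ := (hm (c j₀) hcj₀).2 hm0
  refine ⟨d, ?_⟩
  have hsplit : x - algebraMap K₁ L (algebraMap D' K₁ d) =
      ∑ j ∈ Finset.range n \ {j₀}, algebraMap K₁ L (c j) * t ^ j := by
    rw [hc, Finset.sum_eq_add_sum_sdiff_singleton_of_mem (Finset.mem_range.mpr hj₀n), hd, hj₀0,
      pow_zero, mul_one, add_sub_cancel_left]
  rw [hsplit]
  have h1 : V.valuation (algebraMap K₁ L (c j₀) * t ^ j₀) = 1 := by
    rw [hterm j₀ hj₀, hk0, zpow_zero]
  rw [← h1]
  exact Valuation.map_sum_lt _ (by rw [h1]; exact one_ne_zero) hlt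

/-- Residually inseparable step. -/
theorem res_step (B : Type u) [CommRing B] [IsLocalRing B]
    (F₁ : Type u) [Field F₁] (M : Type u) [Field M] [Algebra F₁ M] (β : B →+* F₁)
    (V : ValuationSubring M)
    (hβV : ∀ d : B, V.valuation (algebraMap F₁ M (β d)) ≤ 1)
    (hβm : ∀ d ∈ maximalIdeal B, V.valuation (algebraMap F₁ M (β d)) < 1)
    (hR1 : ∀ z : F₁, V.valuation (algebraMap F₁ M z) ≤ 1 →
      ∃ d : B, V.valuation (algebraMap F₁ M z - algebraMap F₁ M (β d)) < 1)
    (p : ℕ) (hp : p.Prime) (b : B) (hb : ∀ c : ResidueField B, c ^ p ≠ residue B b)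
    (ϑ : M) (hϑ : V.valuation (ϑ ^ p - algebraMap F₁ M (β b)) < 1) :
    ∀ y : ℕ → F₁, (∃ j < p, y j ≠ 0) →
      ∃ j₀ < p, y j₀ ≠ 0 ∧ V.valuation (∑ j ∈ Finset.range p, algebraMap F₁ M (y j) * ϑ ^ j) =
        V.valuation (algebraMap F₁ M (y j₀)) := by
  classical
  set v := V.valuation with hv
  let βM : B →+* M := (algebraMap F₁ M).comp β
  have hβM : ∀ d, βM d = algebraMap F₁ M (β d) := fun d => rfl
  -- units of B have valuation one
  have hunitv : ∀ d : B, IsUnit d → v (βM d) = 1 := by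
    intro d hd
    obtain ⟨u, rfl⟩ := hd
    have h1 := hβV (u : B)
    have h2 := hβV ((u⁻¹ : Bˣ) : B)
    have h3 : v (βM (u : B)) * v (βM ((u⁻¹ : Bˣ) : B)) = 1 := by
      rw [← map_mul, ← map_mul, Units.mul_inv, map_one, map_one]
    refine le_antisymm h1 ?_
    calc (1 : _) = v (βM (u : B)) * v (βM ((u⁻¹ : Bˣ) : B)) := h3.symm
      _ ≤ v (βM (u : B)) * 1 := by gcongr; exact h2
      _ = _ := mul_one _
  have hbunit : IsUnit b := by
    by_contra hnu
    have : residue B b = 0 := (residue_eq_zero_iff b).mpr hnu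
    exact hb 0 (by rw [this, zero_pow hp.ne_zero])
  have hvb : v (βM b) = 1 := hunitv b hbunit
  -- v ϑ = 1
  have hvϑp : v (ϑ ^ p) = 1 := by
    have : ϑ ^ p = (ϑ ^ p - βM b) + βM b := by ring
    rw [this, add_comm]
    rw [Valuation.map_add_eq_of_lt_left]
    · exact hvb
    · rw [hvb]; exact hϑ
  have hvϑ : v ϑ = 1 := by
    rw [map_pow] at hvϑp
    rcases lt_trichotomy (v ϑ) 1 with h | h | h
    · exact absurd hvϑp (ne_of_lt (pow_lt_one₀ zero_le' h hp.ne_zero))
    · exact h
    · exact absurd hvϑp (ne_of_gt (one_lt_pow₀ h hp.ne_zero))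
  -- polynomial evaluation bounds
  have heval_le : ∀ q : B[X], v (eval₂ βM ϑ q) ≤ 1 := by
    intro q
    rw [eval₂_eq_sum_range]
    apply Valuation.map_sum_le
    intro i _
    rw [map_mul, map_pow, hvϑ, one_pow, mul_one]
    exact hβV _
  have heval_lt : ∀ q : B[X], q.map (residue B) = 0 → v (eval₂ βM ϑ q) < 1 := by
    intro q hq
    rw [eval₂_eq_sum_range]
    apply Valuation.map_sum_lt _ one_ne_zero
    intro i _
    rw [map_mul, map_pow, hvϑ, one_pow, mul_one]
    apply hβm
    have : (q.map (residue B)).coeff i = 0 := by rw [hq]; simp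
    rwa [coeff_map, residue_eq_zero_iff] at this
  -- the key claim
  have hkey : ∀ z : ℕ → F₁, (∀ j < p, v (algebraMap F₁ M (z j)) ≤ 1) →
      (∃ j < p, v (algebraMap F₁ M (z j)) = 1) →
      v (∑ j ∈ Finset.range p, algebraMap F₁ M (z j) * ϑ ^ j) = 1 := by
    intro z hz1 ⟨j₁, hj₁, hzj₁⟩
    have hle : v (∑ j ∈ Finset.range p, algebraMap F₁ M (z j) * ϑ ^ j) ≤ 1 := by
      apply Valuation.map_sum_le
      intro i hi
      rw [map_mul, map_pow, hvϑ, one_pow, mul_one]
      exact hz1 i (Finset.mem_range.mp hi)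
    refine le_antisymm hle ?_
    by_contra hlt
    push Not at hlt
    -- choose approximations
    have hex : ∀ j, ∃ d : B, j < p → v (algebraMap F₁ M (z j) - βM d) < 1 := by
      intro j
      by_cases hj : j < p
      · obtain ⟨d, hd⟩ := hR1 (z j) (hz1 j hj)
        exact ⟨d, fun _ => hd⟩
      · exact ⟨0, fun h => absurd h hj⟩
    choose d hd using hex
    let G : B[X] := ∑ j ∈ Finset.range p, C (d j) * X ^ j
    have hGcoeff : ∀ j < p, G.coeff j = d j := by
      intro j hj
      simp only [G, finset_sum_coeff, coeff_C_mul, coeff_X_pow]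
      rw [Finset.sum_eq_single j]
      · simp
      · intro i _ hij; rw [if_neg (Ne.symm hij), mul_zero]
      · intro h; exact absurd (Finset.mem_range.mpr hj) h
    have hGdeg : G.degree < p := by
      apply lt_of_le_of_lt (degree_sum_le _ _)
      rw [Finset.sup_lt_iff (by exact_mod_cast WithBot.bot_lt_coe p)]
      intro j hj
      calc (C (d j) * X ^ j : B[X]).degree ≤ (C (d j) : B[X]).degree + (X ^ j : B[X]).degree :=
            degree_mul_le _ _
        _ ≤ 0 + j := add_le_add degree_C_le (degree_X_pow_le j)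
        _ = j := zero_add _
        _ < p := by exact_mod_cast Finset.mem_range.mp hj
    have hGeval : eval₂ βM ϑ G = ∑ j ∈ Finset.range p, βM (d j) * ϑ ^ j := by
      simp only [G, eval₂_finset_sum, eval₂_mul, eval₂_C, eval₂_X_pow]
    have hvG : v (eval₂ βM ϑ G) < 1 := by
      have : eval₂ βM ϑ G = (∑ j ∈ Finset.range p, algebraMap F₁ M (z j) * ϑ ^ j) -
          ∑ j ∈ Finset.range p, (algebraMap F₁ M (z j) - βM (d j)) * ϑ ^ j := by
        rw [hGeval, ← Finset.sum_sub_distrib]
        refine Finset.sum_congr rfl fun j _ => ?_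
        ring
      rw [this]
      apply lt_of_le_of_lt (Valuation.map_sub _ _ _)
      apply max_lt hlt
      apply Valuation.map_sum_lt _ one_ne_zero
      intro j hj
      rw [map_mul, map_pow, hvϑ, one_pow, mul_one]
      exact hd j (Finset.mem_range.mp hj)
    have hdj₁ : IsUnit (d j₁) := by
      by_contra hnu
      have h1 : v (βM (d j₁)) < 1 := hβm _ hnu
      have h2 := hd j₁ hj₁
      have : algebraMap F₁ M (z j₁) = (algebraMap F₁ M (z j₁) - βM (d j₁)) + βM (d j₁) := by ring
      rw [this] at hzj₁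
      have h3 := Valuation.map_add_lt v h2 h1
      rw [hzj₁] at h3
      exact lt_irrefl _ h3
    let Gb : (ResidueField B)[X] := G.map (residue B)
    have hGb0 : Gb ≠ 0 := by
      intro h0
      have : Gb.coeff j₁ = 0 := by rw [h0]; simp
      rw [coeff_map, hGcoeff j₁ hj₁, residue_eq_zero_iff] at this
      exact this hdj₁
    have hGbdeg : Gb.degree < p := lt_of_le_of_lt degree_map_le hGdeg
    let H : B[X] := X ^ p - C b
    let Hb : (ResidueField B)[X] := X ^ p - C (residue B b)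
    have hHmap : H.map (residue B) = Hb := by
      simp only [H, Hb, Polynomial.map_sub, Polynomial.map_pow, map_X, map_C]
    have hHbirr : Irreducible Hb := X_pow_sub_C_irreducible_of_prime hp hb
    have hHbdeg : Hb.degree = p := degree_X_pow_sub_C hp.pos _
    have hcop : IsCoprime Gb Hb := by
      rw [isCoprime_comm]
      refine (hHbirr.coprime_iff_not_dvd).mpr ?_
      intro hdvd
      have := degree_le_of_dvd hdvd hGb0
      rw [hHbdeg] at this
      exact absurd hGbdeg (not_lt.mpr this)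
    obtain ⟨r, s, hrs⟩ := hcop
    obtain ⟨R, hR⟩ := map_surjective (residue B) residue_surjective r
    obtain ⟨S, hS⟩ := map_surjective (residue B) residue_surjective s
    let E : B[X] := R * G + S * H - 1
    have hEmap : E.map (residue B) = 0 := by
      simp only [E, Polynomial.map_sub, Polynomial.map_add, Polynomial.map_mul, Polynomial.map_one,
        hR, hS, hHmap]
      rw [show G.map (residue B) = Gb from rfl, hrs, sub_self]
    have hvE := heval_lt E hEmap
    have hvH : v (eval₂ βM ϑ H) < 1 := by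
      simp only [H, eval₂_sub, eval₂_X_pow, eval₂_C]
      exact hϑ
    have hEeval : eval₂ βM ϑ E = eval₂ βM ϑ R * eval₂ βM ϑ G + eval₂ βM ϑ S * eval₂ βM ϑ H - 1 := by
      simp only [E, eval₂_sub, eval₂_add, eval₂_mul, eval₂_one]
    have h1 : v (eval₂ βM ϑ R * eval₂ βM ϑ G + eval₂ βM ϑ S * eval₂ βM ϑ H) < 1 := by
      apply Valuation.map_add_lt
      · rw [map_mul]
        calc v (eval₂ βM ϑ R) * v (eval₂ βM ϑ G) ≤ 1 * v (eval₂ βM ϑ G) := by
              gcongr; exact heval_le R
          _ = v (eval₂ βM ϑ G) := one_mul _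
          _ < 1 := hvG
      · rw [map_mul]
        calc v (eval₂ βM ϑ S) * v (eval₂ βM ϑ H) ≤ 1 * v (eval₂ βM ϑ H) := by
              gcongr; exact heval_le S
          _ = v (eval₂ βM ϑ H) := one_mul _
          _ < 1 := hvH
    have h2 : (1 : M) = (eval₂ βM ϑ R * eval₂ βM ϑ G + eval₂ βM ϑ S * eval₂ βM ϑ H) -
        eval₂ βM ϑ E := by rw [hEeval]; ring
    have h3 : v (1 : M) < 1 := by
      rw [h2]
      exact lt_of_le_of_lt (Valuation.map_sub _ _ _) (max_lt h1 hvE)
    rw [map_one] at h3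
    exact lt_irrefl _ h3
  -- normalise
  intro y hy
  let J := (Finset.range p).filter (fun j => y j ≠ 0)
  have hJne : J.Nonempty := by
    obtain ⟨j, hj, hyj⟩ := hy
    exact ⟨j, Finset.mem_filter.mpr ⟨Finset.mem_range.mpr hj, hyj⟩⟩
  obtain ⟨j₀, hj₀, hmax⟩ := Finset.exists_max_image J (fun j => v (algebraMap F₁ M (y j))) hJne
  have hj₀p : j₀ < p := Finset.mem_range.mp (Finset.mem_filter.mp hj₀).1
  have hyj₀ : y j₀ ≠ 0 := (Finset.mem_filter.mp hj₀).2
  have hyj₀M : algebraMap F₁ M (y j₀) ≠ 0 := fun h =>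
    hyj₀ ((algebraMap F₁ M).injective (by rw [h, map_zero]))
  have hvy0 : v (algebraMap F₁ M (y j₀)) ≠ 0 := (Valuation.ne_zero_iff _).mpr hyj₀M
  refine ⟨j₀, hj₀p, hyj₀, ?_⟩
  let z : ℕ → F₁ := fun j => y j / y j₀
  have hzle : ∀ j < p, v (algebraMap F₁ M (z j)) ≤ 1 := by
    intro j hj
    simp only [z]
    rw [map_div₀, map_div₀, div_le_one₀ (zero_lt_iff.mpr hvy0)]
    by_cases hyj : y j = 0
    · rw [hyj, map_zero, map_zero]; exact zero_le'
    · exact hmax j (Finset.mem_filter.mpr ⟨Finset.mem_range.mpr hj, hyj⟩)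
  have hz0 : v (algebraMap F₁ M (z j₀)) = 1 := by
    simp only [z]
    rw [div_self hyj₀, map_one, map_one]
  have hmain := hkey z hzle ⟨j₀, hj₀p, hz0⟩
  have hfact : ∑ j ∈ Finset.range p, algebraMap F₁ M (y j) * ϑ ^ j =
      algebraMap F₁ M (y j₀) * ∑ j ∈ Finset.range p, algebraMap F₁ M (z j) * ϑ ^ j := by
    rw [Finset.mul_sum]
    refine Finset.sum_congr rfl fun j _ => ?_
    simp only [z]
    rw [map_div₀]
    field_simp
  rw [hfact, map_mul, hmain, mul_one]

end Groth.Agent.Helper27.Pi
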