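import Mathlib
import Groth.Agent.Lib.Helper27.PiA

/-! DVR-level facts for a purely inseparable extension of prime degree. -/

set_option autoImplicit false

namespace Groth.Agent.Helper27.Pi

open IsLocalRing Polynomial

universe u

section Field

variable (p : ℕ) (hp : p.Prime) (L M : Type u) [Field L] [Field M] [Algebra L M]
  [IsPurelyInseparable L M] (hdeg : Module.finrank L M = p)

include hp hdeg in
lemma expChar_of_pi : ExpChar L p := by
  haveI : FiniteDimensional L M := Module.finite_of_finrank_pos (by rw [hdeg]; exact hp.pos)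
  obtain ⟨q, hq⟩ := ExpChar.exists L
  obtain ⟨n, hn⟩ := IsPurelyInseparable.finrank_eq_pow (F := L) M q
  rw [hdeg] at hn
  have hqp : q = p := by
    cases hq with
    | zero =>
      rw [one_pow] at hn
      exact absurd hn hp.one_lt.ne'
    | prime hq' =>
      have hdvd : q ∣ p := by
        rw [hn]
        apply dvd_pow_self
        intro h0
        rw [h0, pow_zero] at hn
        exact hp.one_lt.ne' hn
      exact (Nat.prime_dvd_prime_iff_eq hq' hp).mp hdvd
  rw [← hqp]; exact hq

include hp hdeg in
lemma charP_of_pi : CharP L p := by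
  have h := expChar_of_pi p hp L M hdeg
  cases h with
  | zero => exact absurd hp Nat.not_prime_one
  | prime _ => assumption

include hp hdeg in
lemma pow_mem_range (x : M) : ∃ l : L, x ^ p = algebraMap L M l := by
  haveI := expChar_of_pi p hp L M hdeg
  haveI : FiniteDimensional L M := Module.finite_of_finrank_pos (by rw [hdeg]; exact hp.pos)
  obtain ⟨n, y, hxy⟩ := IsPurelyInseparable.minpoly_eq_X_pow_sub_C L p x
  have hdvd : (minpoly L x).natDegree ∣ p := by
    rw [← hdeg]; exact minpoly.degree_dvd (Algebra.IsIntegral.isIntegral x)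
  have hnd : (minpoly L x).natDegree = p ^ n := by
    rw [hxy, natDegree_sub_C, natDegree_X_pow]
  rw [hnd] at hdvd
  have hroot : x ^ p ^ n = algebraMap L M y := by
    have := minpoly.aeval L x
    rw [hxy] at this
    simpa [sub_eq_zero] using this
  rcases (Nat.dvd_prime hp).mp hdvd with h1 | h1
  · -- p ^ n = 1
    rw [h1, pow_one] at hroot
    exact ⟨y ^ p, by rw [hroot, map_pow]⟩
  · rw [h1] at hroot
    exact ⟨y, hroot⟩

end Field

section Val

variable (C M : Type u) [CommRing C] [IsDomain C] [ValuationRing C] [Field M] [Algebra C M]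
  [IsFractionRing C M]

/-- The valuation subring of the fraction field attached to a valuation ring. -/
noncomputable def valSub : ValuationSubring M :=
  { (algebraMap C M).range with
    mem_or_inv_mem' := fun x => by
      rcases ValuationRing.isInteger_or_isInteger C x with ⟨c, hc⟩ | ⟨c, hc⟩
      · exact Or.inl ⟨c, hc⟩
      · exact Or.inr ⟨c, hc⟩ }

lemma mem_valSub (x : M) : x ∈ valSub C M ↔ ∃ c : C, algebraMap C M c = x := Iff.rfl

end Val

lemma val_lt_one_iff {M : Type u} [Field M] (V : ValuationSubring M) (x : M) :
    V.valuation x < 1 ↔ x = 0 ∨ x⁻¹ ∉ V := by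
  by_cases hx : x = 0
  · simp [hx]
  · simp only [hx, false_or]
    rw [← V.valuation_le_one_iff, map_inv₀, not_le]
    have h0 : 0 < V.valuation x := zero_lt_iff.mpr ((Valuation.ne_zero_iff _).mpr hx)
    rw [one_lt_inv₀ h0]

lemma val_algebraMap_lt_one_iff (C M : Type u) [CommRing C] [IsDomain C] [ValuationRing C]
    [Field M] [Algebra C M] [IsFractionRing C M] (c : C) :
    (valSub C M).valuation (algebraMap C M c) < 1 ↔ c ∈ maximalIdeal C := by
  rw [val_lt_one_iff, mem_maximalIdeal, mem_nonunits_iff]
  have hinj := IsFractionRing.injective C M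
  constructor
  · rintro (h | h)
    · have : c = 0 := hinj (by rw [h, map_zero])
      rw [this]; exact not_isUnit_zero
    · intro hu
      apply h
      obtain ⟨u, rfl⟩ := hu
      have : algebraMap C M (u : C) * algebraMap C M ((u⁻¹ : Cˣ) : C) = 1 := by
        rw [← map_mul, Units.mul_inv, map_one]
      exact ⟨((u⁻¹ : Cˣ) : C), eq_inv_of_mul_eq_one_right this⟩
  · intro hnu
    by_cases hc : c = 0
    · left; rw [hc, map_zero]
    · right
      rintro ⟨c', hc'⟩
      apply hnu
      have hcM : algebraMap C M c ≠ 0 := fun h => hc (hinj (by rw [h, map_zero]))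
      have : c * c' = 1 := hinj (by rw [map_mul, hc', map_one, mul_inv_cancel₀ hcM])
      exact IsUnit.of_mul_eq_one c' this

end Groth.Agent.Helper27.Pi
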