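import Mathlib
import Groth.Agent.Lib.Helper27.PiB

/-! Analysis of `B ⊆ C` DVRs with purely inseparable fraction field extension of prime degree. -/

set_option autoImplicit false

namespace Groth.Agent.Helper27.Pi

open IsLocalRing Polynomial

universe u

/-- Polynomial representation of elements of a simple algebraic extension. -/
lemma exists_repr_of_mem_adjoin (F M : Type u) [Field F] [Field M] [Algebra F M] (t : M) (P : F[X])
    (hP : P.Monic) (hPt : aeval t P = 0) (x : M) (hx : x ∈ IntermediateField.adjoin F {t}) :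
    ∃ c : ℕ → F, x = ∑ j ∈ Finset.range P.natDegree, algebraMap F M (c j) * t ^ j := by
  have halg : IsAlgebraic F t := ⟨P, hP.ne_zero, hPt⟩
  have h1 : x ∈ (IntermediateField.adjoin F {t}).toSubalgebra := hx
  rw [IntermediateField.adjoin_simple_toSubalgebra_of_isAlgebraic halg,
    Algebra.adjoin_singleton_eq_range_aeval] at h1
  obtain ⟨q, rfl⟩ := h1
  by_cases hP1 : P = 1
  · rw [hP1] at hPt
    simp only [map_one] at hPt
    exact absurd hPt one_ne_zero
  have hmod : aeval t q = aeval t (q %ₘ P) := by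
    conv_lhs => rw [← modByMonic_add_div q P]
    rw [map_add, map_mul, hPt, zero_mul, add_zero]
  have hdeg : (q %ₘ P).natDegree < P.natDegree := natDegree_modByMonic_lt q hP hP1
  refine ⟨fun j => (q %ₘ P).coeff j, ?_⟩
  show aeval t q = _
  rw [hmod, aeval_eq_sum_range' hdeg]
  refine Finset.sum_congr rfl fun j _ => ?_
  rw [Algebra.smul_def]

/-- Representation from linear independence and a dimension count. -/
lemma exists_repr_of_li (L M : Type u) [Field L] [Field M] [Algebra L M] (n : ℕ)
    (hfin : Module.finrank L M = n) (hn : 0 < n) (t : M)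
    (hli : ∀ c : ℕ → L, (∑ j ∈ Finset.range n, algebraMap L M (c j) * t ^ j) = 0 →
      ∀ j < n, c j = 0) :
    ∀ x : M, ∃ c : ℕ → L, x = ∑ j ∈ Finset.range n, algebraMap L M (c j) * t ^ j := by
  haveI : FiniteDimensional L M := Module.finite_of_finrank_pos (by rw [hfin]; exact hn)
  have hlin : LinearIndependent L (fun j : Fin n => t ^ (j : ℕ)) := by
    rw [Fintype.linearIndependent_iff]
    intro g hg i
    let c : ℕ → L := fun j => if h : j < n then g ⟨j, h⟩ else 0
    have h1 : ∑ j ∈ Finset.range n, algebraMap L M (c j) * t ^ j = 0 := by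
      rw [← hg, ← Fin.sum_univ_eq_sum_range (fun j => algebraMap L M (c j) * t ^ j) n]
      refine Finset.sum_congr rfl fun j _ => ?_
      simp only [c, j.2, dif_pos, Fin.eta, Algebra.smul_def]
    have := hli c h1 i i.2
    simpa only [c, i.2, dif_pos, Fin.eta] using this
  have hspan := hlin.span_eq_top_of_card_eq_finrank' (by rw [Fintype.card_fin, hfin])
  intro x
  have hx : x ∈ Submodule.span L (Set.range fun j : Fin n => t ^ (j : ℕ)) := by
    rw [hspan]; trivial
  rw [Submodule.mem_span_range_iff_exists_fun] at hx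
  obtain ⟨g, hg⟩ := hx
  refine ⟨fun j => if h : j < n then g ⟨j, h⟩ else 0, ?_⟩
  rw [← hg, ← Fin.sum_univ_eq_sum_range
    (fun j => algebraMap L M (if h : j < n then g ⟨j, h⟩ else 0) * t ^ j) n]
  refine Finset.sum_congr rfl fun j _ => ?_
  simp only [j.2, dif_pos, Fin.eta, Algebra.smul_def]

section

variable (p : ℕ) (hp : p.Prime) (B C L M : Type u)
  [CommRing B] [IsDomain B] [IsDiscreteValuationRing B]
  [CommRing C] [IsDomain C] [IsDiscreteValuationRing C]
  [Algebra B C] (hBC : Function.Injective (algebraMap B C)) [IsLocalHom (algebraMap B C)]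
  [Field L] [Field M] [Algebra B L] [IsFractionRing B L] [Algebra C M] [IsFractionRing C M]
  [Algebra L M] [Algebra B M] [IsScalarTower B L M] [IsScalarTower B C M]

lemma mem_B_of_mem_C (l : L) (c : C) (h : algebraMap C M c = algebraMap L M l) :
    ∃ b : B, algebraMap B L b = l := by
  by_cases hl : l = 0
  · exact ⟨0, by rw [hl, map_zero]⟩
  rcases ValuationRing.isInteger_or_isInteger B l with ⟨b, hb⟩ | ⟨b, hb⟩
  · exact ⟨b, hb⟩
  · by_cases hbu : IsUnit b
    · obtain ⟨u, rfl⟩ := hbu
      refine ⟨((u⁻¹ : Bˣ) : B), ?_⟩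
      have h1 : algebraMap B L (u : B) * algebraMap B L ((u⁻¹ : Bˣ) : B) = 1 := by
        rw [← map_mul, Units.mul_inv, map_one]
      rw [hb] at h1
      have := eq_inv_of_mul_eq_one_right h1
      rw [inv_inv] at this
      exact this
    · exfalso
      have h1 : c * algebraMap B C b = 1 := by
        apply IsFractionRing.injective C M
        rw [map_mul, h, ← IsScalarTower.algebraMap_apply B C M, IsScalarTower.algebraMap_apply B L M,
          hb, ← map_mul, mul_inv_cancel₀ hl, map_one, map_one]
      have h2 : IsUnit (algebraMap B C b) := IsUnit.of_mul_eq_one c (by rw [mul_comm]; exact h1)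
      exact hbu (isUnit_of_map_unit (algebraMap B C) b h2)

variable [IsPurelyInseparable L M] (hdeg : Module.finrank L M = p)

include hp hdeg in
lemma pow_mem_B (c : C) : ∃ b : B, c ^ p = algebraMap B C b := by
  obtain ⟨l, hl⟩ := pow_mem_range p hp L M hdeg (algebraMap C M c)
  rw [← map_pow] at hl
  obtain ⟨b, rfl⟩ := mem_B_of_mem_C B C L M l (c ^ p) hl
  refine ⟨b, ?_⟩
  apply IsFractionRing.injective C M
  rw [hl, ← IsScalarTower.algebraMap_apply B L M, IsScalarTower.algebraMap_apply B C M]

include hp hdeg hBC in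
lemma ram_dichotomy (ϖB : B) (hϖB : Irreducible ϖB) (ϖC : C) (hϖC : Irreducible ϖC) :
    Associated (algebraMap B C ϖB) ϖC ∨ ∃ v : Bˣ, ϖC ^ p = algebraMap B C ((v : B) * ϖB) := by
  have hx0 : algebraMap B C ϖB ≠ 0 := fun h => hϖB.ne_zero (hBC (by rw [h, map_zero]))
  obtain ⟨e, he⟩ := IsDiscreteValuationRing.associated_pow_irreducible hx0 hϖC
  obtain ⟨b, hb⟩ := pow_mem_B p hp B C L M hdeg ϖC
  have hb0 : b ≠ 0 := by
    intro h
    rw [h, map_zero] at hb
    exact hϖC.ne_zero (pow_eq_zero_iff hp.ne_zero |>.mp hb)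
  obtain ⟨j, hj⟩ := IsDiscreteValuationRing.associated_pow_irreducible hb0 hϖB
  obtain ⟨w, hw⟩ := he.symm
  -- hw : ϖC ^ e * w = algebraMap ϖB
  obtain ⟨v, hv⟩ := hj.symm
  -- hv : ϖB ^ j * v = b
  have hvC : IsUnit (algebraMap B C (v : B)) := (v.isUnit).map _
  obtain ⟨v', hv'⟩ := hvC
  have hkey : ((1 : Cˣ) : C) * ϖC ^ p = ((w ^ j * v' : Cˣ) : C) * ϖC ^ (e * j) := by
    rw [Units.val_one, one_mul, Units.val_mul, Units.val_pow_eq_pow_val, hb, ← hv, map_mul, map_pow,
      ← hw, hv', mul_pow, pow_mul]
    ring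
  have hpej : p = e * j := IsDiscreteValuationRing.unit_mul_pow_congr_pow hϖC hϖC _ _ _ _ hkey
  have hedvd : e ∣ p := ⟨j, hpej⟩
  rcases (Nat.dvd_prime hp).mp hedvd with h1 | h1
  · left
    rw [h1, pow_one] at he
    exact he
  · right
    have hj1 : j = 1 := by
      rw [h1] at hpej
      have : p * 1 = p * j := by rw [mul_one]; exact hpej
      exact (Nat.eq_of_mul_eq_mul_left hp.pos this).symm
    refine ⟨v, ?_⟩
    rw [hb, ← hv, hj1, pow_one, mul_comm]

include hp hdeg hBC in
lemma repr_of_pow_eq (ϖB : B) (hϖB : Irreducible ϖB) (u : Bˣ) (c : C)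
    (hc : c ^ p = algebraMap B C ((u : B) * ϖB)) :
    ∀ x : M, ∃ c' : ℕ → L, x = ∑ j ∈ Finset.range p, algebraMap L M (c' j) * (algebraMap C M c) ^ j := by
  set π' : B := (u : B) * ϖB with hπ'
  have hπ'irr : Irreducible π' := by
    have : Associated ϖB π' := ⟨u, by rw [hπ', mul_comm]⟩
    exact this.irreducible hϖB
  let V := valSub C M
  set t : M := algebraMap C M c with ht
  have hcomp : ∀ d : B, algebraMap L M (algebraMap B L d) = algebraMap C M (algebraMap B C d) := by
    intro d
    rw [← IsScalarTower.algebraMap_apply B L M, IsScalarTower.algebraMap_apply B C M]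
  have hqn : V.valuation t ^ p = V.valuation (algebraMap L M (algebraMap B L π')) := by
    rw [← map_pow, ht, ← map_pow, hc, hcomp]
  have hV : ∀ d : B, algebraMap L M (algebraMap B L d) ∈ V := by
    intro d; rw [hcomp]; exact ⟨_, rfl⟩
  have hdom : V.valuation (algebraMap L M (algebraMap B L π')) < 1 := by
    rw [hcomp, val_algebraMap_lt_one_iff]
    exact map_nonunit (algebraMap B C) π' hπ'irr.not_isUnit
  obtain ⟨hq1, hq0, hram⟩ := ram_step B L M π' hπ'irr p hp.pos t V hqn hV hdom
  have hq0' : 0 < V.valuation t := zero_lt_iff.mpr hq0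
  -- linear independence
  have hli : ∀ c' : ℕ → L, (∑ j ∈ Finset.range p, algebraMap L M (c' j) * t ^ j) = 0 →
      ∀ j < p, c' j = 0 := by
    intro c' hsum j hj
    by_contra hne
    obtain ⟨k, hk, -, -⟩ := hram c' ⟨j, hj, hne⟩
    rw [hsum, map_zero] at hk
    exact zpow_ne_zero k hq0 hk.symm
  exact exists_repr_of_li L M p hdeg hp.pos t hli

include hp hdeg hBC in
lemma adjoin_eq_top (ϖB : B) (hϖB : Irreducible ϖB) (u : Bˣ) (c : C)
    (hc : c ^ p = algebraMap B C ((u : B) * ϖB)) : Algebra.adjoin B {c} = ⊤ := by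
  set π' : B := (u : B) * ϖB with hπ'
  have hπ'irr : Irreducible π' := by
    have : Associated ϖB π' := ⟨u, by rw [hπ', mul_comm]⟩
    exact this.irreducible hϖB
  let V := valSub C M
  set t : M := algebraMap C M c with ht
  have hcomp : ∀ d : B, algebraMap L M (algebraMap B L d) = algebraMap C M (algebraMap B C d) := by
    intro d
    rw [← IsScalarTower.algebraMap_apply B L M, IsScalarTower.algebraMap_apply B C M]
  have hqn : V.valuation t ^ p = V.valuation (algebraMap L M (algebraMap B L π')) := by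
    rw [← map_pow, ht, ← map_pow, hc, hcomp]
  have hV : ∀ d : B, algebraMap L M (algebraMap B L d) ∈ V := by
    intro d; rw [hcomp]; exact ⟨_, rfl⟩
  have hdom : V.valuation (algebraMap L M (algebraMap B L π')) < 1 := by
    rw [hcomp, val_algebraMap_lt_one_iff]
    exact map_nonunit (algebraMap B C) π' hπ'irr.not_isUnit
  obtain ⟨hq1, hq0, hram⟩ := ram_step B L M π' hπ'irr p hp.pos t V hqn hV hdom
  have hq0' : 0 < V.valuation t := zero_lt_iff.mpr hq0
  -- linear independence
  have hli : ∀ c' : ℕ → L, (∑ j ∈ Finset.range p, algebraMap L M (c' j) * t ^ j) = 0 →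
      ∀ j < p, c' j = 0 := by
    intro c' hsum j hj
    by_contra hne
    obtain ⟨k, hk, -, -⟩ := hram c' ⟨j, hj, hne⟩
    rw [hsum, map_zero] at hk
    exact zpow_ne_zero k hq0 hk.symm
  have hrep := exists_repr_of_li L M p hdeg hp.pos t hli
  -- every element of C is in the adjoin
  rw [eq_top_iff]
  intro x _
  obtain ⟨c', hc'⟩ := hrep (algebraMap C M x)
  have hcoef : ∀ j < p, ∃ b : B, algebraMap B L b = c' j := by
    intro j hj
    by_cases hcj : c' j = 0
    · exact ⟨0, by rw [hcj, map_zero]⟩
    have hall : ∃ j < p, c' j ≠ 0 := ⟨j, hj, hcj⟩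
    obtain ⟨k, hk, -, hle⟩ := hram c' hall
    have h1 := hle j hj
    rw [← hc'] at h1
    have hx1 : V.valuation (algebraMap C M x) ≤ 1 := (V.valuation_le_one_iff _).mpr ⟨x, rfl⟩
    have h2 : V.valuation (algebraMap L M (c' j)) * V.valuation t ^ j ≤ 1 := by
      rw [← map_pow, ← map_mul]; exact h1.trans hx1
    rcases ValuationRing.isInteger_or_isInteger B (c' j) with ⟨b, hb⟩ | ⟨b, hb⟩
    · exact ⟨b, hb⟩
    · by_cases hbu : IsUnit b
      · obtain ⟨u', rfl⟩ := hbu
        refine ⟨((u'⁻¹ : Bˣ) : B), ?_⟩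
        have h3 : algebraMap B L (u' : B) * algebraMap B L ((u'⁻¹ : Bˣ) : B) = 1 := by
          rw [← map_mul, Units.mul_inv, map_one]
        rw [hb] at h3
        have := eq_inv_of_mul_eq_one_right h3
        rw [inv_inv] at this
        exact this
      · exfalso
        -- b ∈ m_B so b = π' * b'
        have hbm : b ∈ maximalIdeal B := hbu
        rw [(IsDiscreteValuationRing.irreducible_iff_uniformizer π').mp hπ'irr,
          Ideal.mem_span_singleton] at hbm
        obtain ⟨b', rfl⟩ := hbm
        have hvb : V.valuation (algebraMap L M (algebraMap B L (π' * b'))) ≤ V.valuation t ^ p := by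
          rw [map_mul, map_mul, map_mul, hqn]
          calc _ ≤ V.valuation (algebraMap L M (algebraMap B L π')) * 1 := by
                gcongr
                exact (V.valuation_le_one_iff _).mpr (hV b')
            _ = _ := mul_one _
        rw [hb, map_inv₀, map_inv₀] at hvb
        have hcjM : V.valuation (algebraMap L M (c' j)) ≠ 0 := by
          rw [Valuation.ne_zero_iff]
          intro h; exact hcj ((algebraMap L M).injective (by rw [h, map_zero]))
        have h4 : 1 ≤ V.valuation (algebraMap L M (c' j)) * V.valuation t ^ p := by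
          rw [inv_le_iff_one_le_mul₀' (zero_lt_iff.mpr hcjM)] at hvb
          exact hvb
        have h5 : V.valuation t ^ p < V.valuation t ^ j := pow_lt_pow_right_of_lt_one₀ hq0' hq1 hj
        have h6 : V.valuation (algebraMap L M (c' j)) * V.valuation t ^ p <
            V.valuation (algebraMap L M (c' j)) * V.valuation t ^ j :=
          mul_lt_mul_of_pos_left h5 (zero_lt_iff.mpr hcjM)
        exact absurd (lt_of_le_of_lt h4 h6) (not_lt.mpr h2)
  choose! bb hbb using hcoef
  have hx : x = ∑ j ∈ Finset.range p, algebraMap B C (bb j) * c ^ j := by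
    apply IsFractionRing.injective C M
    rw [hc', map_sum]
    refine Finset.sum_congr rfl fun j hj => ?_
    rw [map_mul, map_pow, ← hcomp, hbb j (Finset.mem_range.mp hj)]
  rw [hx]
  apply Subalgebra.sum_mem
  intro j _
  apply Subalgebra.mul_mem
  · exact Subalgebra.algebraMap_mem (Algebra.adjoin B {c}) (bb j)
  · exact Subalgebra.pow_mem _ (Algebra.subset_adjoin (Set.mem_singleton c)) j

end

end Groth.Agent.Helper27.Pi
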