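import Mathlib
import Groth.Agent.Lib.Helper27.PiC

/-! The Nagata argument: if the unit `u` is a `p`-th power "in the completion" then `π` has a
`p`-th root in `C`. -/

set_option autoImplicit false

namespace Groth.Agent.Helper27.Pi

open IsLocalRing Polynomial

universe u

section

variable (p : ℕ) (hp : p.Prime) (B C L M : Type u)
  [CommRing B] [IsDomain B] [IsDiscreteValuationRing B]
  [CommRing C] [IsDomain C] [IsDiscreteValuationRing C]
  [Algebra B C] (hBC : Function.Injective (algebraMap B C)) [IsLocalHom (algebraMap B C)]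
  [Field L] [Field M] [Algebra B L] [IsFractionRing B L] [Algebra C M] [IsFractionRing C M]
  [Algebra L M] [Algebra B M] [IsScalarTower B L M] [IsScalarTower B C M]
  [IsPurelyInseparable L M] (hdeg : Module.finrank L M = p)

include hp hdeg hBC in
theorem exists_root_of_approx
    (hNag : ∀ (N : Type u) [Field N] [Algebra L N] [Algebra B N] [IsScalarTower B L N]
      [FiniteDimensional L N], Module.Finite B (integralClosure B N))
    (π : B) (hπ : Irreducible π) (u : Bˣ) (πC : C) (hπC : πC ^ p = algebraMap B C ((u : B) * π))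
    (happ : ∀ m : ℕ, ∃ (bs : ℕ → B) (b : B),
      (u : B) = ∑ i ∈ Finset.range m, bs i ^ p * π ^ i + b * π ^ m) :
    ∃ c : C, c ^ p = algebraMap B C π := by
  classical
  by_contra hno
  push Not at hno
  haveI hcharL : CharP L p := charP_of_pi p hp L M hdeg
  haveI : Fact p.Prime := ⟨hp⟩
  haveI hfinLM : FiniteDimensional L M := Module.finite_of_finrank_pos (by rw [hdeg]; exact hp.pos)
  -- π is not a p-th power in M
  have hnoM : ∀ y : M, y ^ p ≠ algebraMap B M π := by
    intro y hy
    have hyint : IsIntegral C y := by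
      refine ⟨X ^ p - Polynomial.C (algebraMap B C π), monic_X_pow_sub_C _ hp.ne_zero, ?_⟩
      rw [eval₂_sub, eval₂_X_pow, eval₂_C, hy, ← IsScalarTower.algebraMap_apply, sub_self]
    obtain ⟨c, rfl⟩ := IsIntegrallyClosed.isIntegral_iff.mp hyint
    apply hno c
    apply IsFractionRing.injective C M
    rw [map_pow, hy, ← IsScalarTower.algebraMap_apply]
  let f : M[X] := X ^ p - Polynomial.C (algebraMap B M π)
  have hfmonic : f.Monic := monic_X_pow_sub_C _ hp.ne_zero
  have hfdeg : f.natDegree = p := natDegree_X_pow_sub_C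
  have hfirr : Irreducible f := X_pow_sub_C_irreducible_of_prime hp hnoM
  haveI : Fact (Irreducible f) := ⟨hfirr⟩
  let N := AdjoinRoot f
  haveI : IsScalarTower B L N := inferInstance
  haveI : IsScalarTower L M N := inferInstance
  haveI : IsScalarTower B M N := inferInstance
  haveI hfinMN : FiniteDimensional M N := hfmonic.finite_adjoinRoot
  haveI hfinLN : FiniteDimensional L N := Module.Finite.trans M N
  haveI hcharN : CharP N p := charP_of_injective_algebraMap (algebraMap L N).injective p
  have hDfin : Module.Finite B (integralClosure B N) := hNag N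
  let ϖ : N := AdjoinRoot.root f
  have hπN0 : algebraMap B N π ≠ 0 := by
    intro h
    have hinj : Function.Injective (algebraMap B N) := by
      rw [IsScalarTower.algebraMap_eq B L N]
      exact (algebraMap L N).injective.comp (IsFractionRing.injective B L)
    exact hπ.ne_zero (hinj (by rw [h, map_zero]))
  have hϖ : ϖ ^ p = algebraMap B N π := by
    have h := AdjoinRoot.eval₂_root f
    simp only [f, eval₂_sub, eval₂_X_pow, eval₂_C] at h
    rw [sub_eq_zero] at h
    rw [h, IsScalarTower.algebraMap_apply B M N]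
    rfl
  have hϖ0 : ϖ ≠ 0 := by
    intro h
    rw [h, zero_pow hp.ne_zero] at hϖ
    exact hπN0 hϖ.symm
  set πCN : N := algebraMap M N (algebraMap C M πC) with hπCNdef
  have hπCN : πCN ^ p = algebraMap B N ((u : B) * π) := by
    rw [hπCNdef, ← map_pow, ← map_pow, hπC, ← IsScalarTower.algebraMap_apply B C M,
      ← IsScalarTower.algebraMap_apply B M N]
  let D := integralClosure B N
  have hϖD : ϖ ∈ D := by
    refine ⟨X ^ p - Polynomial.C π, monic_X_pow_sub_C _ hp.ne_zero, ?_⟩
    rw [eval₂_sub, eval₂_X_pow, eval₂_C, hϖ, sub_self]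
  have hπCND : πCN ∈ D := by
    refine ⟨X ^ p - Polynomial.C ((u : B) * π), monic_X_pow_sub_C _ hp.ne_zero, ?_⟩
    rw [eval₂_sub, eval₂_X_pow, eval₂_C, hπCN, sub_self]
  -- key decomposition
  have hdecomp : ∀ k : ℕ, ∃ e ∈ Algebra.adjoin B {ϖ}, ∃ d ∈ D,
      πCN = e + algebraMap B N (π ^ k) * d := by
    intro k
    obtain ⟨bs, b, hub⟩ := happ (p * k)
    set m := p * k with hm
    let e : N := ∑ i ∈ Finset.range m, algebraMap B N (bs i) * ϖ ^ (i + 1)
    have heE : e ∈ Algebra.adjoin B {ϖ} := by
      apply Subalgebra.sum_mem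
      intro i _
      apply Subalgebra.mul_mem
      · exact Subalgebra.algebraMap_mem _ _
      · exact Subalgebra.pow_mem _ (Algebra.subset_adjoin (Set.mem_singleton ϖ)) _
    let t : N := πCN - e
    have hBeq : (u : B) * π - ∑ i ∈ Finset.range m, bs i ^ p * π ^ (i + 1) = b * π ^ (m + 1) := by
      have h1 : ∑ i ∈ Finset.range m, bs i ^ p * π ^ (i + 1) =
          (∑ i ∈ Finset.range m, bs i ^ p * π ^ i) * π := by
        rw [Finset.sum_mul]; exact Finset.sum_congr rfl fun i _ => by ring
      rw [h1]
      conv_lhs => rw [hub]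
      ring
    have htp : t ^ p = algebraMap B N (b * π ^ (m + 1)) := by
      rw [← hBeq, map_sub, map_sum]
      simp only [t, e]
      rw [sub_pow_char, sum_pow_char, hπCN]
      congr 1
      refine Finset.sum_congr rfl fun i _ => ?_
      rw [mul_pow, ← pow_mul, mul_comm (i + 1) p, pow_mul, hϖ, map_mul, map_pow, map_pow]
    let d : N := t / ϖ ^ m
    have hϖm : ϖ ^ m = algebraMap B N (π ^ k) := by
      rw [hm, pow_mul, hϖ, map_pow]
    have hdp : d ^ p = algebraMap B N (b * π) := by
      have h1 : (ϖ ^ m) ^ p = algebraMap B N π ^ m := by rw [← pow_mul, mul_comm, pow_mul, hϖ]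
      simp only [d]
      rw [div_pow, htp, h1, map_mul, map_mul, map_pow, pow_succ]
      rw [show algebraMap B N b * (algebraMap B N π ^ m * algebraMap B N π) =
        algebraMap B N π ^ m * (algebraMap B N b * algebraMap B N π) by ring,
        mul_div_cancel_left₀ _ (pow_ne_zero m hπN0)]
    have hdD : d ∈ D := by
      refine ⟨X ^ p - Polynomial.C (b * π), monic_X_pow_sub_C _ hp.ne_zero, ?_⟩
      rw [eval₂_sub, eval₂_X_pow, eval₂_C, hdp, sub_self]
    refine ⟨e, heE, d, hdD, ?_⟩
    have hdt : ϖ ^ m * d = t := by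
      simp only [d]
      rw [← mul_div_assoc, mul_div_cancel_left₀ _ (pow_ne_zero m hϖ0)]
    rw [← hϖm, hdt]
    simp only [t]
    ring
  -- Krull intersection
  let Em : Submodule B N := Subalgebra.toSubmodule (Algebra.adjoin B {ϖ})
  let E₀ : Submodule B D := Submodule.comap D.val.toLinearMap Em
  let Q := D ⧸ E₀
  haveI : Module.Finite B D := hDfin
  let x₀ : D := ⟨πCN, hπCND⟩
  let I : Ideal B := Ideal.span {π}
  have hI : I ≠ ⊤ := by
    have : I = maximalIdeal B := ((IsDiscreteValuationRing.irreducible_iff_uniformizer π).mp hπ).symm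
    rw [this]; exact Ideal.IsMaximal.ne_top inferInstance
  have hq : E₀.mkQ x₀ ∈ (⨅ i : ℕ, I ^ i • ⊤ : Submodule B Q) := by
    rw [Submodule.mem_iInf]
    intro k
    obtain ⟨e, heE, d, hdD, hed⟩ := hdecomp k
    have h1 : E₀.mkQ x₀ = (π ^ k) • E₀.mkQ ⟨d, hdD⟩ := by
      rw [← map_smul, eq_comm, ← sub_eq_zero, ← map_sub, Submodule.mkQ_apply,
        Submodule.Quotient.mk_eq_zero]
      show D.val.toLinearMap (π ^ k • (⟨d, hdD⟩ : D) - x₀) ∈ Em
      have : D.val.toLinearMap (π ^ k • (⟨d, hdD⟩ : D) - x₀) = -e := by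
        show (π ^ k) • d - πCN = -e
        rw [hed, Algebra.smul_def]; ring
      rw [this]
      exact Submodule.neg_mem _ heE
    rw [h1]
    exact Submodule.smul_mem_smul (Ideal.pow_mem_pow (Ideal.mem_span_singleton_self π) k)
      Submodule.mem_top
  rw [Ideal.iInf_pow_smul_eq_bot_of_isLocalRing I hI, Submodule.mem_bot, Submodule.mkQ_apply,
    Submodule.Quotient.mk_eq_zero] at hq
  have hπCNE : πCN ∈ Algebra.adjoin B {ϖ} := hq
  -- dimension count
  let F : IntermediateField L N := IntermediateField.adjoin L {ϖ}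
  have hϖF : ϖ ∈ F := IntermediateField.mem_adjoin_simple_self L ϖ
  have hadjF : ∀ x ∈ Algebra.adjoin B {ϖ}, x ∈ F := by
    intro x hx
    induction hx using Algebra.adjoin_induction with
    | mem y hy => rw [Set.mem_singleton_iff] at hy; rw [hy]; exact hϖF
    | algebraMap r =>
      rw [IsScalarTower.algebraMap_apply B L N]
      exact F.algebraMap_mem _
    | add x y _ _ hx hy => exact F.add_mem hx hy
    | mul x y _ _ hx hy => exact F.mul_mem hx hy
  have hπCNF : πCN ∈ F := hadjF _ hπCNE
  have hMF : ∀ y : M, algebraMap M N y ∈ F := by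
    intro y
    obtain ⟨c', hc'⟩ := repr_of_pow_eq p hp B C L M hBC hdeg π hπ u πC hπC y
    rw [hc', map_sum]
    refine F.sum_mem fun j _ => ?_
    rw [map_mul, map_pow, ← IsScalarTower.algebraMap_apply L M N]
    exact F.mul_mem (F.algebraMap_mem _) (pow_mem hπCNF j)
  have hFtop : F = ⊤ := by
    rw [eq_top_iff]
    intro x _
    obtain ⟨q, rfl⟩ := AdjoinRoot.mk_surjective x
    rw [← AdjoinRoot.aeval_eq, aeval_eq_sum_range]
    refine F.sum_mem fun i _ => ?_
    rw [Algebra.smul_def]
    exact F.mul_mem (hMF _) (pow_mem hϖF i)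
  have hϖint : IsIntegral L ϖ := by
    refine ⟨X ^ p - Polynomial.C (algebraMap B L π), monic_X_pow_sub_C _ hp.ne_zero, ?_⟩
    rw [eval₂_sub, eval₂_X_pow, eval₂_C, hϖ, ← IsScalarTower.algebraMap_apply B L N, sub_self]
  have hFrank : Module.finrank L F ≤ p := by
    rw [IntermediateField.adjoin.finrank hϖint]
    have hdvd : minpoly L ϖ ∣ X ^ p - Polynomial.C (algebraMap B L π) := by
      apply minpoly.dvd
      rw [map_sub, map_pow, aeval_X, aeval_C, hϖ, ← IsScalarTower.algebraMap_apply B L N, sub_self]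
    have := natDegree_le_of_dvd hdvd (monic_X_pow_sub_C _ hp.ne_zero).ne_zero
    rwa [natDegree_X_pow_sub_C] at this
  have hNrank : Module.finrank L N = p * p := by
    rw [← Module.finrank_mul_finrank L M N, hdeg]
    congr 1
    rw [(AdjoinRoot.powerBasis hfirr.ne_zero).finrank, AdjoinRoot.powerBasis_dim, hfdeg]
  rw [hFtop, IntermediateField.finrank_top', hNrank] at hFrank
  have : p ≤ 1 := by
    by_contra h
    push Not at h
    nlinarith [hp.two_le]
  exact absurd hp.one_lt (not_lt.mpr this)

end

end Groth.Agent.Helper27.Pi
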