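import Mathlib
import Groth.Prelude.Def_Found
import Groth.Prelude.Def_EtRam
import Groth.Agent.Lib.Helper27.PiD
import Groth.Agent.Lib.Helper22.EisTot

/-! Nagata transport, weak-unramifiedness criterion, and the `B`-side valuation computation. -/

set_option autoImplicit false

namespace Groth.Agent.Helper27.Pi

open IsLocalRing Polynomial

universe u

/-- unpacking `CAlg.IsNagata` for a domain with a chosen fraction field. -/
theorem nagata_finite (B L : Type u) [CommRing B] [IsDomain B] [Field L] [Algebra B L]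
    [IsFractionRing B L] (hB : CAlg.IsNagata B) (N : Type u) [Field N] [Algebra L N] [Algebra B N]
    [IsScalarTower B L N] [FiniteDimensional L N] : Module.Finite B (integralClosure B N) := by
  haveI : (⊥ : Ideal B).IsPrime := Ideal.isPrime_bot
  have h := hB.2 ⊥
  let e : B ≃+* (B ⧸ (⊥ : Ideal B)) := (RingEquiv.quotientBot B).symm
  letI iQN : Algebra (B ⧸ (⊥ : Ideal B)) N := ((algebraMap B N).comp e.symm.toRingHom).toAlgebra
  have hQN : ∀ q : B ⧸ (⊥ : Ideal B), algebraMap (B ⧸ (⊥ : Ideal B)) N q = algebraMap B N (e.symm q) :=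
    fun _ => rfl
  haveI : IsScalarTower B (B ⧸ (⊥ : Ideal B)) N := IsScalarTower.of_algebraMap_eq (fun b => by
    show algebraMap B N b = algebraMap (B ⧸ (⊥ : Ideal B)) N (e b)
    rw [hQN, e.symm_apply_apply])
  have hinjBN : Function.Injective (algebraMap B N) := by
    rw [IsScalarTower.algebraMap_eq B L N]
    exact (algebraMap L N).injective.comp (IsFractionRing.injective B L)
  have hinj : Function.Injective (algebraMap (B ⧸ (⊥ : Ideal B)) N) := by
    intro a b hab
    rw [hQN, hQN] at hab
    exact e.symm.injective (hinjBN hab)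
  letI iFN : Algebra (FractionRing (B ⧸ (⊥ : Ideal B))) N := (IsFractionRing.lift hinj).toAlgebra
  haveI : IsScalarTower (B ⧸ (⊥ : Ideal B)) (FractionRing (B ⧸ (⊥ : Ideal B))) N :=
    IsScalarTower.of_algebraMap_eq (fun q => (IsFractionRing.lift_algebraMap hinj q).symm)
  let σ : L ≃+* FractionRing (B ⧸ (⊥ : Ideal B)) := IsFractionRing.ringEquivOfRingEquiv e
  have hσ : ∀ a : L, algebraMap (FractionRing (B ⧸ (⊥ : Ideal B))) N (σ a) = algebraMap L N a := by
    have : ((algebraMap (FractionRing (B ⧸ (⊥ : Ideal B))) N).comp σ.toRingHom) = algebraMap L N := by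
      apply IsLocalization.ringHom_ext (nonZeroDivisors B)
      ext b
      simp only [RingHom.coe_comp, Function.comp_apply, RingEquiv.toRingHom_eq_coe, RingHom.coe_coe]
      rw [show σ (algebraMap B L b) = algebraMap _ _ (e b) from
        IsFractionRing.ringEquivOfRingEquiv_algebraMap e b]
      rw [← IsScalarTower.algebraMap_apply, hQN, e.symm_apply_apply, ← IsScalarTower.algebraMap_apply]
    intro a
    exact congrArg (fun f => f a) this
  haveI : FiniteDimensional (FractionRing (B ⧸ (⊥ : Ideal B))) N := by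
    refine Module.Finite.of_equiv_equiv (A₁ := L) (B₁ := N) σ (RingEquiv.refl N) ?_
    ext a
    exact hσ a
  have hfin : Module.Finite (B ⧸ (⊥ : Ideal B)) (integralClosure (B ⧸ (⊥ : Ideal B)) N) :=
    h N inferInstance
  have hfin' : (Subalgebra.toSubmodule (integralClosure (B ⧸ (⊥ : Ideal B)) N)).FG :=
    (Module.Finite.iff_fg (N := Subalgebra.toSubmodule (integralClosure (B ⧸ (⊥ : Ideal B)) N))).mp hfin
  refine (Module.Finite.iff_fg (N := Subalgebra.toSubmodule (integralClosure B N))).mpr ?_
  obtain ⟨S, hS⟩ := hfin'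
  refine ⟨S, ?_⟩
  have hsurj : Function.Surjective (algebraMap B (B ⧸ (⊥ : Ideal B))) := Ideal.Quotient.mk_surjective
  have h1 := Submodule.restrictScalars_span B (B ⧸ (⊥ : Ideal B)) hsurj (S : Set N)
  rw [← h1, hS]
  ext x
  simp only [Submodule.restrictScalars_mem, Subalgebra.mem_toSubmodule, mem_integralClosure_iff]
  haveI : Algebra.IsIntegral B (B ⧸ (⊥ : Ideal B)) := Algebra.isIntegral_of_surjective hsurj
  exact ⟨fun hx => isIntegral_trans x hx, fun hx => hx.tower_top⟩

/-- criterion for `W ∩ K₁ → W` to be weakly unramified: all values are powers of the value of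
an element of `K₁` of value `< 1`. -/
theorem weaklyUnramified_of_val {K₁ Ω : Type u} [Field K₁] [Field Ω] (W : ValuationSubring Ω)
    (f : K₁ →+* Ω) (θ : K₁) (hθ : W.valuation (f θ) < 1)
    (hval : ∀ x : Ω, x ≠ 0 → ∃ k : ℤ, W.valuation x = W.valuation (f θ) ^ k) :
    letI : Algebra (W.comap f) W := (EtRam.inclOfComap W f).toAlgebra
    EtRam.IsWeaklyUnramified (W.comap f) W := by
  letI : Algebra (W.comap f) W := (EtRam.inclOfComap W f).toAlgebra
  show Ideal.map (algebraMap (W.comap f) W) (maximalIdeal _) = maximalIdeal W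
  have hθmem : f θ ∈ W := by
    rw [← ValuationSubring.valuation_le_one_iff]; exact hθ.le
  let θ' : W.comap f := ⟨θ, hθmem⟩
  have hθ'm : θ' ∈ maximalIdeal (W.comap f) := by
    rw [mem_maximalIdeal, mem_nonunits_iff]
    intro hu
    have h1 : IsUnit (EtRam.inclOfComap W f θ') := hu.map _
    rw [ValuationSubring.valuation_eq_one_iff] at h1
    have h2 : W.valuation (f θ) = 1 := h1
    exact absurd h2 hθ.ne
  apply le_antisymm
  · exact ((IsLocalRing.local_hom_TFAE (algebraMap (W.comap f) W)).out 0 2).mp
      (EtRam.isLocalHom_inclOfComap W f)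
  · intro x hx
    by_cases hx0 : (x : Ω) = 0
    · have : x = 0 := Subtype.ext hx0
      rw [this]; exact Ideal.zero_mem _
    have hxv : W.valuation (x : Ω) < 1 := (ValuationSubring.valuation_lt_one_iff W x).mp hx
    obtain ⟨k, hk⟩ := hval x hx0
    have hxv0 : W.valuation (x : Ω) ≠ 0 := (Valuation.ne_zero_iff _).mpr hx0
    set t := W.valuation (f θ) with ht
    have ht0 : t ≠ 0 := by
      intro h0
      rw [h0] at hk
      rcases eq_or_ne k 0 with rfl | hk0
      · rw [zpow_zero] at hk; exact absurd hk hxv.ne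
      · rw [zero_zpow k hk0] at hk; exact hxv0 hk
    have hfθ0 : f θ ≠ 0 := (Valuation.ne_zero_iff _).mp ht0
    -- the quotient x / fθ lies in W
    have hq : (x : Ω) / f θ ∈ W := by
      rw [← ValuationSubring.valuation_le_one_iff, map_div₀, hk, ← ht]
      rcases k with n | n
      · rcases n with _ | n
        · simp only [Int.ofNat_eq_natCast, Nat.cast_zero, zpow_zero] at hk
          exact absurd hk hxv.ne
        · simp only [Int.ofNat_eq_natCast, zpow_natCast]
          rw [pow_succ, mul_div_assoc, div_self ht0, mul_one]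
          exact pow_le_one₀ zero_le hθ.le
      · exfalso
        rw [zpow_negSucc] at hk
        have h1 : t ^ (n + 1) ≤ 1 := pow_le_one₀ zero_le hθ.le
        have h2 : 0 < t ^ (n + 1) := by
          rw [zero_lt_iff]; exact pow_ne_zero _ ht0
        have h3 : (1 : _) ≤ (t ^ (n + 1))⁻¹ := (one_le_inv₀ h2).mpr h1
        rw [← hk] at h3
        exact absurd hxv (not_lt.mpr h3)
    have hxeq : x = algebraMap (W.comap f) W θ' * ⟨(x : Ω) / f θ, hq⟩ := by
      apply Subtype.ext
      show (x : Ω) = f θ * ((x : Ω) / f θ)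
      rw [mul_div_cancel₀ _ hfθ0]
    rw [hxeq]
    exact Ideal.mul_mem_right _ _ (Ideal.mem_map_of_mem _ hθ'm)

end Groth.Agent.Helper27.Pi
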