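import Mathlib
import Groth.Agent.Lib.Helper27.PiE

/-! The `B`-side valuation computation for the Eisenstein-type extension `θ^p = π + π^n θ`. -/

set_option autoImplicit false

namespace Groth.Agent.Helper27.Pi

open IsLocalRing Polynomial

universe u

open Groth.Agent.Helper22.EisTot in
theorem bside (p : ℕ) (hp : p.Prime) (B L : Type u) [CommRing B] [IsDomain B]
    [IsDiscreteValuationRing B] [Field L] [Algebra B L] [IsFractionRing B L]
    (Ω : Type u) [Field Ω] [Algebra L Ω] (W : ValuationSubring Ω) (πB : B) (hπB : Irreducible πB)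
    (n : ℕ) (hn : 2 ≤ n) (θ : Ω)
    (hθ : θ ^ p = algebraMap L Ω (algebraMap B L πB) + algebraMap L Ω (algebraMap B L πB) ^ n * θ)
    (hW : ∀ d : B, algebraMap L Ω (algebraMap B L d) ∈ W)
    (hdom : W.valuation (algebraMap L Ω (algebraMap B L πB)) < 1) :
    W.valuation θ < 1 ∧ W.valuation θ ≠ 0 ∧
      W.valuation θ ^ p = W.valuation (algebraMap L Ω (algebraMap B L πB)) ∧
      ∀ x ∈ IntermediateField.adjoin L {θ}, x ≠ 0 →
        ∃ k : ℤ, W.valuation x = W.valuation θ ^ k ∧
          (W.valuation x ≤ 1 → ∃ d : B, W.valuation (x - algebraMap L Ω (algebraMap B L d)) < 1) := by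
  set v := W.valuation with hv
  set π' : Ω := algebraMap L Ω (algebraMap B L πB) with hπ'
  have hπ'0 : π' ≠ 0 := by
    intro h
    have h1 : algebraMap B L πB = 0 := (algebraMap L Ω).injective (by rw [← hπ', h, map_zero])
    exact hπB.ne_zero ((IsFractionRing.injective B L) (by rw [h1, map_zero]))
  have hvπ0 : v π' ≠ 0 := (Valuation.ne_zero_iff _).mpr hπ'0
  have hp2 : 2 ≤ p := hp.two_le
  -- v θ ≤ 1
  have hθle : v θ ≤ 1 := by
    by_contra hcon
    push Not at hcon
    have h1 : v (θ ^ p) ≤ v θ := by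
      rw [hθ]
      refine le_trans (Valuation.map_add _ _ _) (max_le ?_ ?_)
      · exact le_trans hdom.le hcon.le
      · rw [map_mul, map_pow]
        calc v π' ^ n * v θ ≤ 1 * v θ := by
              gcongr
              exact pow_le_one₀ zero_le hdom.le
          _ = v θ := one_mul _
    rw [map_pow] at h1
    have h2 : v θ < v θ ^ p := by
      calc v θ = v θ ^ 1 := (pow_one _).symm
        _ < v θ ^ p := pow_lt_pow_right₀ hcon (by omega)
    exact absurd h1 (not_le.mpr h2)
  -- v(θ^p) = v π'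
  have hpow : v θ ^ p = v π' := by
    rw [← map_pow, hθ]
    apply Valuation.map_add_eq_of_lt_left
    rw [map_mul, map_pow]
    calc v π' ^ n * v θ ≤ v π' ^ n * 1 := by gcongr
      _ = v π' ^ n := mul_one _
      _ < v π' ^ 1 := pow_lt_pow_right_of_lt_one₀ (zero_lt_iff.mpr hvπ0) hdom (by omega)
      _ = v π' := pow_one _
  obtain ⟨h1, h2, h3⟩ := ram_step B L Ω πB hπB p hp.pos θ W hpow hW hdom
  refine ⟨h1, h2, hpow, ?_⟩
  intro x hx hx0
  -- representation
  have hq : 2 ≤ p := hp2
  set P : L[X] := (eisPoly πB n p).map (algebraMap B L) with hP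
  have hPm : P.Monic := (eisPoly_monic πB n p hq).map _
  have hPd : P.natDegree = p := by
    rw [hP, (eisPoly_monic πB n p hq).natDegree_map, eisPoly_natDegree πB n p hq]
  have hPθ : aeval θ P = 0 := by
    rw [hP, aeval_def, eval₂_map]
    unfold eisPoly
    simp only [eval₂_sub, eval₂_add, eval₂_mul, eval₂_pow, eval₂_X, eval₂_C, RingHom.comp_apply,
      map_pow]
    rw [← hπ', hθ]
    ring
  obtain ⟨c, hc⟩ := exists_repr_of_mem_adjoin L Ω θ P hPm hPθ x hx
  rw [hPd] at hc
  have hcne : ∃ j < p, c j ≠ 0 := by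
    by_contra hall
    push Not at hall
    apply hx0
    rw [hc]
    apply Finset.sum_eq_zero
    intro j hj
    rw [hall j (Finset.mem_range.mp hj), map_zero, zero_mul]
  obtain ⟨k, hk1, hk2, -⟩ := h3 c hcne
  rw [← hc] at hk1 hk2
  refine ⟨k, hk1, ?_⟩
  intro hxle
  rcases eq_or_ne k 0 with hk0 | hk0
  · exact hk2 hk0
  · refine ⟨0, ?_⟩
    rw [map_zero, map_zero, sub_zero, hk1]
    rw [hk1] at hxle
    rcases k with m | m
    · rcases m with _ | m
      · exact absurd rfl hk0
      · simp only [Int.ofNat_eq_natCast, zpow_natCast]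
        exact pow_lt_one₀ zero_le h1 (by omega)
    · exfalso
      rw [zpow_negSucc] at hxle
      have h4 : v θ ^ (m + 1) < 1 := pow_lt_one₀ zero_le h1 (by omega)
      have h5 : 0 < v θ ^ (m + 1) := by
        rw [zero_lt_iff]; exact pow_ne_zero _ h2
      have h6 : 1 < (v θ ^ (m + 1))⁻¹ := (one_lt_inv₀ h5).mpr h4
      exact absurd hxle (not_le.mpr h6)

end Groth.Agent.Helper27.Pi
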