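import Mathlib
import Groth.Agent.Lib.Helper27.PiF

/-! The `C`-side valuation computation. -/

set_option autoImplicit false

namespace Groth.Agent.Helper27.Pi

open IsLocalRing Polynomial

universe u

theorem cside (p : ℕ) (hp : p.Prime) (B L : Type u) [CommRing B] [IsDomain B]
    [IsDiscreteValuationRing B] [Field L] [Algebra B L] [IsFractionRing B L] [CharP L p]
    (Ω : Type u) [Field Ω] [Algebra L Ω] (W : ValuationSubring Ω) (πB : B) (hπB : Irreducible πB)
    (u : B) (m : ℕ) (bs : ℕ → B) (b : B)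
    (hu : u = ∑ i ∈ Finset.range m, bs i ^ p * πB ^ i + b * πB ^ m)
    (hb : ∀ c : ResidueField B, c ^ p ≠ residue B b)
    (θ ϖ : Ω)
    (hθ : θ ^ p = algebraMap L Ω (algebraMap B L πB) +
      algebraMap L Ω (algebraMap B L πB) ^ (m + 2) * θ)
    (hϖ : ϖ ^ p = algebraMap L Ω (algebraMap B L (u * πB)))
    (hW : ∀ d : B, algebraMap L Ω (algebraMap B L d) ∈ W)
    (hWm : ∀ d ∈ maximalIdeal B, W.valuation (algebraMap L Ω (algebraMap B L d)) < 1)
    (htop : IntermediateField.adjoin L {θ, ϖ} = ⊤) :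
    W.valuation θ < 1 ∧ ∀ x : Ω, x ≠ 0 → ∃ k : ℤ, W.valuation x = W.valuation θ ^ k := by
  classical
  haveI : Fact p.Prime := ⟨hp⟩
  haveI : CharP Ω p := charP_of_injective_algebraMap (algebraMap L Ω).injective p
  set v := W.valuation with hv
  let ι : B →+* Ω := (algebraMap L Ω).comp (algebraMap B L)
  have hι : ∀ d, algebraMap L Ω (algebraMap B L d) = ι d := fun _ => rfl
  simp only [hι] at hθ hϖ hW hWm
  set π' := ι πB with hπ'
  have hdom : v π' < 1 :=
    hWm πB (by rw [mem_maximalIdeal, mem_nonunits_iff]; exact hπB.not_isUnit)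
  obtain ⟨hθ1, hθ0, hpow, hF⟩ := bside p hp B L Ω W πB hπB (m + 2) (by omega) θ hθ hW hdom
  simp only [hι] at hF hpow
  rw [← hπ'] at hpow
  have hθne : θ ≠ 0 := (Valuation.ne_zero_iff _).mp hθ0
  have hθW : θ ∈ W := (ValuationSubring.valuation_le_one_iff W θ).mp hθ1.le
  have hπ'W : π' ∈ W := hW πB
  have hvπ0 : v π' ≠ 0 := by rw [← hpow]; exact pow_ne_zero _ hθ0
  set T : Ω := θ ^ p with hT
  have hTW : T ∈ W := pow_mem hθW p
  have hvT : v T = v π' := by rw [hT, map_pow, hpow]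
  -- ϑ
  set S : Ω := ∑ i ∈ Finset.range m, ι (bs i) * θ ^ i with hS
  set ϑ : Ω := (ϖ - θ * S) / θ ^ (m + 1) with hϑdef
  have hϑ1 : ϑ * θ ^ (m + 1) = ϖ - θ * S := div_mul_cancel₀ _ (pow_ne_zero _ hθne)
  have hϑp : ϑ ^ p * T ^ (m + 1) =
      ι (u * πB) - T * ∑ i ∈ Finset.range m, ι (bs i) ^ p * T ^ i := by
    have h1 : (ϑ * θ ^ (m + 1)) ^ p = (ϖ - θ * S) ^ p := by rw [hϑ1]
    rw [mul_pow, sub_pow_char, mul_pow, hS, sum_pow_char, hϖ, pow_right_comm θ (m + 1) p, ← hT] at h1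
    rw [h1]
    congr 2
    apply Finset.sum_congr rfl
    intro i _
    rw [mul_pow, pow_right_comm θ i p]
  -- key identity
  have hkey : (ϑ ^ p - ι b) * T ^ (m + 1) =
      (π' - T) * (∑ i ∈ Finset.range m, ι (bs i) ^ p *
        (∑ l ∈ Finset.range (i + 1), π' ^ l * T ^ (i + 1 - 1 - l)) +
        ι b * ∑ l ∈ Finset.range (m + 1), π' ^ l * T ^ (m + 1 - 1 - l)) := by
    have hg : ∀ j : ℕ, (π' - T) * (∑ l ∈ Finset.range j, π' ^ l * T ^ (j - 1 - l)) = π' ^ j - T ^ j := by
      intro j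
      rw [mul_comm]
      exact geom_sum₂_mul π' T j
    rw [mul_add, Finset.mul_sum]
    have h2 : ∀ i ∈ Finset.range m, (π' - T) * (ι (bs i) ^ p *
        ∑ l ∈ Finset.range (i + 1), π' ^ l * T ^ (i + 1 - 1 - l)) =
        ι (bs i) ^ p * (π' ^ (i + 1) - T ^ (i + 1)) := by
      intro i _
      rw [mul_left_comm, hg]
    rw [Finset.sum_congr rfl h2, mul_left_comm, hg, sub_mul, hϑp, hu]
    simp only [map_mul, map_add, map_sum, map_pow, Finset.sum_mul, Finset.mul_sum, add_mul,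
      mul_sub, Finset.sum_sub_distrib]
    rw [← hπ']
    have h3 : ∀ i ∈ Finset.range m, ι (bs i) ^ p * π' ^ i * π' = ι (bs i) ^ p * π' ^ (i + 1) := by
      intro i _; ring
    have h4 : ∀ i ∈ Finset.range m, T * (ι (bs i) ^ p * T ^ i) = ι (bs i) ^ p * T ^ (i + 1) := by
      intro i _; ring
    rw [Finset.sum_congr rfl h3, Finset.sum_congr rfl h4]
    ring
  -- R ∈ W
  have hR : (∑ i ∈ Finset.range m, ι (bs i) ^ p *
        (∑ l ∈ Finset.range (i + 1), π' ^ l * T ^ (i + 1 - 1 - l)) +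
        ι b * ∑ l ∈ Finset.range (m + 1), π' ^ l * T ^ (m + 1 - 1 - l)) ∈ W := by
    have hG : ∀ j : ℕ, (∑ l ∈ Finset.range j, π' ^ l * T ^ (j - 1 - l)) ∈ W := by
      intro j
      apply sum_mem
      intro l _
      exact mul_mem (pow_mem hπ'W l) (pow_mem hTW _)
    apply add_mem
    · apply sum_mem
      intro i _
      exact mul_mem (pow_mem (hW (bs i)) p) (hG (i + 1))
    · exact mul_mem (hW b) (hG (m + 1))
  have hϑlt : v (ϑ ^ p - ι b) < 1 := by
    have h1 := congrArg v hkey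
    rw [map_mul, map_mul, map_pow, hvT] at h1
    have h2 : v (π' - T) = v π' ^ (m + 2) * v θ := by
      have : π' - T = -(π' ^ (m + 2) * θ) := by rw [hθ]; ring
      rw [this, Valuation.map_neg, map_mul, map_pow]
    have h3 : v (ϑ ^ p - ι b) * v π' ^ (m + 1) ≤ (v π' * v θ) * v π' ^ (m + 1) := by
      rw [h1, h2]
      calc v π' ^ (m + 2) * v θ * _ ≤ v π' ^ (m + 2) * v θ * 1 := by
            gcongr
            exact (ValuationSubring.valuation_le_one_iff W _).mpr hR
        _ = (v π' * v θ) * v π' ^ (m + 1) := by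
            rw [mul_one, show m + 2 = (m + 1) + 1 from rfl, pow_succ', mul_right_comm]
    have h4 : v (ϑ ^ p - ι b) ≤ v π' * v θ :=
      le_of_mul_le_mul_right h3 (zero_lt_iff.mpr (pow_ne_zero _ hvπ0))
    calc v (ϑ ^ p - ι b) ≤ v π' * v θ := h4
      _ < 1 * 1 := mul_lt_mul'' hdom hθ1 zero_le zero_le
      _ = 1 := one_mul 1
  -- the intermediate field
  let E : IntermediateField L Ω := IntermediateField.adjoin L {θ}
  have hθE : θ ∈ E := IntermediateField.subset_adjoin L {θ} (Set.mem_singleton θ)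
  let β : B →+* E := (algebraMap L E).comp (algebraMap B L)
  have hβ : ∀ d : B, algebraMap E Ω (β d) = ι d := fun _ => rfl
  have hιE : ∀ d : B, ι d ∈ E := fun d => (β d).2
  have hres := res_step B E Ω β W
    (fun d => by rw [hβ]; exact (ValuationSubring.valuation_le_one_iff W _).mpr (hW d))
    (fun d hd => by rw [hβ]; exact hWm d hd)
    (fun z hz => by
      by_cases hz0 : z = 0
      · exact ⟨0, by rw [hz0, map_zero, map_zero, map_zero, sub_zero, map_zero]; exact zero_lt_one⟩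
      · have hz0' : algebraMap E Ω z ≠ 0 := fun h => hz0 ((algebraMap E Ω).injective (by rw [h, map_zero]))
        obtain ⟨k, -, hk⟩ := hF (algebraMap E Ω z) z.2 hz0'
        obtain ⟨d, hd⟩ := hk hz
        exact ⟨d, by rw [hβ]; exact hd⟩)
    p hp b hb ϑ (by rw [hβ]; exact hϑlt)
  refine ⟨hθ1, ?_⟩
  -- ϑ^p ∈ E
  have hTE : T ∈ E := pow_mem hθE p
  have hT0 : T ≠ 0 := pow_ne_zero _ hθne
  have hϑpE : ϑ ^ p ∈ E := by
    have h1 : ϑ ^ p = (ι (u * πB) - T * ∑ i ∈ Finset.range m, ι (bs i) ^ p * T ^ i) / T ^ (m + 1) :=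
      eq_div_of_mul_eq (pow_ne_zero _ hT0) hϑp
    rw [h1]
    apply div_mem
    · apply sub_mem (hιE _)
      apply mul_mem hTE
      apply sum_mem
      intro i _
      exact mul_mem (pow_mem (hιE _) p) (pow_mem hTE i)
    · exact pow_mem hTE _
  let ϑp : E := ⟨ϑ ^ p, hϑpE⟩
  set P : E[X] := X ^ p - Polynomial.C ϑp with hP
  have hPm : P.Monic := monic_X_pow_sub_C ϑp hp.ne_zero
  have hPd : P.natDegree = p := natDegree_X_pow_sub_C
  have hPϑ : aeval ϑ P = 0 := by
    rw [hP, map_sub, map_pow, aeval_X, aeval_C]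
    exact sub_self _
  -- everything lies in E(ϑ)
  have hall : ∀ x : Ω, x ∈ IntermediateField.adjoin E {ϑ} := by
    intro x
    have hx : x ∈ IntermediateField.adjoin L {θ, ϖ} := by rw [htop]; exact IntermediateField.mem_top
    have hle : IntermediateField.adjoin L {θ, ϖ} ≤
        (IntermediateField.adjoin E {ϑ}).restrictScalars L := by
      rw [IntermediateField.adjoin_le_iff]
      have hθ' : θ ∈ IntermediateField.adjoin E {ϑ} :=
        (IntermediateField.adjoin E {ϑ}).algebraMap_mem (⟨θ, hθE⟩ : E)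
      have hι' : ∀ d : B, ι d ∈ IntermediateField.adjoin E {ϑ} := fun d =>
        (IntermediateField.adjoin E {ϑ}).algebraMap_mem (β d)
      have hϑ' : ϑ ∈ IntermediateField.adjoin E {ϑ} :=
        IntermediateField.subset_adjoin E {ϑ} (Set.mem_singleton ϑ)
      intro y hy
      rcases hy with rfl | hy
      · exact hθ'
      · rw [Set.mem_singleton_iff] at hy
        rw [hy]
        have h1 : ϖ = ϑ * θ ^ (m + 1) + θ * S := by rw [hϑ1]; ring
        rw [h1]
        show _ ∈ IntermediateField.adjoin E {ϑ}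
        apply add_mem
        · exact mul_mem hϑ' (pow_mem hθ' _)
        · apply mul_mem hθ'
          apply sum_mem
          intro i _
          exact mul_mem (hι' _) (pow_mem hθ' i)
    exact hle hx
  intro x hx0
  obtain ⟨y, hy⟩ := exists_repr_of_mem_adjoin E Ω ϑ P hPm hPϑ x (hall x)
  rw [hPd] at hy
  have hyne : ∃ j < p, y j ≠ 0 := by
    by_contra hcon
    push Not at hcon
    apply hx0
    rw [hy]
    apply Finset.sum_eq_zero
    intro j hj
    rw [hcon j (Finset.mem_range.mp hj), map_zero, zero_mul]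
  obtain ⟨j₀, -, hj0, hj1⟩ := hres y hyne
  rw [← hy] at hj1
  have hyj0 : algebraMap E Ω (y j₀) ≠ 0 := fun h =>
    hj0 ((algebraMap E Ω).injective (by rw [h, map_zero]))
  obtain ⟨k, hk, -⟩ := hF (algebraMap E Ω (y j₀)) (y j₀).2 hyj0
  exact ⟨k, by rw [hj1, hk]⟩

end Groth.Agent.Helper27.Pi
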