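import Mathlib
import Groth.Agent.Lib.Helper27.PiG
import Groth.Agent.Lib.Helper27.KrB

/-! Assembly for S7156. -/

set_option autoImplicit false

namespace Groth.Agent.Helper27.Pi

open IsLocalRing Polynomial

universe u

theorem mem_adjoin_of_gen (K L K₁ Ω : Type u) [Field K] [Field L] [Field K₁] [Field Ω]
    [Algebra K L] [Algebra K K₁] [Algebra K Ω] [Algebra L Ω] [Algebra K₁ Ω] [IsScalarTower K L Ω]
    [IsScalarTower K K₁ Ω] (θ₀ : K₁) (hgen : ∀ y : K₁, ∃ P : K[X], y = aeval θ₀ P)
    (E : IntermediateField L Ω) (hθ : algebraMap K₁ Ω θ₀ ∈ E) (y : K₁) : algebraMap K₁ Ω y ∈ E := by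
  obtain ⟨P, rfl⟩ := hgen y
  rw [← aeval_algebraMap_apply, aeval_eq_sum_range]
  apply sum_mem
  intro i _
  rw [Algebra.smul_def, IsScalarTower.algebraMap_apply K L Ω]
  exact mul_mem (E.algebraMap_mem _) (pow_mem hθ i)

theorem adjoin_simple_top (K L K₁ Ω : Type u) [Field K] [Field L] [Field K₁] [Field Ω]
    [Algebra K L] [Algebra K K₁] [Algebra K Ω] [Algebra L Ω] [Algebra K₁ Ω] [IsScalarTower K L Ω]
    [IsScalarTower K K₁ Ω] (θ₀ : K₁) (hgen : ∀ y : K₁, ∃ P : K[X], y = aeval θ₀ P)
    (hadj : Algebra.adjoin L (Set.range (algebraMap K₁ Ω)) = ⊤) :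
    IntermediateField.adjoin L {algebraMap K₁ Ω θ₀} = ⊤ := by
  rw [eq_top_iff]
  intro x _
  have hx : x ∈ Algebra.adjoin L (Set.range (algebraMap K₁ Ω)) := by rw [hadj]; trivial
  have hle : Algebra.adjoin L (Set.range (algebraMap K₁ Ω)) ≤
      (IntermediateField.adjoin L {algebraMap K₁ Ω θ₀}).toSubalgebra := by
    apply Algebra.adjoin_le
    rintro _ ⟨y, rfl⟩
    exact mem_adjoin_of_gen K L K₁ Ω θ₀ hgen _
      (IntermediateField.subset_adjoin L _ (Set.mem_singleton _)) y
  exact hle hx

theorem adjoin_pair_top (K L M K₁ Ω : Type u) [Field K] [Field L] [Field M] [Field K₁] [Field Ω]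
    [Algebra K L] [Algebra L M] [Algebra K M] [IsScalarTower K L M] [Algebra K K₁]
    [Algebra K Ω] [Algebra M Ω] [Algebra L Ω] [IsScalarTower L M Ω] [Algebra K₁ Ω]
    [IsScalarTower K M Ω] [IsScalarTower K K₁ Ω]
    (θ₀ : K₁) (hgen : ∀ y : K₁, ∃ P : K[X], y = aeval θ₀ P) (p : ℕ) (ϖ : M)
    (hrepr : ∀ x : M, ∃ c' : ℕ → L, x = ∑ j ∈ Finset.range p, algebraMap L M (c' j) * ϖ ^ j)
    (hadj : Algebra.adjoin M (Set.range (algebraMap K₁ Ω)) = ⊤) :
    IntermediateField.adjoin L {algebraMap K₁ Ω θ₀, algebraMap M Ω ϖ} = ⊤ := by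
  haveI : IsScalarTower K L Ω := IsScalarTower.of_algebraMap_eq (fun c => by
    rw [IsScalarTower.algebraMap_apply K M Ω, IsScalarTower.algebraMap_apply K L M,
      ← IsScalarTower.algebraMap_apply L M Ω])
  rw [eq_top_iff]
  intro x _
  have hx : x ∈ Algebra.adjoin M (Set.range (algebraMap K₁ Ω)) := by rw [hadj]; trivial
  set E : IntermediateField L Ω :=
    IntermediateField.adjoin L {algebraMap K₁ Ω θ₀, algebraMap M Ω ϖ} with hE
  have hθE : algebraMap K₁ Ω θ₀ ∈ E :=
    IntermediateField.subset_adjoin L _ (Set.mem_insert _ _)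
  have hϖE : algebraMap M Ω ϖ ∈ E :=
    IntermediateField.subset_adjoin L _ (Set.mem_insert_of_mem _ (Set.mem_singleton _))
  induction hx using Algebra.adjoin_induction with
  | mem y hy =>
    obtain ⟨z, rfl⟩ := hy
    exact mem_adjoin_of_gen K L K₁ Ω θ₀ hgen E hθE z
  | algebraMap r =>
    obtain ⟨c', rfl⟩ := hrepr r
    rw [map_sum]
    apply sum_mem
    intro j _
    rw [map_mul, map_pow, ← IsScalarTower.algebraMap_apply L M Ω]
    exact mul_mem (E.algebraMap_mem _) (pow_mem hϖE j)
  | add a b _ _ ha hb => exact add_mem (ha trivial) (hb trivial)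
  | mul a b _ _ ha hb => exact mul_mem (ha trivial) (hb trivial)


section

variable (p : ℕ) (hp : p.Prime) (A B C K L M : Type u)
    [CommRing A] [IsDomain A] [IsDiscreteValuationRing A] [CommRing B] [IsDomain B]
    [IsDiscreteValuationRing B] [CommRing C] [IsDomain C] [IsDiscreteValuationRing C]
    [Algebra A B] [Algebra B C] [Algebra A C] [IsScalarTower A B C]
    (hAB : Function.Injective (algebraMap A B)) (hBC : Function.Injective (algebraMap B C))
    [IsLocalHom (algebraMap A B)] [IsLocalHom (algebraMap B C)]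
    [Field K] [Field L] [Field M] [Algebra A K] [IsFractionRing A K] [Algebra B L]
    [IsFractionRing B L] [Algebra C M] [IsFractionRing C M] [Algebra K L] [Algebra L M]
    [Algebra K M] [IsScalarTower K L M] [Algebra A L] [IsScalarTower A K L] [IsScalarTower A B L]
    [Algebra B M] [IsScalarTower B L M] [IsScalarTower B C M]
    [Algebra A M] [IsScalarTower A K M] [IsScalarTower A C M]
    (π : A) (hπ : IsLocalRing.maximalIdeal A = Ideal.span {π})
    [IsPurelyInseparable L M] (hdeg : Module.finrank L M = p)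

open TensorProduct Groth.Agent.Helper22.EisTot in
include hp hBC hπ hdeg in
theorem case_a (hπB : Irreducible (algebraMap A B π)) (v : Bˣ) (ϖC : C)
    (hv : ϖC ^ p = algebraMap B C ((v : B) * algebraMap A B π)) (m : ℕ) (bs : ℕ → B) (b : B)
    (hdec : (v : B) = ∑ i ∈ Finset.range m, bs i ^ p * (algebraMap A B π) ^ i +
      b * (algebraMap A B π) ^ m)
    (hb : ∀ c : ResidueField B, c ^ p ≠ residue B b) :
    ∃ (K₁ : Type u) (_ : Field K₁) (_ : Algebra K K₁),
        Module.finrank K K₁ = p ∧ Algebra.IsSeparable K K₁ ∧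
          EtRam.IsTotallyRamified A ((algebraMap K K₁).comp (algebraMap A K)) ∧
          IsField (L ⊗[K] K₁) ∧ IsField (M ⊗[K] K₁) ∧
          EtRam.IsWeakSolution B K L K₁ ∧ EtRam.IsWeakSolution C K M K₁ := by
  classical
  obtain ⟨n, hn⟩ : ∃ n, n = m + 2 := ⟨_, rfl⟩
  have hq : 2 ≤ p := hp.two_le
  have hn1 : 1 ≤ n := by omega
  have hπ0 : π ≠ 0 := pi_ne_zero π hπ
  have hmonic := eisPoly_monic π n p hq
  have hnd := eisPoly_natDegree π n p hq
  have hirr : Irreducible (eisPoly π n p) :=
    (eisPoly_eis π hπ n p hn1 hq).irreducible (IsLocalRing.maximalIdeal.isMaximal A).isPrime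
      hmonic.isPrimitive (by rw [hnd]; omega)
  have hgirr : Irreducible ((eisPoly π n p).map (algebraMap A K)) :=
    (hmonic.irreducible_iff_irreducible_map_fraction_map (K := K)).mp hirr
  obtain ⟨g, hg⟩ : ∃ g : K[X], g = (eisPoly π n p).map (algebraMap A K) := ⟨_, rfl⟩
  rw [← hg] at hgirr
  haveI : Fact (Irreducible g) := ⟨hgirr⟩
  have hg0 : g ≠ 0 := hgirr.ne_zero
  have hgm : g.Monic := by rw [hg]; exact hmonic.map _
  have hgnd : g.natDegree = p := by rw [hg, hmonic.natDegree_map, hnd]
  have hrootK : Polynomial.aeval (AdjoinRoot.root g) g = 0 := by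
    rw [AdjoinRoot.aeval_eq, AdjoinRoot.mk_self]
  have hrootA : Polynomial.aeval (AdjoinRoot.root g) (eisPoly π n p) = 0 := by
    rw [← Polynomial.aeval_map_algebraMap K, ← hg]
    exact hrootK
  have hθ : (AdjoinRoot.root g) ^ p = algebraMap A (AdjoinRoot g) π +
      algebraMap A (AdjoinRoot g) π ^ n * AdjoinRoot.root g := by
    have h := hrootA
    unfold eisPoly at h
    simp only [map_sub, map_add, map_mul, map_pow, Polynomial.aeval_X, Polynomial.aeval_C] at h
    linear_combination h
  have hgsep : g.Separable := by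
    rw [Polynomial.separable_iff_derivative_ne_zero hgirr]
    intro h0
    have h1 := congrArg (fun P => Polynomial.coeff P 0) h0
    simp only [Polynomial.coeff_derivative, Polynomial.coeff_zero, hg, Polynomial.coeff_map,
      zero_add, eisPoly_coeff_one π n p hq, Nat.cast_zero, mul_one, map_neg, neg_eq_zero,
      map_pow] at h1
    have h2 : algebraMap A K π = 0 := (pow_eq_zero_iff (by omega : n ≠ 0)).mp h1
    exact hπ0 ((IsFractionRing.injective A K) (by rw [h2, map_zero]))
  have hK : ∀ c : K, algebraMap K (AdjoinRoot g) c ∈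
      Subfield.closure (Set.range (algebraMap A (AdjoinRoot g)) ∪ {AdjoinRoot.root g}) := by
    intro c
    obtain ⟨a, b, _, rfl⟩ := IsFractionRing.div_surjective A c
    simp only [map_div₀, ← IsScalarTower.algebraMap_apply A K (AdjoinRoot g)]
    exact Subfield.div_mem _ (Subfield.subset_closure (Or.inl ⟨a, rfl⟩))
      (Subfield.subset_closure (Or.inl ⟨b, rfl⟩))
  have hθint : IsIntegral A (AdjoinRoot.root g) := ⟨eisPoly π n p, hmonic, by
    rw [← Polynomial.aeval_def]; exact hrootA⟩
  have hclos : Subfield.closure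
      (Set.range (algebraMap A (AdjoinRoot g)) ∪ {AdjoinRoot.root g}) = ⊤ := by
    rw [eq_top_iff]
    intro x _
    obtain ⟨P, rfl⟩ := AdjoinRoot.mk_surjective x
    rw [← AdjoinRoot.aeval_eq, Polynomial.aeval_eq_sum_range]
    refine sum_mem fun i _ => ?_
    rw [Algebra.smul_def]
    have hroot_mem : AdjoinRoot.root g ∈ Subfield.closure
        (Set.range (algebraMap A (AdjoinRoot g)) ∪ {AdjoinRoot.root g}) :=
      Subfield.subset_closure (Set.mem_union_right _ (Set.mem_singleton _))
    exact Subfield.mul_mem _ (hK _) (pow_mem hroot_mem i)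
  have hinjA : Function.Injective (algebraMap A (AdjoinRoot g)) := by
    rw [IsScalarTower.algebraMap_eq A K (AdjoinRoot g), RingHom.coe_comp]
    exact (algebraMap K (AdjoinRoot g)).injective.comp (IsFractionRing.injective A K)
  obtain ⟨htot, -⟩ := totRam π hπ n p hn1 hp.pos hinjA (AdjoinRoot.root g) hθint hθ hclos
  have hgen : ∀ y : AdjoinRoot g, ∃ P : K[X], y = aeval (AdjoinRoot.root g) P := by
    intro y
    obtain ⟨P, rfl⟩ := AdjoinRoot.mk_surjective y
    exact ⟨P, (AdjoinRoot.aeval_eq P).symm⟩
  -- irreducibility over L and M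
  have hπB' : IsLocalRing.maximalIdeal B = Ideal.span {algebraMap A B π} := hπB.maximalIdeal_eq
  have hmapB : (eisPoly π n p).map (algebraMap A B) = eisPoly (algebraMap A B π) n p := by
    unfold eisPoly
    simp only [Polynomial.map_sub, Polynomial.map_add, Polynomial.map_mul, Polynomial.map_pow,
      Polynomial.map_X, Polynomial.map_C, map_pow]
  have hirrB : Irreducible (eisPoly (algebraMap A B π) n p) :=
    (eisPoly_eis _ hπB' n p hn1 hq).irreducible (IsLocalRing.maximalIdeal.isMaximal B).isPrime
      (eisPoly_monic _ n p hq).isPrimitive (by rw [eisPoly_natDegree _ n p hq]; omega)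
  have hgL : g.map (algebraMap K L) = (eisPoly (algebraMap A B π) n p).map (algebraMap B L) := by
    rw [hg, Polynomial.map_map, ← IsScalarTower.algebraMap_eq A K L,
      IsScalarTower.algebraMap_eq A B L, ← Polynomial.map_map, hmapB]
  have hirrL : Irreducible (g.map (algebraMap K L)) := by
    rw [hgL]
    exact ((eisPoly_monic _ n p hq).irreducible_iff_irreducible_map_fraction_map (K := L)).mp hirrB
  have hsepL : (g.map (algebraMap K L)).Separable := hgsep.map
  have hirrM : Irreducible (g.map (algebraMap K M)) := by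
    have h := Polynomial.Separable.map_irreducible_of_isPurelyInseparable M hsepL hirrL
    rwa [Polynomial.map_map, ← IsScalarTower.algebraMap_eq K L M] at h
  obtain ⟨eL⟩ := Groth.Agent.Helper27.Kr.adjoinRoot_tensor K L g hgm hirrL
  obtain ⟨eM⟩ := Groth.Agent.Helper27.Kr.adjoinRoot_tensor K M g hgm hirrM
  haveI : Fact (Irreducible (g.map (algebraMap K L))) := ⟨hirrL⟩
  haveI : Fact (Irreducible (g.map (algebraMap K M))) := ⟨hirrM⟩
  have hLfield : IsField (L ⊗[K] AdjoinRoot g) :=
    MulEquiv.isField (Field.toIsField (AdjoinRoot (g.map (algebraMap K L)))) eL.toRingEquiv.toMulEquiv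
  have hMfield : IsField (M ⊗[K] AdjoinRoot g) :=
    MulEquiv.isField (Field.toIsField (AdjoinRoot (g.map (algebraMap K M)))) eM.toRingEquiv.toMulEquiv
  have hπBm : algebraMap A B π ∈ maximalIdeal B := by
    rw [mem_maximalIdeal, mem_nonunits_iff]; exact hπB.not_isUnit
  haveI hcharL : CharP L p := charP_of_pi p hp L M hdeg
  refine ⟨AdjoinRoot g, inferInstance, inferInstance, ?_, ?_, ?_, hLfield, hMfield, ?_, ?_⟩
  · rw [(AdjoinRoot.powerBasis hg0).finrank, AdjoinRoot.powerBasis_dim, hgnd]
  · have hsepθ : IsSeparable K (AdjoinRoot.root g) := by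
      unfold IsSeparable
      exact hgsep.of_dvd (minpoly.dvd K _ hrootK)
    rw [← separableClosure.eq_top_iff, eq_top_iff, ← IntermediateField.adjoin_root_eq_top g,
      IntermediateField.adjoin_simple_le_iff, mem_separableClosure_iff]
    exact hsepθ
  · rw [← IsScalarTower.algebraMap_eq A K (AdjoinRoot g)]
    exact htot
  · -- weak solution for B
    unfold EtRam.IsWeakSolution EtRam.ForallLocalExt
    intro M' _ _ _ _ _ _ hadj W hDom
    have htop := adjoin_simple_top K L (AdjoinRoot g) M' (AdjoinRoot.root g) hgen hadj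
    have hπ' : algebraMap (AdjoinRoot g) M' (algebraMap A (AdjoinRoot g) π) =
        algebraMap L M' (algebraMap B L (algebraMap A B π)) := by
      rw [IsScalarTower.algebraMap_apply A K (AdjoinRoot g),
        ← IsScalarTower.algebraMap_apply K (AdjoinRoot g) M',
        IsScalarTower.algebraMap_apply K L M', ← IsScalarTower.algebraMap_apply A K L,
        IsScalarTower.algebraMap_apply A B L]
    have hθ' : (algebraMap (AdjoinRoot g) M' (AdjoinRoot.root g)) ^ p =
        algebraMap L M' (algebraMap B L (algebraMap A B π)) +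
        algebraMap L M' (algebraMap B L (algebraMap A B π)) ^ n *
          algebraMap (AdjoinRoot g) M' (AdjoinRoot.root g) := by
      rw [← hπ', ← map_pow, hθ, map_add, map_mul, map_pow]
    obtain ⟨h1, -, -, h4⟩ := bside p hp B L M' W (algebraMap A B π) hπB n (by omega) _ hθ'
      (fun d => hDom.1 d) (hDom.2 _ hπBm)
    exact weaklyUnramified_of_val W (algebraMap (AdjoinRoot g) M') (AdjoinRoot.root g) h1
      (fun x hx0 => by
        obtain ⟨k, hk, -⟩ := h4 x (by rw [htop]; trivial) hx0
        exact ⟨k, hk⟩)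
  · -- weak solution for C
    unfold EtRam.IsWeakSolution EtRam.ForallLocalExt
    intro M' _ _ _ _ _ _ hadj W hDom
    letI iLM' : Algebra L M' := ((algebraMap M M').comp (algebraMap L M)).toAlgebra
    haveI : IsScalarTower L M M' := IsScalarTower.of_algebraMap_eq (fun _ => rfl)
    have hBM' : ∀ d : B, algebraMap L M' (algebraMap B L d) =
        algebraMap M M' (algebraMap C M (algebraMap B C d)) := by
      intro d
      rw [IsScalarTower.algebraMap_apply L M M', ← IsScalarTower.algebraMap_apply B L M,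
        IsScalarTower.algebraMap_apply B C M]
    have htop := adjoin_pair_top K L M (AdjoinRoot g) M' (AdjoinRoot.root g) hgen p
      (algebraMap C M ϖC) (repr_of_pow_eq p hp B C L M hBC hdeg (algebraMap A B π) hπB v ϖC hv) hadj
    have hπ' : algebraMap (AdjoinRoot g) M' (algebraMap A (AdjoinRoot g) π) =
        algebraMap L M' (algebraMap B L (algebraMap A B π)) := by
      rw [IsScalarTower.algebraMap_apply A K (AdjoinRoot g),
        ← IsScalarTower.algebraMap_apply K (AdjoinRoot g) M',
        IsScalarTower.algebraMap_apply K M M', IsScalarTower.algebraMap_apply K L M,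
        ← IsScalarTower.algebraMap_apply L M M', ← IsScalarTower.algebraMap_apply A K L,
        IsScalarTower.algebraMap_apply A B L]
    have hθ' : (algebraMap (AdjoinRoot g) M' (AdjoinRoot.root g)) ^ p =
        algebraMap L M' (algebraMap B L (algebraMap A B π)) +
        algebraMap L M' (algebraMap B L (algebraMap A B π)) ^ (m + 2) *
          algebraMap (AdjoinRoot g) M' (AdjoinRoot.root g) := by
      rw [← hπ', ← map_pow, hθ, map_add, map_mul, map_pow, hn]
    have hϖ' : (algebraMap M M' (algebraMap C M ϖC)) ^ p =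
        algebraMap L M' (algebraMap B L ((v : B) * algebraMap A B π)) := by
      rw [hBM', ← hv, map_pow, map_pow]
    obtain ⟨h1, h2⟩ := cside p hp B L M' W (algebraMap A B π) hπB (v : B) m bs b hdec hb
      (algebraMap (AdjoinRoot g) M' (AdjoinRoot.root g)) (algebraMap M M' (algebraMap C M ϖC))
      hθ' hϖ'
      (fun d => by rw [hBM']; exact hDom.1 _)
      (fun d hd => by
        rw [hBM']
        refine hDom.2 _ ?_
        rw [mem_maximalIdeal, mem_nonunits_iff] at hd ⊢
        exact fun h => hd (isUnit_of_map_unit (algebraMap B C) d h))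
      htop
    exact weaklyUnramified_of_val W (algebraMap (AdjoinRoot g) M') (AdjoinRoot.root g) h1 h2

open TensorProduct in
include hp hBC hπ hdeg in
theorem main7156 (hB : CAlg.IsNagata B) (hw : EtRam.IsWeaklyUnramified A B) :
    EtRam.IsWeaklyUnramified A C ∨
      (∃ c : C, c ^ p = algebraMap A C π ∧ Algebra.adjoin B {c} = ⊤) ∨
      ∃ (K₁ : Type u) (_ : Field K₁) (_ : Algebra K K₁),
        Module.finrank K K₁ = p ∧ Algebra.IsSeparable K K₁ ∧
          EtRam.IsTotallyRamified A ((algebraMap K K₁).comp (algebraMap A K)) ∧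
          IsField (L ⊗[K] K₁) ∧ IsField (M ⊗[K] K₁) ∧
          EtRam.IsWeakSolution B K L K₁ ∧ EtRam.IsWeakSolution C K M K₁ := by
  classical
  have hw' : (maximalIdeal A).map (algebraMap A B) = maximalIdeal B := hw
  have hπB' : maximalIdeal B = Ideal.span {algebraMap A B π} := by
    rw [← hw', hπ, Ideal.map_span, Set.image_singleton]
  have hπB : Irreducible (algebraMap A B π) :=
    (IsDiscreteValuationRing.irreducible_iff_uniformizer _).mpr hπB'
  obtain ⟨ϖC, hϖC⟩ := IsDiscreteValuationRing.exists_irreducible C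
  rcases ram_dichotomy p hp B C L M hBC hdeg (algebraMap A B π) hπB ϖC hϖC with hass | ⟨v, hv⟩
  · left
    show Ideal.map (algebraMap A C) (maximalIdeal A) = maximalIdeal C
    rw [IsScalarTower.algebraMap_eq A B C, ← Ideal.map_map, hw', hπB', Ideal.map_span,
      Set.image_singleton, hϖC.maximalIdeal_eq]
    exact Ideal.span_singleton_eq_span_singleton.mpr hass
  · right
    by_cases happ : ∀ m : ℕ, ∃ (bs : ℕ → B) (b : B),
        (v : B) = ∑ i ∈ Finset.range m, bs i ^ p * (algebraMap A B π) ^ i +
          b * (algebraMap A B π) ^ m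
    · left
      obtain ⟨c, hc⟩ := exists_root_of_approx p hp B C L M hBC hdeg
        (fun N _ _ _ _ _ => nagata_finite B L hB N) (algebraMap A B π) hπB v ϖC hv happ
      refine ⟨c, ?_, ?_⟩
      · rw [hc, ← IsScalarTower.algebraMap_apply]
      · exact adjoin_eq_top p hp B C L M hBC hdeg (algebraMap A B π) hπB 1 c
          (by rw [Units.val_one, one_mul]; exact hc)
    · right
      push Not at happ
      have hex : ∃ m : ℕ, ¬ ∃ (bs : ℕ → B) (b : B),
          (v : B) = ∑ i ∈ Finset.range m, bs i ^ p * (algebraMap A B π) ^ i +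
            b * (algebraMap A B π) ^ m := by
        obtain ⟨m, hm⟩ := happ
        exact ⟨m, fun ⟨bs, b, h⟩ => hm bs b h⟩
      have hmin : ∀ m' : ℕ, m' < Nat.find hex → ¬ ¬ ∃ (bs : ℕ → B) (b : B),
          (v : B) = ∑ i ∈ Finset.range m', bs i ^ p * (algebraMap A B π) ^ i +
            b * (algebraMap A B π) ^ m' := fun m' hm' => Nat.find_min hex hm'
      have hspec := Nat.find_spec hex
      set m₀ := Nat.find hex with hm₀
      have hm₀pos : m₀ ≠ 0 := by
        intro h0
        apply hspec
        rw [h0]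
        exact ⟨fun _ => 0, (v : B), by simp⟩
      obtain ⟨m, hm⟩ : ∃ m, m₀ = m + 1 := ⟨m₀ - 1, by omega⟩
      have hprev : ∃ (bs : ℕ → B) (b : B),
          (v : B) = ∑ i ∈ Finset.range m, bs i ^ p * (algebraMap A B π) ^ i +
            b * (algebraMap A B π) ^ m := by
        by_contra hcon
        exact hmin m (by omega) hcon
      obtain ⟨bs, b, hdec⟩ := hprev
      have hb : ∀ c : ResidueField B, c ^ p ≠ residue B b := by
        intro c hc
        obtain ⟨β, rfl⟩ := residue_surjective c
        rw [← map_pow, ← sub_eq_zero, ← map_sub, residue_eq_zero_iff, hπB',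
          Ideal.mem_span_singleton] at hc
        obtain ⟨b', hb'⟩ := hc
        apply hspec
        rw [hm]
        refine ⟨fun i => if i = m then β else bs i, -b', ?_⟩
        rw [Finset.sum_range_succ]
        simp only [if_true]
        have h1 : ∑ i ∈ Finset.range m, (if i = m then β else bs i) ^ p * (algebraMap A B π) ^ i =
            ∑ i ∈ Finset.range m, bs i ^ p * (algebraMap A B π) ^ i := by
          apply Finset.sum_congr rfl
          intro i hi
          rw [if_neg (Finset.mem_range.mp hi).ne]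
        rw [h1, hdec]
        have h2 : b = β ^ p - algebraMap A B π * b' := by rw [← hb']; ring
        rw [h2]
        ring
      exact case_a p hp A B C K L M hBC π hπ hdeg hπB v ϖC hv m bs b hdec hb

end

end Groth.Agent.Helper27.Pi
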