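import Mathlib

set_option autoImplicit false
universe u

namespace Groth.Agent.Helper27.PL

open MaximalSpectrum

section
variable {ι : Type u} [Finite ι] (C : ι → Type u) [∀ j, CommRing (C j)] [∀ j, IsLocalRing (C j)]

/-- the maximal ideal of the product attached to the index `j` -/
noncomputable def Imax (j : ι) : MaximalSpectrum (Π j, C j) :=
  ⟨(IsLocalRing.maximalIdeal (C j)).comap (Pi.evalRingHom C j), Ideal.IsMaximal.comap_piEvalRingHom inferInstance⟩

lemma exists_eq_Imax (I : MaximalSpectrum (Π j, C j)) : ∃ j, I = Imax C j := by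
  obtain ⟨j, q, hq⟩ := PrimeSpectrum.exists_comap_evalRingHom_eq (R := C) ⟨I.asIdeal, I.isMaximal.isPrime⟩
  refine ⟨j, ?_⟩
  apply MaximalSpectrum.ext
  have h1 : I.asIdeal = q.asIdeal.comap (Pi.evalRingHom C j) := by
    have := congrArg PrimeSpectrum.asIdeal hq
    exact this.symm
  have h2 : q.asIdeal.comap (Pi.evalRingHom C j) ≤ (Imax C j).asIdeal :=
    Ideal.comap_mono (IsLocalRing.le_maximalIdeal q.isPrime.ne_top)
  exact (I.isMaximal.eq_of_le (Imax C j).isMaximal.ne_top (h1 ▸ h2))

lemma algebraMap_bij (j : ι) :
    Function.Bijective (algebraMap (C j) (Localization.AtPrime (IsLocalRing.maximalIdeal (C j)))) := by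
  have h : (IsLocalRing.maximalIdeal (C j)).primeCompl ≤ IsUnit.submonoid (C j) := by
    intro x hx
    exact IsLocalRing.notMem_maximalIdeal.mp hx
  exact (IsLocalization.atUnits (C j) _ h (S := Localization.AtPrime (IsLocalRing.maximalIdeal (C j)))).bijective

theorem toPi_surj : Function.Surjective (toPiLocalization (Π j, C j)) := by
  intro x
  have hs : ∀ j, ∃ s : C j, algebraMap (C j) (Localization.AtPrime (IsLocalRing.maximalIdeal (C j))) s =
      Localization.AtPrime.mapPiEvalRingHom (IsLocalRing.maximalIdeal (C j)) (x (Imax C j)) :=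
    fun j => (algebraMap_bij C j).2 _
  choose s hs using hs
  refine ⟨s, ?_⟩
  funext I
  obtain ⟨j, rfl⟩ := exists_eq_Imax C I
  apply (Localization.AtPrime.mapPiEvalRingHom_bijective (IsLocalRing.maximalIdeal (C j))).1
  rw [← hs j, toPiLocalization_apply_apply]
  exact Localization.AtPrime.mapPiEvalRingHom_algebraMap_apply _

end

theorem main982
    (B : Type u) [CommRing B] :
    (∃ (ι : Type u) (_ : Fintype ι) (C : ι → Type u) (_ : ∀ j, CommRing (C j)),
        (∀ j, IsLocalRing (C j)) ∧ Nonempty (B ≃+* (∀ j, C j))) ↔
    Function.Bijective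
      (RingHom.pi (fun n : MaximalSpectrum B => algebraMap B (Localization.AtPrime n.asIdeal))) := by
  have hfun : ⇑(RingHom.pi (fun n : MaximalSpectrum B => algebraMap B (Localization.AtPrime n.asIdeal))) =
      ⇑(toPiLocalization B) := rfl
  rw [hfun]
  constructor
  · rintro ⟨ι, _, C, _, hC, ⟨e⟩⟩
    have hb : Function.Bijective (toPiLocalization (Π j, C j)) :=
      ⟨toPiLocalization_injective _, toPi_surj C⟩
    have hnat := mapPiLocalization_naturality (e : B →+* (Π j, C j)) e.bijective
    have h1 : Function.Bijective ((mapPiLocalization (e : B →+* (Π j, C j)) e.bijective) ∘ (toPiLocalization B)) := by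
      have : ((mapPiLocalization (e : B →+* (Π j, C j)) e.bijective) ∘ (toPiLocalization B)) =
          (toPiLocalization (Π j, C j)) ∘ e := by
        have := congrArg (fun f : B →+* PiLocalization (Π j, C j) => (f : B → _)) hnat
        exact this
      rw [this]
      exact hb.comp e.bijective
    exact (Function.Bijective.of_comp_iff' (mapPiLocalization_bijective _ e.bijective) _).mp h1
  · intro h
    haveI : Finite (MaximalSpectrum B) := finite_of_toPiLocalization_surjective h.2
    haveI : Fintype (MaximalSpectrum B) := Fintype.ofFinite _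
    refine ⟨MaximalSpectrum B, inferInstance, fun n => Localization.AtPrime n.asIdeal, inferInstance,
      fun n => inferInstance, ⟨RingEquiv.ofBijective (toPiLocalization B).toRingHom h⟩⟩

end Groth.Agent.Helper27.PL
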