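import Mathlib
import Groth.Agent.Lib.Helper27.PinA
import Groth.Agent.Lib.Helper27.CfA
import Groth.Agent.Lib.Helper27.FFExtA
import Groth.Agent.Lib.Helper27.FFExtB
import Groth.Agent.Lib.Helper16.FF.GeomE

set_option autoImplicit false

namespace Groth.Agent.Helper27.Pin

open FunFld Polynomial Groth.Agent.Helper16.FFW IntermediateField
open scoped WithZero

universe u v

variable {k k' : Type u} {K K' : Type v} [Field k] [Field k'] [Field K] [Field K']
  [Algebra k k'] [Algebra k K] [Algebra K K'] [Algebra k' K'] [Algebra k K']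
  [IsScalarTower k k' K'] [IsScalarTower k K K']

theorem main11011 [FiniteDimensional k k']
    (h : Function.Bijective (Algebra.TensorProduct.productMap
      (IsScalarTower.toAlgHom k k' K') (IsScalarTower.toAlgHom k K K')))
    (hK : IsFunctionField k K) (P : Place k K)
    (hpi : IsPurelyInseparable k k' ∨ IsPurelyInseparable k (IsLocalRing.ResidueField P.O)) :
    ∃! Q : Place k K', IsOver Q P := by
  classical
  haveI : FiniteDimensional K K' := Groth.Agent.Helper16.FF.finite_scalarExt h
  obtain ⟨Q₀, hQ₀⟩ := FFExt.exists_isOver (K' := K') hK P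
  refine ⟨Q₀, hQ₀, fun Q hQ => ?_⟩
  set ks : IntermediateField k k' := separableClosure k k' with hks
  haveI : Algebra.IsSeparable k ks := separableClosure.isSeparable k k'
  haveI : IsPurelyInseparable ks k' := separableClosure.isPurelyInseparable k k'
  obtain ⟨α, hα⟩ := Field.exists_primitive_element k ks
  set θ : k' := (α : k') with hθ
  have hθsep : IsSeparable k θ := mem_separableClosure_iff.1 α.2
  have hadj : k⟮θ⟯ = ks := by
    have := congrArg (IntermediateField.map ks.val) hα
    rw [IntermediateField.adjoin_map, Set.image_singleton, ← AlgHom.fieldRange_eq_map,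
      IntermediateField.fieldRange_val] at this
    exact this
  set θ' : K' := algebraMap k' K' θ with hθ'
  have hθ'min : minpoly k θ' = minpoly k θ :=
    minpoly.algebraMap_eq (algebraMap k' K').injective θ
  have hθ'sep : IsSeparable k θ' := by
    show (minpoly k θ').Separable
    rw [hθ'min]; exact hθsep
  set M : IntermediateField K K' := K⟮θ'⟯ with hM
  have hθ'K : IsIntegral K θ' := Algebra.IsIntegral.isIntegral θ'
  haveI : IsScalarTower k M K' := IsScalarTower.of_algebraMap_eq (fun c => rfl)
  set n := (minpoly k θ').natDegree with hn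
  have hn0 : 0 < n := minpoly.natDegree_pos hθ'sep.isIntegral
  have hMn : Module.finrank K M ≤ n := by
    rw [IntermediateField.adjoin.finrank hθ'K, hn,
      ← Polynomial.natDegree_map (algebraMap k K) (p := minpoly k θ')]
    exact Polynomial.natDegree_le_of_dvd (minpoly.dvd_map_of_isScalarTower k K θ')
      ((minpoly.monic hθ'sep.isIntegral).map _).ne_zero
  have hKM : IsWeakFF k M := isWeakFF_of_finite hK.1
  -- the generator as an element of `M`
  set g : M := AdjoinSimple.gen K θ' with hg
  have hgmin : minpoly k g = minpoly k θ' :=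
    (minpoly.algebraMap_eq (algebraMap M K').injective g).symm
  have hgsep : IsSeparable k g := by
    show (minpoly k g).Separable
    rw [hgmin]; exact hθ'sep
  have hbig : ∀ R : Place k M, ∀ [P.1.HasExtension R.1], IsOver R P →
      n ≤ Module.finrank (IsLocalRing.ResidueField P.O) (IsLocalRing.ResidueField R.O) := by
    intro R _ hR
    rcases hpi with hA | hB
    · have hbot : ks = ⊥ := separableClosure.eq_bot_of_isPurelyInseparable k k'
      have hθk : θ ∈ (⊥ : IntermediateField k k') := hbot ▸ α.2
      obtain ⟨c, hc⟩ := IntermediateField.mem_bot.1 hθk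
      have hn1 : n = 1 := by
        rw [hn, hθ'min, ← hc, minpoly.eq_X_sub_C, natDegree_X_sub_C]
      rw [hn1]
      haveI := finite_res P R hKM
      exact Module.finrank_pos
    · haveI := hB
      have := natDegree_le_finrank_res P R hKM hgsep
      rw [hgmin] at this
      exact this
  -- `K'/M` is radicial
  obtain ⟨q, hq⟩ := ExpChar.exists k
  haveI : ExpChar ks q := expChar_of_injective_algebraMap (algebraMap k ks).injective q
  haveI : ExpChar M q := expChar_of_injective_algebraMap (algebraMap k M).injective q
  have hqpos : 0 < q := expChar_pos k q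
  have hksM : ∀ c ∈ ks, algebraMap k' K' c ∈ M := by
    let N : IntermediateField k k' :=
      (M.restrictScalars k).comap (IsScalarTower.toAlgHom k k' K')
    have hle : k⟮θ⟯ ≤ N := by
      rw [IntermediateField.adjoin_le_iff]
      intro z hz
      rw [Set.mem_singleton_iff] at hz
      rw [hz]
      exact IntermediateField.mem_adjoin_simple_self K θ'
    intro c hc
    exact hle (hadj ▸ hc)
  have hrad : ∀ z : K', ∃ m : ℕ, z ^ q ^ m ∈ (algebraMap M K').range := by
    have htop : perfectClosure M K' = ⊤ := by
      rw [eq_top_iff]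
      intro z _
      let b := Module.finBasis k k'
      rw [← (Cf.basisK h b).sum_repr z]
      refine sum_mem (fun i _ => ?_)
      rw [Cf.basisK_apply, Algebra.smul_def]
      refine mul_mem ?_ ?_
      · rw [IsScalarTower.algebraMap_apply K M K']
        exact IntermediateField.algebraMap_mem _ _
      · rw [mem_perfectClosure_iff_pow_mem q]
        obtain ⟨m, c, hc⟩ := IsPurelyInseparable.pow_mem ks q (b i)
        refine ⟨m, ⟨algebraMap k' K' c, hksM c c.2⟩, ?_⟩
        show algebraMap k' K' (c : k') = _
        rw [← map_pow]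
        congr 1
    intro z
    exact (mem_perfectClosure_iff_pow_mem q).1 (htop ▸ IntermediateField.mem_top)
  -- restrict both places to `M`
  have hbelow : ∀ Q : Place k K', IsOver Q P → ∃ R : Place k M, IsOver Q R ∧ IsOver R P := by
    intro Q hQ
    obtain ⟨R, e₂, he₂⟩ := exists_isOverWith (K := M) (K' := K') hKM Q
    obtain ⟨P', e₁, he₁⟩ := exists_isOverWith (K := K) (K' := M) hK.1 R
    have h3 := FFExt.isOverWith_trans he₂ he₁
    obtain ⟨e, he⟩ := hQ
    have hPP : P' = P := (isOverWith_unique h3 he).1
    subst hPP
    exact ⟨R, ⟨e₂, he₂⟩, ⟨e₁, he₁⟩⟩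
  obtain ⟨R, hQR, hRP⟩ := hbelow Q hQ
  obtain ⟨R₀, hQR₀, hRP₀⟩ := hbelow Q₀ hQ₀
  have hRR : R = R₀ := unique_of_finrank_le hK P n hMn hn0 hbig hRP hRP₀
  subst hRR
  exact eq_of_radicial q hqpos hrad hQR hQR₀

end Groth.Agent.Helper27.Pin
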