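import Mathlib
import Groth.Agent.Lib.Helper27.PNodeLib

set_option autoImplicit false
universe u

namespace Groth.Agent.Helper27.PD

open MvPolynomial Groth.Agent.Helper27.PNode

variable {K : Type u} [Field K]

def PEven (P : Polynomial K) : Prop := ∀ n, Odd n → P.coeff n = 0
def POdd (P : Polynomial K) : Prop := ∀ n, Even n → P.coeff n = 0

lemma PEven.add {P Q : Polynomial K} (hP : PEven P) (hQ : PEven Q) : PEven (P + Q) := by
  intro n hn; rw [Polynomial.coeff_add, hP n hn, hQ n hn, add_zero]

lemma PEven.mul {P Q : Polynomial K} (hP : PEven P) (hQ : PEven Q) : PEven (P * Q) := by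
  intro n hn
  rw [Polynomial.coeff_mul]
  apply Finset.sum_eq_zero
  rintro ⟨i, j⟩ hij
  rw [Finset.HasAntidiagonal.mem_antidiagonal] at hij
  simp only at hij ⊢
  rcases Nat.even_or_odd i with hi | hi
  · have hj : Odd j := by
      rcases Nat.even_or_odd j with hj | hj
      · exfalso
        have : Even n := hij ▸ hi.add hj
        exact (Nat.not_even_iff_odd.mpr hn) this
      · exact hj
    rw [hQ j hj, mul_zero]
  · rw [hP i hi, zero_mul]

lemma PEven_C (c : K) : PEven (Polynomial.C c) := by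
  intro n hn
  rw [Polynomial.coeff_C, if_neg]
  rintro rfl
  exact (Nat.not_odd_iff_even.mpr (⟨0, rfl⟩ : Even 0)) hn

lemma PEven_X_sq : PEven (Polynomial.X ^ 2 : Polynomial K) := by
  intro n hn
  rw [Polynomial.coeff_X_pow, if_neg]
  rintro rfl
  exact (Nat.not_odd_iff_even.mpr (by decide)) hn

lemma PEven_zero : PEven (0 : Polynomial K) := fun n _ => Polynomial.coeff_zero n

lemma POdd_of_X_mul {Q : Polynomial K} (h : PEven (Polynomial.X * Q)) : POdd Q := by
  intro n hn
  have := h (n + 1) (hn.add_one)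
  rwa [Polynomial.coeff_X_mul] at this

lemma eq_zero_of_even_odd {P : Polynomial K} (h1 : PEven P) (h2 : POdd P) : P = 0 := by
  ext n
  rcases Nat.even_or_odd n with hn | hn
  · simpa using h2 n hn
  · simpa using h1 n hn

lemma exists_of_odd {Q : Polynomial K} (h : POdd Q) :
    ∃ p : Polynomial K, Q = Polynomial.X * Polynomial.expand K 2 p := by
  refine ⟨Polynomial.contract 2 Q.divX, ?_⟩
  ext n
  rcases n with _ | n
  · rw [Polynomial.coeff_X_mul_zero]; exact h 0 (⟨0, rfl⟩ : Even 0)
  · rw [Polynomial.coeff_X_mul, Polynomial.coeff_expand (by norm_num : 0 < 2)]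
    split_ifs with hd
    · rw [Polynomial.coeff_contract (by norm_num), Nat.div_mul_cancel hd, Polynomial.coeff_divX]
    · apply h
      have : Odd n := Nat.not_even_iff_odd.mp (fun he => hd (even_iff_two_dvd.mp he))
      exact this.add_one

/-- members of the pinch subalgebra have even restriction to y = 0 -/
lemma even_of_mem (f : MvPolynomial (Fin 2) K)
    (hf : f ∈ Algebra.adjoin K ({X 0 ^ 2, X 0 * X 1, X 1} : Set (MvPolynomial (Fin 2) K))) :
    PEven (α₀ f) := by
  induction hf using Algebra.adjoin_induction with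
  | mem x hx =>
    rcases hx with rfl | rfl | rfl
    · have : α₀ (X 0 ^ 2 : MvPolynomial (Fin 2) K) = Polynomial.X ^ 2 := by simp [α₀]
      rw [this]; exact PEven_X_sq
    · have : α₀ (X 0 * X 1 : MvPolynomial (Fin 2) K) = 0 := by simp [α₀]
      rw [this]; exact PEven_zero
    · have : α₀ (X 1 : MvPolynomial (Fin 2) K) = 0 := by simp [α₀]
      rw [this]; exact PEven_zero
  | algebraMap r =>
    have : α₀ (algebraMap K (MvPolynomial (Fin 2) K) r) = Polynomial.C r := by
      rw [AlgHom.commutes]; rfl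
    rw [this]; exact PEven_C r
  | add x y _ _ hx hy => rw [map_add]; exact hx.add hy
  | mul x y _ _ hx hy => rw [map_mul]; exact hx.mul hy

theorem main123 [NeZero (2 : K)]
    (D : Derivation K (MvPolynomial (Fin 2) K) (MvPolynomial (Fin 2) K)) :
    letI x : MvPolynomial (Fin 2) K := MvPolynomial.X 0
    letI y : MvPolynomial (Fin 2) K := MvPolynomial.X 1
    letI R : Subalgebra K (MvPolynomial (Fin 2) K) := Algebra.adjoin K {x ^ 2, x * y, y}
    (∀ r ∈ R, D r ∈ R) ↔
      (D y ∈ Ideal.span {y} ∧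
        ∃ (s : MvPolynomial (Fin 2) K) (p : Polynomial K), D x = y * s + x * Polynomial.aeval (x ^ 2) p) := by
  set x : MvPolynomial (Fin 2) K := X 0 with hxdef
  set y : MvPolynomial (Fin 2) K := X 1 with hydef
  set R : Subalgebra K (MvPolynomial (Fin 2) K) := Algebra.adjoin K {x ^ 2, x * y, y} with hRdef
  have h2 : (2 : K) ≠ 0 := NeZero.ne 2
  have hX2 : x ^ 2 ∈ R := Algebra.subset_adjoin (by simp)
  have hXY : x * y ∈ R := Algebra.subset_adjoin (by simp)
  have hY : y ∈ R := Algebra.subset_adjoin (by simp)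
  have hα₀x : α₀ x = Polynomial.X := by simp [α₀, x]
  have hα₀y : α₀ y = 0 := by simp [α₀, y]
  have hι : ∀ p : Polynomial K, ι₀ (Polynomial.X * Polynomial.expand K 2 p) = x * Polynomial.aeval (x ^ 2) p := by
    intro p
    rw [map_mul]
    have e1 : ι₀ (Polynomial.X : Polynomial K) = x := by simp [ι₀, x]
    have e2 : Polynomial.expand K 2 p = Polynomial.aeval (Polynomial.X ^ 2 : Polynomial K) p := rfl
    rw [e1, e2, ← Polynomial.aeval_algHom_apply, map_pow, e1]
  constructor
  · intro hD
    -- D x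
    have hDx2 : D (x ^ 2) = C 2 * x * D x := by
      rw [pow_two, Derivation.leibniz, smul_eq_mul]
      have : (C (2 : K) : MvPolynomial (Fin 2) K) = 2 := map_ofNat C 2
      rw [this]; ring
    have h1 := even_of_mem _ (hD _ hX2)
    rw [hDx2, map_mul, map_mul, hα₀x] at h1
    have hC2 : α₀ (C (2 : K) : MvPolynomial (Fin 2) K) = Polynomial.C 2 := by
      rw [show (C (2 : K) : MvPolynomial (Fin 2) K) = algebraMap K _ 2 from rfl, AlgHom.commutes]; rfl
    rw [hC2] at h1
    have h1' : PEven (Polynomial.X * α₀ (D x)) := by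
      intro n hn
      have := h1 n hn
      rw [mul_assoc, Polynomial.coeff_C_mul] at this
      exact (mul_eq_zero.mp this).resolve_left h2
    obtain ⟨p, hp⟩ := exists_of_odd (POdd_of_X_mul h1')
    -- D y
    have hT1 : PEven (α₀ (D y)) := even_of_mem _ (hD _ hY)
    have hT2 : POdd (α₀ (D y)) := by
      have := even_of_mem _ (hD _ hXY)
      rw [Derivation.leibniz, smul_eq_mul, smul_eq_mul, map_add, map_mul, map_mul, hα₀x, hα₀y, zero_mul,
        add_zero] at this
      exact POdd_of_X_mul this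
    have hT := eq_zero_of_even_odd hT1 hT2
    refine ⟨?_, ?_⟩
    · obtain ⟨c, hc⟩ := X1_dvd_sub (D y)
      rw [hT, map_zero, sub_zero] at hc
      rw [Ideal.mem_span_singleton]
      exact ⟨c, hc⟩
    · obtain ⟨c, hc⟩ := X1_dvd_sub (D x)
      refine ⟨c, p, ?_⟩
      rw [← hι, ← hp]
      change D x = X 1 * c + ι₀ (α₀ (D x))
      rw [← hc]; ring
  · rintro ⟨hy, s, p, hx⟩
    rw [Ideal.mem_span_singleton] at hy
    obtain ⟨t, ht⟩ := hy
    -- decomposition
    have hdec : ∀ f : MvPolynomial (Fin 2) K, ∃ r₁ ∈ R, ∃ r₂ ∈ R, f = r₁ + x * r₂ := by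
      intro f
      induction f using MvPolynomial.induction_on with
      | C a => exact ⟨C a, Subalgebra.algebraMap_mem R a, 0, Subalgebra.zero_mem R, by simp⟩
      | add f g hf hg =>
        obtain ⟨a₁, ha₁, a₂, ha₂, rfl⟩ := hf
        obtain ⟨b₁, hb₁, b₂, hb₂, rfl⟩ := hg
        exact ⟨a₁ + b₁, Subalgebra.add_mem _ ha₁ hb₁, a₂ + b₂, Subalgebra.add_mem _ ha₂ hb₂, by ring⟩
      | mul_X f i hf =>
        obtain ⟨a₁, ha₁, a₂, ha₂, rfl⟩ := hf
        fin_cases i
        · refine ⟨x ^ 2 * a₂, Subalgebra.mul_mem _ hX2 ha₂, a₁, ha₁, ?_⟩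
          simp only [Fin.zero_eta]
          change (a₁ + x * a₂) * x = _
          ring
        · refine ⟨a₁ * y, Subalgebra.mul_mem _ ha₁ hY, a₂ * y, Subalgebra.mul_mem _ ha₂ hY, ?_⟩
          simp only [Fin.mk_one]
          change (a₁ + x * a₂) * y = _
          ring
    have hyS : ∀ f : MvPolynomial (Fin 2) K, y * f ∈ R := by
      intro f
      obtain ⟨r₁, h₁, r₂, h₂, rfl⟩ := hdec f
      have : y * (r₁ + x * r₂) = y * r₁ + (x * y) * r₂ := by ring
      rw [this]
      exact Subalgebra.add_mem _ (Subalgebra.mul_mem _ hY h₁) (Subalgebra.mul_mem _ hXY h₂)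
    have hpoly : ∀ q : Polynomial K, Polynomial.aeval (x ^ 2) q ∈ R := by
      intro q
      have := Polynomial.aeval_subalgebra_coe q R (⟨x ^ 2, hX2⟩ : R)
      rw [← this]
      exact Subtype.property _
    have hDx2 : D (x ^ 2) ∈ R := by
      have e : D (x ^ 2) = y * (2 * x * s) + 2 * (x ^ 2 * Polynomial.aeval (x ^ 2) p) := by
        rw [pow_two, Derivation.leibniz, smul_eq_mul, hx]; ring_nf
      rw [e]
      refine Subalgebra.add_mem _ (hyS _) ?_
      have h2R : (2 : MvPolynomial (Fin 2) K) ∈ R := by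
        have : (2 : MvPolynomial (Fin 2) K) = algebraMap K _ 2 := (map_ofNat _ 2).symm
        rw [this]; exact Subalgebra.algebraMap_mem R 2
      exact Subalgebra.mul_mem _ h2R (Subalgebra.mul_mem _ hX2 (hpoly p))
    have hDxy : D (x * y) ∈ R := by
      have e : D (x * y) = y * (x * t + (y * s + x * Polynomial.aeval (x ^ 2) p)) := by
        rw [Derivation.leibniz, smul_eq_mul, smul_eq_mul, hx, ht]; ring
      rw [e]; exact hyS _
    have hDy : D y ∈ R := by rw [ht]; exact hyS _
    intro r hr
    induction hr using Algebra.adjoin_induction with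
    | mem z hz =>
      rcases hz with rfl | rfl | rfl
      · exact hDx2
      · exact hDxy
      · exact hDy
    | algebraMap c => rw [Derivation.map_algebraMap]; exact Subalgebra.zero_mem _
    | add a b _ _ ha hb => rw [map_add]; exact Subalgebra.add_mem _ ha hb
    | mul a b ha' hb' ha hb =>
      rw [Derivation.leibniz, smul_eq_mul, smul_eq_mul]
      exact Subalgebra.add_mem _ (Subalgebra.mul_mem _ ha' hb) (Subalgebra.mul_mem _ hb' ha)

end Groth.Agent.Helper27.PD
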