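import Mathlib

set_option autoImplicit false
universe u

namespace Groth.Agent.Helper27.PK

open Polynomial

variable (B : Type u) [CommRing B] (b : B)

noncomputable abbrev gp : Polynomial B := X ^ 2 - C b

lemma gp_monic : (gp B b).Monic := monic_X_pow_sub_C b (by norm_num)

noncomputable abbrev zr : AdjoinRoot (gp B b) := AdjoinRoot.root (gp B b)

lemma zr_sq : zr B b ^ 2 = AdjoinRoot.of (gp B b) b := by
  have := AdjoinRoot.mk_self (f := gp B b)
  rw [map_sub, map_pow, AdjoinRoot.mk_X, AdjoinRoot.mk_C] at this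
  exact sub_eq_zero.mp this

noncomputable def π₀ : AdjoinRoot (gp B b) →ₗ[B] B :=
  (lcoeff B 0).comp (AdjoinRoot.modByMonicHom (gp_monic B b))
noncomputable def π₁ : AdjoinRoot (gp B b) →ₗ[B] B :=
  (lcoeff B 1).comp (AdjoinRoot.modByMonicHom (gp_monic B b))

lemma decomp [Nontrivial B] (w : AdjoinRoot (gp B b)) :
    w = AdjoinRoot.of (gp B b) (π₀ B b w) + AdjoinRoot.of (gp B b) (π₁ B b w) * zr B b := by
  have h1 := AdjoinRoot.mk_leftInverse (gp_monic B b) w
  set r := AdjoinRoot.modByMonicHom (gp_monic B b) w with hr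
  have hdeg : r.degree ≤ 1 := by
    obtain ⟨p, rfl⟩ := AdjoinRoot.mk_surjective w
    rw [hr, AdjoinRoot.modByMonicHom_mk]
    have := degree_modByMonic_lt p (gp_monic B b)
    rw [degree_X_pow_sub_C (by norm_num) b] at this
    have h2 : ((2 : ℕ) : WithBot ℕ) = Order.succ ((1 : ℕ) : WithBot ℕ) := rfl
    have h3 : (p %ₘ gp B b).degree < Order.succ ((1 : ℕ) : WithBot ℕ) := by
      rw [← h2]; exact_mod_cast this
    exact_mod_cast Order.le_of_lt_succ h3
  have h2 := eq_X_add_C_of_degree_le_one hdeg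
  conv_lhs => rw [← h1, h2]
  rw [map_add, map_mul, AdjoinRoot.mk_C, AdjoinRoot.mk_C, AdjoinRoot.mk_X, add_comm]
  rfl

lemma rep_eq [Nontrivial B] (a c : B) :
    AdjoinRoot.modByMonicHom (gp_monic B b)
      (AdjoinRoot.of (gp B b) a + AdjoinRoot.of (gp B b) c * zr B b) = C a + C c * X := by
  have : AdjoinRoot.of (gp B b) a + AdjoinRoot.of (gp B b) c * zr B b =
      AdjoinRoot.mk (gp B b) (C a + C c * X) := by
    rw [map_add, map_mul, AdjoinRoot.mk_C, AdjoinRoot.mk_C, AdjoinRoot.mk_X]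
  rw [this, AdjoinRoot.modByMonicHom_mk, modByMonic_eq_self_iff (gp_monic B b),
    degree_X_pow_sub_C (by norm_num) b]
  have : (C a + C c * X : Polynomial B).degree ≤ 1 := by
    rw [add_comm]; exact degree_linear_le
  exact lt_of_le_of_lt this (by norm_num)

lemma π₀_apply [Nontrivial B] (a c : B) :
    π₀ B b (AdjoinRoot.of (gp B b) a + AdjoinRoot.of (gp B b) c * zr B b) = a := by
  simp only [π₀, LinearMap.comp_apply, rep_eq, lcoeff_apply]
  simp

lemma π₁_apply [Nontrivial B] (a c : B) :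
    π₁ B b (AdjoinRoot.of (gp B b) a + AdjoinRoot.of (gp B b) c * zr B b) = c := by
  simp only [π₁, LinearMap.comp_apply, rep_eq, lcoeff_apply]
  simp

/-- coefficientwise application of an additive map -/
noncomputable def cw (φ : AdjoinRoot (gp B b) →ₗ[B] B) (G : Polynomial (AdjoinRoot (gp B b))) : Polynomial B :=
  ∑ n ∈ G.support, monomial n (φ (G.coeff n))

lemma coeff_cw (φ : AdjoinRoot (gp B b) →ₗ[B] B) (G : Polynomial (AdjoinRoot (gp B b))) (m : ℕ) :
    (cw B b φ G).coeff m = φ (G.coeff m) := by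
  classical
  rw [cw, finsetSum_coeff]
  simp only [coeff_monomial]
  rw [Finset.sum_ite_eq' G.support m]
  split_ifs with h
  · rfl
  · rw [notMem_support_iff.mp h, map_zero]

noncomputable abbrev Ψ : MvPolynomial (Fin 2) B →ₐ[B] Polynomial (AdjoinRoot (gp B b)) :=
  MvPolynomial.aeval ![C (zr B b) * X, X]

noncomputable abbrev jv : Polynomial B →ₐ[B] MvPolynomial (Fin 2) B := aeval (MvPolynomial.X 1)

lemma Ψ_jv (P : Polynomial B) : Ψ B b (jv B P) = P.map (algebraMap B (AdjoinRoot (gp B b))) := by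
  have : (Ψ B b).comp (jv B) = mapAlg B (AdjoinRoot (gp B b)) := by
    apply Polynomial.algHom_ext
    simp [Ψ, jv, mapAlg_eq_map]
  have h := congrArg (fun f => f P) this
  simpa [mapAlg_eq_map] using h

noncomputable abbrev Ipk : Ideal (MvPolynomial (Fin 2) B) :=
  Ideal.span {MvPolynomial.X 0 ^ 2 - MvPolynomial.C b * MvPolynomial.X 1 ^ 2}

lemma gen_mem : (MvPolynomial.X 0 ^ 2 - MvPolynomial.C b * MvPolynomial.X 1 ^ 2 : MvPolynomial (Fin 2) B) ∈ Ipk B b :=
  Ideal.subset_span rfl

lemma normal_form (F : MvPolynomial (Fin 2) B) :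
    ∃ P₀ P₁ : Polynomial B, F - (jv B P₀ + MvPolynomial.X 0 * jv B P₁) ∈ Ipk B b := by
  induction F using MvPolynomial.induction_on with
  | C a =>
    refine ⟨C a, 0, ?_⟩
    have : jv B (C a) = MvPolynomial.C a := by simp [jv]; try rfl
    rw [this, map_zero, mul_zero, add_zero, sub_self]
    exact Ideal.zero_mem _
  | add F G hF hG =>
    obtain ⟨P₀, P₁, h⟩ := hF
    obtain ⟨Q₀, Q₁, h'⟩ := hG
    refine ⟨P₀ + Q₀, P₁ + Q₁, ?_⟩
    have : F + G - (jv B (P₀ + Q₀) + MvPolynomial.X 0 * jv B (P₁ + Q₁)) =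
        (F - (jv B P₀ + MvPolynomial.X 0 * jv B P₁)) + (G - (jv B Q₀ + MvPolynomial.X 0 * jv B Q₁)) := by
      rw [map_add, map_add]; ring
    rw [this]; exact Ideal.add_mem _ h h'
  | mul_X F i hF =>
    obtain ⟨P₀, P₁, h⟩ := hF
    fin_cases i
    · refine ⟨C b * X ^ 2 * P₁, P₀, ?_⟩
      have e1 : jv B (C b * X ^ 2 * P₁) = MvPolynomial.C b * MvPolynomial.X 1 ^ 2 * jv B P₁ := by
        rw [map_mul, map_mul, map_pow]
        have : jv B (C b) = MvPolynomial.C b := by simp [jv]; try rfl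
        rw [this]; simp [jv]
      have : F * MvPolynomial.X 0 - (jv B (C b * X ^ 2 * P₁) + MvPolynomial.X 0 * jv B P₀) =
          (F - (jv B P₀ + MvPolynomial.X 0 * jv B P₁)) * MvPolynomial.X 0 +
          (MvPolynomial.X 0 ^ 2 - MvPolynomial.C b * MvPolynomial.X 1 ^ 2) * jv B P₁ := by
        rw [e1]; ring
      simp only [Fin.zero_eta]
      rw [this]
      exact Ideal.add_mem _ (Ideal.mul_mem_right _ _ h) (Ideal.mul_mem_right _ _ (gen_mem B b))
    · refine ⟨P₀ * X, P₁ * X, ?_⟩
      have : F * MvPolynomial.X 1 - (jv B (P₀ * X) + MvPolynomial.X 0 * jv B (P₁ * X)) =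
          (F - (jv B P₀ + MvPolynomial.X 0 * jv B P₁)) * MvPolynomial.X 1 := by
        rw [map_mul, map_mul]
        have : jv B X = MvPolynomial.X 1 := by simp [jv]
        rw [this]; ring
      simp only [Fin.mk_one]
      rw [this]
      exact Ideal.mul_mem_right _ _ h

lemma Ψ_gen : Ψ B b (MvPolynomial.X 0 ^ 2 - MvPolynomial.C b * MvPolynomial.X 1 ^ 2) = 0 := by
  simp only [Ψ, map_sub, map_pow, map_mul, MvPolynomial.aeval_X, MvPolynomial.aeval_C]
  simp only [Matrix.cons_val_zero, Matrix.cons_val_one]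
  rw [mul_pow, ← C_pow, zr_sq]
  simp [AdjoinRoot.algebraMap_eq]

lemma Ψ_nf (P₀ P₁ : Polynomial B) :
    Ψ B b (jv B P₀ + MvPolynomial.X 0 * jv B P₁) =
      P₀.map (algebraMap B _) + C (zr B b) * (X * P₁.map (algebraMap B _)) := by
  rw [map_add, map_mul, Ψ_jv, Ψ_jv]
  simp [Ψ, mul_assoc]

lemma coeff_nf_zero (P₀ P₁ : Polynomial B) :
    (P₀.map (algebraMap B (AdjoinRoot (gp B b))) + C (zr B b) * (X * P₁.map (algebraMap B _))).coeff 0 =
      AdjoinRoot.of (gp B b) (P₀.coeff 0) := by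
  rw [coeff_add, coeff_C_mul, coeff_X_mul_zero, mul_zero, add_zero, coeff_map]
  rfl

lemma coeff_nf_succ (P₀ P₁ : Polynomial B) (n : ℕ) :
    (P₀.map (algebraMap B (AdjoinRoot (gp B b))) + C (zr B b) * (X * P₁.map (algebraMap B _))).coeff (n + 1) =
      AdjoinRoot.of (gp B b) (P₀.coeff (n + 1)) + AdjoinRoot.of (gp B b) (P₁.coeff n) * zr B b := by
  rw [coeff_add, coeff_C_mul, coeff_X_mul, coeff_map, coeff_map, mul_comm]
  rfl

theorem main121 (B : Type u) [CommRing B] (b : B) :
    letI Ψ : MvPolynomial (Fin 2) B →ₐ[B] Polynomial (AdjoinRoot (Polynomial.X ^ 2 - Polynomial.C b)) :=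
      MvPolynomial.aeval
        ![Polynomial.C (AdjoinRoot.root (Polynomial.X ^ 2 - Polynomial.C b)) * Polynomial.X, Polynomial.X]
    RingHom.ker Ψ.toRingHom =
        Ideal.span {MvPolynomial.X 0 ^ 2 - MvPolynomial.C b * MvPolynomial.X 1 ^ 2} ∧
      ∀ G : Polynomial (AdjoinRoot (Polynomial.X ^ 2 - Polynomial.C b)),
        (∃ c : B, G.coeff 0 = algebraMap B (AdjoinRoot (Polynomial.X ^ 2 - Polynomial.C b)) c) →
          G ∈ Ψ.range := by
  change RingHom.ker (Ψ B b).toRingHom = Ipk B b ∧ ∀ G : Polynomial (AdjoinRoot (gp B b)),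
    (∃ c : B, G.coeff 0 = algebraMap B (AdjoinRoot (gp B b)) c) → G ∈ (Ψ B b).range
  rcases subsingleton_or_nontrivial B with hB | hB
  · haveI : Subsingleton (MvPolynomial (Fin 2) B) := inferInstance
    haveI : Subsingleton (AdjoinRoot (gp B b)) := Module.subsingleton B _
    refine ⟨Subsingleton.elim _ _, fun G _ => ⟨0, Subsingleton.elim _ _⟩⟩
  constructor
  · apply le_antisymm
    · intro F hF
      rw [RingHom.mem_ker] at hF
      change Ψ B b F = 0 at hF
      obtain ⟨P₀, P₁, hmem⟩ := normal_form B b F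
      have hΨmem : ∀ y ∈ Ipk B b, Ψ B b y = 0 := by
        intro y hy
        rw [Ideal.mem_span_singleton'] at hy
        obtain ⟨a, rfl⟩ := hy
        rw [map_mul, Ψ_gen, mul_zero]
      have h0 : Ψ B b (jv B P₀ + MvPolynomial.X 0 * jv B P₁) = 0 := by
        have := hΨmem _ hmem
        rw [map_sub, hF, zero_sub, neg_eq_zero] at this
        exact this
      rw [Ψ_nf] at h0
      have hP₀ : P₀ = 0 := by
        ext n
        rcases n with _ | n
        · have := congrArg (fun Q => Q.coeff 0) h0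
          simp only [coeff_nf_zero, coeff_zero] at this
          have h := π₀_apply B b (P₀.coeff 0) 0
          rw [map_zero, zero_mul, add_zero, this, map_zero] at h
          rw [coeff_zero]; exact h.symm
        · have := congrArg (fun Q => Q.coeff (n + 1)) h0
          simp only [coeff_nf_succ, coeff_zero] at this
          have h := π₀_apply B b (P₀.coeff (n + 1)) (P₁.coeff n)
          rw [this, map_zero] at h
          rw [coeff_zero]; exact h.symm
      have hP₁ : P₁ = 0 := by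
        ext n
        have := congrArg (fun Q => Q.coeff (n + 1)) h0
        simp only [coeff_nf_succ, coeff_zero] at this
        have h := π₁_apply B b (P₀.coeff (n + 1)) (P₁.coeff n)
        rw [this, map_zero] at h
        rw [coeff_zero]; exact h.symm
      rw [hP₀, hP₁, map_zero, mul_zero, add_zero, sub_zero] at hmem
      exact hmem
    · rw [Ideal.span_le]
      intro y hy
      rw [Set.mem_singleton_iff] at hy
      rw [hy, SetLike.mem_coe, RingHom.mem_ker]
      exact Ψ_gen B b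
  · rintro G ⟨c₀, hc₀⟩
    refine ⟨jv B (cw B b (π₀ B b) G) + MvPolynomial.X 0 * jv B ((cw B b (π₁ B b) G).divX), ?_⟩
    change Ψ B b _ = G
    rw [Ψ_nf]
    ext n
    rcases n with _ | n
    · rw [coeff_nf_zero, coeff_cw, hc₀]
      have h := π₀_apply B b c₀ 0
      rw [map_zero, zero_mul, add_zero] at h
      rw [AdjoinRoot.algebraMap_eq, h]
    · rw [coeff_nf_succ, coeff_cw, coeff_divX, coeff_cw]
      exact (decomp B b (G.coeff (n + 1))).symm

end Groth.Agent.Helper27.PK
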