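import Mathlib
import Groth.Agent.Lib.Helper16.FF.NSI
import Groth.Agent.Lib.Helper16.FF.PlaneB

/-! Plane models: integrality over `k[ℓ]`. -/

set_option autoImplicit false

namespace Groth.Agent.Helper27.Pln

open FunFld IntermediateField Polynomial Groth.Agent.Helper16.FF
open scoped WithZero

variable {k K : Type*} [Field k] [Field K] [Algebra k K]

theorem poleDiv_eq_zero_of_le (hK : IsFunctionField k K) {ℓ : K} {Q : Place k K} (h : Q.1 ℓ ≤ 1) :
    (poleDiv ℓ : Divisor k K) Q = 0 := by
  rw [poleDiv_apply hK]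
  by_cases h0 : ℓ = 0
  · subst h0; rw [Place.ord_zero]; simp
  · have := (Place.val_le_one_iff Q h0).1 h
    exact max_eq_right (by omega)

/-- an element whose poles are among the poles of `ℓ` is integral over `k[ℓ]` -/
theorem isIntegral_adjoin_of_poles (hK : IsFunctionField k K) {ℓ z : K} (hℓ : Transcendental k ℓ)
    (hz : ∀ Q : Place k K, 1 < Q.1 z → 1 < Q.1 ℓ) :
    IsIntegral (Algebra.adjoin k ({ℓ} : Set K)) z := by
  classical
  set R := Algebra.adjoin k ({ℓ} : Set K) with hR
  obtain ⟨m₁, hm₁⟩ := L_succ_eq hK hℓ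
  set N' : Divisor k K := poleDiv ℓ with hN'
  set N : Submodule R K := Submodule.span R (L (m₁ • N') : Set K) with hN
  have hLN : ∀ m, m₁ ≤ m → ∀ w ∈ L (m • N'), w ∈ N := by
    intro m hm
    induction m, hm using Nat.le_induction with
    | base => intro w hw; exact Submodule.subset_span hw
    | succ m hm ih =>
      intro w hw
      obtain ⟨a, ha, b, hb, rfl⟩ := hm₁ m hm w hw
      have : ℓ * a = (⟨ℓ, Algebra.self_mem_adjoin_singleton k ℓ⟩ : R) • a := rfl
      rw [this]
      exact N.add_mem (N.smul_mem _ (ih a ha)) (ih b hb)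
  refine isIntegral_of_smul_mem_submodule N ?_ ?_ z ?_
  · intro h
    have h1 : (1 : K) ∈ N := Submodule.subset_span (by
      show (1 : K) ∈ L (m₁ • N')
      exact L_mono (nsmul_nonneg (poleDiv_nonneg ℓ) m₁) one_mem_L_zero)
    rw [h, Submodule.mem_bot] at h1
    exact one_ne_zero h1
  · have hfd := finiteDimensional_L hK (m₁ • N')
    obtain ⟨S, hS⟩ : (L (m₁ • N')).FG := (Submodule.fg_iff_finiteDimensional _).2 hfd
    refine ⟨S, ?_⟩
    rw [hN, ← hS, Submodule.span_span_of_tower]
  · intro n hn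
    induction hn using Submodule.span_induction with
    | mem n hn =>
      have hzn : ∀ Q : Place k K, 1 < Q.1 (z * n) → 1 < Q.1 ℓ := by
        intro Q hQ
        by_contra hQℓ
        have hQℓ' : Q.1 ℓ ≤ 1 := not_lt.1 hQℓ
        have h1 : Q.1 z ≤ 1 := by
          by_contra h
          exact hQℓ (hz Q (not_le.1 h))
        have h2 : Q.1 n ≤ 1 := by
          have := hn Q
          rwa [Finsupp.smul_apply, poleDiv_eq_zero_of_le hK hQℓ', smul_zero,
            WithZero.exp_zero] at this
        rw [map_mul] at hQ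
        exact absurd (mul_le_one' h1 h2) (not_le.2 hQ)
      obtain ⟨m, hm, hmem⟩ := exists_mem_L_nsmul hK hzn m₁
      rw [smul_eq_mul]
      exact hLN m hm _ hmem
    | zero => rw [smul_zero]; exact N.zero_mem
    | add a b _ _ ha hb => rw [smul_add]; exact N.add_mem ha hb
    | smul r a _ ha => rw [smul_comm]; exact N.smul_mem r ha

open scoped IntermediateField.algebraAdjoinAdjoin in
/-- the coefficients of the minimal polynomial over `k(ℓ)` are polynomials in `ℓ` -/
theorem minpoly_coeff_mem (hK : IsFunctionField k K) {ℓ z : K} (hℓ : Transcendental k ℓ)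
    (hz : ∀ Q : Place k K, 1 < Q.1 z → 1 < Q.1 ℓ) (F : IntermediateField k K)
    (hF : F = IntermediateField.adjoin k ({ℓ} : Set K)) (i : ℕ) :
    ∃ c : k[X], (((minpoly F z).coeff i : F) : K) = aeval ℓ c := by
  subst hF
  have hint := isIntegral_adjoin_of_poles hK hℓ hz
  haveI : IsIntegrallyClosed (Algebra.adjoin k ({ℓ} : Set K)) :=
    IsIntegrallyClosed.of_equiv (Polynomial.algEquivOfTranscendental k ℓ hℓ).toRingEquiv
  have h1 := minpoly.isIntegrallyClosed_eq_field_fractions'
    (IntermediateField.adjoin k ({ℓ} : Set K)) hint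
  rw [h1, Polynomial.coeff_map]
  set r := (minpoly (Algebra.adjoin k ({ℓ} : Set K)) z).coeff i with hr
  have hr' : ∀ w : K, w ∈ Algebra.adjoin k ({ℓ} : Set K) → ∃ c : k[X], w = aeval ℓ c := by
    intro w hw
    rw [Algebra.adjoin_singleton_eq_range_aeval] at hw
    obtain ⟨c, hc⟩ := hw
    exact ⟨c, hc.symm⟩
  exact hr' _ r.2

end Groth.Agent.Helper27.Pln
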