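import Groth.Agent.Lib.Helper27.PlnA
import Groth.Agent.Lib.Helper16.FFW.RatPlace

/-! Plane models: degree bounds for the coefficients of the minimal polynomial. -/

set_option autoImplicit false

namespace Groth.Agent.Helper27.Pln

open FunFld IntermediateField Polynomial Groth.Agent.Helper16.FF
open scoped WithZero

variable {k K : Type*} [Field k] [Field K] [Algebra k K]

theorem exp_poleDiv_of_one_le (hK : IsFunctionField k K) {ℓ : K} {Q : Place k K} (h : 1 ≤ Q.1 ℓ) :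
    WithZero.exp ((poleDiv ℓ : Divisor k K) Q) = Q.1 ℓ := by
  have h0 : ℓ ≠ 0 := by
    rintro rfl
    rw [map_zero] at h
    exact absurd h (by simp)
  rw [poleDiv_apply hK, Place.val_eq_exp_neg_ord Q h0]
  rw [Place.val_eq_exp_neg_ord Q h0, ← WithZero.exp_zero, WithZero.exp_le_exp] at h
  rw [max_eq_left h]

theorem poles_of_mem_L_poleDiv (hK : IsFunctionField k K) {ℓ y : K}
    (hy : y ∈ L (poleDiv ℓ : Divisor k K)) (Q : Place k K) (hQ : 1 < Q.1 y) : 1 < Q.1 ℓ := by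
  by_contra h
  have h1 := hy Q
  rw [poleDiv_eq_zero_of_le hK (not_lt.1 h), WithZero.exp_zero] at h1
  exact absurd h1 (not_le.2 hQ)

theorem adjoin_inv_eq {ℓ : K} :
    IntermediateField.adjoin k ({ℓ} : Set K) = IntermediateField.adjoin k ({ℓ⁻¹} : Set K) := by
  apply le_antisymm
  · rw [IntermediateField.adjoin_le_iff]
    intro w hw
    rw [Set.mem_singleton_iff] at hw
    rw [hw]
    have : ℓ⁻¹ ∈ IntermediateField.adjoin k ({ℓ⁻¹} : Set K) :=
      IntermediateField.mem_adjoin_simple_self k _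
    have h2 := inv_mem this
    rwa [inv_inv] at h2
  · rw [IntermediateField.adjoin_le_iff]
    intro w hw
    rw [Set.mem_singleton_iff] at hw
    rw [hw]
    exact inv_mem (IntermediateField.mem_adjoin_simple_self k _)

/-- the coefficient of `Y^i` of the minimal polynomial of `y ∈ L((ℓ)_∞)` over `k(ℓ)` is a
polynomial in `ℓ` of degree at most `n - i` -/
theorem minpoly_coeff_deg (hK : IsFunctionField k K) {ℓ y : K} (hℓ : Transcendental k ℓ)
    (hy : y ∈ L (poleDiv ℓ : Divisor k K)) (i : ℕ)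
    (hi : i ≤ (minpoly (IntermediateField.adjoin k ({ℓ} : Set K)) y).natDegree) :
    ∃ c : k[X], c.natDegree + i ≤ (minpoly (IntermediateField.adjoin k ({ℓ} : Set K)) y).natDegree ∧
      (((minpoly (IntermediateField.adjoin k ({ℓ} : Set K)) y).coeff i :
        IntermediateField.adjoin k ({ℓ} : Set K)) : K) = aeval ℓ c := by
  classical
  set E := IntermediateField.adjoin k ({ℓ} : Set K) with hE
  have hfin : FiniteDimensional E K := finite_of_transcendental hK hℓ
  set μ := minpoly E y with hμ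
  set n := μ.natDegree with hn
  have hz := poles_of_mem_L_poleDiv hK hy
  obtain ⟨c, hc⟩ := minpoly_coeff_mem hK hℓ hz E rfl i
  refine ⟨c, ?_, hc⟩
  by_cases hc0 : c = 0
  · rw [hc0, natDegree_zero, zero_add]; exact hi
  have hℓ0 : ℓ ≠ 0 := fun h => hℓ (h ▸ isAlgebraic_zero)
  have hℓ' : Transcendental k ℓ⁻¹ := transcendental_inv hℓ
  set r : E := (AdjoinSimple.gen k ℓ)⁻¹ with hr
  have hrK : (r : K) = ℓ⁻¹ := by
    rw [hr]
    simp
  have hr0 : r ≠ 0 := by
    intro h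
    have := congrArg (fun e : E => (e : K)) h
    simp only [hrK, ZeroMemClass.coe_zero] at this
    exact inv_ne_zero hℓ0 this
  have hint : IsIntegral E y := IsIntegral.of_finite E y
  have hsm : minpoly E (r • y) = μ.scaleRoots r := IsIntegrallyClosed.minpoly_smul hr0 hint
  have hry : r • y = ℓ⁻¹ * y := by
    rw [Algebra.smul_def]
    show (r : K) * y = _
    rw [hrK]
  have hz' : ∀ Q : Place k K, 1 < Q.1 (r • y) → 1 < Q.1 ℓ⁻¹ := by
    intro Q hQ
    by_contra h
    have h1 : Q.1 ℓ⁻¹ ≤ 1 := not_lt.1 h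
    have h2 : 1 ≤ Q.1 ℓ := by
      rw [map_inv₀] at h1
      exact (inv_le_one₀ (zero_lt_iff.2 (by rw [Ne, map_eq_zero]; exact hℓ0))).1 h1
    have h3 := hy Q
    rw [exp_poleDiv_of_one_le hK h2] at h3
    rw [hry, map_mul, map_inv₀] at hQ
    have h4 : (Q.1 ℓ)⁻¹ * Q.1 y ≤ 1 := by
      rw [inv_mul_le_iff₀ (zero_lt_iff.2 (by rw [Ne, map_eq_zero]; exact hℓ0)), mul_one]
      exact h3
    exact absurd h4 (not_le.2 hQ)
  obtain ⟨b, hb⟩ := minpoly_coeff_mem hK hℓ' hz' E adjoin_inv_eq i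
  rw [hsm, coeff_scaleRoots] at hb
  have hb' : aeval ℓ c * (ℓ⁻¹) ^ (n - i) = aeval ℓ⁻¹ b := by
    rw [← hb, ← hc, ← hrK]
    push_cast
    rfl
  obtain ⟨P, hP⟩ := exists_pole hK hℓ
  have hP0 : P.1 ℓ ≠ 0 := by rw [Ne, map_eq_zero]; exact hℓ0
  have h1 : P.1 (aeval ℓ⁻¹ b) ≤ 1 := by
    apply Groth.Agent.Helper16.FFW.val_aeval_le_one
    rw [map_inv₀]
    exact (inv_le_one₀ (zero_lt_iff.2 hP0)).2 hP.le
  have h2 : P.1 (aeval ℓ c) = P.1 ℓ ^ c.natDegree :=
    Groth.Agent.Helper16.FFW.val_aeval_of_one_lt P hP _ c rfl hc0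
  rw [← hb', map_mul, h2, map_pow, map_inv₀, inv_pow,
    mul_inv_le_iff₀ (zero_lt_iff.2 (pow_ne_zero _ hP0)), one_mul] at h1
  have h3 : c.natDegree ≤ n - i := (pow_le_pow_iff_right₀ hP).1 h1
  omega

end Groth.Agent.Helper27.Pln
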