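import Groth.Agent.Lib.Helper27.PlnB

/-! Plane models: the spaces `T m` spanned by the monomials `ℓ^i y^j`, `j < d`, `i + j ≤ m`. -/

set_option autoImplicit false

namespace Groth.Agent.Helper27.Pln

open FunFld IntermediateField Polynomial Groth.Agent.Helper16.FF
open scoped WithZero

variable {k K : Type*} [Field k] [Field K] [Algebra k K]

/-- the monomials `ℓ^i y^j`, `j < d`, `i + j ≤ m` -/
def fam (ℓ y : K) (d m : ℕ) : (Σ j : Fin d, Fin (m + 1 - (j : ℕ))) → K :=
  fun p => ℓ ^ (p.2 : ℕ) * y ^ (p.1 : ℕ)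

variable (k) in
/-- their span -/
def T (ℓ y : K) (d m : ℕ) : Submodule k K := Submodule.span k (Set.range (fam ℓ y d m))

theorem mono_mem_T {ℓ y : K} {d m i j : ℕ} (hj : j < d) (hij : i + j ≤ m) :
    ℓ ^ i * y ^ j ∈ T k ℓ y d m :=
  Submodule.subset_span ⟨⟨⟨j, hj⟩, ⟨i, by simp only; omega⟩⟩, rfl⟩

theorem T_mono {ℓ y : K} {d m m' : ℕ} (h : m ≤ m') : T k ℓ y d m ≤ T k ℓ y d m' := by
  apply Submodule.span_le.2
  rintro _ ⟨p, rfl⟩
  have := p.2.2
  exact mono_mem_T p.1.2 (by omega)

theorem aeval_mul_mem_T {ℓ y : K} {d : ℕ} (c : k[X]) {a s i m : ℕ} (hc : c.natDegree ≤ a)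
    (hs : s < d) (h : i + a + s ≤ m) : ℓ ^ i * aeval ℓ c * y ^ s ∈ T k ℓ y d m := by
  rw [Polynomial.aeval_eq_sum_range, Finset.mul_sum, Finset.sum_mul]
  refine Submodule.sum_mem _ fun t ht => ?_
  have e : ℓ ^ i * (c.coeff t • ℓ ^ t) * y ^ s = c.coeff t • (ℓ ^ (i + t) * y ^ s) := by
    rw [pow_add, Algebra.smul_def, Algebra.smul_def]
    ring
  rw [e]
  have := Finset.mem_range.1 ht
  exact Submodule.smul_mem _ _ (mono_mem_T hs (by omega))

theorem mul_l_mem_T {ℓ y : K} {d m : ℕ} {w : K} (hw : w ∈ T k ℓ y d m) :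
    ℓ * w ∈ T k ℓ y d (m + 1) := by
  induction hw using Submodule.span_induction with
  | mem w hw =>
    obtain ⟨p, rfl⟩ := hw
    have := p.2.2
    have e : ℓ * fam ℓ y d m p = ℓ ^ ((p.2 : ℕ) + 1) * y ^ (p.1 : ℕ) := by
      unfold fam; ring
    rw [e]
    exact mono_mem_T p.1.2 (by omega)
  | zero => rw [mul_zero]; exact Submodule.zero_mem _
  | add a b _ _ ha hb => rw [mul_add]; exact Submodule.add_mem _ ha hb
  | smul r a _ ha => rw [mul_smul_comm]; exact Submodule.smul_mem _ r ha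

/-- the relation: `y^d` as a combination of lower powers -/
theorem pow_natDegree_eq (hK : IsFunctionField k K) {ℓ y : K} (hℓ : Transcendental k ℓ) :
    y ^ (minpoly (IntermediateField.adjoin k ({ℓ} : Set K)) y).natDegree =
      -∑ s ∈ Finset.range (minpoly (IntermediateField.adjoin k ({ℓ} : Set K)) y).natDegree,
        (((minpoly (IntermediateField.adjoin k ({ℓ} : Set K)) y).coeff s :
          IntermediateField.adjoin k ({ℓ} : Set K)) : K) * y ^ s := by
  set E := IntermediateField.adjoin k ({ℓ} : Set K) with hE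
  have hfin : FiniteDimensional E K := finite_of_transcendental hK hℓ
  have hint : IsIntegral E y := IsIntegral.of_finite E y
  have hmonic := minpoly.monic hint
  have h0 := minpoly.aeval E y
  rw [hmonic.as_sum, map_add, map_pow, aeval_X, map_sum] at h0
  have h1 : ∀ s ∈ Finset.range (minpoly E y).natDegree,
      aeval y (C ((minpoly E y).coeff s) * X ^ s) = (((minpoly E y).coeff s : E) : K) * y ^ s := by
    intro s _
    rw [map_mul, aeval_C, map_pow, aeval_X]
    rfl
  rw [Finset.sum_congr rfl h1] at h0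
  exact eq_neg_of_add_eq_zero_left h0

theorem mul_y_mem_T (hK : IsFunctionField k K) {ℓ y : K} (hℓ : Transcendental k ℓ)
    (hy : y ∈ L (poleDiv ℓ : Divisor k K)) (d : ℕ)
    (hd : d = (minpoly (IntermediateField.adjoin k ({ℓ} : Set K)) y).natDegree) {m : ℕ} {w : K}
    (hw : w ∈ T k ℓ y d m) : y * w ∈ T k ℓ y d (m + 1) := by
  have hyd : y ^ d = -∑ s ∈ Finset.range d,
        (((minpoly (IntermediateField.adjoin k ({ℓ} : Set K)) y).coeff s :
          IntermediateField.adjoin k ({ℓ} : Set K)) : K) * y ^ s := by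
    rw [hd]; exact pow_natDegree_eq hK hℓ
  induction hw using Submodule.span_induction with
  | mem w hw =>
    obtain ⟨p, rfl⟩ := hw
    have hp2 := p.2.2
    have hp1 := p.1.2
    by_cases hj : (p.1 : ℕ) + 1 < d
    · have e : y * fam ℓ y d m p = ℓ ^ (p.2 : ℕ) * y ^ ((p.1 : ℕ) + 1) := by
        unfold fam; ring
      rw [e]
      exact mono_mem_T hj (by omega)
    · have hjd : (p.1 : ℕ) + 1 = d := by omega
      have hpow : y ^ ((p.1 : ℕ) + 1) = y ^ d := congrArg (fun n => y ^ n) hjd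
      have e : y * fam ℓ y d m p = ℓ ^ (p.2 : ℕ) * y ^ d := by
        rw [← hpow]
        unfold fam
        ring
      rw [e, hyd, mul_neg, Finset.mul_sum]
      refine Submodule.neg_mem _ (Submodule.sum_mem _ fun s hs => ?_)
      have hs' := Finset.mem_range.1 hs
      obtain ⟨c, hc1, hc2⟩ := minpoly_coeff_deg hK hℓ hy s (by rw [← hd]; omega)
      rw [hc2, ← mul_assoc]
      rw [← hd] at hc1
      exact aeval_mul_mem_T c (a := d - s) (by omega) hs' (by omega)
  | zero => rw [mul_zero]; exact Submodule.zero_mem _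
  | add a b _ _ ha hb => rw [mul_add]; exact Submodule.add_mem _ ha hb
  | smul r a _ ha => rw [mul_smul_comm]; exact Submodule.smul_mem _ r ha

end Groth.Agent.Helper27.Pln
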