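import Groth.Agent.Lib.Helper27.PlnC

/-! Plane models: `V^m = T m` and the dimension of `T m`. -/

set_option autoImplicit false

namespace Groth.Agent.Helper27.Pln

open FunFld IntermediateField Polynomial Groth.Agent.Helper16.FF
open scoped WithZero

variable {k K : Type*} [Field k] [Field K] [Algebra k K]

theorem V_pow_le_T (hK : IsFunctionField k K) {ℓ y : K} (hℓ : Transcendental k ℓ)
    (hy : y ∈ L (poleDiv ℓ : Divisor k K)) (d : ℕ)
    (hd : d = (minpoly (IntermediateField.adjoin k ({ℓ} : Set K)) y).natDegree) (hd0 : 0 < d)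
    (m : ℕ) : (Submodule.span k ({1, ℓ, y} : Set K)) ^ m ≤ T k ℓ y d m := by
  induction m with
  | zero =>
    rw [pow_zero, Submodule.one_eq_span, Submodule.span_le]
    intro w hw
    rw [Set.mem_singleton_iff] at hw
    have := mono_mem_T (k := k) (ℓ := ℓ) (y := y) (d := d) (m := 0) (i := 0) (j := 0) hd0 le_rfl
    rw [hw]
    simpa using this
  | succ m ih =>
    rw [pow_succ', Submodule.mul_le]
    intro v hv t ht
    have ht' := ih ht
    induction hv using Submodule.span_induction with
    | mem v hv =>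
      rcases hv with h | h | h
      · rw [h, one_mul]; exact T_mono (Nat.le_succ m) ht'
      · rw [h]; exact mul_l_mem_T ht'
      · rw [Set.mem_singleton_iff] at h
        rw [h]; exact mul_y_mem_T hK hℓ hy d hd ht'
    | zero => rw [zero_mul]; exact zero_mem _
    | add a b _ _ ha hb => rw [add_mul]; exact add_mem ha hb
    | smul r a _ ha => rw [smul_mul_assoc]; exact Submodule.smul_mem _ r ha

theorem one_mem_pow {V : Submodule k K} (h1 : (1 : K) ∈ V) (n : ℕ) : (1 : K) ∈ V ^ n := by
  have := Submodule.pow_mem_pow V h1 n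
  rwa [one_pow] at this

theorem pow_le_pow_of_one_mem {V : Submodule k K} (h1 : (1 : K) ∈ V) {a b : ℕ} (h : a ≤ b) :
    V ^ a ≤ V ^ b := by
  obtain ⟨c, rfl⟩ := Nat.exists_eq_add_of_le h
  intro w hw
  rw [pow_add]
  have := Submodule.mul_mem_mul hw (one_mem_pow h1 c)
  rwa [mul_one] at this

theorem T_le_V_pow {ℓ y : K} (d m : ℕ) :
    T k ℓ y d m ≤ (Submodule.span k ({1, ℓ, y} : Set K)) ^ m := by
  set V := Submodule.span k ({1, ℓ, y} : Set K) with hV
  have h1V : (1 : K) ∈ V := Submodule.subset_span (by simp)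
  have hℓV : ℓ ∈ V := Submodule.subset_span (by simp)
  have hyV : y ∈ V := Submodule.subset_span (by simp)
  apply Submodule.span_le.2
  rintro _ ⟨p, rfl⟩
  have hp := p.2.2
  have hle : (p.2 : ℕ) + (p.1 : ℕ) ≤ m := by omega
  have h2 : ℓ ^ (p.2 : ℕ) * y ^ (p.1 : ℕ) ∈ V ^ ((p.2 : ℕ) + (p.1 : ℕ)) := by
    rw [pow_add]
    exact Submodule.mul_mem_mul (Submodule.pow_mem_pow V hℓV _) (Submodule.pow_mem_pow V hyV _)
  exact pow_le_pow_of_one_mem h1V hle h2

theorem natDegree_minpoly_eq (hK : IsFunctionField k K) {ℓ y : K} (hℓ : Transcendental k ℓ)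
    (hgen : IntermediateField.adjoin k ({ℓ, y} : Set K) = ⊤) :
    (minpoly (IntermediateField.adjoin k ({ℓ} : Set K)) y).natDegree =
      Module.finrank (IntermediateField.adjoin k ({ℓ} : Set K)) K := by
  have hfin := finite_of_transcendental hK hℓ
  set F := IntermediateField.adjoin k ({ℓ} : Set K) with hF
  have htop : IntermediateField.adjoin F ({y} : Set K) = ⊤ := by
    apply IntermediateField.restrictScalars_injective k
    rw [IntermediateField.adjoin_adjoin_left, IntermediateField.restrictScalars_top,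
      Set.singleton_union, ← hgen]
  have hyint : IsIntegral F y := IsIntegral.of_finite F y
  rw [← IntermediateField.adjoin.finrank hyint, htop, IntermediateField.finrank_top']

theorem fam_linearIndependent (hK : IsFunctionField k K) {ℓ y : K} (hℓ : Transcendental k ℓ)
    (d : ℕ) (hd : d = (minpoly (IntermediateField.adjoin k ({ℓ} : Set K)) y).natDegree) (m : ℕ) :
    LinearIndependent k (fam ℓ y d m) := by
  classical
  have hfin := finite_of_transcendental hK hℓ
  set F := IntermediateField.adjoin k ({ℓ} : Set K) with hF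
  have hli2 : LinearIndependent F (fun j : Fin d => y ^ (j : ℕ)) := by
    have := linearIndependent_pow (K := F) y
    rw [← hd] at this
    exact this
  let g : F := AdjoinSimple.gen k ℓ
  have hg : Transcendental k g := by
    have h1 : algebraMap F K g = ℓ := AdjoinSimple.algebraMap_gen k ℓ
    rw [← transcendental_algebraMap_iff (algebraMap F K).injective, h1]
    exact hℓ
  have hli1 : LinearIndependent k (fun i : Fin (m + 1) => g ^ (i : ℕ)) :=
    (linearIndependent_pow_of_transcendental hg).comp _ Fin.val_injective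
  have hli := linearIndependent_smul hli1 hli2
  let emb : (Σ j : Fin d, Fin (m + 1 - (j : ℕ))) → Fin (m + 1) × Fin d :=
    fun p => (⟨(p.2 : ℕ), by have := p.2.2; omega⟩, p.1)
  have hemb : Function.Injective emb := by
    rintro ⟨j, i⟩ ⟨j', i'⟩ h
    simp only [emb, Prod.mk.injEq, Fin.mk.injEq] at h
    obtain ⟨h1, h2⟩ := h
    subst h2
    congr 1
    exact Fin.ext h1
  have hli' := hli.comp emb hemb
  convert hli' using 1
  funext p
  show ℓ ^ (p.2 : ℕ) * y ^ (p.1 : ℕ) = g ^ ((emb p).1 : ℕ) • y ^ ((emb p).2 : ℕ)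
  rw [Algebra.smul_def, map_pow, AdjoinSimple.algebraMap_gen]

theorem finrank_T (hK : IsFunctionField k K) {ℓ y : K} (hℓ : Transcendental k ℓ)
    (d : ℕ) (hd : d = (minpoly (IntermediateField.adjoin k ({ℓ} : Set K)) y).natDegree) (m : ℕ) :
    Module.finrank k (T k ℓ y d m) = ∑ j : Fin d, (m + 1 - (j : ℕ)) := by
  unfold T
  rw [finrank_span_eq_card (fam_linearIndependent hK hℓ d hd m), Fintype.card_sigma]
  simp

end Groth.Agent.Helper27.Pln
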