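import Groth.Agent.Lib.Helper27.PlnD
import Groth.Agent.Lib.Helper16.FF.Exists

/-! Plane models: normality of nonsingular affine charts, homogenization. -/

set_option autoImplicit false

namespace Groth.Agent.Helper27.Pln

open FunFld IntermediateField Polynomial Groth.Agent.Helper16.FF
open scoped WithZero

variable {k K : Type*} [Field k] [Field K] [Algebra k K]

/-- **Normality**: if the affine ring `A = k[xᵢ]` (with fraction field `K`) localizes to the whole
valuation ring at every place at which it is integral, then `A` is the intersection of these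
valuation rings. -/
theorem mem_adjoin_of_forall_le_one (hK : IsFunctionField k K) {ι : Type*} (x : ι → K)
    (hfrac : ∀ z : K, ∃ a ∈ Algebra.adjoin k (Set.range x),
      ∃ s ∈ Algebra.adjoin k (Set.range x), s ≠ 0 ∧ z * s = a)
    (hloc : ∀ P : Place k K, (∀ i, P.1 (x i) ≤ 1) → ∀ z, P.1 z ≤ 1 →
      z ∈ locRing (Algebra.adjoin k (Set.range x)) P)
    {z : K} (hz : ∀ P : Place k K, (∀ i, P.1 (x i) ≤ 1) → P.1 z ≤ 1) :
    z ∈ Algebra.adjoin k (Set.range x) := by
  classical
  set A₀ := Algebra.adjoin k (Set.range x) with hA₀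
  let A : Subring K := A₀.toSubring
  let I : Ideal A :=
    { carrier := {w | (w : K) * z ∈ A₀}
      add_mem' := by
        intro a b ha hb
        show ((a + b : A) : K) * z ∈ A₀
        rw [Subring.coe_add, add_mul]
        exact A₀.add_mem ha hb
      zero_mem' := by
        show ((0 : A) : K) * z ∈ A₀
        rw [Subring.coe_zero, zero_mul]
        exact A₀.zero_mem
      smul_mem' := by
        intro c a ha
        show ((c * a : A) : K) * z ∈ A₀
        rw [Subring.coe_mul, mul_assoc]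
        exact A₀.mul_mem c.2 ha }
  by_cases hI : I = ⊤
  · have h1 : (1 : A) ∈ I := by rw [hI]; trivial
    have h2 : ((1 : A) : K) * z ∈ A₀ := h1
    rwa [Subring.coe_one, one_mul] at h2
  exfalso
  obtain ⟨B, hAB, hB⟩ := Ideal.image_subset_nonunits_valuationSubring I hI
  obtain ⟨a, ha, s, hs, hs0, hzs⟩ := hfrac z
  have hsI : (⟨s, hs⟩ : A) ∈ I := by
    show s * z ∈ A₀
    rw [mul_comm, hzs]; exact ha
  have hsB : s ∈ B.nonunits := hB ⟨⟨s, hs⟩, hsI, rfl⟩
  have hBk : ∀ c : k, algebraMap k K c ∈ B := fun c => hAB (A₀.algebraMap_mem c)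
  have hs1 : B.valuation s < 1 := (ValuationSubring.mem_nonunits_iff B).1 hsB
  have hstr : Transcendental k s := transcendental_of_valSub_lt_one hK B hBk hs0 hs1
  obtain ⟨P, hP1, hP2⟩ := exists_place_of_valuationSubring hK B hBk hstr hs1
  have hxP : ∀ i, P.1 (x i) ≤ 1 := fun i =>
    (hP1 _).2 (hAB (Algebra.subset_adjoin ⟨i, rfl⟩))
  obtain ⟨u, hu, w, hw, hw1, hzw⟩ := hloc P hxP z (hz P hxP)
  have hwI : (⟨w, hw⟩ : A) ∈ I := by
    show w * z ∈ A₀
    rw [mul_comm, hzw]; exact hu
  have hwB : w ∈ B.nonunits := hB ⟨⟨w, hw⟩, hwI, rfl⟩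
  have : P.1 w < 1 := (hP2 w).2 ((ValuationSubring.mem_nonunits_iff B).1 hwB)
  rw [hw1] at this
  exact lt_irrefl _ this

/-- **Homogenization**: an element of the chart ring `k[φᵢ/u]` times a large power of `u` lies in
the corresponding power of `V`. -/
theorem exists_pow_mul_mem {ι : Type*} (φ : ι → K) (u : K) (hu0 : u ≠ 0) (V : Submodule k K)
    (huV : u ∈ V) (hφ : ∀ i, φ i ∈ V) {a : K}
    (ha : a ∈ Algebra.adjoin k (Set.range fun i => φ i / u)) :
    ∃ n : ℕ, ∀ N, n ≤ N → u ^ N * a ∈ V ^ N := by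
  induction ha using Algebra.adjoin_induction with
  | mem a ha =>
    obtain ⟨i, rfl⟩ := ha
    refine ⟨1, fun N hN => ?_⟩
    obtain ⟨N', rfl⟩ : ∃ N', N = N' + 1 := ⟨N - 1, by omega⟩
    have e : u ^ (N' + 1) * (φ i / u) = u ^ N' * φ i := by
      rw [pow_succ]; field_simp
    rw [e, pow_succ]
    exact Submodule.mul_mem_mul (Submodule.pow_mem_pow V huV N') (hφ i)
  | algebraMap r =>
    refine ⟨0, fun N _ => ?_⟩
    have e : u ^ N * algebraMap k K r = r • u ^ N := by
      rw [Algebra.smul_def, mul_comm]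
    rw [e]
    exact Submodule.smul_mem _ _ (Submodule.pow_mem_pow V huV N)
  | add a b _ _ ha hb =>
    obtain ⟨na, hna⟩ := ha
    obtain ⟨nb, hnb⟩ := hb
    refine ⟨max na nb, fun N hN => ?_⟩
    rw [mul_add]
    exact Submodule.add_mem _ (hna N (le_trans (le_max_left _ _) hN))
      (hnb N (le_trans (le_max_right _ _) hN))
  | mul a b _ _ ha hb =>
    obtain ⟨na, hna⟩ := ha
    obtain ⟨nb, hnb⟩ := hb
    refine ⟨na + nb, fun N hN => ?_⟩
    obtain ⟨c, rfl⟩ : ∃ c, N = na + c := ⟨N - na, by omega⟩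
    have e : u ^ (na + c) * (a * b) = (u ^ na * a) * (u ^ c * b) := by
      rw [pow_add]; ring
    rw [e, pow_add]
    exact Submodule.mul_mem_mul (hna na le_rfl) (hnb c (by omega))

theorem val_le_of_mem_span {ι : Type*} (φ : ι → K) (P : Place k K) {b : ℤᵐ⁰}
    (hb : ∀ i, P.1 (φ i) ≤ b) {v : K} (hv : v ∈ Submodule.span k (Set.range φ)) : P.1 v ≤ b := by
  induction hv using Submodule.span_induction with
  | mem v hv => obtain ⟨i, rfl⟩ := hv; exact hb i
  | zero => rw [map_zero]; exact zero_le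
  | add a c _ _ ha hc => exact (P.1.map_add a c).trans (max_le ha hc)
  | smul r a _ ha =>
    rw [Algebra.smul_def, map_mul]
    calc P.1 (algebraMap k K r) * P.1 a ≤ 1 * b := mul_le_mul' (P.2.1 r) ha
      _ = b := one_mul b

/-- a nonsingular place is also nonsingular in the chart of any `u ∈ V` that attains the
maximum at `P` -/
theorem mem_locRing_chart {ι : Type*} (φ : ι → K) (P : Place k K) (u : K)
    (hu : u ∈ Submodule.span k (Set.range φ)) (hu0 : u ≠ 0) (hmax : ∀ i, P.1 (φ i) ≤ P.1 u)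
    {z : K} (hz : InLocRing φ P z) :
    z ∈ locRing (Algebra.adjoin k (Set.range fun i => φ i / u)) P := by
  obtain ⟨j, hj0, hj, hzj⟩ := hz
  have hzj' : z ∈ locRing (affRing φ j) P := hzj
  have huj : P.1 u ≤ P.1 (φ j) := val_le_of_mem_span φ P hj hu
  have hu00 : P.1 u ≠ 0 := by rw [Ne, map_eq_zero]; exact hu0
  have h1 : P.1 (φ j / u) = 1 := by
    rw [map_div₀, le_antisymm (hmax j) huj]
    exact div_self hu00
  set A := Algebra.adjoin k (Set.range fun i => φ i / u) with hA
  have h2 : φ j / u ∈ locRing A P := le_locRing _ _ (Algebra.subset_adjoin ⟨j, rfl⟩)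
  refine locRing_le_locRing ?_ hzj'
  apply Algebra.adjoin_le
  rintro _ ⟨i, rfl⟩
  have h3 : φ i / u ∈ locRing A P := le_locRing _ _ (Algebra.subset_adjoin ⟨i, rfl⟩)
  have e : φ i / φ j = φ i / u * (φ j / u)⁻¹ := by
    field_simp
  show φ i / φ j ∈ locRing A P
  rw [e]
  exact (locRing A P).mul_mem h3 (inv_mem_locRing h2 h1)

end Groth.Agent.Helper27.Pln
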