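import Groth.Agent.Lib.Helper27.PlnE

/-! Plane models: generic coordinates. -/

set_option autoImplicit false

namespace Groth.Agent.Helper27.Pln

open FunFld IntermediateField Polynomial Groth.Agent.Helper16.FF
open scoped WithZero

variable {k K : Type*} [Field k] [Field K] [Algebra k K]

/-- generic coordinates for a plane model -/
theorem exists_generic_coords [IsAlgClosed k] (hK : IsFunctionField k K) (x y : K)
    (hxy : IntermediateField.adjoin k ({x, y} : Set K) = ⊤) :
    ∃ ℓ y' : K, Transcendental k ℓ ∧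
      (poleDiv ℓ : Divisor k K) = mapDiv k ![(1 : K), x, y] ∧
      IntermediateField.adjoin k ({ℓ, y'} : Set K) = ⊤ ∧
      Submodule.span k (Set.range ![(1 : K), x, y]) = Submodule.span k ({1, ℓ, y'} : Set K) ∧
      Submodule.span k (Set.range ![(1 : K), x, y]) ≤ L (mapDiv k ![(1 : K), x, y]) := by
  classical
  set φ : Fin 3 → K := ![(1 : K), x, y] with hφ
  set D := mapDiv k φ with hD
  set V := Submodule.span k (Set.range φ) with hV
  have hφ0 : φ 0 = 1 := rfl
  have hD0 : (0 : Divisor k K) ≤ D := fun Q => (mapDiv_of_one hK φ hφ0 Q).1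
  have hVD : V ≤ L D := by
    rw [hV, Submodule.span_le]
    rintro _ ⟨i, rfl⟩ P
    exact val_le_exp_mapDiv' hK φ P i
  have h1V : (1 : K) ∈ V := Submodule.subset_span ⟨0, rfl⟩
  have hxV : x ∈ V := Submodule.subset_span ⟨1, rfl⟩
  have hyV : y ∈ V := Submodule.subset_span ⟨2, rfl⟩
  have hatt : ∀ Q ∈ D.support, ∃ w ∈ V, Q.1 w = WithZero.exp (D Q) := by
    intro Q _
    obtain ⟨j, hj⟩ := (mapDiv_of_one hK φ hφ0 Q).2
    exact ⟨φ j, Submodule.subset_span ⟨j, rfl⟩, hj⟩
  obtain ⟨ℓ, hℓV, hℓ⟩ := exists_generic V D hVD hatt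
  obtain ⟨⟨x₀, hx₀, -⟩, hK2⟩ := id hK
  obtain ⟨Q₁, hQ₁⟩ : D.support.Nonempty := by
    by_contra hempty
    rw [Finset.not_nonempty_iff_eq_empty, Finsupp.support_eq_empty] at hempty
    have hconst : ∀ w ∈ V, w ∈ Set.range (algebraMap k K) := by
      intro w hw
      have := hVD hw
      rw [hempty, L_zero_eq_one hK, Submodule.mem_one] at this
      exact this
    have hle : IntermediateField.adjoin k ({x, y} : Set K) ≤ ⊥ := by
      rw [IntermediateField.adjoin_le_iff]
      intro w hw
      rcases hw with rfl | rfl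
      · exact IntermediateField.mem_bot.2 (hconst _ hxV)
      · exact IntermediateField.mem_bot.2 (hconst _ hyV)
    rw [hxy] at hle
    have : x₀ ∈ (⊥ : IntermediateField k K) := hle trivial
    obtain ⟨c, rfl⟩ := IntermediateField.mem_bot.1 this
    exact hx₀ (isAlgebraic_algebraMap c)
  have hDQ₁ : 0 < D Q₁ :=
    lt_of_le_of_ne (hD0 Q₁) (Ne.symm (Finsupp.mem_support_iff.1 hQ₁))
  have hℓQ₁ : 1 < Q₁.1 ℓ := by
    rw [hℓ Q₁ hQ₁, ← WithZero.exp_zero, WithZero.exp_lt_exp]; exact hDQ₁
  have hℓ0 : ℓ ≠ 0 := by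
    rintro rfl; rw [map_zero] at hℓQ₁; exact absurd hℓQ₁ (by simp)
  have hℓtr : Transcendental k ℓ :=
    Place.transcendental_of_val_ne_one hK Q₁ hℓ0 (ne_of_gt hℓQ₁)
  have hpd : (poleDiv ℓ : Divisor k K) = D := poleDiv_eq_of_generic hK hD0 hℓ0 (hVD hℓV) hℓ
  have hVle : ∀ y' : K, y' ∈ V → Submodule.span k ({1, ℓ, y'} : Set K) ≤ V := by
    intro y' hy'
    rw [Submodule.span_le]
    intro w hw
    rcases hw with rfl | rfl | rfl
    · exact h1V
    · exact hℓV
    · exact hy'
  have hVge : ∀ y' : K, x ∈ Submodule.span k ({1, ℓ, y'} : Set K) →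
      y ∈ Submodule.span k ({1, ℓ, y'} : Set K) → V ≤ Submodule.span k ({1, ℓ, y'} : Set K) := by
    intro y' hx' hy'
    rw [hV, Submodule.span_le]
    rintro _ ⟨i, rfl⟩
    fin_cases i
    · exact Submodule.subset_span (Or.inl rfl)
    · exact hx'
    · exact hy'
  obtain ⟨c, hc⟩ := (Submodule.mem_span_range_iff_exists_fun k).1 hℓV
  rw [Fin.sum_univ_three] at hc
  have hc' : c 0 • (1 : K) + c 1 • x + c 2 • y = ℓ := hc
  by_cases hb : c 1 = 0
  · by_cases hcc : c 2 = 0
    · exfalso
      rw [hb, hcc, zero_smul, zero_smul, add_zero, add_zero, Algebra.smul_def, mul_one] at hc'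
      exact hℓtr (hc' ▸ isAlgebraic_algebraMap _)
    · have hyeq : y = (c 2)⁻¹ • (ℓ - c 0 • (1 : K)) := by
        rw [← hc', hb, zero_smul, add_zero, add_sub_cancel_left, smul_smul,
          inv_mul_cancel₀ hcc, one_smul]
      refine ⟨ℓ, x, hℓtr, hpd, ?_, le_antisymm (hVge x ?_ ?_) (hVle x hxV), hVD⟩
      · rw [eq_top_iff, ← hxy, IntermediateField.adjoin_le_iff]
        have hℓm : ℓ ∈ IntermediateField.adjoin k ({ℓ, x} : Set K) :=
          IntermediateField.subset_adjoin k _ (by simp)
        have hxm : x ∈ IntermediateField.adjoin k ({ℓ, x} : Set K) :=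
          IntermediateField.subset_adjoin k _ (by simp)
        have hym : y ∈ IntermediateField.adjoin k ({ℓ, x} : Set K) := by
          rw [hyeq]
          exact IntermediateField.smul_mem _ (sub_mem hℓm
            (IntermediateField.smul_mem _ (one_mem _)))
        intro w hw
        rcases hw with rfl | rfl
        · exact hxm
        · exact hym
      · exact Submodule.subset_span (by simp)
      · rw [hyeq]
        refine Submodule.smul_mem _ _ (Submodule.sub_mem _ (Submodule.subset_span (by simp))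
          (Submodule.smul_mem _ _ (Submodule.subset_span (by simp))))
  · have hxeq : x = (c 1)⁻¹ • (ℓ - c 0 • (1 : K) - c 2 • y) := by
      rw [← hc']
      have : c 0 • (1 : K) + c 1 • x + c 2 • y - c 0 • (1 : K) - c 2 • y = c 1 • x := by ring
      rw [this, smul_smul, inv_mul_cancel₀ hb, one_smul]
    refine ⟨ℓ, y, hℓtr, hpd, ?_, le_antisymm (hVge y ?_ ?_) (hVle y hyV), hVD⟩
    · rw [eq_top_iff, ← hxy, IntermediateField.adjoin_le_iff]
      have hℓm : ℓ ∈ IntermediateField.adjoin k ({ℓ, y} : Set K) :=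
        IntermediateField.subset_adjoin k _ (by simp)
      have hym : y ∈ IntermediateField.adjoin k ({ℓ, y} : Set K) :=
        IntermediateField.subset_adjoin k _ (by simp)
      have hxm : x ∈ IntermediateField.adjoin k ({ℓ, y} : Set K) := by
        rw [hxeq]
        exact IntermediateField.smul_mem _ (sub_mem (sub_mem hℓm
          (IntermediateField.smul_mem _ (one_mem _))) (IntermediateField.smul_mem _ hym))
      intro w hw
      rcases hw with rfl | rfl
      · exact hxm
      · exact hym
    · rw [hxeq]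
      refine Submodule.smul_mem _ _ (Submodule.sub_mem _ (Submodule.sub_mem _
        (Submodule.subset_span (by simp)) (Submodule.smul_mem _ _ (Submodule.subset_span (by simp))))
        (Submodule.smul_mem _ _ (Submodule.subset_span (by simp))))
    · exact Submodule.subset_span (by simp)

end Groth.Agent.Helper27.Pln
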