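import Groth.Agent.Lib.Helper27.PlnF

/-! Plane models: a nonsingular plane model is projectively normal in large degrees. -/

set_option autoImplicit false

namespace Groth.Agent.Helper27.Pln

open FunFld IntermediateField Polynomial Groth.Agent.Helper16.FF
open scoped WithZero

variable {k K : Type*} [Field k] [Field K] [Algebra k K]

/-- the chart ring `k[φᵢ/u]` has fraction field `K` -/
theorem chart_frac (x y : K) (hxy : IntermediateField.adjoin k ({x, y} : Set K) = ⊤)
    (u : K) (hu0 : u ≠ 0) (z : K) :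
    ∃ a ∈ Algebra.adjoin k (Set.range fun i => ![(1 : K), x, y] i / u),
      ∃ s ∈ Algebra.adjoin k (Set.range fun i => ![(1 : K), x, y] i / u), s ≠ 0 ∧ z * s = a := by
  set φ : Fin 3 → K := ![(1 : K), x, y] with hφ
  set S : Set K := Set.range fun i => φ i / u with hS
  have h0 : u⁻¹ ∈ IntermediateField.adjoin k S := by
    apply IntermediateField.subset_adjoin
    exact ⟨0, by show (1 : K) / u = u⁻¹; rw [one_div]⟩
  have hu : u ∈ IntermediateField.adjoin k S := by
    have := inv_mem h0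
    rwa [inv_inv] at this
  have hφm : ∀ i, φ i ∈ IntermediateField.adjoin k S := by
    intro i
    have h1 : φ i / u ∈ IntermediateField.adjoin k S :=
      IntermediateField.subset_adjoin k S ⟨i, rfl⟩
    have h2 := mul_mem h1 hu
    rwa [div_mul_cancel₀ _ hu0] at h2
  have htop : IntermediateField.adjoin k S = ⊤ := by
    rw [eq_top_iff, ← hxy, IntermediateField.adjoin_le_iff]
    intro w hw
    rcases hw with rfl | rfl
    · exact hφm 1
    · exact hφm 2
  have hz : z ∈ IntermediateField.adjoin k S := by rw [htop]; trivial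
  obtain ⟨r, hr, s, hs, hzrs⟩ := IntermediateField.mem_adjoin_iff_div.1 hz
  by_cases hs0 : s = 0
  · refine ⟨0, Subalgebra.zero_mem _, 1, Subalgebra.one_mem _, one_ne_zero, ?_⟩
    rw [hzrs, hs0, _root_.div_zero, zero_mul]
  · exact ⟨r, hr, s, hs, hs0, by rw [hzrs, div_mul_cancel₀ _ hs0]⟩

/-- membership in a chart ring of a nonsingular plane model is detected by valuations -/
theorem mem_chart_of_nonsingular (hK : IsFunctionField k K) (x y : K)
    (hxy : IntermediateField.adjoin k ({x, y} : Set K) = ⊤)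
    (hns : ∀ P : Place k K, IsNonsingularAt ![(1 : K), x, y] P)
    (u : K) (hu0 : u ≠ 0) (huV : u ∈ Submodule.span k (Set.range ![(1 : K), x, y])) {w : K}
    (hw : ∀ P : Place k K, (∀ i, P.1 (![(1 : K), x, y] i) ≤ P.1 u) → P.1 w ≤ 1) :
    w ∈ Algebra.adjoin k (Set.range fun i => ![(1 : K), x, y] i / u) := by
  set φ : Fin 3 → K := ![(1 : K), x, y] with hφ
  have hconv : ∀ P : Place k K, (∀ i, P.1 (φ i / u) ≤ 1) → ∀ i, P.1 (φ i) ≤ P.1 u := by
    intro P hP i
    have hu00 : 0 < P.1 u := zero_lt_iff.2 (by rw [Ne, map_eq_zero]; exact hu0)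
    have := hP i
    rwa [map_div₀, div_le_one₀ hu00] at this
  refine mem_adjoin_of_forall_le_one hK (fun i => φ i / u) (chart_frac x y hxy u hu0) ?_ ?_
  · intro P hP z hz
    exact mem_locRing_chart φ P u huV hu0 (hconv P hP) (hns P z hz)
  · intro P hP
    exact hw P (hconv P hP)

theorem L_le_V_pow_of_nonsingular [IsAlgClosed k] (hK : IsFunctionField k K) (x y : K)
    (hxy : IntermediateField.adjoin k ({x, y} : Set K) = ⊤)
    (hns : ∀ P : Place k K, IsNonsingularAt ![(1 : K), x, y] P) :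
    ∃ m₀ : ℕ, ∀ m, m₀ ≤ m → L (m • mapDiv k ![(1 : K), x, y]) ≤
      (Submodule.span k (Set.range ![(1 : K), x, y])) ^ m := by
  classical
  obtain ⟨ℓ, y', hℓtr, hpd, hgen, hVeq, hVD⟩ := exists_generic_coords hK x y hxy
  set φ : Fin 3 → K := ![(1 : K), x, y] with hφ
  set D := mapDiv k φ with hD
  set V := Submodule.span k (Set.range φ) with hV
  have hℓV : ℓ ∈ V := by rw [hVeq]; exact Submodule.subset_span (by simp)
  have h1V : (1 : K) ∈ V := Submodule.subset_span ⟨0, rfl⟩
  have hφV : ∀ i, φ i ∈ V := fun i => Submodule.subset_span ⟨i, rfl⟩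
  have hℓ0 : ℓ ≠ 0 := fun h => hℓtr (h ▸ isAlgebraic_zero)
  obtain ⟨m₁, hm₁⟩ := L_succ_eq hK hℓtr
  rw [hpd] at hm₁
  -- good elements
  let Good : ℕ → K → Prop := fun n z =>
    (∀ N, n ≤ N → z ∈ V ^ N) ∧ (∀ M, n ≤ M → ℓ ^ M * z ∈ V ^ (M + m₁))
  have hGood_mono : ∀ {n n' : ℕ} {z : K}, n ≤ n' → Good n z → Good n' z := by
    intro n n' z h hg
    exact ⟨fun N hN => hg.1 N (h.trans hN), fun M hM => hg.2 M (h.trans hM)⟩
  have hgood : ∀ z ∈ L (m₁ • D), ∃ n, Good n z := by
    intro z hz
    -- chart `1`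
    have h1 : z ∈ Algebra.adjoin k (Set.range fun i => φ i / 1) := by
      refine mem_chart_of_nonsingular hK x y hxy hns 1 one_ne_zero h1V ?_
      intro P hP
      obtain ⟨hD0, j, hj⟩ := mapDiv_of_one hK φ (i₀ := 0) rfl P
      have hDP : D P = 0 := by
        have h2 := hP j
        rw [hj, map_one, ← WithZero.exp_zero, WithZero.exp_le_exp] at h2
        exact le_antisymm h2 hD0
      have := hz P
      rwa [Finsupp.smul_apply, hDP, smul_zero, WithZero.exp_zero] at this
    obtain ⟨n₁, hn₁⟩ := exists_pow_mul_mem φ 1 one_ne_zero V h1V hφV h1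
    -- chart `ℓ`
    have h2 : z / ℓ ^ m₁ ∈ Algebra.adjoin k (Set.range fun i => φ i / ℓ) := by
      refine mem_chart_of_nonsingular hK x y hxy hns ℓ hℓ0 hℓV ?_
      intro P hP
      have h3 : 1 ≤ P.1 ℓ := by
        have := hP 0
        rwa [show (![(1 : K), x, y] : Fin 3 → K) 0 = 1 from rfl, map_one] at this
      have h4 : WithZero.exp (D P) = P.1 ℓ := by
        rw [← hpd]; exact exp_poleDiv_of_one_le hK h3
      have h5 := hz P
      rw [Finsupp.smul_apply, WithZero.exp_nsmul, h4] at h5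
      have hℓ00 : 0 < P.1 ℓ ^ m₁ :=
        zero_lt_iff.2 (pow_ne_zero _ (by rw [Ne, map_eq_zero]; exact hℓ0))
      rw [map_div₀, map_pow, div_le_one₀ hℓ00]
      exact h5
    obtain ⟨n₂, hn₂⟩ := exists_pow_mul_mem φ ℓ hℓ0 V hℓV hφV h2
    refine ⟨max n₁ n₂, fun N hN => ?_, fun M hM => ?_⟩
    · have := hn₁ N ((le_max_left _ _).trans hN)
      rwa [one_pow, one_mul] at this
    · have := hn₂ (M + m₁) (((le_max_right _ _).trans hM).trans (Nat.le_add_right _ _))
      have e : ℓ ^ (M + m₁) * (z / ℓ ^ m₁) = ℓ ^ M * z := by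
        rw [pow_add]; field_simp
      rwa [e] at this
  -- a uniform bound
  have hfd := finiteDimensional_L hK (m₁ • D)
  obtain ⟨S, hS⟩ : (L (m₁ • D)).FG := (Submodule.fg_iff_finiteDimensional _).2 hfd
  have hSL : ∀ s ∈ S, s ∈ L (m₁ • D) := fun s hs => hS ▸ Submodule.subset_span hs
  obtain ⟨n₀, hn₀⟩ : ∃ n₀, ∀ s ∈ S, Good n₀ s := by
    have : ∀ S' : Finset K, (∀ s ∈ S', s ∈ L (m₁ • D)) → ∃ n₀, ∀ s ∈ S', Good n₀ s := by
      intro S'
      induction S' using Finset.induction_on with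
      | empty => intro _; exact ⟨0, fun s hs => absurd hs (Finset.notMem_empty s)⟩
      | insert a S' _ ih =>
        intro h
        obtain ⟨n', hn'⟩ := ih (fun s hs => h s (Finset.mem_insert_of_mem hs))
        obtain ⟨na, hna⟩ := hgood a (h a (Finset.mem_insert_self a S'))
        refine ⟨max n' na, fun s hs => ?_⟩
        rcases Finset.mem_insert.1 hs with rfl | hs'
        · exact hGood_mono (le_max_right _ _) hna
        · exact hGood_mono (le_max_left _ _) (hn' s hs')
    exact this S hSL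
  have hall : ∀ z ∈ L (m₁ • D), Good n₀ z := by
    intro z hz
    rw [← hS] at hz
    induction hz using Submodule.span_induction with
    | mem z hz => exact hn₀ z hz
    | zero =>
      exact ⟨fun N _ => Submodule.zero_mem _, fun M _ => by rw [mul_zero]; exact Submodule.zero_mem _⟩
    | add a b _ _ ha hb =>
      exact ⟨fun N hN => Submodule.add_mem _ (ha.1 N hN) (hb.1 N hN),
        fun M hM => by rw [mul_add]; exact Submodule.add_mem _ (ha.2 M hM) (hb.2 M hM)⟩
    | smul r a _ ha =>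
      exact ⟨fun N hN => Submodule.smul_mem _ r (ha.1 N hN),
        fun M hM => by rw [mul_smul_comm]; exact Submodule.smul_mem _ r (ha.2 M hM)⟩
  -- the spaces `G N`
  let G : ℕ → Submodule k K := fun N =>
    Submodule.span k {w | ∃ b, b ≤ N ∧ ∃ z ∈ L (m₁ • D), w = ℓ ^ b * z}
  have hGmono : ∀ N, G N ≤ G (N + 1) := by
    intro N
    apply Submodule.span_mono
    rintro w ⟨b, hb, z, hz, rfl⟩
    exact ⟨b, by omega, z, hz, rfl⟩
  have hGmul : ∀ N, ∀ w ∈ G N, ℓ * w ∈ G (N + 1) := by
    intro N w hw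
    induction hw using Submodule.span_induction with
    | mem w hw =>
      obtain ⟨b, hb, z, hz, rfl⟩ := hw
      exact Submodule.subset_span ⟨b + 1, by omega, z, hz, by rw [pow_succ]; ring⟩
    | zero => rw [mul_zero]; exact Submodule.zero_mem _
    | add a b _ _ ha hb => rw [mul_add]; exact Submodule.add_mem _ ha hb
    | smul r a _ ha => rw [mul_smul_comm]; exact Submodule.smul_mem _ r ha
  have hLG : ∀ N, L ((m₁ + N) • D) ≤ G N := by
    intro N
    induction N with
    | zero =>
      intro z hz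
      exact Submodule.subset_span ⟨0, le_rfl, z, hz, by rw [pow_zero, one_mul]⟩
    | succ N ih =>
      intro w hw
      obtain ⟨a, ha, b, hb, rfl⟩ := hm₁ (m₁ + N) (Nat.le_add_right _ _) w hw
      exact Submodule.add_mem _ (hGmul N a (ih ha)) (hGmono N (ih hb))
  have hGV : ∀ N, 2 * n₀ ≤ N → G N ≤ V ^ (m₁ + N) := by
    intro N hN
    apply Submodule.span_le.2
    rintro w ⟨b, hb, z, hz, rfl⟩
    obtain ⟨hg1, hg2⟩ := hall z hz
    by_cases hbn : n₀ ≤ b
    · exact pow_le_pow_of_one_mem h1V (by omega) (hg2 b hbn)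
    · have h1 : z ∈ V ^ (N - b + m₁) := hg1 _ (by omega)
      have h2 : ℓ ^ b ∈ V ^ b := Submodule.pow_mem_pow V hℓV b
      have h3 := Submodule.mul_mem_mul h2 h1
      rw [← pow_add] at h3
      have e : b + (N - b + m₁) = m₁ + N := by omega
      rwa [e] at h3
  refine ⟨m₁ + 2 * n₀, fun m hm => ?_⟩
  obtain ⟨N, rfl⟩ : ∃ N, m = m₁ + N := ⟨m - m₁, by omega⟩
  exact (hLG N).trans (hGV N (by omega))

end Groth.Agent.Helper27.Pln
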