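import Groth.Agent.Lib.Helper27.PlnE
import Groth.Agent.S11065
import Groth.Agent.S11075
import Groth.Agent.S11078

/-! Nonsingularity and hyperplanes of intersection multiplicity one (S11076). -/

set_option autoImplicit false

namespace Groth.Agent.Helper27.Pln

open FunFld IntermediateField Polynomial Groth.Agent.Helper16.FF
open scoped WithZero

variable {k K : Type*} [Field k] [Field K] [Algebra k K]

/-- the term `[φ](Q) + ord_Q h` is `ord_Q (h / φⱼ)` for an entry of least order -/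
theorem term_eq (hK : IsFunctionField k K) {n : ℕ} (φ : Fin (n + 1) → K) (hφ0 : ∀ i, φ i ≠ 0)
    (Q : Place k K) {j : Fin (n + 1)} (hj : ∀ i, Q.1 (φ i) ≤ Q.1 (φ j)) {h : K} (hh : h ≠ 0) :
    Q.1 (h / φ j) = WithZero.exp (-(mapDiv k φ Q + Q.ord h)) := by
  rw [map_div₀, val_eq_exp_mapDiv_of_max hK φ hφ0 Q hj, Place.val_eq_exp_neg_ord Q hh,
    ← WithZero.exp_sub]
  congr 1; ring

/-- with common residues `γ`, the term vanishes iff `∑ cᵢ γᵢ ≠ 0` -/
theorem term_eq_zero_iff (hK : IsFunctionField k K) {n : ℕ} (φ : Fin (n + 1) → K)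
    (hφ0 : ∀ i, φ i ≠ 0) (Q : Place k K) {j : Fin (n + 1)} (hj : ∀ i, Q.1 (φ i) ≤ Q.1 (φ j))
    (γ : Fin (n + 1) → k) (hγ : ∀ i, Q.1 (φ i / φ j - algebraMap k K (γ i)) < 1)
    (c : Fin (n + 1) → k) (hh : ∑ i, c i • φ i ≠ 0) :
    mapDiv k φ Q + Q.ord (∑ i, c i • φ i) = 0 ↔ ∑ i, c i * γ i ≠ 0 := by
  set h := ∑ i, c i • φ i with hh'
  have hval := term_eq hK φ hφ0 Q hj hh
  have hsplit : h / φ j = algebraMap k K (∑ i, c i * γ i) +
      ∑ i, c i • (φ i / φ j - algebraMap k K (γ i)) := by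
    rw [hh', Finset.sum_div, map_sum, ← Finset.sum_add_distrib]
    refine Finset.sum_congr rfl fun i _ => ?_
    rw [map_mul, Algebra.smul_def, Algebra.smul_def]
    ring
  have hsmall : Q.1 (∑ i, c i • (φ i / φ j - algebraMap k K (γ i))) < 1 := by
    refine Valuation.map_sum_lt Q.1 one_ne_zero fun i _ => ?_
    rw [Algebra.smul_def, map_mul]
    calc Q.1 (algebraMap k K (c i)) * Q.1 (φ i / φ j - algebraMap k K (γ i))
        ≤ 1 * Q.1 (φ i / φ j - algebraMap k K (γ i)) := mul_le_mul' (Q.2.1 _) le_rfl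
      _ < 1 := by rw [one_mul]; exact hγ i
  constructor
  · intro h0 hγ0
    rw [h0, neg_zero, WithZero.exp_zero, hsplit, hγ0, map_zero, zero_add] at hval
    rw [hval] at hsmall
    exact lt_irrefl _ hsmall
  · intro hγ0
    have h1 : Q.1 (algebraMap k K (∑ i, c i * γ i)) = 1 :=
      Groth.Agent.Helper16.FFW.Place.val_algebraMap Q hγ0
    have h2 : Q.1 (h / φ j) = 1 := by
      rw [hsplit, Valuation.map_add_eq_of_lt_left Q.1 (by rw [h1]; exact hsmall), h1]
    rw [h2, ← WithZero.exp_zero, WithZero.exp_inj] at hval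
    omega

theorem term_nonneg (hK : IsFunctionField k K) {n : ℕ} (φ : Fin (n + 1) → K) (hφ0 : ∀ i, φ i ≠ 0)
    (Q : Place k K) {h : K} (hh : h ≠ 0) (hhV : h ∈ Submodule.span k (Set.range φ)) :
    0 ≤ mapDiv k φ Q + Q.ord h := by
  have := span_le_L_mapDiv hK φ hφ0 hhV Q
  rw [Place.val_le_exp_iff Q hh] at this
  omega

theorem sum_smul_mem_span {n : ℕ} (φ : Fin (n + 1) → K) (c : Fin (n + 1) → k) :
    ∑ i, c i • φ i ∈ Submodule.span k (Set.range φ) :=
  Submodule.sum_mem _ fun i _ => Submodule.smul_mem _ _ (Submodule.subset_span ⟨i, rfl⟩)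

theorem main11076 [IsAlgClosed k] (hK : IsFunctionField k K) {n : ℕ} (hn : 1 ≤ n)
    (φ : Fin (n + 1) → K) (hφ : LinearIndependent k φ)
    (hbir : IntermediateField.adjoin k (Set.range fun i => φ i / φ 0) = ⊤)
    (P : Place k K) :
    IsNonsingularAt φ P ↔ ∃ c : Fin (n + 1) → k, ∑ i, c i • φ i ≠ 0 ∧
      ∑ᶠ Q ∈ {Q : Place k K | SameImage φ P Q},
        ((mapDiv k φ) Q + Q.ord (∑ i, c i • φ i)) = 1 := by
  classical
  have hφ0 : ∀ i, φ i ≠ 0 := hφ.ne_zero
  obtain ⟨j, hj0, hj⟩ := exists_max_index φ P ⟨0, hφ0 0⟩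
  have hjD : P.1 (φ j) = WithZero.exp (mapDiv k φ P) := val_eq_exp_mapDiv_of_max hK φ hφ0 P hj
  have hrP : ∀ i, P.1 (φ i / φ j) ≤ 1 := by
    intro i
    rw [map_div₀]
    exact div_le_one_of_le₀ (hj i) zero_le
  have hγ : ∀ i, ∃ c : k, P.1 (φ i / φ j - algebraMap k K c) < 1 := fun i =>
    exists_const_sub_lt_one hK (Place.deg_eq_one hK P) (hrP i)
  choose γ hγ using hγ
  have hPP : SameImage φ P P := ⟨j, hj0, hj, hj, fun i => ⟨γ i, hγ i, hγ i⟩⟩
  have h65 := Groth.Agent.S11065.result k K hK hn φ hφ hbir P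
  have h78 := fun Q => Groth.Agent.S11078.result k K hK hn φ hφ P Q
  have hFfin : {Q : Place k K | SameImage φ P Q}.Finite :=
    (Groth.Agent.S11075.result k K hK hn φ hφ).2 P
  constructor
  · intro hns
    obtain ⟨hi, t, ht, htv⟩ := h65.1 hns
    -- the fibre is `{P}`
    have hF : {Q : Place k K | SameImage φ P Q} = {P} := by
      ext Q
      simp only [Set.mem_setOf_eq, Set.mem_singleton_iff]
      constructor
      · intro hQ
        exact hi Q (fun z hz => ((h78 Q).1 hQ z hz).1)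
      · rintro rfl; exact hPP
    -- a uniformizer in the span
    set ψ : Fin (n + 1) → K := fun i => φ i / φ j with hψ
    have hψj : ψ j = 1 := div_self hj0
    have heff : (1 : K) ∈ Submodule.span k (Set.range ψ) := by
      rw [← hψj]; exact Submodule.subset_span ⟨j, rfl⟩
    have hratio : (fun i => ψ i / ψ j) = fun i => φ i / φ j := by
      funext i
      rw [hψj, div_one]
    have ht' : InLocRing ψ P t := by
      have h1 := (inLocRing_iff φ P hj0 hj t).1 ht
      obtain ⟨u, hu, w, hw, hw1, htw⟩ := h1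
      refine ⟨j, by rw [hψj]; exact one_ne_zero, fun i => by rw [hψj, map_one]; exact hrP i,
        u, ?_, w, ?_, hw1, htw⟩
      · rw [hratio]; exact hu
      · rw [hratio]; exact hw
    obtain ⟨t', ht'V, ht'v⟩ := exists_mem_span_of_inLocRing hK ψ P heff hrP ht' htv
    obtain ⟨c, hc⟩ := (Submodule.mem_span_range_iff_exists_fun k).1 ht'V
    have hh : ∑ i, c i • φ i = t' * φ j := by
      rw [← hc, Finset.sum_mul]
      refine Finset.sum_congr rfl fun i _ => ?_
      rw [hψ, smul_mul_assoc, div_mul_cancel₀ _ hj0]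
    have ht'0 : t' ≠ 0 := by
      rintro rfl
      rw [map_zero] at ht'v
      exact WithZero.exp_ne_zero.symm ht'v
    have hh0 : ∑ i, c i • φ i ≠ 0 := by rw [hh]; exact mul_ne_zero ht'0 hj0
    refine ⟨c, hh0, ?_⟩
    rw [hF, finsum_mem_singleton]
    have h1 := term_eq hK φ hφ0 P hj hh0
    rw [hh, mul_div_assoc, div_self hj0, mul_one, ht'v, WithZero.exp_inj] at h1
    rw [hh]
    omega
  · rintro ⟨c, hh0, hsum⟩
    set h := ∑ i, c i • φ i with hh
    have hhV : h ∈ Submodule.span k (Set.range φ) := sum_smul_mem_span φ c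
    -- all terms are nonnegative, and vanish simultaneously
    have hterm0 : ∀ Q, 0 ≤ mapDiv k φ Q + Q.ord h := fun Q => term_nonneg hK φ hφ0 Q hh0 hhV
    have hiff : ∀ Q, SameImage φ P Q →
        (mapDiv k φ Q + Q.ord h = 0 ↔ mapDiv k φ P + P.ord h = 0) := by
      rintro Q ⟨j₀, hj₀0, hj₀P, hj₀Q, hres⟩
      choose δ hδP hδQ using hres
      rw [term_eq_zero_iff hK φ hφ0 Q hj₀Q δ hδQ c hh0,
        term_eq_zero_iff hK φ hφ0 P hj₀P δ hδP c hh0]
    rw [finsum_mem_eq_finite_toFinset_sum _ hFfin] at hsum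
    have hPmem : P ∈ hFfin.toFinset := by rw [Set.Finite.mem_toFinset]; exact hPP
    have hP1 : mapDiv k φ P + P.ord h ≠ 0 := by
      intro h0
      have : ∑ Q ∈ hFfin.toFinset, (mapDiv k φ Q + Q.ord h) = 0 := by
        refine Finset.sum_eq_zero fun Q hQ => ?_
        rw [Set.Finite.mem_toFinset] at hQ
        exact (hiff Q hQ).2 h0
      rw [this] at hsum
      exact zero_ne_one hsum
    have hge : ∀ Q ∈ hFfin.toFinset, 1 ≤ mapDiv k φ Q + Q.ord h := by
      intro Q hQ
      rw [Set.Finite.mem_toFinset] at hQ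
      have h1 : mapDiv k φ Q + Q.ord h ≠ 0 := fun h0 => hP1 ((hiff Q hQ).1 h0)
      have := hterm0 Q
      omega
    have hcard : hFfin.toFinset.card ≤ 1 := by
      have := Finset.card_nsmul_le_sum hFfin.toFinset _ 1 hge
      rw [hsum] at this
      simpa using this
    have hFP : ∀ Q, SameImage φ P Q → Q = P := by
      intro Q hQ
      exact Finset.card_le_one.1 hcard Q (by rw [Set.Finite.mem_toFinset]; exact hQ) P hPmem
    have hsingle : hFfin.toFinset = {P} := by
      ext Q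
      rw [Set.Finite.mem_toFinset, Finset.mem_singleton]
      exact ⟨hFP Q, by rintro rfl; exact hPP⟩
    rw [hsingle, Finset.sum_singleton] at hsum
    -- apply the criterion
    set A := affRing (k := k) φ j with hA
    have hAP : ∀ a ∈ A, P.1 a ≤ 1 := fun a ha => val_le_one_of_mem_adjoin _ P hrP ha
    refine h65.2 ⟨?_, h / φ j, ?_, ?_⟩
    · intro Q hQ
      apply hFP
      have hrA : ∀ i, φ i / φ j ∈ A := fun i => Algebra.subset_adjoin ⟨i, rfl⟩
      have hloc : ∀ a ∈ locRing A P, Q.1 a ≤ 1 := fun a ha =>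
        hQ a ((inLocRing_iff φ P hj0 hj a).2 ha)
      have hrQ : ∀ i, Q.1 (φ i / φ j) ≤ 1 := fun i => hloc _ (le_locRing A P (hrA i))
      have hjQ : ∀ i, Q.1 (φ i) ≤ Q.1 (φ j) := by
        intro i
        have := hrQ i
        have hpos : 0 < Q.1 (φ j) := zero_lt_iff.2 (by rw [Ne, map_eq_zero]; exact hj0)
        rwa [map_div₀, div_le_one₀ hpos] at this
      refine ⟨j, hj0, hj, hjQ, fun i => ⟨γ i, hγ i, ?_⟩⟩
      by_contra hnot
      obtain ⟨γ', hγ'⟩ := exists_const_sub_lt_one hK (Place.deg_eq_one hK Q) (hrQ i)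
      have hne : γ i ≠ γ' := by
        rintro rfl
        exact hnot hγ'
      set w := φ i / φ j - algebraMap k K γ' with hw
      have hwA : w ∈ A := Subalgebra.sub_mem _ (hrA i) (Subalgebra.algebraMap_mem _ _)
      have hwP : P.1 w = 1 := by
        have e : w = algebraMap k K (γ i - γ') + (φ i / φ j - algebraMap k K (γ i)) := by
          rw [hw, map_sub]; ring
        have h1 : P.1 (algebraMap k K (γ i - γ')) = 1 :=
          Groth.Agent.Helper16.FFW.Place.val_algebraMap P (sub_ne_zero.2 hne)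
        rw [e, Valuation.map_add_eq_of_lt_left P.1 (by rw [h1]; exact hγ i), h1]
      have hwinv : w⁻¹ ∈ locRing A P := inv_mem_locRing (le_locRing A P hwA) hwP
      have h2 := hloc _ hwinv
      rw [map_inv₀] at h2
      have hw0 : Q.1 w ≠ 0 := by
        intro h0
        rw [h0, inv_zero] at h2
        rw [map_eq_zero] at h0
        rw [h0, map_zero] at hwP
        exact zero_ne_one hwP
      have h3 : 1 ≤ Q.1 w := (inv_le_one₀ (zero_lt_iff.2 hw0)).1 h2
      exact absurd hγ' (not_lt.2 h3)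
    · exact (inLocRing_iff φ P hj0 hj _).2 (le_locRing A P (div_mem_adjoin_of_mem_span φ j hhV))
    · rw [term_eq hK φ hφ0 P hj hh0, hsum]

end Groth.Agent.Helper27.Pln
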