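import Groth.Agent.Lib.Helper27.PlnE
import Groth.Agent.Lib.Helper16.FF.NSH
import Groth.Agent.Lib.Helper17.FF3

/-! The conductor of the local ring of a projective map at a point (S12532). -/

set_option autoImplicit false

namespace Groth.Agent.Helper27.Pln

open FunFld IntermediateField Polynomial Groth.Agent.Helper16.FF
open scoped WithZero

variable {k K : Type*} [Field k] [Field K] [Algebra k K]

theorem pair_li {ι : Type*} (φ : ι → K) (hφ : LinearIndependent k φ) {i j : ι} (hij : i ≠ j) :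
    LinearIndependent k ![φ i, φ j] := by
  have hinj : Function.Injective ![i, j] := by
    intro a b hab
    fin_cases a <;> fin_cases b
    · rfl
    · exact absurd hab hij
    · exact absurd hab.symm hij
    · rfl
  have := hφ.comp ![i, j] hinj
  convert this using 1
  ext a; fin_cases a <;> rfl

theorem main12532 [IsAlgClosed k] (hK : IsFunctionField k K) {n : ℕ} (hn : 1 ≤ n)
    (φ : Fin (n + 1) → K) (hφ : LinearIndependent k φ)
    (hbir : IntermediateField.adjoin k (Set.range fun i => φ i / φ 0) = ⊤) (P : Place k K) :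
    ∃ N : ℕ, ∀ z : K, (∀ Q : Place k K, SameImage φ P Q → Q.1 z ≤ WithZero.exp (-(N : ℤ))) →
      InLocRing φ P z := by
  classical
  have hφ0 : ∀ i, φ i ≠ 0 := hφ.ne_zero
  obtain ⟨j, hj0, hj⟩ := exists_max_index φ P ⟨0, hφ0 0⟩
  set r : Fin (n + 1) → K := fun i => φ i / φ j with hr
  have hrP : ∀ i, P.1 (r i) ≤ 1 := by
    intro i
    rw [hr, map_div₀]
    exact div_le_one_of_le₀ (hj i) zero_le
  set A : Subalgebra k K := Algebra.adjoin k (Set.range r) with hA
  have hrA : ∀ i, r i ∈ A := fun i => Algebra.subset_adjoin ⟨i, rfl⟩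
  have hAP : ∀ a ∈ A, P.1 a ≤ 1 := fun a ha => val_le_one_of_mem_adjoin r P hrP ha
  -- the places at infinity
  have hTfin : {Q : Place k K | ∃ i, ¬ Q.1 (r i) ≤ 1}.Finite := by
    have : {Q : Place k K | ∃ i, ¬ Q.1 (r i) ≤ 1} = ⋃ i, {Q : Place k K | ¬ Q.1 (r i) ≤ 1} := by
      ext Q; simp
    rw [this]
    exact Set.finite_iUnion fun i => finite_poles hK (r i)
  set T := hTfin.toFinset with hT
  have hTmem : ∀ Q, Q ∈ T ↔ ∃ i, ¬ Q.1 (r i) ≤ 1 := fun Q => by
    rw [hT, Set.Finite.mem_toFinset]; rfl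
  have hnT : ∀ Q, Q ∉ T → ∀ a ∈ A, Q.1 a ≤ 1 := by
    intro Q hQ a ha
    refine val_le_one_of_mem_adjoin r Q (fun i => ?_) ha
    by_contra h
    exact hQ ((hTmem Q).2 ⟨i, h⟩)
  obtain ⟨y, hyA, hy⟩ := exists_pole_all A T (fun Q hQ => by
    obtain ⟨i, hi⟩ := (hTmem Q).1 hQ
    exact ⟨r i, hrA i, not_le.1 hi⟩)
  -- a transcendental ratio
  haveI : Nontrivial (Fin (n + 1)) := Fin.nontrivial_iff_two_le.mpr (by omega)
  obtain ⟨i₁, hi₁⟩ := exists_ne j
  have hr₁ : Transcendental k (r i₁) := by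
    intro halg
    obtain ⟨c, hc⟩ := hK.2 _ halg
    have h1 : φ i₁ = c • φ j := by
      rw [Algebra.smul_def, hc, hr, div_mul_cancel₀ _ hj0]
    have hli : LinearIndependent k ![φ i₁, φ j] := pair_li φ hφ hi₁
    have := LinearIndependent.pair_iff.1 hli 1 (-c) (by rw [one_smul, neg_smul, h1]; simp)
    exact one_ne_zero this.1
  obtain ⟨Q₁, hQ₁⟩ := exists_pole hK hr₁
  have hQ₁T : Q₁ ∈ T := (hTmem Q₁).2 ⟨i₁, not_le.2 hQ₁⟩
  have hy0 : y ≠ 0 := by
    rintro rfl
    have := hy Q₁ hQ₁T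
    rw [map_zero] at this
    exact absurd this (by simp)
  have hytr : Transcendental k y :=
    Place.transcendental_of_val_ne_one hK Q₁ hy0 (ne_of_gt (hy Q₁ hQ₁T))
  -- the fraction field of `A`
  have hfrac : ∀ z : K, ∃ a ∈ A, ∃ s ∈ A, s ≠ 0 ∧ z * s = a := by
    intro z
    have htop : IntermediateField.adjoin k (Set.range r) = ⊤ := by
      rw [eq_top_iff, ← hbir, IntermediateField.adjoin_le_iff]
      rintro _ ⟨i, rfl⟩
      have h1 : r i ∈ IntermediateField.adjoin k (Set.range r) :=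
        IntermediateField.subset_adjoin k _ ⟨i, rfl⟩
      have h2 : r 0 ∈ IntermediateField.adjoin k (Set.range r) :=
        IntermediateField.subset_adjoin k _ ⟨0, rfl⟩
      have e : φ i / φ 0 = r i / r 0 := by
        rw [hr]
        have := hφ0 0
        field_simp
      show φ i / φ 0 ∈ IntermediateField.adjoin k (Set.range r)
      rw [e]
      exact div_mem h1 h2
    have hz : z ∈ IntermediateField.adjoin k (Set.range r) := by rw [htop]; trivial
    obtain ⟨a, ha, s, hs, hzas⟩ := IntermediateField.mem_adjoin_iff_div.1 hz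
    by_cases hs0 : s = 0
    · refine ⟨0, Subalgebra.zero_mem _, 1, Subalgebra.one_mem _, one_ne_zero, ?_⟩
      rw [hzas, hs0, _root_.div_zero, zero_mul]
    · exact ⟨a, ha, s, hs, hs0, by rw [hzas, div_mul_cancel₀ _ hs0]⟩
  obtain ⟨c, hcA, hc0, hcond⟩ := exists_conductor hK A hyA hytr hfrac
  -- the fibre
  have hFfin : {Q : Place k K | SameImage φ P Q}.Finite :=
    Groth.Agent.Helper17.finite_fibre hK hn φ hφ P
  set F := hFfin.toFinset with hF
  have hFmem : ∀ Q, Q ∈ F ↔ SameImage φ P Q := fun Q => by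
    rw [hF, Set.Finite.mem_toFinset]; rfl
  set N : ℕ := F.sup (fun Q => (Q.ord c).toNat) with hN
  refine ⟨N, fun z hz => ?_⟩
  rw [inLocRing_iff φ P hj0 hj]
  show z ∈ locRing A P
  set w := z / c with hw
  have hwF : ∀ Q, SameImage φ P Q → Q.1 w ≤ 1 := by
    intro Q hQ
    have h1 := hz Q hQ
    have h2 : (Q.ord c).toNat ≤ N := Finset.le_sup (f := fun Q => (Q.ord c).toNat) ((hFmem Q).2 hQ)
    have h3 : Q.ord c ≤ N := (Int.self_le_toNat _).trans (by exact_mod_cast h2)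
    have hcpos : 0 < Q.1 c := zero_lt_iff.2 (by rw [Ne, map_eq_zero]; exact hc0)
    rw [hw, map_div₀, div_le_one₀ hcpos]
    refine h1.trans ?_
    rw [Place.val_eq_exp_neg_ord Q hc0, WithZero.exp_le_exp]
    omega
  -- residues at `P`
  have hγ : ∀ i, ∃ c : k, P.1 (r i - algebraMap k K c) < 1 := fun i =>
    exists_const_sub_lt_one hK (Place.deg_eq_one hK P) (hrP i)
  choose γ hγ using hγ
  -- the bad finite places
  have hBfin : {Q : Place k K | ¬ Q.1 w ≤ 1 ∧ Q ∉ T}.Finite :=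
    (finite_poles hK w).subset (fun Q h => h.1)
  set B := hBfin.toFinset with hB
  have hBmem : ∀ Q, Q ∈ B ↔ ¬ Q.1 w ≤ 1 ∧ Q ∉ T := fun Q => by
    rw [hB, Set.Finite.mem_toFinset]; rfl
  have hs : ∀ Q : Place k K, ∃ s ∈ A, P.1 s = 1 ∧ (Q ∈ B → Q.1 s < 1) := by
    intro Q
    by_cases hQ : Q ∈ B
    · obtain ⟨h1, h2⟩ := (hBmem Q).1 hQ
      have hrQ : ∀ i, Q.1 (r i) ≤ 1 := fun i => by
        by_contra h; exact h2 ((hTmem Q).2 ⟨i, h⟩)
      have hjQ : ∀ i, Q.1 (φ i) ≤ Q.1 (φ j) := by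
        intro i
        have := hrQ i
        have hpos : 0 < Q.1 (φ j) := zero_lt_iff.2 (by rw [Ne, map_eq_zero]; exact hj0)
        rwa [hr, map_div₀, div_le_one₀ hpos] at this
      have hnot : ¬ SameImage φ P Q := fun h => h1 (hwF Q h)
      have hex : ∃ i, ¬ Q.1 (r i - algebraMap k K (γ i)) < 1 := by
        by_contra hall
        push Not at hall
        exact hnot ⟨j, hj0, hj, hjQ, fun i => ⟨γ i, hγ i, hall i⟩⟩
      obtain ⟨i, hi⟩ := hex
      obtain ⟨γ', hγ'⟩ := exists_const_sub_lt_one hK (Place.deg_eq_one hK Q) (hrQ i)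
      have hne : γ i ≠ γ' := by
        rintro rfl
        exact hi hγ'
      refine ⟨r i - algebraMap k K γ', Subalgebra.sub_mem _ (hrA i) (Subalgebra.algebraMap_mem _ _),
        ?_, fun _ => hγ'⟩
      have e : r i - algebraMap k K γ' = algebraMap k K (γ i - γ') + (r i - algebraMap k K (γ i)) := by
        rw [map_sub]; ring
      have h3 : P.1 (algebraMap k K (γ i - γ')) = 1 :=
        Groth.Agent.Helper16.FFW.Place.val_algebraMap P (sub_ne_zero.2 hne)
      rw [e, Valuation.map_add_eq_of_lt_left P.1 (by rw [h3]; exact hγ i), h3]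
    · exact ⟨1, A.one_mem, map_one _, fun h => absurd h hQ⟩
  choose s hsA hsP hsQ using hs
  set w₀ := ∏ Q ∈ B, s Q with hw₀
  have hw₀A : w₀ ∈ A := Subalgebra.prod_mem _ (fun Q _ => hsA Q)
  have hw₀P : P.1 w₀ = 1 := by
    rw [hw₀, map_prod]; exact Finset.prod_eq_one (fun Q _ => hsP Q)
  have hw₀0 : w₀ ≠ 0 := by
    intro h; rw [h, map_zero] at hw₀P; exact zero_ne_one hw₀P
  have hw₀Q : ∀ Q ∈ B, Q.1 w₀ < 1 := by
    intro Q hQ
    rw [hw₀, map_prod, ← Finset.mul_prod_erase B _ hQ]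
    have h1 := hsQ Q hQ
    have h2 : ∏ Q' ∈ B.erase Q, Q.1 (s Q') ≤ 1 :=
      Finset.prod_le_one' (fun Q' _ => hnT Q ((hBmem Q).1 hQ).2 _ (hsA Q'))
    calc Q.1 (s Q) * ∏ Q' ∈ B.erase Q, Q.1 (s Q') ≤ Q.1 (s Q) * 1 := by gcongr
      _ < 1 := by rwa [mul_one]
  have hexp : ∀ Q : Place k K, ∃ a₀ : ℕ, ∀ a, a₀ ≤ a → Q ∈ B → Q.1 w * Q.1 w₀ ^ a ≤ 1 := by
    intro Q
    by_cases hQ : Q ∈ B
    · have hc := hw₀Q Q hQ
      have hc0' : Q.1 w₀ ≠ 0 := by rw [Ne, map_eq_zero]; exact hw₀0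
      have hcpos : 0 < Q.1 w₀ := zero_lt_iff.2 hc0'
      have hinv : 1 < (Q.1 w₀)⁻¹ := (one_lt_inv₀ hcpos).2 hc
      obtain ⟨r₀, hr₀⟩ := exists_pow_gt (Q.1 w) hinv
      refine ⟨r₀, fun a ha _ => ?_⟩
      have h1 := hr₀ a ha
      rw [inv_pow] at h1
      have hpos : 0 < Q.1 w₀ ^ a := pow_pos hcpos a
      calc Q.1 w * Q.1 w₀ ^ a ≤ (Q.1 w₀ ^ a)⁻¹ * Q.1 w₀ ^ a := by gcongr
        _ = 1 := inv_mul_cancel₀ hpos.ne'
    · exact ⟨0, fun a _ h => absurd h hQ⟩
  choose a₀ ha₀ using hexp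
  set a := B.sup a₀ with ha
  set w' := w₀ ^ a with hw'
  have hw'A : w' ∈ A := A.pow_mem hw₀A a
  have hw'P : P.1 w' = 1 := by rw [hw', map_pow, hw₀P, one_pow]
  have hpoles : ∀ Q : Place k K, 1 < Q.1 (w * w') → 1 < Q.1 y := by
    intro Q hQ
    by_contra hy'
    have hQT : Q ∉ T := fun h => hy' (hy Q h)
    have hw'Q : Q.1 w' ≤ 1 := hnT Q hQT w' hw'A
    by_cases hQB : Q ∈ B
    · have := ha₀ Q a (Finset.le_sup hQB) hQB
      rw [map_mul, hw', map_pow] at hQ
      exact absurd hQ (not_lt.2 this)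
    · have hz1 : Q.1 w ≤ 1 := by
        by_contra h
        exact hQB ((hBmem Q).2 ⟨h, hQT⟩)
      rw [map_mul] at hQ
      exact absurd hQ (not_lt.2 (mul_le_one' hz1 hw'Q))
  have h1 := hcond (w * w') hpoles
  refine ⟨z * w', ?_, w', hw'A, hw'P, rfl⟩
  have e : z * w' = c * (w * w') := by
    rw [hw]; field_simp
  rw [e]
  exact h1

end Groth.Agent.Helper27.Pln
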