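import Groth.Agent.Lib.Helper16.FF.GeomF
import Groth.Agent.Lib.Helper16.FF.Exists
import Groth.Agent.Lib.Helper16.FFW.RatPlace

/-! `k[x, y] = ⋂ O_P[y]` (S11067): a rational function without finite poles is a polynomial. -/

set_option autoImplicit false

namespace Groth.Agent.Helper27.Plv

open FunFld Polynomial Groth.Agent.Helper16.FF
open scoped WithZero

variable {k K : Type*} [Field k] [Field K] [Algebra k K]

/-- a quotient of polynomials in `x` with no pole at the places where `x` is integral is a
polynomial in `x` -/
theorem exists_poly_of_quot [IsAlgClosed k] (hK : IsFunctionField k K) {x : K}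
    (hx : Transcendental k x) (n : ℕ) :
    ∀ (r s : k[X]), s.natDegree = n → s ≠ 0 →
      (∀ P : Place k K, P.1 x ≤ 1 → P.1 (aeval x r / aeval x s) ≤ 1) →
      ∃ p : k[X], aeval x r / aeval x s = aeval x p := by
  induction n with
  | zero =>
    intro r s hs hs0 _
    rw [Polynomial.eq_C_of_natDegree_eq_zero hs] at hs0 ⊢
    have hc : s.coeff 0 ≠ 0 := fun h => hs0 (by rw [h, map_zero])
    refine ⟨C (s.coeff 0)⁻¹ * r, ?_⟩
    rw [map_mul, aeval_C, aeval_C, div_eq_mul_inv, mul_comm, map_inv₀]
  | succ n ih =>
    intro r s hs hs0 hval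
    have hdeg : s.degree ≠ 0 := by
      rw [Polynomial.degree_eq_natDegree hs0, hs]
      exact_mod_cast (Nat.succ_ne_zero n)
    obtain ⟨a, ha⟩ := IsAlgClosed.exists_root s hdeg
    have hs' : (X - C a) * (s /ₘ (X - C a)) = s := Polynomial.mul_divByMonic_eq_iff_isRoot.2 ha
    set s' := s /ₘ (X - C a) with hs'def
    have hs'0 : s' ≠ 0 := by
      intro h
      rw [h, mul_zero] at hs'
      exact hs0 hs'.symm
    have hs'deg : s'.natDegree = n := by
      have := congrArg Polynomial.natDegree hs'
      rw [Polynomial.natDegree_mul (Polynomial.X_sub_C_ne_zero a) hs'0,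
        Polynomial.natDegree_X_sub_C, hs] at this
      omega
    -- the place at `x = a`
    have htr : Transcendental k (x - algebraMap k K a) := by
      intro halg
      apply hx
      have : x = (x - algebraMap k K a) + algebraMap k K a := by ring
      rw [this]
      exact halg.add (isAlgebraic_algebraMap a)
    obtain ⟨P, hP⟩ := exists_zero hK htr
    have hxP : P.1 x ≤ 1 := by
      have : x = (x - algebraMap k K a) + algebraMap k K a := by ring
      rw [this]
      exact (P.1.map_add _ _).trans (max_le hP.le (P.2.1 a))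
    -- `r` vanishes at `a`
    have hra : r.IsRoot a := by
      by_contra hra
      have hr1 : r %ₘ (X - C a) + (X - C a) * (r /ₘ (X - C a)) = r :=
        Polynomial.modByMonic_add_div r (X - C a)
      rw [Polynomial.modByMonic_X_sub_C_eq_C_eval] at hr1
      have hre : r.eval a ≠ 0 := hra
      have hrx : P.1 (aeval x r) = 1 := by
        rw [← hr1, map_add, map_mul, aeval_C, map_sub, aeval_X, aeval_C]
        have h1 : P.1 (algebraMap k K (r.eval a)) = 1 :=
          Groth.Agent.Helper16.FFW.Place.val_algebraMap P hre
        have h2 : P.1 ((x - algebraMap k K a) * aeval x (r /ₘ (X - C a))) < 1 := by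
          rw [map_mul]
          calc P.1 (x - algebraMap k K a) * P.1 (aeval x (r /ₘ (X - C a)))
              ≤ P.1 (x - algebraMap k K a) * 1 :=
                mul_le_mul' le_rfl (Groth.Agent.Helper16.FFW.val_aeval_le_one P hxP _)
            _ < 1 := by rwa [mul_one]
        rw [Valuation.map_add_eq_of_lt_left P.1 (by rw [h1]; exact h2), h1]
      have hsx : P.1 (aeval x s) < 1 := by
        rw [← hs', map_mul, map_sub, aeval_X, aeval_C, map_mul]
        calc P.1 (x - algebraMap k K a) * P.1 (aeval x s')
            ≤ P.1 (x - algebraMap k K a) * 1 :=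
              mul_le_mul' le_rfl (Groth.Agent.Helper16.FFW.val_aeval_le_one P hxP _)
          _ < 1 := by rwa [mul_one]
      have hsx0 : aeval x s ≠ 0 := fun h => hs0 ((transcendental_iff.1 hx) s h)
      have hpos : 0 < P.1 (aeval x s) := zero_lt_iff.2 ((Valuation.ne_zero_iff _).2 hsx0)
      have := hval P hxP
      rw [map_div₀, hrx, div_le_iff₀ hpos, one_mul] at this
      exact absurd hsx (not_lt.2 this)
    have hr' : (X - C a) * (r /ₘ (X - C a)) = r := Polynomial.mul_divByMonic_eq_iff_isRoot.2 hra
    set r' := r /ₘ (X - C a) with hr'def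
    have hxa : aeval x (X - C a : k[X]) ≠ 0 := by
      intro h
      exact Polynomial.X_sub_C_ne_zero a ((transcendental_iff.1 hx) _ h)
    have heq : aeval x r / aeval x s = aeval x r' / aeval x s' := by
      rw [← hr', ← hs', map_mul, map_mul, mul_div_mul_left _ _ hxa]
    rw [heq]
    exact ih r' s' hs'deg hs'0 (fun Q hQ => heq ▸ hval Q hQ)

end Groth.Agent.Helper27.Plv
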