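import Groth.Agent.Lib.Helper27.PlvA
import Groth.Agent.Lib.Helper27.PlnA

/-! `k[x, y] = ⋂ O_P[y]` (S11067). -/

set_option autoImplicit false

namespace Groth.Agent.Helper27.Plv

open FunFld Polynomial Groth.Agent.Helper16.FF
open scoped WithZero

variable {k K : Type*} [Field k] [Field K] [Algebra k K]

open scoped IntermediateField.algebraAdjoinAdjoin in
theorem main11067 [IsAlgClosed k] (hK : IsFunctionField k K) (x y : K) (hx : Transcendental k x)
    (hxy : IntermediateField.adjoin k ({x, y} : Set K) = ⊤)
    (hy : IsIntegral (Algebra.adjoin k ({x} : Set K)) y) :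
    (Algebra.adjoin k ({x, y} : Set K) : Set K) =
      ⋂ (P : Place k (IntermediateField.adjoin k ({x} : Set K)))
        (_ : P.1 ⟨x, IntermediateField.mem_adjoin_simple_self k x⟩ ≤ 1),
        (Subring.closure
          ((algebraMap (IntermediateField.adjoin k ({x} : Set K)) K '' (P.O : Set _)) ∪ {y}) :
          Set K) := by
  classical
  set F := IntermediateField.adjoin k ({x} : Set K) with hF
  set xF : F := ⟨x, IntermediateField.mem_adjoin_simple_self k x⟩ with hxF
  have hxFtr : Transcendental k xF := by
    have : algebraMap F K xF = x := rfl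
    rw [← this] at hx
    exact (transcendental_algebraMap_iff (algebraMap F K).injective).1 hx
  have hFF : IsFunctionField k F := isFunctionField_intermediateField hK F
    ⟨x, IntermediateField.mem_adjoin_simple_self k x, hx⟩
  -- the minimal polynomial
  haveI : IsIntegrallyClosed (Algebra.adjoin k ({x} : Set K)) :=
    IsIntegrallyClosed.of_equiv (Polynomial.algEquivOfTranscendental k x hx).toRingEquiv
  have hmin := minpoly.isIntegrallyClosed_eq_field_fractions' F hy
  set m := minpoly F y with hm
  have hyF : IsIntegral F y := hy.tower_top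
  have hmmonic : m.Monic := minpoly.monic hyF
  have hmy : aeval y m = 0 := minpoly.aeval F y
  have hmcoeff : ∀ i, ∃ c : k[X], m.coeff i = aeval xF c := by
    intro i
    rw [hmin, Polynomial.coeff_map]
    set r := (minpoly (Algebra.adjoin k ({x} : Set K)) y).coeff i with hr
    have hr' : ∀ w : K, w ∈ Algebra.adjoin k ({x} : Set K) → ∃ c : k[X], aeval x c = w := by
      intro w hw
      rw [Algebra.adjoin_singleton_eq_range_aeval] at hw
      exact hw
    obtain ⟨c, hc⟩ := hr' _ r.2
    refine ⟨c, ?_⟩
    apply (algebraMap F K).injective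
    rw [← Polynomial.aeval_algebraMap_apply]
    exact hc.symm
  -- representation at a finite place
  have hrep : ∀ P : Place k F, P.1 xF ≤ 1 → ∀ z ∈ Subring.closure
      ((algebraMap F K '' (P.O : Set F)) ∪ {y}), ∃ r : F[X], r.degree < m.degree ∧
        (∀ i, P.1 (r.coeff i) ≤ 1) ∧ aeval y r = z := by
    intro P hP z hz
    set ι : P.O →+* K := (algebraMap F K).comp P.O.subtype with hι
    set ev : (P.O)[X] →+* K := Polynomial.eval₂RingHom ι y with hev
    have hmlift : m ∈ Polynomial.lifts P.O.subtype := by
      rw [Polynomial.lifts_iff_coeff_lifts]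
      intro i
      obtain ⟨c, hc⟩ := hmcoeff i
      refine ⟨⟨m.coeff i, ?_⟩, rfl⟩
      rw [Place.mem_O_iff, hc]
      exact Groth.Agent.Helper16.FFW.val_aeval_le_one P hP c
    obtain ⟨m₀, hm₀, hm₀deg, hm₀monic⟩ :=
      Polynomial.lifts_and_degree_eq_and_monic hmlift hmmonic
    have hevm : ev m₀ = 0 := by
      rw [hev, Polynomial.coe_eval₂RingHom, hι, ← Polynomial.eval₂_map, hm₀]
      exact hmy
    have hle : Subring.closure ((algebraMap F K '' (P.O : Set F)) ∪ {y}) ≤ ev.range := by
      rw [Subring.closure_le]
      rintro w (⟨c, hc, rfl⟩ | hw)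
      · exact ⟨C ⟨c, hc⟩, by simp [hev, hι]⟩
      · rw [Set.mem_singleton_iff] at hw
        exact ⟨X, by simp [hev, hw]⟩
    obtain ⟨p₀, rfl⟩ := hle hz
    have hdiv := Polynomial.modByMonic_add_div p₀ m₀
    refine ⟨(p₀ %ₘ m₀).map P.O.subtype, ?_, ?_, ?_⟩
    · rw [← hm₀deg]
      exact (Polynomial.degree_map_le).trans_lt (Polynomial.degree_modByMonic_lt p₀ hm₀monic)
    · intro i
      rw [Polynomial.coeff_map]
      exact (Place.mem_O_iff P _).1 ((p₀ %ₘ m₀).coeff i).2
    · have h1 : ev p₀ = ev (p₀ %ₘ m₀) := by
        conv_lhs => rw [← hdiv]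
        rw [map_add, map_mul, hevm, zero_mul, add_zero]
      rw [h1, hev, Polynomial.coe_eval₂RingHom, hι, ← Polynomial.eval₂_map]
      rfl
  -- uniqueness
  have huniq : ∀ r r' : F[X], r.degree < m.degree → r'.degree < m.degree →
      aeval y r = aeval y r' → r = r' := by
    intro r r' hr hr' h
    by_contra hne
    have h0 : r - r' ≠ 0 := sub_ne_zero.2 hne
    have h1 : aeval y (r - r') = 0 := by rw [map_sub, h, sub_self]
    have h2 := minpoly.degree_le_of_ne_zero F y h0 h1
    have h3 : (r - r').degree < m.degree :=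
      (Polynomial.degree_sub_le r r').trans_lt (max_lt hr hr')
    exact absurd h2 (not_le.2 h3)
  apply Set.eq_of_subset_of_subset
  · intro z hz
    simp only [Set.mem_iInter]
    intro P hP
    have hz' : z ∈ Algebra.adjoin k ({x, y} : Set K) := hz
    clear hz
    induction hz' using Algebra.adjoin_induction with
    | mem w hw =>
      rcases hw with rfl | hw
      · exact Subring.subset_closure (Or.inl ⟨xF, (Place.mem_O_iff P _).2 hP, rfl⟩)
      · rw [Set.mem_singleton_iff] at hw
        rw [hw]
        exact Subring.subset_closure (Or.inr rfl)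
    | algebraMap c =>
      refine Subring.subset_closure (Or.inl ⟨algebraMap k F c, ?_, rfl⟩)
      exact (Place.mem_O_iff P _).2 (P.2.1 c)
    | add a b _ _ ha hb => exact Subring.add_mem _ ha hb
    | mul a b _ _ ha hb => exact Subring.mul_mem _ ha hb
  · intro z hz
    simp only [Set.mem_iInter] at hz
    -- a finite place
    obtain ⟨P₁, hP₁⟩ := exists_zero hFF hxFtr
    obtain ⟨r, hrdeg, -, hrz⟩ := hrep P₁ hP₁.le z (hz P₁ hP₁.le)
    have hcoeff : ∀ i, ∃ p : k[X], r.coeff i = aeval xF p := by
      intro i
      have hall : ∀ P : Place k F, P.1 xF ≤ 1 → P.1 (r.coeff i) ≤ 1 := by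
        intro P hP
        obtain ⟨r', hr'deg, hr'c, hr'z⟩ := hrep P hP z (hz P hP)
        have := huniq r r' hrdeg hr'deg (hrz.trans hr'z.symm)
        rw [this]
        exact hr'c i
      have hmem : ((r.coeff i : F) : K) ∈ IntermediateField.adjoin k ({x} : Set K) := (r.coeff i).2
      rw [IntermediateField.mem_adjoin_simple_iff] at hmem
      obtain ⟨u, w, huw⟩ := hmem
      have huw' : r.coeff i = aeval xF u / aeval xF w := by
        apply (algebraMap F K).injective
        rw [map_div₀, ← Polynomial.aeval_algebraMap_apply, ← Polynomial.aeval_algebraMap_apply]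
        exact huw
      by_cases hw0 : w = 0
      · refine ⟨0, ?_⟩
        rw [huw', hw0, map_zero, _root_.div_zero]
      · rw [huw']
        exact exists_poly_of_quot hFF hxFtr w.natDegree u w rfl hw0
          (fun P hP => huw' ▸ hall P hP)
    choose p hp using hcoeff
    show z ∈ Algebra.adjoin k ({x, y} : Set K)
    rw [← hrz, Polynomial.aeval_eq_sum_range]
    refine Subalgebra.sum_mem _ fun i _ => ?_
    rw [Algebra.smul_def]
    refine Subalgebra.mul_mem _ ?_ (Subalgebra.pow_mem _ (Algebra.subset_adjoin (by simp)) i)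
    rw [hp i]
    have : algebraMap F K (aeval xF (p i)) = aeval x (p i) := by
      rw [← Polynomial.aeval_algebraMap_apply]
      rfl
    rw [this]
    exact (Algebra.adjoin_mono (by simp : ({x} : Set K) ⊆ {x, y}))
      (Polynomial.aeval_mem_adjoin_singleton k x)

end Groth.Agent.Helper27.Plv
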