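import Groth.Agent.Lib.Helper27.PolA

/-! Counting polynomials of bounded total degree in two variables (towards S11070). -/

set_option autoImplicit false

namespace Groth.Agent.Helper27.Pol

open FunFld MvPolynomial Groth.Agent.Helper16.FF Groth.Agent.Helper27.Pln

variable {k K : Type*} [Field k] [Field K] [Algebra k K]

/-- the exponents of the monomials of degree `≤ m` -/
noncomputable def mono (m : ℕ) : (Σ j : Fin (m + 1), Fin (m + 1 - (j : ℕ))) → (Fin 2 →₀ ℕ) :=
  fun p => Finsupp.single 0 (p.2 : ℕ) + Finsupp.single 1 (p.1 : ℕ)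

theorem mono_zero (m : ℕ) (p : Σ j : Fin (m + 1), Fin (m + 1 - (j : ℕ))) :
    mono m p 0 = (p.2 : ℕ) := by
  simp [mono]

theorem mono_one (m : ℕ) (p : Σ j : Fin (m + 1), Fin (m + 1 - (j : ℕ))) :
    mono m p 1 = (p.1 : ℕ) := by
  simp [mono]

theorem mono_injective (m : ℕ) : Function.Injective (mono m) := by
  rintro ⟨⟨j, hj⟩, ⟨i, hi⟩⟩ ⟨⟨j', hj'⟩, ⟨i', hi'⟩⟩ h
  have h0 := DFunLike.congr_fun h 0
  have h1 := DFunLike.congr_fun h 1
  rw [mono_zero, mono_zero] at h0
  rw [mono_one, mono_one] at h1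
  simp only at h0 h1
  subst h0
  subst h1
  rfl

theorem sum_eq (s : Fin 2 →₀ ℕ) : (s.sum fun _ e => e) = s 0 + s 1 := by
  rw [Finsupp.sum_fintype _ _ (fun _ => rfl), Fin.sum_univ_two]

theorem eq_mono (s : Fin 2 →₀ ℕ) : s = Finsupp.single 0 (s 0) + Finsupp.single 1 (s 1) := by
  ext i
  fin_cases i <;> simp

theorem restrictTotalDegree_eq_span (m : ℕ) :
    restrictTotalDegree (Fin 2) k m =
      Submodule.span k (Set.range fun p => monomial (mono m p) (1 : k)) := by
  apply le_antisymm
  · intro p hp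
    rw [mem_restrictTotalDegree] at hp
    rw [← support_sum_monomial_coeff p]
    refine Submodule.sum_mem _ fun s hs => ?_
    have h1 : (s.sum fun _ e => e) ≤ m := (le_totalDegree hs).trans hp
    rw [sum_eq] at h1
    have h2 : monomial s (coeff s p) = coeff s p • monomial s (1 : k) := by
      rw [smul_monomial, smul_eq_mul, mul_one]
    rw [h2]
    refine Submodule.smul_mem _ _ (Submodule.subset_span ?_)
    refine ⟨⟨⟨s 1, by omega⟩, ⟨s 0, by simp only; omega⟩⟩, ?_⟩
    simp only [mono]
    rw [← eq_mono s]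
  · rw [Submodule.span_le]
    rintro _ ⟨p, rfl⟩
    rw [SetLike.mem_coe, mem_restrictTotalDegree, totalDegree_monomial _ one_ne_zero, sum_eq,
      mono_zero, mono_one]
    have := p.2.2
    have := p.1.2
    omega

theorem finrank_restrictTotalDegree (m : ℕ) :
    Module.finrank k (restrictTotalDegree (Fin 2) k m) = ∑ j : Fin (m + 1), (m + 1 - (j : ℕ)) := by
  rw [restrictTotalDegree_eq_span]
  have hli : LinearIndependent k (fun p => monomial (mono m p) (1 : k)) :=
    (basisMonomials (Fin 2) k).linearIndependent.comp (mono m) (mono_injective m)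
  rw [finrank_span_eq_card hli, Fintype.card_sigma]
  simp

instance finite_restrictTotalDegree (m : ℕ) :
    FiniteDimensional k (restrictTotalDegree (Fin 2) k m) := by
  rw [restrictTotalDegree_eq_span]
  exact FiniteDimensional.span_of_finite k (Set.finite_range _)

theorem count_succ (m : ℕ) :
    ∑ j : Fin (m + 2), (m + 2 - (j : ℕ)) = ∑ j : Fin (m + 1), (m + 1 - (j : ℕ)) + m + 2 := by
  rw [Fin.sum_univ_castSucc]
  have h1 : ∀ j : Fin (m + 1), m + 2 - ((Fin.castSucc j : Fin (m + 2)) : ℕ) =
      (m + 1 - (j : ℕ)) + 1 := by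
    intro j
    have := j.2
    simp only [Fin.val_castSucc]
    omega
  simp_rw [h1]
  rw [Finset.sum_add_distrib]
  simp
  omega

theorem finrank_succ (m : ℕ) :
    Module.finrank k (restrictTotalDegree (Fin 2) k (m + 1)) =
      Module.finrank k (restrictTotalDegree (Fin 2) k m) + m + 2 := by
  rw [finrank_restrictTotalDegree, finrank_restrictTotalDegree]
  exact count_succ m

theorem map_restrict_eq_pow (x y : K) (m : ℕ) :
    Submodule.map (aeval ![x, y] : MvPolynomial (Fin 2) k →ₐ[k] K).toLinearMap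
      (restrictTotalDegree (Fin 2) k m) = (Submodule.span k (Set.range ![(1 : K), x, y])) ^ m := by
  set V := Submodule.span k (Set.range ![(1 : K), x, y]) with hV
  have h1V : (1 : K) ∈ V := Submodule.subset_span ⟨0, rfl⟩
  have hxV : x ∈ V := Submodule.subset_span ⟨1, rfl⟩
  have hyV : y ∈ V := Submodule.subset_span ⟨2, rfl⟩
  apply le_antisymm
  · rw [restrictTotalDegree_eq_span, Submodule.map_span, Submodule.span_le]
    rintro _ ⟨_, ⟨p, rfl⟩, rfl⟩
    have e : (aeval ![x, y] : MvPolynomial (Fin 2) k →ₐ[k] K).toLinearMap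
        (monomial (mono m p) (1 : k)) = x ^ (p.2 : ℕ) * y ^ (p.1 : ℕ) := by
      rw [AlgHom.toLinearMap_apply, aeval_monomial, map_one, one_mul, mono,
        Finsupp.prod_add_index' (fun _ => pow_zero _) (fun _ _ _ => pow_add _ _ _)]
      rw [Finsupp.prod_single_index (h := fun i e => ![x, y] i ^ e) (pow_zero _),
        Finsupp.prod_single_index (h := fun i e => ![x, y] i ^ e) (pow_zero _)]
      rfl
    rw [e]
    have h2 : x ^ (p.2 : ℕ) * y ^ (p.1 : ℕ) ∈ V ^ ((p.2 : ℕ) + (p.1 : ℕ)) := by
      rw [pow_add]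
      exact Submodule.mul_mem_mul (Submodule.pow_mem_pow V hxV _) (Submodule.pow_mem_pow V hyV _)
    have h3 : (p.2 : ℕ) + (p.1 : ℕ) ≤ m := by
      have := p.2.2
      have := p.1.2
      omega
    exact pow_le_pow_of_one_mem h1V h3 h2
  · have hV1 : V ≤ Submodule.map (aeval ![x, y] : MvPolynomial (Fin 2) k →ₐ[k] K).toLinearMap
        (restrictTotalDegree (Fin 2) k 1) := by
      rw [hV, Submodule.span_le]
      rintro _ ⟨i, rfl⟩
      fin_cases i
      · exact ⟨1, by rw [SetLike.mem_coe, mem_restrictTotalDegree]; simp, by simp⟩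
      · exact ⟨X 0, by rw [SetLike.mem_coe, mem_restrictTotalDegree, totalDegree_X], by simp⟩
      · exact ⟨X 1, by rw [SetLike.mem_coe, mem_restrictTotalDegree, totalDegree_X], by simp⟩
    induction m with
    | zero =>
      rw [pow_zero, Submodule.one_eq_span, Submodule.span_le]
      intro w hw
      rw [Set.mem_singleton_iff] at hw
      exact ⟨1, by rw [SetLike.mem_coe, mem_restrictTotalDegree]; simp, by simp [hw]⟩
    | succ m ih =>
      rw [pow_succ]
      refine Submodule.mul_le.2 fun a ha b hb => ?_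
      obtain ⟨p, hp, rfl⟩ := ih ha
      obtain ⟨q, hq, rfl⟩ := hV1 hb
      refine ⟨p * q, ?_, by simp⟩
      rw [SetLike.mem_coe, mem_restrictTotalDegree] at hp hq ⊢
      exact (totalDegree_mul p q).trans (by omega)

end Groth.Agent.Helper27.Pol
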