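import Mathlib

/-!
# A polynomial differs from its top term by `O((n+1)^(d-1))` (request (G), S7649)
-/

open Polynomial

namespace Groth.Agent.Helper27.PolyBound

theorem exists_bound_of_natDegree_le (Q : ℚ[X]) (d : ℕ) (hQ : Q.natDegree ≤ d) :
    ∃ C : ℚ, ∀ n : ℕ, |Q.eval (n : ℚ) - Q.coeff d * (n : ℚ) ^ d| ≤ C * ((n : ℚ) + 1) ^ (d - 1) := by
  refine ⟨∑ i ∈ Finset.range d, |Q.coeff i|, fun n => ?_⟩
  have hev : Q.eval (n : ℚ) = ∑ i ∈ Finset.range (d + 1), Q.coeff i * (n : ℚ) ^ i :=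
    eval_eq_sum_range' (Nat.lt_succ_of_le hQ) _
  rw [hev, Finset.sum_range_succ, add_sub_cancel_right, Finset.sum_mul]
  refine (Finset.abs_sum_le_sum_abs _ _).trans ?_
  refine Finset.sum_le_sum (fun i hi => ?_)
  rw [abs_mul]
  apply mul_le_mul_of_nonneg_left _ (abs_nonneg _)
  have hn0 : (0 : ℚ) ≤ (n : ℚ) := Nat.cast_nonneg n
  rw [abs_of_nonneg (pow_nonneg hn0 i)]
  have hi' : i ≤ d - 1 := by
    have := Finset.mem_range.mp hi
    omega
  calc (n : ℚ) ^ i ≤ ((n : ℚ) + 1) ^ i := by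
        apply pow_le_pow_left₀ hn0 (by linarith)
    _ ≤ ((n : ℚ) + 1) ^ (d - 1) := by
        apply pow_le_pow_right₀ (by linarith) hi'

end Groth.Agent.Helper27.PolyBound
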