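import Mathlib
import Groth.Prelude.Def_W4c5quivmodgenus0Quiv
set_option autoImplicit false
universe u v
open PtQuiv

namespace Groth.Agent.Helper27.PtQ

variable {K : Type u} [Field K]

lemma prop_symm {x y : Fin 2 → K} (hx : x ≠ 0) (h : x ∈ K ∙ y) : y ∈ K ∙ x := by
  rw [Submodule.mem_span_singleton] at h ⊢
  obtain ⟨c, rfl⟩ := h
  have hc : c ≠ 0 := by rintro rfl; simp at hx
  exact ⟨c⁻¹, by rw [smul_smul, inv_mul_cancel₀ hc, one_smul]⟩

lemma mem_span_of_finrank_one {L : Submodule K (Fin 2 → K)} (hL : Module.finrank K L = 1)
    {x y : Fin 2 → K} (hx : x ∈ L) (hy : y ∈ L) (hy0 : y ≠ 0) : x ∈ K ∙ y := by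
  have hy0' : (⟨y, hy⟩ : L) ≠ 0 := by
    intro h; apply hy0; simpa using congrArg Subtype.val h
  obtain ⟨c, hc⟩ := (finrank_eq_one_iff_of_nonzero' (⟨y, hy⟩ : L) hy0').1 hL ⟨x, hx⟩
  rw [Submodule.mem_span_singleton]
  exact ⟨c, by simpa using congrArg Subtype.val hc⟩

theorem main (ι : Type v)
    [Fintype ι] (s : ι → (Fin 2 → K)) (hs : ∀ i, s i ≠ 0) :
    (∃ θ : ι → ℚ, (∀ i, 0 ≤ θ i) ∧ (∀ i, θ i ≤ 1) ∧ ∑ i, θ i = 2 ∧ PtQuiv.QStable (-1) θ s) ↔
      ∃ i j k : ι, s i ∉ K ∙ s j ∧ s j ∉ K ∙ s k ∧ s i ∉ K ∙ s k := by
  classical
  constructor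
  · rintro ⟨θ, h0, h1, hsum, ⟨hss, hst⟩⟩
    by_contra hcon
    push Not at hcon
    have key : ∀ i0, ∑ i ∈ Finset.univ.filter (fun i => s i ∈ K ∙ s i0), θ i < 1 := by
      intro i0
      have hsub : PtQuiv.QSubrep s (K ∙ s i0) (Finset.univ.filter (fun i => s i ∈ K ∙ s i0)) := by
        intro i hi; simpa using hi
      have hle := hss.2 _ _ hsub
      have hfr : Module.finrank K (K ∙ s i0) = 1 := finrank_span_singleton (hs i0)
      unfold PtQuiv.QWt at hle
      rw [hfr] at hle
      rcases lt_or_eq_of_le hle with h | h
      · push_cast at h; linarith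
      · exfalso
        rcases hst _ _ hsub (by unfold PtQuiv.QWt; rw [hfr]; exact h) with ⟨hL, _⟩ | ⟨hL, _⟩
        · rw [Submodule.span_singleton_eq_bot] at hL; exact hs i0 hL
        · have : Module.finrank K (K ∙ s i0) = 2 := by rw [hL]; simp
          omega
    have hne : Nonempty ι := by
      by_contra hemp
      rw [not_nonempty_iff] at hemp
      simp at hsum
    obtain ⟨i0⟩ := hne
    by_cases hall : ∀ i, s i ∈ K ∙ s i0
    · have := key i0
      rw [Finset.filter_true_of_mem (fun i _ => hall i), hsum] at this
      norm_num at this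
    · push Not at hall
      obtain ⟨j0, hj0⟩ := hall
      have h1' := key i0
      have h2' := key j0
      have hsplit := Finset.sum_filter_add_sum_filter_not Finset.univ (fun i => s i ∈ K ∙ s i0) θ
      have hle : ∑ i ∈ Finset.univ.filter (fun i => ¬ s i ∈ K ∙ s i0), θ i ≤
          ∑ i ∈ Finset.univ.filter (fun i => s i ∈ K ∙ s j0), θ i := by
        apply Finset.sum_le_sum_of_subset_of_nonneg
        · intro i hi
          simp only [Finset.mem_filter, Finset.mem_univ, true_and] at hi ⊢
          by_contra hh
          exact hi (hcon i j0 i0 hh hj0)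
        · intro i _ _; exact h0 i
      linarith
  · rintro ⟨i, j, k, hij, hjk, hik⟩
    have hne_ij : i ≠ j := by rintro rfl; exact hij (Submodule.mem_span_singleton_self _)
    have hne_jk : j ≠ k := by rintro rfl; exact hjk (Submodule.mem_span_singleton_self _)
    have hne_ik : i ≠ k := by rintro rfl; exact hik (Submodule.mem_span_singleton_self _)
    have hji : s j ∉ K ∙ s i := fun h => hij (prop_symm (hs j) h)
    have hkj : s k ∉ K ∙ s j := fun h => hjk (prop_symm (hs k) h)
    have hki : s k ∉ K ∙ s i := fun h => hik (prop_symm (hs k) h)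
    set T : Finset ι := {i, j, k} with hTdef
    have hT : T.card = 3 := by
      rw [hTdef, Finset.card_insert_of_notMem, Finset.card_insert_of_notMem, Finset.card_singleton]
      · simpa using hne_jk
      · simp [hne_ij, hne_ik]
    have hpair : ∀ x ∈ T, ∀ y ∈ T, x ≠ y → s x ∉ K ∙ s y := by
      intro x hx y hy hxy
      simp only [hTdef, Finset.mem_insert, Finset.mem_singleton] at hx hy
      rcases hx with rfl | rfl | rfl <;> rcases hy with rfl | rfl | rfl <;>
        first | exact absurd rfl hxy | assumption
    set m : ℕ := (Finset.univ.filter (fun t => t ∉ T)).card with hm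
    set ε : ℚ := 1 / (2 * ((m : ℚ) + 1)) with hεdef
    set a : ℚ := (2 - m * ε) / 3 with hadef
    have hm0 : (0 : ℚ) ≤ m := Nat.cast_nonneg m
    have hε : 0 < ε := by positivity
    have hmε : (m : ℚ) * ε < 1 / 2 := by
      rw [hεdef, mul_one_div, div_lt_div_iff₀ (by positivity) (by norm_num)]
      linarith
    have hmε0 : 0 ≤ (m : ℚ) * ε := by positivity
    have hε1 : ε ≤ 1 := by
      rw [hεdef, div_le_one (by positivity)]; linarith
    have ha1 : 1 / 2 < a := by rw [hadef]; linarith
    have ha2 : a ≤ 2 / 3 := by rw [hadef]; linarith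
    set θ : ι → ℚ := fun t => if t ∈ T then a else ε with hθ
    have hθpos : ∀ t, 0 < θ t := by
      intro t; simp only [hθ]; split_ifs <;> linarith
    have hsumI : ∀ I : Finset ι, ∑ t ∈ I, θ t =
        (I.filter (fun t => t ∈ T)).card * a + (I.filter (fun t => t ∉ T)).card * ε := by
      intro I
      simp only [hθ]
      rw [Finset.sum_ite, Finset.sum_const, Finset.sum_const, nsmul_eq_mul, nsmul_eq_mul]
    have hsum : ∑ t, θ t = 2 := by
      rw [hsumI]
      have : (Finset.univ.filter (fun t => t ∈ T)) = T := by ext t; simp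
      rw [this, hT, ← hm, hadef]
      push_cast; ring
    refine ⟨θ, fun t => (hθpos t).le, ?_, hsum, ?_⟩
    · intro t; simp only [hθ]; split_ifs <;> linarith
    · have main : ∀ (L : Submodule K (Fin 2 → K)) (I : Finset ι), QSubrep s L I →
          QWt K (-1) θ L I ≤ 0 ∧ (QWt K (-1) θ L I = 0 →
            (L = ⊥ ∧ I = ∅) ∨ (L = ⊤ ∧ I = Finset.univ)) := by
        intro L I hsub
        have hL2 : Module.finrank K L ≤ 2 := (Submodule.finrank_le L).trans (by simp)
        unfold QWt
        interval_cases hfr : Module.finrank K L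
        · have hLbot : L = ⊥ := Submodule.finrank_eq_zero.1 hfr
          have hI : I = ∅ := by
            rw [Finset.eq_empty_iff_forall_notMem]
            intro t ht
            have := hsub t ht
            rw [hLbot, Submodule.mem_bot] at this
            exact hs t this
          subst hI
          simp [hLbot]
        · have hcard : (I.filter (fun t => t ∈ T)).card ≤ 1 := by
            rw [Finset.card_le_one]
            intro x hx y hy
            simp only [Finset.mem_filter] at hx hy
            by_contra hxy
            exact hpair x hx.2 y hy.2 hxy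
              (mem_span_of_finrank_one hfr (hsub x hx.1) (hsub y hy.1) (hs y))
          have hcard2 : (I.filter (fun t => t ∉ T)).card ≤ m := by
            rw [hm]; apply Finset.card_le_card
            intro t ht; simp only [Finset.mem_filter, Finset.mem_univ, true_and] at ht ⊢
            exact ht.2
          have h1 : ((I.filter (fun t => t ∈ T)).card : ℚ) ≤ 1 := by exact_mod_cast hcard
          have h2 : ((I.filter (fun t => t ∉ T)).card : ℚ) ≤ m := by exact_mod_cast hcard2
          have hlt : ∑ t ∈ I, θ t < 1 := by
            rw [hsumI]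
            have e1 : ((I.filter (fun t => t ∈ T)).card : ℚ) * a ≤ 1 * a :=
              mul_le_mul_of_nonneg_right h1 (by linarith)
            have e2 : ((I.filter (fun t => t ∉ T)).card : ℚ) * ε ≤ m * ε :=
              mul_le_mul_of_nonneg_right h2 hε.le
            rw [hadef] at e1 ⊢
            linarith
          constructor
          · push_cast; linarith
          · intro h; exfalso; push_cast at h; linarith
        · have hLtop : L = ⊤ := by
            apply Submodule.eq_top_of_finrank_eq
            rw [hfr]; simp
          have hle : ∑ t ∈ I, θ t ≤ ∑ t, θ t :=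
            Finset.sum_le_sum_of_subset_of_nonneg (Finset.subset_univ I)
              (fun t _ _ => (hθpos t).le)
          constructor
          · push_cast; linarith
          · intro h
            right
            refine ⟨hLtop, ?_⟩
            by_contra hI
            obtain ⟨t, ht⟩ : ∃ t, t ∉ I := by
              by_contra hh; push Not at hh
              exact hI (Finset.eq_univ_iff_forall.2 hh)
            have := Finset.sum_lt_sum_of_subset (Finset.subset_univ I) (Finset.mem_univ t) ht
              (hθpos t) (fun t _ _ => (hθpos t).le)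
            push_cast at h; linarith
      refine ⟨⟨?_, fun L I h => (main L I h).1⟩, fun L I h => (main L I h).2⟩
      rw [hsum]; norm_num

end Groth.Agent.Helper27.PtQ
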