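import Mathlib
import Groth.Prelude.Def_W4c5quivmodgenus0Quiv
set_option autoImplicit false
set_option linter.unusedSectionVars false
set_option linter.unusedVariables false
universe u v
open PtQuiv

namespace Groth.Agent.Helper27.PtQ2

variable {K : Type u} [Field K] {κ : Type v} [Fintype κ] [DecidableEq κ]

lemma sub_cases (U : Submodule K K) : U = ⊥ ∨ U = ⊤ := Ideal.eq_bot_or_top U

lemma finrank_top_KK : Module.finrank K (⊤ : Submodule K K) = 1 := by simp

lemma finrank_bot_KK : Module.finrank K (⊥ : Submodule K K) = 0 := by simp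

variable (a b : κ) (hab : a ≠ b) (s : κ → (Fin 2 → K)) (θ : κ → ℚ)

/-- the embedding of the other indices. -/
def emb : {i : κ // i ≠ a ∧ i ≠ b} ↪ κ := Function.Embedding.subtype _

lemma a_notMem_map (I' : Finset {i : κ // i ≠ a ∧ i ≠ b}) : a ∉ I'.map (emb a b) := by
  simp only [Finset.mem_map, emb, Function.Embedding.subtype_apply, not_exists, not_and]
  rintro ⟨x, hx⟩ _ h
  exact hx.1 h

lemma b_notMem_map (I' : Finset {i : κ // i ≠ a ∧ i ≠ b}) : b ∉ I'.map (emb a b) := by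
  simp only [Finset.mem_map, emb, Function.Embedding.subtype_apply, not_exists, not_and]
  rintro ⟨x, hx⟩ _ h
  exact hx.2 h

lemma sum_map_emb (I' : Finset {i : κ // i ≠ a ∧ i ≠ b}) :
    ∑ i ∈ I'.map (emb a b), θ i = ∑ i ∈ I', θ i.1 := by
  rw [Finset.sum_map]; rfl

include hab in
lemma sum_univ_split : ∑ i, θ i = θ a + θ b + ∑ i : {i : κ // i ≠ a ∧ i ≠ b}, θ i.1 := by
  rw [← Finset.add_sum_erase Finset.univ θ (Finset.mem_univ a),
    ← Finset.add_sum_erase (Finset.univ.erase a) θ (Finset.mem_erase.2 ⟨hab.symm, Finset.mem_univ b⟩),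
    add_assoc]
  congr 2
  apply Finset.sum_subtype
  intro x
  simp [and_comm]


variable {a b s}

lemma sa_ne (hLI : LinearIndependent K ![s a, s b]) : s a ≠ 0 := by
  simpa using hLI.ne_zero 0

lemma sb_ne (hLI : LinearIndependent K ![s a, s b]) : s b ≠ 0 := by
  simpa using hLI.ne_zero 1

lemma sb_notMem (hLI : LinearIndependent K ![s a, s b]) : s b ∉ K ∙ s a := by
  intro h
  rw [Submodule.mem_span_singleton] at h
  obtain ⟨c, hc⟩ := h
  have := (LinearIndependent.pair_iff.1 hLI) c (-1) (by rw [hc]; simp)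
  simpa using this.2

lemma sa_notMem (hLI : LinearIndependent K ![s a, s b]) : s a ∉ K ∙ s b := by
  intro h
  rw [Submodule.mem_span_singleton] at h
  obtain ⟨c, hc⟩ := h
  have := (LinearIndependent.pair_iff.1 hLI) (-1) c (by rw [hc]; simp)
  simpa using this.1

lemma span_ne_top (v : Fin 2 → K) : (K ∙ v) ≠ ⊤ := by
  intro h
  have h1 : Module.finrank K (K ∙ v) ≤ 1 := by
    by_cases hv : v = 0
    · subst hv
      rw [Submodule.span_zero_singleton, finrank_bot]; exact Nat.zero_le _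
    · rw [finrank_span_singleton hv]
  rw [h] at h1
  simp at h1

lemma top_ne_bot_fun : (⊤ : Fin 2 → Submodule K K) ≠ ⊥ := by
  intro h
  have := congrFun h 0
  simp at this

include hab in
lemma PtoQ (hLI : LinearIndependent K ![s a, s b]) (t : {i : κ // i ≠ a ∧ i ≠ b} → (Fin 2 → K))
    (ht : ∀ i, s i.1 = t i 0 • s a + t i 1 • s b)
    (U : Fin 2 → Submodule K K) (I' : Finset {i : κ // i ≠ a ∧ i ≠ b}) (hsub : PSubrep t U I') :
    ∃ (L : Submodule K (Fin 2 → K)) (I : Finset κ), QSubrep s L I ∧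
      PWt K ![(2 - θ a - θ b)⁻¹ * (θ a - 1), (2 - θ a - θ b)⁻¹ * (θ b - 1)]
        (fun i : {i : κ // i ≠ a ∧ i ≠ b} => (2 - θ a - θ b)⁻¹ * θ i.1) U I'
        = (2 - θ a - θ b)⁻¹ * QWt K (-1) θ L I ∧
      ((L = ⊥ ∧ I = ∅) → (U = ⊥ ∧ I' = ∅)) ∧
      ((L = ⊤ ∧ I = Finset.univ) → (U = ⊤ ∧ I' = Finset.univ)) := by
  have hU : U = ![U 0, U 1] := by
    funext j; fin_cases j <;> rfl
  have hW : PWt K ![(2 - θ a - θ b)⁻¹ * (θ a - 1), (2 - θ a - θ b)⁻¹ * (θ b - 1)]
        (fun i : {i : κ // i ≠ a ∧ i ≠ b} => (2 - θ a - θ b)⁻¹ * θ i.1) U I' =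
      (2 - θ a - θ b)⁻¹ * ((θ a - 1) * (Module.finrank K (U 0) : ℚ) +
        (θ b - 1) * (Module.finrank K (U 1) : ℚ) + ∑ i ∈ I', θ i.1) := by
    unfold PWt
    rw [Fin.sum_univ_two, ← Finset.mul_sum]
    simp only [Matrix.cons_val_zero, Matrix.cons_val_one]
    ring
  rw [hW]
  rcases sub_cases (U 0) with h0 | h0 <;> rcases sub_cases (U 1) with h1 | h1
  · -- ⊥ ⊥
    refine ⟨⊥, I'.map (emb a b), ?_, ?_, ?_, ?_⟩
    · intro i hi
      obtain ⟨i', hi', rfl⟩ := Finset.mem_map.1 hi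
      have e0 : t i' 0 = 0 := by simpa [h0] using hsub i' hi' 0
      have e1 : t i' 1 = 0 := by simpa [h1] using hsub i' hi' 1
      change s i'.1 ∈ _
      rw [ht i', e0, e1]; simp
    · unfold QWt
      rw [h0, h1, finrank_bot_KK, sum_map_emb]
      simp
    · rintro ⟨_, hI⟩
      refine ⟨?_, by simpa using hI⟩
      funext j; fin_cases j <;> simp [h0, h1]
    · rintro ⟨hL, _⟩
      exact absurd hL.symm top_ne_bot
  · -- ⊥ ⊤
    refine ⟨K ∙ s b, insert b (I'.map (emb a b)), ?_, ?_, ?_, ?_⟩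
    · intro i hi
      rcases Finset.mem_insert.1 hi with rfl | hi
      · exact Submodule.mem_span_singleton_self _
      · obtain ⟨i', hi', rfl⟩ := Finset.mem_map.1 hi
        have e0 : t i' 0 = 0 := by simpa [h0] using hsub i' hi' 0
        change s i'.1 ∈ _
        rw [ht i', e0]; simp
        exact Submodule.smul_mem _ _ (Submodule.mem_span_singleton_self _)
    · unfold QWt
      rw [h0, h1, finrank_bot_KK, finrank_top_KK, finrank_span_singleton (sb_ne hLI),
        Finset.sum_insert (b_notMem_map a b I'), sum_map_emb]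
      push_cast; ring
    · rintro ⟨_, hI⟩
      exact absurd hI (Finset.insert_ne_empty _ _)
    · rintro ⟨hL, _⟩
      exact absurd hL (span_ne_top _)
  · -- ⊤ ⊥
    refine ⟨K ∙ s a, insert a (I'.map (emb a b)), ?_, ?_, ?_, ?_⟩
    · intro i hi
      rcases Finset.mem_insert.1 hi with rfl | hi
      · exact Submodule.mem_span_singleton_self _
      · obtain ⟨i', hi', rfl⟩ := Finset.mem_map.1 hi
        have e1 : t i' 1 = 0 := by simpa [h1] using hsub i' hi' 1
        change s i'.1 ∈ _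
        rw [ht i', e1]; simp
        exact Submodule.smul_mem _ _ (Submodule.mem_span_singleton_self _)
    · unfold QWt
      rw [h0, h1, finrank_bot_KK, finrank_top_KK, finrank_span_singleton (sa_ne hLI),
        Finset.sum_insert (a_notMem_map a b I'), sum_map_emb]
      push_cast; ring
    · rintro ⟨_, hI⟩
      exact absurd hI (Finset.insert_ne_empty _ _)
    · rintro ⟨hL, _⟩
      exact absurd hL (span_ne_top _)
  · -- ⊤ ⊤
    refine ⟨⊤, insert a (insert b (I'.map (emb a b))), ?_, ?_, ?_, ?_⟩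
    · intro i _; exact Submodule.mem_top
    · unfold QWt
      have hb : b ∉ I'.map (emb a b) := b_notMem_map a b I'
      have ha : a ∉ insert b (I'.map (emb a b)) := by
        rw [Finset.mem_insert]; push Not
        exact ⟨hab, a_notMem_map a b I'⟩
      rw [h0, h1, finrank_top_KK, Finset.sum_insert ha, Finset.sum_insert hb, sum_map_emb]
      have : Module.finrank K (⊤ : Submodule K (Fin 2 → K)) = 2 := by simp
      rw [this]
      push_cast; ring
    · rintro ⟨hL, _⟩
      exact absurd hL top_ne_bot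
    · rintro ⟨_, hI⟩
      refine ⟨?_, ?_⟩
      · funext j; fin_cases j <;> simp [h0, h1]
      · rw [Finset.eq_univ_iff_forall]
        intro i'
        have : (emb a b i') ∈ insert a (insert b (I'.map (emb a b))) := by rw [hI]; exact Finset.mem_univ _
        rcases Finset.mem_insert.1 this with h | this
        · exact absurd h i'.2.1
        rcases Finset.mem_insert.1 this with h | this
        · exact absurd h i'.2.2
        exact (Finset.mem_map' _).1 this


lemma PWt_formula (U : Fin 2 → Submodule K K) (I' : Finset {i : κ // i ≠ a ∧ i ≠ b}) :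
    PWt K ![(2 - θ a - θ b)⁻¹ * (θ a - 1), (2 - θ a - θ b)⁻¹ * (θ b - 1)]
        (fun i : {i : κ // i ≠ a ∧ i ≠ b} => (2 - θ a - θ b)⁻¹ * θ i.1) U I' =
      (2 - θ a - θ b)⁻¹ * ((θ a - 1) * (Module.finrank K (U 0) : ℚ) +
        (θ b - 1) * (Module.finrank K (U 1) : ℚ) + ∑ i ∈ I', θ i.1) := by
  unfold PWt
  rw [Fin.sum_univ_two, ← Finset.mul_sum]
  simp only [Matrix.cons_val_zero, Matrix.cons_val_one]
  ring

lemma PWt_topbot (I' : Finset {i : κ // i ≠ a ∧ i ≠ b}) :
    PWt K ![(2 - θ a - θ b)⁻¹ * (θ a - 1), (2 - θ a - θ b)⁻¹ * (θ b - 1)]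
        (fun i : {i : κ // i ≠ a ∧ i ≠ b} => (2 - θ a - θ b)⁻¹ * θ i.1) ![⊤, ⊥] I' =
      (2 - θ a - θ b)⁻¹ * ((θ a - 1) + ∑ i ∈ I', θ i.1) := by
  rw [PWt_formula]
  have e0 : Module.finrank K ((![⊤, ⊥] : Fin 2 → Submodule K K) 0) = 1 := finrank_top_KK
  have e1 : Module.finrank K ((![⊤, ⊥] : Fin 2 → Submodule K K) 1) = 0 := finrank_bot_KK
  rw [e0, e1]; push_cast; ring

lemma PWt_bottop (I' : Finset {i : κ // i ≠ a ∧ i ≠ b}) :
    PWt K ![(2 - θ a - θ b)⁻¹ * (θ a - 1), (2 - θ a - θ b)⁻¹ * (θ b - 1)]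
        (fun i : {i : κ // i ≠ a ∧ i ≠ b} => (2 - θ a - θ b)⁻¹ * θ i.1) ![⊥, ⊤] I' =
      (2 - θ a - θ b)⁻¹ * ((θ b - 1) + ∑ i ∈ I', θ i.1) := by
  rw [PWt_formula]
  have e0 : Module.finrank K ((![⊥, ⊤] : Fin 2 → Submodule K K) 0) = 0 := finrank_bot_KK
  have e1 : Module.finrank K ((![⊥, ⊤] : Fin 2 → Submodule K K) 1) = 1 := finrank_top_KK
  rw [e0, e1]; push_cast; ring

lemma PWt_bot (I' : Finset {i : κ // i ≠ a ∧ i ≠ b}) :
    PWt K ![(2 - θ a - θ b)⁻¹ * (θ a - 1), (2 - θ a - θ b)⁻¹ * (θ b - 1)]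
        (fun i : {i : κ // i ≠ a ∧ i ≠ b} => (2 - θ a - θ b)⁻¹ * θ i.1) ⊥ I' =
      (2 - θ a - θ b)⁻¹ * (∑ i ∈ I', θ i.1) := by
  rw [PWt_formula, Pi.bot_apply, Pi.bot_apply, finrank_bot_KK]; push_cast; ring

lemma PWt_top (I' : Finset {i : κ // i ≠ a ∧ i ≠ b}) :
    PWt K ![(2 - θ a - θ b)⁻¹ * (θ a - 1), (2 - θ a - θ b)⁻¹ * (θ b - 1)]
        (fun i : {i : κ // i ≠ a ∧ i ≠ b} => (2 - θ a - θ b)⁻¹ * θ i.1) ⊤ I' =
      (2 - θ a - θ b)⁻¹ * ((θ a - 1) + (θ b - 1) + ∑ i ∈ I', θ i.1) := by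
  rw [PWt_formula, Pi.top_apply, Pi.top_apply, finrank_top_KK]; push_cast; ring

lemma mem_span_of_finrank_one {L : Submodule K (Fin 2 → K)} (hL : Module.finrank K L = 1)
    {x y : Fin 2 → K} (hx : x ∈ L) (hy : y ∈ L) (hy0 : y ≠ 0) : x ∈ K ∙ y := by
  have hy0' : (⟨y, hy⟩ : L) ≠ 0 := by
    intro h; apply hy0; simpa using congrArg Subtype.val h
  obtain ⟨c, hc⟩ := (finrank_eq_one_iff_of_nonzero' (⟨y, hy⟩ : L) hy0').1 hL ⟨x, hx⟩
  rw [Submodule.mem_span_singleton]
  exact ⟨c, by simpa using congrArg Subtype.val hc⟩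

/-- dimension zero -/
lemma Q0 (hLI : LinearIndependent K ![s a, s b]) (t : {i : κ // i ≠ a ∧ i ≠ b} → (Fin 2 → K))
    (ht : ∀ i, s i.1 = t i 0 • s a + t i 1 • s b) (I : Finset κ) (hsub : QSubrep s ⊥ I) :
    ∃ I' : Finset {i : κ // i ≠ a ∧ i ≠ b}, PSubrep t ⊥ I' ∧ ∑ i ∈ I', θ i.1 = ∑ i ∈ I, θ i ∧
      (I' = ∅ → I = ∅) := by
  have hz : ∀ i ∈ I, s i = 0 := fun i hi => by simpa using hsub i hi
  have hp : ∀ i ∈ I, i ≠ a ∧ i ≠ b := by
    intro i hi
    constructor
    · rintro rfl; exact sa_ne hLI (hz _ hi)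
    · rintro rfl; exact sb_ne hLI (hz _ hi)
  refine ⟨I.subtype _, ?_, Finset.sum_subtype_of_mem θ hp, ?_⟩
  · intro i' hi' j
    have h0 := hz i'.1 (Finset.mem_subtype.1 hi')
    rw [ht i'] at h0
    have := (LinearIndependent.pair_iff.1 hLI) _ _ h0
    fin_cases j
    · simpa using this.1
    · simpa using this.2
  · intro h
    rw [Finset.subtype_eq_empty] at h
    rw [Finset.eq_empty_iff_forall_notMem]
    intro i hi
    exact h i (hp i hi) hi

/-- dimension one, containing `s a` -/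
lemma Qa (hLI : LinearIndependent K ![s a, s b]) (t : {i : κ // i ≠ a ∧ i ≠ b} → (Fin 2 → K))
    (ht : ∀ i, s i.1 = t i 0 • s a + t i 1 • s b) (L : Submodule K (Fin 2 → K)) (I : Finset κ)
    (hsub : QSubrep s L I) (hfr : Module.finrank K L = 1) (ha : s a ∈ L) :
    ∃ I' : Finset {i : κ // i ≠ a ∧ i ≠ b}, PSubrep t ![⊤, ⊥] I' ∧
      (a ∈ I → ∑ i ∈ I, θ i = θ a + ∑ i ∈ I', θ i.1) ∧
      (a ∉ I → ∑ i ∈ I, θ i = ∑ i ∈ I', θ i.1) := by
  have hmem : ∀ i ∈ I, s i ∈ K ∙ s a := fun i hi =>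
    mem_span_of_finrank_one hfr (hsub i hi) ha (sa_ne hLI)
  have hb : b ∉ I := fun hb => sb_notMem hLI (hmem b hb)
  have hp : ∀ i ∈ I.erase a, i ≠ a ∧ i ≠ b := by
    intro i hi
    rw [Finset.mem_erase] at hi
    refine ⟨hi.1, ?_⟩
    rintro rfl; exact hb hi.2
  refine ⟨(I.erase a).subtype _, ?_, ?_, ?_⟩
  · intro i' hi' j
    fin_cases j
    · simp
    · have hi : i'.1 ∈ I := (Finset.mem_erase.1 (Finset.mem_subtype.1 hi')).2
      have h0 := hmem _ hi
      rw [Submodule.mem_span_singleton] at h0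
      obtain ⟨d, hd⟩ := h0
      rw [ht i'] at hd
      have := (LinearIndependent.pair_iff.1 hLI) (t i' 0 - d) (t i' 1) (by
        rw [sub_smul, hd]; abel)
      simpa using this.2
  · intro haI
    rw [Finset.sum_subtype_of_mem θ hp, Finset.add_sum_erase I θ haI]
  · intro haI
    rw [Finset.sum_subtype_of_mem θ hp, Finset.erase_eq_of_notMem haI]

/-- dimension one, containing `s b` -/
lemma Qb (hLI : LinearIndependent K ![s a, s b]) (t : {i : κ // i ≠ a ∧ i ≠ b} → (Fin 2 → K))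
    (ht : ∀ i, s i.1 = t i 0 • s a + t i 1 • s b) (L : Submodule K (Fin 2 → K)) (I : Finset κ)
    (hsub : QSubrep s L I) (hfr : Module.finrank K L = 1) (hbL : s b ∈ L) :
    ∃ I' : Finset {i : κ // i ≠ a ∧ i ≠ b}, PSubrep t ![⊥, ⊤] I' ∧
      (b ∈ I → ∑ i ∈ I, θ i = θ b + ∑ i ∈ I', θ i.1) ∧
      (b ∉ I → ∑ i ∈ I, θ i = ∑ i ∈ I', θ i.1) := by
  have hmem : ∀ i ∈ I, s i ∈ K ∙ s b := fun i hi =>
    mem_span_of_finrank_one hfr (hsub i hi) hbL (sb_ne hLI)
  have ha : a ∉ I := fun ha => sa_notMem hLI (hmem a ha)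
  have hp : ∀ i ∈ I.erase b, i ≠ a ∧ i ≠ b := by
    intro i hi
    rw [Finset.mem_erase] at hi
    refine ⟨?_, hi.1⟩
    rintro rfl; exact ha hi.2
  refine ⟨(I.erase b).subtype _, ?_, ?_, ?_⟩
  · intro i' hi' j
    fin_cases j
    · have hi : i'.1 ∈ I := (Finset.mem_erase.1 (Finset.mem_subtype.1 hi')).2
      have h0 := hmem _ hi
      rw [Submodule.mem_span_singleton] at h0
      obtain ⟨d, hd⟩ := h0
      rw [ht i'] at hd
      have := (LinearIndependent.pair_iff.1 hLI) (t i' 0) (t i' 1 - d) (by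
        rw [sub_smul, hd]; abel)
      simpa using this.1
    · simp
  · intro hbI
    rw [Finset.sum_subtype_of_mem θ hp, Finset.add_sum_erase I θ hbI]
  · intro hbI
    rw [Finset.sum_subtype_of_mem θ hp, Finset.erase_eq_of_notMem hbI]

include hab in
/-- dimension one, containing neither -/
lemma Qn (h0 : ∀ i, 0 ≤ θ i) (L : Submodule K (Fin 2 → K)) (I : Finset κ)
    (hsub : QSubrep s L I) (ha : s a ∉ L) (hb : s b ∉ L) :
    ∑ i ∈ I, θ i ≤ ∑ i, θ i - θ a - θ b := by
  have haI : a ∉ I := fun h => ha (hsub a h)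
  have hbI : b ∉ I := fun h => hb (hsub b h)
  rw [sum_univ_split a b hab θ]
  have : ∑ i ∈ I, θ i = ∑ i ∈ I.subtype (fun i => i ≠ a ∧ i ≠ b), θ i.1 := by
    rw [Finset.sum_subtype_of_mem θ]
    intro i hi
    constructor
    · rintro rfl; exact haI hi
    · rintro rfl; exact hbI hi
  rw [this]
  have := Finset.sum_le_sum_of_subset_of_nonneg
    (Finset.subset_univ (I.subtype (fun i => i ≠ a ∧ i ≠ b)))
    (f := fun i : {i : κ // i ≠ a ∧ i ≠ b} => θ i.1) (fun i _ _ => h0 i.1)
  linarith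


lemma exists_t (hLI : LinearIndependent K ![s a, s b]) :
    ∃ t : {i : κ // i ≠ a ∧ i ≠ b} → (Fin 2 → K), ∀ i, s i.1 = t i 0 • s a + t i 1 • s b := by
  have htop : Submodule.span K (Set.range ![s a, s b]) = ⊤ :=
    hLI.span_eq_top_of_card_eq_finrank' (by simp)
  have : ∀ i : {i : κ // i ≠ a ∧ i ≠ b}, ∃ c : Fin 2 → K, s i.1 = c 0 • s a + c 1 • s b := by
    intro i
    have hmem : s i.1 ∈ Submodule.span K (Set.range ![s a, s b]) := by rw [htop]; trivial
    obtain ⟨c, hc⟩ := (Submodule.mem_span_range_iff_exists_fun K).1 hmem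
    refine ⟨c, ?_⟩
    rw [← hc, Fin.sum_univ_two]
    simp
  choose t ht using this
  exact ⟨t, ht⟩

include hab in
lemma LI_of_semistable (hθ : 1 < θ a + θ b) (hQ : QSemistable (-1) θ s) :
    LinearIndependent K ![s a, s b] := by
  by_contra hLI
  rw [linearIndependent_iff_card_eq_finrank_span] at hLI
  have hle : (Set.range ![s a, s b]).finrank K ≤ Fintype.card (Fin 2) := finrank_range_le_card _
  have hlt : Module.finrank K (Submodule.span K (Set.range ![s a, s b])) ≤ 1 := by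
    have : (Set.range ![s a, s b]).finrank K ≤ 1 := by
      rcases Nat.lt_or_ge ((Set.range ![s a, s b]).finrank K) 2 with h | h
      · omega
      · exfalso; apply hLI; simp only [Fintype.card_fin] at hle ⊢; omega
    exact this
  have hsub : QSubrep s (Submodule.span K (Set.range ![s a, s b])) {a, b} := by
    intro i hi
    simp only [Finset.mem_insert, Finset.mem_singleton] at hi
    rcases hi with rfl | rfl
    · exact Submodule.subset_span ⟨0, rfl⟩
    · exact Submodule.subset_span ⟨1, rfl⟩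
  have := hQ.2 _ _ hsub
  unfold QWt at this
  rw [Finset.sum_pair hab] at this
  have h' : (Module.finrank K (Submodule.span K (Set.range ![s a, s b])) : ℚ) ≤ 1 := by
    exact_mod_cast hlt
  linarith

include hab in
theorem semistable_iff (h0 : ∀ i, 0 ≤ θ i) (h1 : ∀ i, θ i ≤ 1) (h2 : ∑ i, θ i = 2)
    (hθ : 1 < θ a + θ b) (hθ' : θ a + θ b < 2) :
    PtQuiv.QSemistable (-1) θ s ↔
      (LinearIndependent K ![s a, s b] ∧
        ∀ t : {i : κ // i ≠ a ∧ i ≠ b} → (Fin 2 → K),
          (∀ i, s i.1 = t i 0 • s a + t i 1 • s b) →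
            PtQuiv.PSemistable ![(2 - θ a - θ b)⁻¹ * (θ a - 1), (2 - θ a - θ b)⁻¹ * (θ b - 1)]
              (fun i : {i : κ // i ≠ a ∧ i ≠ b} => (2 - θ a - θ b)⁻¹ * θ i.1) t) := by
  have hc : 0 < (2 - θ a - θ b)⁻¹ := inv_pos.2 (by linarith)
  constructor
  · intro hQ
    have hLI : LinearIndependent K ![s a, s b] := LI_of_semistable hab θ hθ hQ
    refine ⟨hLI, fun t ht => ⟨?_, ?_⟩⟩
    · rw [Fin.sum_univ_two, ← Finset.mul_sum]
      simp only [Matrix.cons_val_zero, Matrix.cons_val_one]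
      have := sum_univ_split a b hab θ
      rw [h2] at this
      have e : (θ a - 1) + (θ b - 1) + ∑ i : {i : κ // i ≠ a ∧ i ≠ b}, θ i.1 = 0 := by linarith
      rw [← mul_add, ← mul_add, e, mul_zero]
    · intro U I' hsub
      obtain ⟨L, I, hQsub, hW, -, -⟩ := PtoQ hab θ hLI t ht U I' hsub
      rw [hW]
      exact mul_nonpos_of_nonneg_of_nonpos hc.le (hQ.2 L I hQsub)
  · rintro ⟨hLI, hP⟩
    obtain ⟨t, ht⟩ := exists_t hLI
    have hPt := hP t ht
    refine ⟨by rw [h2]; norm_num, fun L I hsub => ?_⟩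
    have hL2 : Module.finrank K L ≤ 2 := (Submodule.finrank_le L).trans (by simp)
    have hsumI : ∑ i ∈ I, θ i ≤ 2 := by
      rw [← h2]
      exact Finset.sum_le_sum_of_subset_of_nonneg (Finset.subset_univ I) (fun i _ _ => h0 i)
    unfold QWt
    interval_cases hfr : Module.finrank K L
    · have hLbot : L = ⊥ := Submodule.finrank_eq_zero.1 hfr
      subst hLbot
      obtain ⟨I', hPsub, hsum, -⟩ := Q0 θ hLI t ht I hsub
      have := hPt.2 ⊥ I' hPsub
      rw [PWt_bot, hsum] at this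
      have h3 : ∑ i ∈ I, θ i ≤ 0 := by
        by_contra hh; push Not at hh
        have := mul_pos hc hh
        linarith
      push_cast; linarith
    · by_cases ha : s a ∈ L
      · obtain ⟨I', hPsub, e1, e2⟩ := Qa θ hLI t ht L I hsub hfr ha
        have := hPt.2 _ I' hPsub
        rw [PWt_topbot] at this
        have h3 : (θ a - 1) + ∑ i ∈ I', θ i.1 ≤ 0 := by
          by_contra hh; push Not at hh
          have := mul_pos hc hh
          linarith
        by_cases haI : a ∈ I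
        · rw [e1 haI]; push_cast; linarith
        · rw [e2 haI]; push_cast; linarith [h0 a]
      · by_cases hb : s b ∈ L
        · obtain ⟨I', hPsub, e1, e2⟩ := Qb θ hLI t ht L I hsub hfr hb
          have := hPt.2 _ I' hPsub
          rw [PWt_bottop] at this
          have h3 : (θ b - 1) + ∑ i ∈ I', θ i.1 ≤ 0 := by
            by_contra hh; push Not at hh
            have := mul_pos hc hh
            linarith
          by_cases hbI : b ∈ I
          · rw [e1 hbI]; push_cast; linarith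
          · rw [e2 hbI]; push_cast; linarith [h0 b]
        · have := Qn hab θ h0 L I hsub ha hb
          rw [h2] at this
          push_cast; linarith
    · push_cast; linarith


include hab in
theorem stable_iff (h0 : ∀ i, 0 ≤ θ i) (h1 : ∀ i, θ i ≤ 1) (h2 : ∑ i, θ i = 2)
    (hθ : 1 < θ a + θ b) (hθ' : θ a + θ b < 2) :
    PtQuiv.QStable (-1) θ s ↔
      (LinearIndependent K ![s a, s b] ∧
        ∀ t : {i : κ // i ≠ a ∧ i ≠ b} → (Fin 2 → K),
          (∀ i, s i.1 = t i 0 • s a + t i 1 • s b) →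
            PtQuiv.PStable ![(2 - θ a - θ b)⁻¹ * (θ a - 1), (2 - θ a - θ b)⁻¹ * (θ b - 1)]
              (fun i : {i : κ // i ≠ a ∧ i ≠ b} => (2 - θ a - θ b)⁻¹ * θ i.1) t) := by
  have hc : 0 < (2 - θ a - θ b)⁻¹ := inv_pos.2 (by linarith)
  constructor
  · intro hQ
    have hss := (semistable_iff hab θ h0 h1 h2 hθ hθ').1 hQ.1
    refine ⟨hss.1, fun t ht => ⟨hss.2 t ht, fun U I' hsub hW0 => ?_⟩⟩
    obtain ⟨L, I, hQsub, hW, hbot, htop⟩ := PtoQ hab θ hss.1 t ht U I' hsub
    rw [hW0] at hW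
    have : QWt K (-1) θ L I = 0 := by
      rcases mul_eq_zero.1 hW.symm with h | h
      · exact absurd h hc.ne'
      · exact h
    rcases hQ.2 L I hQsub this with h | h
    · exact Or.inl (hbot h)
    · exact Or.inr (htop h)
  · rintro ⟨hLI, hP⟩
    obtain ⟨t, ht⟩ := exists_t hLI
    have hPt := hP t ht
    have hQss : QSemistable (-1) θ s :=
      (semistable_iff hab θ h0 h1 h2 hθ hθ').2 ⟨hLI, fun t ht => (hP t ht).1⟩
    refine ⟨hQss, fun L I hsub hW0 => ?_⟩
    have hsplit := sum_univ_split a b hab θ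
    rw [h2] at hsplit
    have hpos : ∀ i, 0 < θ i := by
      intro i
      by_cases hia : i = a
      · subst hia; linarith [h1 b]
      by_cases hib : i = b
      · subst hib; linarith [h1 a]
      by_contra hh
      have hi0 : θ i = 0 := le_antisymm (not_lt.1 hh) (h0 i)
      have hPsub : PSubrep t ⊤ (Finset.univ.erase ⟨i, hia, hib⟩) := fun _ _ _ => Submodule.mem_top
      have hw : PWt K ![(2 - θ a - θ b)⁻¹ * (θ a - 1), (2 - θ a - θ b)⁻¹ * (θ b - 1)]
          (fun i : {i : κ // i ≠ a ∧ i ≠ b} => (2 - θ a - θ b)⁻¹ * θ i.1) ⊤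
          (Finset.univ.erase ⟨i, hia, hib⟩) = 0 := by
        rw [PWt_top]
        have e := Finset.add_sum_erase Finset.univ (fun i : {i : κ // i ≠ a ∧ i ≠ b} => θ i.1)
          (Finset.mem_univ ⟨i, hia, hib⟩)
        simp only [hi0, zero_add] at e
        rw [e]
        have : θ a - 1 + (θ b - 1) + ∑ i : {i : κ // i ≠ a ∧ i ≠ b}, θ i.1 = 0 := by linarith
        rw [this, mul_zero]
      rcases hPt.2 _ _ hPsub hw with ⟨h, _⟩ | ⟨_, h⟩
      · exact top_ne_bot_fun h
      · have : (⟨i, hia, hib⟩ : {i : κ // i ≠ a ∧ i ≠ b}) ∈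
            Finset.univ.erase (⟨i, hia, hib⟩ : {i : κ // i ≠ a ∧ i ≠ b}) := by
          rw [h]; exact Finset.mem_univ _
        simp at this
    have hL2 : Module.finrank K L ≤ 2 := (Submodule.finrank_le L).trans (by simp)
    unfold QWt at hW0
    interval_cases hfr : Module.finrank K L
    · left
      have hLbot : L = ⊥ := Submodule.finrank_eq_zero.1 hfr
      subst hLbot
      refine ⟨rfl, ?_⟩
      obtain ⟨I', hPsub, hsum, hemp⟩ := Q0 θ hLI t ht I hsub
      have hw : PWt K ![(2 - θ a - θ b)⁻¹ * (θ a - 1), (2 - θ a - θ b)⁻¹ * (θ b - 1)]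
          (fun i : {i : κ // i ≠ a ∧ i ≠ b} => (2 - θ a - θ b)⁻¹ * θ i.1) ⊥ I' = 0 := by
        rw [PWt_bot, hsum]
        have : ∑ i ∈ I, θ i = 0 := by push_cast at hW0; linarith
        rw [this, mul_zero]
      rcases hPt.2 _ _ hPsub hw with ⟨_, h⟩ | ⟨h, _⟩
      · exact hemp h
      · exact absurd h.symm top_ne_bot_fun
    · exfalso
      have hS : ∑ i ∈ I, θ i = 1 := by push_cast at hW0; linarith
      by_cases ha : s a ∈ L
      · obtain ⟨I', hPsub, e1, e2⟩ := Qa θ hLI t ht L I hsub hfr ha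
        by_cases haI : a ∈ I
        · have hw : PWt K ![(2 - θ a - θ b)⁻¹ * (θ a - 1), (2 - θ a - θ b)⁻¹ * (θ b - 1)]
              (fun i : {i : κ // i ≠ a ∧ i ≠ b} => (2 - θ a - θ b)⁻¹ * θ i.1) ![⊤, ⊥] I' = 0 := by
            rw [PWt_topbot]
            have := e1 haI
            rw [hS] at this
            have : θ a - 1 + ∑ i ∈ I', θ i.1 = 0 := by linarith
            rw [this, mul_zero]
          rcases hPt.2 _ _ hPsub hw with ⟨h, _⟩ | ⟨h, _⟩
          · have := congrFun h 0; simp at this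
          · have := congrFun h 1; simp at this
        · have := hPt.1.2 _ I' hPsub
          rw [PWt_topbot] at this
          have e := e2 haI
          rw [hS] at e
          rw [← e] at this
          have h3 := mul_pos hc (hpos a)
          have : (2 - θ a - θ b)⁻¹ * (θ a - 1 + 1) = (2 - θ a - θ b)⁻¹ * θ a := by ring
          linarith
      · by_cases hb : s b ∈ L
        · obtain ⟨I', hPsub, e1, e2⟩ := Qb θ hLI t ht L I hsub hfr hb
          by_cases hbI : b ∈ I
          · have hw : PWt K ![(2 - θ a - θ b)⁻¹ * (θ a - 1), (2 - θ a - θ b)⁻¹ * (θ b - 1)]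
                (fun i : {i : κ // i ≠ a ∧ i ≠ b} => (2 - θ a - θ b)⁻¹ * θ i.1) ![⊥, ⊤] I' = 0 := by
              rw [PWt_bottop]
              have := e1 hbI
              rw [hS] at this
              have : θ b - 1 + ∑ i ∈ I', θ i.1 = 0 := by linarith
              rw [this, mul_zero]
            rcases hPt.2 _ _ hPsub hw with ⟨h, _⟩ | ⟨h, _⟩
            · have := congrFun h 1; simp at this
            · have := congrFun h 0; simp at this
          · have := hPt.1.2 _ I' hPsub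
            rw [PWt_bottop] at this
            have e := e2 hbI
            rw [hS] at e
            rw [← e] at this
            have h3 := mul_pos hc (hpos b)
            have : (2 - θ a - θ b)⁻¹ * (θ b - 1 + 1) = (2 - θ a - θ b)⁻¹ * θ b := by ring
            linarith
        · have := Qn hab θ h0 L I hsub ha hb
          rw [h2] at this
          linarith
    · right
      have hLtop : L = ⊤ := by
        apply Submodule.eq_top_of_finrank_eq
        rw [hfr]; simp
      refine ⟨hLtop, ?_⟩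
      by_contra hI
      obtain ⟨x, hx⟩ : ∃ x, x ∉ I := by
        by_contra hh; push Not at hh
        exact hI (Finset.eq_univ_iff_forall.2 hh)
      have := Finset.sum_lt_sum_of_subset (Finset.subset_univ I) (Finset.mem_univ x) hx
        (hpos x) (fun y _ _ => (hpos y).le)
      rw [h2] at this
      push_cast at hW0; linarith

end Groth.Agent.Helper27.PtQ2
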