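import Mathlib
import Groth.Prelude.Def_FlatCA

/-!
# Base change along a pushout square: over the algebra vs. over the base (for S8999)
-/

set_option linter.style.haveILetI false
set_option linter.unusedSectionVars false

namespace Groth.Agent.Helper27.Pu

universe u

open TensorProduct

/-- For a pushout square `A → B`, `A → A'`, `B' = B ⊗_A A'`, a `B`-linear map `N → N'` into a
`B'`-module is a base change along `B → B'` iff it is a base change along `A → A'`. -/
theorem isBaseChange_iff_of_isPushout {A B A' B' : Type u} [CommRing A] [CommRing B]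
    [CommRing A'] [CommRing B'] [Algebra A B] [Algebra A A'] [Algebra A' B'] [Algebra B B']
    [Algebra A B'] [IsScalarTower A B B'] [IsScalarTower A A' B']
    (hpo : Algebra.IsPushout A B A' B')
    {N N' : Type u} [AddCommGroup N] [AddCommGroup N'] [Module B N] [Module A N]
    [IsScalarTower A B N] [Module B' N'] [Module B N'] [IsScalarTower B B' N'] [Module A' N']
    [IsScalarTower A' B' N'] [Module A N'] [IsScalarTower A A' N'] [IsScalarTower A B N']
    (f : N →ₗ[B] N') :
    IsBaseChange B' f ↔ IsBaseChange A' (f.restrictScalars A) := by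
  haveI : Algebra.IsPushout A A' B B' := hpo.symm
  let c : B' ⊗[B] N ≃ₗ[A'] A' ⊗[A] N := Algebra.IsPushout.cancelBaseChange A A' B B' N
  constructor
  · intro hB
    let e : A' ⊗[A] N ≃ₗ[A'] N' := c.symm ≪≫ₗ (hB.equiv.restrictScalars A')
    apply IsBaseChange.of_equiv e
    intro x
    simp only [e, c, LinearEquiv.trans_apply, Algebra.IsPushout.cancelBaseChange_symm_tmul, map_one,
      LinearEquiv.restrictScalars_apply, IsBaseChange.equiv_tmul, one_smul]
    rfl
  · intro hA
    let Φ : B' ⊗[B] N →ₗ[B'] N' := LinearMap.liftBaseChange B' f
    have key : ∀ y : A' ⊗[A] N, Φ (c.symm y) = hA.equiv y := by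
      intro y
      induction y using TensorProduct.induction_on with
      | zero => simp
      | tmul a n =>
        simp only [c, Algebra.IsPushout.cancelBaseChange_symm_tmul, Φ,
          LinearMap.liftBaseChange_tmul, IsBaseChange.equiv_tmul, algebraMap_smul]
        rfl
      | add x y hx hy => simp only [map_add, hx, hy]
    have hΦ : ∀ x, Φ x = hA.equiv (c x) := by
      intro x
      rw [← key, LinearEquiv.symm_apply_apply]
    have hbij : Function.Bijective Φ := by
      have : (Φ : B' ⊗[B] N → N') = hA.equiv ∘ c := funext hΦ
      rw [this]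
      exact hA.equiv.bijective.comp c.bijective
    apply IsBaseChange.of_equiv (LinearEquiv.ofBijective Φ hbij)
    intro x
    simp [Φ]

end Groth.Agent.Helper27.Pu
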