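import Mathlib
import Groth.Prelude.Def_FlatCA
import Groth.Agent.Lib.Helper10.AssBC
import Groth.Agent.Lib.Helper27.DvF

/-!
# Associated primes of fibre modules along a ring map acting compatibly (for S8999)
-/

set_option linter.style.haveILetI false
set_option linter.unusedSectionVars false

namespace Groth.Agent.Helper27.Pu

universe u

open TensorProduct Groth.Agent.Helper10.ProjLocal Groth.Agent.Helper10.AssBC Groth.Agent.Helper27.Dv

attribute [local instance] Algebra.TensorProduct.rightAlgebra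

section

variable {R : Type u} [CommRing R] (p : Ideal R) [p.IsPrime] (S : Type u) [CommRing S] [Algebra R S]
  (N : Type u) [AddCommGroup N] [Module S N] [Module R N] [IsScalarTower R S N]

theorem mem_radical_colon_iff (z : (p.Fiber S) ⊗[S] N) (b : S) :
    (Algebra.TensorProduct.includeRight (R := R) (A := p.ResidueField) (B := S)) b ∈
      ((⊥ : Submodule (p.Fiber S) ((p.Fiber S) ⊗[S] N)).colon {z}).radical ↔
    ∃ k : ℕ, (b ^ k) • z = 0 := by
  have key : ∀ k : ℕ, ((Algebra.TensorProduct.includeRight (R := R) (A := p.ResidueField) (B := S)) b) ^ k • z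
      = (b ^ k) • z := by
    intro k
    rw [← map_pow, ← algebraMap_smul (p.Fiber S) (b ^ k) z]
    rfl
  constructor
  · rintro ⟨k, hk⟩
    rw [Submodule.mem_colon_singleton, Submodule.mem_bot, key] at hk
    exact ⟨k, hk⟩
  · rintro ⟨k, hk⟩
    refine ⟨k, ?_⟩
    rw [Submodule.mem_colon_singleton, Submodule.mem_bot, key]
    exact hk

theorem comap_fiberIdeal (q : Ideal S) [q.IsPrime] [q.LiesOver p] :
    (FlatCA.fiberIdeal p q).comap
      (Algebra.TensorProduct.includeRight (R := R) (A := p.ResidueField) (B := S)).toRingHom = q := by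
  have h := congrArg PrimeSpectrum.asIdeal (comap_fibPt R S p q)
  rw [← fibPt_asIdeal R S p q]
  exact h

theorem fiberIdeal_isPrime (q : Ideal S) [q.IsPrime] [q.LiesOver p] :
    (FlatCA.fiberIdeal p q).IsPrime := by
  rw [← fibPt_asIdeal R S p q]
  exact (fibPt R S p q).isPrime

end

theorem assoc_comap {A' : Type u} [CommRing A'] (t' : Ideal A') [t'.IsPrime]
    (B₁ B₂ : Type u) [CommRing B₁] [CommRing B₂] [Algebra A' B₁] [Algebra A' B₂]
    (π : B₁ →ₐ[A'] B₂)
    (N' : Type u) [AddCommGroup N'] [Module A' N'] [Module B₁ N'] [Module B₂ N']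
    [IsScalarTower A' B₁ N'] [IsScalarTower A' B₂ N']
    (hsm : ∀ (b : B₁) (n : N'), b • n = π b • n)
    (P₂ : Ideal B₂) [P₂.IsPrime] [hP₂ : P₂.LiesOver t']
    (hass : FlatCA.fiberIdeal t' P₂ ∈
      associatedPrimes (t'.Fiber B₂) (FlatCA.fiberMod t' B₂ N')) :
    FlatCA.fiberIdeal t' (P₂.comap π.toRingHom) ∈
      associatedPrimes (t'.Fiber B₁) (FlatCA.fiberMod t' B₁ N') := by
  have hass' : IsAssociatedPrime (FlatCA.fiberIdeal t' P₂) ((t'.Fiber B₂) ⊗[B₂] N') := hass
  obtain ⟨hprime, m, hm⟩ := hass'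
  haveI hP₁p : (P₂.comap π.toRingHom).IsPrime := Ideal.comap_isPrime _ _
  haveI hP₁ : (P₂.comap π.toRingHom).LiesOver t' := by
    refine ⟨?_⟩
    rw [hP₂.over]
    ext a
    simp only [Ideal.under_def, Ideal.mem_comap]
    rw [show π.toRingHom (algebraMap A' B₁ a) = algebraMap A' B₂ a from π.commutes a]
  let m₁ : (t'.Fiber B₁) ⊗[B₁] N' := theta t' B₁ N' (psi t' B₂ N' m)
  have hact : ∀ (b : B₁), psi t' B₁ N' (b • m₁) = psi t' B₂ N' (π b • m) := by
    intro b
    rw [psi_smul, psi_smul, psi_theta]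
    congr 2
    ext n
    exact hsm b n
  have hzero : ∀ (b : B₁), b • m₁ = 0 ↔ π b • m = 0 := by
    intro b
    constructor
    · intro h
      apply psi_injective t' B₂ N'
      rw [← hact, h, map_zero, map_zero]
    · intro h
      apply psi_injective t' B₁ N'
      rw [hact, h, map_zero, map_zero]
  have hgoal : IsAssociatedPrime (FlatCA.fiberIdeal t' (P₂.comap π.toRingHom))
      ((t'.Fiber B₁) ⊗[B₁] N') := by
    refine ⟨fiberIdeal_isPrime t' B₁ _, m₁, ?_⟩
    rw [← fiberIdeal_comap t' (((⊥ : Submodule (t'.Fiber B₁) ((t'.Fiber B₁) ⊗[B₁] N')).colon {m₁}).radical)]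
    congr 1
    ext b
    rw [Ideal.mem_comap, Ideal.mem_comap]
    show π b ∈ P₂ ↔
      (Algebra.TensorProduct.includeRight (R := A') (A := t'.ResidueField) (B := B₁)) b ∈ _
    rw [mem_radical_colon_iff]
    have h2 : π b ∈ P₂ ↔ ∃ k : ℕ, ((π b) ^ k) • m = 0 := by
      rw [← mem_radical_colon_iff, ← hm]
      conv_lhs => rw [← comap_fiberIdeal t' B₂ P₂]
      rfl
    rw [h2]
    constructor
    · rintro ⟨k, hk⟩
      refine ⟨k, ?_⟩
      rw [hzero, map_pow]
      exact hk
    · rintro ⟨k, hk⟩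
      refine ⟨k, ?_⟩
      rw [hzero, map_pow] at hk
      exact hk
  exact hgoal

end Groth.Agent.Helper27.Pu
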