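import Mathlib
import Groth.Prelude.Def_FlatCA
import Groth.Agent.Lib.Helper10.AssBC
import Groth.Agent.Lib.Helper27.Pu3

/-!
# Closed points of fibres of finite type algebras, and explicit witnesses of the closure condition
of an impurity (for S1245)
-/

set_option linter.style.haveILetI false
set_option linter.unusedSectionVars false
set_option linter.unusedVariables false

namespace Groth.Agent.Helper27.Pu

universe u

open TensorProduct

attribute [local instance] Algebra.TensorProduct.rightAlgebra

/-- In the fibre of a finite type algebra, every point specializes to a closed point of the fibre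
avoiding a given principal closed set not containing it. -/
theorem exists_closed_point {A R : Type u} [CommRing A] [CommRing R] [Algebra A R]
    [Algebra.FiniteType A R] (p : Ideal A) [p.IsPrime] (q : Ideal R) [q.IsPrime] [q.LiesOver p]
    (s : R) (hs : s ∉ q) :
    ∃ T₁ : Ideal R, T₁.IsPrime ∧ q ≤ T₁ ∧ T₁.LiesOver p ∧ s ∉ T₁ ∧
      (FlatCA.fiberIdeal p T₁).IsMaximal := by
  classical
  haveI : IsJacobsonRing (p.Fiber R) := isJacobsonRing_of_finiteType (A := p.ResidueField)
  haveI hqp : (FlatCA.fiberIdeal p q).IsPrime := fiberIdeal_isPrime p R q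
  have hj : (FlatCA.fiberIdeal p q).jacobson = FlatCA.fiberIdeal p q :=
    IsJacobsonRing.out inferInstance hqp.isRadical
  have hsn : (Algebra.TensorProduct.includeRight (R := A) (A := p.ResidueField) (B := R)) s ∉
      FlatCA.fiberIdeal p q := by
    intro h
    apply hs
    rw [← comap_fiberIdeal p R q]
    exact h
  rw [← hj, Ideal.jacobson, Ideal.mem_sInf] at hsn
  push_neg at hsn
  obtain ⟨m, ⟨hqm, hmmax⟩, hsm⟩ := hsn
  haveI := hmmax
  haveI hmp : m.IsPrime := hmmax.isPrime
  refine ⟨m.comap (Algebra.TensorProduct.includeRight (R := A) (A := p.ResidueField)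
    (B := R)).toRingHom, Ideal.comap_isPrime _ _, ?_, ?_, ?_, ?_⟩
  · intro x hx
    exact hqm (Ideal.mem_map_of_mem _ hx)
  · have h2 := ((PrimeSpectrum.primesOverOrderIsoFiber A R p).symm ⟨m, hmp⟩).2.2
    rw [PrimeSpectrum.coe_primesOverOrderIsoFiber_symm_apply] at h2
    exact h2
  · exact hsm
  · rw [Groth.Agent.Helper10.AssBC.fiberIdeal_comap]
    exact hmmax

/-- The closure condition of an impurity, made explicit. -/
theorem exists_witness {A B : Type u} [CommRing A] [CommRing B] [Algebra A B]
    (A' : Type u) [CommRing A'] [Algebra A A']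
    (B' : Type u) [CommRing B'] [Algebra B B'] [Algebra A' B'] [Algebra A B']
    [IsScalarTower A B B'] [IsScalarTower A A' B']
    (hpo : Algebra.IsPushout A B A' B')
    (t : Ideal A') [t.IsPrime] (P : Ideal B') [P.IsPrime]
    (hcl : ∀ (P' : Ideal B') [P'.IsPrime], P ≤ P' → ¬ P'.LiesOver t) :
    ∃ (s : A') (l : A' →₀ B), s ∉ t ∧ (∀ a ∈ l.support, a ∈ t) ∧
      algebraMap A' B' s -
        ∑ a ∈ l.support, algebraMap A' B' a * algebraMap B B' (l a) ∈ P := by
  classical
  -- Step 1
  obtain ⟨s, hs, hsJ⟩ : ∃ s : A', s ∉ t ∧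
      algebraMap A' B' s ∈ P ⊔ t.map (algebraMap A' B') := by
    by_contra hcon
    push_neg at hcon
    have hdisj : Disjoint ((P ⊔ t.map (algebraMap A' B') : Ideal B') : Set B')
        ((t.primeCompl.map (algebraMap A' B') : Submonoid B') : Set B') := by
      rw [Set.disjoint_left]
      rintro w hw ⟨s, hs, rfl⟩
      exact hcon s hs hw
    obtain ⟨P'', hP''p, hle, hdisj''⟩ := Ideal.exists_le_prime_disjoint _ _ hdisj
    apply hcl P'' (le_sup_left.trans hle)
    refine ⟨?_⟩
    ext a
    rw [Ideal.under_def, Ideal.mem_comap]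
    constructor
    · intro ha
      exact hle (Ideal.mem_sup_right (Ideal.mem_map_of_mem _ ha))
    · intro ha
      by_contra hat
      exact Set.disjoint_left.mp hdisj'' ha ⟨a, hat, rfl⟩
  obtain ⟨x, hx, w, hw, hxw⟩ := Submodule.mem_sup.mp hsJ
  -- Step 3
  let W : Submodule B B' := Submodule.span B (algebraMap A' B' '' (t : Set A'))
  have hWmul : ∀ b' : B', ∀ w ∈ W, b' * w ∈ W := by
    intro b'
    refine IsBaseChange.inductionOn hpo.out b' (fun b' => ∀ w ∈ W, b' * w ∈ W) ?_ ?_ ?_ ?_
    · intro w _
      rw [zero_mul]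
      exact zero_mem _
    · intro a' w hw
      show algebraMap A' B' a' * w ∈ W
      refine Submodule.span_induction (p := fun w _ => algebraMap A' B' a' * w ∈ W) ?_ ?_ ?_ ?_ hw
      · rintro _ ⟨a, ha, rfl⟩
        rw [← map_mul]
        exact Submodule.subset_span ⟨a' * a, t.mul_mem_left a' ha, rfl⟩
      · rw [mul_zero]
        exact zero_mem _
      · intro w₁ w₂ _ _ h₁ h₂
        rw [mul_add]
        exact add_mem h₁ h₂
      · intro β w _ h
        rw [mul_smul_comm]
        exact Submodule.smul_mem _ _ h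
    · intro β b'' h w hw
      rw [smul_mul_assoc]
      exact Submodule.smul_mem _ _ (h w hw)
    · intro b₁ b₂ h₁ h₂ w hw
      rw [add_mul]
      exact add_mem (h₁ w hw) (h₂ w hw)
  have hwW : w ∈ W := by
    refine Submodule.span_induction (p := fun w _ => w ∈ W) ?_ ?_ ?_ ?_ hw
    · intro v hv
      exact Submodule.subset_span hv
    · exact zero_mem _
    · intro w₁ w₂ _ _ h₁ h₂
      exact add_mem h₁ h₂
    · intro b' w _ h
      rw [smul_eq_mul]
      exact hWmul b' w h
  -- Step 4
  obtain ⟨l, hl, hlw⟩ := Finsupp.mem_span_image_iff_linearCombination (R := B).mp hwW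
  have hlsum : w = ∑ a ∈ l.support, algebraMap A' B' a * algebraMap B B' (l a) := by
    rw [← hlw, Finsupp.linearCombination_apply, Finsupp.sum]
    refine Finset.sum_congr rfl (fun a _ => ?_)
    rw [Algebra.smul_def, mul_comm]
  refine ⟨s, l, hs, fun a ha => hl (Finset.mem_coe.mpr ha), ?_⟩
  rw [← hlsum, ← hxw, add_sub_cancel_right]
  exact hx

end Groth.Agent.Helper27.Pu
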