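import Mathlib
import Groth.Prelude.Def_FlatCA
import Groth.Agent.Lib.Helper10.AssBC
import Groth.Agent.Lib.Helper27.Pu3

/-!
# Associated primes of fibre modules descend along base change (for S1296)

If `(A₂, B₂, N₂)` is a base change of `(A₁, B₁, N₁)` and `P₂` is a prime of `B₂` over `T` which
gives an associated prime of the fibre module of `N₂` over `T`, then the contraction of `P₂` to
`B₁` gives an associated prime of the fibre module of `N₁` over the contraction `t₁` of `T`.
-/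

set_option linter.style.haveILetI false
set_option linter.unusedSectionVars false
set_option linter.unusedVariables false

namespace Groth.Agent.Helper27.Pu

universe u

open TensorProduct Groth.Agent.Helper10.ProjLocal Groth.Agent.Helper10.AssBC

attribute [local instance] Algebra.TensorProduct.rightAlgebra

section Main
variable {A₁ B₁ N₁ : Type u} [CommRing A₁] [CommRing B₁] [Algebra A₁ B₁] [AddCommGroup N₁]
  [Module B₁ N₁] [Module A₁ N₁] [IsScalarTower A₁ B₁ N₁]
  {A₂ B₂ N₂ : Type u} [CommRing A₂] [CommRing B₂] [Algebra A₂ B₂] [AddCommGroup N₂]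
  [Module B₂ N₂] [Module A₂ N₂] [IsScalarTower A₂ B₂ N₂]
  [Algebra A₁ A₂] [Algebra B₁ B₂] [Module A₁ N₂] [IsScalarTower A₁ A₂ N₂]
  (gA : N₁ →ₗ[A₁] N₂)
  (t₁ : Ideal A₁) [t₁.IsPrime] (T : Ideal A₂) [T.IsPrime] [hTt : T.LiesOver t₁]

/-- the comparison isomorphism `κ(T) ⊗_{A₂} N₂ ≃ κ(T) ⊗_{A₁} N₁`. -/
noncomputable def Eiso (hgA : IsBaseChange A₂ gA) :
    T.ResidueField ⊗[A₂] N₂ ≃ₗ[A₂] T.ResidueField ⊗[A₁] N₁ :=
  (LinearEquiv.lTensor T.ResidueField hgA.equiv.symm) ≪≫ₗ
    (TensorProduct.AlgebraTensorModule.cancelBaseChange A₁ A₂ A₂ T.ResidueField N₁)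

theorem Eiso_symm_tmul (hgA : IsBaseChange A₂ gA) (c : T.ResidueField) (n : N₁) :
    (Eiso gA T hgA).symm (c ⊗ₜ[A₁] n) = c ⊗ₜ[A₂] gA n := by
  simp only [Eiso, LinearEquiv.trans_symm, LinearEquiv.trans_apply,
    TensorProduct.AlgebraTensorModule.cancelBaseChange_symm_tmul, LinearEquiv.lTensor_symm_tmul,
    LinearEquiv.symm_symm, IsBaseChange.equiv_tmul, one_smul]

theorem Eiso_symm_smul (hgA : IsBaseChange A₂ gA)
    (hgB : ∀ (b : B₁) (n : N₁), gA (b • n) = algebraMap B₁ B₂ b • gA n) (b : B₁)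
    (w : T.ResidueField ⊗[A₁] N₁) :
    (Eiso gA T hgA).symm
      (LinearMap.lTensor T.ResidueField ((LinearMap.lsmul B₁ N₁ b).restrictScalars A₁) w) =
    LinearMap.lTensor T.ResidueField
      ((LinearMap.lsmul B₂ N₂ (algebraMap B₁ B₂ b)).restrictScalars A₂)
      ((Eiso gA T hgA).symm w) := by
  induction w using TensorProduct.induction_on with
  | zero => simp
  | tmul c n =>
    simp only [LinearMap.lTensor_tmul, Eiso_symm_tmul, LinearMap.restrictScalars_apply,
      LinearMap.lsmul_apply, hgB]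
  | add x y hx hy => simp only [map_add, hx, hy]

theorem Eiso_smul (hgA : IsBaseChange A₂ gA)
    (hgB : ∀ (b : B₁) (n : N₁), gA (b • n) = algebraMap B₁ B₂ b • gA n) (b : B₁)
    (y : T.ResidueField ⊗[A₂] N₂) :
    Eiso gA T hgA (LinearMap.lTensor T.ResidueField
      ((LinearMap.lsmul B₂ N₂ (algebraMap B₁ B₂ b)).restrictScalars A₂) y) =
    LinearMap.lTensor T.ResidueField ((LinearMap.lsmul B₁ N₁ b).restrictScalars A₁)
      (Eiso gA T hgA y) := by
  have h := Eiso_symm_smul gA T hgA hgB b (Eiso gA T hgA y)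
  rw [LinearEquiv.symm_apply_apply] at h
  rw [← h, LinearEquiv.apply_symm_apply]

end Main

end Groth.Agent.Helper27.Pu
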