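import Mathlib
import Groth.Prelude.Def_FlatCA
import Groth.Agent.Lib.Helper10.AssBC
import Groth.Agent.Lib.Helper27.Pu3
import Groth.Agent.Lib.Helper27.Pu6

/-!
# Associated primes of fibre modules descend along base change, main lemma (for S1296)
-/

set_option linter.style.haveILetI false
set_option linter.unusedSectionVars false
set_option linter.unusedVariables false

namespace Groth.Agent.Helper27.Pu

universe u

open TensorProduct Groth.Agent.Helper10.ProjLocal Groth.Agent.Helper10.AssBC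

attribute [local instance] Algebra.TensorProduct.rightAlgebra

section Main
variable {A₁ B₁ N₁ : Type u} [CommRing A₁] [CommRing B₁] [Algebra A₁ B₁] [AddCommGroup N₁]
  [Module B₁ N₁] [Module A₁ N₁] [IsScalarTower A₁ B₁ N₁]
  {A₂ B₂ N₂ : Type u} [CommRing A₂] [CommRing B₂] [Algebra A₂ B₂] [AddCommGroup N₂]
  [Module B₂ N₂] [Module A₂ N₂] [IsScalarTower A₂ B₂ N₂]
  [Algebra A₁ A₂] [Algebra B₁ B₂] [Module A₁ N₂] [IsScalarTower A₁ A₂ N₂]
  (gA : N₁ →ₗ[A₁] N₂)
  (t₁ : Ideal A₁) [t₁.IsPrime] (T : Ideal A₂) [T.IsPrime] [hTt : T.LiesOver t₁]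

include hTt in
theorem assoc_under (hgA : IsBaseChange A₂ gA)
    (hgB : ∀ (b : B₁) (n : N₁), gA (b • n) = algebraMap B₁ B₂ b • gA n)
    (hAB : ∀ a : A₁, algebraMap B₁ B₂ (algebraMap A₁ B₁ a) = algebraMap A₂ B₂ (algebraMap A₁ A₂ a))
    (P₂ : Ideal B₂) [P₂.IsPrime] [hP₂ : P₂.LiesOver T]
    (hass : FlatCA.fiberIdeal T P₂ ∈ associatedPrimes (T.Fiber B₂) (FlatCA.fiberMod T B₂ N₂)) :
    FlatCA.fiberIdeal t₁ (P₂.comap (algebraMap B₁ B₂)) ∈
      associatedPrimes (t₁.Fiber B₁) (FlatCA.fiberMod t₁ B₁ N₁) := by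
  classical
  have hass' : IsAssociatedPrime (FlatCA.fiberIdeal T P₂) ((T.Fiber B₂) ⊗[B₂] N₂) := hass
  obtain ⟨hprime, m, hm⟩ := hass'
  haveI hP₁p : (P₂.comap (algebraMap B₁ B₂)).IsPrime := Ideal.comap_isPrime _ _
  haveI hP₁ : (P₂.comap (algebraMap B₁ B₂)).LiesOver t₁ := ⟨by
    rw [hTt.over, hP₂.over]
    ext a
    simp only [Ideal.under_def, Ideal.mem_comap]
    rw [hAB]⟩
  -- the residue field extension
  letI algκ : Algebra t₁.ResidueField T.ResidueField := (iota t₁ T).toRingHom.toAlgebra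
  have halg : ∀ c, algebraMap t₁.ResidueField T.ResidueField c = iota t₁ T c := fun _ => rfl
  haveI tw : IsScalarTower A₁ t₁.ResidueField T.ResidueField :=
    IsScalarTower.of_algebraMap_eq (fun a => by rw [halg, AlgHom.commutes])
  let ι := Module.Free.ChooseBasisIndex t₁.ResidueField T.ResidueField
  let bs : Module.Basis ι t₁.ResidueField T.ResidueField := Module.Free.chooseBasis _ _
  let cj : ι → T.ResidueField →ₗ[A₁] t₁.ResidueField := fun j => (bs.coord j).restrictScalars A₁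
  let reprA : T.ResidueField ≃ₗ[A₁] (ι →₀ t₁.ResidueField) := bs.repr.restrictScalars A₁
  let Φ : T.ResidueField ⊗[A₁] N₁ ≃ₗ[A₁] (ι →₀ t₁.ResidueField ⊗[A₁] N₁) :=
    (LinearEquiv.rTensor N₁ reprA) ≪≫ₗ (TensorProduct.finsuppLeft A₁ A₁ t₁.ResidueField N₁ ι)
  have hΦ : ∀ (w : T.ResidueField ⊗[A₁] N₁) (j : ι), Φ w j = LinearMap.rTensor N₁ (cj j) w := by
    intro w j
    induction w using TensorProduct.induction_on with
    | zero => simp
    | tmul c n =>
      simp only [Φ, LinearEquiv.trans_apply, LinearEquiv.rTensor_tmul,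
        TensorProduct.finsuppLeft_apply_tmul_apply, LinearMap.rTensor_tmul]
      rfl
    | add x y hx hy => simp only [map_add, Finsupp.add_apply, hx, hy]
  have hcomm : ∀ (j : ι) (φ : N₁ →ₗ[A₁] N₁) (w : T.ResidueField ⊗[A₁] N₁),
      LinearMap.rTensor N₁ (cj j) (LinearMap.lTensor T.ResidueField φ w) =
        LinearMap.lTensor t₁.ResidueField φ (LinearMap.rTensor N₁ (cj j) w) := by
    intro j φ w
    induction w using TensorProduct.induction_on with
    | zero => simp
    | tmul c n => simp only [LinearMap.lTensor_tmul, LinearMap.rTensor_tmul]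
    | add x y hx hy => simp only [map_add, hx, hy]
  set z : T.ResidueField ⊗[A₁] N₁ := Eiso gA T hgA (psi T B₂ N₂ m) with hz
  let x : ι → t₁.ResidueField ⊗[A₁] N₁ := fun j => LinearMap.rTensor N₁ (cj j) z
  let mj : ι → (t₁.Fiber B₁) ⊗[B₁] N₁ := fun j => theta t₁ B₁ N₁ (x j)
  have hmjact : ∀ (b : B₁) (j : ι), psi t₁ B₁ N₁ (b • mj j) =
      LinearMap.lTensor t₁.ResidueField ((LinearMap.lsmul B₁ N₁ b).restrictScalars A₁) (x j) := by
    intro b j
    rw [psi_smul, psi_theta]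
  have H : ∀ b : B₁, algebraMap B₁ B₂ b • m = 0 ↔ ∀ j, b • mj j = 0 := by
    intro b
    have h1 : algebraMap B₁ B₂ b • m = 0 ↔
        LinearMap.lTensor T.ResidueField ((LinearMap.lsmul B₁ N₁ b).restrictScalars A₁) z = 0 := by
      rw [hz, ← Eiso_smul gA T hgA hgB, ← psi_smul]
      constructor
      · intro h
        rw [h, map_zero, map_zero]
      · intro h
        apply psi_injective T B₂ N₂
        rw [map_zero]
        exact (Eiso gA T hgA).injective (by rw [h, map_zero])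
    rw [h1]
    constructor
    · intro h j
      apply psi_injective t₁ B₁ N₁
      rw [hmjact, map_zero]
      show LinearMap.lTensor _ _ (LinearMap.rTensor N₁ (cj j) z) = 0
      rw [← hcomm, h, map_zero]
    · intro h
      apply Φ.injective
      rw [map_zero]
      ext1 j
      rw [hΦ, hcomm, Finsupp.zero_apply, ← hmjact, h j, map_zero]
  -- membership in the contraction
  have hP₁mem : ∀ b : B₁, b ∈ P₂.comap (algebraMap B₁ B₂) ↔ ∃ n : ℕ, ∀ j, (b ^ n) • mj j = 0 := by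
    intro b
    rw [Ideal.mem_comap]
    have h2 : algebraMap B₁ B₂ b ∈ P₂ ↔ ∃ k : ℕ, ((algebraMap B₁ B₂ b) ^ k) • m = 0 := by
      rw [← mem_radical_colon_iff, ← hm]
      conv_lhs => rw [← comap_fiberIdeal T B₂ P₂]
      rfl
    rw [h2]
    constructor
    · rintro ⟨k, hk⟩
      refine ⟨k, ?_⟩
      rw [← H, map_pow]
      exact hk
    · rintro ⟨k, hk⟩
      refine ⟨k, ?_⟩
      rw [← map_pow, H]
      exact hk
  let J : ι → Ideal B₁ := fun j =>
    (((⊥ : Submodule (t₁.Fiber B₁) ((t₁.Fiber B₁) ⊗[B₁] N₁)).colon {mj j}).radical).comap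
      (Algebra.TensorProduct.includeRight (R := A₁) (A := t₁.ResidueField) (B := B₁)).toRingHom
  have hJmem : ∀ (j : ι) (b : B₁), b ∈ J j ↔ ∃ n : ℕ, (b ^ n) • mj j = 0 := by
    intro j b
    exact mem_radical_colon_iff t₁ B₁ N₁ (mj j) b
  have hle : ∀ j, P₂.comap (algebraMap B₁ B₂) ≤ J j := by
    intro j b hb
    obtain ⟨n, hn⟩ := (hP₁mem b).mp hb
    exact (hJmem j b).mpr ⟨n, hn j⟩
  set supp : Finset ι := (Φ z).support with hsupp
  have hzero : ∀ j, j ∉ supp → mj j = 0 := by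
    intro j hj
    have : Φ z j = 0 := Finsupp.notMem_support_iff.mp hj
    rw [hΦ] at this
    show theta t₁ B₁ N₁ (LinearMap.rTensor N₁ (cj j) z) = 0
    rw [this, map_zero]
  have hinf : supp.inf J ≤ P₂.comap (algebraMap B₁ B₂) := by
    intro b hb
    rw [Submodule.mem_finsetInf] at hb
    have hex : ∀ j, ∃ n : ℕ, j ∈ supp → (b ^ n) • mj j = 0 := by
      intro j
      by_cases hj : j ∈ supp
      · obtain ⟨n, hn⟩ := (hJmem j b).mp (hb j hj)
        exact ⟨n, fun _ => hn⟩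
      · exact ⟨0, fun h => absurd h hj⟩
    choose n hn using hex
    rw [hP₁mem]
    refine ⟨supp.sup n, fun j => ?_⟩
    by_cases hj : j ∈ supp
    · have hle : n j ≤ supp.sup n := Finset.le_sup hj
      rw [← Nat.sub_add_cancel hle, pow_add, mul_smul, hn j hj, smul_zero]
    · rw [hzero j hj, smul_zero]
  obtain ⟨j, hj, hJle⟩ := hP₁p.inf_le'.mp hinf
  have hJeq : J j = P₂.comap (algebraMap B₁ B₂) := le_antisymm hJle (hle j)
  have hgoal : IsAssociatedPrime (FlatCA.fiberIdeal t₁ (P₂.comap (algebraMap B₁ B₂)))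
      ((t₁.Fiber B₁) ⊗[B₁] N₁) := by
    refine ⟨fiberIdeal_isPrime t₁ B₁ _, mj j, ?_⟩
    rw [← fiberIdeal_comap t₁
      (((⊥ : Submodule (t₁.Fiber B₁) ((t₁.Fiber B₁) ⊗[B₁] N₁)).colon {mj j}).radical)]
    congr 1
    exact hJeq.symm
  exact hgoal

end Main

end Groth.Agent.Helper27.Pu
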