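import Mathlib
import Groth.Prelude.Def_FlatCA
import Groth.Agent.Lib.Helper27.Pu1
import Groth.Agent.Lib.Helper27.Pu7

/-!
# Pushing an impurity down along a base change which is finite near the point (for S1246)
-/

set_option linter.style.haveILetI false
set_option linter.unusedSectionVars false
set_option linter.unusedVariables false

namespace Groth.Agent.Helper27.Pu

universe u

open TensorProduct

/-- Let `A₂` be an `R`-algebra with an idempotent `e` such that `(A₂)_e` is finite over `R` and `T`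
is the only prime of `D(e)` over `𝔭`. An impurity of `M` above `𝔭` with base change ring `A₂` and
point `T` gives an impurity above `𝔭` with trivial base change. -/
theorem down {R S : Type u} [CommRing R] [CommRing S] [Algebra R S]
    (M : Type u) [AddCommGroup M] [Module S M] [Module R M] [IsScalarTower R S M]
    (𝔭 : Ideal R) [𝔭.IsPrime]
    (A₂ B₂ N₂ : Type u) [CommRing A₂] [CommRing B₂] [Algebra R A₂] [Algebra S B₂] [Algebra A₂ B₂]
    [Algebra R B₂] [IsScalarTower R S B₂] [IsScalarTower R A₂ B₂]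
    [AddCommGroup N₂] [Module B₂ N₂] [Module S N₂] [IsScalarTower S B₂ N₂] [Module A₂ N₂]
    [IsScalarTower A₂ B₂ N₂]
    (f₂ : M →ₗ[S] N₂) (T' T : Ideal A₂) [T'.IsPrime] [T.IsPrime] (P₂ : Ideal B₂) [P₂.IsPrime]
    (himp : FlatCA.IsImpurity R S M 𝔭 A₂ B₂ N₂ f₂ T' T P₂)
    (e : A₂) (he : IsIdempotentElem e) (heT : e ∉ T)
    [Module.Finite R (Localization.Away e)]
    (huniq : ∀ P'' : Ideal A₂, P''.IsPrime → P''.LiesOver 𝔭 → e ∉ P'' → P'' = T) :
    ∃ (t₀' : Ideal R) (_ : t₀'.IsPrime) (P₀' : Ideal S) (_ : P₀'.IsPrime),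
      FlatCA.IsImpurity R S M 𝔭 R S M LinearMap.id t₀' 𝔭 P₀' := by
  classical
  obtain ⟨hpo, hbc, htt, htp, hPt', hass, hcl⟩ := himp
  -- `R`-module structure on `N₂`
  letI modRN₂ : Module R N₂ := Module.compHom N₂ (algebraMap R A₂)
  have hsmR : ∀ (r : R) (n : N₂), r • n = algebraMap R A₂ r • n := fun _ _ => rfl
  haveI tRA₂N₂ : IsScalarTower R A₂ N₂ := ⟨fun r a n => by
    rw [hsmR, Algebra.smul_def, mul_smul]⟩
  haveI tRSN₂ : IsScalarTower R S N₂ := ⟨fun r s n => by
    have h1 : ∀ m : N₂, algebraMap R S r • m = algebraMap R A₂ r • m := by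
      intro m
      rw [← algebraMap_smul B₂ (algebraMap R S r) m, ← algebraMap_smul B₂ (algebraMap R A₂ r) m,
        ← IsScalarTower.algebraMap_apply R S B₂, ← IsScalarTower.algebraMap_apply R A₂ B₂]
    rw [Algebra.smul_def, mul_smul, h1, hsmR]⟩
  have hAB : ∀ a : R, algebraMap S B₂ (algebraMap R S a) =
      algebraMap A₂ B₂ (algebraMap R A₂ a) := by
    intro a
    rw [← IsScalarTower.algebraMap_apply R S B₂, ← IsScalarTower.algebraMap_apply R A₂ B₂]
  let gA : M →ₗ[R] N₂ := f₂.restrictScalars R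
  have hgA : IsBaseChange A₂ gA := (isBaseChange_iff_of_isPushout hpo f₂).mp hbc
  -- primes
  haveI ht₀' : (T'.comap (algebraMap R A₂)).IsPrime := Ideal.comap_isPrime _ _
  haveI hT'over : T'.LiesOver (T'.comap (algebraMap R A₂)) := ⟨rfl⟩
  haveI := hPt'
  haveI hP₀' : (P₂.comap (algebraMap S B₂)).IsPrime := Ideal.comap_isPrime _ _
  have hassi := assoc_under gA (T'.comap (algebraMap R A₂)) T' hgA
    (fun b n => by
      show f₂ (b • n) = _
      rw [f₂.map_smul, algebraMap_smul]
      rfl)
    hAB P₂ hass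
  have heP₂ : algebraMap A₂ B₂ e ∉ P₂ := by
    intro h
    apply heT
    apply htt
    rw [hPt'.over, Ideal.under_def, Ideal.mem_comap]
    exact h
  refine ⟨T'.comap (algebraMap R A₂), ht₀', P₂.comap (algebraMap S B₂), hP₀',
    ⟨inferInstance, ?_, ?_, ?_, ?_, hassi, ?_⟩⟩
  · have := IsBaseChange.ofEquiv (LinearEquiv.refl S M)
    exact this
  · -- `t₀' ≤ 𝔭`
    intro x hx
    rw [htp.over, Ideal.under_def, Ideal.mem_comap]
    exact htt hx
  · -- `𝔭` lies over `𝔭`
    refine ⟨?_⟩
    rw [Ideal.under_def]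
    exact (Ideal.comap_id 𝔭).symm
  · -- `P₀'` lies over `t₀'`
    refine ⟨?_⟩
    rw [hPt'.over]
    ext a
    simp only [Ideal.under_def, Ideal.mem_comap]
    rw [hAB]
  · -- closure
    intro Q₀ hQ₀p hle hover
    set ebar : B₂ := algebraMap A₂ B₂ e with hebar
    have hidem : ebar * (1 - ebar) = 0 := by
      rw [mul_sub, mul_one, hebar, ← map_mul, he.eq, sub_self]
    have h1P₂ : (1 - ebar) ∈ P₂ := by
      have : ebar * (1 - ebar) ∈ P₂ := by
        rw [hidem]
        exact zero_mem _
      rcases Ideal.IsPrime.mem_or_mem inferInstance this with h | h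
      · exact absurd h heP₂
      · exact h
    let J : Ideal B₂ := Ideal.span {1 - ebar}
    have hJP₂ : J ≤ P₂ := by
      rw [Ideal.span_le]
      intro x hx
      rw [Set.mem_singleton_iff] at hx
      rw [hx]
      exact h1P₂
    let π : B₂ →+* B₂ ⧸ J := Ideal.Quotient.mk J
    have hπsurj : Function.Surjective π := Ideal.Quotient.mk_surjective
    have hπe : π ebar = 1 := by
      have : π (1 - ebar) = 0 := Ideal.Quotient.eq_zero_iff_mem.mpr (Ideal.subset_span rfl)
      rw [map_sub, map_one, sub_eq_zero] at this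
      exact this.symm
    -- integrality of `B₂ ⧸ J` over `S`
    have hg : IsUnit ((π.comp (algebraMap A₂ B₂)) e) := by
      rw [RingHom.comp_apply, hπe]
      exact isUnit_one
    let χ₀ : Localization.Away e →+* B₂ ⧸ J := IsLocalization.Away.lift e hg
    have hχ₀ : ∀ a : A₂, χ₀ (algebraMap A₂ (Localization.Away e) a) =
        π (algebraMap A₂ B₂ a) := fun a => IsLocalization.Away.lift_eq e hg a
    let χ : Localization.Away e →ₐ[R] B₂ ⧸ J :=
      { χ₀ with
        commutes' := fun r => by
          show χ₀ (algebraMap R (Localization.Away e) r) = _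
          rw [IsScalarTower.algebraMap_apply R A₂ (Localization.Away e), hχ₀,
            ← IsScalarTower.algebraMap_apply R A₂ B₂]
          rfl }
    have hint1 : ∀ a : A₂, IsIntegral S (π (algebraMap A₂ B₂ a)) := by
      intro a
      have h1 : IsIntegral R (algebraMap A₂ (Localization.Away e) a) :=
        Algebra.IsIntegral.isIntegral _
      have h2 : IsIntegral R (χ (algebraMap A₂ (Localization.Away e) a)) := h1.map χ
      have h3 : χ (algebraMap A₂ (Localization.Away e) a) = π (algebraMap A₂ B₂ a) := hχ₀ a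
      rw [h3] at h2
      exact h2.tower_top
    haveI hint : Algebra.IsIntegral S (B₂ ⧸ J) := by
      refine ⟨fun y => ?_⟩
      obtain ⟨b, rfl⟩ := hπsurj y
      refine IsBaseChange.inductionOn hpo.out b (fun b => IsIntegral S (π b)) ?_ ?_ ?_ ?_
      · rw [map_zero]
        exact isIntegral_zero
      · intro a
        exact hint1 a
      · intro s b hb
        have : π (s • b) = algebraMap S (B₂ ⧸ J) s * π b := by
          rw [Algebra.smul_def, map_mul]
          rfl
        rw [this]
        exact IsIntegral.mul isIntegral_algebraMap hb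
      · intro b₁ b₂ h₁ h₂
        rw [map_add]
        exact IsIntegral.add h₁ h₂
    -- going up
    have hker : RingHom.ker π ≤ P₂ := by
      rw [Ideal.mk_ker]
      exact hJP₂
    haveI hP₃ : (P₂.map π).IsPrime := Ideal.map_isPrime_of_surjective hπsurj hker
    have hcomapP₃ : (P₂.map π).comap π = P₂ := by
      rw [Ideal.comap_map_of_surjective π hπsurj, sup_eq_left]
      rw [← RingHom.ker_eq_comap_bot]
      exact hker
    have hIP : (P₂.map π).comap (algebraMap S (B₂ ⧸ J)) ≤ Q₀ := by
      intro s hs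
      apply hle
      rw [Ideal.mem_comap]
      rw [← hcomapP₃, Ideal.mem_comap]
      exact hs
    obtain ⟨Q₃, hQ₃le, hQ₃p, hQ₃over⟩ :=
      Ideal.exists_ideal_over_prime_of_isIntegral Q₀ (P₂.map π) hIP
    haveI := hQ₃p
    haveI hQtp : (Q₃.comap π).IsPrime := Ideal.comap_isPrime _ _
    have hP₂Qt : P₂ ≤ Q₃.comap π := by
      rw [← hcomapP₃]
      exact Ideal.comap_mono hQ₃le
    have hQtS : (Q₃.comap π).comap (algebraMap S B₂) = Q₀ := by
      rw [← hQ₃over]
      rfl
    have heQt : ebar ∉ Q₃.comap π := by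
      intro h
      rw [Ideal.mem_comap, hπe] at h
      exact hQ₃p.ne_top ((Ideal.eq_top_iff_one _).mpr h)
    haveI hcp : ((Q₃.comap π).comap (algebraMap A₂ B₂)).IsPrime := Ideal.comap_isPrime _ _
    have hc_over : ((Q₃.comap π).comap (algebraMap A₂ B₂)).LiesOver 𝔭 := by
      refine ⟨?_⟩
      rw [hover.over, ← hQtS]
      ext a
      simp only [Ideal.under_def, Ideal.mem_comap]
      rw [hAB]
    have hcT : (Q₃.comap π).comap (algebraMap A₂ B₂) = T :=
      huniq _ hcp hc_over heQt
    exact hcl (Q₃.comap π) hP₂Qt ⟨hcT.symm⟩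

end Groth.Agent.Helper27.Pu
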