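import Mathlib
import Groth.Prelude.Def_Hensel
import Groth.Agent.Lib.Helper26.HensIndEt2

/-!
# Finite subsets of a henselization come from étale algebras; finite type models of
essentially étale algebras (for S1248)
-/

set_option linter.style.haveILetI false
set_option linter.unusedSectionVars false
set_option linter.unusedVariables false

namespace Groth.Agent.Helper27.Pu

universe u

open CategoryTheory Limits IsLocalRing
open Groth.Agent.Helper26.PH Groth.Agent.Helper26.HensIndEt

/-- finitely many elements of the henselization of a local ring come from one étale algebra. -/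
theorem exists_stage_finset (R : Type u) [CommRing R] [IsLocalRing R] (Rh : Type u) [CommRing Rh]
    [IsLocalRing Rh] [Algebra R Rh] [IsLocalHom (algebraMap R Rh)] [Hensel.IsHenselization R Rh]
    (F : Finset Rh) :
    ∃ (E : Type u) (_ : CommRing E) (_ : Algebra R E) (_ : Algebra.Etale R E) (φ : E →ₐ[R] Rh),
      ∀ x ∈ F, x ∈ φ.range := by
  classical
  obtain ⟨e, he⟩ := exists_ringEquiv R Rh
  have key : ∃ i : Idx R (maximalIdeal R), ∀ x ∈ F, ∃ y : i.ring,
      e (ιA R (maximalIdeal R) i y) = x := by
    induction F using Finset.induction_on with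
    | empty =>
      obtain ⟨i⟩ := (inferInstance : IsFiltered (Idx R (maximalIdeal R))).nonempty
      exact ⟨i, by simp⟩
    | insert a F ha IH =>
      obtain ⟨i, hi⟩ := IH
      obtain ⟨j, z, hz⟩ := ιA_rep R (maximalIdeal R) (e.symm a)
      obtain ⟨k, f, g, -⟩ := IsFilteredOrEmpty.cocone_objs i j
      let f' : i.ring →ₐ[R] k.ring := f
      let g' : j.ring →ₐ[R] k.ring := g
      refine ⟨k, fun x hx => ?_⟩
      rcases Finset.mem_insert.mp hx with rfl | hx
      · refine ⟨g' z, ?_⟩
        have := DFunLike.congr_fun (ιA_comp (R := R) (J := maximalIdeal R) g') z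
        rw [AlgHom.comp_apply] at this
        rw [this, hz, RingEquiv.apply_symm_apply]
      · obtain ⟨y, hy⟩ := hi x hx
        refine ⟨f' y, ?_⟩
        have := DFunLike.congr_fun (ιA_comp (R := R) (J := maximalIdeal R) f') y
        rw [AlgHom.comp_apply] at this
        rw [this, hy]
  obtain ⟨i, hi⟩ := key
  haveI : Algebra.Etale R i.ring := i.isNbhd.etale
  let φ : i.ring →ₐ[R] Rh :=
    { (e.toRingHom.comp (ιA R (maximalIdeal R) i).toRingHom) with
      commutes' := fun r => by
        show e (ιA R (maximalIdeal R) i (algebraMap R i.ring r)) = _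
        rw [AlgHom.commutes, he] }
  refine ⟨i.ring, inferInstance, inferInstance, inferInstance, φ, fun x hx => ?_⟩
  obtain ⟨y, hy⟩ := hi x hx
  exact ⟨y, hy⟩

/-- An essentially étale algebra over `A_p` contains, around any finite subset, a finite type
`A`-subalgebra which is quasi-finite over `A` at the contraction of a given prime. -/
theorem exists_ft_quasiFinite {A : Type u} [CommRing A] (p : Ideal A) [p.IsPrime]
    (E : Type u) [CommRing E] [Algebra A E] [Algebra (Localization.AtPrime p) E]
    [IsScalarTower A (Localization.AtPrime p) E] [Algebra.Etale (Localization.AtPrime p) E]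
    (𝔮 : Ideal E) [𝔮.IsPrime] (F : Finset E) :
    ∃ G : Subalgebra A E, G.FG ∧ (∀ x ∈ F, x ∈ G) ∧
      ∃ (_ : (𝔮.comap (algebraMap G E)).IsPrime),
        Algebra.QuasiFiniteAt A (𝔮.comap (algebraMap G E)) := by
  classical
  obtain ⟨s, hs⟩ := (Algebra.FiniteType.out : (⊤ : Subalgebra (Localization.AtPrime p) E).FG)
  let G : Subalgebra A E := Algebra.adjoin A ((s ∪ F : Finset E) : Set E)
  have hGs : ∀ x ∈ s, x ∈ G := fun x hx =>
    Algebra.subset_adjoin (Finset.mem_coe.mpr (Finset.mem_union_left _ hx))
  have hGF : ∀ x ∈ F, x ∈ G := fun x hx =>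
    Algebra.subset_adjoin (Finset.mem_coe.mpr (Finset.mem_union_right _ hx))
  refine ⟨G, Subalgebra.fg_adjoin_finset _, hGF, Ideal.comap_isPrime _ _, ?_⟩
  -- `E` is a localization of `G`
  let M : Submonoid G := Algebra.algebraMapSubmonoid G p.primeCompl
  have hunit : ∀ a : A, a ∉ p → IsUnit (algebraMap A E a) := by
    intro a ha
    rw [IsScalarTower.algebraMap_apply A (Localization.AtPrime p) E]
    exact (IsLocalization.map_units (Localization.AtPrime p) (⟨a, ha⟩ : p.primeCompl)).map _
  have hsurj : ∀ z : E, ∃ (g : G) (a : A), a ∉ p ∧ z * algebraMap A E a = g := by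
    intro z
    have hz : z ∈ Algebra.adjoin (Localization.AtPrime p) (s : Set E) := by
      rw [hs]
      exact Algebra.mem_top
    induction hz using Algebra.adjoin_induction with
    | mem x hx => exact ⟨⟨x, hGs x hx⟩, 1, p.primeCompl.one_mem, by simp⟩
    | algebraMap r =>
      obtain ⟨a, ⟨t, ht⟩, rfl⟩ := IsLocalization.exists_mk'_eq p.primeCompl r
      refine ⟨algebraMap A G a, t, ht, ?_⟩
      have h1 : IsLocalization.mk' (Localization.AtPrime p) a (⟨t, ht⟩ : p.primeCompl) *
          algebraMap A (Localization.AtPrime p) t = algebraMap A (Localization.AtPrime p) a :=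
        IsLocalization.mk'_spec _ a (⟨t, ht⟩ : p.primeCompl)
      have h2 := congrArg (algebraMap (Localization.AtPrime p) E) h1
      rw [map_mul, ← IsScalarTower.algebraMap_apply A (Localization.AtPrime p) E,
        ← IsScalarTower.algebraMap_apply A (Localization.AtPrime p) E] at h2
      rw [h2]
      rfl
    | add x y _ _ hx hy =>
      obtain ⟨g₁, a₁, ha₁, h₁⟩ := hx
      obtain ⟨g₂, a₂, ha₂, h₂⟩ := hy
      refine ⟨g₁ * algebraMap A G a₂ + g₂ * algebraMap A G a₁, a₁ * a₂,
        p.primeCompl.mul_mem ha₁ ha₂, ?_⟩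
      rw [map_mul]
      show (x + y) * (algebraMap A E a₁ * algebraMap A E a₂) =
        (g₁ : E) * algebraMap A E a₂ + (g₂ : E) * algebraMap A E a₁
      rw [← h₁, ← h₂]
      ring
    | mul x y _ _ hx hy =>
      obtain ⟨g₁, a₁, ha₁, h₁⟩ := hx
      obtain ⟨g₂, a₂, ha₂, h₂⟩ := hy
      refine ⟨g₁ * g₂, a₁ * a₂, p.primeCompl.mul_mem ha₁ ha₂, ?_⟩
      rw [map_mul]
      show (x * y) * (algebraMap A E a₁ * algebraMap A E a₂) = (g₁ : E) * (g₂ : E)
      rw [← h₁, ← h₂]
      ring
  haveI hloc : IsLocalization M E := by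
    refine ⟨?_, ?_, ?_⟩
    · rintro ⟨_, a, ha, rfl⟩
      exact hunit a ha
    · intro z
      obtain ⟨g, a, ha, h⟩ := hsurj z
      exact ⟨⟨g, ⟨algebraMap A G a, a, ha, rfl⟩⟩, h⟩
    · intro x y hxy
      refine ⟨1, ?_⟩
      have : x = y := Subtype.ext hxy
      rw [this]
  -- local rings
  haveI hT₁ : (𝔮.comap (algebraMap G E)).IsPrime := Ideal.comap_isPrime _ _
  haveI hlocq : IsLocalization.AtPrime (Localization.AtPrime 𝔮) (𝔮.comap (algebraMap G E)) :=
    IsLocalization.isLocalization_isLocalization_atPrime_isLocalization M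
      (Localization.AtPrime 𝔮) 𝔮
  let ε : Localization.AtPrime (𝔮.comap (algebraMap G E)) ≃ₐ[G] Localization.AtPrime 𝔮 :=
    IsLocalization.algEquiv (𝔮.comap (algebraMap G E)).primeCompl _ _
  haveI q1 : Algebra.QuasiFinite A (Localization.AtPrime p) :=
    Algebra.QuasiFinite.of_isLocalization p.primeCompl
  haveI q2 : Algebra.QuasiFinite (Localization.AtPrime p) E := inferInstance
  haveI q3 : Algebra.QuasiFinite A E := Algebra.QuasiFinite.trans A (Localization.AtPrime p) E
  haveI q4 : Algebra.QuasiFinite A (Localization.AtPrime 𝔮) := inferInstance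
  exact Algebra.QuasiFinite.of_surjective_algHom (ε.symm.toAlgHom.restrictScalars A)
    ε.symm.surjective

end Groth.Agent.Helper27.Pu
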