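import Mathlib

/-!
# A retraction of an étale algebra over a local ring cuts out a direct factor (for S9000)
-/

set_option linter.style.haveILetI false
set_option linter.unusedSectionVars false
set_option linter.unusedVariables false

namespace Groth.Agent.Helper27.Pu

universe u

open IsLocalRing

/-- Let `A₂` be a formally étale, finitely presented algebra over a local ring `R` with a retraction
`σ : A₂ → R`. Then `ker σ` is generated by an idempotent `1 - e`, `(A₂)_e = R`, and `σ⁻¹(𝔪)` is the
only prime of `D(e)` over `𝔪`. -/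
theorem retract_data (R : Type u) [CommRing R] [IsLocalRing R] (A₂ : Type u) [CommRing A₂]
    [Algebra R A₂] [Algebra.FormallyEtale R A₂] [Algebra.FinitePresentation R A₂]
    (σ : A₂ →ₐ[R] R) :
    ∃ e : A₂, IsIdempotentElem e ∧ σ e = 1 ∧
      Function.Surjective (algebraMap R (Localization.Away e)) ∧
      ∀ P'' : Ideal A₂, P''.IsPrime → P''.LiesOver (maximalIdeal R) → e ∉ P'' →
        P'' = (maximalIdeal R).comap σ.toRingHom := by
  classical
  have hσ : ∀ x : R, σ (algebraMap R A₂ x) = x := fun x => σ.commutes x
  have hσsurj : Function.Surjective σ := fun x => ⟨algebraMap R A₂ x, hσ x⟩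
  letI algA₂R : Algebra A₂ R := σ.toRingHom.toAlgebra
  have halg : ∀ a : A₂, algebraMap A₂ R a = σ a := fun _ => rfl
  haveI tw : IsScalarTower R A₂ R := IsScalarTower.of_algebraMap_eq (fun x => (hσ x).symm)
  haveI fe : Algebra.FormallyEtale A₂ R :=
    (Algebra.FormallyEtale.iff_restrictScalars (R := R) (A := A₂) (B := R)).mp inferInstance
  have hidem : IsIdempotentElem (RingHom.ker (algebraMap A₂ R)) :=
    (Algebra.FormallyEtale.iff_of_surjective (R := A₂) (S := R) hσsurj).mp fe
  have hfg : (RingHom.ker (algebraMap A₂ R)).FG :=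
    Algebra.FinitePresentation.ker_fG_of_surjective σ hσsurj
  obtain ⟨e', he', hker⟩ := (Ideal.isIdempotentElem_iff_of_fg _ hfg).mp hidem
  have hker' : ∀ a : A₂, σ a = 0 ↔ a ∈ Ideal.span {e'} := by
    intro a
    rw [← halg, ← RingHom.mem_ker, hker]
  have hσe' : σ e' = 0 := (hker' e').mpr (Ideal.subset_span rfl)
  have hdecomp : ∀ a : A₂, a - algebraMap R A₂ (σ a) ∈ Ideal.span {e'} := by
    intro a
    rw [← hker', map_sub, hσ, sub_self]
  refine ⟨1 - e', he'.one_sub, by rw [map_sub, map_one, hσe', sub_zero], ?_, ?_⟩
  · -- surjectivity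
    intro z
    obtain ⟨a, rfl⟩ := IsLocalization.Away.algebraMap_surjective_of_isIdempotentElem
      (S := Localization.Away (1 - e')) (1 - e') he'.one_sub z
    refine ⟨σ a, ?_⟩
    rw [IsScalarTower.algebraMap_apply R A₂ (Localization.Away (1 - e'))]
    have h0 : algebraMap A₂ (Localization.Away (1 - e')) e' = 0 := by
      have hu : IsUnit (algebraMap A₂ (Localization.Away (1 - e')) (1 - e')) :=
        IsLocalization.Away.algebraMap_isUnit (1 - e')
      have hz : algebraMap A₂ (Localization.Away (1 - e')) (1 - e') *
          algebraMap A₂ (Localization.Away (1 - e')) e' = 0 := by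
        rw [← map_mul, sub_mul, one_mul, he'.eq, sub_self, map_zero]
      exact (hu.mul_right_eq_zero).mp hz
    have h1 := hdecomp a
    obtain ⟨c, hc⟩ := Ideal.mem_span_singleton'.mp h1
    have h2 : a = algebraMap R A₂ (σ a) + c * e' := by
      rw [hc]
      ring
    conv_rhs => rw [h2]
    rw [map_add, map_mul, h0, mul_zero, add_zero]
  · -- uniqueness
    intro P'' hP''p hP''o heP''
    have he'P'' : e' ∈ P'' := by
      have : (1 - e') * e' ∈ P'' := by
        rw [sub_mul, one_mul, he'.eq, sub_self]
        exact zero_mem _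
      rcases hP''p.mem_or_mem this with h | h
      · exact absurd h heP''
      · exact h
    have hspan : Ideal.span {e'} ≤ P'' := by
      rw [Ideal.span_le]
      intro x hx
      rw [Set.mem_singleton_iff] at hx
      rw [hx]
      exact he'P''
    have hunder : ∀ x : R, algebraMap R A₂ x ∈ P'' ↔ x ∈ maximalIdeal R := by
      intro x
      have := hP''o.over
      rw [Ideal.ext_iff] at this
      have h2 := this x
      rw [Ideal.under_def, Ideal.mem_comap] at h2
      exact h2.symm
    ext a
    rw [Ideal.mem_comap]
    show a ∈ P'' ↔ σ a ∈ maximalIdeal R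
    rw [← hunder]
    constructor
    · intro ha
      have : algebraMap R A₂ (σ a) = a - (a - algebraMap R A₂ (σ a)) := by ring
      rw [this]
      exact sub_mem ha (hspan (hdecomp a))
    · intro ha
      have : a = algebraMap R A₂ (σ a) + (a - algebraMap R A₂ (σ a)) := by ring
      rw [this]
      exact add_mem ha (hspan (hdecomp a))

end Groth.Agent.Helper27.Pu
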