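import Mathlib

/-!
# A module-finite subalgebra of a quasi-finite algebra which is locally everything (ZMT, for S1222)
-/

set_option linter.style.haveILetI false
set_option linter.unusedSectionVars false
set_option linter.unusedVariables false

namespace Groth.Agent.Helper27.Pu

universe u

theorem finite_finset_sup {A C : Type u} [CommRing A] [CommRing C] [Algebra A C] {ι : Type u}
    [DecidableEq ι]
    (t : Finset ι) (f : ι → Subalgebra A C) (h : ∀ i ∈ t, Module.Finite A (f i)) :
    Module.Finite A (t.sup f : Subalgebra A C) := by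
  induction t using Finset.induction_on with
  | empty =>
    rw [Finset.sup_empty]
    exact Subalgebra.finite_bot
  | insert a t ha IH =>
    rw [Finset.sup_insert]
    haveI := h a (Finset.mem_insert_self _ _)
    haveI := IH (fun i hi => h i (Finset.mem_insert_of_mem hi))
    exact Subalgebra.finite_sup _ _

/-- Zariski's main theorem, globalized: a quasi-finite finite type algebra `C` contains a
module-finite subalgebra `D` and finitely many elements of `D`, generating the unit ideal of `C`,
such that `D[1/r] → C[1/r]` is surjective for each of them. -/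
theorem exists_finite_subalgebra_cover {A C : Type u} [CommRing A] [CommRing C] [Algebra A C]
    [Algebra.FiniteType A C] [Algebra.QuasiFinite A C] :
    ∃ (D : Subalgebra A C) (s : Finset C), Module.Finite A D ∧ (∀ r ∈ s, r ∈ D) ∧
      Ideal.span (s : Set C) = ⊤ ∧ ∀ r ∈ s, ∀ c : C, ∃ b ∈ D, ∃ m : ℕ, b = r ^ m * c := by
  classical
  have hex : ∀ Q : PrimeSpectrum C, ∃ S' : Subalgebra A C, S'.toSubmodule.FG ∧ ∃ r : S',
      r.1 ∉ Q.asIdeal ∧ Function.Bijective (Localization.awayMap S'.val.toRingHom r) := by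
    intro Q
    haveI : Algebra.QuasiFiniteAt A Q.asIdeal := inferInstance
    exact Algebra.QuasiFiniteAt.exists_fg_and_exists_notMem_and_awayMap_bijective Q.asIdeal
  choose S' hfg r hr hbij using hex
  have hspan : Ideal.span (Set.range fun Q => ((r Q : S' Q) : C)) = ⊤ := by
    by_contra h
    obtain ⟨M, hM, hle⟩ := Ideal.exists_le_maximal _ h
    exact hr ⟨M, hM.isPrime⟩ (hle (Ideal.subset_span ⟨⟨M, hM.isPrime⟩, rfl⟩))
  obtain ⟨s, hs, hstop⟩ := (Ideal.span_eq_top_iff_finite _).mp hspan
  let g : C → Subalgebra A C := fun x =>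
    if h : ∃ Q, ((r Q : S' Q) : C) = x then S' h.choose else ⊥
  have hg : ∀ x ∈ s, ∃ Q, ((r Q : S' Q) : C) = x ∧ g x = S' Q := by
    intro x hx
    have h : ∃ Q, ((r Q : S' Q) : C) = x := hs hx
    refine ⟨h.choose, h.choose_spec, ?_⟩
    simp only [g, dif_pos h]
  have hle : ∀ x ∈ s, g x ≤ s.sup g := fun x hx => Finset.le_sup hx
  refine ⟨s.sup g, s, ?_, ?_, hstop, ?_⟩
  · apply finite_finset_sup
    intro x hx
    obtain ⟨Q, -, hQ⟩ := hg x hx
    rw [hQ]
    exact ⟨(Submodule.fg_top _).mpr (hfg Q)⟩
  · intro x hx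
    obtain ⟨Q, hQx, hQ⟩ := hg x hx
    apply hle x hx
    rw [hQ, ← hQx]
    exact (r Q).2
  · intro x hx c
    obtain ⟨Q, hQx, hQ⟩ := hg x hx
    obtain ⟨b, m, hb⟩ := (Localization.awayMap_surjective_iff).mp (hbij Q).2 c
    refine ⟨b, ?_, m, ?_⟩
    · apply hle x hx
      rw [hQ]
      exact b.2
    · rw [← hQx]
      exact hb

end Groth.Agent.Helper27.Pu
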