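import Mathlib
import Groth.Prelude.Def_FlatCA
import Groth.Agent.S1246
import Groth.Agent.Lib.Helper4.SuppBC
import Groth.Agent.Lib.Helper27.Pu3
import Groth.Agent.Lib.Helper27.Pu15

/-!
# A pure module with quasi-finite full support has finite support (for S1222)
-/

set_option linter.style.haveILetI false
set_option linter.unusedSectionVars false
set_option linter.unusedVariables false

namespace Groth.Agent.Helper27.Pu

universe u

open TensorProduct

attribute [local instance] Algebra.TensorProduct.rightAlgebra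

theorem span_eq_top_of_isPure {A C D : Type u} [CommRing A] [CommRing C] [Algebra A C]
    [CommRing D] [Algebra A D] [Algebra D C] [IsScalarTower A D C] [Module.Finite A D]
    [Algebra.FiniteType A C] [Algebra.QuasiFinite A C]
    (hinj : Function.Injective (algebraMap D C))
    (N : Type u) [AddCommGroup N] [Module C N] [Module.Finite C N]
    (hsupp : Module.support C N = Set.univ)
    (hpure : FlatCA.IsPure A C N) (sD : Set D)
    (hstop : Ideal.span (algebraMap D C '' sD) = ⊤) : Ideal.span sD = ⊤ := by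
  classical
  by_contra hne
  obtain ⟨t, htmax, hle⟩ := Ideal.exists_le_maximal _ hne
  haveI htp : t.IsPrime := htmax.isPrime
  obtain ⟨t', ht'min, ht'le⟩ :=
    Ideal.exists_minimalPrimes_le (show (⊥ : Ideal D) ≤ t from bot_le)
  haveI ht'p : t'.IsPrime := ht'min.1.1
  -- lift `t'` to `C`
  have hcomapbot : (⊥ : Ideal C).comap (algebraMap D C) = ⊥ :=
    Ideal.comap_bot_of_injective _ hinj
  obtain ⟨Q', hQ'p, -, hQ'⟩ := Ideal.exists_comap_eq_of_mem_minimalPrimes
    (I := (⊥ : Ideal C)) (algebraMap D C) t' (by rw [hcomapbot]; exact ht'min)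
  haveI := hQ'p
  -- the multiplication map
  let ρ : D ⊗[A] C →ₐ[D] C :=
    Algebra.TensorProduct.lift (Algebra.ofId D C) (IsScalarTower.toAlgHom A C C)
      (fun _ _ => Commute.all _ _)
  have hρr : ∀ c : C, ρ (algebraMap C (D ⊗[A] C) c) = c := by
    intro c
    rw [Algebra.TensorProduct.right_algebraMap_apply]
    simp [ρ]
  have hρsurj : Function.Surjective ρ := fun c => ⟨algebraMap C _ c, hρr c⟩
  haveI hPp : (Q'.comap ρ.toRingHom).IsPrime := Ideal.comap_isPrime _ _
  haveI hPo : (Q'.comap ρ.toRingHom).LiesOver t' := ⟨by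
    rw [← hQ']
    ext d
    rw [Ideal.under_def, Ideal.mem_comap, Ideal.mem_comap, Ideal.mem_comap]
    show _ ↔ ρ (algebraMap D _ d) ∈ Q'
    rw [ρ.commutes]⟩
  -- associated point
  haveI qf2 : Algebra.QuasiFinite D (D ⊗[A] C) := inferInstance
  haveI art : IsArtinianRing (t'.Fiber (D ⊗[A] C)) := inferInstance
  have hN'supp : Module.support (D ⊗[A] C) ((D ⊗[A] C) ⊗[C] N) = Set.univ :=
    Groth.Agent.Helper4.SuppBC.support_baseChange_eq_univ C (D ⊗[A] C) N hsupp
  haveI finN' : Module.Finite (D ⊗[A] C) ((D ⊗[A] C) ⊗[C] N) := inferInstance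
  have hMsupp : Module.support (t'.Fiber (D ⊗[A] C))
      ((t'.Fiber (D ⊗[A] C)) ⊗[D ⊗[A] C] ((D ⊗[A] C) ⊗[C] N)) = Set.univ :=
    Groth.Agent.Helper4.SuppBC.support_baseChange_eq_univ _ _ _ hN'supp
  haveI hPFp : (FlatCA.fiberIdeal t' (Q'.comap ρ.toRingHom)).IsPrime :=
    fiberIdeal_isPrime t' (D ⊗[A] C) _
  have hass : FlatCA.fiberIdeal t' (Q'.comap ρ.toRingHom) ∈
      associatedPrimes (t'.Fiber (D ⊗[A] C))
        (FlatCA.fiberMod t' (D ⊗[A] C) ((D ⊗[A] C) ⊗[C] N)) := by
    show FlatCA.fiberIdeal t' (Q'.comap ρ.toRingHom) ∈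
      associatedPrimes (t'.Fiber (D ⊗[A] C))
        ((t'.Fiber (D ⊗[A] C)) ⊗[D ⊗[A] C] ((D ⊗[A] C) ⊗[C] N))
    refine Module.associatedPrimes.minimalPrimes_annihilator_subset_associatedPrimes
      (t'.Fiber (D ⊗[A] C)) ((t'.Fiber (D ⊗[A] C)) ⊗[D ⊗[A] C] ((D ⊗[A] C) ⊗[C] N)) ?_
    refine ⟨⟨hPFp, ?_⟩, ?_⟩
    · exact Module.annihilator_le_of_mem_support
        (p := ⟨_, hPFp⟩) (by rw [hMsupp]; trivial)
    · rintro 𝔞 ⟨h𝔞p, -⟩ h𝔞le
      haveI := h𝔞p
      have hmax : 𝔞.IsMaximal := IsArtinianRing.isMaximal_of_isPrime 𝔞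
      exact (hmax.eq_of_le hPFp.ne_top h𝔞le).ge
  -- closure condition
  have hcl : ∀ (P' : Ideal (D ⊗[A] C)) [P'.IsPrime], Q'.comap ρ.toRingHom ≤ P' →
      ¬ P'.LiesOver t := by
    intro P' hP'p hle' hover
    have hker : RingHom.ker ρ.toRingHom ≤ P' := by
      intro x hx
      apply hle'
      rw [Ideal.mem_comap]
      rw [RingHom.mem_ker] at hx
      rw [hx]
      exact zero_mem _
    haveI hQ''p : (P'.map ρ.toRingHom).IsPrime :=
      Ideal.map_isPrime_of_surjective hρsurj hker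
    have hall : ∀ r ∈ algebraMap D C '' sD, r ∈ P'.map ρ.toRingHom := by
      rintro _ ⟨d, hd, rfl⟩
      have hrt : d ∈ t := hle (Ideal.subset_span hd)
      have h1 : algebraMap D (D ⊗[A] C) d ∈ P' := by
        rw [hover.over, Ideal.under_def, Ideal.mem_comap] at hrt
        exact hrt
      have h2 := Ideal.mem_map_of_mem ρ.toRingHom h1
      have h3 : ρ.toRingHom (algebraMap D (D ⊗[A] C) d) = algebraMap D C d := ρ.commutes _
      rw [h3] at h2
      exact h2
    have h1 : (1 : C) ∈ P'.map ρ.toRingHom := by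
      have hle2 : Ideal.span (algebraMap D C '' sD) ≤ P'.map ρ.toRingHom :=
        Ideal.span_le.mpr hall
      rw [hstop] at hle2
      exact hle2 trivial
    exact hQ''p.ne_top ((Ideal.eq_top_iff_one _).mpr h1)
  -- the impurity
  let fD : N →ₗ[C] (D ⊗[A] C) ⊗[C] N := TensorProduct.mk C (D ⊗[A] C) N 1
  have hfD : IsBaseChange (D ⊗[A] C) fD := TensorProduct.isBaseChange C N (D ⊗[A] C)
  haveI hpp : (t.under A).IsPrime := Ideal.comap_isPrime _ _
  haveI htover : t.LiesOver (t.under A) := ⟨rfl⟩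
  have himp : FlatCA.IsImpurity A C N (t.under A) D (D ⊗[A] C) ((D ⊗[A] C) ⊗[C] N) fD t' t
      (Q'.comap ρ.toRingHom) :=
    ⟨TensorProduct.isPushout', hfD, ht'le, htover, hPo, hass, hcl⟩
  haveI hqf : Algebra.QuasiFiniteAt A t := inferInstance
  have h2 := Groth.Agent.S1246.result N (t.under A) ⟨D, D ⊗[A] C, (D ⊗[A] C) ⊗[C] N,
    inferInstance, inferInstance, inferInstance, inferInstance, inferInstance, inferInstance,
    inferInstance, inferInstance, inferInstance, inferInstance, inferInstance, inferInstance,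
    inferInstance, inferInstance, fD, t', t, ht'p, htp, Q'.comap ρ.toRingHom, hPp, himp,
    ⟨htp, inferInstance, hqf⟩⟩
  obtain ⟨A₃, B₃, N₃, i1, i2, i3, i4, i5, i6, i7, i8, i9, i10, i11, i12, i13, i14, f₃, t₃', t₃,
    ht₃', ht₃, P₃, hP₃, himp₃, ⟨ht₃2, hnhd₃⟩⟩ := h2
  exact hpure (t.under A) A₃ B₃ N₃ f₃ t₃' t₃ P₃ hnhd₃ himp₃

theorem finite_of_isPure {A C : Type u} [CommRing A] [CommRing C] [Algebra A C]
    [Algebra.FiniteType A C] [Algebra.QuasiFinite A C]
    (N : Type u) [AddCommGroup N] [Module C N] [Module.Finite C N]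
    (hsupp : Module.support C N = Set.univ)
    (hpure : FlatCA.IsPure A C N) : Module.Finite A C := by
  classical
  obtain ⟨D, s, hDfin, hsD, hstop, hsurj⟩ := exists_finite_subalgebra_cover (A := A) (C := C)
  haveI := hDfin
  let sD : Set D := {d | (d : C) ∈ s}
  have himg : algebraMap D C '' sD = (s : Set C) := by
    ext c
    constructor
    · rintro ⟨d, hd, rfl⟩
      exact hd
    · intro hc
      exact ⟨⟨c, hsD c hc⟩, hc, rfl⟩
  have hspanD : Ideal.span sD = ⊤ :=
    span_eq_top_of_isPure (A := A) (C := C) (D := D) Subtype.val_injective N hsupp hpure sD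
      (by rw [himg]; exact hstop)
  have hsurjDC : Function.Surjective (algebraMap D C) := by
    apply RingHom.surjective_ofLocalizationSpan (algebraMap D C) sD hspanD
    rintro ⟨r, hr⟩
    show Function.Surjective (Localization.awayMap (algebraMap D C) r)
    rw [Localization.awayMap_surjective_iff]
    intro c
    obtain ⟨b, hb, m, h⟩ := hsurj r.1 hr c
    exact ⟨⟨b, hb⟩, m, h⟩
  exact Module.Finite.of_surjective (D.val.toLinearMap) hsurjDC

end Groth.Agent.Helper27.Pu
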