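import Mathlib

/-!
# A surjective square with extended kernel is a pushout (for S8999)
-/

set_option linter.style.haveILetI false
set_option linter.unusedSectionVars false

namespace Groth.Agent.Helper27.Pu

universe u

open TensorProduct

/-- If `B → C` is surjective, `B' → C'` is surjective with kernel the extension of
`ker (B → C)`, then `C' = C ⊗_B B'`. -/
theorem isPushout_of_surjective_square (B C B' C' : Type u) [CommRing B] [CommRing C]
    [CommRing B'] [CommRing C'] [Algebra B C] [Algebra B B'] [Algebra B' C'] [Algebra C C']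
    [Algebra B C'] [IsScalarTower B C C'] [IsScalarTower B B' C']
    (hBC : Function.Surjective (algebraMap B C))
    (hsurj : Function.Surjective (algebraMap B' C'))
    (hker : RingHom.ker (algebraMap B' C') = (RingHom.ker (algebraMap B C)).map (algebraMap B B')) :
    Algebra.IsPushout B C B' C' := by
  let τa : B' →ₐ[B] C' := IsScalarTower.toAlgHom B B' C'
  let m : C ⊗[B] B' →ₐ[C] C' :=
    Algebra.TensorProduct.lift (Algebra.ofId C C') τa (fun _ _ => Commute.all _ _)
  have hm : ∀ t, m (1 ⊗ₜ t) = algebraMap B' C' t := by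
    intro t
    simp [m, τa]
  have hsurj1 : ∀ x : C ⊗[B] B', ∃ t : B', x = 1 ⊗ₜ t := by
    intro x
    induction x using TensorProduct.induction_on with
    | zero => exact ⟨0, by simp⟩
    | tmul a t =>
      obtain ⟨q, rfl⟩ := hBC a
      refine ⟨q • t, ?_⟩
      rw [Algebra.algebraMap_eq_smul_one, TensorProduct.smul_tmul]
    | add x y hx hy =>
      obtain ⟨a, rfl⟩ := hx
      obtain ⟨b, rfl⟩ := hy
      exact ⟨a + b, by rw [TensorProduct.tmul_add]⟩
  let g : B' →ₐ[B] C ⊗[B] B' := Algebra.TensorProduct.includeRight
  have hkg : RingHom.ker (algebraMap B' C') ≤ RingHom.ker g.toRingHom := by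
    rw [hker, Ideal.map_le_iff_le_comap]
    intro k hk
    rw [Ideal.mem_comap, RingHom.mem_ker]
    show g (algebraMap B B' k) = 0
    rw [g.commutes, Algebra.TensorProduct.algebraMap_apply]
    have : algebraMap B C k = 0 := hk
    rw [this, zero_tmul]
  have hinj : Function.Injective m := by
    rw [injective_iff_map_eq_zero]
    intro x hx
    obtain ⟨t, rfl⟩ := hsurj1 x
    rw [hm] at hx
    have : t ∈ RingHom.ker g.toRingHom := hkg hx
    exact this
  have hsurjm : Function.Surjective m := by
    intro y
    obtain ⟨t, rfl⟩ := hsurj y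
    exact ⟨1 ⊗ₜ t, hm t⟩
  constructor
  apply IsBaseChange.of_equiv (LinearEquiv.ofBijective m.toLinearMap ⟨hinj, hsurjm⟩)
  intro x
  exact hm x

end Groth.Agent.Helper27.Pu
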