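import Mathlib
import Groth.Prelude.Def_FlatCA
import Groth.Agent.Lib.Helper27.Pu1
import Groth.Agent.Lib.Helper27.Pu3

/-!
# S8999, direction 1: an impurity of `N` over the quotient `C` gives one over `B`
-/

set_option linter.style.haveILetI false
set_option linter.unusedSectionVars false
set_option linter.unusedVariables false

namespace Groth.Agent.Helper27.Pu

universe u

open TensorProduct

attribute [local instance] Algebra.TensorProduct.rightAlgebra

theorem impurity_B_of_C {A B C : Type u} [CommRing A] [CommRing B] [CommRing C] [Algebra A B]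
    [Algebra B C] [Algebra A C] [IsScalarTower A B C]
    (hBC : Function.Surjective (algebraMap B C)) (N : Type u) [AddCommGroup N] [Module C N]
    [Module B N] [IsScalarTower B C N] (p : Ideal A) [p.IsPrime]
    (A' C' N' : Type u) [CommRing A'] [CommRing C'] [Algebra A A'] [Algebra C C']
    [Algebra A' C'] [Algebra A C'] [IsScalarTower A C C'] [IsScalarTower A A' C']
    [AddCommGroup N'] [Module C' N'] [Module C N'] [IsScalarTower C C' N'] [Module A' N']
    [IsScalarTower A' C' N'] (f : N →ₗ[C] N') (t' t : Ideal A') [t'.IsPrime] [t.IsPrime]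
    (P : Ideal C') [P.IsPrime]
    (himp : FlatCA.IsImpurity A C N p A' C' N' f t' t P) :
    ∃ (B' : Type u) (_ : CommRing B') (_ : Algebra B B') (_ : Algebra A' B') (_ : Algebra A B')
      (_ : IsScalarTower A B B') (_ : IsScalarTower A A' B') (_ : Module B' N') (_ : Module B N')
      (_ : IsScalarTower B B' N') (_ : IsScalarTower A' B' N') (fB : N →ₗ[B] N') (PB : Ideal B')
      (_ : PB.IsPrime), FlatCA.IsImpurity A B N p A' B' N' fB t' t PB := by
  obtain ⟨hpo, hbc, htt, htp, hPt', hass, hcl⟩ := himp
  let γ : B →ₐ[A] C' := (IsScalarTower.toAlgHom A C C').comp (IsScalarTower.toAlgHom A B C)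
  have hγ : ∀ b, γ b = algebraMap C C' (algebraMap B C b) := fun _ => rfl
  let π : A' ⊗[A] B →ₐ[A'] C' :=
    Algebra.TensorProduct.lift (Algebra.ofId A' C') γ (fun _ _ => Commute.all _ _)
  have hπ : ∀ a b, π (a ⊗ₜ b) = algebraMap A' C' a * algebraMap C C' (algebraMap B C b) := by
    intro a b
    simp only [π, Algebra.TensorProduct.lift_tmul, hγ]
    rfl
  letI modB'N' : Module (A' ⊗[A] B) N' := Module.compHom N' π.toRingHom
  have hsm : ∀ (x : A' ⊗[A] B) (n : N'), x • n = π x • n := fun _ _ => rfl
  letI modBN' : Module B N' := Module.compHom N' (algebraMap B C)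
  have hsmB : ∀ (b : B) (n : N'), b • n = algebraMap B C b • n := fun _ _ => rfl
  have hπB : ∀ b : B, π (algebraMap B (A' ⊗[A] B) b) = algebraMap C C' (algebraMap B C b) := by
    intro b
    rw [Algebra.TensorProduct.right_algebraMap_apply, hπ, map_one, one_mul]
  haveI tBB'N' : IsScalarTower B (A' ⊗[A] B) N' := ⟨fun b x n => by
    rw [hsm, hsm, hsmB, Algebra.smul_def, map_mul, mul_smul, hπB, algebraMap_smul]⟩
  haveI tA'B'N' : IsScalarTower A' (A' ⊗[A] B) N' := ⟨fun a x n => by
    rw [hsm, hsm, map_smul, smul_assoc]⟩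
  let fB : N →ₗ[B] N' :=
    { toFun := f
      map_add' := f.map_add
      map_smul' := fun b n => by
        show f (b • n) = algebraMap B C b • f n
        rw [← algebraMap_smul C b n, f.map_smul] }
  -- `A`-module structures
  letI modAN : Module A N := Module.compHom N (algebraMap A B)
  have hsmAN : ∀ (a : A) (n : N), a • n = algebraMap A B a • n := fun _ _ => rfl
  haveI tABN : IsScalarTower A B N := ⟨fun a b n => by
    rw [hsmAN, Algebra.smul_def, mul_smul]⟩
  haveI tACN : IsScalarTower A C N := ⟨fun a c n => by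
    rw [hsmAN, ← algebraMap_smul C (algebraMap A B a) (c • n),
      ← IsScalarTower.algebraMap_apply A B C, Algebra.smul_def a c, mul_smul]⟩
  letI modAN' : Module A N' := Module.compHom N' (algebraMap A A')
  have hsmAN' : ∀ (a : A) (x : N'), a • x = algebraMap A A' a • x := fun _ _ => rfl
  haveI tAA'N' : IsScalarTower A A' N' := ⟨fun a a' x => by
    rw [hsmAN', Algebra.smul_def, mul_smul]⟩
  have hAC : ∀ (a : A) (y : N'), a • y = algebraMap A C a • y := by
    intro a y
    rw [hsmAN', ← algebraMap_smul C' (algebraMap A A' a) y,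
      ← IsScalarTower.algebraMap_apply A A' C', IsScalarTower.algebraMap_apply A C C',
      algebraMap_smul]
  haveI tACN' : IsScalarTower A C N' := ⟨fun a c x => by
    rw [Algebra.smul_def a c, mul_smul, hAC]⟩
  haveI tABN' : IsScalarTower A B N' := ⟨fun a b x => by
    rw [hsmB, hsmB, Algebra.smul_def a b, map_mul, ← IsScalarTower.algebraMap_apply A B C,
      mul_smul, hAC]⟩
  -- base change
  have hA : IsBaseChange A' (f.restrictScalars A) := (isBaseChange_iff_of_isPushout hpo f).mp hbc
  have hpoB : Algebra.IsPushout A B A' (A' ⊗[A] B) := TensorProduct.isPushout'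
  have hfeq : fB.restrictScalars A = f.restrictScalars A := LinearMap.ext fun _ => rfl
  have hbcB : IsBaseChange (A' ⊗[A] B) fB :=
    (isBaseChange_iff_of_isPushout hpoB fB).mpr (hfeq ▸ hA)
  -- the prime
  haveI hPBp : (P.comap π.toRingHom).IsPrime := Ideal.comap_isPrime _ _
  have hPBt' : (P.comap π.toRingHom).LiesOver t' := by
    refine ⟨?_⟩
    rw [hPt'.over]
    ext a
    simp only [Ideal.under_def, Ideal.mem_comap]
    rw [show π.toRingHom (algebraMap A' (A' ⊗[A] B) a) = algebraMap A' C' a from π.commutes a]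
  haveI := hPt'
  have hassB := assoc_comap t' (A' ⊗[A] B) C' π N' hsm P hass
  -- surjectivity of `π`
  have hπsurj : Function.Surjective π := by
    intro y
    refine IsBaseChange.inductionOn hpo.out y (fun y => ∃ x, π x = y) ⟨0, map_zero _⟩ ?_ ?_ ?_
    · intro a'
      exact ⟨a' ⊗ₜ 1, by rw [hπ, map_one, map_one, mul_one]; rfl⟩
    · rintro c y ⟨x, rfl⟩
      obtain ⟨b, rfl⟩ := hBC c
      exact ⟨(1 ⊗ₜ b) * x, by rw [map_mul, hπ, map_one, one_mul, Algebra.smul_def]⟩
    · rintro y₁ y₂ ⟨x₁, rfl⟩ ⟨x₂, rfl⟩
      exact ⟨x₁ + x₂, map_add _ _ _⟩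
  refine ⟨A' ⊗[A] B, inferInstance, inferInstance, inferInstance, inferInstance, inferInstance,
    inferInstance, modB'N', modBN', tBB'N', tA'B'N', fB, P.comap π.toRingHom, hPBp,
    hpoB, hbcB, htt, htp, hPBt', hassB, ?_⟩
  intro P'' hP''p hle hover
  have hker : RingHom.ker π.toRingHom ≤ P'' := le_trans (fun x hx => by
    show π.toRingHom x ∈ P
    rw [RingHom.mem_ker.mp hx]
    exact zero_mem _) hle
  haveI : (P''.map π.toRingHom).IsPrime := Ideal.map_isPrime_of_surjective hπsurj hker
  apply hcl (P''.map π.toRingHom)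
  · calc P = (P.comap π.toRingHom).map π.toRingHom :=
          (Ideal.map_comap_of_surjective _ hπsurj P).symm
      _ ≤ _ := Ideal.map_mono hle
  · refine ⟨?_⟩
    rw [hover.over]
    ext a
    simp only [Ideal.under_def, Ideal.mem_comap]
    rw [← π.commutes a]
    have h1 : (P''.map π.toRingHom).comap π.toRingHom = P'' := by
      rw [Ideal.comap_map_of_surjective π.toRingHom hπsurj, ← RingHom.ker_eq_comap_bot,
        sup_eq_left.mpr hker]
    constructor
    · intro ha
      exact Ideal.mem_map_of_mem _ ha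
    · intro ha
      have : algebraMap A' (A' ⊗[A] B) a ∈ (P''.map π.toRingHom).comap π.toRingHom := ha
      rwa [h1] at this

end Groth.Agent.Helper27.Pu
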