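import Mathlib
import Groth.Prelude.Def_FlatCA
import Groth.Agent.Lib.Helper10.ImpBC
import Groth.Agent.Lib.Helper27.Pu1
import Groth.Agent.Lib.Helper27.Pu2

/-!
# S8999, direction 2: an impurity of `N` over `B` gives one over the quotient `C`
-/

set_option linter.style.haveILetI false
set_option linter.unusedSectionVars false
set_option linter.unusedVariables false

namespace Groth.Agent.Helper27.Pu

universe u

open TensorProduct

theorem impurity_C_of_B {A B C : Type u} [CommRing A] [CommRing B] [CommRing C] [Algebra A B]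
    [Algebra B C] [Algebra A C] [IsScalarTower A B C] [Algebra.FiniteType A B]
    (hBC : Function.Surjective (algebraMap B C)) (N : Type u) [AddCommGroup N] [Module C N]
    [Module B N] [IsScalarTower B C N] (p : Ideal A) [p.IsPrime]
    (A' B' N' : Type u) [CommRing A'] [CommRing B'] [Algebra A A'] [Algebra B B']
    [Algebra A' B'] [Algebra A B'] [IsScalarTower A B B'] [IsScalarTower A A' B']
    [AddCommGroup N'] [Module B' N'] [Module B N'] [IsScalarTower B B' N'] [Module A' N']
    [IsScalarTower A' B' N'] (f : N →ₗ[B] N') (t' t : Ideal A') [t'.IsPrime] [t.IsPrime]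
    (P : Ideal B') [P.IsPrime]
    (himp : FlatCA.IsImpurity A B N p A' B' N' f t' t P) :
    ∃ (C' : Type u) (_ : CommRing C') (_ : Algebra C C') (_ : Algebra A' C') (_ : Algebra A C')
      (_ : IsScalarTower A C C') (_ : IsScalarTower A A' C') (_ : Module C' N') (_ : Module C N')
      (_ : IsScalarTower C C' N') (_ : IsScalarTower A' C' N') (fC : N →ₗ[C] N') (PC : Ideal C')
      (_ : PC.IsPrime), FlatCA.IsImpurity A C N p A' C' N' fC t' t PC := by
  have himp' := himp
  obtain ⟨hpo, hbc, htt, htp, hPt', hass, hcl⟩ := himp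
  set I : Ideal B := RingHom.ker (algebraMap B C) with hI
  set K : Ideal B' := I.map (algebraMap B B') with hK
  have hIN : ∀ b ∈ I, ∀ n : N, b • n = 0 := by
    intro b hb n
    rw [← algebraMap_smul C b n, RingHom.mem_ker.mp hb, zero_smul]
  have hIN' : ∀ b ∈ I, ∀ x : N', b • x = 0 := by
    intro b hb x
    refine IsBaseChange.inductionOn hbc x (fun x => b • x = 0) (smul_zero _) ?_ ?_ ?_
    · intro n
      rw [← f.map_smul, hIN b hb, map_zero]
    · intro s x hx
      rw [smul_comm, hx, smul_zero]
    · intro x y hx hy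
      rw [smul_add, hx, hy, add_zero]
  have hKx : ∀ k ∈ K, ∀ x : N', k • x = 0 := by
    intro k hk x
    refine Submodule.span_induction (p := fun k _ => k • x = 0) ?_ ?_ ?_ ?_ hk
    · rintro _ ⟨b, hb, rfl⟩
      rw [algebraMap_smul]
      exact hIN' b hb x
    · exact zero_smul _ _
    · intro k₁ k₂ _ _ h₁ h₂
      rw [add_smul, h₁, h₂, add_zero]
    · intro r k _ h
      rw [smul_eq_mul, mul_smul, h, smul_zero]
  have hKN' : Module.IsTorsionBySet B' N' (K : Set B') := by
    intro x ⟨k, hk⟩
    exact hKx k hk x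
  letI modC'N' : Module (B' ⧸ K) N' := hKN'.module
  have hmk : ∀ (b' : B') (x : N'), (Ideal.Quotient.mk K b') • x = b' • x := fun _ _ => rfl
  -- the algebra structure `C → C'`
  let ψ : B →+* B' ⧸ K := (Ideal.Quotient.mk K).comp (algebraMap B B')
  have hψker : RingHom.ker (algebraMap B C) ≤ RingHom.ker ψ := by
    intro b hb
    rw [RingHom.mem_ker]
    show Ideal.Quotient.mk K (algebraMap B B' b) = 0
    rw [Ideal.Quotient.eq_zero_iff_mem]
    exact Ideal.mem_map_of_mem _ hb
  let φ : C →+* B' ⧸ K := RingHom.liftOfSurjective (algebraMap B C) hBC ⟨ψ, hψker⟩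
  have hφ : ∀ b, φ (algebraMap B C b) = ψ b :=
    RingHom.liftOfSurjective_comp_apply (algebraMap B C) hBC ⟨ψ, hψker⟩
  letI algCC' : Algebra C (B' ⧸ K) := φ.toAlgebra
  have halgCC' : ∀ c, algebraMap C (B' ⧸ K) c = φ c := fun _ => rfl
  have hψ : ∀ b, ψ b = algebraMap B (B' ⧸ K) b := fun _ => rfl
  haveI tBCC' : IsScalarTower B C (B' ⧸ K) :=
    IsScalarTower.of_algebraMap_eq (fun b => by rw [halgCC', hφ, hψ])
  haveI tACC' : IsScalarTower A C (B' ⧸ K) :=
    IsScalarTower.of_algebraMap_eq (fun a => by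
      rw [halgCC', IsScalarTower.algebraMap_apply A B C, hφ, hψ,
        ← IsScalarTower.algebraMap_apply A B (B' ⧸ K)])
  -- pushout
  have hpoBC : Algebra.IsPushout B C B' (B' ⧸ K) :=
    isPushout_of_surjective_square B C B' (B' ⧸ K) hBC Ideal.Quotient.mk_surjective
      (by
        show RingHom.ker (Ideal.Quotient.mk K) = _
        rw [Ideal.mk_ker])
  haveI := hpo
  have hpoC : Algebra.IsPushout A C A' (B' ⧸ K) :=
    (Algebra.IsPushout.comp_iff A B A' (S' := B') (T := C) (T' := B' ⧸ K)).mpr hpoBC
  -- module structures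
  letI modCN' : Module C N' := Module.compHom N' φ
  have hsmC : ∀ (c : C) (x : N'), c • x = φ c • x := fun _ _ => rfl
  haveI tCC'N' : IsScalarTower C (B' ⧸ K) N' := ⟨fun c y x => by
    rw [Algebra.smul_def, mul_smul, halgCC', ← hsmC]⟩
  haveI tA'C'N' : IsScalarTower A' (B' ⧸ K) N' := ⟨fun a y x => by
    obtain ⟨b', rfl⟩ := Ideal.Quotient.mk_surjective y
    have : a • (Ideal.Quotient.mk K b') = Ideal.Quotient.mk K (a • b') := rfl
    rw [this, hmk, hmk, smul_assoc]⟩
  have hCB : ∀ (b : B) (x : N'), algebraMap B C b • x = b • x := by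
    intro b x
    rw [hsmC, hφ]
    show (Ideal.Quotient.mk K (algebraMap B B' b)) • x = _
    rw [hmk, algebraMap_smul]
  let fC : N →ₗ[C] N' :=
    { toFun := f
      map_add' := f.map_add
      map_smul' := fun c n => by
        obtain ⟨b, rfl⟩ := hBC c
        show f (algebraMap B C b • n) = algebraMap B C b • f n
        rw [algebraMap_smul, f.map_smul, hCB] }
  -- `A`-module structures
  letI modAN : Module A N := Module.compHom N (algebraMap A B)
  have hsmAN : ∀ (a : A) (n : N), a • n = algebraMap A B a • n := fun _ _ => rfl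
  haveI tABN : IsScalarTower A B N := ⟨fun a b n => by
    rw [hsmAN, Algebra.smul_def, mul_smul]⟩
  haveI tACN : IsScalarTower A C N := ⟨fun a c n => by
    rw [hsmAN, ← algebraMap_smul C (algebraMap A B a) (c • n),
      ← IsScalarTower.algebraMap_apply A B C, Algebra.smul_def a c, mul_smul]⟩
  letI modAN' : Module A N' := Module.compHom N' (algebraMap A A')
  have hsmAN' : ∀ (a : A) (x : N'), a • x = algebraMap A A' a • x := fun _ _ => rfl
  haveI tAA'N' : IsScalarTower A A' N' := ⟨fun a a' x => by
    rw [hsmAN', Algebra.smul_def, mul_smul]⟩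
  have hAB' : ∀ (a : A) (y : N'), a • y = algebraMap A B a • y := by
    intro a y
    rw [hsmAN', ← algebraMap_smul B' (algebraMap A A' a) y,
      ← IsScalarTower.algebraMap_apply A A' B', IsScalarTower.algebraMap_apply A B B',
      algebraMap_smul]
  haveI tABN' : IsScalarTower A B N' := ⟨fun a b x => by
    rw [Algebra.smul_def a b, mul_smul, hAB']⟩
  haveI tACN' : IsScalarTower A C N' := ⟨fun a c x => by
    rw [hAB' a (c • x), ← hCB, ← mul_smul, ← IsScalarTower.algebraMap_apply A B C,
      Algebra.smul_def a c]⟩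
  -- base change
  have hA : IsBaseChange A' (f.restrictScalars A) := (isBaseChange_iff_of_isPushout hpo f).mp hbc
  have hfeq : fC.restrictScalars A = f.restrictScalars A := LinearMap.ext fun _ => rfl
  have hbcC : IsBaseChange (B' ⧸ K) fC :=
    (isBaseChange_iff_of_isPushout hpoC fC).mpr (hfeq ▸ hA)
  -- finiteness
  haveI : Algebra.FiniteType A' B' := by
    haveI : Algebra.IsPushout A A' B B' := hpo.symm
    exact (inferInstance : Algebra.FiniteType A' (A' ⊗[A] B)).equiv
      (Algebra.IsPushout.equiv A A' B B')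
  haveI : Algebra.FiniteType A' (B' ⧸ K) :=
    Algebra.FiniteType.of_surjective (Ideal.Quotient.mkₐ A' K) (Ideal.Quotient.mkₐ_surjective A' K)
  -- transfer
  haveI hTt : t.LiesOver t := ⟨by simp [Ideal.under_def]⟩
  haveI hT't' : t'.LiesOver t' := ⟨by simp [Ideal.under_def]⟩
  haveI := htp
  obtain ⟨PC, hPCp, himpC⟩ := Groth.Agent.Helper10.ImpBC.transfer (A := A) (B := B) N p A' B' N' f
    t' t P himp' (A' := A) (B' := C) N p A' (B' ⧸ K) N' fC hpoC hbcC (fun a => rfl)
    (LinearEquiv.refl A' N').toLinearMap (IsBaseChange.ofEquiv (LinearEquiv.refl A' N'))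
    (fun b n => (hmk b n).symm) t' t htt
  exact ⟨B' ⧸ K, inferInstance, algCC', inferInstance, inferInstance, tACC', inferInstance,
    modC'N', modCN', tCC'N', tA'C'N', fC, PC, hPCp, himpC⟩

end Groth.Agent.Helper27.Pu
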