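import Mathlib
import Groth.Prelude.Def_FlatCA

/-!
# Choosing the stage of a directed colimit at which an impurity survives (for S1296)
-/

set_option linter.style.haveILetI false
set_option linter.unusedSectionVars false
set_option linter.unusedVariables false

namespace Groth.Agent.Helper27.Pu

universe u

open TensorProduct

section

variable {ι : Type u} [Preorder ι] (G : ι → Type u) [∀ i, CommRing (G i)]
  (g : ∀ i j, i ≤ j → G i →+* G j)
  (A' : Type u) [CommRing A'] [∀ i, Algebra (G i) A']

/-- finitely many elements of a directed colimit come from a common stage. -/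
theorem exists_common_stage (hcolim : FlatCA.IsDirectedColimitRing G g A') (F : Finset A') :
    ∃ i, ∀ a ∈ F, ∃ x : G i, algebraMap (G i) A' x = a := by
  classical
  obtain ⟨hdir, hne, hid, hcomp, hcompat, hsurj, hinj⟩ := hcolim
  induction F using Finset.induction_on with
  | empty =>
    obtain ⟨i⟩ := hne
    exact ⟨i, by simp⟩
  | insert a F ha IH =>
    obtain ⟨i, hi⟩ := IH
    obtain ⟨j, x, hx⟩ := hsurj a
    obtain ⟨k, hik, hjk⟩ := hdir.directed i j
    refine ⟨k, fun b hb => ?_⟩
    rcases Finset.mem_insert.mp hb with rfl | hb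
    · refine ⟨g j k hjk x, ?_⟩
      rw [← hx, ← hcompat j k hjk]
      rfl
    · obtain ⟨y, hy⟩ := hi b hb
      refine ⟨g i k hik y, ?_⟩
      rw [← hy, ← hcompat i k hik]
      rfl

end

/-- The closure condition of an impurity, made explicit and brought down to a stage. -/
theorem exists_index {A B : Type u} [CommRing A] [CommRing B] [Algebra A B]
    {ι : Type u} [Preorder ι] (G : ι → Type u) [∀ i, CommRing (G i)]
    (g : ∀ i j, i ≤ j → G i →+* G j)
    (A' : Type u) [CommRing A'] [Algebra A A'] [∀ i, Algebra (G i) A']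
    (hcolim : FlatCA.IsDirectedColimitRing G g A')
    (B' : Type u) [CommRing B'] [Algebra B B'] [Algebra A' B'] [Algebra A B']
    [IsScalarTower A B B'] [IsScalarTower A A' B']
    (hpo : Algebra.IsPushout A B A' B')
    (t : Ideal A') [t.IsPrime] (P : Ideal B') [P.IsPrime]
    (hcl : ∀ (P' : Ideal B') [P'.IsPrime], P ≤ P' → ¬ P'.LiesOver t) :
    ∃ (i : ι) (si : G i) (l : A' →₀ B) (sel : A' → G i), algebraMap (G i) A' si ∉ t ∧
      (∀ a ∈ l.support, a ∈ t ∧ algebraMap (G i) A' (sel a) = a) ∧
      algebraMap A' B' (algebraMap (G i) A' si) -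
        ∑ a ∈ l.support, algebraMap A' B' a * algebraMap B B' (l a) ∈ P := by
  classical
  -- Step 1
  obtain ⟨s, hs, hsJ⟩ : ∃ s : A', s ∉ t ∧
      algebraMap A' B' s ∈ P ⊔ t.map (algebraMap A' B') := by
    by_contra hcon
    push_neg at hcon
    have hdisj : Disjoint ((P ⊔ t.map (algebraMap A' B') : Ideal B') : Set B')
        ((t.primeCompl.map (algebraMap A' B') : Submonoid B') : Set B') := by
      rw [Set.disjoint_left]
      rintro w hw ⟨s, hs, rfl⟩
      exact hcon s hs hw
    obtain ⟨P'', hP''p, hle, hdisj''⟩ := Ideal.exists_le_prime_disjoint _ _ hdisj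
    apply hcl P'' (le_sup_left.trans hle)
    refine ⟨?_⟩
    ext a
    rw [Ideal.under_def, Ideal.mem_comap]
    constructor
    · intro ha
      exact hle (Ideal.mem_sup_right (Ideal.mem_map_of_mem _ ha))
    · intro ha
      by_contra hat
      exact Set.disjoint_left.mp hdisj'' ha ⟨a, hat, rfl⟩
  obtain ⟨x, hx, w, hw, hxw⟩ := Submodule.mem_sup.mp hsJ
  -- Step 3
  let W : Submodule B B' := Submodule.span B (algebraMap A' B' '' (t : Set A'))
  have hWmul : ∀ b' : B', ∀ w ∈ W, b' * w ∈ W := by
    intro b'
    refine IsBaseChange.inductionOn hpo.out b' (fun b' => ∀ w ∈ W, b' * w ∈ W) ?_ ?_ ?_ ?_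
    · intro w _
      rw [zero_mul]
      exact zero_mem _
    · intro a' w hw
      show algebraMap A' B' a' * w ∈ W
      refine Submodule.span_induction (p := fun w _ => algebraMap A' B' a' * w ∈ W) ?_ ?_ ?_ ?_ hw
      · rintro _ ⟨a, ha, rfl⟩
        rw [← map_mul]
        exact Submodule.subset_span ⟨a' * a, t.mul_mem_left a' ha, rfl⟩
      · rw [mul_zero]
        exact zero_mem _
      · intro w₁ w₂ _ _ h₁ h₂
        rw [mul_add]
        exact add_mem h₁ h₂
      · intro β w _ h
        rw [mul_smul_comm]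
        exact Submodule.smul_mem _ _ h
    · intro β b'' h w hw
      rw [smul_mul_assoc]
      exact Submodule.smul_mem _ _ (h w hw)
    · intro b₁ b₂ h₁ h₂ w hw
      rw [add_mul]
      exact add_mem (h₁ w hw) (h₂ w hw)
  have hwW : w ∈ W := by
    refine Submodule.span_induction (p := fun w _ => w ∈ W) ?_ ?_ ?_ ?_ hw
    · intro v hv
      exact Submodule.subset_span hv
    · exact zero_mem _
    · intro w₁ w₂ _ _ h₁ h₂
      exact add_mem h₁ h₂
    · intro b' w _ h
      rw [smul_eq_mul]
      exact hWmul b' w h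
  -- Step 4
  obtain ⟨l, hl, hlw⟩ := Finsupp.mem_span_image_iff_linearCombination (R := B).mp hwW
  have hlsum : w = ∑ a ∈ l.support, algebraMap A' B' a * algebraMap B B' (l a) := by
    rw [← hlw, Finsupp.linearCombination_apply, Finsupp.sum]
    refine Finset.sum_congr rfl (fun a _ => ?_)
    rw [Algebra.smul_def, mul_comm]
  -- Step 5
  obtain ⟨i, hi⟩ := exists_common_stage G g A' hcolim (insert s l.support)
  have hex : ∀ a : A', ∃ x : G i, a ∈ insert s l.support → algebraMap (G i) A' x = a := by
    intro a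
    by_cases ha : a ∈ insert s l.support
    · obtain ⟨x, hx⟩ := hi a ha
      exact ⟨x, fun _ => hx⟩
    · exact ⟨0, fun h => absurd h ha⟩
  choose sel hsel using hex
  refine ⟨i, sel s, l, sel, ?_, ?_, ?_⟩
  · rw [hsel s (Finset.mem_insert_self _ _)]
    exact hs
  · intro a ha
    exact ⟨hl (Finset.mem_coe.mpr ha), hsel a (Finset.mem_insert_of_mem ha)⟩
  · rw [hsel s (Finset.mem_insert_self _ _), ← hlsum, ← hxw, add_sub_cancel_right]
    exact hx

end Groth.Agent.Helper27.Pu
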