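import Mathlib
import Groth.Prelude.Def_FlatCA
import Groth.Agent.Lib.Helper27.Pu1
import Groth.Agent.Lib.Helper27.Pu7

/-!
# An impurity over `A'` descends to a ring `Gi → A'` carrying enough elements (for S1296)
-/

set_option linter.style.haveILetI false
set_option linter.unusedSectionVars false
set_option linter.unusedVariables false

namespace Groth.Agent.Helper27.Pu

universe u

open TensorProduct

attribute [local instance] Algebra.TensorProduct.rightAlgebra

theorem stage_impurity {A B : Type u} [CommRing A] [CommRing B] [Algebra A B]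
    (N : Type u) [AddCommGroup N] [Module B N] (p : Ideal A) [p.IsPrime]
    (Gi : Type u) [CommRing Gi] [Algebra A Gi]
    (A' : Type u) [CommRing A'] [Algebra A A'] [Algebra Gi A'] [IsScalarTower A Gi A']
    (B' N' : Type u) [CommRing B'] [Algebra B B'] [Algebra A' B'] [Algebra A B']
    [IsScalarTower A B B'] [IsScalarTower A A' B']
    [AddCommGroup N'] [Module B' N'] [Module B N'] [IsScalarTower B B' N'] [Module A' N']
    [IsScalarTower A' B' N']
    (f : N →ₗ[B] N') (t' t : Ideal A') [t'.IsPrime] [t.IsPrime] (P : Ideal B') [P.IsPrime]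
    (himp : FlatCA.IsImpurity A B N p A' B' N' f t' t P)
    (si : Gi) (l : A' →₀ B) (sel : A' → Gi) (hsi : algebraMap Gi A' si ∉ t)
    (hl : ∀ a ∈ l.support, a ∈ t ∧ algebraMap Gi A' (sel a) = a)
    (hP : algebraMap A' B' (algebraMap Gi A' si) -
      ∑ a ∈ l.support, algebraMap A' B' a * algebraMap B B' (l a) ∈ P) :
    FlatCA.HasImpurity A B N p
      (fun A'' _ _ t'' => ∃ e : A'' ≃ₐ[A] Gi, t''.map e = t.comap (algebraMap Gi A')) := by
  classical
  obtain ⟨hpo, hbc, htt, htp, hPt', hass, hcl⟩ := himp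
  letI algGB' : Algebra Gi B' := ((algebraMap A' B').comp (algebraMap Gi A')).toAlgebra
  have halgGB' : ∀ x, algebraMap Gi B' x = algebraMap A' B' (algebraMap Gi A' x) := fun _ => rfl
  haveI tGA'B' : IsScalarTower Gi A' B' := IsScalarTower.of_algebraMap_eq (fun _ => rfl)
  haveI tAGB' : IsScalarTower A Gi B' := IsScalarTower.of_algebraMap_eq (fun a => by
    rw [halgGB', ← IsScalarTower.algebraMap_apply A Gi A', ← IsScalarTower.algebraMap_apply A A' B'])
  let ρ : Gi ⊗[A] B →ₐ[Gi] B' :=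
    Algebra.TensorProduct.lift (Algebra.ofId Gi B') (IsScalarTower.toAlgHom A B B')
      (fun _ _ => Commute.all _ _)
  have hρ : ∀ x b, ρ (x ⊗ₜ b) = algebraMap Gi B' x * algebraMap B B' b := by
    intro x b
    simp only [ρ, Algebra.TensorProduct.lift_tmul]
    rfl
  letI algBiB' : Algebra (Gi ⊗[A] B) B' := ρ.toRingHom.toAlgebra
  have halgBi : ∀ y, algebraMap (Gi ⊗[A] B) B' y = ρ y := fun _ => rfl
  haveI tGBiB' : IsScalarTower Gi (Gi ⊗[A] B) B' :=
    IsScalarTower.of_algebraMap_eq (fun x => (ρ.commutes x).symm)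
  haveI tBBiB' : IsScalarTower B (Gi ⊗[A] B) B' := IsScalarTower.of_algebraMap_eq (fun b => by
    rw [halgBi, Algebra.TensorProduct.right_algebraMap_apply, hρ, map_one, one_mul])
  haveI tABiB' : IsScalarTower A (Gi ⊗[A] B) B' := IsScalarTower.of_algebraMap_eq (fun a => by
    rw [halgBi, IsScalarTower.algebraMap_apply A Gi (Gi ⊗[A] B), ρ.commutes,
      ← IsScalarTower.algebraMap_apply A Gi B'])
  -- pushout
  haveI hpo1 : Algebra.IsPushout A Gi B (Gi ⊗[A] B) := TensorProduct.isPushout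
  haveI hpo2 : Algebra.IsPushout A A' B B' := hpo.symm
  have hpo3 : Algebra.IsPushout Gi A' (Gi ⊗[A] B) B' :=
    (Algebra.IsPushout.comp_iff A Gi B (S' := Gi ⊗[A] B) (T := A') (T' := B')).mp hpo2
  have hpoi : Algebra.IsPushout Gi (Gi ⊗[A] B) A' B' := hpo3.symm
  -- module structures on `N'`
  letI modBiN' : Module (Gi ⊗[A] B) N' := Module.compHom N' ρ.toRingHom
  have hsmBi : ∀ (y : Gi ⊗[A] B) (n : N'), y • n = ρ y • n := fun _ _ => rfl
  haveI tBiB'N' : IsScalarTower (Gi ⊗[A] B) B' N' := ⟨fun y b n => by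
    rw [hsmBi, Algebra.smul_def, halgBi, mul_smul]⟩
  haveI tBBiN' : IsScalarTower B (Gi ⊗[A] B) N' := ⟨fun b y n => by
    rw [hsmBi, hsmBi, Algebra.smul_def, map_mul, mul_smul,
      Algebra.TensorProduct.right_algebraMap_apply, hρ, map_one, one_mul, algebraMap_smul]⟩
  letI modGN' : Module Gi N' := Module.compHom N' (algebraMap Gi A')
  have hsmG : ∀ (x : Gi) (n : N'), x • n = algebraMap Gi A' x • n := fun _ _ => rfl
  haveI tGA'N' : IsScalarTower Gi A' N' := ⟨fun x a n => by
    rw [hsmG, Algebra.smul_def, mul_smul]⟩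
  haveI tGBiN' : IsScalarTower Gi (Gi ⊗[A] B) N' := ⟨fun x y n => by
    rw [hsmBi, hsmBi, hsmG, map_smul, Algebra.smul_def, mul_smul, halgGB', algebraMap_smul]⟩
  -- the stage module
  let fi : N →ₗ[B] (Gi ⊗[A] B) ⊗[B] N := TensorProduct.mk B (Gi ⊗[A] B) N 1
  have hfi : IsBaseChange (Gi ⊗[A] B) fi := TensorProduct.isBaseChange B N (Gi ⊗[A] B)
  let gi : (Gi ⊗[A] B) ⊗[B] N →ₗ[Gi ⊗[A] B] N' := hfi.lift f
  have hgi : IsBaseChange B' gi := by
    apply IsBaseChange.of_comp hfi
    rw [show ((gi : (Gi ⊗[A] B) ⊗[B] N →ₗ[B] N') ∘ₗ fi) = f from hfi.lift_comp f]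
    exact hbc
  let giA : (Gi ⊗[A] B) ⊗[B] N →ₗ[Gi] N' := gi.restrictScalars Gi
  have hgiA : IsBaseChange A' giA := (isBaseChange_iff_of_isPushout hpoi gi).mp hgi
  -- primes
  haveI hti : (t.comap (algebraMap Gi A')).IsPrime := Ideal.comap_isPrime _ _
  haveI ht'i : (t'.comap (algebraMap Gi A')).IsPrime := Ideal.comap_isPrime _ _
  haveI hT : t'.LiesOver (t'.comap (algebraMap Gi A')) := ⟨rfl⟩
  haveI := hPt'
  haveI hPip : (P.comap (algebraMap (Gi ⊗[A] B) B')).IsPrime := Ideal.comap_isPrime _ _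
  have hassi := assoc_under giA (t'.comap (algebraMap Gi A')) t' hgiA
    (fun b n => by
      show gi (b • n) = _
      rw [gi.map_smul]
      rfl)
    (fun a => ρ.commutes a) P hass
  refine ⟨Gi, Gi ⊗[A] B, (Gi ⊗[A] B) ⊗[B] N, inferInstance, inferInstance, inferInstance,
    inferInstance, inferInstance, inferInstance, inferInstance, inferInstance, inferInstance,
    inferInstance, inferInstance, inferInstance, inferInstance, inferInstance, fi,
    t'.comap (algebraMap Gi A'), t.comap (algebraMap Gi A'), ht'i, hti,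
    P.comap (algebraMap (Gi ⊗[A] B) B'), hPip,
    ⟨TensorProduct.isPushout', hfi, Ideal.comap_mono htt, ?_, ?_, hassi, ?_⟩,
    ⟨AlgEquiv.refl, ?_⟩⟩
  · -- `ti` lies over `p`
    refine ⟨?_⟩
    rw [htp.over]
    ext a
    simp only [Ideal.under_def, Ideal.mem_comap]
    rw [← IsScalarTower.algebraMap_apply A Gi A']
  · -- `Pi` lies over `t'i`
    refine ⟨?_⟩
    rw [hPt'.over]
    ext a
    simp only [Ideal.under_def, Ideal.mem_comap]
    rw [show algebraMap (Gi ⊗[A] B) B' (algebraMap Gi (Gi ⊗[A] B) a) =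
      algebraMap A' B' (algebraMap Gi A' a) from ρ.commutes a]
  · -- closure condition
    intro P'' hP''p hle hover
    apply hsi
    have hunder : ∀ x : Gi, algebraMap Gi (Gi ⊗[A] B) x ∈ P'' ↔
        algebraMap Gi A' x ∈ t := by
      intro x
      have := hover.over
      rw [Ideal.ext_iff] at this
      have h2 := this x
      rw [Ideal.under_def, Ideal.mem_comap, Ideal.mem_comap] at h2
      exact h2.symm
    rw [← hunder]
    set y : Gi ⊗[A] B := algebraMap Gi (Gi ⊗[A] B) si -
      ∑ a ∈ l.support, algebraMap Gi (Gi ⊗[A] B) (sel a) * algebraMap B (Gi ⊗[A] B) (l a) with hy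
    have hyP : y ∈ P.comap (algebraMap (Gi ⊗[A] B) B') := by
      rw [Ideal.mem_comap, hy, map_sub, map_sum]
      have e1 : algebraMap (Gi ⊗[A] B) B' (algebraMap Gi (Gi ⊗[A] B) si) =
          algebraMap A' B' (algebraMap Gi A' si) := ρ.commutes si
      have e2 : ∀ a ∈ l.support, algebraMap (Gi ⊗[A] B) B'
          (algebraMap Gi (Gi ⊗[A] B) (sel a) * algebraMap B (Gi ⊗[A] B) (l a)) =
          algebraMap A' B' a * algebraMap B B' (l a) := by
        intro a ha
        rw [map_mul, ← IsScalarTower.algebraMap_apply B (Gi ⊗[A] B) B']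
        congr 1
        rw [show algebraMap (Gi ⊗[A] B) B' (algebraMap Gi (Gi ⊗[A] B) (sel a)) =
          algebraMap A' B' (algebraMap Gi A' (sel a)) from ρ.commutes (sel a), (hl a ha).2]
      rw [e1, Finset.sum_congr rfl e2]
      exact hP
    have hsum : ∑ a ∈ l.support,
        algebraMap Gi (Gi ⊗[A] B) (sel a) * algebraMap B (Gi ⊗[A] B) (l a) ∈ P'' := by
      refine Ideal.sum_mem _ (fun a ha => Ideal.mul_mem_right _ _ ?_)
      rw [hunder, (hl a ha).2]
      exact (hl a ha).1
    have : algebraMap Gi (Gi ⊗[A] B) si = y + ∑ a ∈ l.support,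
        algebraMap Gi (Gi ⊗[A] B) (sel a) * algebraMap B (Gi ⊗[A] B) (l a) := by
      rw [hy, sub_add_cancel]
    rw [this]
    exact add_mem (hle hyP) hsum
  · -- the identification
    ext x
    constructor
    · intro hx
      refine Submodule.span_induction (p := fun x _ => x ∈ t.comap (algebraMap Gi A')) ?_ ?_ ?_ ?_ hx
      · rintro _ ⟨z, hz, rfl⟩
        exact hz
      · exact zero_mem _
      · intro _ _ _ _ h₁ h₂
        exact add_mem h₁ h₂
      · intro r _ _ h
        exact Ideal.mul_mem_left _ _ h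
    · intro hx
      exact Ideal.mem_map_of_mem (AlgEquiv.refl : Gi ≃ₐ[A] Gi) hx

end Groth.Agent.Helper27.Pu
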