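import Groth.Agent.Lib.Helper27.RHb

/-! Riemann–Hurwitz, part C: the genus formula. -/

set_option autoImplicit false

namespace Groth.Agent.Helper27.RH

open FunFld Groth.Agent.Helper16.FF Groth.Agent.Helper27.DExp
open scoped WithZero

universe u v w

variable {k : Type u} {k' : Type u} {K : Type v} {K' : Type v} [Field k] [Field k'] [Field K]
  [Field K'] [Algebra k k'] [Algebra k K] [Algebra K K'] [Algebra k' K'] [Algebra k K']
  [IsScalarTower k k' K'] [IsScalarTower k K K'] [FiniteDimensional k k'] [FiniteDimensional K K']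
  [Algebra.IsSeparable K K']

theorem main12576 (hK : IsFunctionField k K) (hg : IsGeometric k K)
    (hK' : IsFunctionField k' K')
    (F : Place k K → Type w) [∀ P, Field (F P)] [∀ P, Algebra k (F P)]
    (φ : ∀ P, K →ₐ[k] LaurentSeries (F P)) (hφ : ∀ P, LocRes.IsExpansionAt P.1 (φ P))
    (F' : Place k' K' → Type w) [∀ Q, Field (F' Q)] [∀ Q, Algebra k' (F' Q)]
    (ψ : ∀ Q, K' →ₐ[k'] LaurentSeries (F' Q)) (hψ : ∀ Q, LocRes.IsExpansionAt Q.1 (ψ Q))
    (below : Place k' K' → Place k K) (e : Place k' K' → ℕ)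
    (he : ∀ Q (z : K), Q.1 (algebraMap K K' z) = (below Q).1 z ^ e Q)
    (x : K) (hx : ∀ P, LocRes.vDiff (φ P) 1 x ≠ 0)
    (hx' : ∀ Q, LocRes.vDiff (ψ Q) 1 (algebraMap K K' x) ≠ 0) :
    (Function.support fun Q => LocRes.diffExp (φ (below Q)) (ψ Q) (e Q) x).Finite ∧
    (Module.finrank k k' : ℤ) * (2 * (genus k' K' : ℤ) - 2) =
      (Module.finrank K K' : ℤ) * (2 * (genus k K : ℤ) - 2) +
      (Module.finrank k k' : ℤ) *
        ∑ᶠ Q, LocRes.diffExp (φ (below Q)) (ψ Q) (e Q) x * (Q.deg : ℤ) := by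
  classical
  have h1 := finrank_kaehler_of_isGeometric hK hg
  obtain ⟨P₀⟩ := exists_place hK
  obtain ⟨Q₀⟩ := exists_place hK'
  have hDx : KaehlerDifferential.D k K x ≠ 0 := D_ne_zero_of_exp (φ P₀) x (by
    intro h0
    apply hx P₀
    unfold LocRes.vDiff
    rw [h0, mul_zero, map_zero])
  have hDx' : KaehlerDifferential.D k' K' (algebraMap K K' x) ≠ 0 :=
    D_ne_zero_of_exp (ψ Q₀) _ (by
      intro h0
      apply hx' Q₀
      unfold LocRes.vDiff
      rw [h0, mul_zero, map_zero])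
  have h1' : Module.finrank K' (Ω[K'⁄k']) = 1 :=
    finrank_kaehler_of_separable_ext (k := k) (K := K) h1 _ hDx'
  obtain ⟨W, hW, -, hWdeg⟩ := exists_canonical_ordDiff hK h1 φ hφ 1 x one_ne_zero hDx
  obtain ⟨W', hW', -, hW'deg⟩ :=
    exists_canonical_ordDiff hK' h1' ψ hψ 1 (algebraMap K K' x) one_ne_zero hDx'
  have hfs := fun P => fiber_sum hK below e he P
  have hdE : ∀ Q, LocRes.diffExp (φ (below Q)) (ψ Q) (e Q) x = W' Q - e Q * W (below Q) := by
    intro Q
    unfold LocRes.diffExp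
    rw [hW', hW]
  let fib : Place k K → Finset (Place k' K') := fun P => (hfs P).1.toFinset
  have hfib : ∀ P Q, Q ∈ fib P ↔ below Q = P := fun P Q => by
    simp only [fib, Set.Finite.mem_toFinset, Set.mem_ofPred_eq]
  let S : Finset (Place k K) := W.support ∪ W'.support.image below
  let U : Finset (Place k' K') := S.biUnion fib
  have hU : ∀ Q, Q ∈ U ↔ below Q ∈ S := by
    intro Q
    simp only [U, Finset.mem_biUnion, hfib]
    constructor
    · rintro ⟨P, hP, rfl⟩; exact hP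
    · intro h; exact ⟨_, h, rfl⟩
  have hW'U : W'.support ⊆ U := by
    intro Q hQ
    rw [hU]
    exact Finset.mem_union_right _ (Finset.mem_image_of_mem _ hQ)
  have hzero : ∀ Q, Q ∉ U → LocRes.diffExp (φ (below Q)) (ψ Q) (e Q) x = 0 := by
    intro Q hQ
    rw [hdE]
    have h1 : W' Q = 0 := by
      by_contra hne
      exact hQ (hW'U (Finsupp.mem_support_iff.2 hne))
    have h2 : W (below Q) = 0 := by
      by_contra hne
      apply hQ
      rw [hU]
      exact Finset.mem_union_left _ (Finsupp.mem_support_iff.2 hne)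
    rw [h1, h2]; ring
  have hsupp : (Function.support fun Q => LocRes.diffExp (φ (below Q)) (ψ Q) (e Q) x) ⊆ U := by
    intro Q hQ
    by_contra hne
    exact hQ (hzero Q hne)
  refine ⟨U.finite_toSet.subset hsupp, ?_⟩
  have hsum : ∑ᶠ Q, LocRes.diffExp (φ (below Q)) (ψ Q) (e Q) x * (Q.deg : ℤ) =
      ∑ Q ∈ U, (W' Q - e Q * W (below Q)) * (Q.deg : ℤ) := by
    rw [finsum_eq_sum_of_support_subset (s := U)]
    · exact Finset.sum_congr rfl fun Q _ => by rw [hdE]
    · intro Q hQ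
      by_contra hne
      apply hQ
      show _ * _ = (0 : ℤ)
      rw [hzero Q hne, zero_mul]
  have hsumA : ∑ Q ∈ U, W' Q * (Q.deg : ℤ) = 2 * (genus k' K' : ℤ) - 2 := by
    rw [← hW'deg, Divisor.deg_eq_sum W' U hW'U]
  have hdisj : (S : Set (Place k K)).PairwiseDisjoint fib := by
    intro P _ P' _ hne
    rw [Function.onFun, Finset.disjoint_left]
    intro Q hQ hQ'
    exact hne (((hfib P Q).1 hQ).symm.trans ((hfib P' Q).1 hQ'))
  have hsumB : (Module.finrank k k' : ℤ) * ∑ Q ∈ U, (e Q : ℤ) * W (below Q) * (Q.deg : ℤ) =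
      (Module.finrank K K' : ℤ) * (2 * (genus k K : ℤ) - 2) := by
    rw [← hWdeg, Divisor.deg_eq_sum W S Finset.subset_union_left, Finset.sum_biUnion hdisj,
      Finset.mul_sum, Finset.mul_sum]
    refine Finset.sum_congr rfl fun P _ => ?_
    have h3 := (hfs P).2 (fib P) (hfib P)
    have h4 : ∑ Q ∈ fib P, (e Q : ℤ) * W (below Q) * (Q.deg : ℤ) =
        W P * ∑ Q ∈ fib P, (e Q : ℤ) * (Q.deg : ℤ) := by
      rw [Finset.mul_sum]
      refine Finset.sum_congr rfl fun Q hQ => ?_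
      rw [(hfib P Q).1 hQ]; ring
    rw [h4, mul_left_comm, h3]; ring
  rw [hsum]
  have hsplit : ∑ Q ∈ U, (W' Q - e Q * W (below Q)) * (Q.deg : ℤ) =
      ∑ Q ∈ U, W' Q * (Q.deg : ℤ) - ∑ Q ∈ U, (e Q : ℤ) * W (below Q) * (Q.deg : ℤ) := by
    rw [← Finset.sum_sub_distrib]
    exact Finset.sum_congr rfl fun Q _ => by ring
  rw [hsplit, hsumA]
  linear_combination hsumB

end Groth.Agent.Helper27.RH
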