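import Mathlib

/-! # A root-of-unity sum: `∑_{0<i<N} ζ^(ij)/(2 - ζ^i - ζ^(-i)) = j(j-N)/2 + (N^2-1)/12` -/

namespace Groth.Agent.Helper27

universe u
open Finset

/-- geometric sum over roots of unity -/
theorem sum_range_pow_eq_zero {K : Type u} [Field K] {N : ℕ} {x : K} (hx : x ≠ 1) (hxN : x ^ N = 1) :
    ∑ i ∈ range N, x ^ i = 0 := by
  rw [geom_sum_eq hx, hxN, sub_self, zero_div]

theorem sum_Ioo_eq {K : Type u} [AddCommGroup K] (N : ℕ) (hN : 0 < N) (F : ℕ → K) :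
    ∑ i ∈ Ioo 0 N, F i = ∑ i ∈ range N, F i - F 0 := by
  rw [range_eq_Ico, Finset.sum_eq_sum_Ico_succ_bot hN]
  have : Ioo 0 N = Ico (0 + 1) N := by
    ext i; simp [Finset.mem_Ioo, Finset.mem_Ico]; omega
  rw [this]; abel

theorem key188 (K : Type u) [Field K] (h6 : (6 : K) ≠ 0)
    (N : ℕ) (hN : 0 < N) (ζ : K) (hζ : IsPrimitiveRoot ζ N) (j : ℕ) (hj : j ≤ N) :
    ∑ i ∈ Finset.Ioo 0 N, ζ ^ (i * j) / (2 - ζ ^ i - (ζ ^ i)⁻¹) =
      (j : K) * ((j : K) - (N : K)) / 2 + ((N : K) ^ 2 - 1) / 12 := by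
  have h2 : (2 : K) ≠ 0 := fun h => h6 (by rw [show (6 : K) = 2 * 3 by norm_num, h, zero_mul])
  have h12 : (12 : K) ≠ 0 := by
    rw [show (12 : K) = 2 * 6 by norm_num]; exact mul_ne_zero h2 h6
  have : NeZero N := ⟨hN.ne'⟩
  have hNK : (N : K) ≠ 0 := (hζ.neZero').ne
  set D : ℕ → K := fun i => 2 - ζ ^ i - (ζ ^ i)⁻¹ with hD
  set g : ℕ → K := fun j => ∑ i ∈ Finset.Ioo 0 N, ζ ^ (i * j) / D i with hg
  set h : ℕ → K := fun j => (j : K) * ((j : K) - (N : K)) / 2 + ((N : K) ^ 2 - 1) / 12 with hh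
  have hζ0 : ζ ≠ 0 := hζ.ne_zero hN.ne'
  have hne1 : ∀ i ∈ Ioo 0 N, ζ ^ i ≠ 1 := by
    intro i hi
    rw [mem_Ioo] at hi
    exact hζ.pow_ne_one_of_pos_of_lt hi.1.ne' hi.2
  have hD0 : ∀ i ∈ Ioo 0 N, D i ≠ 0 := by
    intro i hi
    have h1 := hne1 i hi
    have h0 : ζ ^ i ≠ 0 := pow_ne_zero i hζ0
    have : D i = -((ζ ^ i - 1) ^ 2) / ζ ^ i := by
      simp only [hD]; field_simp; ring
    rw [this]
    exact div_ne_zero (neg_ne_zero.mpr (pow_ne_zero 2 (sub_ne_zero.mpr h1))) h0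
  -- second difference of g
  have hg2 : ∀ m, m + 2 ≤ N → g (m + 2) - 2 * g (m + 1) + g m = 1 := by
    intro m hm
    have e1 : g (m + 2) - 2 * g (m + 1) + g m = ∑ i ∈ Ioo 0 N, (-(ζ ^ (m + 1)) ^ i) := by
      simp only [hg]
      rw [Finset.mul_sum, ← Finset.sum_sub_distrib, ← Finset.sum_add_distrib]
      apply Finset.sum_congr rfl
      intro i hi
      have h0 : ζ ^ i ≠ 0 := pow_ne_zero i hζ0
      have hDi := hD0 i hi
      have key : ζ ^ (i * (m + 2)) - 2 * ζ ^ (i * (m + 1)) + ζ ^ (i * m)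
          = -(ζ ^ (m + 1)) ^ i * D i := by
        simp only [hD]
        rw [← pow_mul, mul_comm (m+1) i]
        have e2 : ζ ^ (i * (m + 2)) = ζ ^ (i * (m+1)) * ζ ^ i := by rw [← pow_add]; ring_nf
        have e1' : ζ ^ (i * (m + 1)) = ζ ^ (i * m) * ζ ^ i := by rw [← pow_add]; ring_nf
        rw [e2, e1']
        field_simp
        ring
      calc ζ ^ (i * (m + 2)) / D i - 2 * (ζ ^ (i * (m + 1)) / D i) + ζ ^ (i * m) / D i
          = (ζ ^ (i * (m + 2)) - 2 * ζ ^ (i * (m + 1)) + ζ ^ (i * m)) / D i := by ring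
        _ = -(ζ ^ (m + 1)) ^ i := by rw [key, mul_div_assoc, div_self hDi, mul_one]
    rw [e1, Finset.sum_neg_distrib, sum_Ioo_eq N hN]
    have hx1 : ζ ^ (m + 1) ≠ 1 := hζ.pow_ne_one_of_pos_of_lt (Nat.succ_ne_zero m) (by omega)
    have hxN : (ζ ^ (m + 1)) ^ N = 1 := by rw [← pow_mul, mul_comm, pow_mul, hζ.pow_eq_one, one_pow]
    rw [sum_range_pow_eq_zero hx1 hxN]
    simp
  have hh2 : ∀ m : ℕ, h (m + 2) - 2 * h (m + 1) + h m = 1 := by
    intro m
    simp only [hh]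
    push_cast
    field_simp
    ring
  set u : ℕ → K := fun j => g j - h j with hu
  have hu2 : ∀ m, m + 2 ≤ N → u (m + 2) = 2 * u (m + 1) - u m := by
    intro m hm
    have a := hg2 m hm
    have b := hh2 m
    simp only [hu]
    linear_combination a - b
  have hulin : ∀ m, m ≤ N → u m = u 0 + m * (u 1 - u 0) := by
    intro m
    induction m using Nat.strong_induction_on with
    | _ m ih =>
      intro hm
      match m, ih, hm with
      | 0, _, _ => simp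
      | 1, _, _ => simp
      | (m + 2), ih, hm =>
        rw [hu2 m hm, ih (m + 1) (by omega) (by omega), ih m (by omega) (by omega)]
        push_cast
        ring
  have huN : u N = u 0 := by
    simp only [hu, hg, hh]
    congr 1
    · apply Finset.sum_congr rfl
      intro i _
      rw [mul_comm i N, pow_mul, hζ.pow_eq_one, one_pow, mul_zero, pow_zero]
    · push_cast; ring
  have hδ : u 1 - u 0 = 0 := by
    have := hulin N le_rfl
    rw [huN] at this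
    have h' : (N : K) * (u 1 - u 0) = 0 := by linear_combination -this
    exact (mul_eq_zero.mp h').resolve_left hNK
  have huconst : ∀ m, m ≤ N → u m = u 0 := by
    intro m hm
    rw [hulin m hm, hδ, mul_zero, add_zero]
  -- sums
  have hsg : ∑ m ∈ range N, g m = 0 := by
    simp only [hg]
    rw [Finset.sum_comm]
    apply Finset.sum_eq_zero
    intro i hi
    rw [← Finset.sum_div]
    have : ∑ m ∈ range N, ζ ^ (i * m) = ∑ m ∈ range N, (ζ ^ i) ^ m := by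
      apply Finset.sum_congr rfl; intro m _; rw [pow_mul]
    rw [this, sum_range_pow_eq_zero (hne1 i hi)
      (by rw [← pow_mul, mul_comm, pow_mul, hζ.pow_eq_one, one_pow]), zero_div]
  have hsh' : ∀ M : ℕ, ∑ m ∈ range M, ((m : K) * ((m : K) - (N : K)) / 2)
      = (M : K) * (M - 1) * (2 * M - 1) / 12 - N * (M * (M - 1)) / 4 := by
    intro M
    induction M with
    | zero => simp
    | succ M ih =>
      rw [Finset.sum_range_succ, ih]
      push_cast
      have h4 : (4 : K) ≠ 0 := by rw [show (4 : K) = 2 * 2 by norm_num]; exact mul_ne_zero h2 h2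
      field_simp
      ring
  have hsh : ∑ m ∈ range N, h m = 0 := by
    simp only [hh]
    rw [Finset.sum_add_distrib, hsh' N, Finset.sum_const, card_range, nsmul_eq_mul]
    have h4 : (4 : K) ≠ 0 := by rw [show (4 : K) = 2 * 2 by norm_num]; exact mul_ne_zero h2 h2
    field_simp
    ring
  have hu0 : u 0 = 0 := by
    have hs : ∑ m ∈ range N, u m = 0 := by
      simp only [hu]
      rw [Finset.sum_sub_distrib, hsg, hsh, sub_zero]
    have hs' : ∑ m ∈ range N, u m = N * u 0 := by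
      rw [Finset.sum_congr rfl (fun m hm => huconst m (Finset.mem_range.mp hm).le),
        Finset.sum_const, card_range, nsmul_eq_mul]
    rw [hs'] at hs
    exact (mul_eq_zero.mp hs).resolve_left hNK
  have := huconst j hj
  rw [hu0] at this
  exact sub_eq_zero.mp this

theorem inv_D_eq_ofReal {N : ℕ} {ζ : ℂ} (hζ : IsPrimitiveRoot ζ N) (hN : 0 < N) (k : ℕ) :
    ∃ r : ℝ, 0 ≤ r ∧ (2 - ζ ^ k - (ζ ^ k)⁻¹)⁻¹ = (r : ℂ) := by
  have hnorm : ‖ζ ^ k‖ = 1 := by
    rw [norm_pow, hζ.norm'_eq_one hN.ne', one_pow]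
  refine ⟨(2 - 2 * (ζ ^ k).re)⁻¹, ?_, ?_⟩
  · apply inv_nonneg.mpr
    have := Complex.re_le_norm (ζ ^ k)
    rw [hnorm] at this
    linarith
  · rw [Complex.inv_eq_conj hnorm, Complex.ofReal_inv]
    congr 1
    have := Complex.add_conj (ζ ^ k)
    push_cast at this ⊢
    linear_combination -this

theorem fourier189 (N : ℕ) (hN : 0 < N) (ζ : ℂ) (hζ : IsPrimitiveRoot ζ N) (m : ℕ) :
    ∑ i ∈ Finset.range N,
        ((i : ℂ) * ((i : ℂ) - (N : ℂ)) / 2 + ((N : ℂ) ^ 2 - 1) / 12) / (N : ℂ) * ζ ^ (m * i)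
      = ∑ k ∈ Ioo 0 N, if ζ ^ (k + m) = 1 then (2 - ζ ^ k - (ζ ^ k)⁻¹)⁻¹ else 0 := by
  have h6 : (6 : ℂ) ≠ 0 := by norm_num
  have hNC : (N : ℂ) ≠ 0 := by exact_mod_cast hN.ne'
  have e1 : ∀ i ∈ range N,
      ((i : ℂ) * ((i : ℂ) - (N : ℂ)) / 2 + ((N : ℂ) ^ 2 - 1) / 12) / (N : ℂ) * ζ ^ (m * i)
      = ∑ k ∈ Ioo 0 N, (2 - ζ ^ k - (ζ ^ k)⁻¹)⁻¹ / N * (ζ ^ (k + m)) ^ i := by
    intro i hi
    rw [← key188 ℂ h6 N hN ζ hζ i (mem_range.mp hi).le, Finset.sum_div, Finset.sum_mul]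
    apply Finset.sum_congr rfl
    intro k _
    rw [← pow_mul, add_mul, pow_add]
    ring
  rw [Finset.sum_congr rfl e1, Finset.sum_comm]
  apply Finset.sum_congr rfl
  intro k _
  rw [← Finset.mul_sum]
  split_ifs with h
  · simp only [h, one_pow, Finset.sum_const, card_range, nsmul_eq_mul, mul_one]
    field_simp
  · rw [sum_range_pow_eq_zero h
      (by rw [← pow_mul, mul_comm, pow_mul, hζ.pow_eq_one, one_pow]), mul_zero]


theorem zmod_pow_sub {N : ℕ} [NeZero N] {ζ : ℂ} (hζ : IsPrimitiveRoot ζ N) (k : ℕ) (a b : ZMod N) :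
    ζ ^ (k * (b - a).val) = ζ ^ (k * b.val) * (ζ ^ (k * a.val))⁻¹ := by
  have hN : 0 < N := Nat.pos_of_ne_zero (NeZero.ne N)
  have hζ0 : ζ ≠ 0 := hζ.ne_zero hN.ne'
  have hb : b.val = ((b - a).val + a.val) % N := by
    rw [← ZMod.val_add, sub_add_cancel]
  have hk : (ζ ^ k) ^ N = 1 := by rw [← pow_mul, mul_comm, pow_mul, hζ.pow_eq_one, one_pow]
  have : ζ ^ (k * b.val) = ζ ^ (k * (b - a).val) * ζ ^ (k * a.val) := by
    rw [pow_mul, hb, ← pow_eq_pow_mod _ hk, pow_add, ← pow_mul, ← pow_mul]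
  rw [this, mul_assoc, mul_inv_cancel₀ (pow_ne_zero _ hζ0), mul_one]


end Groth.Agent.Helper27
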