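import Mathlib
import Groth.Prelude.Def_W4c2gaugesfzipsQuiet

/-! Root towers (S15046), part A: transport along isomorphisms, flatness. -/

set_option autoImplicit false

universe u

namespace Groth.Agent.Helper27.Rt

open Polynomial Quiet

theorem isRootTower_zero_iff (p : ℕ) (A B : Type u) [CommRing A] [CommRing B] [Algebra A B] :
    IsRootTower p 0 A B ↔ Nonempty (B ≃ₐ[A] A) := Iff.rfl

theorem isRootTower_succ_iff (p n : ℕ) (A B : Type u) [CommRing A] [CommRing B] [Algebra A B] :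
    IsRootTower p (n + 1) A B ↔ ∃ (a : A) (_ : Algebra (RootRing p A a) B),
      IsScalarTower A (RootRing p A a) B ∧ IsRootTower p n (RootRing p A a) B := Iff.rfl

/-- The isomorphism of root rings induced by a ring isomorphism. -/
noncomputable def rootRingEquiv (p : ℕ) {A₁ A₂ : Type u} [CommRing A₁] [CommRing A₂]
    (eA : A₁ ≃+* A₂) (a : A₁) : RootRing p A₁ a ≃+* RootRing p A₂ (eA a) :=
  AdjoinRoot.mapRingEquiv eA _ _ (by
    rw [Polynomial.map_sub, Polynomial.map_pow, Polynomial.map_X, Polynomial.map_C]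
    exact Associated.refl _)

theorem rootRingEquiv_of (p : ℕ) {A₁ A₂ : Type u} [CommRing A₁] [CommRing A₂]
    (eA : A₁ ≃+* A₂) (a : A₁) (x : A₁) :
    rootRingEquiv p eA a (AdjoinRoot.of _ x) = AdjoinRoot.of _ (eA x) := by
  rw [rootRingEquiv, AdjoinRoot.coe_mapRingEquiv, AdjoinRoot.map_of]
  rfl

theorem isRootTower_transport (p : ℕ) : ∀ (n : ℕ) (A₁ B₁ A₂ B₂ : Type u) [CommRing A₁]
    [CommRing B₁] [CommRing A₂] [CommRing B₂] [Algebra A₁ B₁] [Algebra A₂ B₂]
    (eA : A₁ ≃+* A₂) (eB : B₁ ≃+* B₂)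
    (_ : ∀ a, eB (algebraMap A₁ B₁ a) = algebraMap A₂ B₂ (eA a)),
    IsRootTower p n A₁ B₁ → IsRootTower p n A₂ B₂ := by
  intro n
  induction n with
  | zero =>
    intro A₁ B₁ A₂ B₂ _ _ _ _ _ _ eA eB h ⟨ψ⟩
    refine ⟨AlgEquiv.ofRingEquiv (f := eB.symm.trans (ψ.toRingEquiv.trans eA)) ?_⟩
    intro a₂
    obtain ⟨a₁, rfl⟩ := eA.surjective a₂
    rw [← h a₁]
    simp
  | succ n ih =>
    intro A₁ B₁ A₂ B₂ _ _ _ _ _ _ eA eB h ⟨a, inst, htower, hrec⟩
    letI := inst
    let eR := rootRingEquiv p eA a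
    letI inst₂ : Algebra (RootRing p A₂ (eA a)) B₂ :=
      ((eB.toRingHom.comp (algebraMap (RootRing p A₁ a) B₁)).comp eR.symm.toRingHom).toAlgebra
    have hmap : ∀ z, algebraMap (RootRing p A₂ (eA a)) B₂ z =
        eB (algebraMap (RootRing p A₁ a) B₁ (eR.symm z)) := fun z => rfl
    refine ⟨eA a, inst₂, ?_, ?_⟩
    · refine IsScalarTower.of_algebraMap_eq fun x => ?_
      obtain ⟨y, rfl⟩ := eA.surjective x
      rw [hmap, AdjoinRoot.algebraMap_eq, ← rootRingEquiv_of p eA a y, RingEquiv.symm_apply_apply,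
        ← AdjoinRoot.algebraMap_eq, ← IsScalarTower.algebraMap_apply, h]
    · refine ih (RootRing p A₁ a) B₁ (RootRing p A₂ (eA a)) B₂ eR eB (fun z => ?_) hrec
      rw [hmap, RingEquiv.symm_apply_apply]

theorem flat_of_isRootTower (p : ℕ) (hp : p ≠ 0) : ∀ (n : ℕ) (A B : Type u) [CommRing A]
    [CommRing B] [Algebra A B], IsRootTower p n A B → Module.Flat A B := by
  intro n
  induction n with
  | zero =>
    intro A B _ _ _ ⟨ψ⟩
    exact Module.Flat.of_linearEquiv ψ.toLinearEquiv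
  | succ n ih =>
    intro A B _ _ _ ⟨a, inst, htower, hrec⟩
    letI := inst
    haveI : Module.Free A (RootRing p A a) := (monic_X_pow_sub_C a hp).free_adjoinRoot
    haveI : Module.Flat (RootRing p A a) B := ih _ _ hrec
    exact Module.Flat.trans A (RootRing p A a) B

end Groth.Agent.Helper27.Rt
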