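import Mathlib
import Groth.Agent.Lib.Helper27.RtA
import Groth.Agent.Lib.Helper27.CtD

/-! Root towers (S15046), part B: the tower of subrings generated by `p`-th powers and
coordinates. -/

set_option autoImplicit false

universe u

namespace Groth.Agent.Helper27.Rt

open Polynomial Quiet Groth.Agent.Helper27.Dt Groth.Agent.Helper27.Ct

variable {k : Type*} {B : Type u} [CommRing k] [CommRing B] [Algebra k B]
variable {p : ℕ} [hp : Fact p.Prime] [CharP B p]
variable {ι : Type*} [DecidableEq ι] (C : Coords k B ι p)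

/-- `t_m^p` as an element of `R_S`. -/
def tau (S : Finset ι) (m : ι) : ↥(Rs C S) :=
  ⟨C.t m ^ p, Subring.subset_closure (Or.inl ⟨C.t m, rfl⟩)⟩

/-- The map `R_S[x]/(x^p - t_m^p) → B`, `x ↦ t_m`. -/
noncomputable def psi (S : Finset ι) (m : ι) : RootRing p ↥(Rs C S) (tau C S m) →+* B :=
  AdjoinRoot.lift (Rs C S).subtype (C.t m) (by
    rw [eval₂_sub, eval₂_pow, eval₂_X, eval₂_C]
    exact sub_self _)

omit hp [CharP B p] in
theorem psi_mk (S : Finset ι) (m : ι) (q : (↥(Rs C S))[X]) :
    psi C S m (AdjoinRoot.mk _ q) = q.eval₂ (Rs C S).subtype (C.t m) :=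
  AdjoinRoot.lift_mk _ _

omit hp [CharP B p] in
theorem psi_of (S : Finset ι) (m : ι) (x : ↥(Rs C S)) :
    psi C S m (AdjoinRoot.of _ x) = (x : B) := by
  rw [psi, AdjoinRoot.lift_of]; rfl

theorem t_mem_insert (S : Finset ι) (m : ι) : C.t m ∈ Rs C (insert m S) :=
  Subring.subset_closure (Or.inr ⟨m, by simp, rfl⟩)

theorem psi_mem (S : Finset ι) (m : ι) (z : RootRing p ↥(Rs C S) (tau C S m)) :
    psi C S m z ∈ Rs C (insert m S) := by
  induction z using AdjoinRoot.induction_on with
  | ih q =>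
    rw [psi_mk, eval₂_eq_sum_range]
    refine Subring.sum_mem _ fun i _ => Subring.mul_mem _ ?_ (Subring.pow_mem _ (t_mem_insert C S m) i)
    exact Rs_mono C (Finset.subset_insert m S) (q.coeff i).2

theorem psi_surj (S : Finset ι) (m : ι) {x : B} (hx : x ∈ Rs C (insert m S)) :
    ∃ z, psi C S m z = x := by
  obtain ⟨c, hc, rfl⟩ := Rs_insert C m hx
  refine ⟨∑ i ∈ Finset.range p, AdjoinRoot.of _ ⟨c i, hc i⟩ * AdjoinRoot.root _ ^ i, ?_⟩
  rw [map_sum]
  refine Finset.sum_congr rfl fun i _ => ?_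
  rw [map_mul, map_pow, psi_of, psi, AdjoinRoot.lift_root]

theorem psi_injective (S : Finset ι) (m : ι) (hm : m ∉ S) :
    Function.Injective (psi C S m) := by
  haveI : Nontrivial B := CharP.nontrivial_of_char_ne_one (R := B) hp.out.ne_one
  rw [injective_iff_map_eq_zero]
  intro z hz
  have hg : (X ^ p - Polynomial.C (tau C S m) : (↥(Rs C S))[X]).Monic :=
    monic_X_pow_sub_C _ hp.out.ne_zero
  have hgdeg : (X ^ p - Polynomial.C (tau C S m) : (↥(Rs C S))[X]).natDegree = p :=
    natDegree_X_pow_sub_C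
  have hg1 : (X ^ p - Polynomial.C (tau C S m) : (↥(Rs C S))[X]) ≠ 1 := by
    intro h
    have := hgdeg
    rw [h, natDegree_one] at this
    exact hp.out.ne_zero this.symm
  obtain ⟨q, rfl⟩ := AdjoinRoot.mk_surjective z
  obtain ⟨q', hq'⟩ : ∃ q', q' = q %ₘ (X ^ p - Polynomial.C (tau C S m) : (↥(Rs C S))[X]) :=
    ⟨_, rfl⟩
  have hmod : AdjoinRoot.mk (X ^ p - Polynomial.C (tau C S m) : (↥(Rs C S))[X]) q =
      AdjoinRoot.mk _ q' := by
    rw [AdjoinRoot.mk_eq_mk, hq', modByMonic_eq_sub_mul_div q _, sub_sub_cancel]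
    exact dvd_mul_right _ _
  have hdeg : q'.natDegree < p := by
    rw [hq']
    have h3 := natDegree_modByMonic_lt q hg hg1
    rw [hgdeg] at h3
    exact h3
  rw [hmod] at hz ⊢
  rw [psi_mk, eval₂_eq_sum_range' _ hdeg] at hz
  have htm : C.pd m (C.t m) = 1 := by rw [C.pd_t, if_pos rfl]
  have hz0 := sv (C.pd m) (C.t m) htm (fun i => ((q'.coeff i : ↥(Rs C S)) : B))
    (fun i => pd_Rs C hm (q'.coeff i).2) p le_rfl hz
  have : q' = 0 := by
    refine Polynomial.ext fun i => ?_
    rw [coeff_zero]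
    by_cases hi : i < p
    · exact Subtype.ext (hz0 i hi)
    · exact coeff_eq_zero_of_natDegree_lt (by omega)
  rw [this, map_zero]

/-- The isomorphism `R_S[x]/(x^p - t_m^p) ≃ R_{insert m S}`. -/
noncomputable def stepEquiv (S : Finset ι) (m : ι) (hm : m ∉ S) :
    RootRing p ↥(Rs C S) (tau C S m) ≃+* ↥(Rs C (insert m S)) :=
  RingEquiv.ofBijective ((psi C S m).codRestrict (Rs C (insert m S)) (psi_mem C S m))
    ⟨fun x y h => psi_injective C S m hm (congrArg Subtype.val h),
     fun x => by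
      obtain ⟨z, hz⟩ := psi_surj C S m x.2
      exact ⟨z, Subtype.ext hz⟩⟩

theorem stepEquiv_coe (S : Finset ι) (m : ι) (hm : m ∉ S)
    (z : RootRing p ↥(Rs C S) (tau C S m)) :
    ((stepEquiv C S m hm z : ↥(Rs C (insert m S))) : B) = psi C S m z := rfl

theorem tower_aux [Fintype ι]
    (hgen : ∀ b : B, b ∈ Subring.closure (Set.range (fun x : B => x ^ p) ∪ Set.range C.t)) :
    ∀ (n : ℕ) (S : Finset ι), (Finset.univ \ S).card = n → IsRootTower p n ↥(Rs C S) B := by
  intro n
  induction n with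
  | zero =>
    intro S hS
    have hSu : S = Finset.univ := by
      rw [Finset.card_eq_zero, Finset.sdiff_eq_empty_iff_subset] at hS
      exact Finset.univ_subset_iff.1 hS
    have htop : ∀ b : B, b ∈ Rs C S := by
      intro b
      have := hgen b
      rwa [hSu, Rs, Finset.coe_univ, Set.image_univ]
    refine ⟨(AlgEquiv.ofBijective (Algebra.ofId ↥(Rs C S) B) ⟨?_, ?_⟩).symm⟩
    · exact Subtype.val_injective
    · intro b; exact ⟨⟨b, htop b⟩, rfl⟩
  | succ n ih =>
    intro S hS
    obtain ⟨m, hm⟩ : (Finset.univ \ S).Nonempty := by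
      rw [← Finset.card_pos, hS]; omega
    have hmS : m ∉ S := (Finset.mem_sdiff.1 hm).2
    have hcard : (Finset.univ \ insert m S).card = n := by
      have h1 : Finset.univ \ insert m S = (Finset.univ \ S).erase m := by
        ext x; simp only [Finset.mem_sdiff, Finset.mem_univ, Finset.mem_insert, true_and,
          Finset.mem_erase]; tauto
      rw [h1, Finset.card_erase_of_mem hm, hS]; rfl
    have hrec := ih (insert m S) hcard
    letI inst : Algebra (RootRing p ↥(Rs C S) (tau C S m)) B := (psi C S m).toAlgebra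
    refine ⟨tau C S m, inst, ?_, ?_⟩
    · refine IsScalarTower.of_algebraMap_eq fun x => ?_
      change (x : B) = psi C S m (algebraMap _ _ x)
      rw [AdjoinRoot.algebraMap_eq, psi_of]
    · refine isRootTower_transport p n ↥(Rs C (insert m S)) B
        (RootRing p ↥(Rs C S) (tau C S m)) B (stepEquiv C S m hmS).symm (RingEquiv.refl B)
        (fun a => ?_) hrec
      change (a : B) = psi C S m ((stepEquiv C S m hmS).symm a)
      rw [← stepEquiv_coe C S m hmS, RingEquiv.apply_symm_apply]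

end Groth.Agent.Helper27.Rt
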