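import Mathlib
import Groth.Agent.Lib.Helper27.RtB
import Groth.Agent.Lib.Helper27.CtI

/-! Root towers (S15046), part C: Frobenius of a ring with étale coordinates is a root tower. -/

set_option autoImplicit false

universe u

namespace Groth.Agent.Helper27.Rt

open Polynomial Quiet Groth.Agent.Helper27.Dt Groth.Agent.Helper27.Ct

section abstract

variable {k : Type*} {B₁ B₂ : Type u} [CommRing k] [CommRing B₁] [CommRing B₂] [Algebra k B₂]
  [Algebra B₁ B₂]
variable {p : ℕ} [hp : Fact p.Prime] [CharP B₂ p]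
variable {ι : Type*} [DecidableEq ι] [Fintype ι] (C : Coords k B₂ ι p)

theorem rootTower_of_coords (ε : B₁ ≃+* B₂) (hε : ∀ b, algebraMap B₁ B₂ b = (ε b) ^ p)
    (hgen : ∀ b : B₂, b ∈ Subring.closure (Set.range (fun x : B₂ => x ^ p) ∪ Set.range C.t))
    (hinj : Function.Injective (frobenius B₂ p)) :
    IsRootTower p (Fintype.card ι) B₁ B₂ := by
  have h0 := tower_aux C hgen (Fintype.card ι) ∅ (by simp)
  let φ : B₁ →+* ↥(Rs C ∅) := (algebraMap B₁ B₂).codRestrict (Rs C ∅) (fun b => by
    rw [hε]; exact Subring.subset_closure (Or.inl ⟨ε b, rfl⟩))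
  have hφ : Function.Bijective φ := by
    constructor
    · intro b b' h
      have h1 : algebraMap B₁ B₂ b = algebraMap B₁ B₂ b' := congrArg Subtype.val h
      rw [hε, hε] at h1
      exact ε.injective (hinj h1)
    · intro a
      obtain ⟨g, hg⟩ := Rs_empty C a.2
      refine ⟨ε.symm g, Subtype.ext ?_⟩
      change algebraMap B₁ B₂ (ε.symm g) = a
      rw [hε, RingEquiv.apply_symm_apply, hg]
  refine isRootTower_transport p _ ↥(Rs C ∅) B₂ B₁ B₂ (RingEquiv.ofBijective φ hφ).symm
    (RingEquiv.refl B₂) (fun a => ?_) h0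
  change (a : B₂) = algebraMap B₁ B₂ ((RingEquiv.ofBijective φ hφ).symm a)
  have : (a : B₂) = ((RingEquiv.ofBijective φ hφ) ((RingEquiv.ofBijective φ hφ).symm a) :
      ↥(Rs C ∅)) := by rw [RingEquiv.apply_symm_apply]
  rw [this]
  rfl

end abstract

section loc

variable (A : Type*) [CommRing A] (p : ℕ) [hp : Fact p.Prime] [CharP A p] [PerfectRing A p]
  (n : ℕ) (L : Type u) [CommRing L] [Algebra A L] [Algebra (MvPolynomial (Fin n) A) L]
  [IsScalarTower A (MvPolynomial (Fin n) A) L] [Algebra.Etale (MvPolynomial (Fin n) A) L]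
  [CharP L p]

include A in
theorem rootTower_loc (B₁ : Type u) [CommRing B₁] [Algebra B₁ L] (ε : B₁ ≃+* L)
    (hε : ∀ b, algebraMap B₁ L b = (ε b) ^ p) : IsRootTower p n B₁ L := by
  have := rootTower_of_coords (coordsOf A p (Fin n) L) ε hε (mem_closure_coords A p (Fin n) L)
    (frobenius_injective_coords A p (Fin n) L)
  rwa [Fintype.card_fin] at this

end loc

end Groth.Agent.Helper27.Rt
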