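import Mathlib
import Groth.Agent.Lib.Helper27.RtC

/-! Root towers (S15046), part D: sections of Frobenius on `Spec A` over basic opens. -/

set_option autoImplicit false

universe u

namespace Groth.Agent.Helper27.Rt

open AlgebraicGeometry CategoryTheory Opposite TopologicalSpace Quiet

section sch

variable (p : ℕ) [hp : Fact p.Prime] (A : Type u) [CommRing A] [CharP A p]

/-- The global section attached to `s`. -/
noncomputable def rOf (s : A) : Γ(Spec (CommRingCat.of A), ⊤) :=
  (Scheme.ΓSpecIso (CommRingCat.of A)).inv.hom s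

/-- The basic open `D(s)`. -/
noncomputable def UOf (s : A) : (Spec (CommRingCat.of A)).Opens :=
  (Spec (CommRingCat.of A)).basicOpen (rOf A s)

theorem mem_UOf (s : A) (x : Spec (CommRingCat.of A)) : x ∈ UOf A s ↔ s ∉ x.asIdeal := by
  rw [UOf, rOf]
  erw [basicOpen_eq_of_affine]
  exact PrimeSpectrum.mem_basicOpen _ _

theorem isAffineOpen_UOf (s : A) : IsAffineOpen (UOf A s) :=
  (isAffineOpen_top _).basicOpen _

/-- The Frobenius morphism. -/
noncomputable abbrev frobMor : Spec (CommRingCat.of A) ⟶ Spec (CommRingCat.of A) :=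
  Spec.map (CommRingCat.ofHom (frobenius A p))

theorem frobMor_appTop_rOf (s : A) :
    (frobMor p A).appTop.hom (rOf A s) = rOf A s ^ p := by
  have h := Scheme.ΓSpecIso_inv_naturality (CommRingCat.ofHom (frobenius A p))
  have h2 := congrArg (fun φ => φ.hom s) h
  simp only [CommRingCat.hom_comp, RingHom.comp_apply, CommRingCat.hom_ofHom] at h2
  rw [rOf, ← h2, frobenius_def, map_pow]

theorem preimage_UOf (s : A) : (frobMor p A) ⁻¹ᵁ (UOf A s) = UOf A s := by
  rw [UOf, Scheme.preimage_basicOpen]
  have := frobMor_appTop_rOf p A s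
  erw [this]
  exact Scheme.basicOpen_pow _ _ hp.out.pos

/-- Restriction `Γ(X,⊤) → Γ(X,D(s))`. -/
noncomputable def resU (s : A) :
    Γ(Spec (CommRingCat.of A), ⊤) →+* Γ(Spec (CommRingCat.of A), UOf A s) :=
  ((Spec (CommRingCat.of A)).presheaf.map (homOfLE le_top).op).hom

/-- `Γ(X,⊤) ≃ A`. -/
noncomputable def hEq : Γ(Spec (CommRingCat.of A), ⊤) ≃+* A :=
  (Scheme.ΓSpecIso (CommRingCat.of A)).commRingCatIsoToRingEquiv

theorem hEq_rOf (s : A) : hEq A (rOf A s) = s := by
  change (Scheme.ΓSpecIso (CommRingCat.of A)).hom.hom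
    ((Scheme.ΓSpecIso (CommRingCat.of A)).inv.hom s) = s
  rw [← RingHom.comp_apply, ← CommRingCat.hom_comp, Iso.inv_hom_id]
  rfl

theorem hEq_appTop (g : Γ(Spec (CommRingCat.of A), ⊤)) :
    hEq A ((frobMor p A).appTop.hom g) = hEq A g ^ p := by
  have h := Scheme.ΓSpecIso_naturality (CommRingCat.ofHom (frobenius A p))
  have h2 := congrArg (fun φ => φ.hom g) h
  simp only [CommRingCat.hom_comp, RingHom.comp_apply, CommRingCat.hom_ofHom] at h2
  exact h2

theorem loc_UOf (s : A) :
    @IsLocalization.Away _ _ (rOf A s) Γ(Spec (CommRingCat.of A), UOf A s) _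
      (resU A s).toAlgebra :=
  (isAffineOpen_top _).isLocalization_of_eq_basicOpen (rOf A s) (homOfLE le_top) rfl

variable (L : Type u) [CommRing L] [Algebra A L]

/-- `Γ(X, D(s)) ≃ A_s`. -/
noncomputable def eA (s : A) [IsLocalization.Away s L] :
    Γ(Spec (CommRingCat.of A), UOf A s) ≃+* L :=
  letI := (resU A s).toAlgebra
  haveI := loc_UOf A s
  IsLocalization.ringEquivOfRingEquiv (M := Submonoid.powers (rOf A s))
    (T := Submonoid.powers s) Γ(Spec (CommRingCat.of A), UOf A s) L (hEq A) (by
      rw [Submonoid.map_powers]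
      congr 1
      exact hEq_rOf A s)

theorem eA_resU (s : A) [IsLocalization.Away s L] (g : Γ(Spec (CommRingCat.of A), ⊤)) :
    eA A L s (resU A s g) = algebraMap A L (hEq A g) := by
  letI := (resU A s).toAlgebra
  haveI := loc_UOf A s
  exact IsLocalization.ringEquivOfRingEquiv_eq _ g

/-- The identification `Γ(X, f⁻¹ D(s)) ≃ Γ(X, D(s))`. -/
noncomputable def delta (s : A) :
    Γ(Spec (CommRingCat.of A), (frobMor p A) ⁻¹ᵁ UOf A s) ≃+* Γ(Spec (CommRingCat.of A), UOf A s) :=
  ((Spec (CommRingCat.of A)).presheaf.mapIso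
    (eqToIso (preimage_UOf p A s).symm).op).commRingCatIsoToRingEquiv

theorem delta_app_resU (s : A) (g : Γ(Spec (CommRingCat.of A), ⊤)) :
    delta p A s (((frobMor p A).app (UOf A s)).hom (resU A s g)) =
      resU A s ((frobMor p A).appTop.hom g) := by
  have h := Scheme.Hom.naturality (frobMor p A) (U := UOf A s) (U' := ⊤) (homOfLE le_top).op
  have h2 := congrArg (fun φ => (delta p A s) (φ.hom g)) h
  simp only [CommRingCat.hom_comp, RingHom.comp_apply] at h2
  refine h2.trans ?_
  change (((Spec (CommRingCat.of A)).presheaf.map _).hom.comp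
    ((Spec (CommRingCat.of A)).presheaf.map _).hom) _ = _
  rw [← CommRingCat.hom_comp, ← Functor.map_comp]
  rfl

theorem square (s : A) [IsLocalization.Away s L] [CharP L p]
    (a : Γ(Spec (CommRingCat.of A), UOf A s)) :
    eA A L s (delta p A s (((frobMor p A).app (UOf A s)).hom a)) = (eA A L s a) ^ p := by
  letI := (resU A s).toAlgebra
  haveI := loc_UOf A s
  have key : ((eA A L s).toRingHom.comp (delta p A s).toRingHom).comp
      ((frobMor p A).app (UOf A s)).hom = (frobenius L p).comp (eA A L s).toRingHom := by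
    apply IsLocalization.ringHom_ext (Submonoid.powers (rOf A s))
    ext g
    change eA A L s (delta p A s (((frobMor p A).app (UOf A s)).hom (resU A s g))) =
      (eA A L s (resU A s g)) ^ p
    rw [delta_app_resU, eA_resU, eA_resU, hEq_appTop, map_pow]
  exact congrArg (fun φ => φ a) key

end sch

end Groth.Agent.Helper27.Rt
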