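import Mathlib
import Groth.Agent.Lib.Helper27.RtD
import Groth.Agent.Lib.Helper27.CtL

/-! Root towers (S15046), part E: Frobenius of a smooth algebra over a perfect ring. -/

set_option autoImplicit false

universe u

namespace Groth.Agent.Helper27.Rt

open AlgebraicGeometry CategoryTheory Opposite TopologicalSpace Quiet Groth.Agent.Helper27.Ct

theorem nontrivial_away {A : Type u} [CommRing A] (s : A) (I : Ideal A) [I.IsPrime]
    (h : s ∉ I) : Nontrivial (Localization.Away s) := by
  by_contra hn
  rw [not_nontrivial_iff_subsingleton,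
    IsLocalization.subsingleton_iff (M := Submonoid.powers s)] at hn
  obtain ⟨n, hn⟩ := hn
  have : s ^ n ∈ I := by
    change s ^ n = 0 at hn
    rw [hn]; exact zero_mem _
  exact h (Ideal.IsPrime.mem_of_pow_mem inferInstance n this)

variable (p : ℕ) [hp : Fact p.Prime] (k : Type u) [CommRing k] [CharP k p] [PerfectRing k p]
  (A : Type u) [CommRing A] [Algebra k A] [CharP A p]

section sections

theorem isRootTower_sections (s : A) [Algebra.IsStandardSmooth k (Localization.Away s)]
    [Nontrivial (Localization.Away s)] :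
    letI := ((frobMor p A).app (UOf A s)).hom.toAlgebra
    ∃ n, IsRootTower p n Γ(Spec (CommRingCat.of A), UOf A s)
      Γ(Spec (CommRingCat.of A), (frobMor p A) ⁻¹ᵁ UOf A s) := by
  haveI : CharP (Localization.Away s) p := charP_loc p A (Localization.Away s)
  obtain ⟨n, inst, h1, h2⟩ := exists_coords k (Localization.Away s)
  letI := inst
  haveI := h1
  haveI := h2
  refine ⟨n, ?_⟩
  letI algL : Algebra Γ(Spec (CommRingCat.of A), UOf A s) (Localization.Away s) :=
    ((frobenius (Localization.Away s) p).comp (eA A (Localization.Away s) s).toRingHom).toAlgebra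
  have hroot := rootTower_loc k p n (Localization.Away s) Γ(Spec (CommRingCat.of A), UOf A s)
    (eA A (Localization.Away s) s) (fun b => rfl)
  letI := ((frobMor p A).app (UOf A s)).hom.toAlgebra
  refine isRootTower_transport p n Γ(Spec (CommRingCat.of A), UOf A s) (Localization.Away s)
    Γ(Spec (CommRingCat.of A), UOf A s) Γ(Spec (CommRingCat.of A), (frobMor p A) ⁻¹ᵁ UOf A s)
    (RingEquiv.refl _) ((delta p A s).trans (eA A (Localization.Away s) s)).symm (fun a => ?_) hroot
  rw [RingEquiv.symm_apply_eq]
  change (eA A (Localization.Away s) s a) ^ p =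
    eA A (Localization.Away s) s (delta p A s (((frobMor p A).app (UOf A s)).hom a))
  rw [square]

end sections

variable [Algebra.Smooth k A]

include k in
theorem isPthRoot_frob : Quiet.IsPthRoot p (frobMor p A) := by
  intro x
  obtain ⟨σ, hσ, hstd⟩ := Algebra.Smooth.exists_span_eq_top_isStandardSmooth k A
  obtain ⟨s, hsσ, hsx⟩ : ∃ s ∈ σ, s ∉ x.asIdeal := by
    by_contra h
    push_neg at h
    have h1 : Ideal.span σ ≤ x.asIdeal := Ideal.span_le.2 h
    rw [hσ] at h1
    exact x.isPrime.ne_top (top_le_iff.1 h1)
  haveI := hstd s hsσ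
  haveI : Nontrivial (Localization.Away s) := nontrivial_away s x.asIdeal hsx
  exact ⟨⟨UOf A s, isAffineOpen_UOf A s⟩, (mem_UOf A s x).2 hsx,
    (isAffineOpen_UOf A s).preimage _, isRootTower_sections p k A s⟩

end Groth.Agent.Helper27.Rt
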