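import Mathlib
import Groth.Agent.Lib.Helper27.RtE

/-! Root towers (S15046), part F: faithful flatness of Frobenius. -/

set_option autoImplicit false

universe u

namespace Groth.Agent.Helper27.Rt

open AlgebraicGeometry CategoryTheory Opposite TopologicalSpace Quiet Groth.Agent.Helper27.Ct

variable (p : ℕ) [hp : Fact p.Prime] (k : Type u) [CommRing k] [CharP k p] [PerfectRing k p]
  (A : Type u) [CommRing A] [Algebra k A] [CharP A p]

theorem isLocalization_away_frob (s : A) :
    IsLocalization (Submonoid.powers s) (Localization.Away (frobenius A p s)) := by
  refine IsLocalization.of_le (Submonoid.powers (frobenius A p s)) (Submonoid.powers s)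
    (Submonoid.powers_le.2 ⟨p, by rw [frobenius_def]⟩) ?_
  rintro _ ⟨n, rfl⟩
  rw [map_pow]
  refine IsUnit.pow n ?_
  have h := IsLocalization.Away.algebraMap_isUnit (S := Localization.Away (frobenius A p s))
    (frobenius A p s)
  rw [frobenius_def, map_pow] at h
  exact (isUnit_pow_iff hp.out.ne_zero).1 h

theorem flat_awayMap (s : A) [Algebra.IsStandardSmooth k (Localization.Away s)] :
    (Localization.awayMap (frobenius A p) s).Flat := by
  haveI := isLocalization_away_frob p A s
  let θ : Localization.Away s ≃ₐ[A] Localization.Away (frobenius A p s) :=
    IsLocalization.algEquiv (Submonoid.powers s) _ _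
  haveI : Algebra.IsStandardSmooth k (Localization.Away (frobenius A p s)) :=
    Algebra.IsStandardSmooth.of_algEquiv (θ.restrictScalars k)
  letI alg : Algebra (Localization.Away s) (Localization.Away (frobenius A p s)) :=
    (Localization.awayMap (frobenius A p) s).toAlgebra
  change Module.Flat (Localization.Away s) (Localization.Away (frobenius A p s))
  rcases subsingleton_or_nontrivial (Localization.Away (frobenius A p s)) with hL | hL
  · infer_instance
  · haveI : CharP (Localization.Away (frobenius A p s)) p :=
      charP_loc p A (Localization.Away (frobenius A p s))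
    obtain ⟨n, inst, h1, h2⟩ := exists_coords k (Localization.Away (frobenius A p s))
    letI := inst
    haveI := h1
    haveI := h2
    have hε : ∀ b : Localization.Away s,
        algebraMap (Localization.Away s) (Localization.Away (frobenius A p s)) b =
          (θ.toRingEquiv b) ^ p := by
      have key : (Localization.awayMap (frobenius A p) s) =
          (frobenius (Localization.Away (frobenius A p s)) p).comp θ.toRingEquiv.toRingHom := by
        apply IsLocalization.ringHom_ext (Submonoid.powers s)
        ext a
        change Localization.awayMap (frobenius A p) s (algebraMap A _ a) =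
          (θ (algebraMap A _ a)) ^ p
        rw [θ.commutes, Localization.awayMap, IsLocalization.Away.map, IsLocalization.map_eq,
          ← map_pow]
        rfl
      intro b
      exact congrArg (fun φ => φ b) key
    have hroot := rootTower_loc k p n (Localization.Away (frobenius A p s)) (Localization.Away s)
      θ.toRingEquiv hε
    exact flat_of_isRootTower p hp.out.ne_zero n _ _ hroot

variable [Algebra.Smooth k A]

include k in
theorem flat_frobenius : (frobenius A p).Flat := by
  obtain ⟨σ, hσ, hstd⟩ := Algebra.Smooth.exists_span_eq_top_isStandardSmooth k A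
  refine RingHom.Flat.propertyIsLocal.ofLocalizationSpan (frobenius A p) σ hσ (fun r => ?_)
  haveI := hstd r.1 r.2
  exact flat_awayMap p k A r.1

theorem comap_frobenius_surjective :
    Function.Surjective (PrimeSpectrum.comap (frobenius A p)) := by
  intro x
  refine ⟨x, PrimeSpectrum.ext ?_⟩
  ext y
  rw [PrimeSpectrum.comap_asIdeal, Ideal.mem_comap, frobenius_def]
  exact ⟨fun h => x.isPrime.mem_of_pow_mem p h, fun h => Ideal.pow_mem_of_mem _ h p hp.out.pos⟩

include k in
theorem main :
    (frobenius A p).FaithfullyFlat ∧
      Quiet.IsPthRoot p (Spec.map (CommRingCat.ofHom (frobenius A p))) :=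
  ⟨RingHom.FaithfullyFlat.iff_flat_and_comap_surjective.2
    ⟨flat_frobenius p k A, comap_frobenius_surjective p A⟩, isPthRoot_frob p k A⟩

end Groth.Agent.Helper27.Rt
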