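import Mathlib
import Groth.Agent.Lib.Helper27.RtA

/-! Root towers, part G: base change of a root tower along a quotient. -/

set_option autoImplicit false

universe u

namespace Groth.Agent.Helper27.Rt

open Polynomial Quiet

theorem adjoinRoot_map_mk {R R' : Type*} [CommRing R] [CommRing R'] (π : R →+* R') (f : R[X])
    (q : R'[X]) (hq : q ∣ f.map π) (g : R[X]) :
    AdjoinRoot.map π f q hq (AdjoinRoot.mk f g) = AdjoinRoot.mk q (g.map π) := by
  have : (AdjoinRoot.map π f q hq).comp (AdjoinRoot.mk f) =
      (AdjoinRoot.mk q).comp (Polynomial.mapRingHom π) := by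
    apply Polynomial.ringHom_ext
    · intro a
      simp
    · simp
  exact congrArg (fun φ => φ g) this

theorem adjoinRoot_map_surjective {R R' : Type*} [CommRing R] [CommRing R'] (π : R →+* R')
    (hπ : Function.Surjective π) (f : R[X]) (q : R'[X]) (hq : q ∣ f.map π) :
    Function.Surjective (AdjoinRoot.map π f q hq) := by
  intro z
  obtain ⟨g', rfl⟩ := AdjoinRoot.mk_surjective z
  obtain ⟨g, rfl⟩ := Polynomial.map_surjective π hπ g'
  exact ⟨AdjoinRoot.mk f g, adjoinRoot_map_mk π f q hq g⟩

theorem ker_adjoinRoot_map {R R' : Type*} [CommRing R] [CommRing R'] (π : R →+* R')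
    (hπ : Function.Surjective π) (f : R[X]) (q : R'[X]) (hq : f.map π = q) :
    RingHom.ker (AdjoinRoot.map π f q (hq ▸ dvd_rfl)) =
      (RingHom.ker π).map (AdjoinRoot.of f) := by
  subst hq
  apply le_antisymm
  · intro z hz
    obtain ⟨g, rfl⟩ := AdjoinRoot.mk_surjective z
    rw [RingHom.mem_ker, adjoinRoot_map_mk, AdjoinRoot.mk_eq_zero] at hz
    obtain ⟨h', hh'⟩ := hz
    obtain ⟨h, rfl⟩ := Polynomial.map_surjective π hπ h'
    have h1 : g - f * h ∈ RingHom.ker (Polynomial.mapRingHom π) := by
      rw [RingHom.mem_ker, Polynomial.coe_mapRingHom, Polynomial.map_sub, Polynomial.map_mul,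
        hh', sub_self]
    rw [Polynomial.ker_mapRingHom] at h1
    have h2 : AdjoinRoot.mk f g = AdjoinRoot.mk f (g - f * h) := by
      rw [AdjoinRoot.mk_eq_mk]
      exact ⟨h, by ring⟩
    rw [h2]
    have h3 := Ideal.mem_map_of_mem (AdjoinRoot.mk f) h1
    rw [Ideal.map_map] at h3
    exact h3
  · rw [Ideal.map_le_iff_le_comap]
    intro a ha
    rw [Ideal.mem_comap, RingHom.mem_ker, AdjoinRoot.map_of, RingHom.mem_ker.1 ha, map_zero]

/-- Base change of a root tower along compatible surjections with the expected kernel. -/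
theorem isRootTower_quot (p : ℕ) : ∀ (n : ℕ) (R S R' S' : Type u) [CommRing R] [CommRing S]
    [CommRing R'] [CommRing S'] [Algebra R S] [Algebra R' S'] (πR : R →+* R') (πS : S →+* S')
    (_ : Function.Surjective πR) (_ : Function.Surjective πS)
    (_ : ∀ r, πS (algebraMap R S r) = algebraMap R' S' (πR r))
    (_ : RingHom.ker πS = (RingHom.ker πR).map (algebraMap R S)),
    IsRootTower p n R S → IsRootTower p n R' S' := by
  intro n
  induction n with
  | zero =>
    intro R S R' S' _ _ _ _ _ _ πR πS hR hS hc hk ⟨ψ⟩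
    have hbij : Function.Bijective (algebraMap R' S') := by
      constructor
      · rw [injective_iff_map_eq_zero]
        intro r' hr'
        obtain ⟨r, rfl⟩ := hR r'
        rw [← hc] at hr'
        have h1 : algebraMap R S r ∈ RingHom.ker πS := hr'
        rw [hk] at h1
        have h2 := Ideal.mem_map_of_mem (ψ : S →+* R) h1
        rw [Ideal.map_map] at h2
        have h3 : ((ψ : S →+* R)).comp (algebraMap R S) = RingHom.id R := by
          ext r
          exact ψ.commutes r
        rw [h3, Ideal.map_id] at h2
        have h4 : (ψ : S →+* R) (algebraMap R S r) = r := ψ.commutes r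
        rw [h4] at h2
        exact h2
      · intro s'
        obtain ⟨s, rfl⟩ := hS s'
        refine ⟨πR (ψ s), ?_⟩
        rw [← hc]
        congr 1
        apply ψ.injective
        rw [ψ.commutes]
        rfl
    exact ⟨(AlgEquiv.ofBijective (Algebra.ofId R' S') hbij).symm⟩
  | succ n ih =>
    intro R S R' S' _ _ _ _ _ _ πR πS hR hS hc hk ⟨a, inst, htower, hrec⟩
    letI := inst
    have hpoly : (X ^ p - C a : R[X]).map πR = X ^ p - C (πR a) := by
      rw [Polynomial.map_sub, Polynomial.map_pow, Polynomial.map_X, Polynomial.map_C]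
    let πT : RootRing p R a →+* RootRing p R' (πR a) :=
      AdjoinRoot.map πR _ _ (hpoly ▸ dvd_rfl)
    let y : S' := πS (algebraMap (RootRing p R a) S (AdjoinRoot.root _))
    have hy : y ^ p = algebraMap R' S' (πR a) := by
      change (πS (algebraMap (RootRing p R a) S (AdjoinRoot.root _))) ^ p = _
      rw [← map_pow, ← map_pow, ← hc, IsScalarTower.algebraMap_apply R (RootRing p R a) S]
      congr 2
      have h0 := AdjoinRoot.eval₂_root (X ^ p - C a : R[X])
      rw [eval₂_sub, eval₂_pow, eval₂_X, eval₂_C, sub_eq_zero] at h0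
      rw [h0, AdjoinRoot.algebraMap_eq]
    let φ : RootRing p R' (πR a) →+* S' :=
      AdjoinRoot.lift (algebraMap R' S') y (by
        rw [eval₂_sub, eval₂_pow, eval₂_X, eval₂_C, hy, sub_self])
    letI inst₂ : Algebra (RootRing p R' (πR a)) S' := φ.toAlgebra
    have hmap : ∀ z, algebraMap (RootRing p R' (πR a)) S' z = φ z := fun z => rfl
    refine ⟨πR a, inst₂, ?_, ?_⟩
    · refine IsScalarTower.of_algebraMap_eq fun x => ?_
      rw [hmap, AdjoinRoot.algebraMap_eq, AdjoinRoot.lift_of]
    · refine ih (RootRing p R a) S (RootRing p R' (πR a)) S' πT πS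
        (adjoinRoot_map_surjective πR hR _ _ _) hS (fun z => ?_) ?_ hrec
      · rw [hmap]
        have key : (πS.comp (algebraMap (RootRing p R a) S)) = φ.comp πT := by
          apply AdjoinRoot.ringHom_ext
          · ext r
            simp only [RingHom.comp_apply]
            rw [← AdjoinRoot.algebraMap_eq, ← IsScalarTower.algebraMap_apply, hc]
            change _ = φ (AdjoinRoot.map πR _ _ _ (algebraMap R (RootRing p R a) r))
            rw [AdjoinRoot.algebraMap_eq, AdjoinRoot.map_of, AdjoinRoot.lift_of]
          · simp only [RingHom.comp_apply]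
            change _ = φ (AdjoinRoot.map πR _ _ _ (AdjoinRoot.root _))
            rw [AdjoinRoot.map_root, AdjoinRoot.lift_root]
        exact congrArg (fun ψ => ψ z) key
      · have hkT : RingHom.ker πT = (RingHom.ker πR).map (AdjoinRoot.of _) :=
          ker_adjoinRoot_map πR hR _ _ hpoly
        rw [hk, hkT, Ideal.map_map]
        congr 1
        ext r
        rw [RingHom.comp_apply, ← AdjoinRoot.algebraMap_eq, ← IsScalarTower.algebraMap_apply]

end Groth.Agent.Helper27.Rt
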