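import Mathlib
import Groth.Agent.Lib.Helper27.RtD

/-! Root towers, part H: sections of `Spec.map φ` over basic opens, for a general ring map. -/

set_option autoImplicit false

universe u

namespace Groth.Agent.Helper27.Rt

open AlgebraicGeometry CategoryTheory Opposite TopologicalSpace Quiet

section sch

variable {R S : Type u} [CommRing R] [CommRing S] (φ : R →+* S)

/-- The morphism `Spec S ⟶ Spec R`. -/
noncomputable abbrev specMor : Spec (CommRingCat.of S) ⟶ Spec (CommRingCat.of R) :=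
  Spec.map (CommRingCat.ofHom φ)

theorem specMor_appTop_rOf (s : R) :
    (specMor φ).appTop.hom (rOf R s) = rOf S (φ s) := by
  have h := Scheme.ΓSpecIso_inv_naturality (CommRingCat.ofHom φ)
  have h2 := congrArg (fun ψ => ψ.hom s) h
  simp only [CommRingCat.hom_comp, RingHom.comp_apply, CommRingCat.hom_ofHom] at h2
  rw [rOf, ← h2, rOf]

theorem preimage_UOf' (s : R) : (specMor φ) ⁻¹ᵁ (UOf R s) = UOf S (φ s) := by
  rw [UOf, Scheme.preimage_basicOpen]
  have := specMor_appTop_rOf φ s
  erw [this]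
  rfl

theorem hEq_appTop' (g : Γ(Spec (CommRingCat.of R), ⊤)) :
    hEq S ((specMor φ).appTop.hom g) = φ (hEq R g) := by
  have h := Scheme.ΓSpecIso_naturality (CommRingCat.ofHom φ)
  have h2 := congrArg (fun ψ => ψ.hom g) h
  simp only [CommRingCat.hom_comp, RingHom.comp_apply, CommRingCat.hom_ofHom] at h2
  exact h2

/-- The identification `Γ(Spec S, f⁻¹ D(s)) ≃ Γ(Spec S, D(φ s))`. -/
noncomputable def delta' (s : R) :
    Γ(Spec (CommRingCat.of S), (specMor φ) ⁻¹ᵁ UOf R s) ≃+*
      Γ(Spec (CommRingCat.of S), UOf S (φ s)) :=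
  ((Spec (CommRingCat.of S)).presheaf.mapIso
    (eqToIso (preimage_UOf' φ s).symm).op).commRingCatIsoToRingEquiv

theorem delta'_app_resU (s : R) (g : Γ(Spec (CommRingCat.of R), ⊤)) :
    delta' φ s (((specMor φ).app (UOf R s)).hom (resU R s g)) =
      resU S (φ s) ((specMor φ).appTop.hom g) := by
  have h := Scheme.Hom.naturality (specMor φ) (U := UOf R s) (U' := ⊤) (homOfLE le_top).op
  have h2 := congrArg (fun ψ => (delta' φ s) (ψ.hom g)) h
  simp only [CommRingCat.hom_comp, RingHom.comp_apply] at h2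
  refine h2.trans ?_
  change (((Spec (CommRingCat.of S)).presheaf.map _).hom.comp
    ((Spec (CommRingCat.of S)).presheaf.map _).hom) _ = _
  rw [← CommRingCat.hom_comp, ← Functor.map_comp]
  rfl

variable (L₁ L₂ : Type u) [CommRing L₁] [CommRing L₂] [Algebra R L₁] [Algebra S L₂]
  [Algebra L₁ L₂]

theorem square' (s : R) [IsLocalization.Away s L₁] [IsLocalization.Away (φ s) L₂]
    (hc : ∀ r, algebraMap L₁ L₂ (algebraMap R L₁ r) = algebraMap S L₂ (φ r))
    (a : Γ(Spec (CommRingCat.of R), UOf R s)) :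
    eA S L₂ (φ s) (delta' φ s (((specMor φ).app (UOf R s)).hom a)) =
      algebraMap L₁ L₂ (eA R L₁ s a) := by
  letI := (resU R s).toAlgebra
  haveI := loc_UOf R s
  have key : ((eA S L₂ (φ s)).toRingHom.comp (delta' φ s).toRingHom).comp
      ((specMor φ).app (UOf R s)).hom = (algebraMap L₁ L₂).comp (eA R L₁ s).toRingHom := by
    apply IsLocalization.ringHom_ext (Submonoid.powers (rOf R s))
    ext g
    change eA S L₂ (φ s) (delta' φ s (((specMor φ).app (UOf R s)).hom (resU R s g))) =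
      algebraMap L₁ L₂ (eA R L₁ s (resU R s g))
    rw [delta'_app_resU, eA_resU, eA_resU, hEq_appTop', hc]
  exact congrArg (fun ψ => ψ a) key

theorem isRootTower_sections_of_away (p : ℕ) (s : R) [IsLocalization.Away s L₁]
    [IsLocalization.Away (φ s) L₂]
    (hc : ∀ r, algebraMap L₁ L₂ (algebraMap R L₁ r) = algebraMap S L₂ (φ r))
    (n : ℕ) (h : IsRootTower p n L₁ L₂) :
    letI := ((specMor φ).app (UOf R s)).hom.toAlgebra
    IsRootTower p n Γ(Spec (CommRingCat.of R), UOf R s)
      Γ(Spec (CommRingCat.of S), (specMor φ) ⁻¹ᵁ UOf R s) := by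
  letI := ((specMor φ).app (UOf R s)).hom.toAlgebra
  refine isRootTower_transport p n L₁ L₂ Γ(Spec (CommRingCat.of R), UOf R s)
    Γ(Spec (CommRingCat.of S), (specMor φ) ⁻¹ᵁ UOf R s)
    (eA R L₁ s).symm ((delta' φ s).trans (eA S L₂ (φ s))).symm (fun a => ?_) h
  rw [RingEquiv.symm_apply_eq]
  change algebraMap L₁ L₂ a = eA S L₂ (φ s) (delta' φ s
    (((specMor φ).app (UOf R s)).hom ((eA R L₁ s).symm a)))
  rw [square' φ L₁ L₂ s hc, RingEquiv.apply_symm_apply]

end sch

end Groth.Agent.Helper27.Rt
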