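import Mathlib
import Groth.Agent.Lib.Helper27.RtF
import Groth.Agent.Lib.Helper27.RtG
import Groth.Agent.Lib.Helper27.RtH

/-! Root towers, part I: base change of Frobenius to a quotient `P/I → P/I^{[p]}`. -/

set_option autoImplicit false

universe u

namespace Groth.Agent.Helper27.Rt

open AlgebraicGeometry CategoryTheory Opposite TopologicalSpace Quiet Groth.Agent.Helper27.Ct

variable (p : ℕ) [hp : Fact p.Prime] (k : Type u) [CommRing k] [CharP k p] [PerfectRing k p]
  (P : Type u) [CommRing P] [Algebra k P] [CharP P p]

theorem rootTower_awayMap (s : P) [Algebra.IsStandardSmooth k (Localization.Away s)]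
    [Nontrivial (Localization.Away (frobenius P p s))] :
    letI := (Localization.awayMap (frobenius P p) s).toAlgebra
    ∃ n, IsRootTower p n (Localization.Away s) (Localization.Away (frobenius P p s)) := by
  haveI := isLocalization_away_frob p P s
  let θ : Localization.Away s ≃ₐ[P] Localization.Away (frobenius P p s) :=
    IsLocalization.algEquiv (Submonoid.powers s) _ _
  haveI : Algebra.IsStandardSmooth k (Localization.Away (frobenius P p s)) :=
    Algebra.IsStandardSmooth.of_algEquiv (θ.restrictScalars k)
  letI alg : Algebra (Localization.Away s) (Localization.Away (frobenius P p s)) :=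
    (Localization.awayMap (frobenius P p) s).toAlgebra
  haveI : CharP (Localization.Away (frobenius P p s)) p :=
    charP_loc p P (Localization.Away (frobenius P p s))
  obtain ⟨n, inst, h1, h2⟩ := exists_coords k (Localization.Away (frobenius P p s))
  letI := inst
  haveI := h1
  haveI := h2
  have hε : ∀ b : Localization.Away s,
      algebraMap (Localization.Away s) (Localization.Away (frobenius P p s)) b =
        (θ.toRingEquiv b) ^ p := by
    have key : (Localization.awayMap (frobenius P p) s) =
        (frobenius (Localization.Away (frobenius P p s)) p).comp θ.toRingEquiv.toRingHom := by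
      apply IsLocalization.ringHom_ext (Submonoid.powers s)
      ext a
      change Localization.awayMap (frobenius P p) s (algebraMap P _ a) =
        (θ (algebraMap P _ a)) ^ p
      rw [θ.commutes, Localization.awayMap, IsLocalization.Away.map, IsLocalization.map_eq,
        ← map_pow]
      rfl
    intro b
    exact congrArg (fun φ => φ b) key
  exact ⟨n, rootTower_loc k p n (Localization.Away (frobenius P p s)) (Localization.Away s)
    θ.toRingEquiv hε⟩

theorem rootTower_core {R S : Type u} [CommRing R] [CommRing S] (φ : R →+* S)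
    (π₁ : P →+* R) (π₂ : P →+* S) (h₁ : Function.Surjective π₁) (h₂ : Function.Surjective π₂)
    (hφ : ∀ a, φ (π₁ a) = π₂ (frobenius P p a))
    (hker : RingHom.ker π₂ = (RingHom.ker π₁).map (frobenius P p))
    (s : P) [Algebra.IsStandardSmooth k (Localization.Away s)]
    (L₁ L₂ : Type u) [CommRing L₁] [CommRing L₂] [Algebra R L₁] [Algebra S L₂] [Algebra L₁ L₂]
    [IsLocalization.Away (π₁ s) L₁] [IsLocalization.Away (φ (π₁ s)) L₂] [Nontrivial L₂]
    (hc : ∀ r, algebraMap L₁ L₂ (algebraMap R L₁ r) = algebraMap S L₂ (φ r)) :
    ∃ n, IsRootTower p n L₁ L₂ := by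
  haveI i2 : IsLocalization.Away (π₂ (frobenius P p s)) L₂ := by
    rw [← hφ]; infer_instance
  haveI j1 : IsLocalization ((Submonoid.powers s).map π₁) L₁ := by
    rw [Submonoid.map_powers]; infer_instance
  haveI j2 : IsLocalization ((Submonoid.powers (frobenius P p s)).map π₂) L₂ := by
    rw [Submonoid.map_powers]; infer_instance
  let πR : Localization.Away s →+* L₁ :=
    IsLocalization.map L₁ π₁ (Submonoid.powers s).le_comap_map
  let πS : Localization.Away (frobenius P p s) →+* L₂ :=
    IsLocalization.map L₂ π₂ (Submonoid.powers (frobenius P p s)).le_comap_map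
  have hπR : Function.Surjective πR := IsLocalization.map_surjective_of_surjective _ _ _ h₁
  have hπS : Function.Surjective πS := IsLocalization.map_surjective_of_surjective _ _ _ h₂
  haveI : Nontrivial (Localization.Away (frobenius P p s)) := πS.domain_nontrivial
  letI alg : Algebra (Localization.Away s) (Localization.Away (frobenius P p s)) :=
    (Localization.awayMap (frobenius P p) s).toAlgebra
  obtain ⟨n, hn⟩ := rootTower_awayMap p k P s
  have hmapF : ∀ a : P, algebraMap (Localization.Away s) (Localization.Away (frobenius P p s))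
      (algebraMap P (Localization.Away s) a) =
        algebraMap P (Localization.Away (frobenius P p s)) (frobenius P p a) := by
    intro a
    change Localization.awayMap (frobenius P p) s (algebraMap P _ a) = _
    rw [Localization.awayMap, IsLocalization.Away.map, IsLocalization.map_eq]
  refine ⟨n, isRootTower_quot p n (Localization.Away s) (Localization.Away (frobenius P p s))
    L₁ L₂ πR πS hπR hπS ?_ ?_ hn⟩
  · intro z
    have key : πS.comp (algebraMap (Localization.Away s) (Localization.Away (frobenius P p s))) =
        (algebraMap L₁ L₂).comp πR := by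
      apply IsLocalization.ringHom_ext (Submonoid.powers s)
      ext a
      simp only [RingHom.comp_apply]
      rw [hmapF]
      change IsLocalization.map L₂ π₂ _ (algebraMap P _ (frobenius P p a)) =
        algebraMap L₁ L₂ (IsLocalization.map L₁ π₁ _ (algebraMap P _ a))
      rw [IsLocalization.map_eq, IsLocalization.map_eq, hc, hφ]
    exact congrArg (fun ψ => ψ z) key
  · have k1 : RingHom.ker πR = (RingHom.ker π₁).map (algebraMap P (Localization.Away s)) :=
      IsLocalization.ker_map L₁ π₁ rfl
    have k2 : RingHom.ker πS =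
        (RingHom.ker π₂).map (algebraMap P (Localization.Away (frobenius P p s))) :=
      IsLocalization.ker_map L₂ π₂ rfl
    rw [k1, k2, hker, Ideal.map_map, Ideal.map_map]
    congr 1
    ext a
    simp only [RingHom.comp_apply]
    rw [hmapF]

variable (I : Ideal P)

/-- The map `P/I → P/I^{[p]}` induced by Frobenius. -/
noncomputable abbrev beta : P ⧸ I →+* P ⧸ I.map (frobenius P p) :=
  Ideal.quotientMap (I.map (frobenius P p)) (frobenius P p) Ideal.le_comap_map

theorem rootTower_beta_away (s : P) [Algebra.IsStandardSmooth k (Localization.Away s)]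
    [Nontrivial (Localization.Away (beta p P I (Ideal.Quotient.mk I s)))] :
    letI := (Localization.awayMap (beta p P I) (Ideal.Quotient.mk I s)).toAlgebra
    ∃ n, IsRootTower p n (Localization.Away (Ideal.Quotient.mk I s))
      (Localization.Away (beta p P I (Ideal.Quotient.mk I s))) := by
  letI := (Localization.awayMap (beta p P I) (Ideal.Quotient.mk I s)).toAlgebra
  refine rootTower_core p k P (beta p P I) (Ideal.Quotient.mk I)
    (Ideal.Quotient.mk (I.map (frobenius P p))) Ideal.Quotient.mk_surjective
    Ideal.Quotient.mk_surjective (fun a => Ideal.quotientMap_mk) ?_ s _ _ (fun r => ?_)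
  · rw [Ideal.mk_ker, Ideal.mk_ker]
  · change Localization.awayMap (beta p P I) (Ideal.Quotient.mk I s) (algebraMap _ _ r) = _
    rw [Localization.awayMap, IsLocalization.Away.map, IsLocalization.map_eq]

theorem comap_beta_surjective :
    Function.Surjective (PrimeSpectrum.comap (beta p P I)) := by
  intro x
  let q : Ideal P := x.asIdeal.comap (Ideal.Quotient.mk I)
  haveI hqp : q.IsPrime := Ideal.comap_isPrime _ _
  have hIq : I ≤ q := fun a ha => by
    change Ideal.Quotient.mk I a ∈ x.asIdeal
    rw [Ideal.Quotient.eq_zero_iff_mem.2 ha]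
    exact zero_mem _
  have hJq : I.map (frobenius P p) ≤ q := by
    rw [Ideal.map_le_iff_le_comap]
    intro a ha
    rw [Ideal.mem_comap, frobenius_def]
    exact Ideal.pow_mem_of_mem _ (hIq ha) p hp.out.pos
  let y : Ideal (P ⧸ I.map (frobenius P p)) := q.map (Ideal.Quotient.mk _)
  haveI : y.IsPrime := Ideal.map_isPrime_of_surjective Ideal.Quotient.mk_surjective
    (by rw [Ideal.mk_ker]; exact hJq)
  refine ⟨⟨y, inferInstance⟩, PrimeSpectrum.ext ?_⟩
  ext z
  obtain ⟨a, rfl⟩ := Ideal.Quotient.mk_surjective z
  rw [PrimeSpectrum.comap_asIdeal, Ideal.mem_comap]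
  change Ideal.Quotient.mk _ (frobenius P p a) ∈ y ↔ a ∈ q
  rw [Ideal.mem_quotient_iff_mem hJq, frobenius_def]
  exact ⟨fun h => hqp.mem_of_pow_mem p h, fun h => Ideal.pow_mem_of_mem _ h p hp.out.pos⟩

variable [Algebra.Smooth k P]

include k in
theorem flat_beta : (beta p P I).Flat := by
  obtain ⟨σ, hσ, hstd⟩ := Algebra.Smooth.exists_span_eq_top_isStandardSmooth k P
  refine RingHom.Flat.propertyIsLocal.ofLocalizationSpan (beta p P I)
    ((Ideal.Quotient.mk I) '' σ) ?_ (fun r => ?_)
  · rw [← Ideal.map_span, hσ, Ideal.map_top]
  · obtain ⟨r, s, hs, rfl⟩ := r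
    haveI := hstd s hs
    letI alg := (Localization.awayMap (beta p P I) (Ideal.Quotient.mk I s)).toAlgebra
    change Module.Flat (Localization.Away (Ideal.Quotient.mk I s))
      (Localization.Away (beta p P I (Ideal.Quotient.mk I s)))
    rcases subsingleton_or_nontrivial
      (Localization.Away (beta p P I (Ideal.Quotient.mk I s))) with hL | hL
    · infer_instance
    · obtain ⟨n, hn⟩ := rootTower_beta_away p k P I s
      exact flat_of_isRootTower p hp.out.ne_zero n _ _ hn

include k in
theorem isPthRoot_beta :
    Quiet.IsPthRoot p (Spec.map (CommRingCat.ofHom (beta p P I))) := by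
  intro x
  obtain ⟨σ, hσ, hstd⟩ := Algebra.Smooth.exists_span_eq_top_isStandardSmooth k P
  let q : Ideal P := x.asIdeal.comap (Ideal.Quotient.mk I)
  haveI hqp : q.IsPrime := Ideal.comap_isPrime _ _
  obtain ⟨s, hsσ, hsq⟩ : ∃ s ∈ σ, s ∉ q := by
    by_contra h
    push_neg at h
    have h1 : Ideal.span σ ≤ q := Ideal.span_le.2 h
    rw [hσ] at h1
    exact hqp.ne_top (top_le_iff.1 h1)
  haveI := hstd s hsσ
  obtain ⟨y, hy⟩ := comap_beta_surjective p P I x
  have hsy : beta p P I (Ideal.Quotient.mk I s) ∉ y.asIdeal := by
    intro h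
    apply hsq
    have h2 : Ideal.Quotient.mk I s ∈ (PrimeSpectrum.comap (beta p P I) y).asIdeal := h
    rw [hy] at h2
    exact h2
  haveI : Nontrivial (Localization.Away (beta p P I (Ideal.Quotient.mk I s))) :=
    nontrivial_away _ y.asIdeal hsy
  letI := (Localization.awayMap (beta p P I) (Ideal.Quotient.mk I s)).toAlgebra
  obtain ⟨n, hn⟩ := rootTower_beta_away p k P I s
  refine ⟨⟨UOf (P ⧸ I) (Ideal.Quotient.mk I s), isAffineOpen_UOf _ _⟩,
    (mem_UOf _ _ x).2 hsq, (isAffineOpen_UOf _ _).preimage _, n, ?_⟩
  refine isRootTower_sections_of_away (beta p P I) _ _ p (Ideal.Quotient.mk I s) (fun r => ?_) n hn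
  change Localization.awayMap (beta p P I) (Ideal.Quotient.mk I s) (algebraMap _ _ r) = _
  rw [Localization.awayMap, IsLocalization.Away.map, IsLocalization.map_eq]

include k in
theorem main_beta :
    (beta p P I).FaithfullyFlat ∧
      Quiet.IsPthRoot p (Spec.map (CommRingCat.ofHom (beta p P I))) :=
  ⟨RingHom.FaithfullyFlat.iff_flat_and_comap_surjective.2
    ⟨flat_beta p k P I, comap_beta_surjective p P I⟩, isPthRoot_beta p k P I⟩

end Groth.Agent.Helper27.Rt
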