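import Mathlib
import Groth.Agent.Lib.Helper27.RtI

/-! Root towers, part J: the regular sequence statement of S19480. -/

set_option autoImplicit false

universe u

namespace Groth.Agent.Helper27.Rt

open RingTheory.Sequence MvPolynomial

theorem isRegular_map_of_faithfullyFlat {R S : Type*} [CommRing R] [CommRing S] (f : R →+* S)
    (hf : f.FaithfullyFlat) {rs : List R} (reg : IsRegular R rs) : IsRegular S (rs.map f) := by
  letI := f.toAlgebra
  haveI : Module.FaithfullyFlat R S := hf
  exact reg.of_faithfullyFlat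

theorem ofList_ofFn {R : Type*} [CommRing R] {n : ℕ} (f : Fin n → R) :
    Ideal.ofList (List.ofFn f) = Ideal.span (Set.range f) := by
  unfold Ideal.ofList
  congr 1
  ext x
  simp [List.mem_ofFn]

theorem regular_main (p : ℕ) [hp : Fact p.Prime]
    (k : Type u) [Field k] [CharP k p] [PerfectRing k p] (A : Type u) [CommRing A] [Algebra k A]
    [CharP A p] [Algebra.Smooth k A] (n : ℕ) (t : Fin n → A)
    (ht : IsRegular A (List.ofFn t))
    (r m : ℕ) (v : Fin m → MvPolynomial (Fin r) A)
    (hv : IsRegular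
      (MvPolynomial (Fin r) A ⧸ Ideal.span (Set.range fun i => C (t i) ^ p))
      (List.ofFn fun j => Ideal.Quotient.mk (Ideal.span (Set.range fun i => C (t i) ^ p)) (v j))) :
    IsRegular (MvPolynomial (Fin r) A)
        (List.ofFn (fun i => C (t i) ^ (p ^ 2)) ++ List.ofFn (fun j => v j ^ p)) := by
  haveI : Nontrivial A := ht.nontrivial
  haveI : Algebra.Smooth A (MvPolynomial (Fin r) A) := ⟨inferInstance, inferInstance⟩
  haveI : Algebra.Smooth k (MvPolynomial (Fin r) A) := Algebra.Smooth.comp k A _
  have hF : (frobenius (MvPolynomial (Fin r) A) p).FaithfullyFlat :=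
    (main p k (MvPolynomial (Fin r) A)).1
  have h0 : IsRegular (MvPolynomial (Fin r) A)
      ((List.ofFn t).map (algebraMap A (MvPolynomial (Fin r) A))) := ht.of_faithfullyFlat
  have h1 := isRegular_map_of_faithfullyFlat (frobenius (MvPolynomial (Fin r) A) p) hF h0
  have e1 : ((List.ofFn t).map (algebraMap A (MvPolynomial (Fin r) A))).map
      (frobenius (MvPolynomial (Fin r) A) p) = List.ofFn (fun i => (C (t i) : MvPolynomial (Fin r) A) ^ p) := by
    rw [List.map_map, List.map_ofFn]
    rfl
  rw [e1] at h1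
  have hJ := ofList_ofFn (fun i => (C (t i) : MvPolynomial (Fin r) A) ^ p)
  have h2 : IsWeaklyRegular (MvPolynomial (Fin r) A ⧸
      (Ideal.ofList (List.ofFn (fun i => (C (t i) : MvPolynomial (Fin r) A) ^ p)) • ⊤ :
        Submodule (MvPolynomial (Fin r) A) (MvPolynomial (Fin r) A))) (List.ofFn v) := by
    have h3 : IsWeaklyRegular (MvPolynomial (Fin r) A ⧸
        Ideal.span (Set.range fun i => (C (t i) : MvPolynomial (Fin r) A) ^ p))
        ((List.ofFn v).map (algebraMap (MvPolynomial (Fin r) A) (MvPolynomial (Fin r) A ⧸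
        Ideal.span (Set.range fun i => (C (t i) : MvPolynomial (Fin r) A) ^ p)))) := by
      have := hv.1
      rwa [List.map_ofFn]
    rw [isWeaklyRegular_map_algebraMap_iff] at h3
    have eq : (Ideal.ofList (List.ofFn (fun i => (C (t i) : MvPolynomial (Fin r) A) ^ p)) • ⊤ :
        Submodule (MvPolynomial (Fin r) A) (MvPolynomial (Fin r) A)) =
        Ideal.span (Set.range fun i => (C (t i) : MvPolynomial (Fin r) A) ^ p) := by
      rw [hJ, Ideal.smul_eq_mul, Ideal.mul_top]
    exact ((Submodule.quotEquivOfEq _ _ eq.symm).isWeaklyRegular_congr _).1 h3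
  have h4 : IsWeaklyRegular (MvPolynomial (Fin r) A)
      (List.ofFn (fun i => (C (t i) : MvPolynomial (Fin r) A) ^ p) ++ List.ofFn v) :=
    (isWeaklyRegular_append_iff _ _ _).2 ⟨h1.1, h2⟩
  have h5 : (⊤ : Submodule (MvPolynomial (Fin r) A) (MvPolynomial (Fin r) A)) ≠
      Ideal.ofList (List.ofFn (fun i => (C (t i) : MvPolynomial (Fin r) A) ^ p) ++ List.ofFn v) • ⊤ := by
    intro h
    rw [Ideal.smul_eq_mul, Ideal.mul_top, Ideal.ofList_append, hJ] at h
    apply hv.2
    rw [Ideal.smul_eq_mul, Ideal.mul_top]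
    have h6 := congrArg (Ideal.map (Ideal.Quotient.mk
      (Ideal.span (Set.range fun i => (C (t i) : MvPolynomial (Fin r) A) ^ p)))) h
    rw [Ideal.map_sup, Ideal.map_quotient_self, bot_sup_eq, Ideal.map_ofList, List.map_ofFn,
      Ideal.map_top] at h6
    exact h6
  have h7 := isRegular_map_of_faithfullyFlat (frobenius (MvPolynomial (Fin r) A) p) hF ⟨h4, h5⟩
  have e2 : List.map (frobenius (MvPolynomial (Fin r) A) p)
      (List.ofFn (fun i => (C (t i) : MvPolynomial (Fin r) A) ^ p) ++ List.ofFn v) =
      List.ofFn (fun i => (C (t i) : MvPolynomial (Fin r) A) ^ (p ^ 2)) ++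
        List.ofFn (fun j => v j ^ p) := by
    rw [List.map_append, List.map_ofFn, List.map_ofFn]
    congr 1
    congr 1
    funext i
    simp only [Function.comp_apply, frobenius_def, ← pow_mul, sq]
  rw [e2] at h7
  exact h7

end Groth.Agent.Helper27.Rt
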