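import Mathlib

/-! Step lemma for S7898: extending a DVR inside a separably closed field with a prescribed
residue field element. -/

open Polynomial IsLocalRing

namespace Groth.Agent.Helper27.Rx

universe u

variable {G : Type u} [CommRing G] [IsDomain G] [IsDiscreteValuationRing G]
  {Ω : Type u} [Field Ω] [IsSepClosed Ω] (ι : G →+* Ω) (hι : Function.Injective ι)
  {k' : Type u} [Field k'] (τ : G →+* k') (hτ : ∀ g, τ g ≠ 0 → IsUnit g)
  (ϖ : G) (hϖ : maximalIdeal G = Ideal.span {ϖ})

include hι hτ hϖ in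
theorem step (α : k') (hα : α ∉ τ.range) (hint : ∃ q : G[X], q.Monic ∧ eval₂ τ α q = 0) :
    ∃ (S : Type u) (_ : CommRing S) (j₀ : G →+* S) (j₁ : S →+* Ω) (j₂ : S →+* k'),
      Function.Injective j₁ ∧ (∀ g, j₁ (j₀ g) = ι g) ∧ (∀ g, j₂ (j₀ g) = τ g) ∧
      (∃ s, j₂ s = α) ∧ (∀ s, j₂ s = 0 → ∃ s', s = j₀ ϖ * s') ∧ (∀ s, j₂ s ≠ 0 → IsUnit s) := by
  classical
  haveI hloc : IsLocalHom τ := ⟨fun g hg => hτ g hg.ne_zero⟩
  let κ := ResidueField G
  let τb : κ →+* k' := ResidueField.lift τ
  letI : Algebra κ k' := τb.toAlgebra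
  have hτb : ∀ g, τb (residue G g) = τ g := fun g => ResidueField.lift_residue_apply τ g
  have hϖmem : ϖ ∈ maximalIdeal G := by rw [hϖ]; exact Ideal.subset_span rfl
  have hresϖ : residue G ϖ = 0 := (residue_eq_zero_iff ϖ).mpr hϖmem
  have hϖ0 : ϖ ≠ 0 := by
    intro h
    have : maximalIdeal G = ⊥ := by rw [hϖ, h, Ideal.span_singleton_eq_bot]
    exact IsDiscreteValuationRing.not_a_field G this
  -- α is integral over κ
  obtain ⟨q, hqm, hq⟩ := hint
  have hαint : IsIntegral κ α := by
    refine ⟨q.map (residue G), hqm.map _, ?_⟩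
    rw [eval₂_map]
    have : (algebraMap κ k').comp (residue G) = τ := by
      ext g; exact hτb g
    rw [this]; exact hq
  have hαnot : α ∉ (algebraMap κ k').range := by
    rintro ⟨c, hc⟩
    obtain ⟨g, rfl⟩ := residue_surjective c
    exact hα ⟨g, by rw [← hc]; exact (hτb g).symm⟩
  set m := minpoly κ α with hm
  have hmmonic : m.Monic := minpoly.monic hαint
  have hmirr : Irreducible m := minpoly.irreducible hαint
  have hd2 : 2 ≤ m.natDegree := (minpoly.two_le_natDegree_iff hαint).mpr hαnot
  have hlift : m ∈ lifts (residue G) := by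
    rw [mem_lifts]
    exact map_surjective _ residue_surjective m
  obtain ⟨F₀, hF₀map, hF₀deg, hF₀monic⟩ := lifts_and_natDegree_eq_and_monic hlift hmmonic
  -- adjust the linear coefficient
  obtain ⟨F, hFmap, hFdeg, hFmonic, hFc1⟩ : ∃ F : G[X], F.map (residue G) = m ∧
      F.natDegree = m.natDegree ∧ F.Monic ∧ F.coeff 1 ≠ 0 := by
    by_cases h1 : F₀.coeff 1 = 0
    · have hdeglt : (C ϖ * X : G[X]).degree < F₀.degree := by
        have h1 : (C ϖ * X : G[X]).degree ≤ 1 := by
          calc (C ϖ * X : G[X]).degree ≤ (C ϖ : G[X]).degree + (X : G[X]).degree := degree_mul_le _ _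
            _ ≤ 0 + 1 := add_le_add degree_C_le degree_X_le
            _ = 1 := by simp
        have h2 : (2 : WithBot ℕ) ≤ F₀.degree := by
          rw [degree_eq_natDegree hF₀monic.ne_zero]
          exact_mod_cast hF₀deg ▸ hd2
        calc (C ϖ * X : G[X]).degree ≤ 1 := h1
          _ < 2 := by norm_num
          _ ≤ _ := h2
      refine ⟨F₀ + C ϖ * X, ?_, ?_, hF₀monic.add_of_left hdeglt, ?_⟩
      · rw [Polynomial.map_add, Polynomial.map_mul, map_C, hresϖ, hF₀map]; simp
      · rw [natDegree_add_eq_left_of_degree_lt hdeglt, hF₀deg]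
      · rw [coeff_add, h1, zero_add, coeff_C_mul, coeff_X_one, mul_one]; exact hϖ0
    · exact ⟨F₀, hF₀map, hF₀deg, hF₀monic, h1⟩
  have hFirr : Irreducible F :=
    hFmonic.irreducible_of_irreducible_map (residue G) F (by rw [hFmap]; exact hmirr)
  let Kg := FractionRing G
  have hFkirr : Irreducible (F.map (algebraMap G Kg)) :=
    (Monic.irreducible_iff_irreducible_map_fraction_map hFmonic).mp hFirr
  have hFksep : (F.map (algebraMap G Kg)).Separable := by
    rw [separable_iff_derivative_ne_zero hFkirr]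
    intro h0
    have : (derivative (F.map (algebraMap G Kg))).coeff 0 = 0 := by rw [h0]; simp
    rw [coeff_derivative, coeff_map] at this
    simp only [Nat.cast_zero, zero_add, mul_one] at this
    exact hFc1 ((map_eq_zero_iff _ (IsFractionRing.injective G Kg)).mp this)
  let ιK : Kg →+* Ω := IsFractionRing.lift hι
  have hιK : ∀ g, ιK (algebraMap G Kg g) = ι g := fun g => IsFractionRing.lift_algebraMap hι g
  have hFΩsep : (F.map ι).Separable := by
    have := hFksep.map (f := ιK)
    rw [Polynomial.map_map] at this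
    have h2 : ιK.comp (algebraMap G Kg) = ι := by ext g; exact hιK g
    rwa [h2] at this
  have hFΩdeg : (F.map ι).degree ≠ 0 := by
    rw [degree_map_eq_of_injective hι, degree_eq_natDegree hFmonic.ne_zero, hFdeg]
    have : (0 : ℕ) < m.natDegree := by omega
    exact_mod_cast this.ne'
  obtain ⟨β, hβ⟩ := IsSepClosed.exists_root (F.map ι) hFΩdeg hFΩsep
  have hβ' : eval₂ ι β F = 0 := by rwa [IsRoot, eval_map] at hβ
  have hα' : eval₂ τ α F = 0 := by
    have : (algebraMap κ k').comp (residue G) = τ := by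
      ext g; exact hτb g
    rw [← this, ← eval₂_map, hFmap]
    exact minpoly.aeval κ α
  let S := AdjoinRoot F
  let j₁ : S →+* Ω := AdjoinRoot.lift ι β hβ'
  let j₂ : S →+* k' := AdjoinRoot.lift τ α hα'
  -- reduction modulo F
  have hrep : ∀ s : S, ∃ p : G[X], p.degree < F.degree ∧ s = AdjoinRoot.mk F p := by
    intro s
    obtain ⟨p, rfl⟩ := AdjoinRoot.mk_surjective s
    refine ⟨p %ₘ F, degree_modByMonic_lt p hFmonic, ?_⟩
    rw [AdjoinRoot.mk_eq_mk]
    exact ⟨p /ₘ F, by rw [modByMonic_eq_sub_mul_div p F]; ring⟩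
  have hj₁mk : ∀ p, j₁ (AdjoinRoot.mk F p) = eval₂ ι β p := fun p => AdjoinRoot.lift_mk hβ' p
  have hj₂mk : ∀ p, j₂ (AdjoinRoot.mk F p) = eval₂ τ α p := fun p => AdjoinRoot.lift_mk hα' p
  -- injectivity of j₁
  letI : Algebra Kg Ω := ιK.toAlgebra
  have hminβ : minpoly Kg β = F.map (algebraMap G Kg) := by
    refine (minpoly.eq_of_irreducible_of_monic hFkirr ?_ (hFmonic.map _)).symm
    rw [aeval_def, eval₂_map]
    have h2 : (algebraMap Kg Ω).comp (algebraMap G Kg) = ι := by ext g; exact hιK g
    rw [h2]; exact hβ'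
  have hinj : Function.Injective j₁ := by
    rw [injective_iff_map_eq_zero]
    intro s hs
    obtain ⟨p, hpdeg, rfl⟩ := hrep s
    rw [hj₁mk] at hs
    have hp0 : p.map (algebraMap G Kg) = 0 := by
      by_contra hne
      have h1 : aeval β (p.map (algebraMap G Kg)) = 0 := by
        rw [aeval_def, eval₂_map]
        have h2 : (algebraMap Kg Ω).comp (algebraMap G Kg) = ι := by ext g; exact hιK g
        rw [h2]; exact hs
      have h2 := minpoly.degree_le_of_ne_zero Kg β hne h1
      rw [hminβ, degree_map_eq_of_injective (IsFractionRing.injective G Kg),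
        degree_map_eq_of_injective (IsFractionRing.injective G Kg)] at h2
      exact absurd hpdeg (not_lt.mpr h2)
    have : p = 0 := by
      have hinjm := Polynomial.map_injective (algebraMap G Kg) (IsFractionRing.injective G Kg)
      exact hinjm (by rw [hp0, Polynomial.map_zero])
    rw [this, map_zero]
  -- kernel of j₂
  have hker : ∀ s, j₂ s = 0 → ∃ s', s = AdjoinRoot.of F ϖ * s' := by
    intro s hs
    obtain ⟨p, hpdeg, rfl⟩ := hrep s
    rw [hj₂mk] at hs
    have hcomp : (algebraMap κ k').comp (residue G) = τ := by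
      ext g; exact hτb g
    have hp0 : p.map (residue G) = 0 := by
      by_contra hne
      have h1 : aeval α (p.map (residue G)) = 0 := by
        rw [aeval_def, eval₂_map, hcomp]; exact hs
      have h2 := minpoly.degree_le_of_ne_zero κ α hne h1
      have h3 : (p.map (residue G)).degree ≤ p.degree := degree_map_le
      have h4 : F.degree = (minpoly κ α).degree := by
        rw [degree_eq_natDegree hFmonic.ne_zero, degree_eq_natDegree hmmonic.ne_zero, hFdeg]
      rw [h4] at hpdeg
      exact absurd (lt_of_le_of_lt (h2.trans h3) hpdeg) (lt_irrefl _)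
    have hdvd : C ϖ ∣ p := by
      rw [C_dvd_iff_dvd_coeff]
      intro i
      have : (p.map (residue G)).coeff i = 0 := by rw [hp0]; simp
      rw [coeff_map, residue_eq_zero_iff, hϖ, Ideal.mem_span_singleton] at this
      exact this
    obtain ⟨p', rfl⟩ := hdvd
    exact ⟨AdjoinRoot.mk F p', by rw [map_mul, AdjoinRoot.mk_C]⟩
  refine ⟨S, inferInstance, AdjoinRoot.of F, j₁, j₂, hinj, ?_, ?_, ?_, hker, ?_⟩
  · intro g; exact AdjoinRoot.lift_of hβ'
  · intro g; exact AdjoinRoot.lift_of hα'
  · exact ⟨AdjoinRoot.root F, AdjoinRoot.lift_root hα'⟩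
  · -- units
    intro s hs
    by_contra hnu
    obtain ⟨𝔫, h𝔫max, hs𝔫⟩ := exists_max_ideal_of_mem_nonunits hnu
    haveI := hFmonic.finite_adjoinRoot
    haveI : Algebra.IsIntegral G S := Algebra.IsIntegral.of_finite G S
    haveI := h𝔫max
    have hcomap : (𝔫.comap (algebraMap G S)).IsMaximal :=
      Ideal.isMaximal_comap_of_isIntegral_of_isMaximal 𝔫
    have hcm : 𝔫.comap (algebraMap G S) = maximalIdeal G := eq_maximalIdeal hcomap
    have hϖ𝔫 : AdjoinRoot.of F ϖ ∈ 𝔫 := by
      have : ϖ ∈ 𝔫.comap (algebraMap G S) := by rw [hcm]; exact hϖmem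
      exact this
    have hkprime : (RingHom.ker j₂).IsPrime := RingHom.ker_isPrime j₂
    have hkcomap : (RingHom.ker j₂).comap (algebraMap G S) = maximalIdeal G := by
      ext g
      rw [Ideal.mem_comap, RingHom.mem_ker]
      have : j₂ (algebraMap G S g) = τ g := AdjoinRoot.lift_of hα'
      rw [this]
      constructor
      · intro h0
        rw [mem_maximalIdeal, mem_nonunits_iff]
        intro hu
        exact (hu.map τ).ne_zero h0
      · intro hg
        by_contra hne
        exact hg (hτ g hne)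
    have hkmax : (RingHom.ker j₂).IsMaximal := by
      haveI := hkprime
      refine Ideal.isMaximal_of_isIntegral_of_isMaximal_comap (R := G) _ ?_
      rw [hkcomap]; infer_instance
    have hle : RingHom.ker j₂ ≤ 𝔫 := by
      intro x hx
      obtain ⟨x', rfl⟩ := hker x hx
      exact 𝔫.mul_mem_right _ hϖ𝔫
    have heq : RingHom.ker j₂ = 𝔫 := hkmax.eq_of_le h𝔫max.ne_top hle
    have : s ∈ RingHom.ker j₂ := by rw [heq]; exact hs𝔫
    exact hs this

end Groth.Agent.Helper27.Rx
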