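import Mathlib
import Groth.Agent.Lib.Helper27.RxA

/-! S7898: a DVR with prescribed algebraic residue field extension (Zorn on graph subrings). -/

open Polynomial IsLocalRing

namespace Groth.Agent.Helper27.Rx

universe u

section
variable (OK : Type u) [CommRing OK] [IsDomain OK] [IsDiscreteValuationRing OK]
  (k' : Type u) [Field k'] [Algebra (ResidueField OK) k']

abbrev Om := SeparableClosure (FractionRing OK)
abbrev PP := Om OK × k'

noncomputable def base : OK →+* PP OK k' :=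
  (algebraMap OK (Om OK)).prod ((algebraMap (ResidueField OK) k').comp (residue OK))

lemma base_fst (a : OK) : (base OK k' a).1 = algebraMap OK (Om OK) a := rfl
lemma base_snd (a : OK) : (base OK k' a).2 = algebraMap (ResidueField OK) k' (residue OK a) := rfl

lemma algebraMap_Om_injective : Function.Injective (algebraMap OK (Om OK)) := by
  rw [IsScalarTower.algebraMap_eq OK (FractionRing OK) (Om OK)]
  exact (algebraMap (FractionRing OK) (Om OK)).injective.comp (IsFractionRing.injective OK _)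

structure Good (ϖ : OK) (G : Subring (PP OK k')) : Prop where
  graph : ∀ x ∈ G, x.1 = 0 → x = 0
  base_mem : ∀ a, base OK k' a ∈ G
  ker : ∀ x ∈ G, x.2 = 0 → ∃ y ∈ G, x = base OK k' ϖ * y
  unit : ∀ x ∈ G, x.2 ≠ 0 → ∃ y ∈ G, x * y = 1

variable {OK k'}

lemma good_range (ϖ : OK) (hϖ : maximalIdeal OK = Ideal.span {ϖ}) :
    Good OK k' ϖ (base OK k').range := by
  refine ⟨?_, fun a => ⟨a, rfl⟩, ?_, ?_⟩
  · rintro _ ⟨a, rfl⟩ h
    rw [base_fst] at h
    have : a = 0 := algebraMap_Om_injective OK (by rw [h, map_zero])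
    rw [this, map_zero]
  · rintro _ ⟨a, rfl⟩ h
    rw [base_snd, map_eq_zero, residue_eq_zero_iff, hϖ, Ideal.mem_span_singleton] at h
    obtain ⟨b, rfl⟩ := h
    exact ⟨base OK k' b, ⟨b, rfl⟩, map_mul _ _ _⟩
  · rintro _ ⟨a, rfl⟩ h
    rw [base_snd] at h
    have ha : IsUnit a := by
      by_contra hna
      apply h
      rw [map_eq_zero, residue_eq_zero_iff]
      exact hna
    obtain ⟨u, rfl⟩ := ha
    refine ⟨base OK k' (↑u⁻¹ : OK), ⟨_, rfl⟩, ?_⟩
    rw [← map_mul, Units.mul_inv, map_one]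

lemma good_sSup (ϖ : OK) (c : Set (Subring (PP OK k'))) (hc : IsChain (· ≤ ·) c)
    (hcs : ∀ G ∈ c, Good OK k' ϖ G) (y : Subring (PP OK k')) (hy : y ∈ c) :
    Good OK k' ϖ (sSup c) := by
  have hmem : ∀ x, x ∈ sSup c ↔ ∃ G ∈ c, x ∈ G := fun x =>
    Subring.mem_sSup_of_directedOn ⟨y, hy⟩ hc.directedOn
  refine ⟨?_, ?_, ?_, ?_⟩
  · intro x hx h
    obtain ⟨G, hG, hxG⟩ := (hmem x).mp hx
    exact (hcs G hG).graph x hxG h
  · intro a
    exact (hmem _).mpr ⟨y, hy, (hcs y hy).base_mem a⟩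
  · intro x hx h
    obtain ⟨G, hG, hxG⟩ := (hmem x).mp hx
    obtain ⟨z, hz, hxz⟩ := (hcs G hG).ker x hxG h
    exact ⟨z, (hmem z).mpr ⟨G, hG, hz⟩, hxz⟩
  · intro x hx h
    obtain ⟨G, hG, hxG⟩ := (hmem x).mp hx
    obtain ⟨z, hz, hxz⟩ := (hcs G hG).unit x hxG h
    exact ⟨z, (hmem z).mpr ⟨G, hG, hz⟩, hxz⟩

lemma exists_maximal (ϖ : OK) (hϖ : maximalIdeal OK = Ideal.span {ϖ}) :
    ∃ G : Subring (PP OK k'), Maximal (fun G => G ∈ {G | Good OK k' ϖ G}) G := by
  obtain ⟨m, -, hm⟩ := zorn_le_nonempty₀ {G : Subring (PP OK k') | Good OK k' ϖ G}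
    (fun c hcs hc y hy => ⟨sSup c, good_sSup ϖ c hc (fun G hG => hcs hG) y hy,
      fun z hz => le_sSup hz⟩) _ (good_range ϖ hϖ)
  exact ⟨m, hm⟩

/-- The two projections. -/
noncomputable def iot (G : Subring (PP OK k')) : G →+* Om OK :=
  (RingHom.fst _ _).comp G.subtype

noncomputable def tau (G : Subring (PP OK k')) : G →+* k' :=
  (RingHom.snd _ _).comp G.subtype

noncomputable def baseG {ϖ : OK} {G : Subring (PP OK k')} (hG : Good OK k' ϖ G) : OK →+* G :=
  (base OK k').codRestrict G hG.base_mem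

section good
variable {ϖ : OK} {G : Subring (PP OK k')} (hG : Good OK k' ϖ G)
include hG

lemma iot_injective : Function.Injective (iot G) := by
  rw [injective_iff_map_eq_zero]
  intro x hx
  exact Subtype.ext (hG.graph x.1 x.2 hx)

lemma isDomain_of_good : IsDomain G := (iot_injective hG).isDomain (iot G)

lemma iot_baseG (a : OK) : iot G (baseG hG a) = algebraMap OK (Om OK) a := rfl

lemma tau_baseG (a : OK) :
    tau G (baseG hG a) = algebraMap (ResidueField OK) k' (residue OK a) := rfl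

lemma tau_unit (g : G) (h : tau G g ≠ 0) : IsUnit g := by
  obtain ⟨y, hy, hxy⟩ := hG.unit g.1 g.2 h
  exact IsUnit.of_mul_eq_one ⟨y, hy⟩ (Subtype.ext hxy)

lemma tau_ker (g : G) (h : tau G g = 0) : ∃ g' : G, g = baseG hG ϖ * g' := by
  obtain ⟨y, hy, hxy⟩ := hG.ker g.1 g.2 h
  exact ⟨⟨y, hy⟩, Subtype.ext hxy⟩

lemma tau_pi (hϖ : maximalIdeal OK = Ideal.span {ϖ}) : tau G (baseG hG ϖ) = 0 := by
  rw [tau_baseG, map_eq_zero, residue_eq_zero_iff, hϖ]
  exact Ideal.subset_span rfl

lemma pi_ne_zero (hϖ : maximalIdeal OK = Ideal.span {ϖ}) : baseG hG ϖ ≠ 0 := by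
  intro h
  have h1 : iot G (baseG hG ϖ) = 0 := by rw [h, map_zero]
  rw [iot_baseG] at h1
  have h2 : ϖ = 0 := algebraMap_Om_injective OK (by rw [h1, map_zero])
  have : maximalIdeal OK = ⊥ := by rw [hϖ, h2, Ideal.span_singleton_eq_bot]
  exact IsDiscreteValuationRing.not_a_field OK this

lemma not_unit_of_tau (g : G) (h : tau G g = 0) : ¬ IsUnit g := fun hu =>
  (hu.map (tau G)).ne_zero h

lemma exists_not_dvd (hϖ : maximalIdeal OK = Ideal.span {ϖ}) (x : G) (hx : x ≠ 0) :
    ∃ n : ℕ, ¬ (baseG hG ϖ) ^ (n + 1) ∣ x := by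
  haveI := isDomain_of_good hG
  by_contra hall
  push Not at hall
  have hx₁ : iot G x ≠ 0 := fun h => hx (iot_injective hG (by rw [h, map_zero]))
  have halg : IsAlgebraic OK (iot G x)⁻¹ := by
    rw [IsFractionRing.isAlgebraic_iff OK (FractionRing OK) (Om OK)]
    exact Algebra.IsAlgebraic.isAlgebraic _
  obtain ⟨d, hd0, hdint⟩ := halg.exists_integral_multiple
  have hirr : Irreducible ϖ := by
    have := (IsDiscreteValuationRing.irreducible_iff_uniformizer ϖ).mpr hϖ
    exact this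
  obtain ⟨v, hv⟩ := IsDiscreteValuationRing.associated_pow_irreducible hd0 hirr
  obtain ⟨u, hu⟩ := hv.symm
  -- hu : ϖ ^ v * ↑u = d
  obtain ⟨z, hz⟩ := hall v
  set w : G := baseG hG ϖ * z * baseG hG (↑u⁻¹ : OK) with hw
  have hτw : tau G w = 0 := by
    rw [hw, map_mul, map_mul, tau_pi hG hϖ, zero_mul, zero_mul]
  set y : Om OK := d • (iot G x)⁻¹ with hy
  have hyw : y * iot G w = 1 := by
    rw [hy, hw, Algebra.smul_def, map_mul, map_mul, iot_baseG, iot_baseG, ← hu, map_mul, map_pow]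
    have hxe : iot G x = (algebraMap OK (Om OK) ϖ) ^ (v + 1) * iot G z := by
      rw [hz, map_mul, map_pow, iot_baseG]
    rw [hxe]
    have h1 : algebraMap OK (Om OK) ϖ ≠ 0 := fun h => by
      have := pi_ne_zero hG hϖ
      apply this
      apply iot_injective hG
      rw [iot_baseG, h, map_zero]
    have h2 : iot G z ≠ 0 := by
      intro h; rw [hxe, h, mul_zero] at hx₁; exact hx₁ rfl
    have h3 : algebraMap OK (Om OK) (↑u : OK) * algebraMap OK (Om OK) (↑u⁻¹ : OK) = 1 := by
      rw [← map_mul, Units.mul_inv, map_one]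
    field_simp
    rw [pow_succ]
    linear_combination (algebraMap OK (Om OK) ϖ) ^ v * algebraMap OK (Om OK) ϖ * h3
  obtain ⟨q, hqm, hq⟩ := hdint
  letI : Invertible y := ⟨iot G w, by rw [mul_comm]; exact hyw, hyw⟩
  have hrev := eval₂_reverse_mul_pow (algebraMap OK (Om OK)) y q
  rw [hq] at hrev
  have hy0 : y ≠ 0 := fun h => by rw [h, zero_mul] at hyw; exact zero_ne_one hyw
  have hrev' : eval₂ (algebraMap OK (Om OK)) (iot G w) q.reverse = 0 := by
    have : (⅟y : Om OK) = iot G w := rfl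
    rw [this] at hrev
    exact (mul_eq_zero.mp hrev).resolve_right (pow_ne_zero _ hy0)
  have hc0 : q.reverse.coeff 0 = 1 := by rw [coeff_zero_reverse, hqm.leadingCoeff]
  have hdecomp : q.reverse = divX q.reverse * X + C 1 := by
    conv_lhs => rw [← divX_mul_X_add q.reverse, hc0]
  have hcomp : (algebraMap OK (Om OK)) = (iot G).comp (baseG hG) := by
    exact RingHom.ext fun a => (iot_baseG hG a).symm
  have hE : iot G (eval₂ (baseG hG) w (divX q.reverse) * w + 1) = 0 := by
    rw [map_add, map_mul, map_one, hom_eval₂, ← hcomp]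
    rw [hdecomp, eval₂_add, eval₂_mul, eval₂_X, eval₂_C, map_one] at hrev'
    exact hrev'
  have hE' := iot_injective hG (by rw [hE, map_zero] : iot G (eval₂ (baseG hG) w (divX q.reverse) * w + 1) = iot G 0)
  have hunit : IsUnit w := by
    refine IsUnit.of_mul_eq_one (- eval₂ (baseG hG) w (divX q.reverse)) ?_
    linear_combination -hE'
  exact not_unit_of_tau hG w hτw hunit

lemma isDVR_of_good (hϖ : maximalIdeal OK = Ideal.span {ϖ}) :
    letI := isDomain_of_good hG
    IsDiscreteValuationRing G := by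
  letI := isDomain_of_good hG
  apply IsDiscreteValuationRing.ofHasUnitMulPowIrreducibleFactorization
  have hpi0 := pi_ne_zero hG hϖ
  have hirr : Irreducible (baseG hG ϖ) := by
    rw [irreducible_iff]
    refine ⟨not_unit_of_tau hG _ (tau_pi hG hϖ), ?_⟩
    intro a b hab
    have h0 : tau G a * tau G b = 0 := by rw [← map_mul, ← hab, tau_pi hG hϖ]
    rcases mul_eq_zero.mp h0 with ha | hb
    · right
      obtain ⟨a', rfl⟩ := tau_ker hG a ha
      have : baseG hG ϖ * 1 = baseG hG ϖ * (a' * b) := by rw [mul_one, ← mul_assoc]; exact hab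
      have h1 := mul_left_cancel₀ hpi0 this
      exact IsUnit.of_mul_eq_one a' (by rw [mul_comm]; exact h1.symm)
    · left
      obtain ⟨b', rfl⟩ := tau_ker hG b hb
      have : baseG hG ϖ * 1 = baseG hG ϖ * (a * b') := by
        rw [mul_one]; conv_lhs => rw [hab]
        ring
      have h1 := mul_left_cancel₀ hpi0 this
      exact IsUnit.of_mul_eq_one b' h1.symm
  refine ⟨baseG hG ϖ, hirr, ?_⟩
  intro x hx
  classical
  have hex := exists_not_dvd hG hϖ x hx
  let n := Nat.find hex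
  have hn : ¬ (baseG hG ϖ) ^ (n + 1) ∣ x := Nat.find_spec hex
  have hdvd : (baseG hG ϖ) ^ n ∣ x := by
    rcases Nat.eq_zero_or_pos n with h0 | hpos
    · rw [h0, pow_zero]; exact one_dvd _
    · have := Nat.find_min hex (m := n - 1) (by omega)
      rw [not_not] at this
      rwa [Nat.sub_add_cancel hpos] at this
  obtain ⟨y, hy⟩ := hdvd
  have hyτ : tau G y ≠ 0 := by
    intro h
    obtain ⟨y', rfl⟩ := tau_ker hG y h
    apply hn
    exact ⟨y', by rw [hy, pow_succ]; ring⟩
  obtain ⟨uy, rfl⟩ := tau_unit hG y hyτ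
  exact ⟨n, uy, hy.symm⟩

lemma maximalIdeal_of_good (hϖ : maximalIdeal OK = Ideal.span {ϖ}) :
    letI := isDomain_of_good hG
    haveI := isDVR_of_good hG hϖ
    maximalIdeal G = Ideal.span {baseG hG ϖ} := by
  letI := isDomain_of_good hG
  haveI := isDVR_of_good hG hϖ
  ext g
  rw [mem_maximalIdeal, mem_nonunits_iff, Ideal.mem_span_singleton]
  constructor
  · intro hg
    have : tau G g = 0 := by
      by_contra h; exact hg (tau_unit hG g h)
    obtain ⟨g', rfl⟩ := tau_ker hG g this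
    exact dvd_mul_right _ _
  · rintro ⟨g', rfl⟩
    apply not_unit_of_tau hG
    rw [map_mul, tau_pi hG hϖ, zero_mul]

end good

end

end Groth.Agent.Helper27.Rx
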