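import Mathlib
import Groth.Agent.Lib.Helper27.RxB

/-! S7898: final assembly. -/

open Polynomial IsLocalRing

namespace Groth.Agent.Helper27.Rx

universe u

variable {OK : Type u} [CommRing OK] [IsDomain OK] [IsDiscreteValuationRing OK]
  {k' : Type u} [Field k'] [Algebra (ResidueField OK) k']

lemma tau_surjective [Algebra.IsAlgebraic (ResidueField OK) k'] {ϖ : OK}
    (hϖ : maximalIdeal OK = Ideal.span {ϖ})
    {G : Subring (PP OK k')} (hmax : Maximal (fun G => G ∈ {G | Good OK k' ϖ G}) G) :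
    Function.Surjective (tau G) := by
  have hG : Good OK k' ϖ G := hmax.prop
  letI := isDomain_of_good hG
  haveI := isDVR_of_good hG hϖ
  intro α
  by_contra hα
  have hα' : α ∉ (tau G).range := fun ⟨g, hg⟩ => hα ⟨g, hg⟩
  -- integrality of α
  have hint : ∃ q : (G : Type u)[X], q.Monic ∧ eval₂ (tau G) α q = 0 := by
    have hαint : IsIntegral (ResidueField OK) α := Algebra.IsIntegral.isIntegral α
    have hmonic := minpoly.monic hαint
    have hlift : minpoly (ResidueField OK) α ∈ lifts (residue OK) := by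
      rw [mem_lifts]
      exact map_surjective _ residue_surjective _
    obtain ⟨q₀, hq₀map, -, hq₀monic⟩ := lifts_and_natDegree_eq_and_monic hlift hmonic
    refine ⟨q₀.map (baseG hG), hq₀monic.map _, ?_⟩
    rw [eval₂_map]
    have : (tau G).comp (baseG hG) = (algebraMap (ResidueField OK) k').comp (residue OK) :=
      RingHom.ext fun a => tau_baseG hG a
    rw [this, ← eval₂_map, hq₀map]
    exact minpoly.aeval _ α
  obtain ⟨S, _, j₀, j₁, j₂, hj₁inj, hj₁, hj₂, ⟨s₀, hs₀⟩, hker, hunit⟩ :=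
    step (iot G) (iot_injective hG) (tau G) (tau_unit hG) (baseG hG ϖ)
      (maximalIdeal_of_good hG hϖ) α hα' hint
  let G' : Subring (PP OK k') := (j₁.prod j₂).range
  have hG' : Good OK k' ϖ G' := by
    refine ⟨?_, ?_, ?_, ?_⟩
    · rintro _ ⟨s, rfl⟩ h
      have h1 : j₁ s = 0 := h
      have : s = 0 := hj₁inj (by rw [h1, map_zero])
      rw [this, map_zero]
    · intro a
      refine ⟨j₀ (baseG hG a), ?_⟩
      refine Prod.ext ?_ ?_
      · exact (hj₁ _).trans (iot_baseG hG a)
      · exact (hj₂ _).trans (tau_baseG hG a)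
    · rintro _ ⟨s, rfl⟩ h
      have h1 : j₂ s = 0 := h
      obtain ⟨s', rfl⟩ := hker s h1
      refine ⟨(j₁.prod j₂) s', ⟨s', rfl⟩, ?_⟩
      rw [map_mul]
      congr 1
      refine Prod.ext ?_ ?_
      · exact (hj₁ _).trans (iot_baseG hG ϖ)
      · exact (hj₂ _).trans (tau_baseG hG ϖ)
    · rintro _ ⟨s, rfl⟩ h
      have h1 : j₂ s ≠ 0 := h
      obtain ⟨u, rfl⟩ := hunit s h1
      refine ⟨(j₁.prod j₂) (↑u⁻¹ : S), ⟨_, rfl⟩, ?_⟩
      rw [← map_mul, Units.mul_inv, map_one]
  have hle : G ≤ G' := by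
    intro g hg
    refine ⟨j₀ ⟨g, hg⟩, ?_⟩
    refine Prod.ext ?_ ?_
    · exact hj₁ _
    · exact hj₂ _
  have hle' : G' ≤ G := hmax.le_of_ge hG' hle
  have hmem : (j₁.prod j₂) s₀ ∈ G := hle' ⟨s₀, rfl⟩
  apply hα
  refine ⟨⟨_, hmem⟩, ?_⟩
  exact hs₀

theorem main7898 (OK : Type u) [CommRing OK] [IsDomain OK] [IsDiscreteValuationRing OK]
    (k' : Type u) [Field k'] [Algebra (IsLocalRing.ResidueField OK) k'] [Algebra.IsAlgebraic (IsLocalRing.ResidueField OK) k'] :
    ∃ (OL : Type u) (_ : CommRing OL) (_ : IsDomain OL) (_ : IsDiscreteValuationRing OL) (φ : OK →+* OL),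
      Function.Injective φ ∧ IsLocalHom φ ∧
      Ideal.map φ (IsLocalRing.maximalIdeal OK) = IsLocalRing.maximalIdeal OL ∧
      (∃ e : IsLocalRing.ResidueField OL ≃+* k',
        ∀ a : OK, e (IsLocalRing.residue OL (φ a)) = algebraMap (IsLocalRing.ResidueField OK) k' (IsLocalRing.residue OK a)) ∧
      ∀ x : OL, ∃ p : Polynomial OK, (p.map (algebraMap OK (FractionRing OK))).Separable ∧ Polynomial.eval₂ φ x p = 0 := by
  obtain ⟨ϖ, hϖirr⟩ := IsDiscreteValuationRing.exists_irreducible OK
  have hϖ : maximalIdeal OK = Ideal.span {ϖ} :=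
    (IsDiscreteValuationRing.irreducible_iff_uniformizer ϖ).mp hϖirr
  obtain ⟨G, hmax⟩ := exists_maximal (k' := k') ϖ hϖ
  have hG : Good OK k' ϖ G := hmax.prop
  letI hdom := isDomain_of_good hG
  haveI hdvr := isDVR_of_good hG hϖ
  have hsurj := tau_surjective hϖ hmax
  haveI hloc : IsLocalHom (tau G) := ⟨fun g hg => tau_unit hG g hg.ne_zero⟩
  refine ⟨G, inferInstance, hdom, hdvr, baseG hG, ?_, ?_, ?_, ?_, ?_⟩
  · -- injective
    intro a b hab
    have : iot G (baseG hG a) = iot G (baseG hG b) := by rw [hab]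
    rw [iot_baseG, iot_baseG] at this
    exact algebraMap_Om_injective OK this
  · -- local hom
    refine ⟨fun a ha => ?_⟩
    have h1 : tau G (baseG hG a) ≠ 0 := (ha.map (tau G)).ne_zero
    rw [tau_baseG] at h1
    by_contra hna
    apply h1
    rw [map_eq_zero, residue_eq_zero_iff]
    exact hna
  · rw [hϖ, Ideal.map_span, Set.image_singleton, maximalIdeal_of_good hG hϖ]
  · let e₀ : ResidueField G →+* k' := ResidueField.lift (tau G)
    have he₀ : ∀ g, e₀ (residue G g) = tau G g := fun g => ResidueField.lift_residue_apply (tau G) g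
    have hbij : Function.Bijective e₀ := by
      refine ⟨e₀.injective, fun c => ?_⟩
      obtain ⟨g, rfl⟩ := hsurj c
      exact ⟨residue G g, he₀ g⟩
    refine ⟨RingEquiv.ofBijective e₀ hbij, fun a => ?_⟩
    rw [RingEquiv.ofBijective_apply, he₀, tau_baseG]
  · intro x
    have hsep : IsSeparable (FractionRing OK) (iot G x) := Algebra.IsSeparable.isSeparable _ _
    set m := minpoly (FractionRing OK) (iot G x) with hm
    obtain ⟨b, hb, hbm⟩ := IsLocalization.integerNormalization_spec (nonZeroDivisors OK) m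
    refine ⟨IsLocalization.integerNormalization (nonZeroDivisors OK) m, ?_, ?_⟩
    · rw [hbm, Algebra.smul_def, Polynomial.algebraMap_apply]
      refine Separable.unit_mul ?_ hsep
      rw [isUnit_C]
      exact (IsFractionRing.to_map_ne_zero_of_mem_nonZeroDivisors hb).isUnit
    · apply iot_injective hG
      rw [map_zero, hom_eval₂]
      have hcomp : (iot G).comp (baseG hG) = algebraMap OK (Om OK) :=
        RingHom.ext fun a => iot_baseG hG a
      rw [hcomp, IsScalarTower.algebraMap_eq OK (FractionRing OK) (Om OK), ← eval₂_map, hbm,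
        Algebra.smul_def, eval₂_mul, ← aeval_def (iot G x) m, hm, minpoly.aeval, mul_zero]

end Groth.Agent.Helper27.Rx
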