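import Mathlib

set_option autoImplicit false
set_option linter.style.haveILetI false
universe u
open CategoryTheory AlgebraicGeometry TopologicalSpace Limits

namespace Groth.Agent.Helper27.S384

variable {X S : Scheme.{u}}

/-- the open set where the ideal sheaf vanishes -/
def vanOpen (I : X.IdealSheafData) : X.Opens :=
  ⨆ W : {W : X.affineOpens // I.ideal W = ⊥}, W.1.1

lemma mem_vanOpen (I : X.IdealSheafData) (y : X) :
    y ∈ vanOpen I ↔ ∃ W : X.affineOpens, y ∈ W.1 ∧ I.ideal W = ⊥ := by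
  simp only [vanOpen, TopologicalSpace.Opens.mem_iSup]
  constructor
  · rintro ⟨⟨W, hW⟩, hy⟩
    exact ⟨W, hy, hW⟩
  · rintro ⟨W, hy, hW⟩
    exact ⟨⟨W, hW⟩, hy⟩

/-- Claim A -/
lemma germ_eq_zero_of_mem_vanOpen (I : X.IdealSheafData) (y : X) (hy : y ∈ vanOpen I)
    (V : X.affineOpens) (hyV : y ∈ V.1) (s : Γ(X, V.1)) (hs : s ∈ I.ideal V) :
    X.presheaf.germ V.1 y hyV s = 0 := by
  obtain ⟨W, hyW, hW⟩ := (mem_vanOpen I y).mp hy
  obtain ⟨_, ⟨D, hD, rfl⟩, hyD, hDVW⟩ :=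
    X.isBasis_affineOpens.exists_subset_of_mem_open (show y ∈ (V.1 ⊓ W.1 : X.Opens) from ⟨hyV, hyW⟩)
      (V.1 ⊓ W.1).isOpen
  have hDV : (⟨D, hD⟩ : X.affineOpens) ≤ V := fun z hz => (hDVW hz).1
  have hDW : (⟨D, hD⟩ : X.affineOpens) ≤ W := fun z hz => (hDVW hz).2
  have h1 : (X.presheaf.map (homOfLE hDV).op).hom s ∈ I.ideal ⟨D, hD⟩ :=
    I.ideal_le_comap_ideal hDV hs
  have h2 : I.ideal ⟨D, hD⟩ = ⊥ := by
    rw [← I.map_ideal hDW, hW, Ideal.map_bot]
  rw [h2, Ideal.mem_bot] at h1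
  have h3 := X.presheaf.germ_res_apply (homOfLE hDV) y hyD s
  rw [← h3]
  erw [h1]
  exact map_zero _


/-- Claim B -/
lemma mem_vanOpen_of_germ [IsLocallyNoetherian X] (I : X.IdealSheafData) (y : X)
    (V : X.affineOpens) (hyV : y ∈ V.1)
    (h : ∀ s ∈ I.ideal V, X.presheaf.germ V.1 y hyV s = 0) : y ∈ vanOpen I := by
  classical
  haveI : IsNoetherianRing Γ(X, V.1) := IsLocallyNoetherian.component_noetherian V
  obtain ⟨T, hT⟩ := (isNoetherianRing_iff_ideal_fg Γ(X, V.1)).mp inferInstance (I.ideal V)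
  have key : ∀ T' : Finset Γ(X, V.1), (∀ s ∈ T', X.presheaf.germ V.1 y hyV s = 0) →
      ∃ W : X.Opens, y ∈ W ∧ ∃ hWV : W ≤ V.1,
        ∀ s ∈ T', (X.presheaf.map (homOfLE hWV).op).hom s = 0 := by
    intro T'
    induction T' using Finset.induction_on with
    | empty => intro _; exact ⟨V.1, hyV, le_rfl, by simp⟩
    | insert a T' _ ih =>
      intro hT'
      obtain ⟨W, hyW, hWV, hW⟩ := ih (fun s hs => hT' s (Finset.mem_insert_of_mem hs))
      have ha : X.presheaf.germ V.1 y hyV a = X.presheaf.germ V.1 y hyV 0 := by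
        rw [hT' a (Finset.mem_insert_self _ _), map_zero]
      obtain ⟨W', hyW', i₁, i₂, hW'⟩ := X.presheaf.germ_eq y hyV hyV a 0 ha
      rw [map_zero] at hW'
      refine ⟨W ⊓ W', ⟨hyW, hyW'⟩, inf_le_left.trans hWV, ?_⟩
      intro s hs
      rcases Finset.mem_insert.mp hs with rfl | hs
      · have : (X.presheaf.map (homOfLE (inf_le_left.trans hWV : W ⊓ W' ≤ V.1)).op) =
            X.presheaf.map i₁.op ≫ X.presheaf.map (homOfLE (inf_le_right : W ⊓ W' ≤ W')).op := by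
          rw [← Functor.map_comp]; rfl
        rw [this, CommRingCat.comp_apply]
        erw [hW']
        exact map_zero _
      · have : (X.presheaf.map (homOfLE (inf_le_left.trans hWV : W ⊓ W' ≤ V.1)).op) =
            X.presheaf.map (homOfLE hWV).op ≫ X.presheaf.map (homOfLE (inf_le_left : W ⊓ W' ≤ W)).op := by
          rw [← Functor.map_comp]; rfl
        rw [this, CommRingCat.comp_apply, hW s hs]
        exact map_zero _
  obtain ⟨W, hyW, hWV, hW⟩ := key T (fun s hs => h s (hT ▸ Ideal.subset_span hs))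
  obtain ⟨_, ⟨D, hD, rfl⟩, hyD, hDW⟩ :=
    X.isBasis_affineOpens.exists_subset_of_mem_open hyW W.isOpen
  rw [mem_vanOpen]
  have hDV : (⟨D, hD⟩ : X.affineOpens) ≤ V := fun z hz => hWV (hDW hz)
  refine ⟨⟨D, hD⟩, hyD, ?_⟩
  rw [← I.map_ideal hDV, ← hT, Ideal.map_span, Ideal.span_eq_bot]
  rintro _ ⟨s, hs, rfl⟩
  have : (X.presheaf.map (homOfLE hDV).op) =
      X.presheaf.map (homOfLE hWV).op ≫ X.presheaf.map (homOfLE (show D ≤ W from hDW)).op := by
    rw [← Functor.map_comp]; rfl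
  rw [this, CommRingCat.comp_apply, hW s hs]
  exact map_zero _


lemma exists_lift [IsLocallyNoetherian X] (I : X.IdealSheafData) :
    ∃ g : ((vanOpen I : X.Opens) : Scheme.{u}) ⟶ I.subscheme, g ≫ I.subschemeι = (vanOpen I).ι := by
  have H : I.subschemeι.ker ≤ (vanOpen I).ι.ker := by
    rw [Scheme.IdealSheafData.ker_subschemeι, Scheme.IdealSheafData.le_def]
    intro V s hs
    rw [Scheme.Hom.ker_apply, RingHom.mem_ker, Scheme.Opens.ι_app]
    apply TopCat.Presheaf.section_ext X.sheaf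
    intro y hy
    have hyU : y ∈ vanOpen I := by
      obtain ⟨⟨z, hz⟩, -, rfl⟩ := hy
      exact hz
    have hyV : y ∈ V.1 := by
      obtain ⟨⟨z, hz⟩, hzV, rfl⟩ := hy
      exact hzV
    refine Eq.trans ?_ (map_zero _).symm
    erw [X.presheaf.germ_res_apply]
    exact germ_eq_zero_of_mem_vanOpen I y hyU V hyV s hs
  exact ⟨IsClosedImmersion.lift I.subschemeι (vanOpen I).ι H, IsClosedImmersion.lift_fac _ _ _⟩


set_option maxHeartbeats 800000 in
lemma germ_mem_map [IsLocallyNoetherian X] (p : X ⟶ S) (x : X) (I : X.IdealSheafData) (n : ℕ)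
    (g : pullback p (Spec.map (CommRingCat.ofHom (Ideal.Quotient.mk
        (IsLocalRing.maximalIdeal ↑(S.presheaf.stalk (p.base x)) ^ (n + 1)))) ≫
          S.fromSpecStalk (p.base x)) ⟶ I.subscheme)
    (hg : g ≫ I.subschemeι = pullback.fst p _)
    (V : X.affineOpens) (hxV : x ∈ V.1) (s : Γ(X, V.1)) (hs : s ∈ I.ideal V) :
    X.presheaf.germ V.1 x hxV s ∈ Ideal.map (p.stalkMap x).hom
      (IsLocalRing.maximalIdeal ↑(S.presheaf.stalk (p.base x)) ^ (n + 1)) := by
  let 𝔪 := IsLocalRing.maximalIdeal ↑(S.presheaf.stalk (p.base x))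
  let 𝔞 : Ideal (X.presheaf.stalk x) := Ideal.map (p.stalkMap x).hom (𝔪 ^ (n + 1))
  change X.presheaf.germ V.1 x hxV s ∈ 𝔞
  have h𝔞le : 𝔞 ≤ IsLocalRing.maximalIdeal (X.presheaf.stalk x) := by
    have hloc : IsLocalHom (p.stalkMap x).hom := inferInstance
    have h1 : Ideal.map (p.stalkMap x).hom 𝔪 ≤ IsLocalRing.maximalIdeal (X.presheaf.stalk x) :=
      ((IsLocalRing.local_hom_TFAE (p.stalkMap x).hom).out 0 2).mp hloc
    refine le_trans (Ideal.map_mono (Ideal.pow_le_self (by omega))) h1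
  have h𝔞top : 𝔞 ≠ ⊤ := fun h =>
    (inferInstance : (IsLocalRing.maximalIdeal (X.presheaf.stalk x)).IsMaximal).ne_top
      (top_le_iff.mp (h ▸ h𝔞le))
  haveI : Nontrivial (X.presheaf.stalk x ⧸ 𝔞) := Ideal.Quotient.nontrivial_iff.mpr h𝔞top
  haveI : IsLocalRing (X.presheaf.stalk x ⧸ 𝔞) :=
    IsLocalRing.of_surjective' (Ideal.Quotient.mk 𝔞) Ideal.Quotient.mk_surjective
  let C : CommRingCat.{u} := CommRingCat.of (X.presheaf.stalk x ⧸ 𝔞)
  haveI : IsLocalRing C := ‹IsLocalRing (X.presheaf.stalk x ⧸ 𝔞)›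
  let q : X.presheaf.stalk x ⟶ C := CommRingCat.ofHom (Ideal.Quotient.mk 𝔞)
  haveI : IsLocalHom q.hom := IsLocalHom.of_surjective _ Ideal.Quotient.mk_surjective
  let ψ : (↑(S.presheaf.stalk (p.base x)) ⧸ 𝔪 ^ (n + 1)) →+* (X.presheaf.stalk x ⧸ 𝔞) :=
    Ideal.quotientMap 𝔞 (p.stalkMap x).hom Ideal.le_comap_map
  let α : Spec C ⟶ X := Spec.map q ≫ X.fromSpecStalk x
  let β : Spec C ⟶ Spec (CommRingCat.of (↑(S.presheaf.stalk (p.base x)) ⧸ 𝔪 ^ (n + 1))) :=
    Spec.map (CommRingCat.ofHom ψ)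
  have compat : α ≫ p = β ≫ (Spec.map (CommRingCat.ofHom (Ideal.Quotient.mk (𝔪 ^ (n + 1)))) ≫
      S.fromSpecStalk (p.base x)) := by
    simp only [α, β, Category.assoc]
    rw [← Scheme.SpecMap_stalkMap_fromSpecStalk, ← Category.assoc, ← Category.assoc,
      ← Spec.map_comp, ← Spec.map_comp]
    congr 2
  let ℓ := pullback.lift α β compat
  have hα : α = (ℓ ≫ g) ≫ I.subschemeι := by
    rw [Category.assoc, hg, pullback.lift_fst]
  have hker : I ≤ α.ker := by
    conv_lhs => rw [← I.ker_subschemeι]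
    rw [hα]
    exact Scheme.Hom.le_ker_comp _ _
  have hsα : s ∈ α.ker.ideal V := hker V hs
  haveI : QuasiCompact α := inferInstance
  rw [Scheme.Hom.ker_apply, RingHom.mem_ker] at hsα
  have hcp : α (IsLocalRing.closedPoint C) ∈ V.1 := by
    have : α (IsLocalRing.closedPoint C) = x := by
      simp only [α, Scheme.Hom.comp_apply]
      rw [AlgebraicGeometry.Spec_closedPoint, Scheme.fromSpecStalk_closedPoint]
    rw [this]; exact hxV
  have h1 := Scheme.germ_stalkClosedPointTo_Spec_fromSpecStalk (X := X) (x := x) q V.1 hcp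
  have h2 := Scheme.germ_stalkClosedPointTo (R := C) α V.1 hcp
  have h3 : (X.presheaf.germ V.1 x hxV ≫ q) s = 0 := by
    rw [← h1, h2, CommRingCat.comp_apply, hsα, map_zero]
  rw [CommRingCat.comp_apply] at h3
  exact Ideal.Quotient.eq_zero_iff_mem.mp h3


theorem main384 [IsLocallyNoetherian X] [IsLocallyNoetherian S] (p : X ⟶ S) (t : S)
    (I : X.IdealSheafData)
    (h : ∀ n : ℕ, ∃ g : pullback p (Spec.map (CommRingCat.ofHom (Ideal.Quotient.mk
        (IsLocalRing.maximalIdeal ↑(S.presheaf.stalk t) ^ (n + 1)))) ≫ S.fromSpecStalk t) ⟶ I.subscheme,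
        g ≫ I.subschemeι = pullback.fst p _) :
    ∃ U : X.Opens, (∀ x : X, p.base x = t → x ∈ U) ∧
      ∃ g : (U : Scheme.{u}) ⟶ I.subscheme, g ≫ I.subschemeι = U.ι := by
  refine ⟨vanOpen I, ?_, exists_lift I⟩
  intro x hx
  subst hx
  obtain ⟨_, ⟨V, hV, rfl⟩, hxV, -⟩ :=
    X.isBasis_affineOpens.exists_subset_of_mem_open (Set.mem_univ x) isOpen_univ
  apply mem_vanOpen_of_germ I x ⟨V, hV⟩ hxV
  intro s hs
  have hmem : ∀ n : ℕ, X.presheaf.germ V x hxV s ∈
      IsLocalRing.maximalIdeal (X.presheaf.stalk x) ^ (n + 1) := by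
    intro n
    obtain ⟨g, hg⟩ := h n
    have h1 := germ_mem_map p x I n g hg ⟨V, hV⟩ hxV s hs
    have hloc : IsLocalHom (p.stalkMap x).hom := inferInstance
    have h2 : Ideal.map (p.stalkMap x).hom (IsLocalRing.maximalIdeal ↑(S.presheaf.stalk (p.base x))) ≤
        IsLocalRing.maximalIdeal (X.presheaf.stalk x) :=
      ((IsLocalRing.local_hom_TFAE (p.stalkMap x).hom).out 0 2).mp hloc
    have h3 : Ideal.map (p.stalkMap x).hom
        (IsLocalRing.maximalIdeal ↑(S.presheaf.stalk (p.base x)) ^ (n + 1)) ≤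
        IsLocalRing.maximalIdeal (X.presheaf.stalk x) ^ (n + 1) := by
      rw [Ideal.map_pow]
      exact Ideal.pow_right_mono h2 _
    exact h3 h1
  have hK := Ideal.iInf_pow_eq_bot_of_isLocalRing (IsLocalRing.maximalIdeal (X.presheaf.stalk x))
    (inferInstance : (IsLocalRing.maximalIdeal (X.presheaf.stalk x)).IsMaximal).ne_top
  have : X.presheaf.germ V x hxV s ∈ ⨅ i, IsLocalRing.maximalIdeal (X.presheaf.stalk x) ^ i := by
    rw [Ideal.mem_iInf]
    intro i
    exact Ideal.pow_le_pow_right (Nat.le_succ i) (hmem i)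
  rw [hK] at this
  exact this

end Groth.Agent.Helper27.S384
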