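import Mathlib
import Groth.Prelude.Def_FEt

set_option autoImplicit false
set_option linter.style.haveILetI false
universe u
open CategoryTheory AlgebraicGeometry TopologicalSpace Limits

namespace Groth.Agent.Helper27.S402

section Top

variable {A B : Type*} [TopologicalSpace A] [TopologicalSpace B]

/-- a subset stable under generization and specialization of a quasi-sober space with finitely many
irreducible components is closed -/
lemma isClosed_of_stable [QuasiSober B] (hfin : (irreducibleComponents B).Finite)
    (S : Set B) (hg : StableUnderGeneralization S) (hs : StableUnderSpecialization S) :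
    IsClosed S := by
  have : S = ⋃ C ∈ {C ∈ irreducibleComponents B | C ⊆ S}, C := by
    apply Set.Subset.antisymm
    · intro b hb
      let C := irreducibleComponent b
      have hC : C ∈ irreducibleComponents B := irreducibleComponent_mem_irreducibleComponents b
      have hCirr : IsIrreducible C := hC.1
      have hCcl : IsClosed C := isClosed_of_mem_irreducibleComponents C hC
      have hξ := hCirr.isGenericPoint_genericPoint hCcl
      have hbC : b ∈ C := mem_irreducibleComponent
      have hξS : hCirr.genericPoint ∈ S := hg (hξ.specializes hbC) hb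
      simp only [Set.mem_iUnion]
      refine ⟨C, ⟨hC, ?_⟩, hbC⟩
      intro c hc
      exact hs (hξ.specializes hc) hξS
    · intro b hb
      simp only [Set.mem_iUnion] at hb
      obtain ⟨C, ⟨-, hCS⟩, hbC⟩ := hb
      exact hCS hbC
  rw [this]
  apply Set.Finite.isClosed_biUnion (hfin.subset (fun C hC => hC.1))
  intro C hC
  exact isClosed_of_mem_irreducibleComponents C hC.1

lemma connectedSpace_of_generalizing [QuasiSober B] (hfin : (irreducibleComponents B).Finite)
    [ConnectedSpace B] (q : A → B) (hq : Continuous q) (hgen : GeneralizingMap q)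
    (hsurj : Function.Surjective q) (hfib : ∀ b, IsPreconnected (q ⁻¹' {b})) :
    ConnectedSpace A := by
  haveI : Nonempty A := by
    obtain ⟨b⟩ : Nonempty B := inferInstance
    obtain ⟨a, -⟩ := hsurj b
    exact ⟨a⟩
  suffices h : PreconnectedSpace A from { toPreconnectedSpace := h, toNonempty := inferInstance }
  rw [preconnectedSpace_iff_clopen]
  intro S hS
  -- S is saturated
  have hsat : ∀ a a', q a = q a' → a ∈ S → a' ∈ S := by
    intro a a' haa' ha
    have := (hfib (q a)).subset_isClopen hS ⟨a, rfl, ha⟩
    exact this haa'.symm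
  have hpre : q ⁻¹' (q '' S) = S := by
    apply Set.Subset.antisymm
    · rintro a' ⟨a, ha, haa'⟩
      exact hsat a a' haa' ha
    · exact Set.subset_preimage_image q S
  have hcompl : (q '' S)ᶜ = q '' Sᶜ := by
    apply Set.Subset.antisymm
    · intro b hb
      obtain ⟨a, rfl⟩ := hsurj b
      exact ⟨a, fun ha => hb ⟨a, ha, rfl⟩, rfl⟩
    · rintro _ ⟨a, ha, rfl⟩ ⟨a', ha', haa'⟩
      exact ha (hsat a' a haa' ha')
  have hgenS : ∀ T : Set A, IsOpen T → StableUnderGeneralization (q '' T) := by
    rintro T hT b b' hbb' ⟨a, ha, rfl⟩
    obtain ⟨a', ha', rfl⟩ := hgen hbb'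
    exact ⟨a', hT.stableUnderGeneralization ha' ha, rfl⟩
  have h1 : StableUnderGeneralization (q '' S) := hgenS S hS.2
  have h2 : StableUnderGeneralization (q '' S)ᶜ := by
    rw [hcompl]; exact hgenS Sᶜ hS.1.isOpen_compl
  have h3 : StableUnderSpecialization (q '' S) := by
    rw [← stableUnderGeneralization_compl_iff]; exact h2
  have h4 : StableUnderSpecialization (q '' S)ᶜ := by
    rw [stableUnderSpecialization_compl_iff]; exact h1
  have hcl : IsClosed (q '' S) := isClosed_of_stable hfin _ h1 h3
  have hop : IsOpen (q '' S) := by
    rw [← isClosed_compl_iff]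
    exact isClosed_of_stable hfin _ h2 h4
  rcases isClopen_iff.mp ⟨hcl, hop⟩ with h | h
  · left
    rw [← hpre, h, Set.preimage_empty]
  · right
    rw [← hpre, h, Set.preimage_univ]

end Top


lemma finite_irreducibleComponents {Z X : Scheme.{u}} [IrreducibleSpace X] (h : Z ⟶ X) [Flat h]
    [IsFinite h] : (irreducibleComponents Z).Finite := by
  have hsub : genericPoints Z ⊆ h ⁻¹' {genericPoint X} := by
    intro ξ hξ
    have hspec : genericPoint X ⤳ h ξ := genericPoint_specializes _
    obtain ⟨ξ', hξ', hhξ'⟩ := (Flat.generalizingMap (f := h)) hspec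
    have hle : closure {ξ} ⊆ closure {ξ'} := hξ'.closure_subset
    have hirr : IsIrreducible (closure {ξ'}) := isIrreducible_singleton.closure
    have heq : closure {ξ'} = closure {ξ} := by
      have hξ2 : closure {ξ} ∈ irreducibleComponents Z := hξ
      exact (Set.Subset.antisymm (hξ2.2 hirr hle) hle)
    have : ξ' = ξ := by
      have h1 : IsGenericPoint ξ' (closure {ξ}) := heq
      have h2 : IsGenericPoint ξ (closure {ξ}) := rfl
      exact h1.eq h2
    rw [Set.mem_preimage, Set.mem_singleton_iff, ← this]
    exact hhξ'
  have hfin : (genericPoints Z).Finite := (IsFinite.finite_preimage_singleton h _).subset hsub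
  haveI : Finite (genericPoints Z) := hfin
  exact Set.finite_coe_iff.mp (Finite.of_equiv _ genericPoints.equiv)

theorem main402' {X W Z₀ : Scheme.{u}}
    [IrreducibleSpace X] (π : W ⟶ X) [Flat π] [GeometricallyIrreducible π]
    (h : Z₀ ⟶ X) [IsFinite h] [Flat h] [ConnectedSpace Z₀] :
    ConnectedSpace ↥(pullback h π) := by
  have hfin := finite_irreducibleComponents h
  refine connectedSpace_of_generalizing hfin (pullback.fst h π) (pullback.fst h π).continuous
    (Flat.generalizingMap (f := pullback.fst h π)) (pullback.fst h π).surjective ?_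
  intro z
  rw [← (pullback.fst h π).range_fiberι z, ← Set.image_univ]
  exact ((IrreducibleSpace.isIrreducible_univ _).image _
    ((pullback.fst h π).fiberι z).continuous.continuousOn).isPreirreducible.isPreconnected

theorem main402 {X W : Scheme.{u}}
    [IrreducibleSpace X] (π : W ⟶ X) [Flat π] [GeometricallyIrreducible π]
    (Z : FEt.Cat X) [hc : ConnectedSpace Z.left] :
    ConnectedSpace ↥(pullback Z.hom π) := by
  have h1 : IsFinite Z.hom := Z.prop.1
  have h2 : Etale Z.hom := Z.prop.2
  have h3 : Flat Z.hom := inferInstance
  exact @main402' X W Z.left _ π _ _ Z.hom h1 h3 hc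

end Groth.Agent.Helper27.S402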