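import Mathlib

set_option autoImplicit false
set_option linter.style.haveILetI false
universe u
open CategoryTheory AlgebraicGeometry TopologicalSpace Limits

namespace Groth.Agent.Helper27.S580

variable {X Y : Scheme.{u}}

lemma isOpenImmersion_of_section (f : X ⟶ Y) [FormallyUnramified f] [LocallyOfFiniteType f]
    (s : Y ⟶ X) (hs : s ≫ f = 𝟙 Y) : IsOpenImmersion s := by
  have hP : (@IsOpenImmersion).HasOfPostcompProperty (@FormallyUnramified ⊓ @LocallyOfFiniteType) := by
    rw [MorphismProperty.hasOfPostcompProperty_iff_le_diagonal]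
    intro A B g hg
    haveI := hg.1
    haveI := hg.2
    change IsOpenImmersion (pullback.diagonal g)
    infer_instance
  exact hP.of_postcomp s f ⟨inferInstance, inferInstance⟩ (by rw [hs]; infer_instance)


lemma range_eq_connectedComponent (f : X ⟶ Y) [IsSeparated f] [ConnectedSpace Y]
    (s : Y ⟶ X) (hs : s ≫ f = 𝟙 Y) [IsOpenImmersion s] :
    ∃ x : X, (s.opensRange : Set X) = connectedComponent x := by
  haveI : IsClosedImmersion (s ≫ f) := by rw [hs]; infer_instance
  haveI : IsClosedImmersion s := IsClosedImmersion.of_comp s f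
  obtain ⟨y⟩ : Nonempty Y := inferInstance
  refine ⟨s y, ?_⟩
  have hclopen : IsClopen (Set.range s) :=
    ⟨s.isClosedEmbedding.isClosed_range, s.isOpenEmbedding.isOpen_range⟩
  have hconn : _root_.IsPreconnected (Set.range s) := (isConnected_range s.continuous).isPreconnected
  apply Set.Subset.antisymm
  · exact hconn.subset_connectedComponent ⟨y, rfl⟩
  · exact hclopen.connectedComponent_subset ⟨y, rfl⟩

lemma isIso_ι_comp (f : X ⟶ Y) (s : Y ⟶ X) (hs : s ≫ f = 𝟙 Y) [IsOpenImmersion s] :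
    IsIso (s.opensRange.ι ≫ f) := by
  have h1 : s.isoOpensRange.hom ≫ (s.opensRange.ι ≫ f) = 𝟙 Y := by
    rw [← Category.assoc, Scheme.Hom.isoOpensRange_hom_ι, hs]
  have h2 : s.opensRange.ι ≫ f = s.isoOpensRange.inv := by
    rw [← cancel_epi s.isoOpensRange.hom, h1, Iso.hom_inv_id]
  rw [h2]
  infer_instance

lemma inv_comp_eq (f : X ⟶ Y) (s : Y ⟶ X) (hs : s ≫ f = 𝟙 Y) [IsOpenImmersion s]
    [IsIso (s.opensRange.ι ≫ f)] :
    inv (s.opensRange.ι ≫ f) ≫ s.opensRange.ι = s := by
  have h1 : s.isoOpensRange.hom ≫ (s.opensRange.ι ≫ f) = 𝟙 Y := by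
    rw [← Category.assoc, Scheme.Hom.isoOpensRange_hom_ι, hs]
  have h2 : inv (s.opensRange.ι ≫ f) = s.isoOpensRange.hom := by
    rw [IsIso.inv_eq_of_inv_hom_id h1]
  rw [h2, Scheme.Hom.isoOpensRange_hom_ι]

theorem main580 (f : X ⟶ Y)
    [FormallyUnramified f] [LocallyOfFiniteType f] [IsSeparated f] [ConnectedSpace Y] :
    ∃ e : {s : Y ⟶ X // s ≫ f = 𝟙 Y} ≃
        {U : X.Opens // (∃ x : X, (U : Set X) = connectedComponent x) ∧ IsIso (U.ι ≫ f)},
      ∀ s : {s : Y ⟶ X // s ≫ f = 𝟙 Y}, ((e s).1 : Set X) = Set.range s.1 := by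
  refine ⟨{
    toFun := fun s =>
      haveI := isOpenImmersion_of_section f s.1 s.2
      ⟨s.1.opensRange, range_eq_connectedComponent f s.1 s.2, isIso_ι_comp f s.1 s.2⟩
    invFun := fun U =>
      haveI := U.2.2
      ⟨inv (U.1.ι ≫ f) ≫ U.1.ι, by rw [Category.assoc, IsIso.inv_hom_id]⟩
    left_inv := ?_
    right_inv := ?_ }, ?_⟩
  · intro s
    haveI := isOpenImmersion_of_section f s.1 s.2
    haveI := isIso_ι_comp f s.1 s.2
    apply Subtype.ext
    exact inv_comp_eq f s.1 s.2
  · intro U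
    haveI := U.2.2
    apply Subtype.ext
    apply TopologicalSpace.Opens.ext
    change Set.range (inv (U.1.ι ≫ f) ≫ U.1.ι) = (U.1 : Set X)
    rw [Scheme.Hom.comp_base, TopCat.coe_comp, Set.range_comp,
      Set.range_eq_univ.mpr (inv (U.1.ι ≫ f)).surjective, Set.image_univ]
    exact U.1.range_ι
  · intro s
    rfl

end Groth.Agent.Helper27.S580
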