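import Mathlib
import Groth.Agent.Lib.Helper27.LocQ
import Groth.Agent.Lib.Helper27.HasseN

set_option autoImplicit false

namespace Groth.Agent.Helper27.SFix

open PowerSeries FunFld IntermediateField
open scoped LaurentSeries
open Groth.Agent.Helper16.FF Groth.Agent.Helper27.Hasse Groth.Agent.Helper27.Expn
  Groth.Agent.Helper27.Loc

variable {k K : Type*} [Field k] [Field K] [Algebra k K]

/-! ### combinatorics of strictly increasing sequences -/

theorem strictMono_add_le {n : ℕ} (J : Fin n → ℕ) (hJ : StrictMono J) :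
    ∀ (d : ℕ) (l l' : Fin n), (l' : ℕ) = (l : ℕ) + d → J l + d ≤ J l' := by
  intro d
  induction d with
  | zero =>
    intro l l' h
    have : l = l' := Fin.ext (by omega)
    rw [this]; omega
  | succ d ih =>
    intro l l' h
    have hlt : (l : ℕ) + d < n := by have := l'.2; omega
    have h1 := ih l ⟨(l : ℕ) + d, hlt⟩ rfl
    have h2 : J ⟨(l : ℕ) + d, hlt⟩ < J l' := hJ (by
      rw [Fin.lt_def]; simp only; omega)
    omega

theorem two_mul_sum_range (n : ℕ) : 2 * ∑ l ∈ Finset.range n, (l : ℤ) = (n : ℤ) * ((n : ℤ) - 1) := by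
  induction n with
  | zero => simp
  | succ n ih =>
    rw [Finset.sum_range_succ, mul_add, ih]
    push_cast
    ring

theorem two_mul_sum_fin (n : ℕ) : 2 * ∑ l : Fin n, ((l : ℕ) : ℤ) = (n : ℤ) * ((n : ℤ) - 1) := by
  rw [Fin.sum_univ_eq_sum_range (fun l => (l : ℤ)) n]
  exact two_mul_sum_range n

/-- lower bound for the sum of a strictly increasing sequence -/
theorem le_two_mul_sum {n : ℕ} (J : Fin n → ℕ) (hJ : StrictMono J) :
    (n : ℤ) * ((n : ℤ) - 1) ≤ 2 * ∑ l, (J l : ℤ) := by
  rw [← two_mul_sum_fin]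
  apply mul_le_mul_of_nonneg_left _ (by norm_num)
  apply Finset.sum_le_sum
  intro l _
  rcases Nat.eq_zero_or_pos n with h0 | hpos
  · subst h0; exact l.elim0
  have := strictMono_add_le J hJ (l : ℕ) ⟨0, hpos⟩ l (by simp)
  have h2 : (l : ℕ) ≤ J l := by omega
  exact_mod_cast h2

/-- upper bound for the sum of the orders at a point -/
theorem two_mul_sum_le (a g : ℕ) (J' : Fin (a + g) → ℕ) (hJ' : StrictMono J')
    (h1 : ∀ l, 1 ≤ J' l) (hm : ∀ l, J' l ≤ a + 2 * g)
    (hr : ∀ j, 1 ≤ j → j ≤ a → j ∈ Set.range J') :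
    2 * ∑ l, ((J' l : ℤ) - 1) ≤
      ((a + g : ℕ) : ℤ) * (((a + g : ℕ) : ℤ) - 1) + 2 * (g : ℤ) ^ 2 := by
  classical
  -- (ii) the first `a` orders are `1, …, a`
  have hii : ∀ (N : ℕ) (l : Fin (a + g)), (l : ℕ) = N → (l : ℕ) < a → J' l = (l : ℕ) + 1 := by
    intro N
    induction N using Nat.strong_induction_on with
    | _ N ih =>
      intro l hlN hla
      have hpos : 0 < a + g := by have := l.2; omega
      have hlow := strictMono_add_le J' hJ' (l : ℕ) ⟨0, hpos⟩ l (by simp)
      have h0 := h1 ⟨0, hpos⟩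
      obtain ⟨l', hl'⟩ := hr ((l : ℕ) + 1) (by omega) (by omega)
      by_cases hlt : (l' : ℕ) < (l : ℕ)
      · have := ih (l' : ℕ) (by omega) l' rfl (by omega)
        omega
      · have hle : l ≤ l' := by rw [Fin.le_def]; omega
        have := hJ'.monotone hle
        omega
  -- (i) general bound
  have hi : ∀ l : Fin (a + g), J' l ≤ (l : ℕ) + 1 + g := by
    intro l
    have hpos : 0 < a + g := by have := l.2; omega
    have := strictMono_add_le J' hJ' (a + g - 1 - (l : ℕ)) l ⟨a + g - 1, by omega⟩ (by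
      have := l.2; simp only; omega)
    have h2 := hm ⟨a + g - 1, by omega⟩
    have := l.2
    omega
  -- termwise bound
  have hterm : ∀ l : Fin (a + g), ((J' l : ℤ) - 1) ≤
      ((l : ℕ) : ℤ) + (if (l : ℕ) < a then 0 else (g : ℤ)) := by
    intro l
    split_ifs with h
    · have := hii (l : ℕ) l rfl h
      rw [this]; push_cast; ring_nf; rfl
    · have := hi l
      have h' : (J' l : ℤ) ≤ ((l : ℕ) : ℤ) + 1 + g := by exact_mod_cast this
      linarith
  have hsum : ∑ l : Fin (a + g), ((J' l : ℤ) - 1) ≤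
      ∑ l : Fin (a + g), (((l : ℕ) : ℤ) + (if (l : ℕ) < a then 0 else (g : ℤ))) :=
    Finset.sum_le_sum fun l _ => hterm l
  have hsplit : ∑ l : Fin (a + g), (((l : ℕ) : ℤ) + (if (l : ℕ) < a then 0 else (g : ℤ))) =
      ∑ l : Fin (a + g), ((l : ℕ) : ℤ) + (g : ℤ) * g := by
    rw [Finset.sum_add_distrib]
    congr 1
    rw [Fin.sum_univ_eq_sum_range (fun l => if l < a then (0 : ℤ) else (g : ℤ)) (a + g),
      Finset.sum_range_add]
    have e1 : ∑ x ∈ Finset.range a, (if x < a then (0 : ℤ) else (g : ℤ)) = 0 := by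
      apply Finset.sum_eq_zero
      intro x hx
      rw [Finset.mem_range] at hx
      rw [if_pos hx]
    have e2 : ∑ x ∈ Finset.range g, (if a + x < a then (0 : ℤ) else (g : ℤ)) = g * g := by
      rw [Finset.sum_congr rfl (fun x _ => if_neg (by omega))]
      simp
    rw [e1, e2, zero_add]
  have h2 := two_mul_sum_fin (a + g)
  calc 2 * ∑ l, ((J' l : ℤ) - 1)
      ≤ 2 * (∑ l : Fin (a + g), ((l : ℕ) : ℤ) + (g : ℤ) * g) := by
        rw [← hsplit]; linarith
    _ = _ := by rw [mul_add, h2]; ring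

/-! ### pole numbers -/

theorem mem_L_single_of_le (P : Place k K) {m m' : ℤ} (h : m ≤ m') :
    L (Finsupp.single P m : Divisor k K) ≤ L (Finsupp.single P m') := by
  classical
  apply L_mono
  intro Q
  rw [Finsupp.single_apply, Finsupp.single_apply]
  split_ifs <;> omega

/-- Every integer `≥ 2g` is a pole number. -/
theorem exists_pole_eq [IsAlgClosed k] (hK : IsFunctionField k K) (P : Place k K) (m : ℕ)
    (hm : 2 * genus k K ≤ m) :
    ∃ h ∈ L (Finsupp.single P (m : ℤ) : Divisor k K), P.1 h = WithZero.exp (m : ℤ) := by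
  classical
  have hP : P.deg = 1 := Place.deg_eq_one hK P
  rcases Nat.eq_zero_or_pos m with h0 | hpos
  · subst h0
    refine ⟨1, ?_, by simp⟩
    intro Q
    rw [map_one, ← WithZero.exp_zero, WithZero.exp_le_exp]
    simp
  set D₂ : Divisor k K := Finsupp.single P (m : ℤ) with hD₂
  set D₁ : Divisor k K := Finsupp.single P ((m : ℤ) - 1) with hD₁
  have hd2 : D₂.deg = m := by rw [hD₂, Divisor.deg_single, hP]; simp
  have hd1 : D₁.deg = (m : ℤ) - 1 := by rw [hD₁, Divisor.deg_single, hP]; simp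
  have e2 := ell_eq_of_large hK (D := D₂) (by rw [hd2]; omega)
  have e1 := ell_eq_of_large hK (D := D₁) (by rw [hd1]; omega)
  rw [hd2] at e2
  rw [hd1] at e1
  have hle : L D₁ ≤ L D₂ := mem_L_single_of_le P (by omega)
  have hne : ¬ L D₂ ≤ L D₁ := by
    intro h'
    have : L D₁ = L D₂ := le_antisymm hle h'
    have : ell D₁ = ell D₂ := by unfold ell; rw [this]
    omega
  obtain ⟨h, hh2, hh1⟩ := Set.not_subset.1 hne
  refine ⟨h, hh2, ?_⟩
  -- `h ∉ L D₁`
  have : ¬ ∀ Q : Place k K, Q.1 h ≤ WithZero.exp (D₁ Q) := hh1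
  push Not at this
  obtain ⟨Q, hQ⟩ := this
  have hQP : Q = P := by
    by_contra hne'
    have h2 := hh2 Q
    rw [hD₂, Finsupp.single_apply, if_neg (Ne.symm hne')] at h2
    rw [hD₁, Finsupp.single_apply, if_neg (Ne.symm hne')] at hQ
    exact absurd h2 (not_le.2 hQ)
  subst hQP
  rw [hD₁, Finsupp.single_eq_same] at hQ
  have h2 := hh2 Q
  rw [hD₂, Finsupp.single_eq_same] at h2
  have hh0 : Q.1 h ≠ 0 := by
    intro h0; rw [h0] at hQ; exact not_lt.2 zero_le hQ
  obtain ⟨b, hb⟩ : ∃ b : ℤ, Q.1 h = WithZero.exp b :=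
    ⟨WithZero.log (Q.1 h), (WithZero.exp_log hh0).symm⟩
  rw [hb, WithZero.exp_lt_exp] at hQ
  rw [hb, WithZero.exp_le_exp] at h2
  rw [hb]
  congr 1
  omega

/-- A nonzero function with poles only at `P` is not in the maximal ideal at `P`. -/
theorem one_le_val_of_mem_L_single (hK : IsFunctionField k K) (P : Place k K) (m : ℤ)
    {h : K} (hh : h ∈ L (Finsupp.single P m : Divisor k K)) (h0 : h ≠ 0) : 1 ≤ P.1 h := by
  classical
  by_contra hlt
  push Not at hlt
  have hmem : h ∈ L (Finsupp.single P (-1 : ℤ) : Divisor k K) := by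
    intro Q
    by_cases hQ : Q = P
    · subst hQ
      rw [Finsupp.single_eq_same]
      rw [Place.val_lt_one_iff Q h0] at hlt
      rw [Place.val_le_exp_iff Q h0]
      omega
    · have := hh Q
      rw [Finsupp.single_apply, if_neg (Ne.symm hQ)] at this ⊢
      exact this
  have hdeg : Divisor.deg (Finsupp.single P (-1 : ℤ) : Divisor k K) < 0 := by
    rw [Divisor.deg_single]
    have := Place.deg_pos hK P
    have : (0 : ℤ) < (P.deg : ℤ) := by exact_mod_cast this
    linarith
  rw [L_eq_bot_of_deg_neg hK hdeg, Submodule.mem_bot] at hmem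
  exact h0 hmem

/-- membership in a scaled span -/
theorem mem_span_mul_iff {ι : Type*} [Fintype ι] (φ : ι → K) (y : K) (f : K) :
    f ∈ Submodule.span k (Set.range (fun i => y * φ i)) ↔
      ∃ g ∈ Submodule.span k (Set.range φ), f = y * g := by
  constructor
  · intro hf
    obtain ⟨c, rfl⟩ := (Submodule.mem_span_range_iff_exists_fun k).1 hf
    refine ⟨∑ i, c i • φ i, Submodule.sum_mem _ fun i _ =>
      Submodule.smul_mem _ _ (Submodule.subset_span ⟨i, rfl⟩), ?_⟩
    rw [Finset.mul_sum]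
    refine Finset.sum_congr rfl fun i _ => ?_
    simp only [Algebra.smul_def]; ring
  · rintro ⟨g, hg, rfl⟩
    obtain ⟨c, rfl⟩ := (Submodule.mem_span_range_iff_exists_fun k).1 hg
    rw [Finset.mul_sum]
    refine Submodule.sum_mem _ fun i _ => ?_
    have : y * c i • φ i = c i • (y * φ i) := by
      simp only [Algebra.smul_def]; ring
    rw [this]
    exact Submodule.smul_mem _ _ (Submodule.subset_span ⟨i, rfl⟩)

/-- A Hasse family with respect to any local parameter. -/
theorem exists_hasse_unif [IsAlgClosed k] (hK : IsFunctionField k K) (P : Place k K) (t : K)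
    (ht : P.1 t = WithZero.exp (-1)) : ∃ Ht : K →ₐ[k] K⟦X⟧, LocRes.IsHasseFamily t Ht := by
  have h1 := finrank_kaehler_of_isAlgClosed hK
  obtain ⟨s, H, hH⟩ := exists_hasseFamily hK
  obtain ⟨ε, hε, -⟩ := exists_expansion hK P t ht
  have hds := ds_ne_zero s H hH
  have hdt := D_unif_ne_zero h1 P ε hε s hds t ht
  obtain ⟨c, hc⟩ := (finrank_eq_one_iff_of_nonzero' (KaehlerDifferential.D k K s) hds).1 h1
    (KaehlerDifferential.D k K t)
  have hcu := D_eq_hasseD_one_smul h1 s H hH t c hc.symm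
  have hu : coeff 1 (H t) ≠ 0 := by
    intro hu0
    rw [LocRes.hasseD_apply, hu0] at hcu
    rw [hcu, zero_smul] at hc
    exact hdt hc.symm
  exact exists_hasse s H hH t hu

end Groth.Agent.Helper27.SFix
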