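import Mathlib
import Groth.Agent.Lib.Helper27.SFixA

set_option autoImplicit false

namespace Groth.Agent.Helper27.SFix

open PowerSeries FunFld IntermediateField
open scoped LaurentSeries
open Groth.Agent.Helper16.FF Groth.Agent.Helper27.Hasse Groth.Agent.Helper27.Expn
  Groth.Agent.Helper27.Loc

variable {k K : Type*} [Field k] [Field K] [Algebra k K]

theorem key [IsAlgClosed k] (hK : IsFunctionField k K) (τ : K →ₐ[k] K) (a g : ℕ)
    (hg : genus k K = g) (ha : 1 ≤ a) (P₀ : Place k K) (hP₀ : IsStrongFixedPt τ P₀) :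
    {P : Place k K | IsStrongFixedPt τ P}.Finite ∧
    ((a + g : ℕ) : ℤ) * (Set.ncard {P : Place k K | IsStrongFixedPt τ P} : ℤ) ≤
      (((a + g : ℕ) : ℤ) + Module.finrank τ.fieldRange K) * (((a + g : ℕ) : ℤ) + g) +
        ((g : ℤ) - 1) * (((a + g : ℕ) : ℤ) * (((a + g : ℕ) : ℤ) - 1) + 2 * (g : ℤ) ^ 2) := by
  classical
  have hPdeg : P₀.deg = 1 := Place.deg_eq_one hK P₀
  set D : Divisor k K := Finsupp.single P₀ ((a + g + g : ℕ) : ℤ) with hD
  have hDdeg : D.deg = ((a + g + g : ℕ) : ℤ) := by rw [hD, Divisor.deg_single, hPdeg]; simp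
  have hell : Module.finrank k (L D) = a + g + 1 := by
    have h1 := ell_eq_of_large hK (D := D) (by rw [hDdeg, hg]; push_cast; omega)
    rw [hDdeg, hg] at h1
    have : (ell D : ℤ) = ((a + g + 1 : ℕ) : ℤ) := by rw [h1]; push_cast; ring
    exact_mod_cast this
  haveI := finiteDimensional_L hK D
  let b := Module.finBasisOfFinrankEq k (L D) hell
  set φ : Fin (a + g + 1) → K := fun i => (b i : K) with hφdef
  have hφ : LinearIndependent k φ :=
    b.linearIndependent.map' (L D).subtype (Submodule.ker_subtype _)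
  have hspan : Submodule.span k (Set.range φ) = L D := by
    have : Set.range φ = (L D).subtype '' Set.range b := by
      rw [← Set.range_comp]; rfl
    rw [this, Submodule.span_image, b.span_eq, Submodule.map_subtype_top]
  have hφmem : ∀ i, φ i ∈ L D := fun i => (b i).2
  -- elements with prescribed poles
  obtain ⟨h₁, hh₁, hh₁v⟩ := exists_pole_eq hK P₀ (a + g + g) (by rw [hg]; omega)
  obtain ⟨h₂, hh₂, hh₂v⟩ := exists_pole_eq hK P₀ (a + g + g - 1) (by rw [hg]; omega)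
  have hh₂' : h₂ ∈ L D := mem_L_single_of_le P₀ (by omega) hh₂
  -- `τ φ` is not a multiple of `φ`
  have hτφ : ¬ ∃ y : K, ∀ i, τ (φ i) = y * φ i := by
    rintro ⟨y, hy⟩
    have hall : ∀ f ∈ L D, τ f = y * f := by
      intro f hf
      rw [← hspan] at hf
      obtain ⟨c, rfl⟩ := (Submodule.mem_span_range_iff_exists_fun k).1 hf
      rw [map_sum, Finset.mul_sum]
      refine Finset.sum_congr rfl fun i _ => ?_
      rw [map_smul, hy i, mul_smul_comm]
    have h1mem : (1 : K) ∈ L D := by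
      intro Q
      rw [map_one, ← WithZero.exp_zero, WithZero.exp_le_exp, hD, Finsupp.single_apply]
      split_ifs
      · positivity
      · exact le_rfl
    have hy1 : y = 1 := by
      have := hall 1 h1mem
      rw [map_one, mul_one] at this
      exact this.symm
    have e1 := hall h₁ hh₁
    have e2 := hall h₂ hh₂'
    rw [hy1, one_mul] at e1 e2
    have hu : P₀.1 (h₂ / h₁) = WithZero.exp (-1) := by
      rw [map_div₀, hh₁v, hh₂v, ← WithZero.exp_sub]
      congr 1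
      omega
    have hτu : τ (h₂ / h₁) = h₂ / h₁ := by rw [map_div₀, e1, e2]
    have := hP₀ (h₂ / h₁) (by rw [hu, ← WithZero.exp_zero, WithZero.exp_lt_exp]; norm_num)
    rw [hτu, hu, WithZero.exp_le_exp] at this
    omega
  -- Hasse family at `P₀`
  obtain ⟨t, ht⟩ := Place.exists_uniformizer P₀
  obtain ⟨Ht, hHt⟩ := exists_hasse_unif hK P₀ t ht
  have h1 := finrank_kaehler_of_isAlgClosed hK
  have hc0 : hcol τ Ht φ 0 ≠ 0 := by
    intro h
    have := congrFun h 0
    simp only [hcol, Pi.zero_apply] at this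
    exact hφ.ne_zero 0 ((map_eq_zero_iff τ τ.injective).1 this)
  obtain ⟨J, hJ⟩ := exists_orders (hcol τ Ht φ) hc0 (span_hcol_eq_top hK h1 t Ht hHt τ φ hφ)
  obtain ⟨hfin, hbound⟩ := main12604 hK τ φ hφ hτφ t Ht hHt J hJ
  refine ⟨hfin, ?_⟩
  -- degree of the map
  have hmd : (mapDiv k φ).deg ≤ ((a + g + g : ℕ) : ℤ) := by
    rw [← hDdeg]
    apply Divisor.deg_mono
    intro P
    obtain ⟨j, hj⟩ := exists_val_eq_exp_mapDiv hK φ (fun i => hφ.ne_zero i) P
    have := hφmem j P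
    rw [hj, WithZero.exp_le_exp] at this
    exact this
  -- normalisation at `P₀`
  obtain ⟨j0, -, hj0⟩ := Finset.exists_max_image Finset.univ (fun i => P₀.1 (φ i))
    Finset.univ_nonempty
  have hφj0 : φ j0 ≠ 0 := hφ.ne_zero j0
  have hvj0 : P₀.1 (φ j0) = WithZero.exp (((a + g + g : ℕ) : ℤ)) := by
    apply le_antisymm
    · have := hφmem j0 P₀
      rwa [hD, Finsupp.single_eq_same] at this
    · rw [← hspan] at hh₁
      obtain ⟨c, hc⟩ := (Submodule.mem_span_range_iff_exists_fun k).1 hh₁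
      rw [← hh₁v, ← hc]
      apply Valuation.map_sum_le
      intro i _
      exact (Place.val_smul_le P₀ (c i) (φ i)).trans (hj0 i (Finset.mem_univ i))
  set y := (φ j0)⁻¹ with hy
  have hy0 : y ≠ 0 := inv_ne_zero hφj0
  have hyv : P₀.1 y = WithZero.exp (-((a + g + g : ℕ) : ℤ)) := by
    rw [hy, map_inv₀, hvj0, ← WithZero.exp_neg]
  set φ'' : Fin (a + g + 1) → K := fun i => y * φ i with hφ''
  have hnorm : ∀ i, P₀.1 (φ'' i) ≤ 1 := by
    intro i
    simp only [hφ'']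
    rw [map_mul, hyv]
    have := hφmem i P₀
    rw [hD, Finsupp.single_eq_same] at this
    calc WithZero.exp (-((a + g + g : ℕ) : ℤ)) * P₀.1 (φ i)
        ≤ WithZero.exp (-((a + g + g : ℕ) : ℤ)) * WithZero.exp (((a + g + g : ℕ) : ℤ)) :=
          mul_le_mul_right this _
      _ = 1 := by rw [← WithZero.exp_add, neg_add_cancel, WithZero.exp_zero]
  have hφ''j0 : φ'' j0 = 1 := inv_mul_cancel₀ hφj0
  have heff : (1 : K) ∈ Submodule.span k (Set.range φ'') :=
    Submodule.subset_span ⟨j0, hφ''j0⟩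
  have hli : LinearIndependent k φ'' :=
    hφ.map' (LinearMap.mulLeft k y) (LinearMap.ker_eq_bot.2 (mul_right_injective₀ hy0))
  have hJ'' : IsOrders K (hcol τ Ht φ'') J := (isOrders_hcol_smul_iff τ Ht hHt φ y hy0 J).2 hJ
  -- orders at `P₀`
  have hrows := main12599 hK φ'' hli P₀ hnorm t ht Ht hHt
  have hspan' := span_cols_eq_top (hcolAt P₀ Ht φ'') hrows
  have hc0' : hcolAt P₀ Ht φ'' 0 ≠ 0 := by
    intro h
    have := congrFun h j0
    simp only [hcolAt, Pi.zero_apply] at this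
    rw [hφ''j0, evalP_one] at this
    exact one_ne_zero this
  obtain ⟨J', hJ'⟩ := exists_orders (hcolAt P₀ Ht φ'') hc0' hspan'
  have hpos' := orders_pos hK P₀ φ'' hnorm t ht Ht hHt J' hJ'
  have hnpos : 0 < a + g := by omega
  have h06 := main12606 hK τ P₀ hP₀ hnpos φ'' hli heff hnorm t ht Ht hHt J hJ'' J' hJ'
  have hmem : ∀ f, f ∈ Submodule.span k (Set.range φ'') ↔ ∃ h ∈ L D, f = y * h := by
    intro f
    rw [hφ'', mem_span_mul_iff, hspan]
  have hE1 : ∀ l, J' l ≤ a + 2 * g := by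
    intro l
    have hj : IsJump (IsLocalRing.ResidueField P₀.O) (hcolAt P₀ Ht φ'') (J' l + 1) :=
      (hJ'.2 (J' l)).1 ⟨l, rfl⟩
    rw [isJump_hcolAt_succ_iff hK P₀ φ'' hnorm t ht Ht hHt (J' l) (hpos' l)] at hj
    obtain ⟨f, hf, hfv⟩ := hj
    obtain ⟨h, hh, rfl⟩ := (hmem f).1 hf
    have hh0 : h ≠ 0 := by
      rintro rfl
      rw [mul_zero, map_zero] at hfv
      exact WithZero.exp_ne_zero hfv.symm
    have h1le := one_le_val_of_mem_L_single hK P₀ _ hh hh0
    rw [map_mul, hyv] at hfv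
    have : WithZero.exp (-((a + g + g : ℕ) : ℤ)) ≤ WithZero.exp (-(J' l : ℤ)) := by
      rw [← hfv]
      calc WithZero.exp (-((a + g + g : ℕ) : ℤ))
          = WithZero.exp (-((a + g + g : ℕ) : ℤ)) * 1 := (mul_one _).symm
        _ ≤ WithZero.exp (-((a + g + g : ℕ) : ℤ)) * P₀.1 h := mul_le_mul_right h1le _
    rw [WithZero.exp_le_exp] at this
    omega
  have hE2 : ∀ j, 1 ≤ j → j ≤ a → j ∈ Set.range J' := by
    intro j hj1 hja
    rw [hJ'.2 j, isJump_hcolAt_succ_iff hK P₀ φ'' hnorm t ht Ht hHt j hj1]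
    obtain ⟨h, hh, hhv⟩ := exists_pole_eq hK P₀ (a + g + g - j) (by rw [hg]; omega)
    refine ⟨y * h, (hmem _).2 ⟨h, mem_L_single_of_le P₀ (by omega) hh, rfl⟩, ?_⟩
    rw [map_mul, hyv, hhv, ← WithZero.exp_add]
    congr 1
    omega
  have hsumJ' := two_mul_sum_le a g J' hJ'.1 hpos' hE1 hE2
  have hJle : ∀ l, (J l : ℤ) ≤ (J' l : ℤ) - 1 := by
    intro l
    have h2 := h06 l
    have h3 := hpos' ⟨0, hnpos⟩
    omega
  have hsumJ : 2 * ∑ l, (J l : ℤ) ≤
      ((a + g : ℕ) : ℤ) * (((a + g : ℕ) : ℤ) - 1) + 2 * (g : ℤ) ^ 2 := by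
    refine le_trans ?_ hsumJ'
    apply mul_le_mul_of_nonneg_left _ (by norm_num)
    exact Finset.sum_le_sum fun l _ => hJle l
  have hsumJlow := le_two_mul_sum J hJ.1
  -- assemble
  rw [hg] at hbound
  have hq0 : (0 : ℤ) ≤ ((a + g : ℕ) : ℤ) + Module.finrank τ.fieldRange K := by positivity
  have hA : (((a + g : ℕ) : ℤ) + Module.finrank τ.fieldRange K) * (mapDiv k φ).deg ≤
      (((a + g : ℕ) : ℤ) + Module.finrank τ.fieldRange K) * (((a + g : ℕ) : ℤ) + g) := by
    apply mul_le_mul_of_nonneg_left _ hq0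
    refine hmd.trans (le_of_eq ?_)
    push_cast; ring
  have hB : (2 * (g : ℤ) - 2) * ∑ l, (J l : ℤ) ≤
      ((g : ℤ) - 1) * (((a + g : ℕ) : ℤ) * (((a + g : ℕ) : ℤ) - 1) + 2 * (g : ℤ) ^ 2) := by
    have e : (2 * (g : ℤ) - 2) * ∑ l, (J l : ℤ) = ((g : ℤ) - 1) * (2 * ∑ l, (J l : ℤ)) := by ring
    rw [e]
    rcases Nat.eq_zero_or_pos g with h0 | hpos
    · subst h0
      push_cast at hsumJlow ⊢
      nlinarith [hsumJlow]
    · apply mul_le_mul_of_nonneg_left hsumJ
      have : (1 : ℤ) ≤ g := by exact_mod_cast hpos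
      linarith
  linarith

theorem main11053 [IsAlgClosed k] (hK : IsFunctionField k K) (τ : K →ₐ[k] K) (n : ℕ)
    (hn : genus k K < n) :
    {P : Place k K | ∀ x : K, P.1 x < 1 → P.1 (τ x) ≤ WithZero.exp (-2)}.Finite ∧
    (Set.ncard {P : Place k K | ∀ x : K, P.1 x < 1 → P.1 (τ x) ≤ WithZero.exp (-2)} : ℝ) ≤
      1 + Module.finrank τ.fieldRange K +
        (n + (Module.finrank τ.fieldRange K : ℝ) / n) * genus k K +
        2 * (genus k K : ℝ) ^ 2 * (genus k K - 1) / n := by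
  classical
  obtain ⟨g, hg⟩ : ∃ g, genus k K = g := ⟨_, rfl⟩
  rw [hg] at hn ⊢
  set q := Module.finrank τ.fieldRange K with hq
  have hn0 : (0 : ℝ) < n := by
    have : 0 < n := by omega
    exact_mod_cast this
  have hRHS : (0 : ℝ) ≤ 1 + q + (n + (q : ℝ) / n) * g + 2 * (g : ℝ) ^ 2 * (g - 1) / n := by
    have h2 : (0 : ℝ) ≤ (n + (q : ℝ) / n) * g := by positivity
    rcases Nat.eq_zero_or_pos g with h0 | hpos
    · subst h0
      have h1 : (0 : ℝ) ≤ 1 + q := by positivity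
      simp only [Nat.cast_zero, mul_zero, add_zero]
      simpa using h1
    · have hg1 : (0 : ℝ) ≤ (g : ℝ) - 1 := by
        have : (1 : ℝ) ≤ g := by exact_mod_cast hpos
        linarith
      have h3 : (0 : ℝ) ≤ 2 * (g : ℝ) ^ 2 * (g - 1) / n :=
        div_nonneg (mul_nonneg (by positivity) hg1) hn0.le
      have h1 : (0 : ℝ) ≤ 1 + q := by positivity
      linarith
  have hset : {P : Place k K | ∀ x : K, P.1 x < 1 → P.1 (τ x) ≤ WithZero.exp (-2)} =
      {P : Place k K | IsStrongFixedPt τ P} := rfl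
  rw [hset]
  by_cases hne : ∃ P₀ : Place k K, IsStrongFixedPt τ P₀
  swap
  · have hempty : {P : Place k K | IsStrongFixedPt τ P} = ∅ := by
      ext P
      simp only [Set.mem_ofPred_eq, Set.mem_empty_iff_false, iff_false]
      intro hP
      exact hne ⟨P, hP⟩
    rw [hempty]
    refine ⟨Set.finite_empty, ?_⟩
    rw [Set.ncard_empty, Nat.cast_zero]
    exact hRHS
  obtain ⟨P₀, hP₀⟩ := hne
  obtain ⟨a, rfl⟩ : ∃ a, n = a + g := ⟨n - g, by omega⟩
  obtain ⟨hfin, hZ⟩ := key hK τ a g hg (by omega) P₀ hP₀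
  refine ⟨hfin, ?_⟩
  set N := Set.ncard {P : Place k K | IsStrongFixedPt τ P} with hN
  have hR : (((a + g : ℕ) : ℝ)) * (N : ℝ) ≤
      ((((a + g : ℕ) : ℝ)) + q) * ((((a + g : ℕ) : ℝ)) + g) +
        ((g : ℝ) - 1) * ((((a + g : ℕ) : ℝ)) * ((((a + g : ℕ) : ℝ)) - 1) + 2 * (g : ℝ) ^ 2) := by
    exact_mod_cast hZ
  rw [← mul_le_mul_iff_right₀ hn0]
  refine hR.trans (le_of_eq ?_)
  field_simp
  ring

end Groth.Agent.Helper27.SFix
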