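import Groth.Agent.Lib.Helper27.ASn
import Groth.Agent.Lib.Helper16.FF.StrongApprox
import Groth.Prelude.Def_AdFn

/-! `K / (O_{P} + O_P)` has dimension `g`. -/

set_option autoImplicit false

namespace Groth.Agent.Helper27.SIntA

open FunFld Groth.Agent.Helper16.FF Groth.Agent.Helper27.AS
open scoped WithZero
open Classical

universe u

variable {k K : Type u} [Field k] [Field K] [Algebra k K]

/-- the map `z ↦ [single_P z]` -/
noncomputable def Φ (P : Place k K) :
    K →ₗ[k] (↥(adele k K) ⧸
      (AD (0 : Divisor k K) ⊔ LinearMap.range (diag k K)).comap (adele k K).subtype) :=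
  (Submodule.mkQ _) ∘ₗ
    ((LinearMap.single k (fun _ : Place k K => K) P).codRestrict (adele k K)
      (fun z => single_mem_adele P z))

theorem Φ_apply (P : Place k K) (z : K) :
    Φ P z = Submodule.Quotient.mk ⟨(Pi.single P z : Place k K → K), single_mem_adele P z⟩ := rfl

theorem ker_Φ (P : Place k K) :
    LinearMap.ker (Φ P) = Subalgebra.toSubmodule (AdFn.SInt ({P} : Set (Place k K))) ⊔
      Subalgebra.toSubmodule (AdFn.SInt (({P} : Set (Place k K))ᶜ)) := by
  ext z
  rw [LinearMap.mem_ker, Φ_apply, Submodule.Quotient.mk_eq_zero, Submodule.mem_comap,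
    Submodule.subtype_apply]
  show (Pi.single P z : Place k K → K) ∈ AD (0 : Divisor k K) ⊔ LinearMap.range (diag k K) ↔ _
  constructor
  · intro h
    obtain ⟨b, hb, _, ⟨u, rfl⟩, hbu⟩ := Submodule.mem_sup.1 h
    have hbQ : ∀ Q : Place k K, Q.1 (b Q) ≤ 1 := by
      intro Q
      have := hb Q
      simpa using this
    have hu : u ∈ AdFn.SInt ({P} : Set (Place k K)) := by
      intro Q hQ
      have hne : Q ≠ P := fun h' => hQ (by rw [h']; rfl)
      have h1 := congrFun hbu Q
      rw [Pi.add_apply, diag_apply, Pi.single_eq_of_ne hne] at h1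
      have h2 : u = -b Q := by linear_combination h1
      rw [h2, Valuation.map_neg]; exact hbQ Q
    have hw : z - u ∈ AdFn.SInt (({P} : Set (Place k K))ᶜ) := by
      intro Q hQ
      have hQP : Q = P := by
        by_contra hne
        exact hQ hne
      subst hQP
      have h1 := congrFun hbu Q
      rw [Pi.add_apply, diag_apply, Pi.single_eq_same] at h1
      have h2 : z - u = b Q := by linear_combination -h1
      rw [h2]; exact hbQ Q
    have : z = u + (z - u) := by ring
    rw [this]
    exact Submodule.add_mem _ (Submodule.mem_sup_left hu) (Submodule.mem_sup_right hw)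
  · intro h
    obtain ⟨u, hu, w, hw, rfl⟩ := Submodule.mem_sup.1 h
    have hsplit : (Pi.single P (u + w) : Place k K → K) =
        ((Pi.single P (u + w) : Place k K → K) - diag k K u) + diag k K u := by
      rw [sub_add_cancel]
    rw [hsplit]
    refine Submodule.add_mem _ (Submodule.mem_sup_left ?_)
      (Submodule.mem_sup_right (LinearMap.mem_range_self _ _))
    intro Q
    rw [Finsupp.coe_zero, Pi.zero_apply, WithZero.exp_zero, Pi.sub_apply, diag_apply]
    by_cases hQ : Q = P
    · subst hQ
      rw [Pi.single_eq_same, add_sub_cancel_left]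
      exact hw Q (fun h' => h' rfl)
    · rw [Pi.single_eq_of_ne hQ, zero_sub, Valuation.map_neg]
      exact hu Q (fun h' => hQ h')

theorem Φ_surjective (hK : IsFunctionField k K) (P : Place k K) :
    Function.Surjective (Φ P) := by
  intro c
  obtain ⟨⟨a, ha⟩, rfl⟩ := Submodule.Quotient.mk_surjective _ c
  have hfin : {Q : Place k K | ¬ Q.1 (a Q) ≤ 1}.Finite := (mem_adele a).1 ha
  set T : Finset (Place k K) := hfin.toFinset.erase P with hT
  let e := T.equivFin.symm
  let Pf : Fin T.card → Place k K := fun i => (e i).1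
  have hPf : Function.Injective Pf := fun i j h => e.injective (Subtype.ext h)
  have hPfT : ∀ i, Pf i ∈ T := fun i => (e i).2
  have hinf : P ∉ Set.range Pf := by
    rintro ⟨i, hi⟩
    have := hPfT i
    rw [hi, hT] at this
    exact (Finset.notMem_erase P _) this
  obtain ⟨u, hu1, hu2⟩ := strong_approx hK P Pf hPf hinf (fun i => a (Pf i)) (fun _ => 0)
  refine ⟨a P - u, ?_⟩
  rw [Φ_apply]
  symm
  rw [Submodule.Quotient.eq, Submodule.mem_comap, Submodule.subtype_apply]
  show a - (Pi.single P (a P - u) : Place k K → K) ∈ _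
  have hsplit : a - (Pi.single P (a P - u) : Place k K → K) =
      (a - (Pi.single P (a P - u) : Place k K → K) - diag k K u) + diag k K u := by
    rw [sub_add_cancel]
  rw [hsplit]
  refine Submodule.add_mem _ (Submodule.mem_sup_left ?_)
    (Submodule.mem_sup_right (LinearMap.mem_range_self _ _))
  intro Q
  rw [Finsupp.coe_zero, Pi.zero_apply, WithZero.exp_zero, Pi.sub_apply, Pi.sub_apply, diag_apply]
  by_cases hQ : Q = P
  · subst hQ
    rw [Pi.single_eq_same]
    have : a Q - (a Q - u) - u = 0 := by ring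
    rw [this, map_zero]; exact zero_le
  · rw [Pi.single_eq_of_ne hQ, sub_zero]
    by_cases hQT : Q ∈ T
    · obtain ⟨i, hi⟩ : ∃ i, Pf i = Q := ⟨e.symm ⟨Q, hQT⟩, by simp [Pf]⟩
      have := hu1 i
      rw [hi, neg_zero, WithZero.exp_zero] at this
      rw [← Valuation.map_neg, neg_sub, this]
    · have hQa : Q.1 (a Q) ≤ 1 := by
        by_contra hna
        apply hQT
        rw [hT, Finset.mem_erase]
        exact ⟨hQ, by rw [Set.Finite.mem_toFinset]; exact hna⟩
      have hQu : Q.1 u ≤ 1 := by
        apply hu2 Q hQ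
        rintro ⟨i, hi⟩
        exact hQT (hi ▸ hPfT i)
      exact (Valuation.map_sub _ _ _).trans (max_le hQa hQu)

theorem main16099 (hK : IsFunctionField k K) (P : Place k K) :
    FiniteDimensional k (K ⧸ (Subalgebra.toSubmodule (AdFn.SInt ({P} : Set (Place k K))) ⊔
        Subalgebra.toSubmodule (AdFn.SInt (({P} : Set (Place k K))ᶜ)))) ∧
    Module.finrank k (K ⧸ (Subalgebra.toSubmodule (AdFn.SInt ({P} : Set (Place k K))) ⊔
        Subalgebra.toSubmodule (AdFn.SInt (({P} : Set (Place k K))ᶜ)))) = genus k K := by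
  have hdim := hasRelDim_adele hK (0 : Divisor k K)
  rw [Divisor.deg_zero, ell_zero hK] at hdim
  have hg' : ((genus k K : ℤ) - (0 + 1 - ((1 : ℕ) : ℤ))).toNat = genus k K := by
    norm_num
  rw [hg'] at hdim
  obtain ⟨hfd, hrank⟩ := hdim
  let E := (Submodule.quotEquivOfEq _ _ (ker_Φ P).symm).trans
    ((Φ P).quotKerEquivOfSurjective (Φ_surjective hK P))
  exact ⟨LinearEquiv.finiteDimensional E.symm, by rw [E.finrank_eq, hrank]⟩

end Groth.Agent.Helper27.SIntA
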