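import Groth.Agent.Lib.Helper27.SIntA

/-! `K_P / (O_{P} + O_P)` has dimension `g`; adelic strong approximation. -/

set_option autoImplicit false

namespace Groth.Agent.Helper27.SIntA

open FunFld Groth.Agent.Helper16.FF Groth.Agent.Helper27.AS
open scoped WithZero
open Classical

universe u

variable {k K : Type u} [Field k] [Field K] [Algebra k K]

theorem exists_approx (v : Place k K) (ξ : AdFn.Kv v) : ∃ x : K, ξ - AdFn.toKv v x ∈ AdFn.Ov v := by
  have hopen : IsOpen {η : AdFn.Kv v | ξ - η ∈ AdFn.Ov v} := by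
    have hc : Continuous (fun η : AdFn.Kv v => ξ - η) := continuous_const.sub continuous_id
    exact (AdFn.isOpen_Ov v).preimage hc
  have hne : {η : AdFn.Kv v | ξ - η ∈ AdFn.Ov v}.Nonempty :=
    ⟨ξ, by simp only [Set.mem_setOf_eq, sub_self]; exact (AdFn.Ov v).zero_mem⟩
  obtain ⟨a, ha⟩ := (UniformSpace.Completion.denseRange_coe (α := WithVal v.1)).exists_mem_open
    hopen hne
  exact ⟨WithVal.ofVal a, ha⟩

/-- `O_v` as a `k`-submodule. -/
noncomputable def OvSub (v : Place k K) : Submodule k (AdFn.Kv v) where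
  carrier := (AdFn.Ov v : Set (AdFn.Kv v))
  add_mem' ha hb := (AdFn.Ov v).add_mem _ _ ha hb
  zero_mem' := (AdFn.Ov v).zero_mem
  smul_mem' c x hx := by
    have h1 : c • x = AdFn.toKv v (algebraMap k K c) * x := by
      rw [Algebra.smul_def]
      rfl
    rw [h1]
    refine (AdFn.Ov v).mul_mem _ _ ?_ hx
    rw [AdFn.toKv_mem_Ov]
    exact v.2.1 c

theorem span_Ov (v : Place k K) :
    Submodule.span k (AdFn.Ov v : Set (AdFn.Kv v)) = OvSub v :=
  le_antisymm (Submodule.span_le.2 (fun _ hx => hx)) (fun _ hx => Submodule.subset_span hx)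

/-- the map `K → K_P / (O_{P} + O_P)` -/
noncomputable def Ψ (P : Place k K) :
    K →ₗ[k] (AdFn.Kv P ⧸
        (Subalgebra.toSubmodule ((AdFn.SInt ({P} : Set (Place k K))).map
            (IsScalarTower.toAlgHom k K (AdFn.Kv P))) ⊔
          Submodule.span k (AdFn.Ov P : Set (AdFn.Kv P)))) :=
  (Submodule.mkQ _) ∘ₗ (IsScalarTower.toAlgHom k K (AdFn.Kv P)).toLinearMap

theorem Ψ_apply (P : Place k K) (z : K) :
    Ψ P z = Submodule.Quotient.mk (AdFn.toKv P z) := rfl

theorem Ψ_surjective (P : Place k K) : Function.Surjective (Ψ P) := by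
  intro c
  obtain ⟨ξ, rfl⟩ := Submodule.Quotient.mk_surjective _ c
  obtain ⟨x, hx⟩ := exists_approx P ξ
  refine ⟨x, ?_⟩
  rw [Ψ_apply]
  symm
  rw [Submodule.Quotient.eq]
  exact Submodule.mem_sup_right (Submodule.subset_span hx)

theorem ker_Ψ (P : Place k K) :
    LinearMap.ker (Ψ P) = Subalgebra.toSubmodule (AdFn.SInt ({P} : Set (Place k K))) ⊔
      Subalgebra.toSubmodule (AdFn.SInt (({P} : Set (Place k K))ᶜ)) := by
  ext z
  rw [LinearMap.mem_ker, Ψ_apply, Submodule.Quotient.mk_eq_zero]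
  constructor
  · intro h
    obtain ⟨s, hs, o, ho, hso⟩ := Submodule.mem_sup.1 h
    rw [span_Ov] at ho
    obtain ⟨u, hu, rfl⟩ := hs
    have ho' : o ∈ AdFn.Ov P := ho
    have h1 : o = AdFn.toKv P (z - u) := by
      rw [map_sub, ← hso]
      show o = AdFn.toKv P u + o - AdFn.toKv P u
      ring
    rw [h1, AdFn.toKv_mem_Ov] at ho'
    have hw : z - u ∈ AdFn.SInt (({P} : Set (Place k K))ᶜ) := by
      intro Q hQ
      have hQP : Q = P := by
        by_contra hne
        exact hQ hne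
      subst hQP
      exact ho'
    have : z = u + (z - u) := by ring
    rw [this]
    exact Submodule.add_mem _ (Submodule.mem_sup_left hu) (Submodule.mem_sup_right hw)
  · intro h
    obtain ⟨u, hu, w, hw, rfl⟩ := Submodule.mem_sup.1 h
    rw [map_add]
    refine Submodule.add_mem _ (Submodule.mem_sup_left ⟨u, hu, rfl⟩)
      (Submodule.mem_sup_right (Submodule.subset_span ?_))
    show AdFn.toKv P w ∈ AdFn.Ov P
    rw [AdFn.toKv_mem_Ov]
    exact hw P (fun h' => h' rfl)

theorem main16100 (hK : IsFunctionField k K) (P : Place k K) :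
    FiniteDimensional k (AdFn.Kv P ⧸
        (Subalgebra.toSubmodule ((AdFn.SInt ({P} : Set (FunFld.Place k K))).map
            (IsScalarTower.toAlgHom k K (AdFn.Kv P))) ⊔
          Submodule.span k (AdFn.Ov P : Set (AdFn.Kv P)))) ∧
    Module.finrank k (AdFn.Kv P ⧸
        (Subalgebra.toSubmodule ((AdFn.SInt ({P} : Set (FunFld.Place k K))).map
            (IsScalarTower.toAlgHom k K (AdFn.Kv P))) ⊔
          Submodule.span k (AdFn.Ov P : Set (AdFn.Kv P)))) = FunFld.genus k K := by
  obtain ⟨hfd, hrank⟩ := main16099 hK P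
  let E := (Submodule.quotEquivOfEq _ _ (ker_Ψ P).symm).trans
    ((Ψ P).quotKerEquivOfSurjective (Ψ_surjective P))
  exact ⟨LinearEquiv.finiteDimensional E, by rw [← E.finrank_eq, hrank]⟩

theorem main16098 (hK : IsFunctionField k K) [AdFn.HasFinitePoles k K]
    (S : Set (FunFld.Place k K)) (hS : S.Nonempty) :
    (∀ a : AdFn.AdeleRing k K, ∃ f : K, ∀ v : FunFld.Place k K, v ∉ S →
        AdFn.AdeleRing.proj v (a - AdFn.AdeleRing.diag f) ∈ AdFn.Ov v) ∧
    (∀ b : AdFn.AdeleRing k K, (∀ v : FunFld.Place k K, v ∉ S → AdFn.AdeleRing.proj v b = 0) →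
        ((∃ f : K, ∀ v : FunFld.Place k K, AdFn.AdeleRing.proj v (b - AdFn.AdeleRing.diag f) ∈ AdFn.Ov v) ↔
          ∃ f ∈ AdFn.SInt S, ∀ v ∈ S, AdFn.AdeleRing.proj v b - AdFn.toKv v f ∈ AdFn.Ov v)) := by
  have hproj : ∀ (a : AdFn.AdeleRing k K) (f : K) (v : Place k K),
      AdFn.AdeleRing.proj v (a - AdFn.AdeleRing.diag f) = AdFn.AdeleRing.proj v a - AdFn.toKv v f := by
    intro a f v
    rw [map_sub, AdFn.AdeleRing.proj_diag]
  constructor
  · intro a
    obtain ⟨P₀, hP₀⟩ := hS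
    have hfin : {v : Place k K | ¬ (AdFn.AdeleRing.proj v a ∈ AdFn.Ov v)}.Finite := by
      have := a.2
      rw [Filter.eventually_cofinite] at this
      exact this
    have hx : ∀ v : Place k K, ∃ x : K, AdFn.AdeleRing.proj v a - AdFn.toKv v x ∈ AdFn.Ov v :=
      fun v => exists_approx v _
    choose x hx using hx
    set T : Finset (Place k K) := hfin.toFinset.erase P₀ with hT
    let e := T.equivFin.symm
    let Pf : Fin T.card → Place k K := fun i => (e i).1
    have hPf : Function.Injective Pf := fun i j h => e.injective (Subtype.ext h)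
    have hPfT : ∀ i, Pf i ∈ T := fun i => (e i).2
    have hinf : P₀ ∉ Set.range Pf := by
      rintro ⟨i, hi⟩
      have := hPfT i
      rw [hi, hT] at this
      exact (Finset.notMem_erase P₀ _) this
    obtain ⟨u, hu1, hu2⟩ := strong_approx hK P₀ Pf hPf hinf (fun i => x (Pf i)) (fun _ => 0)
    refine ⟨u, fun Q hQS => ?_⟩
    have hQ : Q ≠ P₀ := fun h => hQS (h ▸ hP₀)
    rw [hproj]
    by_cases hQT : Q ∈ T
    · obtain ⟨i, hi⟩ : ∃ i, Pf i = Q := ⟨e.symm ⟨Q, hQT⟩, by simp [Pf]⟩
      have h1 := hu1 i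
      rw [hi, neg_zero, WithZero.exp_zero] at h1
      have h2 : AdFn.toKv Q (u - x Q) ∈ AdFn.Ov Q := by
        rw [AdFn.toKv_mem_Ov, h1]
      have h3 : AdFn.AdeleRing.proj Q a - AdFn.toKv Q u =
          (AdFn.AdeleRing.proj Q a - AdFn.toKv Q (x Q)) - AdFn.toKv Q (u - x Q) := by
        rw [map_sub]; ring
      rw [h3]
      exact sub_mem (hx Q) h2
    · have hQa : AdFn.AdeleRing.proj Q a ∈ AdFn.Ov Q := by
        by_contra hna
        apply hQT
        rw [hT, Finset.mem_erase]
        exact ⟨hQ, by rw [Set.Finite.mem_toFinset]; exact hna⟩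
      have hQu : Q.1 u ≤ 1 := by
        apply hu2 Q hQ
        rintro ⟨i, hi⟩
        exact hQT (hi ▸ hPfT i)
      exact sub_mem hQa ((AdFn.toKv_mem_Ov Q u).2 hQu)
  · intro b hb
    constructor
    · rintro ⟨f, hf⟩
      refine ⟨f, ?_, fun v _ => ?_⟩
      · intro v hv
        have h1 := hf v
        rw [hproj, hb v hv, zero_sub] at h1
        have h2 : AdFn.toKv v f ∈ AdFn.Ov v := by
          have := (AdFn.Ov v).neg_mem _ h1
          rwa [neg_neg] at this
        exact (AdFn.toKv_mem_Ov v f).1 h2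
      · have h1 := hf v
        rwa [hproj] at h1
    · rintro ⟨f, hfS, hf⟩
      refine ⟨f, fun v => ?_⟩
      rw [hproj]
      by_cases hv : v ∈ S
      · exact hf v hv
      · rw [hb v hv, zero_sub]
        exact (AdFn.Ov v).neg_mem _ ((AdFn.toKv_mem_Ov v f).2 (hfS v hv))

end Groth.Agent.Helper27.SIntA
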