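import Mathlib
open AlgebraicGeometry CategoryTheory Limits

namespace Groth.Agent.Helper27.SecDesc
universe u

lemma flat_of_retract {R A B : Type*} [CommRing R] [CommRing A] [CommRing B] (a : R →+* A)
    (ι : A →+* B) (ρ : B →+* A) (hρ : ρ.comp ι = RingHom.id A) (hflat : (ι.comp a).Flat) :
    a.Flat := by
  algebraize [a, ι.comp a]
  rw [RingHom.Flat] at hflat ⊢
  let i : A →ₗ[R] B :=
    { toFun := ι
      map_add' := map_add ι
      map_smul' := fun r x => by
        simp only [Algebra.smul_def, map_mul, RingHom.id_apply]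
        rfl }
  let r : B →ₗ[R] A :=
    { toFun := ρ
      map_add' := map_add ρ
      map_smul' := fun r x => by
        simp only [Algebra.smul_def, map_mul, RingHom.id_apply]
        congr 1
        exact congrFun (congrArg DFunLike.coe hρ) (a r) }
  exact Module.Flat.of_retract i r (by
    ext x
    exact congrFun (congrArg DFunLike.coe hρ) x)

theorem main {X Y S : Scheme.{u}} (f : X ⟶ S) (g : Y ⟶ S)
    (y : S ⟶ Y) (hy : y ≫ g = 𝟙 S) :
    (QuasiCompact (pullback.fst f g ≫ f) → QuasiCompact f) ∧
    (LocallyOfFiniteType (pullback.fst f g ≫ f) → LocallyOfFiniteType f) ∧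
    (IsSeparated (pullback.fst f g ≫ f) → IsSeparated f) ∧
    (Flat (pullback.fst f g ≫ f) → Flat f) := by
  have hcond : 𝟙 X ≫ f = (f ≫ y) ≫ g := by
    rw [Category.assoc, hy, Category.id_comp, Category.comp_id]
  obtain ⟨σ, hσ⟩ : ∃ σ : X ⟶ pullback f g, σ ≫ pullback.fst f g = 𝟙 X :=
    ⟨pullback.lift (𝟙 X) (f ≫ y) hcond, pullback.lift_fst _ _ _⟩
  have himm : IsImmersion σ := by
    have : IsImmersion (σ ≫ pullback.fst f g) := by rw [hσ]; infer_instance
    exact IsImmersion.of_comp σ (pullback.fst f g)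
  have hf : f = σ ≫ (pullback.fst f g ≫ f) := by
    rw [← Category.assoc, hσ, Category.id_comp]
  refine ⟨fun h => ?_, fun h => ?_, fun h => ?_, fun h => ?_⟩
  · rw [quasiCompact_iff_forall_isAffineOpen] at h ⊢
    intro U hU
    have hc := (h U hU).image (pullback.fst f g).continuous
    convert hc using 1
    ext x
    simp only [Scheme.Hom.coe_preimage, Set.mem_preimage, SetLike.mem_coe, Set.mem_image]
    constructor
    · intro hx
      refine ⟨σ x, ?_, ?_⟩
      · have : (pullback.fst f g ≫ f) (σ x) = f x := by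
          rw [← Scheme.Hom.comp_apply, ← hf]
        rw [this]; exact hx
      · rw [← Scheme.Hom.comp_apply, hσ]; rfl
    · rintro ⟨w, hw, rfl⟩
      exact hw
  · rw [hf]; infer_instance
  · rw [hf]; infer_instance
  · rw [Flat.iff_flat_stalkMap] at h ⊢
    intro x
    have hx : pullback.fst f g (σ x) = x := by
      rw [← Scheme.Hom.comp_apply, hσ]; rfl
    suffices H : (f.stalkMap (pullback.fst f g (σ x))).hom.Flat by
      exact hx ▸ H
    have h1 := h (σ x)
    rw [Scheme.Hom.stalkMap_comp] at h1
    have h2 : (pullback.fst f g).stalkMap (σ x) ≫ σ.stalkMap x =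
        (X.presheaf.stalkCongr (.of_eq hx)).hom := by
      rw [← Scheme.Hom.stalkMap_comp, Scheme.Hom.stalkMap_congr_hom _ _ hσ, Scheme.Hom.stalkMap_id]
      exact Category.comp_id _
    refine flat_of_retract (f.stalkMap (pullback.fst f g (σ x))).hom
      ((pullback.fst f g).stalkMap (σ x)).hom
      ((σ.stalkMap x ≫ (X.presheaf.stalkCongr (.of_eq hx)).inv).hom) ?_ ?_
    · rw [← CommRingCat.hom_comp, ← Category.assoc, h2, Iso.hom_inv_id]
      rfl
    · rw [← CommRingCat.hom_comp]
      exact h1

end Groth.Agent.Helper27.SecDesc
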