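import Mathlib
import Groth.Agent.Lib.Helper27.DualB
import Groth.Agent.Lib.Helper27.CfF
import Groth.Agent.Lib.Helper27.InrB

set_option autoImplicit false

namespace Groth.Agent.Helper27.Sep

open FunFld Polynomial Groth.Agent.Helper16.FFW IntermediateField
open scoped WithZero

theorem isSeparable_of_root {F E : Type*} [Field F] [Field E] [Algebra F E] {α : E} {p : F[X]}
    (h0 : aeval α p = 0) (h1 : aeval α (derivative p) ≠ 0) : IsSeparable F α := by
  have hp0 : p ≠ 0 := by
    rintro rfl
    simp at h1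
  have hint : IsIntegral F α := IsAlgebraic.isIntegral ⟨p, hp0, h0⟩
  obtain ⟨q, hq⟩ := minpoly.dvd F α h0
  have hm' : derivative (minpoly F α) ≠ 0 := by
    intro hz
    apply h1
    rw [hq, derivative_mul, hz, zero_mul, zero_add, map_mul, minpoly.aeval, zero_mul]
  exact (Polynomial.separable_iff_derivative_ne_zero (minpoly.irreducible hint)).2 hm'

variable {k K K' : Type*} [Field k] [Field K] [Field K'] [Algebra k K] [Algebra K K'] [Algebra k K']
  [IsScalarTower k K K'] (P : Place k K) [Algebra P.O K'] [IsScalarTower P.O K K']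

theorem residue_sep [FiniteDimensional K K'] [Algebra.IsSeparable K K'] (hK : IsFunctionField k K)
    (Q : Place k K') (hQ : IsOver Q P) [P.1.HasExtension Q.1] {y : K'}
    (hgen : IntermediateField.adjoin K ({y} : Set K') = ⊤) (hyi : IsIntegral P.O y)
    (hu : Q.1 (aeval y (derivative (minpoly K y))) = 1) :
    Algebra.IsSeparable (IsLocalRing.ResidueField P.O) (IsLocalRing.ResidueField Q.O) := by
  classical
  haveI := Nrm.isDVR P
  have hmin : minpoly K y = (minpoly P.O y).map (algebraMap P.O K) :=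
    minpoly.isIntegrallyClosed_eq_field_fractions' K hyi
  set g := minpoly P.O y with hg
  set w : K' := aeval y (derivative (minpoly K y)) with hw
  have hwg : w = aeval y (derivative g) := by
    rw [hw, hmin, derivative_map, aeval_map_algebraMap]
  have hyQ : Q.1 y ≤ 1 := (Nrm.mem_S_iff P hK y).1 hyi Q hQ
  set yO : Q.O := ⟨y, (Place.mem_O_iff Q y).2 hyQ⟩ with hyO
  set ybar := IsLocalRing.residue Q.O yO with hybar
  set L : IntermediateField (IsLocalRing.ResidueField P.O) (IsLocalRing.ResidueField Q.O) :=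
    IntermediateField.adjoin (IsLocalRing.ResidueField P.O) ({ybar} : Set _) with hL
  -- residues of elements of `O_P[y]` lie in `L`
  have hA : ∀ a ∈ Algebra.adjoin P.O ({y} : Set K'), ∃ ha : Q.1 a ≤ 1,
      IsLocalRing.residue Q.O ⟨a, (Place.mem_O_iff Q a).2 ha⟩ ∈ L := by
    intro a ha
    induction ha using Algebra.adjoin_induction with
    | mem x hx =>
      have hx' : x = y := hx
      subst hx'
      exact ⟨hyQ, IntermediateField.mem_adjoin_simple_self _ _⟩
    | algebraMap r =>
      have h1 : algebraMap P.O K' r = algebraMap K K' (r : K) :=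
        IsScalarTower.algebraMap_apply P.O K K' r
      have h2 : Q.1 (algebraMap P.O K' r) ≤ 1 := by
        rw [h1]
        exact (Valuation.HasExtension.val_map_le_one_iff P.1 Q.1 _).2 ((Place.mem_O_iff P _).1 r.2)
      refine ⟨h2, ?_⟩
      have h3 : (⟨algebraMap P.O K' r, (Place.mem_O_iff Q _).2 h2⟩ : Q.O) = algebraMap P.O Q.O r := by
        apply Subtype.ext
        exact h1
      rw [h3, ← Valuation.HasExtension.algebraMap_residue_eq_residue_algebraMap]
      exact L.algebraMap_mem _
    | add a b _ _ iha ihb =>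
      obtain ⟨ha1, ha2⟩ := iha
      obtain ⟨hb1, hb2⟩ := ihb
      have hab : Q.1 (a + b) ≤ 1 := (Q.1.map_add _ _).trans (max_le ha1 hb1)
      refine ⟨hab, ?_⟩
      have : (⟨a + b, (Place.mem_O_iff Q _).2 hab⟩ : Q.O) =
          ⟨a, (Place.mem_O_iff Q a).2 ha1⟩ + ⟨b, (Place.mem_O_iff Q b).2 hb1⟩ := rfl
      rw [this, map_add]
      exact L.add_mem ha2 hb2
    | mul a b _ _ iha ihb =>
      obtain ⟨ha1, ha2⟩ := iha
      obtain ⟨hb1, hb2⟩ := ihb
      have hab : Q.1 (a * b) ≤ 1 := by rw [map_mul]; exact mul_le_one' ha1 hb1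
      refine ⟨hab, ?_⟩
      have : (⟨a * b, (Place.mem_O_iff Q _).2 hab⟩ : Q.O) =
          ⟨a, (Place.mem_O_iff Q a).2 ha1⟩ * ⟨b, (Place.mem_O_iff Q b).2 hb1⟩ := rfl
      rw [this, map_mul]
      exact L.mul_mem ha2 hb2
  have hwA : w ∈ Algebra.adjoin P.O ({y} : Set K') := by
    rw [hwg]; exact Polynomial.aeval_mem_adjoin_singleton _ _
  obtain ⟨hw1, hwL⟩ := hA w hwA
  have hwne : IsLocalRing.residue Q.O ⟨w, (Place.mem_O_iff Q w).2 hw1⟩ ≠ 0 := by
    rw [Ne, Place.residue_eq_zero_iff]
    show ¬ Q.1 w < 1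
    rw [hu]; exact lt_irrefl _
  -- `L = ⊤`
  have hLtop : L = ⊤ := by
    rw [eq_top_iff]
    intro ζ _
    obtain ⟨z, rfl⟩ := IsLocalRing.residue_surjective ζ
    obtain ⟨r, hrz, hrint⟩ := Cf.exists_integral_approx hK P Q hQ (z : K')
      ((Place.mem_O_iff Q _).1 z.2)
    have hrS : IsIntegral P.O r := (Nrm.mem_S_iff P hK r).2 hrint
    have hrQ : Q.1 r ≤ 1 := hrint Q hQ
    have hres : IsLocalRing.residue Q.O z =
        IsLocalRing.residue Q.O ⟨r, (Place.mem_O_iff Q r).2 hrQ⟩ := by
      rw [eq_comm, ← sub_eq_zero, ← map_sub, Place.residue_eq_zero_iff]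
      exact hrz
    have hsA : r * w ∈ Algebra.adjoin P.O ({y} : Set K') := by
      refine (Dual.mem_dual_adjoin_iff P hgen hyi r).1 (fun a ha => ?_)
      have haint : IsIntegral P.O a := by
        have : Algebra.adjoin P.O ({y} : Set K') ≤ integralClosure P.O K' :=
          Algebra.adjoin_le (by rintro _ rfl; exact hyi)
        exact this ha
      have htr : IsIntegral P.O (Algebra.trace K K' (r * a)) :=
        Algebra.isIntegral_trace (hrS.mul haint)
      exact Ic.val_le_one_of_isIntegral P.1 (fun a => (Place.mem_O_iff P _).1 a.2) htr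
    obtain ⟨hs1, hsL⟩ := hA (r * w) hsA
    have hmul : IsLocalRing.residue Q.O ⟨r * w, (Place.mem_O_iff Q _).2 hs1⟩ =
        IsLocalRing.residue Q.O ⟨r, (Place.mem_O_iff Q r).2 hrQ⟩ *
          IsLocalRing.residue Q.O ⟨w, (Place.mem_O_iff Q w).2 hw1⟩ := by
      rw [← map_mul]; rfl
    rw [hres, eq_div_of_mul_eq hwne hmul.symm]
    exact L.div_mem hsL hwL
  -- `ybar` is separable
  have hcomp : (algebraMap (IsLocalRing.ResidueField P.O) (IsLocalRing.ResidueField Q.O)).comp
      (IsLocalRing.residue P.O) = (IsLocalRing.residue Q.O).comp (algebraMap P.O Q.O) := by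
    ext a
    exact Valuation.HasExtension.algebraMap_residue_eq_residue_algebraMap P.1 Q.1 a
  have hsub : Q.O.subtype.comp (algebraMap P.O Q.O) = algebraMap P.O K' := by
    ext a
    exact (IsScalarTower.algebraMap_apply P.O K K' a).symm
  have hev : ∀ q : (P.O)[X], aeval ybar (q.map (IsLocalRing.residue P.O)) =
      IsLocalRing.residue Q.O (q.eval₂ (algebraMap P.O Q.O) yO) := by
    intro q
    rw [aeval_def, eval₂_map, hcomp, ← Polynomial.hom_eval₂]
  have hcoe : ∀ q : (P.O)[X], ((q.eval₂ (algebraMap P.O Q.O) yO : Q.O) : K') = aeval y q := by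
    intro q
    have := Polynomial.hom_eval₂ q (algebraMap P.O Q.O) Q.O.subtype yO
    rw [hsub] at this
    exact this
  have hroot : aeval ybar (g.map (IsLocalRing.residue P.O)) = 0 := by
    rw [hev, Place.residue_eq_zero_iff, hcoe, hg, minpoly.aeval, map_zero]
    exact zero_lt_one
  have hder : aeval ybar (derivative (g.map (IsLocalRing.residue P.O))) ≠ 0 := by
    rw [derivative_map, hev, Ne, Place.residue_eq_zero_iff, hcoe, ← hwg, hu]
    exact lt_irrefl _
  have hsep : IsSeparable (IsLocalRing.ResidueField P.O) ybar := isSeparable_of_root hroot hder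
  have hle : L ≤ separableClosure (IsLocalRing.ResidueField P.O) (IsLocalRing.ResidueField Q.O) := by
    rw [hL, IntermediateField.adjoin_le_iff]
    rintro _ rfl
    exact mem_separableClosure_iff.2 hsep
  rw [hLtop, top_le_iff] at hle
  exact (separableClosure.eq_top_iff _ _).1 hle

end Groth.Agent.Helper27.Sep
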