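import Mathlib
import Groth.Agent.Lib.Helper27.SepA
import Groth.Agent.Lib.Helper27.SepB
import Groth.Agent.Lib.Helper16.FF.GeomA

set_option autoImplicit false

namespace Groth.Agent.Helper27.Sep

open FunFld Polynomial IntermediateField
open scoped WithZero

universe u v

variable {k : Type u} {K : Type v} [Field k] [Field K] [Algebra k K]

theorem adjoin_sub_const (x : K) (c : k) :
    IntermediateField.adjoin k ({x - algebraMap k K c} : Set K) =
      IntermediateField.adjoin k ({x} : Set K) := by
  apply le_antisymm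
  · rw [IntermediateField.adjoin_le_iff]
    intro z hz
    rw [Set.mem_singleton_iff] at hz
    rw [hz]
    exact sub_mem (IntermediateField.mem_adjoin_simple_self k x) (IntermediateField.algebraMap_mem _ c)
  · rw [IntermediateField.adjoin_le_iff]
    intro z hz
    rw [Set.mem_singleton_iff] at hz
    have : z = (x - algebraMap k K c) + algebraMap k K c := by rw [hz]; ring
    rw [this]
    exact add_mem (IntermediateField.mem_adjoin_simple_self k _) (IntermediateField.algebraMap_mem _ c)

theorem adjoin_gen_sub_eq_top (x : K) (c : k) :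
    IntermediateField.adjoin k
      ({AdjoinSimple.gen k x - algebraMap k k⟮x⟯ c} : Set k⟮x⟯) = ⊤ := by
  apply IntermediateField.map_injective (IntermediateField.val k⟮x⟯)
  rw [IntermediateField.adjoin_map, Set.image_singleton, ← AlgHom.fieldRange_eq_map,
    IntermediateField.fieldRange_val]
  have : (IntermediateField.val k⟮x⟯) (AdjoinSimple.gen k x - algebraMap k k⟮x⟯ c) =
      x - algebraMap k K c := by
    rw [map_sub, AlgHom.commutes]
    rfl
  rw [this, adjoin_sub_const]

theorem isFunctionField_adjoin (hK : IsFunctionField k K) {x : K} (hx : Transcendental k x) :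
    IsFunctionField k k⟮x⟯ := by
  refine ⟨⟨AdjoinSimple.gen k x, ?_, ?_⟩, ?_⟩
  · intro halg
    apply hx
    have := halg.algHom (IntermediateField.val k⟮x⟯)
    exact this
  · have htop := adjoin_gen_sub_eq_top x (0 : k)
    rw [map_zero, sub_zero] at htop
    have hfr : Module.finrank ↥(IntermediateField.adjoin k ({AdjoinSimple.gen k x} : Set k⟮x⟯))
        k⟮x⟯ = 1 := by
      rw [htop]; exact IntermediateField.finrank_top
    exact Module.finite_of_finrank_pos (by rw [hfr]; norm_num)
  · intro y hy
    have hy' : IsAlgebraic k (y : K) := hy.algHom (IntermediateField.val k⟮x⟯)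
    obtain ⟨c, hc⟩ := hK.2 _ hy'
    exact ⟨c, Subtype.ext hc⟩

theorem deg_eq_one_of_zero (hK : IsFunctionField k K) {x : K} (hx : Transcendental k x) (c : k)
    (P : Place k k⟮x⟯) (hP : P.1 (AdjoinSimple.gen k x - algebraMap k k⟮x⟯ c) < 1) :
    P.deg = 1 := by
  have hK₀ := isFunctionField_adjoin hK hx
  set u : k⟮x⟯ := AdjoinSimple.gen k x - algebraMap k k⟮x⟯ c with hu
  have hutr : Transcendental k u := by
    intro halg
    have h1 : IsAlgebraic k (u + algebraMap k k⟮x⟯ c) :=
      halg.add (isAlgebraic_algebraMap c)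
    rw [hu, sub_add_cancel] at h1
    exact hx (h1.algHom (IntermediateField.val k⟮x⟯))
  have hu0 : u ≠ 0 := fun h => hutr (h ▸ isAlgebraic_zero)
  have h := Groth.Agent.Helper16.FF.sum_ord_mul_deg_le hK₀ hutr (fun _ : Unit => P)
    (Function.injective_of_subsingleton _) (fun _ => hP)
  rw [Fintype.sum_unique, adjoin_gen_sub_eq_top, IntermediateField.finrank_top] at h
  have h1 : 0 < P.ord u := Groth.Agent.Helper16.FF.Place.ord_pos_of_val_lt_one P hu0 hP
  have h2 : 0 < P.deg := Groth.Agent.Helper16.FFW.Place.deg_pos hK₀.1 P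
  have h3 : 1 ≤ (P.ord u).toNat := by omega
  have h4 : P.deg ≤ (P.ord u).toNat * P.deg := Nat.le_mul_of_pos_left _ (by omega)
  omega

theorem isSeparable_of_deg_one (hK : IsFunctionField k K) {P : Place k K} (hP : P.deg = 1) :
    Algebra.IsSeparable k (IsLocalRing.ResidueField P.O) := by
  rw [Algebra.isSeparable_def]
  intro ζ
  obtain ⟨f, rfl⟩ := IsLocalRing.residue_surjective ζ
  obtain ⟨c, hc⟩ := Groth.Agent.Helper16.FF.exists_const_sub_lt_one hK hP
    ((Groth.Agent.Helper16.FFW.Place.mem_O_iff P _).1 f.2)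
  have : IsLocalRing.residue P.O f = algebraMap k (IsLocalRing.ResidueField P.O) c := by
    show _ = IsLocalRing.residue P.O (algebraMap k P.O c)
    rw [← sub_eq_zero, ← map_sub, Groth.Agent.Helper16.FFW.Place.residue_eq_zero_iff]
    exact hc
  rw [this]
  exact isSeparable_algebraMap c

theorem main11004_infinite [Infinite k] (hK : IsFunctionField k K) (hg : IsGeometric k K) :
    {P : Place k K | Algebra.IsSeparable k (IsLocalRing.ResidueField P.O)}.Infinite := by
  classical
  obtain ⟨x, hsep⟩ := Groth.Agent.Helper16.FF.exists_separating_of_isGeometric hK hg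
  have hx : Transcendental k x := by
    intro halg
    obtain ⟨x₀, hx₀, -⟩ := hK.1
    apply hx₀
    haveI : Algebra.IsAlgebraic k k⟮x⟯ := IntermediateField.isAlgebraic_adjoin_simple halg.isIntegral
    haveI : Algebra.IsAlgebraic k⟮x⟯ K := Algebra.IsSeparable.isAlgebraic _ _
    exact (Algebra.IsAlgebraic.trans k k⟮x⟯ K).isAlgebraic x₀
  have hK₀ := isFunctionField_adjoin hK hx
  haveI := Groth.Agent.Helper16.FF.finite_of_transcendental hK hx
  obtain ⟨y, hy⟩ := Field.exists_primitive_element k⟮x⟯ K
  have hyint : IsIntegral k⟮x⟯ y := Algebra.IsIntegral.isIntegral y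
  set g := minpoly k⟮x⟯ y with hg'
  set w : K := aeval y (derivative g) with hw
  have hw0 : w ≠ 0 :=
    (Algebra.IsSeparable.isSeparable k⟮x⟯ y).aeval_derivative_ne_zero (minpoly.aeval k⟮x⟯ y)
  set Bad : Set (Place k K) := (Function.support fun Q : Place k K => Q.ord w) ∪
    ⋃ i ∈ g.support, Function.support (fun Q : Place k K => Q.ord (algebraMap k⟮x⟯ K (g.coeff i)))
    with hBad
  have hBadfin : Bad.Finite :=
    Set.Finite.union (Groth.Agent.Helper16.FF.finite_support_ord hK w)
      (Set.Finite.biUnion g.support.finite_toSet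
        (fun i _ => Groth.Agent.Helper16.FF.finite_support_ord hK _))
  have htr : ∀ c : k, Transcendental k (x - algebraMap k K c) := by
    intro c halg
    apply hx
    have := halg.add (isAlgebraic_algebraMap (R := k) (A := K) c)
    simpa using this
  have hex : ∀ c : k, ∃ Q : Place k K, Q.1 (x - algebraMap k K c) < 1 := fun c =>
    Groth.Agent.Helper16.FF.exists_zero hK (htr c)
  choose Qc hQc using hex
  have hinj : Function.Injective Qc := by
    intro c c' hcc
    by_contra hne
    have h1 := hQc c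
    have h2 := hQc c'
    rw [hcc] at h1
    have h3 : (Qc c').1 ((x - algebraMap k K c') - (x - algebraMap k K c)) < 1 :=
      lt_of_le_of_lt (Valuation.map_sub _ _ _) (max_lt h2 h1)
    have e : (x - algebraMap k K c') - (x - algebraMap k K c) = algebraMap k K (c - c') := by
      rw [map_sub]; ring
    rw [e, Groth.Agent.Helper16.FFW.Place.val_algebraMap _ (sub_ne_zero.2 hne)] at h3
    exact lt_irrefl _ h3
  have hSfin : (Qc ⁻¹' Bad).Finite := hBadfin.preimage (hinj.injOn)
  have hSinf : (Qc ⁻¹' Bad)ᶜ.Infinite := hSfin.infinite_compl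
  refine ((hSinf.image hinj.injOn)).mono ?_
  rintro _ ⟨c, hc, rfl⟩
  have hcB : Qc c ∉ Bad := hc
  set Q := Qc c with hQ
  obtain ⟨P, e, he⟩ := Groth.Agent.Helper16.FFW.exists_isOverWith (K' := K) hK₀.1 Q
  haveI := Inr.hasExtension_of_isOverWith he
  letI : Algebra P.O K := ((algebraMap k⟮x⟯ K).comp (algebraMap P.O k⟮x⟯)).toAlgebra
  haveI : IsScalarTower P.O k⟮x⟯ K := .of_algebraMap_eq (fun _ => rfl)
  have hPz : P.1 (AdjoinSimple.gen k x - algebraMap k k⟮x⟯ c) < 1 := by
    rw [← Groth.Agent.Helper16.FFW.isOverWith_lt_one_iff he]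
    have : algebraMap k⟮x⟯ K (AdjoinSimple.gen k x - algebraMap k k⟮x⟯ c) =
        x - algebraMap k K c := by
      rw [map_sub, ← IsScalarTower.algebraMap_apply]
      rfl
    rw [this]
    exact hQc c
  have hdeg : P.deg = 1 := deg_eq_one_of_zero hK hx c P hPz
  have hcoef : ∀ i, P.1 (g.coeff i) ≤ 1 := by
    intro i
    by_cases hi : g.coeff i = 0
    · rw [hi, map_zero]; exact zero_le'
    have hisupp : i ∈ g.support := Polynomial.mem_support_iff.2 hi
    have hord : Q.ord (algebraMap k⟮x⟯ K (g.coeff i)) = 0 := by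
      by_contra hne
      apply hcB
      refine Or.inr ?_
      rw [Set.mem_iUnion₂]
      exact ⟨i, hisupp, hne⟩
    have hne0 : algebraMap k⟮x⟯ K (g.coeff i) ≠ 0 := (_root_.map_ne_zero _).2 hi
    rw [← Groth.Agent.Helper16.FFW.isOverWith_le_one_iff he,
      Groth.Agent.Helper16.FFW.Place.val_eq_exp_neg_ord Q hne0, hord, neg_zero, WithZero.exp_zero]
  have hyi : IsIntegral P.O y := by
    have hlift : g ∈ Polynomial.lifts (algebraMap P.O k⟮x⟯) :=
      (Polynomial.lifts_iff_coeff_lifts _).2 (fun i =>
        ⟨⟨g.coeff i, (Groth.Agent.Helper16.FFW.Place.mem_O_iff P _).2 (hcoef i)⟩, rfl⟩)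
    obtain ⟨q, hq, -, hqm⟩ := Polynomial.lifts_and_degree_eq_and_monic hlift (minpoly.monic hyint)
    refine ⟨q, hqm, ?_⟩
    rw [IsScalarTower.algebraMap_eq P.O k⟮x⟯ K, ← Polynomial.eval₂_map, hq]
    exact minpoly.aeval k⟮x⟯ y
  have hu : Q.1 w = 1 := by
    have hord : Q.ord w = 0 := by
      by_contra hne
      exact hcB (Or.inl hne)
    rw [Groth.Agent.Helper16.FFW.Place.val_eq_exp_neg_ord Q hw0, hord, neg_zero, WithZero.exp_zero]
  have hsepQP := residue_sep P hK₀ Q ⟨e, he⟩ hy hyi hu
  haveI := isSeparable_of_deg_one hK₀ hdeg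
  haveI := Inr.isScalarTower_res P Q
  exact Algebra.IsSeparable.trans k (IsLocalRing.ResidueField P.O) (IsLocalRing.ResidueField Q.O)

theorem main11004 (hK : IsFunctionField k K) (hg : IsGeometric k K) :
    {P : Place k K | Algebra.IsSeparable k (IsLocalRing.ResidueField P.O)}.Infinite := by
  rcases finite_or_infinite k with hfin | hinf
  · haveI : PerfectField k := PerfectField.ofFinite
    exact main11004_perfect hK
  · exact main11004_infinite hK hg

end Groth.Agent.Helper27.Sep
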