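import Mathlib
import Groth.Agent.Lib.Helper27.DExpF
import Groth.Agent.Lib.Helper27.HasseA

set_option autoImplicit false

namespace Groth.Agent.Helper27.SepRes

open FunFld LaurentSeries Groth.Agent.Helper16.FF Groth.Agent.Helper27.DExp
open scoped WithZero

universe u v w

variable {k : Type u} {K : Type v} [Field k] [Field K] [Algebra k K]
  {F : Type w} [Field F] [Algebra k F]

/-- coefficientwise extension of an additive map to Laurent series -/
noncomputable def cmap (δ : F →+ F) (f : F⸨X⸩) : F⸨X⸩ := f.map δ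

theorem cmap_coeff (δ : F →+ F) (f : F⸨X⸩) (n : ℤ) : (cmap δ f).coeff n = δ (f.coeff n) := rfl

theorem cmap_add (δ : F →+ F) (f g : F⸨X⸩) : cmap δ (f + g) = cmap δ f + cmap δ g := by
  ext n
  simp only [cmap_coeff, HahnSeries.coeff_add, map_add]

theorem support_cmap (δ : F →+ F) (f : F⸨X⸩) : (cmap δ f).support ⊆ f.support := by
  intro n hn
  rw [HahnSeries.mem_support] at hn ⊢
  intro h0
  apply hn
  rw [cmap_coeff, h0, map_zero]

theorem cmap_mul (δ : F →+ F) (hδ : ∀ a b, δ (a * b) = a * δ b + b * δ a) (f g : F⸨X⸩) :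
    cmap δ (f * g) = f * cmap δ g + g * cmap δ f := by
  ext n
  rw [cmap_coeff, HahnSeries.coeff_add, HahnSeries.coeff_mul,
    HahnSeries.coeff_mul_right' g.isPWO_support (support_cmap δ g), mul_comm g,
    HahnSeries.coeff_mul_left' f.isPWO_support (support_cmap δ f), map_sum,
    ← Finset.sum_add_distrib]
  refine Finset.sum_congr rfl fun ij _ => ?_
  rw [hδ, cmap_coeff, cmap_coeff]
  ring

theorem cmap_C (δ : F →+ F) (c : F) (hc : δ c = 0) : cmap δ (HahnSeries.C c) = 0 := by
  ext n
  rw [cmap_coeff, HahnSeries.coeff_zero, HahnSeries.C_apply, HahnSeries.coeff_single]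
  split_ifs
  · exact hc
  · exact map_zero δ

theorem val_cmap_le (δ : F →+ F) (f : F⸨X⸩) (m : ℤ) (h : Valued.v f ≤ WithZero.exp (-m)) :
    Valued.v (cmap δ f) ≤ WithZero.exp (-m) := by
  rw [valuation_le_iff_coeff_lt_eq_zero F] at h ⊢
  intro n hn
  rw [cmap_coeff, h n hn, map_zero]

/-- The coefficient field of an expansion at a place of a geometric function field is
separable over the constant field. -/
theorem isSeparable_of_expansion (hK : IsFunctionField k K) (hg : IsGeometric k K)
    (P : Place k K) [FiniteDimensional k F] (φ : K →ₐ[k] F⸨X⸩)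
    (hφ : LocRes.IsExpansionAt P.1 φ) : Algebra.IsSeparable k F := by
  classical
  by_contra hsep
  have h1 := finrank_kaehler_of_isGeometric hK hg
  have hunr : ¬ Algebra.FormallyUnramified k F := fun h =>
    hsep ((Algebra.FormallyUnramified.iff_isSeparable k F).1 h)
  have hnt : Nontrivial (Ω[F⁄k]) := by
    by_contra hn
    rw [not_nontrivial_iff_subsingleton] at hn
    exact hunr ⟨hn⟩
  obtain ⟨w, hw⟩ := exists_ne (0 : Ω[F⁄k])
  obtain ⟨ℓ, hℓ⟩ : ∃ ℓ : Module.Dual F (Ω[F⁄k]), ℓ w ≠ 0 := by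
    by_contra hall
    push Not at hall
    exact hw ((Module.forall_dual_apply_eq_zero_iff F w).1 hall)
  set δ' : Derivation k F F := ℓ.compDer (KaehlerDifferential.D k F) with hδ'
  obtain ⟨c₀, hc₀⟩ : ∃ c₀ : F, δ' c₀ ≠ 0 := by
    by_contra hall
    push Not at hall
    apply hℓ
    have hle : (⊤ : Submodule F (Ω[F⁄k])) ≤ LinearMap.ker ℓ := by
      rw [← KaehlerDifferential.span_range_derivation k F, Submodule.span_le]
      rintro _ ⟨c, rfl⟩
      exact hall c
    exact hle Submodule.mem_top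
  set δ : F →+ F := (δ' : F →ₗ[k] F).toAddMonoidHom with hδ
  have hδmul : ∀ a b, δ (a * b) = a * δ b + b * δ a := fun a b => δ'.leibniz a b
  have hδk : ∀ c : k, δ (algebraMap k F c) = 0 := fun c => δ'.map_algebraMap c
  -- the uniformizer
  obtain ⟨hval, hsurj, t, ht⟩ := hφ
  have hvt : Valued.v (φ t) = WithZero.exp (-1) := by rw [hval, ht]
  have hDt : Valued.v (LocRes.D F (φ t)) = 1 := val_D_unif (φ t) hvt
  have hDt0 : LocRes.D F (φ t) ≠ 0 := by
    intro h0
    rw [h0, map_zero] at hDt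
    exact zero_ne_one hDt
  have hdt : KaehlerDifferential.D k K t ≠ 0 := D_ne_zero_of_exp φ t hDt0
  -- the twisted derivation
  obtain ⟨y, hy1, hy⟩ := hsurj c₀
  obtain ⟨c, hc, hchain⟩ := chain h1 t hdt y
  have htw := Groth.Agent.Helper27.Hasse.twisted_deriv (k := k) (φ : K →+* F⸨X⸩)
    (fun z => cmap δ (φ z))
    (fun a b => by simp only [map_add, cmap_add])
    (fun a b => by
      simp only [map_mul]
      rw [cmap_mul δ hδmul]
      rfl)
    (fun a => by
      show cmap δ (φ (algebraMap k K a)) = 0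
      rw [LocRes.map_algebraMap]
      exact cmap_C δ _ (hδk a))
    t y c hc
  simp only [RingHom.coe_coe] at htw
  have hch := hchain F φ
  -- valuations
  have hvy : Valued.v (φ y) ≤ 1 := by rw [hval]; exact hy1
  have hvDy : Valued.v (LocRes.D F (φ y)) ≤ 1 := val_D_le_one (φ y) hvy
  have hvc : Valued.v (φ c) ≤ 1 := by
    have : Valued.v (LocRes.D F (φ y)) = Valued.v (φ c) * Valued.v (LocRes.D F (φ t)) := by
      rw [hch, map_mul]
    rw [hDt, mul_one] at this
    rw [← this]; exact hvDy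
  have hvδt : Valued.v (cmap δ (φ t)) ≤ WithZero.exp (-1) :=
    val_cmap_le δ (φ t) 1 (by rw [hvt])
  have hvδy : Valued.v (cmap δ (φ y)) ≤ WithZero.exp (-1) := by
    rw [htw, map_mul]
    calc Valued.v (φ c) * Valued.v (cmap δ (φ t)) ≤ 1 * WithZero.exp (-1) :=
          mul_le_mul' hvc hvδt
      _ = _ := one_mul _
  rw [valuation_le_iff_coeff_lt_eq_zero F] at hvδy
  have h0 := hvδy 0 (by norm_num)
  rw [cmap_coeff, hy] at h0
  exact hc₀ h0

theorem exists_trace_ne_zero (hK : IsFunctionField k K) (hg : IsGeometric k K)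
    (P : Place k K) [FiniteDimensional k F] (φ : K →ₐ[k] F⸨X⸩)
    (hφ : LocRes.IsExpansionAt P.1 φ) : ∃ c : F, Algebra.trace k F c ≠ 0 := by
  haveI := isSeparable_of_expansion hK hg P φ hφ
  obtain ⟨c, hc⟩ := Algebra.trace_surjective k F 1
  exact ⟨c, by rw [hc]; exact one_ne_zero⟩

end Groth.Agent.Helper27.SepRes
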