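import Mathlib
set_option autoImplicit false
universe u
open CategoryTheory CategoryTheory.Limits MonoidalCategory CartesianMonoidalCategory MonObj GrpObj AlgebraicGeometry

namespace Groth.Agent.Helper27.Shear

theorem main {S : Scheme.{u}} (G H : Over S)
    [GrpObj G] [GrpObj H] (i : G ⟶ H) [IsClosedImmersion i.left] :
    IsClosedImmersion (CartesianMonoidalCategory.lift ((i ▷ H) ≫ μ[H]) (snd G H)).left := by
  -- the inverse shear
  let g : H ⊗ H ⟶ H ⊗ H := lift (fst H H / snd H H) (snd H H)
  let sh : H ⊗ H ⟶ H ⊗ H := lift (fst H H * snd H H) (snd H H)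
  have h2 : g ≫ sh = 𝟙 _ := by
    apply CartesianMonoidalCategory.hom_ext
    · simp only [g, sh, Category.assoc, lift_fst, Category.id_comp, MonObj.comp_mul, lift_snd]
      simp
    · simp [g, sh]
  have h1 : lift ((i ▷ H) ≫ μ[H]) (snd G H) ≫ g = i ▷ H := by
    apply CartesianMonoidalCategory.hom_ext
    · simp only [g, Category.assoc, lift_fst, GrpObj.comp_div, lift_snd, whiskerRight_fst]
      have : (i ▷ H) ≫ μ[H] = (fst G H ≫ i) * snd G H := by
        rw [Hom.mul_def]
        congr 1
      rw [this]
      simp
    · simp [g]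
  have hsep : IsSeparated g.left := by
    have : g.left ≫ sh.left = 𝟙 _ := by
      rw [← Over.comp_left, h2]; rfl
    have : Mono g.left := mono_of_mono_fac this
    infer_instance
  have hci : IsClosedImmersion (i ▷ H).left := by
    rw [Over.whiskerRight_left]
    have : MorphismProperty.IsStableUnderComposition @IsClosedImmersion.{u} :=
      (inferInstance : MorphismProperty.IsMultiplicative @IsClosedImmersion.{u}).toIsStableUnderComposition
    exact MorphismProperty.pullbackMap (P := @IsClosedImmersion) ‹_› (inferInstance : IsClosedImmersion (𝟙 H.left)) (by simp) (by simp)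
  have : IsClosedImmersion ((lift ((i ▷ H) ≫ μ[H]) (snd G H)).left ≫ g.left) := by
    rw [← Over.comp_left, h1]; exact hci
  exact IsClosedImmersion.of_comp _ g.left

end Groth.Agent.Helper27.Shear
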