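import Mathlib
import Groth.Agent.Lib.Helper27.CfD
import Groth.Agent.Lib.Helper27.NrmB
import Groth.Agent.Lib.Helper27.RHb

set_option autoImplicit false

namespace Groth.Agent.Helper27.Trn

open FunFld Groth.Agent.Helper16.FFW Polynomial
open scoped WithZero

section bridge

variable {K L : Type*} [Field K] [Field L] [Algebra K L] (V : ValuationSubring K)
  [Algebra V L] [IsScalarTower V K L]

/-- the surjection `V → V.map` -/
noncomputable def toMap : V →+* (V.toSubring.map (algebraMap K L)) :=
  ((algebraMap K L).comp V.subtype).codRestrict _ (fun a => ⟨a, a.2, rfl⟩)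

theorem toMap_surjective : Function.Surjective (toMap (L := L) V) := by
  rintro ⟨_, a, ha, rfl⟩
  exact ⟨⟨a, ha⟩, rfl⟩

theorem algebraMap_comp_toMap :
    (algebraMap (V.toSubring.map (algebraMap K L)) L).comp (toMap (L := L) V) = algebraMap V L := by
  ext a
  exact (IsScalarTower.algebraMap_apply V K L a).symm

theorem isIntegral_map_iff (z : L) :
    IsIntegral (V.toSubring.map (algebraMap K L)) z ↔ IsIntegral V z := by
  constructor
  · rintro ⟨p, hpm, hp⟩
    have hlift : p ∈ Polynomial.lifts (toMap (L := L) V) := by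
      rw [Polynomial.mem_lifts]
      exact Polynomial.map_surjective _ (toMap_surjective V) p
    obtain ⟨q, hq, -, hqm⟩ := Polynomial.lifts_and_degree_eq_and_monic hlift hpm
    refine ⟨q, hqm, ?_⟩
    rw [← algebraMap_comp_toMap, ← Polynomial.eval₂_map, hq]
    exact hp
  · rintro ⟨q, hqm, hq⟩
    refine ⟨q.map (toMap (L := L) V), hqm.map _, ?_⟩
    rw [Polynomial.eval₂_map, algebraMap_comp_toMap]
    exact hq

theorem adjoin_map_coe (S : Set L) :
    (Algebra.adjoin (V.toSubring.map (algebraMap K L)) S : Set L) = (Algebra.adjoin V S : Set L) := by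
  have h1 := Algebra.adjoin_eq_ring_closure (R := V.toSubring.map (algebraMap K L)) S
  have h2 := Algebra.adjoin_eq_ring_closure (R := V) S
  have hr : Set.range (algebraMap (V.toSubring.map (algebraMap K L)) L) =
      Set.range (algebraMap V L) := by
    ext x
    constructor
    · rintro ⟨⟨_, a, ha, rfl⟩, rfl⟩
      exact ⟨⟨a, ha⟩, IsScalarTower.algebraMap_apply V K L _⟩
    · rintro ⟨a, rfl⟩
      exact ⟨toMap (L := L) V a, (IsScalarTower.algebraMap_apply V K L a).symm⟩
  rw [hr] at h1
  have := h1.trans h2.symm
  exact congrArg (fun T : Subring L => (T : Set L)) this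

/-- the nonsingularity condition of the statements, in terms of the `V`-algebra structure -/
theorem bridge (S : Set L) :
    integralClosure (V.toSubring.map (algebraMap K L)) L =
        Algebra.adjoin (V.toSubring.map (algebraMap K L)) S ↔
      integralClosure V L = Algebra.adjoin V S := by
  rw [← SetLike.coe_set_eq, ← SetLike.coe_set_eq (p := integralClosure V L), adjoin_map_coe]
  have : (integralClosure (V.toSubring.map (algebraMap K L)) L : Set L) =
      (integralClosure V L : Set L) := by
    ext z
    exact isIntegral_map_iff V z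
  rw [this]

end bridge

section span

universe u v

variable {k k' : Type u} {K K' : Type v} [Field k] [Field k'] [Field K] [Field K']
  [Algebra k k'] [Algebra k K] [Algebra K K'] [Algebra k' K'] [Algebra k K']
  [IsScalarTower k k' K'] [IsScalarTower k K K']
  (P : Place k K) [Algebra P.O K'] [IsScalarTower P.O K K']

/-- `O_P[k']` is the `O_P`-span of a basis of constants -/
theorem adjoin_eq_span' {ι : Type*} [Fintype ι] (b : Module.Basis ι k k') (B : Module.Basis ι K K')
    (hB : ∀ i, B i = algebraMap k' K' (b i)) :
    Subalgebra.toSubmodule (Algebra.adjoin P.O (Set.range (algebraMap k' K'))) =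
      Submodule.span P.O (Set.range B) := by
  classical
  set M := Submodule.span P.O (Set.range B) with hM
  have hkM : ∀ c : k', algebraMap k' K' c ∈ M := by
    intro c
    have : algebraMap k' K' c = ∑ i, (algebraMap k P.O (b.repr c i)) • B i := by
      conv_lhs => rw [← b.sum_repr c]
      rw [map_sum]
      refine Finset.sum_congr rfl fun i _ => ?_
      rw [hB, Algebra.smul_def, map_mul, ← IsScalarTower.algebraMap_apply k k' K',
        Algebra.smul_def, Cf.algebraMap_O_eq]
      congr 1
      rw [IsScalarTower.algebraMap_apply k K K']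
      rfl
    rw [this]
    exact Submodule.sum_mem _ fun i _ => Submodule.smul_mem _ _ (Submodule.subset_span ⟨i, rfl⟩)
  have h1 : (1 : K') ∈ M := by
    have := hkM 1
    rwa [map_one] at this
  have hmul : ∀ x y, x ∈ M → y ∈ M → x * y ∈ M := by
    intro x y hx hy
    have hle : M * M ≤ M := by
      rw [hM, Submodule.span_mul_span, Submodule.span_le]
      rintro _ ⟨_, ⟨i, rfl⟩, _, ⟨j, rfl⟩, rfl⟩
      show B i * B j ∈ M
      rw [hB, hB, ← map_mul]
      exact hkM _
    exact hle (Submodule.mul_mem_mul hx hy)
  apply le_antisymm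
  · have : Algebra.adjoin P.O (Set.range (algebraMap k' K')) ≤ M.toSubalgebra h1 hmul := by
      apply Algebra.adjoin_le
      rintro _ ⟨c, rfl⟩
      exact hkM c
    exact this
  · rw [hM, Submodule.span_le]
    rintro _ ⟨i, rfl⟩
    rw [hB]
    exact Algebra.subset_adjoin ⟨_, rfl⟩

theorem mem_adjoin_iff' {ι : Type*} [Fintype ι] (b : Module.Basis ι k k') (B : Module.Basis ι K K')
    (hB : ∀ i, B i = algebraMap k' K' (b i)) (z : K') :
    z ∈ Algebra.adjoin P.O (Set.range (algebraMap k' K')) ↔ ∀ i, P.1 (B.repr z i) ≤ 1 := by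
  rw [← Subalgebra.mem_toSubmodule, adjoin_eq_span' P b B hB, Module.Basis.mem_span_iff_repr_mem]
  refine forall_congr' fun i => ?_
  constructor
  · rintro ⟨a, ha⟩
    rw [← ha]
    exact (Place.mem_O_iff P _).1 a.2
  · intro hi
    exact ⟨⟨_, (Place.mem_O_iff P _).2 hi⟩, rfl⟩

end span

end Groth.Agent.Helper27.Trn
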