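import Mathlib
import Groth.Agent.Lib.Helper27.SnE
import Groth.Agent.Lib.Helper27.TrnA
import Groth.Agent.Lib.Helper16.FF.GeomA

set_option autoImplicit false

namespace Groth.Agent.Helper27.Sn

open FunFld Polynomial IntermediateField Groth.Agent.Helper16.FFW TensorProduct
open scoped WithZero

universe u v

section data

variable {k : Type u} {K : Type v} [Field k] [Field K] [Algebra k K]

attribute [local instance] algF

/-- a separating variable, an integral primitive element, and its equation -/
theorem exists_data (hK : IsFunctionField k K) (hg : IsGeometric k K) :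
    ∃ (x y : K) (G : k[X][X]), Transcendental k x ∧ adjoin k ({x, y} : Set K) = ⊤ ∧ G.Monic ∧
      G.eval₂ (aeval x : k[X] →ₐ[k] K).toRingHom y = 0 ∧
      (derivative G).eval₂ (aeval x : k[X] →ₐ[k] K).toRingHom y ≠ 0 := by
  obtain ⟨x, hsep⟩ := Groth.Agent.Helper16.FF.exists_separating_of_isGeometric hK hg
  have hxt : Transcendental k x := by
    intro halg
    obtain ⟨⟨x₀, hx₀, -⟩, -⟩ := id hK
    haveI : Algebra.IsAlgebraic k (adjoin k ({x} : Set K)) :=
      IntermediateField.isAlgebraic_adjoin_simple halg.isIntegral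
    haveI : Algebra.IsAlgebraic (adjoin k ({x} : Set K)) K := Algebra.IsSeparable.isAlgebraic _ _
    haveI : Algebra.IsAlgebraic k K := Algebra.IsAlgebraic.trans k (adjoin k ({x} : Set K)) K
    exact hx₀ (Algebra.IsAlgebraic.isAlgebraic x₀)
  set F := adjoin k ({x} : Set K) with hF
  haveI : FiniteDimensional F K := Groth.Agent.Helper16.FF.finite_of_transcendental hK hxt
  letI : Algebra k[X] K := (aeval x : k[X] →ₐ[k] K).toRingHom.toAlgebra
  haveI : IsScalarTower k[X] F K :=
    IsScalarTower.of_algebraMap_eq (fun p => (coe_toF x p).symm)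
  haveI := isFractionRing hxt
  obtain ⟨y₀, hy₀⟩ := Field.exists_primitive_element F K
  have halg : IsAlgebraic k[X] y₀ :=
    (IsFractionRing.isAlgebraic_iff k[X] F K).2 (Algebra.IsAlgebraic.isAlgebraic y₀)
  obtain ⟨d, hd0, hdint⟩ := halg.exists_integral_multiple
  set y := d • y₀ with hy
  have hyeq : y = algebraMap F K (toF x d) * y₀ := by
    rw [hy, Algebra.smul_def]
    congr 1
    exact (coe_toF x d).symm
  have hd0' : algebraMap F K (toF x d) ≠ 0 := by
    rw [Ne, map_eq_zero_iff _ (algebraMap F K).injective]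
    intro h0
    exact hd0 (toF_injective hxt (by rw [h0, map_zero]))
  have htop : adjoin F ({y} : Set K) = ⊤ := by
    rw [eq_top_iff, ← hy₀, adjoin_simple_le_iff]
    have h1 : y₀ = (algebraMap F K (toF x d))⁻¹ * y := by
      rw [hyeq, ← mul_assoc, inv_mul_cancel₀ hd0', one_mul]
    rw [h1]
    exact mul_mem (inv_mem (IntermediateField.algebraMap_mem _ _)) (mem_adjoin_simple_self F y)
  have hgen : adjoin k ({x, y} : Set K) = ⊤ := by
    have h1 := adjoin_adjoin_left k ({x} : Set K) ({y} : Set K)
    rw [htop, restrictScalars_top] at h1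
    have : ({x} : Set K) ∪ {y} = {x, y} := by
      ext t; simp [or_comm]
    rw [← this, ← h1]
  set G := minpoly k[X] y with hG
  have hGm : G.Monic := minpoly.monic hdint
  have hGy : aeval y G = 0 := minpoly.aeval k[X] y
  refine ⟨x, y, G, hxt, hgen, hGm, hGy, ?_⟩
  have h1 : minpoly F y = G.map (algebraMap k[X] F) :=
    minpoly.isIntegrallyClosed_eq_field_fractions' F hdint
  have h2 : aeval y (derivative (minpoly F y)) ≠ 0 :=
    (Algebra.IsSeparable.isSeparable F y).aeval_derivative_ne_zero (minpoly.aeval F y)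
  rw [h1, derivative_map, aeval_map_algebraMap] at h2
  exact h2

end data

section fin

variable {k : Type u} {K : Type v} [Field k] [Field K] [Algebra k K]

theorem val_eval₂_le_one (x y : K) (H : k[X][X]) (P : Place k K) (hPx : P.1 x ≤ 1)
    (hPy : P.1 y ≤ 1) : P.1 (H.eval₂ (aeval x : k[X] →ₐ[k] K).toRingHom y) ≤ 1 := by
  rw [eval₂_eq_sum_range]
  refine Valuation.map_sum_le _ (fun i _ => ?_)
  rw [map_mul, map_pow]
  exact mul_le_one' (val_aeval_le_one P hPx _) (pow_le_one' hPy _)

/-- **finiteness of the set of singular places** -/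
theorem main12527 (hK : IsFunctionField k K) (hg : IsGeometric k K) :
    {P : FunFld.Place k K | ∃ (k' : Type u) (_ : Field k') (_ : Algebra k k'),
      FiniteDimensional k k' ∧
      integralClosure (P.O.toSubring.map
          (Algebra.TensorProduct.includeRight : K →ₐ[k] k' ⊗[k] K).toRingHom) (k' ⊗[k] K) ≠
        Algebra.adjoin (P.O.toSubring.map
          (Algebra.TensorProduct.includeRight : K →ₐ[k] k' ⊗[k] K).toRingHom)
          (Set.range (Algebra.TensorProduct.includeLeftRingHom : k' →+* k' ⊗[k] K))}.Finite := by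
  obtain ⟨x, y, G, hxt, hgen, hGm, hG, hθ⟩ := exists_data hK hg
  set θ := (derivative G).eval₂ (aeval x : k[X] →ₐ[k] K).toRingHom y with hθdef
  have hx0 : x ≠ 0 := fun h => hxt (h ▸ isAlgebraic_zero)
  have hfin : ((Function.support fun P : Place k K => P.ord x) ∪
      (Function.support fun P : Place k K => P.ord θ)).Finite :=
    (finite_support_ord hK.1 x).union (finite_support_ord hK.1 θ)
  refine hfin.subset ?_
  rintro P ⟨k', _, _, hfd, hne⟩
  by_contra hP
  rw [Set.mem_union, not_or, Function.mem_support, Function.mem_support, not_not, not_not] at hP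
  obtain ⟨hPx0, hPθ0⟩ := hP
  have hPx : P.1 x ≤ 1 := by rw [Place.val_le_one_iff P hx0, hPx0]
  have hPθ : P.1 θ = 1 := by
    rw [Place.val_eq_exp_neg_ord P hθ, hPθ0, neg_zero, WithZero.exp_zero]
  apply hne
  haveI := hfd
  have hfield : IsField (k' ⊗[k] K) := hg k' hfd
  letI : Field (k' ⊗[k] K) := hfield.toField
  letI : Algebra K (k' ⊗[k] K) := Algebra.TensorProduct.rightAlgebra
  haveI : IsScalarTower k K (k' ⊗[k] K) := Algebra.TensorProduct.right_isScalarTower
  have h : Function.Bijective (Algebra.TensorProduct.productMap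
      (IsScalarTower.toAlgHom k k' (k' ⊗[k] K)) (IsScalarTower.toAlgHom k K (k' ⊗[k] K))) := by
    have : Algebra.TensorProduct.productMap
        (IsScalarTower.toAlgHom k k' (k' ⊗[k] K)) (IsScalarTower.toAlgHom k K (k' ⊗[k] K)) =
        AlgHom.id k (k' ⊗[k] K) := by
      apply Algebra.TensorProduct.ext'
      intro a b
      rw [Algebra.TensorProduct.productMap_apply_tmul]
      show (a ⊗ₜ[k] (1 : K)) * ((1 : k') ⊗ₜ[k] b) = a ⊗ₜ[k] b
      rw [Algebra.TensorProduct.tmul_mul_tmul, mul_one, one_mul]
    rw [this]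
    exact Function.bijective_id
  letI : Algebra P.O (k' ⊗[k] K) := ((algebraMap K (k' ⊗[k] K)).comp P.O.subtype).toAlgebra
  haveI : IsScalarTower P.O K (k' ⊗[k] K) := IsScalarTower.of_algebraMap_eq (fun _ => rfl)
  have e1 := integralClosure_le_adjoin_of_unit h hK x y hxt hgen G hGm hG P hPx hPθ
  have e2 := Cg.adjoin_le_integralClosure (k' := k') (K' := k' ⊗[k] K) P
  have heq : integralClosure P.O (k' ⊗[k] K) =
      Algebra.adjoin P.O (Set.range (algebraMap k' (k' ⊗[k] K))) := le_antisymm e1 e2
  exact (Trn.bridge (L := k' ⊗[k] K) P.O (Set.range (algebraMap k' (k' ⊗[k] K)))).2 heq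

end fin

end Groth.Agent.Helper27.Sn
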