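import Mathlib

/-! Transfer of geometric reducedness of a field extension along compatible isomorphisms. -/

set_option autoImplicit false

namespace Groth.Agent.Helper27.Sv

open TensorProduct

universe u

theorem geomRed_of_ringEquiv {k E k' E' : Type u} [Field k] [Field E] [Algebra k E] [Field k']
    [Field E'] [Algebra k' E'] (σ : k ≃+* k') (τ : E ≃+* E')
    (h : ∀ c, τ (algebraMap k E c) = algebraMap k' E' (σ c))
    [Algebra.IsGeometricallyReduced k E] : Algebra.IsGeometricallyReduced k' E' := by
  letI i1 : Algebra k k' := σ.toRingHom.toAlgebra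
  letI i2 : Algebra k E' := ((algebraMap k' E').comp σ.toRingHom).toAlgebra
  haveI : IsScalarTower k k' E' := IsScalarTower.of_algebraMap_eq (fun _ => rfl)
  let τa : E ≃ₐ[k] E' := { τ with commutes' := fun c => h c }
  haveI : Algebra.IsGeometricallyReduced k E' :=
    Algebra.IsGeometricallyReduced.of_injective τa.symm.toAlgHom τa.symm.injective
  rw [Algebra.isGeometricallyReduced_field_iff]
  haveI : Algebra.IsAlgebraic k k' := by
    constructor
    intro x
    refine ⟨Polynomial.X - Polynomial.C (σ.symm x), Polynomial.X_sub_C_ne_zero _, ?_⟩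
    rw [map_sub, Polynomial.aeval_X, Polynomial.aeval_C]
    show x - σ (σ.symm x) = 0
    rw [σ.apply_symm_apply, sub_self]
  haveI : Algebra.IsAlgebraic k (AlgebraicClosure k') := Algebra.IsAlgebraic.trans k k' _
  haveI hred : IsReduced (AlgebraicClosure k' ⊗[k] E') := inferInstance
  haveI : TensorProduct.CompatibleSMul k k' (AlgebraicClosure k') E' := by
    constructor
    intro c' a e
    obtain ⟨c, rfl⟩ := σ.surjective c'
    have h1 : (σ c) • a = c • a := by
      rw [Algebra.smul_def, Algebra.smul_def]; rfl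
    have h2 : (σ c) • e = c • e := by
      rw [Algebra.smul_def, Algebra.smul_def]; rfl
    rw [h1, h2, TensorProduct.smul_tmul]
  exact isReduced_of_injective
    (Algebra.TensorProduct.equivOfCompatibleSMul k k' k' (AlgebraicClosure k') E').toAlgHom
    (AlgEquiv.injective _)

/-- Transfer along embeddings into a common field with equal images. -/
theorem geomRed_of_range_eq {k₂ E₂ k₃ E₃ Ω : Type u} [Field k₂] [Field E₂] [Algebra k₂ E₂]
    [Field k₃] [Field E₃] [Algebra k₃ E₃] [Field Ω] (ρ₂ : E₂ →+* Ω) (ρ₃ : E₃ →+* Ω)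
    (hE : ρ₂.range = ρ₃.range)
    (hk : (ρ₂.comp (algebraMap k₂ E₂)).range = (ρ₃.comp (algebraMap k₃ E₃)).range)
    [Algebra.IsGeometricallyReduced k₂ E₂] : Algebra.IsGeometricallyReduced k₃ E₃ := by
  have hinj₂ : Function.Injective ρ₂ := ρ₂.injective
  have hinj₃ : Function.Injective ρ₃ := ρ₃.injective
  have hinjk₂ : Function.Injective (ρ₂.comp (algebraMap k₂ E₂)) := RingHom.injective _
  have hinjk₃ : Function.Injective (ρ₃.comp (algebraMap k₃ E₃)) := RingHom.injective _
  let τ : E₂ ≃+* E₃ := (RingEquiv.ofLeftInverse (g := Function.invFun ρ₂)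
      (Function.leftInverse_invFun hinj₂)).trans
    ((RingEquiv.subringCongr hE).trans (RingEquiv.ofLeftInverse (g := Function.invFun ρ₃)
      (Function.leftInverse_invFun hinj₃)).symm)
  let σ : k₂ ≃+* k₃ := (RingEquiv.ofLeftInverse (g := Function.invFun (ρ₂.comp (algebraMap k₂ E₂)))
      (Function.leftInverse_invFun hinjk₂)).trans
    ((RingEquiv.subringCongr hk).trans (RingEquiv.ofLeftInverse
      (g := Function.invFun (ρ₃.comp (algebraMap k₃ E₃)))
      (Function.leftInverse_invFun hinjk₃)).symm)
  have hτ : ∀ x, ρ₃ (τ x) = ρ₂ x := by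
    intro x
    have : ∀ y : ρ₃.range, ρ₃ ((RingEquiv.ofLeftInverse (g := Function.invFun ρ₃)
      (Function.leftInverse_invFun hinj₃)).symm y) = y := by
      intro y
      exact congrArg Subtype.val ((RingEquiv.ofLeftInverse (g := Function.invFun ρ₃)
        (Function.leftInverse_invFun hinj₃)).apply_symm_apply y)
    simp only [τ, RingEquiv.trans_apply]
    rw [this]
    rfl
  have hσ : ∀ c, ρ₃ (algebraMap k₃ E₃ (σ c)) = ρ₂ (algebraMap k₂ E₂ c) := by
    intro c
    have : ∀ y : (ρ₃.comp (algebraMap k₃ E₃)).range, (ρ₃.comp (algebraMap k₃ E₃))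
        ((RingEquiv.ofLeftInverse (g := Function.invFun (ρ₃.comp (algebraMap k₃ E₃)))
      (Function.leftInverse_invFun hinjk₃)).symm y) = y := by
      intro y
      exact congrArg Subtype.val ((RingEquiv.ofLeftInverse
        (g := Function.invFun (ρ₃.comp (algebraMap k₃ E₃)))
        (Function.leftInverse_invFun hinjk₃)).apply_symm_apply y)
    have h1 := this ((RingEquiv.subringCongr hk) ((RingEquiv.ofLeftInverse
      (g := Function.invFun (ρ₂.comp (algebraMap k₂ E₂)))
      (Function.leftInverse_invFun hinjk₂)) c))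
    exact h1
  refine geomRed_of_ringEquiv σ τ (fun c => ?_)
  apply hinj₃
  rw [hτ, hσ]

end Groth.Agent.Helper27.Sv
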