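import Mathlib
import Groth.Prelude.Def_EtRam
import Groth.Agent.Lib.Helper27.PiB

/-! Valuation-theoretic reformulation of weak unramifiedness of `W ∩ K' → W`, and comparison of
valuations along `ValuationSubring.comap`. -/

set_option autoImplicit false

namespace Groth.Agent.Helper27.Sv

open IsLocalRing Groth.Agent.Helper27.Pi

universe u

section comap

variable {M Ω : Type u} [Field M] [Field Ω] (W : ValuationSubring Ω) (ι : M →+* Ω)

theorem comap_val_le_one_iff (x : M) : (W.comap ι).valuation x ≤ 1 ↔ W.valuation (ι x) ≤ 1 := by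
  rw [ValuationSubring.valuation_le_one_iff, ValuationSubring.valuation_le_one_iff]
  rfl

theorem comap_val_lt_one_iff (x : M) : (W.comap ι).valuation x < 1 ↔ W.valuation (ι x) < 1 := by
  rw [val_lt_one_iff, val_lt_one_iff, ValuationSubring.mem_comap, map_inv₀]
  constructor
  · rintro (h | h)
    · left; rw [h, map_zero]
    · right; exact h
  · rintro (h | h)
    · left; exact ι.injective (by rw [h, map_zero])
    · right; exact h

theorem comap_val_le_iff (x y : M) :
    (W.comap ι).valuation x ≤ (W.comap ι).valuation y ↔ W.valuation (ι x) ≤ W.valuation (ι y) := by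
  by_cases hy : y = 0
  · subst hy
    simp only [map_zero, le_zero_iff, Valuation.zero_iff]
    exact ⟨fun h => by rw [h, map_zero], fun h => ι.injective (by rw [h, map_zero])⟩
  · have hy' : ι y ≠ 0 := fun h => hy (ι.injective (by rw [h, map_zero]))
    have h1 : (W.comap ι).valuation x ≤ (W.comap ι).valuation y ↔
        (W.comap ι).valuation (x / y) ≤ 1 := by
      rw [map_div₀, div_le_one₀ (zero_lt_iff.mpr ((Valuation.ne_zero_iff _).mpr hy))]
    have h2 : W.valuation (ι x) ≤ W.valuation (ι y) ↔ W.valuation (ι (x / y)) ≤ 1 := by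
      rw [map_div₀, map_div₀, div_le_one₀ (zero_lt_iff.mpr ((Valuation.ne_zero_iff _).mpr hy'))]
    rw [h1, h2, comap_val_le_one_iff]

end comap

/-- Two valuation subrings, one containing the other, with the same non-units, agree. -/
theorem valuationSubring_eq_of_le {M : Type u} [Field M] (V V' : ValuationSubring M) (hle : V ≤ V')
    (hm : ∀ x ∈ V, V.valuation x < 1 → V'.valuation x < 1) : V = V' := by
  apply le_antisymm hle
  intro x hx
  by_contra hxV
  have hx0 : x ≠ 0 := fun h => hxV (by rw [h]; exact V.zero_mem)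
  have hinv : x⁻¹ ∈ V := (V.mem_or_inv_mem x).resolve_left hxV
  have h1 : V.valuation x⁻¹ < 1 := by
    rw [val_lt_one_iff]
    right
    rw [inv_inv]
    exact hxV
  have h2 := hm _ hinv h1
  rw [val_lt_one_iff] at h2
  rcases h2 with h2 | h2
  · exact hx0 (inv_eq_zero.mp h2)
  · rw [inv_inv] at h2
    exact h2 hx

section wu

variable {K' M : Type u} [Field K'] [Field M] (W : ValuationSubring M) (f : K' →+* M)

theorem wu_imp_val
    (h : letI : Algebra (W.comap f) W := (EtRam.inclOfComap W f).toAlgebra
      EtRam.IsWeaklyUnramified (W.comap f) W) :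
    ∀ x : M, W.valuation x < 1 →
      ∃ s : K', W.valuation (f s) < 1 ∧ W.valuation x ≤ W.valuation (f s) := by
  letI : Algebra (W.comap f) W := (EtRam.inclOfComap W f).toAlgebra
  have h' : Ideal.map (algebraMap (W.comap f) W) (maximalIdeal (W.comap f)) = maximalIdeal W := h
  intro x hx
  have hxW : x ∈ W := (W.valuation_le_one_iff x).mp hx.le
  have hxm : (⟨x, hxW⟩ : W) ∈ maximalIdeal W := (W.valuation_lt_one_iff ⟨x, hxW⟩).mpr hx
  rw [← h', Ideal.map] at hxm
  have key : ∀ y : W, y ∈ Ideal.span ((algebraMap (W.comap f) W) '' (maximalIdeal (W.comap f) : Set _)) →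
      ∃ s : K', W.valuation (f s) < 1 ∧ W.valuation (y : M) ≤ W.valuation (f s) := by
    intro y hy
    induction hy using Submodule.span_induction with
    | mem z hz =>
      obtain ⟨s, hs, rfl⟩ := hz
      refine ⟨(s : K'), ?_, le_rfl⟩
      have hs' : (algebraMap (W.comap f) W s) ∈ maximalIdeal W := by
        have hloc : IsLocalHom (algebraMap (W.comap f) W) := EtRam.isLocalHom_inclOfComap W f
        have hs0 : s ∈ maximalIdeal (W.comap f) := hs
        rw [mem_maximalIdeal, mem_nonunits_iff] at hs0 ⊢
        exact fun hu => hs0 (isUnit_of_map_unit _ _ hu)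
      exact (W.valuation_lt_one_iff _).mp hs'
    | zero => exact ⟨0, by rw [map_zero, map_zero]; exact zero_lt_one, by simp⟩
    | add y z _ _ hy hz =>
      obtain ⟨s, hs1, hs2⟩ := hy
      obtain ⟨t, ht1, ht2⟩ := hz
      rcases le_total (W.valuation (f s)) (W.valuation (f t)) with hst | hst
      · exact ⟨t, ht1, le_trans (Valuation.map_add _ _ _) (max_le (le_trans hs2 hst) ht2)⟩
      · exact ⟨s, hs1, le_trans (Valuation.map_add _ _ _) (max_le hs2 (le_trans ht2 hst))⟩
    | smul w y _ hy =>
      obtain ⟨s, hs1, hs2⟩ := hy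
      refine ⟨s, hs1, ?_⟩
      show W.valuation ((w : M) * (y : M)) ≤ _
      rw [map_mul]
      calc W.valuation (w : M) * W.valuation (y : M) ≤ 1 * W.valuation (f s) := by
            gcongr
            exact (W.valuation_le_one_iff _).mpr w.2
        _ = _ := one_mul _
  exact key _ hxm

theorem wu_of_val
    (h : ∀ x : M, W.valuation x < 1 →
      ∃ s : K', W.valuation (f s) < 1 ∧ W.valuation x ≤ W.valuation (f s)) :
    letI : Algebra (W.comap f) W := (EtRam.inclOfComap W f).toAlgebra
    EtRam.IsWeaklyUnramified (W.comap f) W := by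
  letI : Algebra (W.comap f) W := (EtRam.inclOfComap W f).toAlgebra
  show Ideal.map (algebraMap (W.comap f) W) (maximalIdeal _) = maximalIdeal W
  apply le_antisymm
  · exact ((IsLocalRing.local_hom_TFAE (algebraMap (W.comap f) W)).out 0 2).mp
      (EtRam.isLocalHom_inclOfComap W f)
  · intro x hx
    have hxv : W.valuation (x : M) < 1 := (W.valuation_lt_one_iff x).mp hx
    obtain ⟨s, hs1, hs2⟩ := h x hxv
    by_cases hs0 : f s = 0
    · rw [hs0, map_zero, le_zero_iff, Valuation.zero_iff] at hs2
      have : x = 0 := Subtype.ext hs2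
      rw [this]; exact Ideal.zero_mem _
    have hsW : f s ∈ W := (W.valuation_le_one_iff _).mp hs1.le
    let s' : W.comap f := ⟨s, hsW⟩
    have hs'm : s' ∈ maximalIdeal (W.comap f) := by
      rw [mem_maximalIdeal, mem_nonunits_iff]
      intro hu
      have h1 : IsUnit (EtRam.inclOfComap W f s') := hu.map _
      rw [ValuationSubring.valuation_eq_one_iff] at h1
      have h2 : W.valuation (f s) = 1 := h1
      exact absurd h2 hs1.ne
    have hq : (x : M) / f s ∈ W := by
      rw [← W.valuation_le_one_iff, map_div₀,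
        div_le_one₀ (zero_lt_iff.mpr ((Valuation.ne_zero_iff _).mpr hs0))]
      exact hs2
    have hxeq : x = algebraMap (W.comap f) W s' * ⟨(x : M) / f s, hq⟩ := by
      apply Subtype.ext
      show (x : M) = f s * ((x : M) / f s)
      rw [mul_div_cancel₀ _ hs0]
    rw [hxeq]
    exact Ideal.mul_mem_right _ _ (Ideal.mem_map_of_mem _ hs'm)

end wu

end Groth.Agent.Helper27.Sv
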