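import Mathlib

/-! Valuation rings dominating a DVR inside an algebraic extension: every element of the valuation
ring is a quotient of integral elements with unit denominator (Bourbaki's lemma), and values of
algebraic elements are bounded by powers of the uniformizer. -/

set_option autoImplicit false

namespace Groth.Agent.Helper27.Sv

open IsLocalRing Polynomial

universe u

section tails

variable {B Ω : Type u} [CommRing B] [Field Ω] [Algebra B Ω]

/-- iterated `divX` -/
noncomputable def tl (P : B[X]) (k : ℕ) : B[X] := (Polynomial.divX)^[k] P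

theorem tl_zero (P : B[X]) : tl P 0 = P := rfl

theorem tl_succ (P : B[X]) (k : ℕ) : tl P (k + 1) = divX (tl P k) := by
  unfold tl
  rw [Function.iterate_succ_apply']

theorem coeff_tl (P : B[X]) (k i : ℕ) : (tl P k).coeff i = P.coeff (i + k) := by
  induction k generalizing i with
  | zero => rfl
  | succ k ih => rw [tl_succ, coeff_divX, ih]; congr 1; omega

theorem tl_eq_zero (P : B[X]) (k : ℕ) (hk : P.natDegree < k) : tl P k = 0 := by
  ext i
  rw [coeff_tl, coeff_zero]
  exact coeff_eq_zero_of_natDegree_lt (by omega)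

theorem tl_rec (P : B[X]) (k : ℕ) : tl P k = tl P (k + 1) * X + C (P.coeff k) := by
  have h := divX_mul_X_add (tl P k)
  rw [← tl_succ, coeff_tl, zero_add] at h
  exact h.symm

theorem aeval_tl_rec (P : B[X]) (x : Ω) (k : ℕ) :
    aeval x (tl P k) = aeval x (tl P (k + 1)) * x + algebraMap B Ω (P.coeff k) := by
  conv_lhs => rw [tl_rec P k]
  rw [map_add, map_mul, aeval_X, aeval_C]

theorem aeval_eq_pow_mul_tl (P : B[X]) (x : Ω) (k : ℕ) :
    aeval x P = x ^ k * aeval x (tl P k) +
      ∑ i ∈ Finset.range k, algebraMap B Ω (P.coeff i) * x ^ i := by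
  induction k with
  | zero => simp [tl_zero]
  | succ k ih =>
    rw [ih, aeval_tl_rec P x k, Finset.sum_range_succ]
    ring

theorem isIntegral_tl (P : B[X]) (x : Ω) (hx : aeval x P = 0) :
    ∀ k : ℕ, IsIntegral B (aeval x (tl P k)) ∧ IsIntegral B (x * aeval x (tl P (k + 1))) := by
  have key : ∀ k : ℕ, IsIntegral B (aeval x (tl P (k + 1))) →
      IsIntegral B (x * aeval x (tl P (k + 1))) := by
    intro k hy
    set y := aeval x (tl P (k + 1)) with hydef
    have hrel := aeval_eq_pow_mul_tl P x (k + 1)
    rw [hx, ← hydef] at hrel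
    -- monic polynomial over the integral closure
    let A' := integralClosure B Ω
    have hmem : ∀ i : ℕ, algebraMap B Ω (P.coeff i) * y ^ (k - i) ∈ A' := fun i =>
      A'.mul_mem (A'.algebraMap_mem _) (A'.pow_mem hy _)
    let G : A'[X] := X ^ (k + 1) +
      ∑ i ∈ Finset.range (k + 1), C (⟨_, hmem i⟩ : A') * X ^ i
    have hGm : G.Monic := by
      apply monic_X_pow_add
      refine lt_of_le_of_lt (degree_sum_le _ _) ?_
      rw [Finset.sup_lt_iff (by exact WithBot.bot_lt_coe _)]
      intro i hi
      refine lt_of_le_of_lt (degree_C_mul_X_pow_le _ _) ?_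
      exact_mod_cast Finset.mem_range.mp hi
    have hGx : eval₂ (algebraMap A' Ω) (x * y) G = 0 := by
      simp only [G, eval₂_add, eval₂_pow, eval₂_X, eval₂_finsetSum, eval₂_mul, eval₂_C]
      have h1 : ∀ i ∈ Finset.range (k + 1),
          algebraMap A' Ω ⟨_, hmem i⟩ * (x * y) ^ i =
            y ^ k * (algebraMap B Ω (P.coeff i) * x ^ i) := by
        intro i hi
        have hik : i ≤ k := by have := Finset.mem_range.mp hi; omega
        show algebraMap B Ω (P.coeff i) * y ^ (k - i) * (x * y) ^ i = _
        have : y ^ k = y ^ (k - i) * y ^ i := by rw [← pow_add]; congr 1; omega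
        rw [this, mul_pow]
        ring
      rw [Finset.sum_congr rfl h1, ← Finset.mul_sum]
      have h2 : (x * y) ^ (k + 1) = y ^ k * (x ^ (k + 1) * y) := by ring
      rw [h2, ← mul_add, ← hrel, mul_zero]
    have hint : IsIntegral A' (x * y) := ⟨G, hGm, hGx⟩
    exact isIntegral_trans _ hint
  -- downward induction
  have hdown : ∀ j : ℕ, j ≤ P.natDegree + 1 → IsIntegral B (aeval x (tl P (P.natDegree + 1 - j))) := by
    intro j
    induction j with
    | zero =>
      intro _
      rw [Nat.sub_zero, tl_eq_zero P _ (Nat.lt_succ_self _), map_zero]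
      exact isIntegral_zero
    | succ j ih =>
      intro hj
      have h1 := ih (by omega)
      have h2 : P.natDegree + 1 - j = (P.natDegree + 1 - (j + 1)) + 1 := by omega
      rw [h2] at h1
      rw [aeval_tl_rec P x (P.natDegree + 1 - (j + 1)), mul_comm]
      exact (key _ h1).add isIntegral_algebraMap
  have hall : ∀ k : ℕ, IsIntegral B (aeval x (tl P k)) := by
    intro k
    by_cases hk : k ≤ P.natDegree + 1
    · have := hdown (P.natDegree + 1 - k) (by omega)
      rwa [Nat.sub_sub_self hk] at this
    · rw [tl_eq_zero P k (by omega), map_zero]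
      exact isIntegral_zero
  exact fun k => ⟨hall k, key k (hall (k + 1))⟩

end tails

section dvr

variable (B : Type u) [CommRing B] [IsDomain B] [IsDiscreteValuationRing B]
  (Ω : Type u) [Field Ω] [Algebra B Ω] (hinj : Function.Injective (algebraMap B Ω))

include hinj in
/-- an algebraic element is a root of a polynomial with a unit coefficient -/
theorem exists_poly_unit_coeff (x : Ω) (halg : IsAlgebraic B x) :
    ∃ P : B[X], aeval x P = 0 ∧ ∃ i, IsUnit (P.coeff i) := by
  classical
  obtain ⟨ϖ, hϖ⟩ := IsDiscreteValuationRing.exists_irreducible B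
  obtain ⟨P₀, hP₀, hP₀x⟩ := halg
  -- induct on the multiplicity of ϖ in the leading coefficient
  have main : ∀ n : ℕ, ∀ P : B[X], P ≠ 0 → aeval x P = 0 →
      (∃ u : Bˣ, P.leadingCoeff = u * ϖ ^ n) → ∃ Q : B[X], aeval x Q = 0 ∧ ∃ i, IsUnit (Q.coeff i) := by
    intro n
    induction n with
    | zero =>
      intro P _ hPx ⟨u, hu⟩
      exact ⟨P, hPx, P.natDegree, by rw [coeff_natDegree, hu, pow_zero, mul_one]; exact u.isUnit⟩
    | succ n ih =>
      intro P hP hPx ⟨u, hu⟩
      by_cases hunit : ∃ i, IsUnit (P.coeff i)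
      · exact ⟨P, hPx, hunit⟩
      · push Not at hunit
        have hdvd : C ϖ ∣ P := by
          rw [C_dvd_iff_dvd_coeff]
          intro i
          have h1 : P.coeff i ∈ maximalIdeal B := by
            rw [mem_maximalIdeal, mem_nonunits_iff]; exact hunit i
          rw [hϖ.maximalIdeal_eq, Ideal.mem_span_singleton] at h1
          exact h1
        obtain ⟨Q, hQ⟩ := hdvd
        have hQ0 : Q ≠ 0 := fun h => hP (by rw [hQ, h, mul_zero])
        have hQx : aeval x Q = 0 := by
          have h1 := hPx
          rw [hQ, map_mul, aeval_C] at h1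
          rcases mul_eq_zero.mp h1 with h2 | h2
          · exact absurd (hinj (by rw [h2, map_zero])) hϖ.ne_zero
          · exact h2
        refine ih Q hQ0 hQx ⟨u, ?_⟩
        have h1 : P.leadingCoeff = ϖ * Q.leadingCoeff := by
          rw [hQ, leadingCoeff_mul, leadingCoeff_C]
        rw [h1, pow_succ] at hu
        have h2 : ϖ * Q.leadingCoeff = ϖ * (u * ϖ ^ n) := by rw [hu]; ring
        exact mul_left_cancel₀ hϖ.ne_zero h2
  obtain ⟨n, u, hn⟩ := IsDiscreteValuationRing.eq_unit_mul_pow_irreducible
    (leadingCoeff_ne_zero.mpr hP₀) hϖ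
  exact main n P₀ hP₀ hP₀x ⟨u, hn⟩

variable (W : ValuationSubring Ω) (hW : ∀ b : B, algebraMap B Ω b ∈ W)
  (hWm : ∀ b ∈ maximalIdeal B, W.valuation (algebraMap B Ω b) < 1)

include hinj hW hWm in
/-- Bourbaki's lemma: an element of `W` algebraic over `B` is a quotient of integral elements,
with denominator a unit of `W` lying in `B[x]`. -/
theorem exists_integral_quot (x : Ω) (hx : x ∈ W) (halg : IsAlgebraic B x) :
    ∃ y z : Ω, IsIntegral B y ∧ IsIntegral B z ∧ W.valuation y = 1 ∧ x * y = z ∧
      y ∈ Algebra.adjoin B {x} := by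
  classical
  obtain ⟨P, hPx, hex⟩ := exists_poly_unit_coeff B Ω hinj x halg
  -- the largest index with a unit coefficient
  have hbdd : ∀ i, IsUnit (P.coeff i) → i ≤ P.natDegree := by
    intro i hi
    by_contra hcon
    push Not at hcon
    rw [coeff_eq_zero_of_natDegree_lt hcon] at hi
    exact not_isUnit_zero hi
  let k := Nat.findGreatest (fun i => IsUnit (P.coeff i)) P.natDegree
  obtain ⟨i₀, hi₀⟩ := hex
  have hk : IsUnit (P.coeff k) :=
    Nat.findGreatest_spec (P := fun i => IsUnit (P.coeff i)) (hbdd i₀ hi₀) hi₀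
  have hkmax : ∀ i, k < i → ¬ IsUnit (P.coeff i) := by
    intro i hi hu
    have := Nat.le_findGreatest (P := fun i => IsUnit (P.coeff i)) (hbdd i hu) hu
    omega
  have hint := isIntegral_tl P x hPx
  refine ⟨aeval x (tl P k), x * aeval x (tl P k), (hint k).1, ?_, ?_, rfl,
    aeval_mem_adjoin_singleton B x⟩
  · rcases Nat.eq_zero_or_pos k with h0 | h0
    · rw [h0, tl_zero, hPx, mul_zero]; exact isIntegral_zero
    · obtain ⟨k', hk'⟩ : ∃ k', k = k' + 1 := ⟨k - 1, by omega⟩
      rw [hk']
      exact (hint k').2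
  · -- unit in W
    rw [aeval_tl_rec P x k, add_comm]
    have h1 : W.valuation (algebraMap B Ω (P.coeff k)) = 1 := by
      obtain ⟨u, hu⟩ := hk
      have h2 : W.valuation (algebraMap B Ω (u : B)) ≤ 1 := (W.valuation_le_one_iff _).mpr (hW _)
      have h3 : W.valuation (algebraMap B Ω ((u⁻¹ : Bˣ) : B)) ≤ 1 :=
        (W.valuation_le_one_iff _).mpr (hW _)
      have h4 : W.valuation (algebraMap B Ω (u : B)) * W.valuation (algebraMap B Ω ((u⁻¹ : Bˣ) : B))
          = 1 := by
        rw [← map_mul, ← map_mul, Units.mul_inv, map_one, map_one]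
      rw [← hu]
      apply le_antisymm h2
      by_contra hcon
      push Not at hcon
      have : W.valuation (algebraMap B Ω (u : B)) * W.valuation (algebraMap B Ω ((u⁻¹ : Bˣ) : B)) < 1 := by
        calc _ ≤ W.valuation (algebraMap B Ω (u : B)) * 1 := by gcongr
          _ = _ := mul_one _
          _ < 1 := hcon
      exact absurd h4 this.ne
    have h2 : W.valuation (aeval x (tl P (k + 1)) * x) < 1 := by
      rw [aeval_eq_sum_range, Finset.sum_mul]
      apply Valuation.map_sum_lt _ one_ne_zero
      intro i _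
      rw [Algebra.smul_def, coeff_tl, map_mul, map_mul, map_pow]
      have h3 : W.valuation (algebraMap B Ω (P.coeff (i + (k + 1)))) < 1 := by
        apply hWm
        rw [mem_maximalIdeal, mem_nonunits_iff]
        exact hkmax _ (by omega)
      have h4 : W.valuation x ≤ 1 := (W.valuation_le_one_iff _).mpr hx
      calc _ ≤ W.valuation (algebraMap B Ω (P.coeff (i + (k + 1)))) * 1 * 1 := by
            gcongr
            · exact pow_le_one₀ zero_le h4
          _ = _ := by rw [mul_one, mul_one]
          _ < 1 := h3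
    rw [Valuation.map_add_eq_of_lt_left _ (by rw [h1]; exact h2), h1]

include hinj hW in
/-- values of nonzero algebraic elements are bounded below by a power of the uniformizer -/
theorem exists_pow_le_val (ϖ : B) (hϖ : Irreducible ϖ) (g : Ω) (hg : g ≠ 0) (halg : IsAlgebraic B g) :
    ∃ m : ℕ, W.valuation (algebraMap B Ω ϖ) ^ m ≤ W.valuation g := by
  classical
  by_cases hgW : g ∈ W
  swap
  · refine ⟨0, ?_⟩
    rw [pow_zero]
    by_contra hcon
    push Not at hcon
    exact hgW ((W.valuation_le_one_iff _).mp hcon.le)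
  -- polynomial of minimal degree vanishing at g
  have hex : ∃ n : ℕ, ∃ P : B[X], P ≠ 0 ∧ aeval g P = 0 ∧ P.natDegree = n := by
    obtain ⟨P, hP, hPg⟩ := halg
    exact ⟨_, P, hP, hPg, rfl⟩
  obtain ⟨P, hP0, hPg, hPdeg⟩ := Nat.find_spec hex
  have hmin := fun m hm => Nat.find_min hex (m := m) hm
  have hc0 : P.coeff 0 ≠ 0 := by
    intro h0
    have h1 := divX_mul_X_add P
    rw [h0, map_zero, add_zero] at h1
    have hd0 : divX P ≠ 0 := fun h => hP0 (by rw [← h1, h, zero_mul])
    have hdg : aeval g (divX P) = 0 := by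
      have h2 := hPg
      rw [← h1, map_mul, aeval_X] at h2
      exact (mul_eq_zero.mp h2).resolve_right hg
    have hlt : (divX P).natDegree < Nat.find hex := by
      rw [← hPdeg, natDegree_divX_eq_natDegree_tsub_one]
      have : P.natDegree ≠ 0 := by
        intro hz
        rw [eq_C_of_natDegree_eq_zero hz, h0, map_zero] at hP0
        exact hP0 rfl
      omega
    exact hmin _ hlt ⟨divX P, hd0, hdg, rfl⟩
  obtain ⟨m, u, hm⟩ := IsDiscreteValuationRing.eq_unit_mul_pow_irreducible hc0 hϖ
  refine ⟨m, ?_⟩
  have hu1 : W.valuation (algebraMap B Ω (u : B)) = 1 := by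
    have h2 : W.valuation (algebraMap B Ω (u : B)) ≤ 1 := (W.valuation_le_one_iff _).mpr (hW _)
    have h3 : W.valuation (algebraMap B Ω ((u⁻¹ : Bˣ) : B)) ≤ 1 :=
      (W.valuation_le_one_iff _).mpr (hW _)
    have h4 : W.valuation (algebraMap B Ω (u : B)) * W.valuation (algebraMap B Ω ((u⁻¹ : Bˣ) : B))
        = 1 := by
      rw [← map_mul, ← map_mul, Units.mul_inv, map_one, map_one]
    apply le_antisymm h2
    by_contra hcon
    push Not at hcon
    have : W.valuation (algebraMap B Ω (u : B)) * W.valuation (algebraMap B Ω ((u⁻¹ : Bˣ) : B)) < 1 := by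
      calc _ ≤ W.valuation (algebraMap B Ω (u : B)) * 1 := by gcongr
        _ = _ := mul_one _
        _ < 1 := hcon
    exact absurd h4 this.ne
  have h1 : algebraMap B Ω (P.coeff 0) = -(aeval g (divX P) * g) := by
    have h2 := congrArg (aeval g) (divX_mul_X_add P)
    rw [map_add, map_mul, aeval_X, aeval_C, hPg] at h2
    linear_combination h2
  have h2 : W.valuation (algebraMap B Ω (P.coeff 0)) = W.valuation (algebraMap B Ω ϖ) ^ m := by
    rw [hm, map_mul, map_mul, map_pow, map_pow, hu1, one_mul]
  rw [← h2, h1, Valuation.map_neg, map_mul]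
  have h3 : aeval g (divX P) ∈ W := by
    rw [aeval_eq_sum_range]
    apply sum_mem
    intro i _
    rw [Algebra.smul_def]
    exact mul_mem (hW _) (pow_mem hgW i)
  calc _ ≤ 1 * W.valuation g := by
        gcongr
        exact (W.valuation_le_one_iff _).mpr h3
    _ = _ := one_mul _

end dvr

end Groth.Agent.Helper27.Sv
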