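import Mathlib
import Groth.Agent.Lib.Helper22.WUGen

/-! Linear independence of `1, α, …, α^(p-1)` over any compositum `L·K₁` when `L/K` is
geometrically reduced and `K₂ = K₁(α)` is purely inseparable of degree `p` over `K₁`. -/

set_option autoImplicit false

namespace Groth.Agent.Helper27.Sv

open TensorProduct Groth.Agent.Helper22.WUGen

universe u

section

variable (p : ℕ) [hp : Fact p.Prime] (K L K₁ K₂ : Type u) [Field K] [Field L] [Field K₁] [Field K₂]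
  [Algebra K L] [Algebra K K₁] [Algebra K K₂] [Algebra K₁ K₂] [IsScalarTower K K₁ K₂]
  [CharP K p] [FiniteDimensional K K₂] [Algebra.IsGeometricallyReduced K L]
  (α : K₂) (b : Module.Basis (Fin p) K₁ K₂) (hb : ∀ i, b i = α ^ (i : ℕ))
  (hpow : ∀ y : K₂, ∃ d : K₁, y ^ p = algebraMap K₁ K₂ d)
  (Ω : Type u) [Field Ω] [Algebra K Ω] [Algebra L Ω] [Algebra K₂ Ω] [IsScalarTower K L Ω]
  [IsScalarTower K K₂ Ω]

/-- the map `L ⊗ K₁ → L ⊗ K₂` -/
noncomputable def nu : L ⊗[K] K₁ →ₐ[L] L ⊗[K] K₂ :=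
  Algebra.TensorProduct.map (AlgHom.id L L) (IsScalarTower.toAlgHom K K₁ K₂)

/-- the map `L ⊗ K₂ → Ω` -/
noncomputable def mu : L ⊗[K] K₂ →ₐ[L] Ω :=
  Algebra.TensorProduct.lift (Algebra.ofId L Ω) (IsScalarTower.toAlgHom K K₂ Ω)
    (fun _ _ => Commute.all _ _)

theorem mu_tmul (l : L) (y : K₂) : mu K L K₂ Ω (l ⊗ₜ y) = algebraMap L Ω l * algebraMap K₂ Ω y := by
  simp [mu]

theorem nu_tmul (l : L) (k : K₁) : nu K L K₁ K₂ (l ⊗ₜ k) = l ⊗ₜ (algebraMap K₁ K₂ k) := by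
  simp [nu]

include hpow in
theorem pow_mem_range_nu (r : L ⊗[K] K₂) : ∃ t : L ⊗[K] K₁, r ^ p = nu K L K₁ K₂ t := by
  haveI : CharP (L ⊗[K] K₂) p :=
    charP_of_injective_algebraMap (algebraMap K (L ⊗[K] K₂)).injective p
  induction r using TensorProduct.induction_on with
  | zero => exact ⟨0, by rw [zero_pow hp.out.ne_zero, map_zero]⟩
  | tmul l y =>
    obtain ⟨d, hd⟩ := hpow y
    refine ⟨(l ^ p) ⊗ₜ d, ?_⟩
    rw [nu_tmul, Algebra.TensorProduct.tmul_pow, hd]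
  | add x y hx hy =>
    obtain ⟨s, hs⟩ := hx
    obtain ⟨t, ht⟩ := hy
    exact ⟨s + t, by rw [add_pow_char, hs, ht, map_add]⟩

/-- coordinate projections `L ⊗ K₂ → L ⊗ K₁` -/
noncomputable def prj (j : Fin p) : L ⊗[K] K₂ →ₗ[K] L ⊗[K] K₁ :=
  LinearMap.lTensor L ((b.coord j).restrictScalars K)

include hb in
theorem prj_nu_mul (j i : Fin p) (t : L ⊗[K] K₁) :
    prj p K L K₁ K₂ b j (nu K L K₁ K₂ t * ((1 : L) ⊗ₜ α) ^ (i : ℕ)) = if i = j then t else 0 := by
  induction t using TensorProduct.induction_on with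
  | zero => simp
  | tmul l k =>
    rw [nu_tmul, Algebra.TensorProduct.tmul_pow, one_pow, Algebra.TensorProduct.tmul_mul_tmul,
      mul_one]
    unfold prj
    rw [LinearMap.lTensor_tmul]
    have h1 : ((b.coord j).restrictScalars K) (algebraMap K₁ K₂ k * α ^ (i : ℕ)) =
        if i = j then k else 0 := by
      show b.coord j (algebraMap K₁ K₂ k * α ^ (i : ℕ)) = _
      rw [← hb i, ← Algebra.smul_def, map_smul, Module.Basis.coord_apply, Module.Basis.repr_self,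
        Finsupp.single_apply, smul_eq_mul]
      split_ifs <;> simp
    rw [h1]
    split_ifs
    · rfl
    · rw [TensorProduct.tmul_zero]
  | add x y hx hy =>
    rw [map_add, add_mul, map_add, hx, hy]
    split_ifs <;> simp

include hb hpow K in
theorem indep_of_geomRed (c : ℕ → Ω)
    (hc : ∀ j, c j ∈ Algebra.adjoin L (Set.range ((algebraMap K₂ Ω).comp (algebraMap K₁ K₂))))
    (h0 : ∑ j ∈ Finset.range p, c j * (algebraMap K₂ Ω α) ^ j = 0) : ∀ j < p, c j = 0 := by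
  classical
  -- reducedness and von Neumann regularity of `L ⊗ K₂`
  haveI : Algebra.IsAlgebraic K K₂ := Algebra.IsAlgebraic.of_finite K K₂
  haveI hred0 : IsReduced (K₂ ⊗[K] L) := inferInstance
  haveI hred : IsReduced (L ⊗[K] K₂) :=
    isReduced_of_injective (Algebra.TensorProduct.comm K L K₂).toAlgHom
      (Algebra.TensorProduct.comm K L K₂).injective
  haveI : Module.Finite L (L ⊗[K] K₂) := Module.Finite.base_change K L K₂
  haveI : Algebra.IsIntegral L (L ⊗[K] K₂) := Algebra.IsIntegral.of_finite L _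
  have hvnr : VNR (L ⊗[K] K₂) := VNR.of_reduced_integral L _
  -- lift the coefficients
  have hrange : ∀ j, ∃ t : L ⊗[K] K₁, c j = mu K L K₂ Ω (nu K L K₁ K₂ t) := by
    intro j
    have hle : Algebra.adjoin L (Set.range ((algebraMap K₂ Ω).comp (algebraMap K₁ K₂))) ≤
        ((mu K L K₂ Ω).comp (nu K L K₁ K₂)).range := by
      apply Algebra.adjoin_le
      rintro _ ⟨k, rfl⟩
      refine ⟨(1 : L) ⊗ₜ k, ?_⟩
      rw [AlgHom.toRingHom_eq_coe, RingHom.coe_coe, AlgHom.comp_apply, nu_tmul, mu_tmul, map_one,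
        one_mul]
      rfl
    obtain ⟨t, ht⟩ := hle (hc j)
    exact ⟨t, ht.symm⟩
  choose t ht using hrange
  set ξ : L ⊗[K] K₂ := ∑ j ∈ Finset.range p, nu K L K₁ K₂ (t j) * ((1 : L) ⊗ₜ α) ^ j with hξ
  have hμα : mu K L K₂ Ω ((1 : L) ⊗ₜ α) = algebraMap K₂ Ω α := by
    rw [mu_tmul, map_one, one_mul]
  have hμξ : mu K L K₂ Ω ξ = 0 := by
    rw [hξ, map_sum, ← h0]
    apply Finset.sum_congr rfl
    intro j _
    rw [map_mul, map_pow, hμα, ← ht]
  obtain ⟨z, hz⟩ := hvnr ξ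
  set s : L ⊗[K] K₂ := 1 - ξ * z with hs
  have hsξ : s * ξ = 0 := by rw [hs]; linear_combination -hz
  have hμs : mu K L K₂ Ω s = 1 := by rw [hs, map_sub, map_one, map_mul, hμξ, zero_mul, sub_zero]
  obtain ⟨ts, hts⟩ := pow_mem_range_nu p K L K₁ K₂ hpow s
  have hzero : ∑ j ∈ Finset.range p, nu K L K₁ K₂ (ts * t j) * ((1 : L) ⊗ₜ α) ^ j = 0 := by
    have h1 : s ^ p * ξ = 0 := by
      obtain ⟨q, hq⟩ : ∃ q, p = q + 1 := ⟨p - 1, by have := hp.out.pos; omega⟩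
      rw [hq, pow_succ, mul_assoc, hsξ, mul_zero]
    rw [← h1, hts, hξ, Finset.mul_sum]
    apply Finset.sum_congr rfl
    intro j _
    rw [map_mul, mul_assoc]
  intro j hj
  have h2 := congrArg (prj p K L K₁ K₂ b ⟨j, hj⟩) hzero
  rw [map_zero, map_sum, Finset.sum_eq_single_of_mem j (Finset.mem_range.mpr hj)] at h2
  · have h3 := prj_nu_mul p K L K₁ K₂ α b hb ⟨j, hj⟩ ⟨j, hj⟩ (ts * t j)
    rw [if_pos rfl] at h3
    rw [h3] at h2
    rw [ht j]
    have h4 : mu K L K₂ Ω (nu K L K₁ K₂ ts) = 1 := by rw [← hts, map_pow, hμs, one_pow]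
    calc mu K L K₂ Ω (nu K L K₁ K₂ (t j)) = mu K L K₂ Ω (nu K L K₁ K₂ ts) *
          mu K L K₂ Ω (nu K L K₁ K₂ (t j)) := by rw [h4, one_mul]
      _ = mu K L K₂ Ω (nu K L K₁ K₂ (ts * t j)) := by rw [map_mul, map_mul]
      _ = 0 := by rw [h2, map_zero, map_zero]
  · intro i hi hij
    have h3 := prj_nu_mul p K L K₁ K₂ α b hb ⟨j, hj⟩ ⟨i, Finset.mem_range.mp hi⟩ (ts * t i)
    rw [if_neg (by intro h; exact hij (congrArg Fin.val h))] at h3
    exact h3

end

end Groth.Agent.Helper27.Sv
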