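import Mathlib
import Groth.Agent.Lib.Helper27.SvD
import Groth.Agent.Lib.Helper27.PiE

/-! Uniform integrality bound (Theorem U): if `Σ c_j α^j` is integral over `B` with `c_j` in the
compositum `L·K₁`, then `q^N c_j` is integral, with `N` independent of the compositum. -/

set_option autoImplicit false

namespace Groth.Agent.Helper27.Sv

open TensorProduct Groth.Agent.Helper27.Pi

universe u

section clear

variable (B : Type u) [CommRing B] [IsDomain B] [IsDiscreteValuationRing B]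
  (q : B) (hq0 : q ≠ 0) (hqm : q ∈ IsLocalRing.maximalIdeal B)

include hq0 hqm in
theorem dvd_pow_of_mem_maximalIdeal (b : B) (hb : b ≠ 0) : ∃ m : ℕ, b ∣ q ^ m := by
  obtain ⟨ϖ, hϖ⟩ := IsDiscreteValuationRing.exists_irreducible B
  obtain ⟨m, u, hm⟩ := IsDiscreteValuationRing.eq_unit_mul_pow_irreducible hb hϖ
  obtain ⟨e, u', he⟩ := IsDiscreteValuationRing.eq_unit_mul_pow_irreducible hq0 hϖ
  have he0 : e ≠ 0 := by
    rintro rfl
    rw [pow_zero, mul_one] at he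
    rw [IsLocalRing.mem_maximalIdeal, mem_nonunits_iff] at hqm
    exact hqm (he ▸ u'.isUnit)
  refine ⟨m, ?_⟩
  rw [hm, he, mul_pow, ← pow_mul]
  have h1 : ϖ ^ m ∣ ϖ ^ (e * m) :=
    pow_dvd_pow _ (Nat.le_mul_of_pos_left m (Nat.pos_of_ne_zero he0))
  exact (Units.mul_left_dvd).mpr (Dvd.dvd.mul_left h1 _)

variable (Ω : Type u) [Field Ω] [Algebra B Ω]

include hq0 hqm in
theorem exists_pow_mul_integral (x : Ω) (hx : IsAlgebraic B x) :
    ∃ m : ℕ, ∀ n, m ≤ n → IsIntegral B (algebraMap B Ω (q ^ n) * x) := by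
  obtain ⟨y, hy0, hy⟩ := hx.exists_integral_multiple
  obtain ⟨m, w, hw⟩ := dvd_pow_of_mem_maximalIdeal B q hq0 hqm y hy0
  refine ⟨m, fun n hn => ?_⟩
  have h1 : algebraMap B Ω (q ^ n) * x = algebraMap B Ω (q ^ (n - m) * w) * (y • x) := by
    have : q ^ n = q ^ (n - m) * w * y := by
      rw [mul_assoc, mul_comm w y, ← hw, ← pow_add, Nat.sub_add_cancel hn]
    rw [this, Algebra.smul_def]
    simp only [map_mul]
    ring
  rw [h1]
  exact isIntegral_algebraMap.mul hy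

include hq0 hqm in
theorem exists_pow_mul_integral_family {ι : Type} [Fintype ι] (x : ι → Ω)
    (hx : ∀ i, IsAlgebraic B (x i)) :
    ∃ N : ℕ, ∀ n, N ≤ n → ∀ i, IsIntegral B (algebraMap B Ω (q ^ n) * x i) := by
  choose m hm using fun i => exists_pow_mul_integral B q hq0 hqm Ω (x i) (hx i)
  refine ⟨Finset.univ.sup m, fun n hn i => hm i n (le_trans (Finset.le_sup (Finset.mem_univ i)) hn)⟩

end clear

section G

variable (p : ℕ) [hp : Fact p.Prime] (B K L K₁ K₂ : Type u) [CommRing B] [IsDomain B]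
  [IsDiscreteValuationRing B]
  [Field K] [Field L] [Field K₁] [Field K₂] [Algebra B L] [IsFractionRing B L]
  [Algebra K L] [Algebra K K₁] [Algebra K K₂] [Algebra K₁ K₂] [IsScalarTower K K₁ K₂]
  [CharP K p] [FiniteDimensional K K₂] [Algebra.IsGeometricallyReduced K L]
  (hB : CAlg.IsNagata B)
  (α : K₂) (b : Module.Basis (Fin p) K₁ K₂) (hb : ∀ i, b i = α ^ (i : ℕ))
  (hpow : ∀ y : K₂, ∃ d : K₁, y ^ p = algebraMap K₁ K₂ d)
  (hrep : ∀ s : K₂, ∃ d : ℕ → K₁, s = ∑ j ∈ Finset.range p, algebraMap K₁ K₂ (d j) * α ^ j)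
  (q : B) (hq0 : q ≠ 0) (hqm : q ∈ IsLocalRing.maximalIdeal B)

include hrep in
theorem exists_dec (ξ : L ⊗[K] K₂) : ∃ t : ℕ → L ⊗[K] K₁,
    ξ = ∑ j ∈ Finset.range p, nu K L K₁ K₂ (t j) * ((1 : L) ⊗ₜ α) ^ j := by
  induction ξ using TensorProduct.induction_on with
  | zero => exact ⟨fun _ => 0, by simp⟩
  | tmul l s =>
    obtain ⟨d, hd⟩ := hrep s
    refine ⟨fun j => l ⊗ₜ d j, ?_⟩
    conv_lhs => rw [hd, TensorProduct.tmul_sum]
    apply Finset.sum_congr rfl
    intro j _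
    rw [nu_tmul, Algebra.TensorProduct.tmul_pow, one_pow, Algebra.TensorProduct.tmul_mul_tmul,
      mul_one]
  | add x y hx hy =>
    obtain ⟨s, hs⟩ := hx
    obtain ⟨t, ht⟩ := hy
    refine ⟨fun j => s j + t j, ?_⟩
    conv_lhs => rw [hs, ht, ← Finset.sum_add_distrib]
    apply Finset.sum_congr rfl
    intro j _
    rw [map_add, add_mul]

variable (Ω : Type u) [Field Ω] [Algebra K Ω] [Algebra L Ω] [Algebra K₂ Ω] [IsScalarTower K L Ω]
  [IsScalarTower K K₂ Ω]

theorem mu_nu_mem (t : L ⊗[K] K₁) : mu K L K₂ Ω (nu K L K₁ K₂ t) ∈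
    Algebra.adjoin L (Set.range ((algebraMap K₂ Ω).comp (algebraMap K₁ K₂))) := by
  induction t using TensorProduct.induction_on with
  | zero => rw [map_zero, map_zero]; exact Subalgebra.zero_mem _
  | tmul l k =>
    rw [nu_tmul, mu_tmul]
    exact Subalgebra.mul_mem _ (Subalgebra.algebraMap_mem _ l) (Algebra.subset_adjoin ⟨k, rfl⟩)
  | add x y hx hy =>
    rw [map_add, map_add]
    exact Subalgebra.add_mem _ hx hy

variable [Algebra B Ω] [IsScalarTower B L Ω] [Algebra.IsAlgebraic L Ω]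

include hB hb hpow hrep hq0 hqm K in
theorem lemG : ∃ N : ℕ, ∀ c : ℕ → Ω,
    (∀ j, c j ∈ Algebra.adjoin L (Set.range ((algebraMap K₂ Ω).comp (algebraMap K₁ K₂)))) →
    IsIntegral B (∑ j ∈ Finset.range p, c j * (algebraMap K₂ Ω α) ^ j) →
    ∀ j < p, IsIntegral B (algebraMap B Ω (q ^ N) * c j) := by
  classical
  set F : Subalgebra L Ω :=
    Algebra.adjoin L (Set.range ((algebraMap K₂ Ω).comp (algebraMap K₁ K₂))) with hF
  let S : Subalgebra L Ω := (mu K L K₂ Ω).range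
  have hSf : IsField S := Subalgebra.isField_of_algebraic S
  let M : IntermediateField L Ω := S.toIntermediateField' hSf
  haveI : Module.Finite L (L ⊗[K] K₂) := Module.Finite.base_change K L K₂
  haveI : FiniteDimensional L M := by
    have h1 : Module.Finite L S :=
      Module.Finite.of_surjective (mu K L K₂ Ω).rangeRestrict.toLinearMap
        (AlgHom.rangeRestrict_surjective _)
    exact h1
  have hfin : Module.Finite B (integralClosure B M) := nagata_finite B L hB M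
  obtain ⟨n, s, hs⟩ := Module.Finite.exists_fin (R := B) (M := integralClosure B M)
  have hα : algebraMap K₂ Ω α = mu K L K₂ Ω ((1 : L) ⊗ₜ α) := by
    rw [mu_tmul, map_one, one_mul]
  have hdec : ∀ i : Fin n, ∃ c' : ℕ → Ω, (∀ j, c' j ∈ F) ∧
      ((s i : M) : Ω) = ∑ j ∈ Finset.range p, c' j * (algebraMap K₂ Ω α) ^ j := by
    intro i
    have hmem : ((s i : M) : Ω) ∈ S := (s i : M).2
    obtain ⟨ξ, hξ⟩ := hmem
    obtain ⟨t, ht⟩ := exists_dec p K L K₁ K₂ α hrep ξ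
    refine ⟨fun j => mu K L K₂ Ω (nu K L K₁ K₂ (t j)), fun j => mu_nu_mem K L K₁ K₂ Ω _, ?_⟩
    rw [← hξ]
    show mu K L K₂ Ω ξ = _
    conv_lhs => rw [ht, map_sum]
    apply Finset.sum_congr rfl
    intro j _
    rw [map_mul, map_pow, hα]
  choose c' hc'F hc' using hdec
  have halgΩ : ∀ x : Ω, IsAlgebraic B x := fun x =>
    (IsFractionRing.isAlgebraic_iff B L Ω).mpr (Algebra.IsAlgebraic.isAlgebraic x)
  obtain ⟨N, hN⟩ := exists_pow_mul_integral_family B q hq0 hqm Ω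
    (fun ij : Fin n × Fin p => c' ij.1 (ij.2 : ℕ)) (fun _ => halgΩ _)
  refine ⟨N, fun c hc hint j hj => ?_⟩
  set x : Ω := ∑ j ∈ Finset.range p, c j * (algebraMap K₂ Ω α) ^ j with hx
  have hFS : F ≤ S := by
    apply Algebra.adjoin_le
    rintro _ ⟨k, rfl⟩
    refine ⟨(1 : L) ⊗ₜ (algebraMap K₁ K₂ k), ?_⟩
    rw [AlgHom.toRingHom_eq_coe, RingHom.coe_coe, mu_tmul, map_one, one_mul]
    rfl
  have hαS : algebraMap K₂ Ω α ∈ S := ⟨_, hα.symm⟩
  have hxM : x ∈ M := by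
    show x ∈ S
    rw [hx]
    exact Subalgebra.sum_mem _ (fun j _ => Subalgebra.mul_mem _ (hFS (hc j))
      (Subalgebra.pow_mem _ hαS j))
  have hxint : IsIntegral B (⟨x, hxM⟩ : M) :=
    (isIntegral_algHom_iff ((IntermediateField.val M).restrictScalars B)
      Subtype.val_injective).mp hint
  have hmem : (⟨⟨x, hxM⟩, hxint⟩ : integralClosure B M) ∈ Submodule.span B (Set.range s) := by
    rw [hs]; trivial
  obtain ⟨bb, hbb⟩ := (Submodule.mem_span_range_iff_exists_fun B).mp hmem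
  have hx2 : x = ∑ i, algebraMap B Ω (bb i) * ((s i : M) : Ω) := by
    let ℓ : integralClosure B M →ₗ[B] Ω :=
      (((IntermediateField.val M).restrictScalars B).toLinearMap).comp
        (integralClosure B M).val.toLinearMap
    have h1 := congrArg ℓ hbb
    rw [map_sum] at h1
    simp only [map_smul] at h1
    have h2 : ℓ ⟨⟨x, hxM⟩, hxint⟩ = x := rfl
    rw [← h2, ← h1]
    apply Finset.sum_congr rfl
    intro i _
    rw [Algebra.smul_def]
    rfl
  have hzero : ∑ j ∈ Finset.range p, (c j - ∑ i, algebraMap B Ω (bb i) * c' i j) *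
      (algebraMap K₂ Ω α) ^ j = 0 := by
    simp only [sub_mul, Finset.sum_sub_distrib]
    rw [sub_eq_zero, ← hx, hx2]
    simp only [Finset.sum_mul]
    rw [Finset.sum_comm]
    apply Finset.sum_congr rfl
    intro i _
    rw [hc' i, Finset.mul_sum]
    apply Finset.sum_congr rfl
    intro j _
    rw [mul_assoc]
  have hBF : ∀ r : B, algebraMap B Ω r ∈ F := by
    intro r
    rw [IsScalarTower.algebraMap_apply B L Ω]
    exact Subalgebra.algebraMap_mem _ _
  have hind := indep_of_geomRed p K L K₁ K₂ α b hb hpow Ω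
    (fun j => c j - ∑ i, algebraMap B Ω (bb i) * c' i j)
    (fun j => Subalgebra.sub_mem _ (hc j) (Subalgebra.sum_mem _ (fun i _ =>
      Subalgebra.mul_mem _ (hBF _) (hc'F i j)))) hzero j hj
  have hcj : c j = ∑ i, algebraMap B Ω (bb i) * c' i j := sub_eq_zero.mp hind
  rw [hcj, Finset.mul_sum]
  apply IsIntegral.sum
  intro i _
  rw [mul_left_comm]
  exact isIntegral_algebraMap.mul (hN N le_rfl (i, ⟨j, hj⟩))

end G

section U

variable (p : ℕ) [hp : Fact p.Prime] (B K L K₁ K₂ : Type u) [CommRing B] [IsDomain B]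
  [IsDiscreteValuationRing B]
  [Field K] [Field L] [Field K₁] [Field K₂] [Algebra B L] [IsFractionRing B L]
  [Algebra K L] [Algebra K K₁] [Algebra K K₂] [Algebra K₁ K₂] [IsScalarTower K K₁ K₂]
  [CharP K p] [FiniteDimensional K K₂] [Algebra.IsGeometricallyReduced K L]
  (hB : CAlg.IsNagata B)
  (α : K₂) (b : Module.Basis (Fin p) K₁ K₂) (hb : ∀ i, b i = α ^ (i : ℕ))
  (hpow : ∀ y : K₂, ∃ d : K₁, y ^ p = algebraMap K₁ K₂ d)
  (hrep : ∀ s : K₂, ∃ d : ℕ → K₁, s = ∑ j ∈ Finset.range p, algebraMap K₁ K₂ (d j) * α ^ j)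
  (q : B) (hq0 : q ≠ 0) (hqm : q ∈ IsLocalRing.maximalIdeal B)

/-- the integrality bound with exponent `N` at `(Ω, φ)` -/
def IBound (N : ℕ) (Ω : Type u) [Field Ω] [Algebra L Ω] [Algebra B Ω] (φ : K₂ →+* Ω) : Prop :=
  ∀ c : ℕ → Ω, (∀ j, c j ∈ Algebra.adjoin L (Set.range (φ.comp (algebraMap K₁ K₂)))) →
    IsIntegral B (∑ j ∈ Finset.range p, c j * (φ α) ^ j) →
    ∀ j < p, IsIntegral B (algebraMap B Ω (q ^ N) * c j)

include hB hb hpow hrep hq0 hqm in
theorem lemG' (Ω : Type u) [Field Ω] [Algebra K Ω] [Algebra L Ω] [IsScalarTower K L Ω]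
    [Algebra B Ω] [IsScalarTower B L Ω] [Algebra.IsAlgebraic L Ω] (φ : K₂ →ₐ[K] Ω) :
    ∃ N : ℕ, IBound p B L K₁ K₂ α q N Ω (φ : K₂ →+* Ω) := by
  letI : Algebra K₂ Ω := (φ : K₂ →+* Ω).toAlgebra
  haveI : IsScalarTower K K₂ Ω := IsScalarTower.of_algebraMap_eq (fun k => (φ.commutes k).symm)
  exact lemG p B K L K₁ K₂ hB α b hb hpow hrep q hq0 hqm Ω

include hB hb hpow hrep hq0 hqm in
theorem thmU : ∃ N₁ : ℕ, ∀ (Ω : Type u) [Field Ω] [Algebra K Ω] [Algebra L Ω] [IsScalarTower K L Ω]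
    [Algebra B Ω] [IsScalarTower B L Ω] [Algebra.IsAlgebraic L Ω] (φ : K₂ →ₐ[K] Ω),
    IBound p B L K₁ K₂ α q N₁ Ω (φ : K₂ →+* Ω) := by
  classical
  haveI : Fintype (K₂ →ₐ[K] AlgebraicClosure L) := minpoly.AlgHom.fintype K K₂ (AlgebraicClosure L)
  choose Nτ hNτ using fun τ : K₂ →ₐ[K] AlgebraicClosure L =>
    lemG' p B K L K₁ K₂ hB α b hb hpow hrep q hq0 hqm (AlgebraicClosure L) τ
  refine ⟨Finset.univ.sup Nτ, ?_⟩
  intro Ω _ _ _ _ _ _ _ φ c hc hint j hj
  let jj : Ω →ₐ[L] AlgebraicClosure L := IsAlgClosed.lift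
  let τ : K₂ →ₐ[K] AlgebraicClosure L := (jj.restrictScalars K).comp φ
  have hτ : ∀ x, τ x = jj (φ x) := fun _ => rfl
  have hjB : ∀ r : B, jj (algebraMap B Ω r) = algebraMap B (AlgebraicClosure L) r :=
    fun r => (jj.restrictScalars B).commutes r
  have h1 : IsIntegral B (algebraMap B (AlgebraicClosure L) (q ^ Nτ τ) * jj (c j)) := by
    refine hNτ τ (fun j => jj (c j)) ?_ ?_ j hj
    · intro i
      have h2 : jj (c i) ∈ (Algebra.adjoin L (Set.range ((φ : K₂ →+* Ω).comp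
          (algebraMap K₁ K₂)))).map jj := ⟨c i, hc i, rfl⟩
      rw [AlgHom.map_adjoin] at h2
      refine Algebra.adjoin_mono ?_ h2
      rintro _ ⟨_, ⟨k, rfl⟩, rfl⟩
      exact ⟨k, rfl⟩
    · have h3 := IsIntegral.map (jj.restrictScalars B) hint
      rw [map_sum] at h3
      convert h3 using 2 with i _
      rw [map_mul, map_pow]
      rfl
  have h2 : IsIntegral B (algebraMap B Ω (q ^ Nτ τ) * c j) := by
    rw [← isIntegral_algHom_iff (jj.restrictScalars B) jj.injective]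
    show IsIntegral B (jj (algebraMap B Ω (q ^ Nτ τ) * c j))
    rw [map_mul, hjB]
    exact h1
  have hle : Nτ τ ≤ Finset.univ.sup Nτ := Finset.le_sup (Finset.mem_univ τ)
  have h3 : algebraMap B Ω (q ^ Finset.univ.sup Nτ) * c j =
      algebraMap B Ω (q ^ (Finset.univ.sup Nτ - Nτ τ)) * (algebraMap B Ω (q ^ Nτ τ) * c j) := by
    rw [← mul_assoc, ← map_mul, ← pow_add, Nat.sub_add_cancel hle]
  rw [h3]
  exact isIntegral_algebraMap.mul h2

end U

end Groth.Agent.Helper27.Sv
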