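import Mathlib
import Groth.Agent.Lib.Helper27.SvB
import Groth.Agent.Lib.Helper27.SvC
import Groth.Agent.Lib.Helper27.SvE

/-! The analytic approximation lemma: closeness of `Σ c_j α^j` and `Σ c_j θ^j`. -/

set_option autoImplicit false

namespace Groth.Agent.Helper27.Sv

open IsLocalRing

universe u

section close

variable {Ω : Type u} [Field Ω] (W : ValuationSubring Ω)

/-- `y` approximates `x` better than the size of `x`. -/
def Close (x y : Ω) : Prop := (x = 0 ∧ y = 0) ∨ W.valuation (y - x) < W.valuation x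

variable {W}

theorem Close.val_eq {x y : Ω} (h : Close W x y) : W.valuation y = W.valuation x := by
  rcases h with ⟨rfl, rfl⟩ | h
  · rfl
  · have h1 : W.valuation (x + (y - x)) = W.valuation x := Valuation.map_add_eq_of_lt_left _ h
    rwa [add_sub_cancel] at h1

theorem Close.symm {x y : Ω} (h : Close W x y) : Close W y x := by
  have hv := h.val_eq
  rcases h with ⟨rfl, rfl⟩ | h
  · exact Or.inl ⟨rfl, rfl⟩
  · right
    rw [Valuation.map_sub_swap, hv]
    exact h

theorem Close.mem_iff {x y : Ω} (h : Close W x y) : x ∈ W ↔ y ∈ W := by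
  rw [← W.valuation_le_one_iff, ← W.valuation_le_one_iff, h.val_eq]

theorem Close.residue_eq {x y : Ω} (h : Close W x y) (hx : x ∈ W) (hy : y ∈ W) :
    residue W ⟨x, hx⟩ = residue W ⟨y, hy⟩ := by
  rw [eq_comm, ← sub_eq_zero, ← map_sub, residue_eq_zero_iff, W.valuation_lt_one_iff]
  show W.valuation (y - x) < 1
  rcases h with ⟨rfl, rfl⟩ | h
  · rw [sub_zero, map_zero]; exact zero_lt_one
  · exact lt_of_lt_of_le h ((W.valuation_le_one_iff _).mpr hx)

end close

theorem val_le_one_of_isIntegral (B : Type u) [CommRing B] (Ω : Type u) [Field Ω] [Algebra B Ω]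
    (W : ValuationSubring Ω) (hW : ∀ b : B, algebraMap B Ω b ∈ W) (x : Ω) (hx : IsIntegral B x) :
    W.valuation x ≤ 1 := by
  letI : Algebra B W := (RingHom.codRestrict (algebraMap B Ω) W hW).toAlgebra
  haveI : IsScalarTower B W Ω := IsScalarTower.of_algebraMap_eq (fun _ => rfl)
  have h1 : IsIntegral W x := hx.tower_top
  obtain ⟨y, hy⟩ := IsIntegrallyClosed.isIntegral_iff.mp h1
  rw [← hy]
  exact (W.valuation_le_one_iff _).mpr y.2

section An

variable (p : ℕ) [hp : Fact p.Prime] (B : Type u) [CommRing B] [IsDomain B]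
  [IsDiscreteValuationRing B] (L : Type u) [Field L] [Algebra B L]
  (Ω : Type u) [Field Ω] [Algebra L Ω] [Algebra B Ω] [IsScalarTower B L Ω]
  (hinj : Function.Injective (algebraMap B Ω))
  (W : ValuationSubring Ω) (hW : ∀ b : B, algebraMap B Ω b ∈ W)
  (hWm : ∀ b ∈ maximalIdeal B, W.valuation (algebraMap B Ω b) < 1)
  (halg : ∀ x : Ω, IsAlgebraic B x)
  (q : B) (hq0 : q ≠ 0) (hqm : q ∈ maximalIdeal B)

include hinj hW hq0 hqm in
theorem exists_pow_le_val' (g : Ω) (hg : g ≠ 0) (hga : IsAlgebraic B g) :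
    ∃ m : ℕ, W.valuation (algebraMap B Ω q) ^ m ≤ W.valuation g := by
  obtain ⟨ϖ, hϖ⟩ := IsDiscreteValuationRing.exists_irreducible B
  obtain ⟨m, hm⟩ := exists_pow_le_val B Ω hinj W hW ϖ hϖ g hg hga
  obtain ⟨m', w, hw⟩ := dvd_pow_of_mem_maximalIdeal B q hq0 hqm (ϖ ^ m) (pow_ne_zero _ hϖ.ne_zero)
  refine ⟨m', le_trans ?_ hm⟩
  have e1 : W.valuation (algebraMap B Ω q) ^ m' =
      W.valuation (algebraMap B Ω ϖ) ^ m * W.valuation (algebraMap B Ω w) := by
    rw [← map_pow, ← map_pow, hw, map_mul, map_mul, map_pow, map_pow]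
  rw [e1]
  calc W.valuation (algebraMap B Ω ϖ) ^ m * W.valuation (algebraMap B Ω w)
      ≤ W.valuation (algebraMap B Ω ϖ) ^ m * 1 := by
        gcongr
        exact (W.valuation_le_one_iff _).mpr (hW w)
    _ = _ := mul_one _

variable (F M₂ : Subalgebra L Ω) (α θ : Ω) (hα : W.valuation α ≤ 1) (hθ : W.valuation θ ≤ 1)
  (N₁ N : ℕ) (hN : p * (N₁ + 1) < N)
  (hδ : (θ - α) ^ p = algebraMap B Ω (q ^ N) * θ)
  (hFM : F ≤ M₂) (hαM : α ∈ M₂)
  (hPw : ∀ y ∈ M₂, y ^ p ∈ F)
  (hInd : ∀ c : ℕ → Ω, (∀ j, c j ∈ F) → ∑ j ∈ Finset.range p, c j * α ^ j = 0 → ∀ j < p, c j = 0)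
  (hIB : ∀ c : ℕ → Ω, (∀ j, c j ∈ F) → IsIntegral B (∑ j ∈ Finset.range p, c j * α ^ j) →
    ∀ j < p, IsIntegral B (algebraMap B Ω (q ^ N₁) * c j))

include hinj hW hWm halg hq0 hqm hα hθ hN hδ hFM hαM hPw hIB in
/-- normalized case -/
theorem close_norm (c : ℕ → Ω) (hc : ∀ j, c j ∈ F)
    (h1 : W.valuation (∑ j ∈ Finset.range p, c j * α ^ j) ≤ 1)
    (h2 : W.valuation (algebraMap B Ω q) < W.valuation (∑ j ∈ Finset.range p, c j * α ^ j)) :
    W.valuation (∑ j ∈ Finset.range p, c j * θ ^ j - ∑ j ∈ Finset.range p, c j * α ^ j) <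
      W.valuation (∑ j ∈ Finset.range p, c j * α ^ j) := by
  set x : Ω := ∑ j ∈ Finset.range p, c j * α ^ j with hx
  set Q : Ω := algebraMap B Ω q with hQ
  have hQ0 : Q ≠ 0 := fun h => hq0 (hinj (by rw [← hQ, h, map_zero]))
  have hvQ0 : W.valuation Q ≠ 0 := (Valuation.ne_zero_iff _).mpr hQ0
  have hvQpos : 0 < W.valuation Q := zero_lt_iff.mpr hvQ0
  have hvQ1 : W.valuation Q < 1 := hWm q hqm
  have hxW : x ∈ W := (W.valuation_le_one_iff _).mp h1
  have hxM : x ∈ M₂ := Subalgebra.sum_mem _ (fun j _ => Subalgebra.mul_mem _ (hFM (hc j))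
    (Subalgebra.pow_mem _ hαM j))
  obtain ⟨y, z, hy, hz, hvy, hxyz, hyadj⟩ := exists_integral_quot B Ω hinj W hW hWm x hxW (halg x)
  have hyM : y ∈ M₂ := by
    have hle : Algebra.adjoin B {x} ≤ M₂.restrictScalars B := by
      apply Algebra.adjoin_le
      intro t ht
      rw [Set.mem_singleton_iff] at ht
      rw [ht]
      exact hxM
    exact hle hyadj
  have hypF : y ^ p ∈ F := hPw y hyM
  obtain ⟨p', hp'⟩ : ∃ p', p = p' + 1 := ⟨p - 1, by have := hp.out.pos; omega⟩
  have hint : IsIntegral B (∑ j ∈ Finset.range p, (y ^ p * c j) * α ^ j) := by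
    have h3 : ∑ j ∈ Finset.range p, (y ^ p * c j) * α ^ j = z * y ^ p' := by
      simp only [mul_assoc]
      rw [← Finset.mul_sum, ← hx, ← hxyz]
      conv_lhs => rw [hp']
      ring
    rw [h3]
    exact hz.mul (hy.pow _)
  have hbd : ∀ j < p, W.valuation Q ^ N₁ * W.valuation (c j) ≤ 1 := by
    intro j hj
    have h3 := val_le_one_of_isIntegral B Ω W hW _
      (hIB (fun j => y ^ p * c j) (fun j => Subalgebra.mul_mem _ hypF (hc j)) hint j hj)
    simp only [map_mul, map_pow, hvy, one_pow, one_mul] at h3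
    exact h3
  -- the size of δ
  set δ : Ω := θ - α with hδdef
  have hvδ : W.valuation δ < W.valuation Q ^ (N₁ + 1) := by
    apply lt_of_pow_lt_pow_left₀ p zero_le
    rw [← map_pow, hδ, map_mul, map_pow, map_pow, ← pow_mul]
    calc W.valuation Q ^ N * W.valuation θ ≤ W.valuation Q ^ N * 1 := by gcongr
      _ = W.valuation Q ^ N := mul_one _
      _ < W.valuation Q ^ ((N₁ + 1) * p) :=
        pow_lt_pow_right_of_lt_one₀ hvQpos hvQ1 (by rw [mul_comm]; exact hN)
  have hdiff : ∀ j : ℕ, W.valuation (θ ^ j - α ^ j) ≤ W.valuation δ := by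
    intro j
    rw [← geom_sum₂_mul, map_mul]
    calc _ ≤ 1 * W.valuation (θ - α) := by
          gcongr
          apply Valuation.map_sum_le
          intro i _
          rw [map_mul, map_pow, map_pow]
          exact mul_le_one' (pow_le_one₀ zero_le hθ) (pow_le_one₀ zero_le hα)
      _ = _ := one_mul _
  have hx0 : W.valuation x ≠ 0 := fun h => by
    rw [h] at h2
    exact not_lt_zero h2
  rw [← Finset.sum_sub_distrib]
  apply Valuation.map_sum_lt _ hx0
  intro j hj
  rw [← mul_sub, map_mul]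
  calc W.valuation (c j) * W.valuation (θ ^ j - α ^ j)
      ≤ W.valuation (c j) * W.valuation Q ^ (N₁ + 1) := by
        gcongr
        exact le_trans (hdiff j) hvδ.le
    _ = (W.valuation Q ^ N₁ * W.valuation (c j)) * W.valuation Q := by
        rw [pow_succ, mul_comm (W.valuation (c j)), mul_right_comm]
    _ ≤ 1 * W.valuation Q := by
        gcongr
        exact hbd j (Finset.mem_range.mp hj)
    _ = W.valuation Q := one_mul _
    _ < W.valuation x := h2

include hinj hW hWm halg hq0 hqm hα hθ hN hδ hFM hαM hPw hIB hInd in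
theorem close_of_IB (c : ℕ → Ω) (hc : ∀ j, c j ∈ F) :
    Close W (∑ j ∈ Finset.range p, c j * α ^ j) (∑ j ∈ Finset.range p, c j * θ ^ j) := by
  by_cases hx0 : ∑ j ∈ Finset.range p, c j * α ^ j = 0
  · left
    refine ⟨hx0, ?_⟩
    apply Finset.sum_eq_zero
    intro j hj
    rw [hInd c hc hx0 j (Finset.mem_range.mp hj), zero_mul]
  right
  set g : Ω := ∑ j ∈ Finset.range p, c j * α ^ j with hg
  set Q : Ω := algebraMap B Ω q with hQ
  have hQ0 : Q ≠ 0 := fun h => hq0 (hinj (by rw [← hQ, h, map_zero]))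
  have hvQ0 : W.valuation Q ≠ 0 := (Valuation.ne_zero_iff _).mpr hQ0
  have hvQpos : 0 < W.valuation Q := zero_lt_iff.mpr hvQ0
  have hvQ1 : W.valuation Q < 1 := hWm q hqm
  have hvg0 : W.valuation g ≠ 0 := (Valuation.ne_zero_iff _).mpr hx0
  have hvgpos : 0 < W.valuation g := zero_lt_iff.mpr hvg0
  -- the integer k
  obtain ⟨k, hk1, hk2⟩ : ∃ k : ℤ, W.valuation g ≤ W.valuation Q ^ k ∧
      W.valuation Q ^ (k + 1) < W.valuation g := by
    obtain ⟨m, hm⟩ := exists_pow_le_val' B Ω hinj W hW q hq0 hqm g hx0 (halg g)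
    obtain ⟨m', hm'⟩ := exists_pow_le_val' B Ω hinj W hW q hq0 hqm g⁻¹ (inv_ne_zero hx0)
      (halg _)
    have hbdd : ∃ b : ℤ, ∀ z : ℤ, W.valuation g ≤ W.valuation Q ^ z → z ≤ b := by
      refine ⟨m, fun z hz => ?_⟩
      by_contra hcon
      push Not at hcon
      have h3 := zpow_lt_zpow_right_of_lt_one₀ hvQpos hvQ1 hcon
      rw [zpow_natCast] at h3
      exact absurd (lt_of_le_of_lt hz h3) (not_lt.mpr hm)
    have hinh : ∃ z : ℤ, W.valuation g ≤ W.valuation Q ^ z := by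
      refine ⟨-(m' : ℤ), ?_⟩
      rw [zpow_neg, zpow_natCast]
      rw [map_inv₀] at hm'
      rw [le_inv_comm₀ hvgpos (pow_pos hvQpos _)]
      exact hm'
    obtain ⟨k, hk, hkmax⟩ := Int.exists_greatest_of_bdd hbdd hinh
    refine ⟨k, hk, ?_⟩
    by_contra hcon
    push Not at hcon
    have := hkmax (k + 1) hcon
    omega
  -- scale
  set s : Ω := algebraMap L Ω ((algebraMap B L q) ^ (-k)) with hs
  have hsQ : s = Q ^ (-k) := by
    rw [hs, map_zpow₀, ← IsScalarTower.algebraMap_apply]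
  have hsF : s ∈ F := Subalgebra.algebraMap_mem _ _
  have hs0 : W.valuation s ≠ 0 := by
    rw [hsQ]
    exact (Valuation.ne_zero_iff _).mpr (zpow_ne_zero _ hQ0)
  have hvs : W.valuation s = (W.valuation Q ^ k)⁻¹ := by
    rw [hsQ, map_zpow₀, zpow_neg]
  have hY : ∑ j ∈ Finset.range p, (s * c j) * α ^ j = s * g := by
    simp only [mul_assoc]
    rw [← Finset.mul_sum]
  have hX : ∑ j ∈ Finset.range p, (s * c j) * θ ^ j = s * ∑ j ∈ Finset.range p, c j * θ ^ j := by
    simp only [mul_assoc]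
    rw [← Finset.mul_sum]
  have hzk : 0 < W.valuation Q ^ k := zpow_pos hvQpos k
  have h3 := close_norm p B L Ω hinj W hW hWm halg q hq0 hqm F M₂ α θ hα hθ N₁ N hN hδ hFM hαM hPw
    hIB (fun j => s * c j) (fun j => Subalgebra.mul_mem _ hsF (hc j))
    (by
      rw [hY, map_mul, hvs, inv_mul_le_iff₀ hzk, mul_one]
      exact hk1)
    (by
      rw [hY, map_mul, hvs, lt_inv_mul_iff₀ hzk, ← zpow_add_one₀ hvQ0]
      exact hk2)
  rw [hY, hX, ← mul_sub, map_mul, map_mul] at h3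
  exact lt_of_mul_lt_mul_left h3 zero_le

end An

end Groth.Agent.Helper27.Sv
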