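import Mathlib
import Groth.Agent.Lib.Helper27.SvA
import Groth.Agent.Lib.Helper27.SvF

/-! Descriptions of weak unramifiedness and residue fields of a "place datum" in terms of
expressions `Σ c_j T^j`, and the transfer between two close data. -/

set_option autoImplicit false

namespace Groth.Agent.Helper27.Sv

open IsLocalRing

universe u

section datum

variable {Ω : Type u} [Field Ω] (W : ValuationSubring Ω) {L : Type u} [Field L] [Algebra L Ω]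
  {K₁ : Type u} [Field K₁] (φ₁ : K₁ →+* Ω) (p : ℕ)
  {E : Type u} [Field E] [Algebra K₁ E] (φ : E →+* Ω)
  (hφ : ∀ k, φ (algebraMap K₁ E k) = φ₁ k) (t : E)
  (r : ∀ s : E, ∃ d : ℕ → K₁, s = ∑ j ∈ Finset.range p, algebraMap K₁ E (d j) * t ^ j)
  {M : Type u} [Field M] [Algebra L M] [Algebra E M] (ι : M →ₐ[L] Ω)
  (hι : ∀ s, ι (algebraMap E M s) = φ s)
  (hgen : Algebra.adjoin L (Set.range (algebraMap E M)) = ⊤)

include hφ r in
theorem repE (s : E) : ∃ d : ℕ → K₁, s = ∑ j ∈ Finset.range p, algebraMap K₁ E (d j) * t ^ j ∧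
    φ s = ∑ j ∈ Finset.range p, φ₁ (d j) * (φ t) ^ j := by
  obtain ⟨d, hd⟩ := r s
  refine ⟨d, hd, ?_⟩
  conv_lhs => rw [hd, map_sum]
  apply Finset.sum_congr rfl
  intro j _
  rw [map_mul, map_pow, hφ]

include hφ in
theorem repE' (d : ℕ → K₁) : φ (∑ j ∈ Finset.range p, algebraMap K₁ E (d j) * t ^ j) =
    ∑ j ∈ Finset.range p, φ₁ (d j) * (φ t) ^ j := by
  rw [map_sum]
  apply Finset.sum_congr rfl
  intro j _
  rw [map_mul, map_pow, hφ]

include hφ r hι hgen in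
theorem repM (x : M) : ∃ c : ℕ → Ω, (∀ j, c j ∈ Algebra.adjoin L (Set.range φ₁)) ∧
    ι x = ∑ j ∈ Finset.range p, c j * (φ t) ^ j := by
  have hx : x ∈ Subalgebra.toSubmodule (Algebra.adjoin L (Set.range (algebraMap E M))) := by
    rw [hgen]; trivial
  rw [Algebra.adjoin_eq_span] at hx
  have hcl : (Submonoid.closure (Set.range (algebraMap E M)) : Set M) =
      Set.range (algebraMap E M) := by
    have h1 : Set.range (algebraMap E M) =
        ((MonoidHom.mrange ((algebraMap E M : E →+* M) : E →* M) : Submonoid M) : Set M) := by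
      ext; simp
    rw [h1, Submonoid.closure_eq]
  rw [hcl] at hx
  induction hx using Submodule.span_induction with
  | mem y hy =>
    obtain ⟨s, rfl⟩ := hy
    obtain ⟨d, -, hd⟩ := repE φ₁ p φ hφ t r s
    exact ⟨fun j => φ₁ (d j), fun j => Algebra.subset_adjoin ⟨d j, rfl⟩, by rw [hι, hd]⟩
  | zero => exact ⟨fun _ => 0, fun _ => Subalgebra.zero_mem _, by simp⟩
  | add y z _ _ hy hz =>
    obtain ⟨c₁, hc₁, h₁⟩ := hy
    obtain ⟨c₂, hc₂, h₂⟩ := hz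
    refine ⟨fun j => c₁ j + c₂ j, fun j => Subalgebra.add_mem _ (hc₁ j) (hc₂ j), ?_⟩
    rw [map_add, h₁, h₂, ← Finset.sum_add_distrib]
    apply Finset.sum_congr rfl
    intro j _
    rw [add_mul]
  | smul l y _ hy =>
    obtain ⟨c, hc, h⟩ := hy
    refine ⟨fun j => algebraMap L Ω l * c j,
      fun j => Subalgebra.mul_mem _ (Subalgebra.algebraMap_mem _ l) (hc j), ?_⟩
    rw [map_smul, h, Algebra.smul_def, Finset.mul_sum]
    apply Finset.sum_congr rfl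
    intro j _
    rw [mul_assoc]

include hφ hι in
theorem inRange (c : ℕ → Ω) (hc : ∀ j, c j ∈ Algebra.adjoin L (Set.range φ₁)) :
    ∃ x : M, ι x = ∑ j ∈ Finset.range p, c j * (φ t) ^ j := by
  have hle : Algebra.adjoin L (Set.range φ₁) ≤ ι.range := by
    apply Algebra.adjoin_le
    rintro _ ⟨k, rfl⟩
    exact ⟨algebraMap E M (algebraMap K₁ E k), by rw [← hφ, ← hι]; rfl⟩
  have ht : φ t ∈ ι.range := ⟨algebraMap E M t, hι t⟩
  have : ∑ j ∈ Finset.range p, c j * (φ t) ^ j ∈ ι.range :=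
    Subalgebra.sum_mem _ (fun j _ => Subalgebra.mul_mem _ (hle (hc j)) (Subalgebra.pow_mem _ ht j))
  obtain ⟨x, hx⟩ := this
  exact ⟨x, hx⟩

include hφ r hι hgen in
theorem charE (z : ResidueField W) :
    z ∈ (ResidueField.map (EtRam.inclOfComap W (ι : M →+* Ω))).range ↔
    ∃ c : ℕ → Ω, (∀ j, c j ∈ Algebra.adjoin L (Set.range φ₁)) ∧
      ∃ h : (∑ j ∈ Finset.range p, c j * (φ t) ^ j) ∈ W, z = residue W ⟨_, h⟩ := by
  constructor
  · rintro ⟨y, rfl⟩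
    obtain ⟨x', rfl⟩ := residue_surjective y
    obtain ⟨c, hc, hx⟩ := repM φ₁ p φ hφ t r ι hι hgen (x' : M)
    have hmem : ι (x' : M) ∈ W := x'.2
    refine ⟨c, hc, hx ▸ hmem, ?_⟩
    rw [ResidueField.map_residue]
    congr 1
    exact Subtype.ext hx
  · rintro ⟨c, hc, h, rfl⟩
    obtain ⟨x, hx⟩ := inRange φ₁ p φ hφ t ι hι c hc
    have hxW : x ∈ W.comap (ι : M →+* Ω) := by
      show ι x ∈ W
      rw [hx]; exact h
    refine ⟨residue _ ⟨x, hxW⟩, ?_⟩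
    rw [ResidueField.map_residue]
    congr 1
    exact Subtype.ext hx

include hφ r hι in
theorem chark (z : ResidueField W) :
    z ∈ ((ResidueField.map (EtRam.inclOfComap W (ι : M →+* Ω))).comp
      (ResidueField.map (EtRam.inclOfComap (W.comap (ι : M →+* Ω)) (algebraMap E M)))).range ↔
    ∃ d : ℕ → K₁, ∃ h : (∑ j ∈ Finset.range p, φ₁ (d j) * (φ t) ^ j) ∈ W,
      z = residue W ⟨_, h⟩ := by
  constructor
  · rintro ⟨y, rfl⟩
    obtain ⟨s', rfl⟩ := residue_surjective y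
    obtain ⟨d, -, hd⟩ := repE φ₁ p φ hφ t r (s' : E)
    have hmem : ι (algebraMap E M (s' : E)) ∈ W := s'.2
    rw [hι, hd] at hmem
    refine ⟨d, hmem, ?_⟩
    rw [RingHom.comp_apply, ResidueField.map_residue, ResidueField.map_residue]
    congr 1
    apply Subtype.ext
    show ι (algebraMap E M (s' : E)) = _
    rw [hι, hd]
  · rintro ⟨d, h, rfl⟩
    set s : E := ∑ j ∈ Finset.range p, algebraMap K₁ E (d j) * t ^ j with hs
    have hφs := repE' φ₁ p φ hφ t d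
    have hsV : s ∈ (W.comap (ι : M →+* Ω)).comap (algebraMap E M) := by
      show ι (algebraMap E M s) ∈ W
      rw [hι, hφs]; exact h
    refine ⟨residue _ ⟨s, hsV⟩, ?_⟩
    rw [RingHom.comp_apply, ResidueField.map_residue, ResidueField.map_residue]
    congr 1
    apply Subtype.ext
    show ι (algebraMap E M s) = _
    rw [hι, hφs]

include hφ r hι hgen in
theorem wuE :
    (letI : Algebra ((W.comap (ι : M →+* Ω)).comap (algebraMap E M)) (W.comap (ι : M →+* Ω)) :=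
      (EtRam.inclOfComap (W.comap (ι : M →+* Ω)) (algebraMap E M)).toAlgebra
    EtRam.IsWeaklyUnramified ((W.comap (ι : M →+* Ω)).comap (algebraMap E M))
      (W.comap (ι : M →+* Ω))) ↔
    ∀ c : ℕ → Ω, (∀ j, c j ∈ Algebra.adjoin L (Set.range φ₁)) →
      W.valuation (∑ j ∈ Finset.range p, c j * (φ t) ^ j) < 1 →
      ∃ d : ℕ → K₁, W.valuation (∑ j ∈ Finset.range p, φ₁ (d j) * (φ t) ^ j) < 1 ∧
        W.valuation (∑ j ∈ Finset.range p, c j * (φ t) ^ j) ≤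
          W.valuation (∑ j ∈ Finset.range p, φ₁ (d j) * (φ t) ^ j) := by
  constructor
  · intro h c hc hlt
    obtain ⟨x, hx⟩ := inRange φ₁ p φ hφ t ι hι c hc
    have h1 := wu_imp_val (W.comap (ι : M →+* Ω)) (algebraMap E M) h x
      (by rw [comap_val_lt_one_iff]; show W.valuation (ι x) < 1; rw [hx]; exact hlt)
    obtain ⟨s, hs1, hs2⟩ := h1
    obtain ⟨d, -, hd⟩ := repE φ₁ p φ hφ t r s
    rw [comap_val_lt_one_iff] at hs1
    rw [comap_val_le_iff] at hs2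
    have e1 : (ι : M →+* Ω) (algebraMap E M s) =
        ∑ j ∈ Finset.range p, φ₁ (d j) * (φ t) ^ j := by
      show ι (algebraMap E M s) = _
      rw [hι, hd]
    have e2 : (ι : M →+* Ω) x = ∑ j ∈ Finset.range p, c j * (φ t) ^ j := hx
    rw [e1] at hs1 hs2
    rw [e2] at hs2
    exact ⟨d, hs1, hs2⟩
  · intro h
    apply wu_of_val
    intro x hx
    obtain ⟨c, hc, hxc⟩ := repM φ₁ p φ hφ t r ι hι hgen x
    have e2 : (ι : M →+* Ω) x = ∑ j ∈ Finset.range p, c j * (φ t) ^ j := hxc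
    rw [comap_val_lt_one_iff, e2] at hx
    obtain ⟨d, hd1, hd2⟩ := h c hc hx
    set s : E := ∑ j ∈ Finset.range p, algebraMap K₁ E (d j) * t ^ j with hs
    have hφs := repE' φ₁ p φ hφ t d
    have e1 : (ι : M →+* Ω) (algebraMap E M s) =
        ∑ j ∈ Finset.range p, φ₁ (d j) * (φ t) ^ j := by
      show ι (algebraMap E M s) = _
      rw [hι, hφs]
    refine ⟨s, ?_, ?_⟩
    · rw [comap_val_lt_one_iff, e1]; exact hd1
    · rw [comap_val_le_iff, e1, e2]; exact hd2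

end datum

section transfer

variable {Ω : Type u} [Field Ω] (W : ValuationSubring Ω) {L : Type u} [Field L] [Algebra L Ω]
  {K₁ : Type u} [Field K₁] (φ₁ : K₁ →+* Ω) (p : ℕ)
  {E₂ : Type u} [Field E₂] [Algebra K₁ E₂] (φ₂ : E₂ →+* Ω)
  (hφ₂ : ∀ k, φ₂ (algebraMap K₁ E₂ k) = φ₁ k) (t₂ : E₂)
  (r₂ : ∀ s : E₂, ∃ d : ℕ → K₁, s = ∑ j ∈ Finset.range p, algebraMap K₁ E₂ (d j) * t₂ ^ j)
  {M₂ : Type u} [Field M₂] [Algebra L M₂] [Algebra E₂ M₂] (ι₂ : M₂ →ₐ[L] Ω)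
  (hι₂ : ∀ s, ι₂ (algebraMap E₂ M₂ s) = φ₂ s)
  (hgen₂ : Algebra.adjoin L (Set.range (algebraMap E₂ M₂)) = ⊤)
  {E₃ : Type u} [Field E₃] [Algebra K₁ E₃] (φ₃ : E₃ →+* Ω)
  (hφ₃ : ∀ k, φ₃ (algebraMap K₁ E₃ k) = φ₁ k) (t₃ : E₃)
  (r₃ : ∀ s : E₃, ∃ d : ℕ → K₁, s = ∑ j ∈ Finset.range p, algebraMap K₁ E₃ (d j) * t₃ ^ j)
  {M₃ : Type u} [Field M₃] [Algebra L M₃] [Algebra E₃ M₃] (ι₃ : M₃ →ₐ[L] Ω)
  (hι₃ : ∀ s, ι₃ (algebraMap E₃ M₃ s) = φ₃ s)
  (hgen₃ : Algebra.adjoin L (Set.range (algebraMap E₃ M₃)) = ⊤)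
  (hclose : ∀ c : ℕ → Ω, (∀ j, c j ∈ Algebra.adjoin L (Set.range φ₁)) →
    Close W (∑ j ∈ Finset.range p, c j * (φ₂ t₂) ^ j) (∑ j ∈ Finset.range p, c j * (φ₃ t₃) ^ j))

include hφ₂ r₂ hι₂ hgen₂ hφ₃ r₃ hι₃ hgen₃ hclose in
theorem transfer_wu
    (h : letI : Algebra ((W.comap (ι₂ : M₂ →+* Ω)).comap (algebraMap E₂ M₂))
                (W.comap (ι₂ : M₂ →+* Ω)) :=
          (EtRam.inclOfComap (W.comap (ι₂ : M₂ →+* Ω)) (algebraMap E₂ M₂)).toAlgebra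
      EtRam.IsWeaklyUnramified ((W.comap (ι₂ : M₂ →+* Ω)).comap (algebraMap E₂ M₂))
        (W.comap (ι₂ : M₂ →+* Ω))) :
    letI : Algebra ((W.comap (ι₃ : M₃ →+* Ω)).comap (algebraMap E₃ M₃))
        (W.comap (ι₃ : M₃ →+* Ω)) :=
      (EtRam.inclOfComap (W.comap (ι₃ : M₃ →+* Ω)) (algebraMap E₃ M₃)).toAlgebra
    EtRam.IsWeaklyUnramified ((W.comap (ι₃ : M₃ →+* Ω)).comap (algebraMap E₃ M₃))
      (W.comap (ι₃ : M₃ →+* Ω)) := by
  rw [wuE W φ₁ p φ₂ hφ₂ t₂ r₂ ι₂ hι₂ hgen₂] at h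
  rw [wuE W φ₁ p φ₃ hφ₃ t₃ r₃ ι₃ hι₃ hgen₃]
  intro c hc hlt
  have hcl := hclose c hc
  rw [hcl.val_eq] at hlt
  obtain ⟨d, hd1, hd2⟩ := h c hc hlt
  have hcl' := hclose (fun j => φ₁ (d j)) (fun j => Algebra.subset_adjoin ⟨d j, rfl⟩)
  refine ⟨d, ?_, ?_⟩
  · rw [hcl'.val_eq]; exact hd1
  · rw [hcl'.val_eq, hcl.val_eq]; exact hd2

include hφ₂ r₂ hι₂ hgen₂ hφ₃ r₃ hι₃ hgen₃ hclose in
theorem transfer_gr
    (h : @Algebra.IsGeometricallyReduced
      (ResidueField ((W.comap (ι₂ : M₂ →+* Ω)).comap (algebraMap E₂ M₂)))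
      (ResidueField (W.comap (ι₂ : M₂ →+* Ω))) _ _
      (ResidueField.map (EtRam.inclOfComap (W.comap (ι₂ : M₂ →+* Ω))
        (algebraMap E₂ M₂))).toAlgebra) :
    @Algebra.IsGeometricallyReduced
      (ResidueField ((W.comap (ι₃ : M₃ →+* Ω)).comap (algebraMap E₃ M₃)))
      (ResidueField (W.comap (ι₃ : M₃ →+* Ω))) _ _
      (ResidueField.map (EtRam.inclOfComap (W.comap (ι₃ : M₃ →+* Ω))
        (algebraMap E₃ M₃))).toAlgebra := by
  letI a₂ : Algebra (ResidueField ((W.comap (ι₂ : M₂ →+* Ω)).comap (algebraMap E₂ M₂)))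
      (ResidueField (W.comap (ι₂ : M₂ →+* Ω))) :=
    (ResidueField.map (EtRam.inclOfComap (W.comap (ι₂ : M₂ →+* Ω)) (algebraMap E₂ M₂))).toAlgebra
  letI a₃ : Algebra (ResidueField ((W.comap (ι₃ : M₃ →+* Ω)).comap (algebraMap E₃ M₃)))
      (ResidueField (W.comap (ι₃ : M₃ →+* Ω))) :=
    (ResidueField.map (EtRam.inclOfComap (W.comap (ι₃ : M₃ →+* Ω)) (algebraMap E₃ M₃))).toAlgebra
  haveI : Algebra.IsGeometricallyReduced
      (ResidueField ((W.comap (ι₂ : M₂ →+* Ω)).comap (algebraMap E₂ M₂)))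
      (ResidueField (W.comap (ι₂ : M₂ →+* Ω))) := h
  refine geomRed_of_range_eq
    (k₂ := ResidueField ((W.comap (ι₂ : M₂ →+* Ω)).comap (algebraMap E₂ M₂)))
    (k₃ := ResidueField ((W.comap (ι₃ : M₃ →+* Ω)).comap (algebraMap E₃ M₃)))
    (ResidueField.map (EtRam.inclOfComap W (ι₂ : M₂ →+* Ω)))
    (ResidueField.map (EtRam.inclOfComap W (ι₃ : M₃ →+* Ω))) ?_ ?_
  · ext z
    rw [charE W φ₁ p φ₂ hφ₂ t₂ r₂ ι₂ hι₂ hgen₂, charE W φ₁ p φ₃ hφ₃ t₃ r₃ ι₃ hι₃ hgen₃]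
    constructor
    · rintro ⟨c, hc, h, rfl⟩
      have hcl := hclose c hc
      exact ⟨c, hc, hcl.mem_iff.mp h, hcl.residue_eq _ _⟩
    · rintro ⟨c, hc, h, rfl⟩
      have hcl := (hclose c hc).symm
      exact ⟨c, hc, hcl.mem_iff.mp h, hcl.residue_eq _ _⟩
  · ext z
    have e₂ := chark W φ₁ p φ₂ hφ₂ t₂ r₂ ι₂ hι₂ z
    have e₃ := chark W φ₁ p φ₃ hφ₃ t₃ r₃ ι₃ hι₃ z
    rw [show algebraMap (ResidueField ((W.comap (ι₂ : M₂ →+* Ω)).comap (algebraMap E₂ M₂)))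
      (ResidueField (W.comap (ι₂ : M₂ →+* Ω))) = ResidueField.map (EtRam.inclOfComap
        (W.comap (ι₂ : M₂ →+* Ω)) (algebraMap E₂ M₂)) from rfl,
      show algebraMap (ResidueField ((W.comap (ι₃ : M₃ →+* Ω)).comap (algebraMap E₃ M₃)))
      (ResidueField (W.comap (ι₃ : M₃ →+* Ω))) = ResidueField.map (EtRam.inclOfComap
        (W.comap (ι₃ : M₃ →+* Ω)) (algebraMap E₃ M₃)) from rfl, e₂, e₃]
    constructor
    · rintro ⟨d, h, rfl⟩
      have hcl := hclose (fun j => φ₁ (d j)) (fun j => Algebra.subset_adjoin ⟨d j, rfl⟩)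
      exact ⟨d, hcl.mem_iff.mp h, hcl.residue_eq _ _⟩
    · rintro ⟨d, h, rfl⟩
      have hcl := (hclose (fun j => φ₁ (d j)) (fun j => Algebra.subset_adjoin ⟨d j, rfl⟩)).symm
      exact ⟨d, hcl.mem_iff.mp h, hcl.residue_eq _ _⟩

end transfer

end Groth.Agent.Helper27.Sv
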