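import Mathlib
import Groth.Agent.Lib.Helper27.SvG

/-! The place-by-place step for S7151. -/

set_option autoImplicit false

namespace Groth.Agent.Helper27.Sv

open IsLocalRing Groth.Agent.Helper27.Pi

universe u

/-- every valuation subring extends along a field embedding -/
theorem exists_valuationSubring_comap_eq {M Ω : Type u} [Field M] [Field Ω] (ι : M →+* Ω)
    (W : ValuationSubring M) : ∃ 𝒲 : ValuationSubring Ω, W = 𝒲.comap ι := by
  obtain ⟨𝒲, h, hloc⟩ := (LocalSubring.range (ι.comp W.subtype)).exists_le_valuationSubring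
  have hle' : ∀ x, x ∈ W → ι x ∈ 𝒲 := fun x hx => h ⟨⟨x, hx⟩, rfl⟩
  refine ⟨𝒲, valuationSubring_eq_of_le W (𝒲.comap ι) hle' ?_⟩
  intro x hx hlt
  rw [comap_val_lt_one_iff]
  rw [val_lt_one_iff] at hlt ⊢
  rcases hlt with h0 | hinv
  · left; rw [h0, map_zero]
  · right
    intro hmem
    apply hinv
    have hx0 : x ≠ 0 := by
      rintro rfl
      exact hinv (by rw [inv_zero]; exact W.zero_mem)
    have hιx0 : ι x ≠ 0 := fun h0 => hx0 (ι.injective (by rw [h0, map_zero]))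
    let a : (LocalSubring.range (ι.comp W.subtype)).toSubring := ⟨ι x, ⟨⟨x, hx⟩, rfl⟩⟩
    have hu : IsUnit (Subring.inclusion h a) := by
      rw [isUnit_iff_exists_inv]
      refine ⟨⟨(ι x)⁻¹, hmem⟩, ?_⟩
      apply Subtype.ext
      show ι x * (ι x)⁻¹ = 1
      exact mul_inv_cancel₀ hιx0
    have hu' : IsUnit a := hloc.map_nonunit a hu
    obtain ⟨b', hb'⟩ := isUnit_iff_exists_inv.mp hu'
    obtain ⟨b₀, ⟨y, hy⟩⟩ := b'
    have h1 : ι x * ι (y : M) = 1 := by
      have := congrArg Subtype.val hb'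
      simp only [a, MulMemClass.coe_mul, OneMemClass.coe_one] at this
      rw [← hy] at this
      exact this
    have h2 : x * (y : M) = 1 := ι.injective (by rw [map_mul, h1, map_one])
    have h3 : x⁻¹ = (y : M) := (eq_inv_of_mul_eq_one_right h2).symm ▸ rfl
    rw [h3]
    exact y.2

/-- the compositum is generated as an algebra by the image -/
theorem adjoin_codRestrict_eq_top {L Ω E : Type u} [Field L] [Field Ω] [Algebra L Ω] [Field E]
    [Algebra.IsAlgebraic L Ω] (ψ : E →+* Ω)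
    (hmem : ∀ s, ψ s ∈ IntermediateField.adjoin L (Set.range ψ)) :
    Algebra.adjoin L (Set.range (ψ.codRestrict (IntermediateField.adjoin L (Set.range ψ)) hmem)) =
      ⊤ := by
  rw [eq_top_iff]
  rintro ⟨x, hx⟩ -
  have hx' : x ∈ (IntermediateField.adjoin L (Set.range ψ)).toSubalgebra := hx
  rw [IntermediateField.adjoin_toSubalgebra] at hx'
  have himg : Set.range ψ = (IntermediateField.adjoin L (Set.range ψ)).val ''
      (Set.range (ψ.codRestrict (IntermediateField.adjoin L (Set.range ψ)) hmem)) := by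
    ext z
    constructor
    · rintro ⟨s, rfl⟩
      exact ⟨_, ⟨s, rfl⟩, rfl⟩
    · rintro ⟨_, ⟨s, rfl⟩, rfl⟩
      exact ⟨s, rfl⟩
  rw [himg, ← AlgHom.map_adjoin] at hx'
  obtain ⟨y, hy, hyx⟩ := hx'
  have : y = ⟨x, hx⟩ := Subtype.ext hyx
  rw [← this]
  exact hy

section step

variable (p : ℕ) [hp : Fact p.Prime] (B K L K₁ K₂ K₃ : Type u) [CommRing B] [IsDomain B]
  [IsDiscreteValuationRing B]
  [Field K] [Field L] [Field K₁] [Field K₂] [Field K₃] [Algebra B L] [IsFractionRing B L]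
  [Algebra K L] [Algebra K K₁] [Algebra K K₂] [Algebra K₁ K₂] [IsScalarTower K K₁ K₂]
  [Algebra K K₃] [Algebra K₁ K₃] [IsScalarTower K K₁ K₃]
  [CharP K p] [FiniteDimensional K K₂] [Algebra.IsAlgebraic K K₃]
  [Algebra.IsGeometricallyReduced K L]
  (α : K₂) (b : Module.Basis (Fin p) K₁ K₂) (hb : ∀ i, b i = α ^ (i : ℕ))
  (hpow : ∀ y : K₂, ∃ d : K₁, y ^ p = algebraMap K₁ K₂ d)
  (hrep : ∀ s : K₂, ∃ d : ℕ → K₁, s = ∑ j ∈ Finset.range p, algebraMap K₁ K₂ (d j) * α ^ j)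
  (q : B) (hq0 : q ≠ 0) (hqm : q ∈ IsLocalRing.maximalIdeal B)
  (qK : K) (hqK : algebraMap K L qK = algebraMap B L q)
  (N₁ N : ℕ) (hN : p * (N₁ + 1) < N)
  (hU : ∀ (Ω : Type u) [Field Ω] [Algebra K Ω] [Algebra L Ω] [IsScalarTower K L Ω]
    [Algebra B Ω] [IsScalarTower B L Ω] [Algebra.IsAlgebraic L Ω] (φ : K₂ →ₐ[K] Ω),
    IBound p B L K₁ K₂ α q N₁ Ω (φ : K₂ →+* Ω))
  (a : K₁) (ha : α ^ p = algebraMap K₁ K₂ a)
  (hαint : ∃ P : Polynomial B, P.Monic ∧ ∀ (Ω : Type u) [Field Ω] [Algebra K Ω] [Algebra L Ω]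
    [IsScalarTower K L Ω] (ψ : K₂ →ₐ[K] Ω),
    P.eval₂ ((algebraMap L Ω).comp (algebraMap B L)) (ψ α) = 0)
  (θ : K₃) (hθ : θ ^ p = algebraMap K₁ K₃ ((algebraMap K K₁ qK) ^ N) * θ + algebraMap K₁ K₃ a)
  (r₃ : ∀ s : K₃, ∃ d : ℕ → K₁, s = ∑ j ∈ Finset.range p, algebraMap K₁ K₃ (d j) * θ ^ j)

include hb hpow in
theorem indep' (Ω : Type u) [Field Ω] [Algebra K Ω] [Algebra L Ω] [IsScalarTower K L Ω]
    (ψ : K₂ →ₐ[K] Ω) (c : ℕ → Ω)
    (hc : ∀ j, c j ∈ Algebra.adjoin L (Set.range ((ψ : K₂ →+* Ω).comp (algebraMap K₁ K₂))))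
    (h0 : ∑ j ∈ Finset.range p, c j * (ψ α) ^ j = 0) : ∀ j < p, c j = 0 := by
  letI : Algebra K₂ Ω := (ψ : K₂ →+* Ω).toAlgebra
  haveI : IsScalarTower K K₂ Ω := IsScalarTower.of_algebraMap_eq (fun k => (ψ.commutes k).symm)
  exact indep_of_geomRed p K L K₁ K₂ α b hb hpow Ω c hc h0

include hpow in
theorem pow_mem_F (Ω : Type u) [Field Ω] [Algebra K Ω] [Algebra L Ω] [IsScalarTower K L Ω]
    (ψ : K₂ →ₐ[K] Ω) (y : Ω) (hy : y ∈ Algebra.adjoin L (Set.range ψ)) :
    y ^ p ∈ Algebra.adjoin L (Set.range ((ψ : K₂ →+* Ω).comp (algebraMap K₁ K₂))) := by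
  haveI : CharP Ω p := charP_of_injective_algebraMap (algebraMap K Ω).injective p
  induction hy using Algebra.adjoin_induction with
  | mem x hx =>
    obtain ⟨s, rfl⟩ := hx
    obtain ⟨d, hd⟩ := hpow s
    rw [← map_pow, hd]
    exact Algebra.subset_adjoin ⟨d, rfl⟩
  | algebraMap l =>
    rw [← map_pow]
    exact Subalgebra.algebraMap_mem _ _
  | add x y _ _ hx hy =>
    rw [add_pow_char]
    exact Subalgebra.add_mem _ hx hy
  | mul x y _ _ hx hy =>
    rw [mul_pow]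
    exact Subalgebra.mul_mem _ hx hy

include hb hpow hrep hq0 hqm hqK hN hU ha hαint hθ r₃ in
theorem place_step (hsol : EtRam.IsSolution B K L K₂) : EtRam.IsSolution B K L K₃ := by
  intro M₃ _ _ _ _ _ _ hgen₃ W₃ hdom
  -- the big field
  let ι₃ : M₃ →ₐ[L] AlgebraicClosure M₃ := IsScalarTower.toAlgHom L M₃ (AlgebraicClosure M₃)
  obtain ⟨𝒲, h𝒲⟩ := exists_valuationSubring_comap_eq (ι₃ : M₃ →+* AlgebraicClosure M₃) W₃
  subst h𝒲
  let φ₃ : K₃ →+* AlgebraicClosure M₃ := algebraMap K₃ (AlgebraicClosure M₃)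
  let φ₁ : K₁ →+* AlgebraicClosure M₃ := φ₃.comp (algebraMap K₁ K₃)
  letI iK₁ : Algebra K₁ (AlgebraicClosure M₃) := φ₁.toAlgebra
  haveI : IsScalarTower K K₁ (AlgebraicClosure M₃) := IsScalarTower.of_algebraMap_eq (fun k => by
    show algebraMap K (AlgebraicClosure M₃) k = φ₃ (algebraMap K₁ K₃ (algebraMap K K₁ k))
    rw [← IsScalarTower.algebraMap_apply K K₁ K₃, ← IsScalarTower.algebraMap_apply K K₃])
  haveI : Algebra.IsAlgebraic K₁ K₂ := Algebra.IsAlgebraic.tower_top (K := K) K₁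
  let ψ : K₂ →ₐ[K₁] AlgebraicClosure M₃ := IsAlgClosed.lift
  let ψK : K₂ →ₐ[K] AlgebraicClosure M₃ := ψ.restrictScalars K
  have hψK : ∀ s, ψK s = ψ s := fun _ => rfl
  have hφ₁ψ : (ψK : K₂ →+* AlgebraicClosure M₃).comp (algebraMap K₁ K₂) = φ₁ :=
    RingHom.ext (fun k => ψ.commutes k)
  letI iB : Algebra B (AlgebraicClosure M₃) :=
    ((algebraMap L (AlgebraicClosure M₃)).comp (algebraMap B L)).toAlgebra
  haveI : IsScalarTower B L (AlgebraicClosure M₃) := IsScalarTower.of_algebraMap_eq (fun _ => rfl)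
  -- algebraicity
  haveI hM₃alg : Algebra.IsAlgebraic L M₃ := by
    haveI : Algebra.IsIntegral L M₃ := by
      constructor
      intro x
      have hx : x ∈ Algebra.adjoin L (Set.range (algebraMap K₃ M₃)) := by rw [hgen₃]; trivial
      have hle : Algebra.adjoin L (Set.range (algebraMap K₃ M₃)) ≤ integralClosure L M₃ := by
        apply Algebra.adjoin_le
        rintro _ ⟨s, rfl⟩
        have h1 : IsIntegral K s := (Algebra.IsAlgebraic.isAlgebraic s).isIntegral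
        have h2 : IsIntegral K (algebraMap K₃ M₃ s) := h1.map (IsScalarTower.toAlgHom K K₃ M₃)
        exact h2.tower_top
      exact hle hx
    infer_instance
  haveI hΩalg : Algebra.IsAlgebraic L (AlgebraicClosure M₃) :=
    Algebra.IsAlgebraic.trans L M₃ (AlgebraicClosure M₃)
  have halg : ∀ x : AlgebraicClosure M₃, IsAlgebraic B x := fun x =>
    (IsFractionRing.isAlgebraic_iff B L (AlgebraicClosure M₃)).mpr
      (Algebra.IsAlgebraic.isAlgebraic x)
  haveI : CharP (AlgebraicClosure M₃) p :=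
    charP_of_injective_algebraMap (algebraMap K (AlgebraicClosure M₃)).injective p
  -- domination
  have hinj : Function.Injective (algebraMap B (AlgebraicClosure M₃)) :=
    (algebraMap L (AlgebraicClosure M₃)).injective.comp (IsFractionRing.injective B L)
  have hι₃L : ∀ l : L, ι₃ (algebraMap L M₃ l) = algebraMap L (AlgebraicClosure M₃) l :=
    fun l => ι₃.commutes l
  have hW : ∀ r : B, algebraMap B (AlgebraicClosure M₃) r ∈ 𝒲 := by
    intro r
    have h1 := hdom.1 r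
    rw [ValuationSubring.mem_comap] at h1
    have h2 : (ι₃ : M₃ →+* AlgebraicClosure M₃) (((algebraMap L M₃).comp (algebraMap B L)) r) =
        algebraMap B (AlgebraicClosure M₃) r := hι₃L _
    rw [h2] at h1
    exact h1
  have hWm : ∀ r ∈ maximalIdeal B, 𝒲.valuation (algebraMap B (AlgebraicClosure M₃) r) < 1 := by
    intro r hr
    have h1 := hdom.2 r hr
    rw [comap_val_lt_one_iff] at h1
    have h2 : (ι₃ : M₃ →+* AlgebraicClosure M₃) (((algebraMap L M₃).comp (algebraMap B L)) r) =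
        algebraMap B (AlgebraicClosure M₃) r := hι₃L _
    rw [h2] at h1
    exact h1
  -- the elements
  have hQ : φ₁ (algebraMap K K₁ qK) = algebraMap B (AlgebraicClosure M₃) q := by
    show algebraMap K₁ (AlgebraicClosure M₃) (algebraMap K K₁ qK) = _
    rw [← IsScalarTower.algebraMap_apply K K₁, IsScalarTower.algebraMap_apply K L, hqK]
    rfl
  have hαp : (ψ α) ^ p = φ₁ a := by
    rw [← map_pow, ha]
    exact ψ.commutes a
  have hθp : (φ₃ θ) ^ p = algebraMap B (AlgebraicClosure M₃) (q ^ N) * φ₃ θ + φ₁ a := by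
    rw [← map_pow, hθ, map_add, map_mul]
    show φ₁ ((algebraMap K K₁ qK) ^ N) * φ₃ θ + φ₁ a = _
    rw [map_pow, hQ, ← map_pow]
  have hδ : (φ₃ θ - ψ α) ^ p = algebraMap B (AlgebraicClosure M₃) (q ^ N) * φ₃ θ := by
    rw [sub_pow_char, hθp, hαp]
    ring
  have hvα : 𝒲.valuation (ψ α) ≤ 1 := by
    obtain ⟨P, hPm, hP⟩ := hαint
    exact val_le_one_of_isIntegral B _ 𝒲 hW _ ⟨P, hPm, hP (AlgebraicClosure M₃) ψK⟩
  have hva : 𝒲.valuation (φ₁ a) ≤ 1 := by
    rw [← hαp, map_pow]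
    exact pow_le_one₀ zero_le hvα
  have hvθ : 𝒲.valuation (φ₃ θ) ≤ 1 := by
    by_contra hcon
    push Not at hcon
    have h1 : 𝒲.valuation (φ₃ θ) ^ p ≤ 𝒲.valuation (φ₃ θ) := by
      rw [← map_pow, hθp]
      apply Valuation.map_add_le
      · rw [map_mul]
        calc _ ≤ 1 * 𝒲.valuation (φ₃ θ) := by
              gcongr
              exact (𝒲.valuation_le_one_iff _).mpr (hW _)
          _ = _ := one_mul _
      · exact le_trans hva hcon.le
    have h2 : 𝒲.valuation (φ₃ θ) < 𝒲.valuation (φ₃ θ) ^ p := by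
      obtain ⟨p', hp'⟩ : ∃ p', p = p' + 2 := ⟨p - 2, by have := hp.out.two_le; omega⟩
      rw [hp', pow_succ]
      calc 𝒲.valuation (φ₃ θ) = 1 * 𝒲.valuation (φ₃ θ) := (one_mul _).symm
        _ < 𝒲.valuation (φ₃ θ) ^ (p' + 1) * 𝒲.valuation (φ₃ θ) := by
          apply mul_lt_mul_of_pos_right
          · exact one_lt_pow₀ hcon (by omega)
          · exact lt_trans zero_lt_one hcon
    exact absurd h1 (not_le.mpr h2)
  -- closeness
  have hclose : ∀ c : ℕ → AlgebraicClosure M₃, (∀ j, c j ∈ Algebra.adjoin L (Set.range φ₁)) →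
      Close 𝒲 (∑ j ∈ Finset.range p, c j * (ψ α) ^ j)
        (∑ j ∈ Finset.range p, c j * (φ₃ θ) ^ j) := by
    refine close_of_IB p B L (AlgebraicClosure M₃) hinj 𝒲 hW hWm halg q hq0 hqm
      (Algebra.adjoin L (Set.range φ₁)) (Algebra.adjoin L (Set.range ψ)) (ψ α) (φ₃ θ) hvα hvθ N₁ N
      hN hδ ?_ ?_ ?_ ?_ ?_
    · apply Algebra.adjoin_mono
      rintro _ ⟨k, rfl⟩
      exact ⟨algebraMap K₁ K₂ k, ψ.commutes k⟩
    · exact Algebra.subset_adjoin ⟨α, rfl⟩
    · intro y hy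
      have := pow_mem_F p K L K₁ K₂ hpow (AlgebraicClosure M₃) ψK y hy
      rw [hφ₁ψ] at this
      exact this
    · intro c hc h0
      have := indep' p K L K₁ K₂ α b hb hpow (AlgebraicClosure M₃) ψK c
        (by rw [hφ₁ψ]; exact hc) h0
      exact this
    · intro c hc hint
      have := hU (AlgebraicClosure M₃) ψK c (by rw [hφ₁ψ]; exact hc) hint
      exact this
  -- the field M₂
  let M₂ : IntermediateField L (AlgebraicClosure M₃) := IntermediateField.adjoin L (Set.range ψ)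
  have hmem₂ : ∀ s, (ψ : K₂ →+* AlgebraicClosure M₃) s ∈ M₂ :=
    fun s => IntermediateField.subset_adjoin L _ ⟨s, rfl⟩
  letI iK₂M₂ : Algebra K₂ M₂ := ((ψ : K₂ →+* AlgebraicClosure M₃).codRestrict M₂ hmem₂).toAlgebra
  haveI : IsScalarTower K K₂ M₂ := IsScalarTower.of_algebraMap_eq (fun k => by
    apply Subtype.ext
    show algebraMap K (AlgebraicClosure M₃) k = ψ (algebraMap K K₂ k)
    exact (ψK.commutes k).symm)
  have hgen₂ : Algebra.adjoin L (Set.range (algebraMap K₂ M₂)) = ⊤ :=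
    adjoin_codRestrict_eq_top (ψ : K₂ →+* AlgebraicClosure M₃) hmem₂
  let ι₂ : M₂ →ₐ[L] AlgebraicClosure M₃ := M₂.val
  have hdom₂ : EtRam.Dominates B ((algebraMap L M₂).comp (algebraMap B L))
      (𝒲.comap (ι₂ : M₂ →+* AlgebraicClosure M₃)) := by
    constructor
    · intro r
      rw [ValuationSubring.mem_comap]
      exact hW r
    · intro r hr
      rw [comap_val_lt_one_iff]
      exact hWm r hr
  have h₂ := hsol M₂ hgen₂ (𝒲.comap (ι₂ : M₂ →+* AlgebraicClosure M₃)) hdom₂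
  have hι₃ : ∀ s, ι₃ (algebraMap K₃ M₃ s) = φ₃ s := fun s =>
    (IsScalarTower.algebraMap_apply K₃ M₃ (AlgebraicClosure M₃) s).symm
  exact ⟨transfer_wu 𝒲 φ₁ p (ψ : K₂ →+* AlgebraicClosure M₃) (fun k => ψ.commutes k) α hrep ι₂
      (fun _ => rfl) hgen₂ φ₃ (fun _ => rfl) θ r₃ ι₃ hι₃ hgen₃ hclose h₂.1,
    transfer_gr 𝒲 φ₁ p (ψ : K₂ →+* AlgebraicClosure M₃) (fun k => ψ.commutes k) α hrep ι₂
      (fun _ => rfl) hgen₂ φ₃ (fun _ => rfl) θ r₃ ι₃ hι₃ hgen₃ hclose h₂.2⟩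

end step

end Groth.Agent.Helper27.Sv
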