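import Mathlib
import Groth.Agent.Lib.Helper27.SvH
import Groth.Agent.Lib.Helper27.PiC

/-! Assembly of S7151. -/

set_option autoImplicit false

namespace Groth.Agent.Helper27.Sv

open Polynomial IsLocalRing Groth.Agent.Helper27.Pi

universe u

section gen

variable (p : ℕ) (hp : p.Prime) (A K K₁ K₂ : Type u) [CommRing A] [IsDomain A] [Field K]
  [Algebra A K] [IsFractionRing A K]
  [Field K₁] [Field K₂] [Algebra K K₁] [Algebra K K₂] [Algebra K₁ K₂] [IsScalarTower K K₁ K₂]
  [FiniteDimensional K K₂]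
  (hdeg : Module.finrank K₁ K₂ = p)

include hp hdeg in
theorem exists_gen : ∃ α : K₂, α ∉ (algebraMap K₁ K₂).range ∧
    ((algebraMap K K₂).comp (algebraMap A K)).IsIntegralElem α := by
  have h1 : ∃ α₀ : K₂, α₀ ∉ (algebraMap K₁ K₂).range := by
    by_contra hcon
    push Not at hcon
    have hsurj : Function.Surjective (algebraMap K₁ K₂) := fun x => hcon x
    have h2 : Module.finrank K₁ K₂ = 1 := by
      have e : K₁ ≃ₗ[K₁] K₂ := LinearEquiv.ofBijective (Algebra.linearMap K₁ K₂)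
        ⟨(algebraMap K₁ K₂).injective, hsurj⟩
      rw [← e.finrank_eq, Module.finrank_self]
    rw [hdeg] at h2
    exact hp.one_lt.ne' h2
  obtain ⟨α₀, hα₀⟩ := h1
  letI : Algebra A K₂ := ((algebraMap K K₂).comp (algebraMap A K)).toAlgebra
  haveI : IsScalarTower A K K₂ := IsScalarTower.of_algebraMap_eq (fun _ => rfl)
  have halg : IsAlgebraic A α₀ :=
    (IsFractionRing.isAlgebraic_iff A K K₂).mpr (Algebra.IsAlgebraic.isAlgebraic α₀)
  obtain ⟨y, hy0, hy⟩ := halg.exists_integral_multiple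
  refine ⟨y • α₀, ?_, hy⟩
  rintro ⟨k, hk⟩
  apply hα₀
  have hyK : algebraMap A K₂ y = algebraMap K₁ K₂ (algebraMap K K₁ (algebraMap A K y)) := by
    rw [← IsScalarTower.algebraMap_apply K K₁ K₂]; rfl
  have hy1 : algebraMap K K₁ (algebraMap A K y) ≠ 0 := by
    rw [Ne, map_eq_zero_iff _ (algebraMap K K₁).injective,
      map_eq_zero_iff _ (IsFractionRing.injective A K)]
    exact hy0
  have hy2 : algebraMap K₁ K₂ (algebraMap K K₁ (algebraMap A K y)) ≠ 0 := by
    rw [Ne, map_eq_zero_iff _ (algebraMap K₁ K₂).injective]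
    exact hy1
  refine ⟨k / algebraMap K K₁ (algebraMap A K y), ?_⟩
  rw [map_div₀, hk, Algebra.smul_def, hyK, mul_div_cancel_left₀ _ hy2]

end gen

section basis

variable (p : ℕ) (hp : p.Prime) (K₁ K₂ : Type u) [Field K₁] [Field K₂] [Algebra K₁ K₂]
  (hdeg : Module.finrank K₁ K₂ = p) (α : K₂) (hα : α ∉ (algebraMap K₁ K₂).range)

include hp hdeg hα in
theorem natDegree_minpoly : (minpoly K₁ α).natDegree = p := by
  haveI : FiniteDimensional K₁ K₂ := Module.finite_of_finrank_pos (by rw [hdeg]; exact hp.pos)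
  have hdvd : (minpoly K₁ α).natDegree ∣ p := by
    rw [← hdeg]; exact minpoly.degree_dvd (Algebra.IsIntegral.isIntegral α)
  rcases (Nat.dvd_prime hp).mp hdvd with h1 | h1
  · exact absurd (minpoly.natDegree_eq_one_iff.mp h1) hα
  · exact h1

include hp hdeg hα in
theorem exists_basis : ∃ b : Module.Basis (Fin p) K₁ K₂, ∀ i, b i = α ^ (i : ℕ) := by
  have hd := natDegree_minpoly p hp K₁ K₂ hdeg α hα
  subst hd
  haveI : FiniteDimensional K₁ K₂ := Module.finite_of_finrank_pos (by rw [hdeg]; exact hp.pos)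
  haveI : Nonempty (Fin (minpoly K₁ α).natDegree) := ⟨⟨0, hp.pos⟩⟩
  refine ⟨basisOfLinearIndependentOfCardEqFinrank (linearIndependent_pow α)
    (by rw [Fintype.card_fin, hdeg]), fun i => by simp⟩

theorem hrep_of_basis (b : Module.Basis (Fin p) K₁ K₂) (hb : ∀ i, b i = α ^ (i : ℕ)) (s : K₂) :
    ∃ d : ℕ → K₁, s = ∑ j ∈ Finset.range p, algebraMap K₁ K₂ (d j) * α ^ j := by
  refine ⟨fun j => if h : j < p then b.repr s ⟨j, h⟩ else 0, ?_⟩
  rw [Finset.sum_range]
  conv_lhs => rw [← b.sum_repr s]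
  apply Finset.sum_congr rfl
  intro i _
  simp only [Fin.is_lt, ↓reduceDIte, Fin.eta]
  rw [Algebra.smul_def, hb]

end basis

section K3

variable (p : ℕ) [hp : Fact p.Prime] (K₁ : Type u) [Field K₁] [CharP K₁ p] (ε a : K₁) (hε : ε ≠ 0)

theorem poly_monic : (X ^ p - (C ε * X + C a) : K₁[X]).Monic := by
  apply monic_X_pow_sub
  exact lt_of_le_of_lt degree_linear_le (by exact_mod_cast hp.out.one_lt)

theorem poly_natDegree : (X ^ p - (C ε * X + C a) : K₁[X]).natDegree = p := by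
  rw [natDegree_sub_eq_left_of_natDegree_lt, natDegree_X_pow]
  rw [natDegree_X_pow]
  exact lt_of_le_of_lt natDegree_linear_le hp.out.one_lt

include hε in
theorem poly_separable : (X ^ p - (C ε * X + C a) : K₁[X]).Separable := by
  rw [separable_def]
  have hder : derivative (X ^ p - (C ε * X + C a) : K₁[X]) = - C ε := by
    rw [derivative_sub, derivative_X_pow, derivative_add, derivative_mul, derivative_C,
      derivative_C, derivative_X, CharP.cast_eq_zero K₁ p]
    simp
  rw [hder]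
  refine ⟨0, - C ε⁻¹, ?_⟩
  rw [zero_mul, zero_add, neg_mul_neg, ← C_mul, inv_mul_cancel₀ hε, C_1]

include hε in
theorem exists_K3 : ∃ g : K₁[X], ∃ _ : Fact (Irreducible g),
    FiniteDimensional K₁ (AdjoinRoot g) ∧ Algebra.IsSeparable K₁ (AdjoinRoot g) ∧
    (AdjoinRoot.root g) ^ p = algebraMap K₁ (AdjoinRoot g) ε * AdjoinRoot.root g +
      algebraMap K₁ (AdjoinRoot g) a ∧
    ∀ s : AdjoinRoot g, ∃ d : ℕ → K₁,
      s = ∑ j ∈ Finset.range p, algebraMap K₁ (AdjoinRoot g) (d j) * (AdjoinRoot.root g) ^ j := by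
  set f : K₁[X] := X ^ p - (C ε * X + C a) with hf
  have hfm : f.Monic := poly_monic p K₁ ε a
  have hfd : f.natDegree = p := poly_natDegree p K₁ ε a
  have hfs : f.Separable := poly_separable p K₁ ε a hε
  have hfnu : ¬ IsUnit f := by
    apply not_isUnit_of_natDegree_pos
    rw [hfd]; exact hp.out.pos
  obtain ⟨g, hgirr, hgdvd⟩ := WfDvdMonoid.exists_irreducible_factor hfnu hfm.ne_zero
  haveI hfact : Fact (Irreducible g) := ⟨hgirr⟩
  have hroot : aeval (AdjoinRoot.root g) f = 0 := by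
    rw [AdjoinRoot.aeval_eq, AdjoinRoot.mk_eq_zero]
    exact hgdvd
  have hfin : FiniteDimensional K₁ (AdjoinRoot g) :=
    (AdjoinRoot.powerBasis hgirr.ne_zero).finite
  refine ⟨g, hfact, hfin, ?_, ?_, ?_⟩
  · -- separable
    have h1 : IsSeparable K₁ (AdjoinRoot.root g) := by
      show (minpoly K₁ (AdjoinRoot.root g)).Separable
      exact hfs.of_dvd (minpoly.dvd K₁ _ hroot)
    have h2 := (IntermediateField.isSeparable_adjoin_simple_iff_isSeparable K₁ (AdjoinRoot g)).mpr h1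
    rw [IntermediateField.adjoin_root_eq_top] at h2
    exact (IntermediateField.isSeparable_top K₁ (AdjoinRoot g)).mp h2
  · have h1 := hroot
    rw [hf, map_sub, map_add, map_mul, map_pow, aeval_X, aeval_C, aeval_C, sub_eq_zero] at h1
    exact h1
  · intro s
    have hmem : s ∈ IntermediateField.adjoin K₁ {AdjoinRoot.root g} := by
      rw [IntermediateField.adjoin_root_eq_top]; trivial
    obtain ⟨c, hc⟩ := exists_repr_of_mem_adjoin K₁ (AdjoinRoot g) (AdjoinRoot.root g) f hfm hroot s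
      hmem
    rw [hfd] at hc
    exact ⟨c, hc⟩

end K3

section main

theorem main7151 (p : ℕ) (hp : p.Prime) (A B K L : Type u)
    [CommRing A] [IsDomain A] [IsDiscreteValuationRing A] [CommRing B] [IsDomain B]
    [IsDiscreteValuationRing B]
    [Algebra A B] (hinj : Function.Injective (algebraMap A B)) [IsLocalHom (algebraMap A B)]
    [Field K] [Field L] [Algebra A K] [IsFractionRing A K] [Algebra B L] [IsFractionRing B L]
    [Algebra K L] [Algebra A L] [IsScalarTower A K L] [IsScalarTower A B L] [CharP K p]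
    [Algebra.IsGeometricallyReduced K L] (hB : CAlg.IsNagata B)
    (K₁ K₂ : Type u) [Field K₁] [Field K₂] [Algebra K K₁] [Algebra K K₂] [Algebra K₁ K₂]
    [IsScalarTower K K₁ K₂]
    [FiniteDimensional K K₁] [FiniteDimensional K₁ K₂] (hsol : EtRam.IsSolution B K L K₂)
    [IsPurelyInseparable K₁ K₂] (hdeg : Module.finrank K₁ K₂ = p) :
    ∃ (K₃ : Type u) (_ : Field K₃) (_ : Algebra K K₃) (_ : Algebra K₁ K₃)
      (_ : IsScalarTower K K₁ K₃),
      FiniteDimensional K₁ K₃ ∧ Algebra.IsSeparable K₁ K₃ ∧ EtRam.IsSolution B K L K₃ := by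
  haveI : Fact p.Prime := ⟨hp⟩
  haveI : FiniteDimensional K K₂ := FiniteDimensional.trans K K₁ K₂
  haveI : CharP K₁ p := charP_of_injective_algebraMap (algebraMap K K₁).injective p
  obtain ⟨α, hαr, hαint⟩ := exists_gen p hp A K K₁ K₂ hdeg
  obtain ⟨b, hb⟩ := exists_basis p hp K₁ K₂ hdeg α hαr
  have hrep := hrep_of_basis p K₁ K₂ α b hb
  have hpow : ∀ y : K₂, ∃ d : K₁, y ^ p = algebraMap K₁ K₂ d :=
    fun y => pow_mem_range p hp K₁ K₂ hdeg y
  obtain ⟨π, hπ⟩ := IsDiscreteValuationRing.exists_irreducible A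
  set q : B := algebraMap A B π with hq
  have hq0 : q ≠ 0 := fun h => hπ.ne_zero (hinj (by rw [← hq, h, map_zero]))
  have hqm : q ∈ maximalIdeal B := map_nonunit (algebraMap A B) π
    (by rw [mem_maximalIdeal, mem_nonunits_iff]; exact hπ.not_isUnit)
  set qK : K := algebraMap A K π with hqKdef
  have hqK : algebraMap K L qK = algebraMap B L q := by
    rw [hqKdef, hq, ← IsScalarTower.algebraMap_apply A K L, IsScalarTower.algebraMap_apply A B L]
  obtain ⟨N₁, hU⟩ := thmU p B K L K₁ K₂ hB α b hb hpow hrep q hq0 hqm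
  obtain ⟨a, ha⟩ := hpow α
  have hqK0 : algebraMap K K₁ qK ≠ 0 := by
    rw [Ne, map_eq_zero_iff _ (algebraMap K K₁).injective, hqKdef,
      map_eq_zero_iff _ (IsFractionRing.injective A K)]
    exact hπ.ne_zero
  have hε : (algebraMap K K₁ qK) ^ (p * (N₁ + 1) + 1) ≠ 0 := pow_ne_zero _ hqK0
  obtain ⟨g, hfact, hfin, hsep, hθ, r₃⟩ :=
    exists_K3 p K₁ (algebraMap K K₁ qK ^ (p * (N₁ + 1) + 1)) a hε
  refine ⟨AdjoinRoot g, inferInstance, inferInstance, inferInstance, inferInstance, hfin, hsep, ?_⟩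
  haveI : Algebra.IsAlgebraic K (AdjoinRoot g) := by
    haveI : FiniteDimensional K (AdjoinRoot g) := FiniteDimensional.trans K K₁ _
    infer_instance
  refine place_step p B K L K₁ K₂ (AdjoinRoot g) α b hb hpow hrep q hq0 hqm qK hqK N₁
    (p * (N₁ + 1) + 1) (Nat.lt_succ_self _) hU a ha ?_ (AdjoinRoot.root g) hθ r₃ hsol
  obtain ⟨P₀, hP₀m, hP₀⟩ := hαint
  refine ⟨P₀.map (algebraMap A B), hP₀m.map _, ?_⟩
  intro Ω _ _ _ _ ψ
  rw [Polynomial.eval₂_map]
  have h1 : ((algebraMap L Ω).comp (algebraMap B L)).comp (algebraMap A B) =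
      (ψ : K₂ →+* Ω).comp ((algebraMap K K₂).comp (algebraMap A K)) := by
    ext x
    simp only [RingHom.comp_apply]
    rw [← IsScalarTower.algebraMap_apply A B L, IsScalarTower.algebraMap_apply A K L,
      ← IsScalarTower.algebraMap_apply K L Ω]
    exact (ψ.commutes _).symm
  rw [h1]
  have h2 := Polynomial.hom_eval₂ P₀ ((algebraMap K K₂).comp (algebraMap A K)) (ψ : K₂ →+* Ω) α
  rw [hP₀, map_zero] at h2
  exact h2.symm

end main

end Groth.Agent.Helper27.Sv
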