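import Mathlib
import Groth.Agent.Lib.Helper27.SvI

/-! S1986: from a solution to a separable solution, by induction on the inseparable degree. -/

set_option autoImplicit false

namespace Groth.Agent.Helper27.Sv

open Polynomial IsLocalRing Groth.Agent.Helper27.Pi TensorProduct

universe u

theorem geomRed_of_isSeparable (K L : Type u) [Field K] [Field L] [Algebra K L]
    [Algebra.IsSeparable K L] : Algebra.IsGeometricallyReduced K L := by
  haveI : Algebra.IsAlgebraic K L := Algebra.IsSeparable.isAlgebraic K L
  apply Algebra.IsGeometricallyReduced.of_forall_fg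
  intro B hB
  have hBf : IsField B := Subalgebra.isField_of_algebraic B
  letI := hBf.toField
  haveI : Algebra.IsSeparable K B :=
    Subalgebra.isSeparable_iff.mpr (fun x _ => Algebra.IsSeparable.isSeparable K x)
  haveI : Algebra.FormallyUnramified K B := Algebra.FormallyUnramified.of_isSeparable K B
  haveI : Algebra.FiniteType K B := ⟨(Subalgebra.fg_top B).mpr hB⟩
  rw [Algebra.isGeometricallyReduced_field_iff]
  exact Algebra.FormallyUnramified.isReduced_of_field (AlgebraicClosure K) _

section index

variable (K K₂ : Type u) [Field K] [Field K₂] [Algebra K K₂] [FiniteDimensional K K₂]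
  (p : ℕ) [hp : Fact p.Prime] [CharP K p]

theorem exists_index_p (hns : ¬ Algebra.IsSeparable K K₂) :
    ∃ K₁ : IntermediateField K K₂, IsPurelyInseparable K₁ K₂ ∧ Module.finrank K₁ K₂ = p := by
  classical
  set Ks := separableClosure K K₂ with hKs
  have hKstop : Ks ≠ ⊤ := fun h => hns ((separableClosure.eq_top_iff K K₂).mp h)
  -- a maximal proper intermediate field containing Ks
  let P : ℕ → Prop := fun n => ∃ F : IntermediateField K K₂, Ks ≤ F ∧ F ≠ ⊤ ∧
    Module.finrank K F = n
  have hP0 : P (Module.finrank K Ks) := ⟨Ks, le_rfl, hKstop, rfl⟩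
  have hbd : ∀ F : IntermediateField K K₂, Module.finrank K F ≤ Module.finrank K K₂ :=
    fun F => Submodule.finrank_le F.toSubalgebra.toSubmodule
  obtain ⟨F, hKsF, hFtop, hFn⟩ : P (Nat.findGreatest P (Module.finrank K K₂)) :=
    Nat.findGreatest_spec (P := P) (hbd Ks) hP0
  have hmax : ∀ F' : IntermediateField K K₂, F ≤ F' → F' ≠ ⊤ → F' = F := by
    intro F' hFF' hF'top
    have h1 : Module.finrank K F' ≤ Nat.findGreatest P (Module.finrank K K₂) :=
      Nat.le_findGreatest (hbd F') ⟨F', le_trans hKsF hFF', hF'top, rfl⟩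
    rw [← hFn] at h1
    exact (IntermediateField.eq_of_le_of_finrank_le hFF' h1).symm
  haveI : ExpChar K p := ExpChar.prime hp.out
  haveI : CharP F p := charP_of_injective_algebraMap (algebraMap K F).injective p
  haveI : ExpChar F p := ExpChar.prime hp.out
  have hpowKs : ∀ x : K₂, ∃ n : ℕ, x ^ p ^ n ∈ F := by
    intro x
    obtain ⟨n, y, hy⟩ := (isPurelyInseparable_iff_pow_mem Ks p).mp inferInstance x
    exact ⟨n, hy ▸ hKsF y.2⟩
  haveI hpi : IsPurelyInseparable F K₂ := by
    rw [isPurelyInseparable_iff_pow_mem F p]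
    intro x
    obtain ⟨n, hn⟩ := hpowKs x
    exact ⟨n, ⟨⟨_, hn⟩, rfl⟩⟩
  refine ⟨F, hpi, ?_⟩
  -- an element outside F
  obtain ⟨x, hx⟩ : ∃ x : K₂, x ∉ F := by
    by_contra hcon
    push Not at hcon
    exact hFtop (eq_top_iff.mpr (fun x _ => hcon x))
  have hn0 : Nat.find (hpowKs x) ≠ 0 := by
    intro h0
    have := Nat.find_spec (hpowKs x)
    rw [h0, pow_zero, pow_one] at this
    exact hx this
  obtain ⟨n', hn'⟩ : ∃ n', Nat.find (hpowKs x) = n' + 1 := ⟨_, (Nat.succ_pred_eq_of_ne_zero hn0).symm⟩
  set y : K₂ := x ^ p ^ n' with hy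
  have hyF : y ∉ F := Nat.find_min (hpowKs x) (m := n') (by omega)
  have hypF : y ^ p ∈ F := by
    have := Nat.find_spec (hpowKs x)
    rw [hn', pow_succ, pow_mul] at this
    exact this
  -- F(y) = ⊤
  have htop : IntermediateField.adjoin F {y} = ⊤ := by
    apply IntermediateField.restrictScalars_injective K
    rw [IntermediateField.restrictScalars_top]
    by_contra hne
    have hle : F ≤ (IntermediateField.adjoin F {y}).restrictScalars K := by
      intro z hz
      exact (IntermediateField.adjoin F {y}).algebraMap_mem ⟨z, hz⟩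
    have := hmax _ hle hne
    apply hyF
    rw [← this]
    exact IntermediateField.mem_adjoin_simple_self F y
  have hint : IsIntegral F y := Algebra.IsIntegral.isIntegral y
  have hfr : Module.finrank F K₂ = (minpoly F y).natDegree := by
    rw [← IntermediateField.adjoin.finrank hint, htop, IntermediateField.finrank_top']
  rw [hfr]
  obtain ⟨n, c, hmin⟩ := IsPurelyInseparable.minpoly_eq_X_pow_sub_C F p y
  have hnd : (minpoly F y).natDegree = p ^ n := by
    rw [hmin, natDegree_sub_C, natDegree_X_pow]
  have hdvd : minpoly F y ∣ X ^ p - C (⟨y ^ p, hypF⟩ : F) := by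
    apply minpoly.dvd
    rw [map_sub, map_pow, aeval_X, aeval_C]
    exact sub_self _
  have hle : p ^ n ≤ p := by
    rw [← hnd]
    have h1 := natDegree_le_of_dvd hdvd (X_pow_sub_C_ne_zero hp.out.pos _)
    rwa [natDegree_sub_C, natDegree_X_pow] at h1
  rw [hnd]
  rcases Nat.eq_zero_or_pos n with h0 | hpos
  · exfalso
    rw [h0, pow_zero] at hnd
    have := minpoly.natDegree_eq_one_iff.mp hnd
    obtain ⟨z, hz⟩ := this
    exact hyF (hz ▸ z.2)
  · have h1 : n = 1 := by
      by_contra hne
      have h2 : 2 ≤ n := by omega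
      have h3 : p ^ 2 ≤ p ^ n := Nat.pow_le_pow_right hp.out.pos h2
      have h4 : p < p ^ 2 := by
        have := hp.out.one_lt
        nlinarith
      omega
    rw [h1, pow_one]

end index

section main

theorem main1986_charp (p : ℕ) [hp : Fact p.Prime] (A B K L : Type u)
    [CommRing A] [IsDomain A] [IsDiscreteValuationRing A] [CommRing B] [IsDomain B]
    [IsDiscreteValuationRing B]
    [Algebra A B] (hinj : Function.Injective (algebraMap A B)) [IsLocalHom (algebraMap A B)]
    [Field K] [Field L] [Algebra A K] [IsFractionRing A K] [Algebra B L] [IsFractionRing B L]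
    [Algebra K L] [Algebra A L] [IsScalarTower A K L] [IsScalarTower A B L] [CharP K p]
    [Algebra.IsGeometricallyReduced K L] (hB : CAlg.IsNagata B) : ∀ m : ℕ, ∀ (K₂ : Type u) [Field K₂] [Algebra K K₂] [FiniteDimensional K K₂],
    Field.finInsepDegree K K₂ = m → EtRam.IsSolution B K L K₂ →
    ∃ (K₃ : Type u) (_ : Field K₃) (_ : Algebra K K₃) (_ : FiniteDimensional K K₃)
      (_ : Algebra.IsSeparable K K₃), EtRam.IsSolution B K L K₃ := by
  intro m
  induction m using Nat.strong_induction_on with
  | _ m ih =>
    intro K₂ _ _ _ hm hsol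
    by_cases hsep : Algebra.IsSeparable K K₂
    · exact ⟨K₂, inferInstance, inferInstance, inferInstance, hsep, hsol⟩
    · obtain ⟨K₁, hpi, hdeg⟩ := exists_index_p K K₂ p hsep
      obtain ⟨K₃, iF, iA, iA₁, iT, hfin, hsep₃, hsol₃⟩ :=
        main7151 p hp.out A B K L hinj hB K₁ K₂ hsol hdeg
      haveI : FiniteDimensional K K₃ := FiniteDimensional.trans K K₁ K₃
      have h1 : Field.finInsepDegree K K₁ * Field.finInsepDegree K₁ K₂ =
          Field.finInsepDegree K K₂ := Field.finInsepDegree_mul_finInsepDegree_of_isAlgebraic K K₁ K₂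
      have h2 : Field.finInsepDegree K K₁ * Field.finInsepDegree K₁ K₃ =
          Field.finInsepDegree K K₃ := Field.finInsepDegree_mul_finInsepDegree_of_isAlgebraic K K₁ K₃
      rw [IsPurelyInseparable.finInsepDegree_eq K₁ K₂, hdeg, hm] at h1
      rw [Algebra.IsSeparable.finInsepDegree_eq K₁ K₃, mul_one] at h2
      have hmpos : 0 < m := by
        rw [← hm]
        exact Module.finrank_pos
      have hlt : Field.finInsepDegree K K₃ < m := by
        rw [← h2, ← h1]
        have h3 : 0 < Field.finInsepDegree K K₁ := by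
          rcases Nat.eq_zero_or_pos (Field.finInsepDegree K K₁) with h0 | h0
          · rw [h0, zero_mul] at h1; omega
          · exact h0
        have := hp.out.one_lt
        nlinarith
      exact ih _ hlt K₃ rfl hsol₃

end main

theorem main1986 (A B K L : Type u) [CommRing A] [IsDomain A] [IsDiscreteValuationRing A]
    [CommRing B] [IsDomain B] [IsDiscreteValuationRing B] [Algebra A B]
    [IsLocalHom (algebraMap A B)]
    (hinj : Function.Injective (algebraMap A B))
    [Field K] [Field L] [Algebra A K] [IsFractionRing A K] [Algebra B L] [IsFractionRing B L]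
    [Algebra K L] [Algebra A L] [IsScalarTower A K L] [IsScalarTower A B L]
    [Algebra.IsSeparable K L] (hB : CAlg.IsNagata B)
    (K₂ : Type u) [Field K₂] [Algebra K K₂] [FiniteDimensional K K₂]
    (h₂ : EtRam.IsSolution B K L K₂) :
    ∃ (K₃ : Type u) (_ : Field K₃) (_ : Algebra K K₃) (_ : FiniteDimensional K K₃)
      (_ : Algebra.IsSeparable K K₃), EtRam.IsSolution B K L K₃ := by
  haveI : Algebra.IsGeometricallyReduced K L := geomRed_of_isSeparable K L
  obtain ⟨q, hq⟩ := ExpChar.exists K
  cases hq with
  | zero => exact ⟨K₂, inferInstance, inferInstance, inferInstance, inferInstance, h₂⟩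
  | prime hq' =>
    haveI : Fact q.Prime := ⟨hq'⟩
    exact main1986_charp q A B K L hinj hB _ K₂ rfl h₂

end Groth.Agent.Helper27.Sv
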