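import Mathlib
import Groth.Agent.Lib.Helper27.FrobB
import Groth.Agent.Lib.Helper16.FFW.Zeros
import Groth.Agent.Lib.Helper16.FFW.Approx

set_option autoImplicit false

namespace Groth.Agent.Helper27.Sx

open FunFld IntermediateField TensorProduct Groth.Agent.Helper16.FFW
open scoped WithZero

universe u v

section
variable {k kb : Type u} {K Kb : Type v} [Field k] [Field kb] [Field K] [Field Kb]
  [Algebra k kb] [Algebra k K] [Algebra K Kb] [Algebra kb Kb] [Algebra k Kb]
  [IsScalarTower k kb Kb] [IsScalarTower k K Kb]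

theorem hc_of_tower (c : k) :
    algebraMap K Kb (algebraMap k K c) = algebraMap kb Kb (algebraMap k kb c) := by
  rw [← IsScalarTower.algebraMap_apply, ← IsScalarTower.algebraMap_apply]

theorem hgen_of_surj
    (h : Function.Surjective (Algebra.TensorProduct.productMap
      (IsScalarTower.toAlgHom k kb Kb) (IsScalarTower.toAlgHom k K Kb))) :
    Algebra.adjoin K (Set.range (algebraMap kb Kb)) = ⊤ := by
  rw [eq_top_iff]
  rintro z -
  obtain ⟨t, rfl⟩ := h z
  induction t using TensorProduct.induction_on with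
  | zero => rw [map_zero]; exact Subalgebra.zero_mem _
  | tmul c a =>
    rw [Algebra.TensorProduct.productMap_apply_tmul]
    refine Subalgebra.mul_mem _ (Algebra.subset_adjoin ⟨c, rfl⟩) ?_
    exact Subalgebra.algebraMap_mem _ a
  | add t₁ t₂ h₁ h₂ => rw [map_add]; exact Subalgebra.add_mem _ h₁ h₂

theorem transcendental_algExt [Algebra.IsAlgebraic k kb] {x : K} (hx : Transcendental k x) :
    Transcendental kb (algebraMap K Kb x) := by
  intro halg
  have h1 : IsAlgebraic k (algebraMap K Kb x) := halg.restrictScalars k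
  exact hx ((isAlgebraic_algebraMap_iff (algebraMap K Kb).injective).1 h1)

theorem finite_algExt
    (h : Function.Surjective (Algebra.TensorProduct.productMap
      (IsScalarTower.toAlgHom k kb Kb) (IsScalarTower.toAlgHom k K Kb)))
    (hK : IsFunctionField k K) {x : K} (hx : Transcendental k x) :
    FiniteDimensional (adjoin kb ({algebraMap K Kb x} : Set Kb)) Kb := by
  haveI := finite_of_transcendental hK.1 hx
  set x' := algebraMap K Kb x with hx'
  set F := adjoin kb ({x'} : Set Kb) with hF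
  let b := Module.finBasis (adjoin k ({x} : Set K)) K
  have hmap : ∀ r : adjoin k ({x} : Set K), algebraMap K Kb (r : K) ∈ F := by
    intro r
    have h1 : (adjoin k ({x} : Set K)).map (IsScalarTower.toAlgHom k K Kb) =
        adjoin k ({x'} : Set Kb) := by
      rw [IntermediateField.adjoin_map, Set.image_singleton]; rfl
    have h2 : algebraMap K Kb (r : K) ∈ adjoin k ({x'} : Set Kb) := by
      rw [← h1]; exact ⟨r, r.2, rfl⟩
    have hle : adjoin k ({x'} : Set Kb) ≤ (adjoin kb ({x'} : Set Kb)).restrictScalars k := by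
      rw [adjoin_le_iff]; rintro _ rfl; exact mem_adjoin_simple_self kb x'
    exact hle h2
  have htop : Submodule.span F (Set.range fun i => algebraMap K Kb (b i)) = ⊤ := by
    rw [eq_top_iff]
    rintro z -
    obtain ⟨t, rfl⟩ := h z
    induction t using TensorProduct.induction_on with
    | zero => rw [map_zero]; exact Submodule.zero_mem _
    | tmul c a =>
      rw [Algebra.TensorProduct.productMap_apply_tmul]
      have ha : algebraMap K Kb a ∈
          Submodule.span F (Set.range fun i => algebraMap K Kb (b i)) := by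
        rw [← b.sum_repr a, map_sum]
        refine Submodule.sum_mem _ fun i _ => ?_
        rw [Algebra.smul_def, map_mul]
        have : algebraMap K Kb (algebraMap (adjoin k ({x} : Set K)) K (b.repr a i)) *
            algebraMap K Kb (b i) =
            (⟨_, hmap (b.repr a i)⟩ : F) • algebraMap K Kb (b i) := rfl
        rw [this]
        exact Submodule.smul_mem _ _ (Submodule.subset_span ⟨i, rfl⟩)
      have hc : algebraMap kb Kb c ∈ F := F.algebraMap_mem c
      have : (IsScalarTower.toAlgHom k kb Kb) c * (IsScalarTower.toAlgHom k K Kb) a =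
          (⟨_, hc⟩ : F) • algebraMap K Kb a := rfl
      rw [this]
      exact Submodule.smul_mem _ _ ha
    | add t₁ t₂ h₁ h₂ => rw [map_add]; exact Submodule.add_mem _ h₁ h₂
  exact Module.finite_def.2 (htop ▸ Submodule.fg_span (Set.finite_range _))

theorem isFunctionField_algClosure [Algebra.IsAlgebraic k kb] [IsAlgClosed kb]
    (h : Function.Surjective (Algebra.TensorProduct.productMap
      (IsScalarTower.toAlgHom k kb Kb) (IsScalarTower.toAlgHom k K Kb)))
    (hK : IsFunctionField k K) : IsFunctionField kb Kb := by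
  obtain ⟨x, hx, -⟩ := hK.1
  refine ⟨⟨algebraMap K Kb x, transcendental_algExt hx, finite_algExt h hK hx⟩, ?_⟩
  intro y hy
  have hint : IsIntegral kb y := hy.isIntegral
  have hdeg := IsAlgClosed.degree_eq_one_of_irreducible kb (minpoly.irreducible hint)
  exact minpoly.mem_range_of_degree_eq_one kb _ hdeg

/-- every element of `Kb` lies in `k'K` for a finite subextension `k'` -/
theorem exists_finite_mem [Algebra.IsAlgebraic k kb]
    (h : Function.Surjective (Algebra.TensorProduct.productMap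
      (IsScalarTower.toAlgHom k kb Kb) (IsScalarTower.toAlgHom k K Kb))) (z : Kb) :
    ∃ k' : IntermediateField k kb, FiniteDimensional k k' ∧
      z ∈ Algebra.adjoin K (Set.range fun c : k' => algebraMap kb Kb c) := by
  obtain ⟨t, rfl⟩ := h z
  induction t using TensorProduct.induction_on with
  | zero => exact ⟨⊥, inferInstance, by rw [map_zero]; exact Subalgebra.zero_mem _⟩
  | tmul c a =>
    refine ⟨k⟮c⟯, IntermediateField.adjoin.finiteDimensional
      (Algebra.IsAlgebraic.isAlgebraic c).isIntegral, ?_⟩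
    rw [Algebra.TensorProduct.productMap_apply_tmul]
    refine Subalgebra.mul_mem _ (Algebra.subset_adjoin ⟨⟨c, mem_adjoin_simple_self k c⟩, rfl⟩) ?_
    exact Subalgebra.algebraMap_mem _ a
  | add t₁ t₂ h₁ h₂ =>
    obtain ⟨k₁, hf₁, hk₁⟩ := h₁
    obtain ⟨k₂, hf₂, hk₂⟩ := h₂
    refine ⟨k₁ ⊔ k₂, IntermediateField.finiteDimensional_sup k₁ k₂, ?_⟩
    rw [map_add]
    refine Subalgebra.add_mem _ ?_ ?_
    · refine Algebra.adjoin_mono ?_ hk₁
      rintro _ ⟨c, rfl⟩
      exact ⟨⟨c.1, (le_sup_left : k₁ ≤ k₁ ⊔ k₂) c.2⟩, rfl⟩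
    · refine Algebra.adjoin_mono ?_ hk₂
      rintro _ ⟨c, rfl⟩
      exact ⟨⟨c.1, (le_sup_right : k₂ ≤ k₁ ⊔ k₂) c.2⟩, rfl⟩

theorem main12593 [IsAlgClosure k kb]
    (h : Function.Bijective (Algebra.TensorProduct.productMap
      (IsScalarTower.toAlgHom k kb Kb) (IsScalarTower.toAlgHom k K Kb)))
    (hK : FunFld.IsFunctionField k K) (Q : FunFld.Place kb Kb) :
    ∃ k' : IntermediateField k kb, FiniteDimensional k k' ∧
      (∃ z ∈ Algebra.adjoin K (Set.range fun c : k' => algebraMap kb Kb c),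
        Q.1 z = WithZero.exp (-1)) ∧
      ∀ Q' : FunFld.Place kb Kb,
        (∃ e : ℕ, ∀ z ∈ Algebra.adjoin K (Set.range fun c : k' => algebraMap kb Kb c),
          Q'.1 z = Q.1 z ^ e) → Q' = Q := by
  classical
  haveI : Algebra.IsAlgebraic k kb := IsAlgClosure.isAlgebraic
  haveI : IsAlgClosed kb := IsAlgClosure.isAlgClosed k
  have hKb : IsFunctionField kb Kb := isFunctionField_algClosure h.2 hK
  obtain ⟨P, hP1, hP2⟩ := Frob.exists_below hK (hc_of_tower (k := k) (kb := kb) (K := K) (Kb := Kb))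
    (hgen_of_surj h.2) Q
  obtain ⟨x₀, hx₀⟩ := P.2.2 (WithZero.exp (-1 : ℤ))
  have hx₀0 : x₀ ≠ 0 := by
    rintro rfl; rw [map_zero] at hx₀; exact WithZero.exp_ne_zero.symm hx₀
  have hx₀lt : P.1 x₀ < 1 := by
    rw [hx₀, ← WithZero.exp_zero, WithZero.exp_lt_exp]; omega
  have hx₀tr : Transcendental k x₀ :=
    Place.transcendental_of_val_ne_one hK.1 P hx₀0 hx₀lt.ne
  have hx₀tr' : Transcendental kb (algebraMap K Kb x₀) := transcendental_algExt hx₀tr
  have hSfin : {Q' : Place kb Kb | Q'.1 (algebraMap K Kb x₀) < 1}.Finite :=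
    finite_zeros hKb.1 hx₀tr'
  obtain ⟨S, hSdef⟩ : ∃ S : Finset (Place kb Kb), S = hSfin.toFinset := ⟨_, rfl⟩
  have hS : ∀ Q', Q' ∈ S ↔ Q'.1 (algebraMap K Kb x₀) < 1 := fun Q' => by
    rw [hSdef, Set.Finite.mem_toFinset]; rfl
  have hQS : Q ∈ S := (hS Q).2 ((hP2 x₀).1 hx₀lt)
  obtain ⟨t, ht⟩ := Q.2.2 (WithZero.exp (-1 : ℤ))
  obtain ⟨z, hz⟩ := weak_approx (fun i : ↥S => i.1) Subtype.val_injective
    (fun i => if i.1 = Q then t else 1) (fun i => if i.1 = Q then -2 else -1)
  have hzQ : Q.1 z = WithZero.exp (-1 : ℤ) := by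
    have h1 := hz ⟨Q, hQS⟩
    simp only [if_true] at h1
    have h2 : Q.1 (z - t) < Q.1 t := by
      rw [ht]
      refine lt_of_le_of_lt h1 ?_
      rw [WithZero.exp_lt_exp]; omega
    have : z = (z - t) + t := by ring
    rw [this, Valuation.map_add_eq_of_lt_right _ h2, ht]
  have hzQ' : ∀ Q' ∈ S, Q' ≠ Q → Q'.1 z = 1 := by
    intro Q' hQ' hne
    have h1 := hz ⟨Q', hQ'⟩
    simp only [if_neg hne] at h1
    have h2 : Q'.1 (z - 1) < Q'.1 1 := by
      rw [map_one]
      refine lt_of_le_of_lt h1 ?_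
      rw [← WithZero.exp_zero, WithZero.exp_lt_exp]; omega
    have : z = (z - 1) + 1 := by ring
    rw [this, Valuation.map_add_eq_of_lt_right _ h2, map_one]
  obtain ⟨k', hfd, hzk'⟩ := exists_finite_mem h.2 z
  refine ⟨k', hfd, ⟨z, hzk', hzQ⟩, ?_⟩
  rintro Q' ⟨e, he⟩
  have he0 : e ≠ 0 := by
    rintro rfl
    have := he 0 (Subalgebra.zero_mem _)
    rw [map_zero, pow_zero] at this
    exact zero_ne_one this
  have hQ'S : Q' ∈ S := by
    rw [hS, he _ (Subalgebra.algebraMap_mem _ x₀)]
    exact pow_lt_one' ((hP2 x₀).1 hx₀lt) he0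
  by_contra hne
  have h1 := hzQ' Q' hQ'S hne
  rw [he z hzk', hzQ] at h1
  have h2 : (WithZero.exp (-1 : ℤ) : ℤᵐ⁰) ^ e < 1 := by
    apply pow_lt_one' _ he0
    rw [← WithZero.exp_zero, WithZero.exp_lt_exp]; omega
  rw [h1] at h2
  exact lt_irrefl _ h2

end

end Groth.Agent.Helper27.Sx
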