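import Mathlib
import Groth.Agent.Lib.Helper27.TrnA
import Groth.Agent.Lib.Helper27.CfC
import Groth.Agent.Lib.Helper27.FFExtA
import Groth.Agent.Lib.Helper27.InrB
import Groth.Agent.Lib.Helper16.FF.GeomE

set_option autoImplicit false

namespace Groth.Agent.Helper27.Trn

open FunFld Groth.Agent.Helper16.FFW Polynomial
open scoped WithZero

universe u v

variable {k k' k'' : Type u} {K K' K'' : Type v} [Field k] [Field k'] [Field k''] [Field K]
  [Field K'] [Field K'']
  [Algebra k k'] [Algebra k' k''] [Algebra k k''] [IsScalarTower k k' k'']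
  [Algebra k K] [Algebra K K'] [Algebra k' K'] [Algebra k K'] [IsScalarTower k k' K']
  [IsScalarTower k K K']
  [Algebra K' K''] [Algebra k'' K''] [Algebra k' K''] [Algebra k K''] [Algebra K K'']
  [IsScalarTower k' k'' K''] [IsScalarTower k' K' K''] [IsScalarTower K K' K'']
  [IsScalarTower k K K'']

theorem main12534 [FiniteDimensional k k'] [FiniteDimensional k' k'']
    (h1 : Function.Bijective (Algebra.TensorProduct.productMap
      (IsScalarTower.toAlgHom k k' K') (IsScalarTower.toAlgHom k K K')))
    (h2 : Function.Bijective (Algebra.TensorProduct.productMap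
      (IsScalarTower.toAlgHom k' k'' K'') (IsScalarTower.toAlgHom k' K' K'')))
    (hK : IsFunctionField k K) (P : Place k K) :
    (integralClosure (P.O.toSubring.map (algebraMap K K'')) K'' =
        Algebra.adjoin (P.O.toSubring.map (algebraMap K K'')) (Set.range (algebraMap k'' K''))) ↔
      (integralClosure (P.O.toSubring.map (algebraMap K K')) K' =
          Algebra.adjoin (P.O.toSubring.map (algebraMap K K')) (Set.range (algebraMap k' K')) ∧
        ∀ Q : Place k K', IsOver Q P →
          integralClosure (Q.O.toSubring.map (algebraMap K' K'')) K'' =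
            Algebra.adjoin (Q.O.toSubring.map (algebraMap K' K''))
              (Set.range (algebraMap k'' K''))) := by
  classical
  haveI t1 : IsScalarTower k K' K'' := IsScalarTower.of_algebraMap_eq (fun c => by
    rw [IsScalarTower.algebraMap_apply k K K'', IsScalarTower.algebraMap_apply K K' K'',
      ← IsScalarTower.algebraMap_apply k K K'])
  haveI t2 : IsScalarTower k k' K'' := IsScalarTower.of_algebraMap_eq (fun c => by
    rw [IsScalarTower.algebraMap_apply k' K' K'', ← IsScalarTower.algebraMap_apply k k' K',
      ← IsScalarTower.algebraMap_apply k K' K''])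
  haveI t3 : IsScalarTower k k'' K'' := IsScalarTower.of_algebraMap_eq (fun c => by
    rw [IsScalarTower.algebraMap_apply k k' k'', ← IsScalarTower.algebraMap_apply k' k'' K'',
      ← IsScalarTower.algebraMap_apply k k' K''])
  haveI : FiniteDimensional k k'' := Module.Finite.trans k' k''
  haveI : FiniteDimensional K K' := Groth.Agent.Helper16.FF.finite_scalarExt h1
  haveI : FiniteDimensional K' K'' := Groth.Agent.Helper16.FF.finite_scalarExt h2
  haveI : FiniteDimensional K K'' := Module.Finite.trans K' K''
  have hK'w : IsWeakFF k K' := isWeakFF_of_finite hK.1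
  letI aP' : Algebra P.O K' := ((algebraMap K K').comp (algebraMap P.O K)).toAlgebra
  haveI : IsScalarTower P.O K K' := .of_algebraMap_eq (fun _ => rfl)
  letI aP'' : Algebra P.O K'' := ((algebraMap K K'').comp (algebraMap P.O K)).toAlgebra
  haveI : IsScalarTower P.O K K'' := .of_algebraMap_eq (fun _ => rfl)
  haveI : IsScalarTower P.O K' K'' := .of_algebraMap_eq (fun a => by
    show algebraMap K K'' (a : K) = algebraMap K' K'' (algebraMap K K' (a : K))
    exact IsScalarTower.algebraMap_apply K K' K'' _)
  rw [bridge P.O (Set.range (algebraMap k'' K'')), bridge P.O (Set.range (algebraMap k' K'))]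
  let b' := Module.finBasis k k'
  let b'' := Module.finBasis k' k''
  let B' := Cf.basisK h1 b'
  let B'' := Cf.basisK h2 b''
  let b := b'.smulTower b''
  let B := B'.smulTower B''
  have hB : ∀ ij, B ij = algebraMap k'' K'' (b ij) := by
    intro ij
    show (B'.smulTower B'') ij = algebraMap k'' K'' ((b'.smulTower b'') ij)
    rw [Module.Basis.smulTower_apply, Module.Basis.smulTower_apply, Algebra.smul_def,
      Algebra.smul_def, map_mul, Cf.basisK_apply, Cf.basisK_apply,
      ← IsScalarTower.algebraMap_apply k' k'' K'', ← IsScalarTower.algebraMap_apply k' K' K'']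
  have hC1 : ∀ z : K', z ∈ Algebra.adjoin P.O (Set.range (algebraMap k' K')) ↔
      ∀ i, P.1 (B'.repr z i) ≤ 1 := Cf.mem_adjoin_iff P h1 b'
  have hC3 : ∀ z : K'', z ∈ Algebra.adjoin P.O (Set.range (algebraMap k'' K'')) ↔
      ∀ ij, P.1 (B.repr z ij) ≤ 1 := mem_adjoin_iff' P b B hB
  have hrepr : ∀ (z : K'') (ij), B.repr z ij = B'.repr (B''.repr z ij.2) ij.1 := fun z ij =>
    Module.Basis.smulTower_repr B' B'' z ij
  -- places over `P` are integral-bounded
  have hintQ : ∀ (Q : Place k K') (y : K'), IsOver Q P → IsIntegral P.O y → Q.1 y ≤ 1 :=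
    fun Q y hQ hy => (Nrm.mem_S_iff P hK y).1 hy Q hQ
  constructor
  · intro hN''
    refine ⟨?_, ?_⟩
    · -- part (a)
      apply le_antisymm _ (Cf.adjoin_le_integralClosure P)
      intro z hz
      have hz'' : algebraMap K' K'' z ∈ integralClosure P.O K'' := IsIntegral.algebraMap hz
      rw [hN'', hC3] at hz''
      have h1one : ∀ j, B''.repr (algebraMap K' K'' z) j =
          z * algebraMap k' K' (b''.repr 1 j) := by
        intro j
        have : algebraMap K' K'' z = z • (algebraMap k'' K'' 1) := by
          rw [map_one, Algebra.smul_def, mul_one]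
        rw [this, map_smul, Finsupp.smul_apply, Cf.basisK_repr_algebraMap h2 b'' 1 j, smul_eq_mul]
      obtain ⟨j, hj⟩ : ∃ j, b''.repr 1 j ≠ 0 := by
        by_contra hcon
        push Not at hcon
        have : b''.repr 1 = 0 := Finsupp.ext hcon
        rw [map_eq_zero_iff _ b''.repr.injective] at this
        exact one_ne_zero this
      set c := b''.repr 1 j with hc
      have hw : z * algebraMap k' K' c ∈ Algebra.adjoin P.O (Set.range (algebraMap k' K')) := by
        rw [hC1]
        intro i
        have := hz'' (i, j)
        rw [hrepr, h1one] at this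
        exact this
      have : z = (z * algebraMap k' K' c) * algebraMap k' K' c⁻¹ := by
        rw [mul_assoc, ← map_mul, mul_inv_cancel₀ hj, map_one, mul_one]
      rw [this]
      exact Subalgebra.mul_mem _ hw (Algebra.subset_adjoin ⟨_, rfl⟩)
    · -- part (b)
      intro Q hQ
      obtain ⟨Q', rfl⟩ := RH.toK_surjective (k := k) (k' := k') Q
      show integralClosure (Q'.O.toSubring.map (algebraMap K' K'')) K'' =
        Algebra.adjoin (Q'.O.toSubring.map (algebraMap K' K'')) (Set.range (algebraMap k'' K''))
      letI : Algebra Q'.O K'' := ((algebraMap K' K'').comp (algebraMap Q'.O K')).toAlgebra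
      haveI : IsScalarTower Q'.O K' K'' := .of_algebraMap_eq (fun _ => rfl)
      rw [bridge Q'.O (Set.range (algebraMap k'' K''))]
      apply le_antisymm _ (Cf.adjoin_le_integralClosure Q')
      intro z hz
      have hzint : IsIntegral Q'.O z := hz
      -- bound for `z` at the places over `P`
      obtain ⟨hfin'', -⟩ := sum_ramIdx_mul_deg (K' := K'') hK P
      obtain ⟨M, hM⟩ := Finset.exists_le
        (hfin''.toFinset.image fun Q'' : Place k K'' => WithZero.log (Q''.1 z))
      have hM' : ∀ Q'' : Place k K'', IsOver Q'' P → Q''.1 z ≤ WithZero.exp (max M 0) := by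
        intro Q'' hQ''
        refine le_trans WithZero.le_exp_log (WithZero.exp_le_exp.2 ?_)
        exact le_trans (hM _ (Finset.mem_image_of_mem _ ((Set.Finite.mem_toFinset _).2 hQ'')))
          (le_max_left _ _)
      obtain ⟨hfin', -⟩ := sum_ramIdx_mul_deg (K' := K') hK P
      have hQmem : (RH.toK Q' : Place k K') ∈ hfin'.toFinset := (Set.Finite.mem_toFinset _).2 hQ
      obtain ⟨u, hu⟩ := weak_approx (fun i : ↥hfin'.toFinset => i.1) Subtype.val_injective
        (fun i => if i.1 = RH.toK Q' then 1 else 0)
        (fun i => if i.1 = RH.toK Q' then -1 else -(max M 0))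
      have huQ : Q'.1 u = 1 := by
        have := hu ⟨RH.toK Q', hQmem⟩
        simp only [if_true] at this
        have hlt : Q'.1 (u - 1) < Q'.1 1 := by
          rw [map_one]
          exact lt_one_iff_le_exp_neg_one.2 this
        rw [Valuation.map_eq_of_sub_lt _ hlt, map_one]
      have huQ1 : ∀ Q₁ : Place k K', IsOver Q₁ P → Q₁ ≠ RH.toK Q' →
          Q₁.1 u ≤ WithZero.exp (-(max M 0)) := by
        intro Q₁ hQ₁ hne
        have := hu ⟨Q₁, (Set.Finite.mem_toFinset _).2 hQ₁⟩
        simp only [if_neg hne, sub_zero] at this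
        exact this
      -- `u z` is integral over `O_P`
      have huz : IsIntegral P.O (algebraMap K' K'' u * z) := by
        rw [← mem_integralClosure_iff, Nrm.mem_S_iff P hK]
        intro Q'' hQ''
        obtain ⟨Q₁, e₂, he₂⟩ := exists_isOverWith (K := K') (K' := K'') hK'w Q''
        obtain ⟨P₁, e₁, he₁⟩ := exists_isOverWith (K := K) (K' := K') hK.1 Q₁
        have h3 := FFExt.isOverWith_trans he₂ he₁
        obtain ⟨e, he⟩ := hQ''
        have hPP : P₁ = P := (isOverWith_unique h3 he).1
        subst hPP
        have hQ₁P : IsOver Q₁ P₁ := ⟨e₁, he₁⟩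
        have he₂pos := isOverWith_pos he₂
        rw [map_mul, he₂ u]
        by_cases hQ₁ : Q₁ = RH.toK Q'
        · subst hQ₁
          have h1 : (RH.toK Q' : Place k K').1 u = 1 := huQ
          rw [h1, one_pow, one_mul]
          refine Ic.val_le_one_of_isIntegral Q''.1 (fun a => ?_) hzint
          show Q''.1 (algebraMap K' K'' (a : K')) ≤ 1
          rw [he₂]
          exact pow_le_one' ((Place.mem_O_iff Q' _).1 a.2) _
        · have h1 := huQ1 Q₁ hQ₁P hQ₁
          have h2 := hM' Q'' ⟨e, he⟩
          have h3 : Q₁.1 u ^ e₂ ≤ Q₁.1 u := by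
            have hle1 : Q₁.1 u ≤ 1 := h1.trans (by
              rw [← WithZero.exp_zero, WithZero.exp_le_exp]
              have := le_max_right M 0
              omega)
            calc Q₁.1 u ^ e₂ = Q₁.1 u ^ (e₂ - 1) * Q₁.1 u := by
                  rw [← pow_succ]; congr 1; omega
              _ ≤ 1 * Q₁.1 u := mul_le_mul_left (pow_le_one' hle1 _) _
              _ = _ := one_mul _
          calc Q₁.1 u ^ e₂ * Q''.1 z ≤ WithZero.exp (-(max M 0)) * WithZero.exp (max M 0) :=
                mul_le_mul' (h3.trans h1) h2
            _ = 1 := by rw [← WithZero.exp_add, neg_add_cancel, WithZero.exp_zero]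
      have huz' : algebraMap K' K'' u * z ∈ Algebra.adjoin P.O (Set.range (algebraMap k'' K'')) := by
        rw [← hN'']; exact huz
      rw [hC3] at huz'
      rw [Cf.mem_adjoin_iff Q' h2 b'' z]
      intro j
      have hyj : u * B''.repr z j ∈ Algebra.adjoin P.O (Set.range (algebraMap k' K')) := by
        rw [hC1]
        intro i
        have := huz' (i, j)
        rw [hrepr] at this
        have h4 : B''.repr (algebraMap K' K'' u * z) j = u * B''.repr z j := by
          rw [← Algebra.smul_def, map_smul, Finsupp.smul_apply, smul_eq_mul]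
        rw [h4] at this
        exact this
      have h5 : (RH.toK Q' : Place k K').1 (u * B''.repr z j) ≤ 1 :=
        hintQ _ _ hQ (Cf.adjoin_le_integralClosure P hyj)
      have h6 : Q'.1 (u * B''.repr z j) ≤ 1 := h5
      rw [map_mul, huQ, one_mul] at h6
      exact h6
  · rintro ⟨hN', hNQ⟩
    apply le_antisymm _ (Cf.adjoin_le_integralClosure P)
    intro z hz
    have hzint : IsIntegral P.O z := hz
    rw [hC3]
    rintro ⟨i, j⟩
    rw [hrepr]
    have hyj : B''.repr z j ∈ Algebra.adjoin P.O (Set.range (algebraMap k' K')) := by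
      rw [← hN', mem_integralClosure_iff, ← mem_integralClosure_iff, Nrm.mem_S_iff P hK]
      intro Q hQ
      have hQns := hNQ Q hQ
      obtain ⟨Q', rfl⟩ := RH.toK_surjective (k := k) (k' := k') Q
      have hQns' : integralClosure (Q'.O.toSubring.map (algebraMap K' K'')) K'' =
        Algebra.adjoin (Q'.O.toSubring.map (algebraMap K' K'')) (Set.range (algebraMap k'' K'')) :=
        hQns
      letI : Algebra Q'.O K'' := ((algebraMap K' K'').comp (algebraMap Q'.O K')).toAlgebra
      haveI : IsScalarTower Q'.O K' K'' := .of_algebraMap_eq (fun _ => rfl)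
      rw [bridge Q'.O (Set.range (algebraMap k'' K''))] at hQns'
      obtain ⟨e, he⟩ := hQ
      haveI : P.1.HasExtension Q'.1 := Inr.hasExtension_of_isOverWith he
      haveI : IsScalarTower P.O Q'.O K'' := .of_algebraMap_eq (fun a => by
        show algebraMap K K'' (a : K) = algebraMap K' K'' (algebraMap K K' (a : K))
        exact IsScalarTower.algebraMap_apply K K' K'' _)
      have hzQ : IsIntegral Q'.O z := hzint.tower_top
      have hzA : z ∈ Algebra.adjoin Q'.O (Set.range (algebraMap k'' K'')) := by
        rw [← hQns']; exact hzQ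
      rw [Cf.mem_adjoin_iff Q' h2 b'' z] at hzA
      exact hzA j
    exact (hC1 _).1 hyj i

end Groth.Agent.Helper27.Trn
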