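import Mathlib
import Groth.Agent.Lib.Helper27.ZtA
import Groth.Agent.Lib.Helper27.TrnB
import Groth.Agent.Lib.Helper16.FF.Riemann
import Groth.Agent.Lib.Helper16.FF.AutB
import Groth.Agent.Lib.Helper16.FF.GeomE
import Groth.Agent.Lib.Helper16.FFW.Ext4

set_option autoImplicit false

namespace Groth.Agent.Helper27.Sx

open FunFld TensorProduct Groth.Agent.Helper16.FF
open scoped WithZero

universe u v

variable {k k' : Type u} {K K' : Type v} [Field k] [Field k'] [Field K] [Field K']
  [Algebra k k'] [Algebra k K] [Algebra K K'] [Algebra k' K'] [Algebra k K']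
  [IsScalarTower k k' K'] [IsScalarTower k K K']

variable (k' K') in
/-- the conorm of a divisor under a constant field extension, as a divisor of `K'/k'` -/
noncomputable def cn (D : Divisor k K) : Divisor k' K' :=
  Finsupp.comapDomain (Zt.toK : Place k' K' → Place k K') (conorm K' D)
    (Zt.toK_injective.injOn)

theorem cn_apply [FiniteDimensional K K'] (hK : IsFunctionField k K) (D : Divisor k K)
    (Q : Place k' K') {P : Place k K} {e : ℕ}
    (h : IsOverWith (Zt.toK Q : Place k K') P e) : cn k' K' D Q = D P * e := by
  unfold cn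
  rw [Finsupp.comapDomain_apply]
  exact Groth.Agent.Helper16.FFW.conorm_apply hK D h

theorem deg_cn [FiniteDimensional k k']
    (h : Function.Bijective (Algebra.TensorProduct.productMap
      (IsScalarTower.toAlgHom k k' K') (IsScalarTower.toAlgHom k K K')))
    (hK : IsFunctionField k K) (D : Divisor k K) : (cn k' K' D).deg = D.deg := by
  haveI : FiniteDimensional K K' := finite_scalarExt h
  have hbij : Set.BijOn (Zt.toK : Place k' K' → Place k K')
      ((Zt.toK : Place k' K' → Place k K') ⁻¹' ↑(conorm K' D).support)
      ↑(conorm K' D).support := by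
    refine ⟨fun Q hQ => hQ, Zt.toK_injective.injOn, ?_⟩
    intro Q₀ hQ₀
    obtain ⟨Q, rfl⟩ := Zt.toK_surjective (k' := k') Q₀
    exact ⟨Q, hQ₀, rfl⟩
  have h1 := Finsupp.sum_comapDomain (Zt.toK : Place k' K' → Place k K') (conorm K' D)
    (fun Q₀ n => n * (Q₀.deg : ℤ)) hbij
  have h2 : (conorm K' D).deg = Module.finrank K K' * D.deg :=
    Groth.Agent.Helper16.FFW.deg_conorm hK D
  have h3 : (conorm K' D).sum (fun Q₀ n => n * (Q₀.deg : ℤ)) = (conorm K' D).deg := rfl
  rw [h3, h2, Zt.finrank_eq h] at h1
  have h4 : (Finsupp.comapDomain (Zt.toK : Place k' K' → Place k K') (conorm K' D)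
      hbij.injOn).sum ((fun Q₀ n => n * (Q₀.deg : ℤ)) ∘ (Zt.toK : Place k' K' → Place k K')) =
      (Module.finrank k k' : ℤ) * (cn k' K' D).deg := by
    unfold Divisor.deg cn
    rw [Finsupp.mul_sum]
    refine Finsupp.sum_congr fun Q _ => ?_
    simp only [Function.comp]
    rw [Zt.deg_toK]
    push_cast
    ring
  rw [h4] at h1
  have hpos : (0 : ℤ) < Module.finrank k k' := by exact_mod_cast Module.finrank_pos
  exact mul_left_cancel₀ hpos.ne' h1

theorem map_mem_L [FiniteDimensional K K'] (hK : IsFunctionField k K) (D : Divisor k K)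
    {f : K} (hf : f ∈ L D) : algebraMap K K' f ∈ L (cn k' K' D) := by
  intro Q
  obtain ⟨P, e, he⟩ := Groth.Agent.Helper16.FFW.exists_isOverWith (K := K) (K' := K') hK.1
    (Zt.toK Q : Place k K')
  rw [cn_apply hK D Q he]
  have h1 : Q.1 (algebraMap K K' f) = P.1 f ^ e := he f
  rw [h1]
  calc P.1 f ^ e ≤ (WithZero.exp (D P)) ^ e := pow_le_pow_left' (hf P) e
    _ = WithZero.exp (D P * e) := by
      rw [← WithZero.exp_nsmul]; congr 1; simp [mul_comm]

theorem linearIndependent_map
    (h : Function.Bijective (Algebra.TensorProduct.productMap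
      (IsScalarTower.toAlgHom k k' K') (IsScalarTower.toAlgHom k K K')))
    {ι : Type*} {v : ι → K} (hv : LinearIndependent k v) :
    LinearIndependent k' (fun i => algebraMap K K' (v i)) := by
  have h1 : LinearIndependent k' (fun i => (1 : k') ⊗ₜ[k] v i) :=
    Module.Flat.linearIndependent_one_tmul hv
  have h2 := h1.map' (scalarExtEquiv h).toLinearMap
    (LinearMap.ker_eq_bot.2 (scalarExtEquiv h).injective)
  have hfun : (fun i => algebraMap K K' (v i)) =
      (⇑(scalarExtEquiv h).toLinearMap ∘ fun i => (1 : k') ⊗ₜ[k] v i) := by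
    funext i
    simp only [Function.comp, AlgEquiv.toLinearMap_apply]
    rw [scalarExtEquiv_tmul, map_one, one_mul]
  rw [hfun]
  exact h2

/-- the linear map `L(D) → L'(cn D)` over `k` -/
noncomputable def mapL [FiniteDimensional K K'] (hK : IsFunctionField k K) (D : Divisor k K) :
    L D → L (cn k' K' D) := fun f => ⟨algebraMap K K' (f : K), map_mem_L hK D f.2⟩

theorem ell_le [FiniteDimensional k k']
    (h : Function.Bijective (Algebra.TensorProduct.productMap
      (IsScalarTower.toAlgHom k k' K') (IsScalarTower.toAlgHom k K K')))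
    (hK : IsFunctionField k K) (hK' : IsFunctionField k' K') (D : Divisor k K) :
    ell D ≤ ell (cn k' K' D) := by
  haveI : FiniteDimensional K K' := finite_scalarExt h
  haveI := finiteDimensional_L hK D
  haveI := finiteDimensional_L hK' (cn k' K' D)
  let b := Module.finBasis k (L D)
  have hv : LinearIndependent k (fun i => ((b i : L D) : K)) :=
    b.linearIndependent.map' (L D).subtype (Submodule.ker_subtype _)
  have hv' := linearIndependent_map h hv
  have hw : LinearIndependent k' (fun i => mapL (k' := k') (K' := K') hK D (b i)) := by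
    apply LinearIndependent.of_comp (L (cn k' K' D)).subtype
    exact hv'
  have := hw.fintype_card_le_finrank
  rw [Fintype.card_fin] at this
  exact this

theorem mem_span_of_ell_eq [FiniteDimensional k k']
    (h : Function.Bijective (Algebra.TensorProduct.productMap
      (IsScalarTower.toAlgHom k k' K') (IsScalarTower.toAlgHom k K K')))
    (hK : IsFunctionField k K) (hK' : IsFunctionField k' K') (D : Divisor k K)
    (heq : ell (cn k' K' D) = ell D) {z : K'} (hz : z ∈ L (cn k' K' D)) :
    z ∈ Submodule.span k' ((algebraMap K K') '' (L D : Set K)) := by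
  haveI : FiniteDimensional K K' := finite_scalarExt h
  haveI := finiteDimensional_L hK D
  haveI := finiteDimensional_L hK' (cn k' K' D)
  let b := Module.finBasis k (L D)
  have hv : LinearIndependent k (fun i => ((b i : L D) : K)) :=
    b.linearIndependent.map' (L D).subtype (Submodule.ker_subtype _)
  have hv' := linearIndependent_map h hv
  have hw : LinearIndependent k' (fun i => mapL (k' := k') (K' := K') hK D (b i)) := by
    apply LinearIndependent.of_comp (L (cn k' K' D)).subtype
    exact hv'
  have hcard : Fintype.card (Fin (Module.finrank k (L D))) =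
      Module.finrank k' (L (cn k' K' D)) := by
    rw [Fintype.card_fin]; exact heq.symm
  have htop := hw.span_eq_top_of_card_eq_finrank' hcard
  have hz' : (⟨z, hz⟩ : L (cn k' K' D)) ∈
      Submodule.span k' (Set.range fun i => mapL (k' := k') (K' := K') hK D (b i)) := by
    rw [htop]; trivial
  have key : ∀ y : L (cn k' K' D),
      y ∈ Submodule.span k' (Set.range fun i => mapL (k' := k') (K' := K') hK D (b i)) →
      (y : K') ∈ Submodule.span k' ((algebraMap K K') '' (L D : Set K)) := by
    intro y hy
    induction hy using Submodule.span_induction with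
    | mem y hy =>
      obtain ⟨i, rfl⟩ := hy
      exact Submodule.subset_span ⟨(b i : K), (b i).2, rfl⟩
    | zero => exact Submodule.zero_mem _
    | add x y _ _ hx hy => exact Submodule.add_mem _ hx hy
    | smul c x _ hx => exact Submodule.smul_mem _ c hx
  exact key _ hz'

theorem genus_le [FiniteDimensional k k']
    (h : Function.Bijective (Algebra.TensorProduct.productMap
      (IsScalarTower.toAlgHom k k' K') (IsScalarTower.toAlgHom k K K')))
    (hK : IsFunctionField k K) (hg : IsGeometric k K) : genus k' K' ≤ genus k K := by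
  have hK' : IsFunctionField k' K' := (isFunctionField_and_isGeometric_scalarExt h hK hg).1
  obtain ⟨N', hN'⟩ := riemann_eq hK'
  obtain ⟨P₀⟩ := Groth.Agent.Helper16.FF.exists_place hK
  set D : Divisor k K := (N'.toNat) • Finsupp.single P₀ 1 with hD
  have hdeg : N' ≤ D.deg := by
    rw [hD, Divisor.deg_nsmul, Divisor.deg_single]
    have h1 : (1 : ℤ) ≤ P₀.deg := by exact_mod_cast Place.deg_pos hK P₀
    have h2 : N' ≤ (N'.toNat : ℤ) := Int.self_le_toNat N'
    have h3 : (0 : ℤ) ≤ (N'.toNat : ℤ) := Int.natCast_nonneg _
    nlinarith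
  have h1 := hN' (cn k' K' D) (by rw [deg_cn h hK]; exact hdeg)
  rw [deg_cn h hK] at h1
  have h2 := riemann_le hK D
  have h3 := ell_le h hK hK' D
  have h3' : (ell D : ℤ) ≤ ell (cn k' K' D) := by exact_mod_cast h3
  have : (genus k' K' : ℤ) ≤ genus k K := by linarith
  exact_mod_cast this

end Groth.Agent.Helper27.Sx
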