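import Mathlib
import Groth.Agent.Lib.Helper27.SxB
import Groth.Agent.Lib.Helper27.NrmB
import Groth.Agent.Lib.Helper27.CfD
import Groth.Agent.Lib.Helper16.FF.Exists

set_option autoImplicit false

namespace Groth.Agent.Helper27.Sx

open FunFld TensorProduct Groth.Agent.Helper16.FF
open scoped WithZero

universe u v

variable {k k' : Type u} {K K' : Type v} [Field k] [Field k'] [Field K] [Field K']
  [Algebra k k'] [Algebra k K] [Algebra K K'] [Algebra k' K'] [Algebra k K']
  [IsScalarTower k k' K'] [IsScalarTower k K K']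

theorem isOverWith_ne_zero {Q : Place k K'} {P : Place k K} {e : ℕ} (h : IsOverWith Q P e) :
    e ≠ 0 := by
  rintro rfl
  have := h 0
  rw [map_zero, map_zero, pow_zero] at this
  exact zero_ne_one this

/-- if the genus does not drop under the constant extension, every place is nonsingular -/
theorem nonsingular_of_genus_eq [FiniteDimensional k k']
    (h : Function.Bijective (Algebra.TensorProduct.productMap
      (IsScalarTower.toAlgHom k k' K') (IsScalarTower.toAlgHom k K K')))
    (hK : IsFunctionField k K) (hg : IsGeometric k K)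
    (hgen : genus k' K' = genus k K) (P : Place k K)
    [Algebra P.O K'] [IsScalarTower P.O K K'] :
    integralClosure P.O K' = Algebra.adjoin P.O (Set.range (algebraMap k' K')) := by
  classical
  haveI : FiniteDimensional K K' := finite_scalarExt h
  have hK' : IsFunctionField k' K' := (isFunctionField_and_isGeometric_scalarExt h hK hg).1
  apply le_antisymm ?_ (Cf.adjoin_le_integralClosure P)
  intro z hz
  rw [Nrm.mem_S_iff P hK z] at hz
  -- poles of z
  have hSfin : {Q : Place k' K' | ¬ Q.1 z ≤ 1}.Finite := finite_poles hK' z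
  obtain ⟨S, hSdef⟩ : ∃ S : Finset (Place k' K'), S = hSfin.toFinset := ⟨_, rfl⟩
  have hS : ∀ Q, Q ∈ S ↔ ¬ Q.1 z ≤ 1 := fun Q => by
    rw [hSdef, Set.Finite.mem_toFinset]; rfl
  have hbelow : ∀ Q : Place k' K', ∃ (P' : Place k K) (e : ℕ),
      IsOverWith (Zt.toK Q : Place k K') P' e := fun Q =>
    Groth.Agent.Helper16.FFW.exists_isOverWith (K := K) (K' := K') hK.1 (Zt.toK Q : Place k K')
  choose bel ebel hbel using hbelow
  -- an auxiliary place different from P
  obtain ⟨x, hx⟩ := P.2.2 (WithZero.exp (-1 : ℤ))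
  have hx0 : x ≠ 0 := by
    rintro rfl; rw [map_zero] at hx; exact WithZero.exp_ne_zero.symm hx
  have hxlt : P.1 x < 1 := by
    rw [hx, ← WithZero.exp_zero, WithZero.exp_lt_exp]; omega
  have hxtr : Transcendental k x :=
    Groth.Agent.Helper16.FFW.Place.transcendental_of_val_ne_one hK.1 P hx0 hxlt.ne
  obtain ⟨P₁, hP₁⟩ := exists_pole hK hxtr
  have hP₁ne : P₁ ≠ P := by
    rintro rfl
    exact lt_irrefl _ (hP₁.trans hxlt)
  set T : Finset (Place k K) := insert P₁ (S.image bel) with hT
  have hPT : P ∉ T := by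
    rw [hT, Finset.mem_insert, not_or]
    refine ⟨fun h => hP₁ne h.symm, ?_⟩
    intro hmem
    obtain ⟨Q, hQS, hQ⟩ := Finset.mem_image.1 hmem
    have h1 := hbel Q
    rw [hQ] at h1
    exact (hS Q).1 hQS (hz (Zt.toK Q) ⟨_, h1⟩)
  set E : Divisor k K := ∑ P' ∈ T, Finsupp.single P' 1 with hE
  have hEapp : ∀ P', E P' = if P' ∈ T then 1 else 0 := by
    intro P'
    rw [hE, Finsupp.finsetSum_apply]
    simp only [Finsupp.single_apply]
    rw [Finset.sum_ite_eq' T P']
  have hEdeg : (1 : ℤ) ≤ E.deg := by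
    have h1 : E.deg = ∑ P' ∈ T, (P'.deg : ℤ) := by
      rw [hE, Groth.Agent.Helper16.FFW.Divisor.deg_finset_sum]
      refine Finset.sum_congr rfl fun P' _ => ?_
      rw [Divisor.deg_single, one_mul]
    rw [h1]
    have h2 : (P₁.deg : ℤ) ≤ ∑ P' ∈ T, (P'.deg : ℤ) :=
      Finset.single_le_sum (f := fun P' : Place k K => (P'.deg : ℤ))
        (fun _ _ => Int.natCast_nonneg _) (Finset.mem_insert_self _ _)
    have h3 : (1 : ℤ) ≤ P₁.deg := by exact_mod_cast Place.deg_pos hK P₁
    linarith
  obtain ⟨N, hN⟩ := riemann_eq hK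
  obtain ⟨N', hN'⟩ := riemann_eq hK'
  -- bound on pole orders
  obtain ⟨M, hM⟩ := Finset.exists_le (S.image fun Q => WithZero.log (Q.1 z))
  set m : ℕ := (max (max N N') M).toNat with hm
  have hmN : N ≤ m := le_trans (le_trans (le_max_left _ _) (le_max_left _ _)) (Int.self_le_toNat _)
  have hmN' : N' ≤ m :=
    le_trans (le_trans (le_max_right _ _) (le_max_left _ _)) (Int.self_le_toNat _)
  have hmM : M ≤ m := le_trans (le_max_right _ _) (Int.self_le_toNat _)
  set D : Divisor k K := m • E with hD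
  have hDdeg : (m : ℤ) ≤ D.deg := by
    rw [hD, Divisor.deg_nsmul]
    have : (0 : ℤ) ≤ (m : ℤ) := Int.natCast_nonneg _
    nlinarith
  have hDP : D P = 0 := by
    rw [hD, Finsupp.smul_apply, hEapp, if_neg hPT, smul_zero]
  have hDnn : ∀ P', 0 ≤ D P' := by
    intro P'
    rw [hD, Finsupp.smul_apply, hEapp]
    split_ifs <;> simp
  -- z ∈ L'(cn D)
  have hzL : z ∈ L (cn k' K' D) := by
    intro Q
    rw [cn_apply hK D Q (hbel Q)]
    by_cases hQ : Q.1 z ≤ 1
    · refine hQ.trans ?_
      rw [← WithZero.exp_zero, WithZero.exp_le_exp]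
      exact mul_nonneg (hDnn _) (Int.natCast_nonneg _)
    · have hQS : Q ∈ S := (hS Q).2 hQ
      have hbT : bel Q ∈ T := Finset.mem_insert_of_mem (Finset.mem_image_of_mem _ hQS)
      have hDb : D (bel Q) = m := by
        rw [hD, Finsupp.smul_apply, hEapp, if_pos hbT]; simp
      rw [hDb]
      have hz0 : z ≠ 0 := by
        rintro rfl; rw [map_zero] at hQ; exact hQ zero_le_one
      have hlog : WithZero.log (Q.1 z) ≤ M :=
        hM _ (Finset.mem_image_of_mem _ hQS)
      have hne : Q.1 z ≠ 0 := by rw [Ne, map_eq_zero]; exact hz0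
      have he1 : 1 ≤ ebel Q := Nat.one_le_iff_ne_zero.2 (isOverWith_ne_zero (hbel Q))
      calc Q.1 z = WithZero.exp (WithZero.log (Q.1 z)) := (WithZero.exp_log hne).symm
        _ ≤ WithZero.exp ((m : ℤ) * (ebel Q : ℤ)) := by
          rw [WithZero.exp_le_exp]
          have h1 : (1 : ℤ) ≤ (ebel Q : ℤ) := by exact_mod_cast he1
          have h2 : (0 : ℤ) ≤ (m : ℤ) := Int.natCast_nonneg _
          nlinarith
  -- equality of dimensions
  have h1 := hN D (hmN.trans hDdeg)
  have h2 := hN' (cn k' K' D) (by rw [deg_cn h hK]; exact hmN'.trans hDdeg)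
  rw [deg_cn h hK, hgen] at h2
  have heq : ell (cn k' K' D) = ell D := by
    have : (ell (cn k' K' D) : ℤ) = ell D := by linarith
    exact_mod_cast this
  have hspan := mem_span_of_ell_eq h hK hK' D heq hzL
  -- conclude
  have key : ∀ y ∈ Submodule.span k' ((algebraMap K K') '' (L D : Set K)),
      y ∈ Algebra.adjoin P.O (Set.range (algebraMap k' K')) := by
   intro y hy
   induction hy using Submodule.span_induction with
   | mem y hy =>
    obtain ⟨f, hf, rfl⟩ := hy
    have hfP : P.1 f ≤ 1 := by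
      have := hf P
      rwa [hDP, WithZero.exp_zero] at this
    have : algebraMap K K' f = algebraMap P.O K' ⟨f, (Place.mem_O_iff P f).2 hfP⟩ := by
      rw [Cf.algebraMap_O_eq]
    rw [this]
    exact Subalgebra.algebraMap_mem _ _
   | zero => exact Subalgebra.zero_mem _
   | add x y _ _ hx hy => exact Subalgebra.add_mem _ hx hy
   | smul c x _ hx =>
    rw [Algebra.smul_def]
    exact Subalgebra.mul_mem _ (Algebra.subset_adjoin ⟨c, rfl⟩) hx
  exact key z hspan

end Groth.Agent.Helper27.Sx
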