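import Mathlib
import Groth.Agent.Lib.Helper27.SxC

set_option autoImplicit false

namespace Groth.Agent.Helper27.Sx

open FunFld TensorProduct Groth.Agent.Helper16.FF
open scoped WithZero

universe u v

theorem injective_of_isField {A B F : Type*} [CommRing A] [CommRing B] [Nontrivial B]
    [FunLike F A B] [RingHomClass F A B]
    (hA : IsField A) (f : F) : Function.Injective f := by
  rw [injective_iff_map_eq_zero]
  intro x hx
  by_contra hne
  obtain ⟨y, hy⟩ := hA.mul_inv_cancel hne
  have h1 : f (x * y) = 1 := by rw [hy, map_one]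
  rw [map_mul, hx, zero_mul] at h1
  exact zero_ne_one h1

section T0

variable {k k' : Type u} {K Ω : Type v} [Field k] [Field k'] [Field K] [Field Ω]
  [Algebra k k'] [Algebra k K] [Algebra K Ω] [Algebra k Ω] [IsScalarTower k K Ω]

/-- a model of `k' ⊗ K` inside a given extension `Ω` of `K` -/
theorem exists_model_in [FiniteDimensional k k'] (hg : IsGeometric k K) (σ : k' →ₐ[k] Ω) :
    ∃ (K' : Type v) (_ : Field K') (_ : Algebra K K') (_ : Algebra k' K') (_ : Algebra k K')
      (_ : IsScalarTower k k' K') (_ : IsScalarTower k K K')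
      (_ : Algebra K' Ω) (_ : IsScalarTower K K' Ω),
      Function.Bijective (Algebra.TensorProduct.productMap
        (IsScalarTower.toAlgHom k k' K') (IsScalarTower.toAlgHom k K K')) ∧
      ∀ c : k', algebraMap K' Ω (algebraMap k' K' c) = σ c := by
  classical
  let F : IntermediateField K Ω := IntermediateField.adjoin K (Set.range σ)
  letI ak : Algebra k F := ((algebraMap K F).comp (algebraMap k K)).toAlgebra
  haveI tkK : IsScalarTower k K F := IsScalarTower.of_algebraMap_eq (fun _ => rfl)
  let f : k' →+* F := (σ : k' →+* Ω).codRestrict F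
    (fun c => IntermediateField.subset_adjoin K _ ⟨c, rfl⟩)
  letI ak' : Algebra k' F := f.toAlgebra
  haveI tkk' : IsScalarTower k k' F := IsScalarTower.of_algebraMap_eq (fun c => by
    apply Subtype.ext
    show algebraMap K Ω (algebraMap k K c) = σ (algebraMap k k' c)
    rw [σ.commutes, ← IsScalarTower.algebraMap_apply])
  refine ⟨F, inferInstance, inferInstance, ak', ak, tkk', tkK, inferInstance, inferInstance,
    ⟨?_, ?_⟩, fun c => rfl⟩
  · exact injective_of_isField (hg k' inferInstance) _
  · intro z
    have halg : ∀ x ∈ Set.range σ, IsAlgebraic K x := by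
      rintro _ ⟨c, rfl⟩
      have h1 : IsIntegral k c := Algebra.IsIntegral.isIntegral c
      have h2 : IsIntegral k (σ c) := h1.map σ
      exact h2.tower_top.isAlgebraic
    have hF : F.toSubalgebra = Algebra.adjoin K (Set.range σ) :=
      IntermediateField.adjoin_toSubalgebra_of_isAlgebraic halg
    have hz : (z : Ω) ∈ Algebra.adjoin K (Set.range σ) := by
      rw [← hF]; exact z.2
    have key : ∀ y ∈ Algebra.adjoin K (Set.range σ), ∃ t : k' ⊗[k] K,
        ((Algebra.TensorProduct.productMap
          (IsScalarTower.toAlgHom k k' F) (IsScalarTower.toAlgHom k K F) t : F) : Ω) = y := by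
      intro y hy
      induction hy using Algebra.adjoin_induction with
      | mem y hy =>
        obtain ⟨c, rfl⟩ := hy
        refine ⟨c ⊗ₜ 1, ?_⟩
        rw [Algebra.TensorProduct.productMap_apply_tmul, map_one, mul_one]
        rfl
      | algebraMap a =>
        refine ⟨1 ⊗ₜ a, ?_⟩
        rw [Algebra.TensorProduct.productMap_apply_tmul, map_one, one_mul]
        rfl
      | add x y _ _ hx hy =>
        obtain ⟨s, hs⟩ := hx
        obtain ⟨t, ht⟩ := hy
        exact ⟨s + t, by rw [map_add, ← hs, ← ht]; rfl⟩
      | mul x y _ _ hx hy =>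
        obtain ⟨s, hs⟩ := hx
        obtain ⟨t, ht⟩ := hy
        exact ⟨s * t, by rw [map_mul, ← hs, ← ht]; rfl⟩
    obtain ⟨t, ht⟩ := key _ hz
    exact ⟨t, Subtype.ext ht⟩

end T0

section T1

variable {k k' : Type u} {K : Type v} [Field k] [Field k'] [Field K] [Algebra k k'] [Algebra k K]

theorem exists_model [FiniteDimensional k k'] (hg : IsGeometric k K) :
    ∃ (K' : Type v) (_ : Field K') (_ : Algebra K K') (_ : Algebra k' K') (_ : Algebra k K')
      (_ : IsScalarTower k k' K') (_ : IsScalarTower k K K'),
      Function.Bijective (Algebra.TensorProduct.productMap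
        (IsScalarTower.toAlgHom k k' K') (IsScalarTower.toAlgHom k K K')) := by
  let σ : k' →ₐ[k] AlgebraicClosure K := IsAlgClosed.lift
  obtain ⟨K', i1, i2, i3, i4, i5, i6, -, -, h, -⟩ := exists_model_in hg σ
  exact ⟨K', i1, i2, i3, i4, i5, i6, h⟩

end T1

section T2

variable {k k' k'' : Type u} {K K' K'' : Type v} [Field k] [Field k'] [Field k''] [Field K]
  [Field K'] [Field K'']
  [Algebra k k'] [Algebra k' k''] [Algebra k k''] [IsScalarTower k k' k'']
  [Algebra k K] [Algebra K K'] [Algebra k' K'] [Algebra k K'] [IsScalarTower k k' K']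
  [IsScalarTower k K K']
  [Algebra K' K''] [Algebra k'' K''] [Algebra k' K''] [Algebra k K''] [Algebra K K'']
  [IsScalarTower k' k'' K''] [IsScalarTower k' K' K''] [IsScalarTower K K' K'']
  [IsScalarTower k K K''] [IsScalarTower k k'' K'']

theorem bijective_trans [FiniteDimensional k k'] [FiniteDimensional k' k'']
    (h1 : Function.Bijective (Algebra.TensorProduct.productMap
      (IsScalarTower.toAlgHom k k' K') (IsScalarTower.toAlgHom k K K')))
    (h2 : Function.Bijective (Algebra.TensorProduct.productMap
      (IsScalarTower.toAlgHom k' k'' K'') (IsScalarTower.toAlgHom k' K' K'')))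
    (hg : IsGeometric k K) :
    Function.Bijective (Algebra.TensorProduct.productMap
      (IsScalarTower.toAlgHom k k'' K'') (IsScalarTower.toAlgHom k K K'')) := by
  haveI : FiniteDimensional k k'' := Module.Finite.trans k' k''
  refine ⟨injective_of_isField (hg k'' inferInstance) _, ?_⟩
  set φ := Algebra.TensorProduct.productMap
      (IsScalarTower.toAlgHom k k'' K'') (IsScalarTower.toAlgHom k K K'') with hφ
  have hc : ∀ c : k'', algebraMap k'' K'' c ∈ φ.range := fun c =>
    (AlgHom.mem_range φ).2 ⟨c ⊗ₜ 1, by
      rw [hφ, Algebra.TensorProduct.productMap_apply_tmul, map_one, mul_one]; rfl⟩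
  have hb : ∀ b : K, algebraMap K K'' b ∈ φ.range := fun b =>
    (AlgHom.mem_range φ).2 ⟨1 ⊗ₜ b, by
      rw [hφ, Algebra.TensorProduct.productMap_apply_tmul, map_one, one_mul]; rfl⟩
  have ha : ∀ a : K', algebraMap K' K'' a ∈ φ.range := by
    intro a
    obtain ⟨s, rfl⟩ := h1.2 a
    induction s using TensorProduct.induction_on with
    | zero => rw [map_zero, map_zero]; exact Subalgebra.zero_mem _
    | tmul d b =>
      rw [Algebra.TensorProduct.productMap_apply_tmul, map_mul]
      refine Subalgebra.mul_mem _ ?_ ?_
      · have : algebraMap K' K'' ((IsScalarTower.toAlgHom k k' K') d) =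
            algebraMap k'' K'' (algebraMap k' k'' d) := by
          show algebraMap K' K'' (algebraMap k' K' d) = _
          rw [← IsScalarTower.algebraMap_apply k' K' K'', IsScalarTower.algebraMap_apply k' k'' K'']
        rw [this]
        exact hc _
      · have : algebraMap K' K'' ((IsScalarTower.toAlgHom k K K') b) = algebraMap K K'' b := by
          show algebraMap K' K'' (algebraMap K K' b) = _
          rw [← IsScalarTower.algebraMap_apply K K' K'']
        rw [this]
        exact hb _
    | add s₁ s₂ hs₁ hs₂ => rw [map_add, map_add]; exact Subalgebra.add_mem _ hs₁ hs₂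
  intro z
  obtain ⟨t, rfl⟩ := h2.2 z
  induction t using TensorProduct.induction_on with
  | zero => exact ⟨0, by rw [map_zero, map_zero]⟩
  | tmul c a =>
    rw [Algebra.TensorProduct.productMap_apply_tmul]
    exact Subalgebra.mul_mem φ.range (hc c) (ha a)
  | add t₁ t₂ h₁ h₂ => rw [map_add]; exact Subalgebra.add_mem φ.range h₁ h₂

end T2

section T3

variable {k k' k'' : Type u} {K K'' : Type v} [Field k] [Field k'] [Field k''] [Field K]
  [Field K'']
  [Algebra k k'] [Algebra k' k''] [Algebra k k''] [IsScalarTower k k' k'']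
  [Algebra k K] [Algebra k'' K''] [Algebra k K''] [Algebra K K'']
  [IsScalarTower k K K''] [IsScalarTower k k'' K'']

/-- intermediate model -/
theorem exists_intermediate [FiniteDimensional k k'] [FiniteDimensional k' k'']
    (h : Function.Bijective (Algebra.TensorProduct.productMap
      (IsScalarTower.toAlgHom k k'' K'') (IsScalarTower.toAlgHom k K K'')))
    (hg : IsGeometric k K) :
    ∃ (K' : Type v) (_ : Field K') (_ : Algebra K K') (_ : Algebra k' K') (_ : Algebra k K')
      (_ : IsScalarTower k k' K') (_ : IsScalarTower k K K')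
      (_ : Algebra K' K'') (_ : Algebra k' K'') (_ : IsScalarTower k' k'' K'')
      (_ : IsScalarTower k' K' K'') (_ : IsScalarTower K K' K''),
      Function.Bijective (Algebra.TensorProduct.productMap
        (IsScalarTower.toAlgHom k k' K') (IsScalarTower.toAlgHom k K K')) ∧
      Function.Bijective (Algebra.TensorProduct.productMap
        (IsScalarTower.toAlgHom k' k'' K'') (IsScalarTower.toAlgHom k' K' K'')) := by
  let σ : k' →ₐ[k] K'' := (IsScalarTower.toAlgHom k k'' K'').comp (IsScalarTower.toAlgHom k k' k'')
  obtain ⟨K', i1, i2, i3, i4, i5, i6, i7, i8, h1, hσ⟩ := exists_model_in hg σ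
  letI a1 : Algebra k' K'' := ((algebraMap k'' K'').comp (algebraMap k' k'')).toAlgebra
  haveI t1 : IsScalarTower k' k'' K'' := IsScalarTower.of_algebraMap_eq (fun _ => rfl)
  haveI t2 : IsScalarTower k' K' K'' := IsScalarTower.of_algebraMap_eq (fun c => (hσ c).symm)
  refine ⟨K', i1, i2, i3, i4, i5, i6, i7, a1, t1, t2, i8, h1, ?_, ?_⟩
  · have hg' : IsGeometric k' K' := isGeometric_scalarExt h1 hg
    exact injective_of_isField (hg' k'' inferInstance) _
  · intro z
    obtain ⟨t, rfl⟩ := h.2 z
    induction t using TensorProduct.induction_on with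
    | zero => exact ⟨0, by rw [map_zero, map_zero]⟩
    | tmul c a =>
      refine ⟨c ⊗ₜ (algebraMap K K' a), ?_⟩
      rw [Algebra.TensorProduct.productMap_apply_tmul, Algebra.TensorProduct.productMap_apply_tmul]
      show algebraMap k'' K'' c * algebraMap K' K'' (algebraMap K K' a) =
        algebraMap k'' K'' c * algebraMap K K'' a
      rw [← IsScalarTower.algebraMap_apply K K' K'']
    | add t₁ t₂ h₁ h₂ =>
      obtain ⟨s₁, hs₁⟩ := h₁
      obtain ⟨s₂, hs₂⟩ := h₂
      exact ⟨s₁ + s₂, by rw [map_add, hs₁, hs₂, map_add]⟩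

end T3

end Groth.Agent.Helper27.Sx
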