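import Mathlib
import Groth.Agent.Lib.Helper27.SxD

set_option autoImplicit false

namespace Groth.Agent.Helper27.Sx

open FunFld TensorProduct
open scoped WithZero

universe u v

theorem exists_normal_closure (F K : Type u) [Field F] [Field K] [Algebra F K]
    [FiniteDimensional F K] :
    ∃ (E : Type u) (_ : Field E) (_ : Algebra F E) (_ : Algebra K E) (_ : IsScalarTower F K E),
      FiniteDimensional F E ∧ FiniteDimensional K E ∧ Normal F E := by
  haveI : Algebra.IsAlgebraic F K := Algebra.IsAlgebraic.of_finite F K
  haveI : IsAlgClosure F (AlgebraicClosure K) :=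
    ⟨inferInstance, Algebra.IsAlgebraic.trans F K (AlgebraicClosure K)⟩
  haveI : Normal F (AlgebraicClosure K) := IsAlgClosure.normal F (AlgebraicClosure K)
  haveI : FiniteDimensional F (IntermediateField.normalClosure F K (AlgebraicClosure K)) :=
    inferInstance
  refine ⟨IntermediateField.normalClosure F K (AlgebraicClosure K), inferInstance, inferInstance,
    inferInstance, inferInstance, inferInstance, ?_, inferInstance⟩
  exact Module.Finite.of_restrictScalars_finite F K _

theorem exists_pi_sep (F E : Type u) [Field F] [Field E] [Algebra F E] [FiniteDimensional F E]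
    [Normal F E] :
    ∃ (M : Type u) (_ : Field M) (_ : Algebra F M) (_ : Algebra M E) (_ : IsScalarTower F M E),
      FiniteDimensional F M ∧ FiniteDimensional M E ∧ IsPurelyInseparable F M ∧
        Algebra.IsSeparable M E := by
  classical
  let M : IntermediateField F E := IntermediateField.fixedField (⊤ : Subgroup (E ≃ₐ[F] E))
  refine ⟨M, inferInstance, inferInstance, inferInstance, inferInstance, inferInstance,
    inferInstance, ?_, ?_⟩
  · rw [isPurelyInseparable_iff_natSepDegree_eq_one]
    intro x
    have hx : IsIntegral F (x : E) := Algebra.IsIntegral.isIntegral _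
    rw [IntermediateField.minpoly_eq]
    rw [Polynomial.natSepDegree_eq_of_splits _ (Normal.splits inferInstance (x : E))]
    have hsub : ((minpoly F (x : E)).aroots E).toFinset = {(x : E)} := by
      ext y
      simp only [Multiset.mem_toFinset, Finset.mem_singleton]
      constructor
      · intro hy
        rw [Polynomial.mem_aroots] at hy
        obtain ⟨σ, hσ⟩ := minpoly.exists_algEquiv_of_root' hx.isAlgebraic hy.2
        rw [← hσ]
        exact (IntermediateField.mem_fixedField_iff ⊤ (x : E)).1 x.2 σ (Subgroup.mem_top σ)
      · rintro rfl
        rw [Polynomial.mem_aroots]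
        exact ⟨minpoly.ne_zero hx, minpoly.aeval F _⟩
    rw [hsub, Finset.card_singleton]
  · haveI : IsGalois M E := IsGalois.of_fixed_field E (⊤ : Subgroup (E ≃ₐ[F] E))
    infer_instance

end Groth.Agent.Helper27.Sx
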