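import Mathlib
import Groth.Agent.Lib.Helper27.SxE
import Groth.Agent.Lib.Helper27.CfE

set_option autoImplicit false

namespace Groth.Agent.Helper27.Sx

open FunFld TensorProduct Groth.Agent.Helper16.FF
open scoped WithZero

universe u v

/-- there is a purely inseparable pair of genus n -/
def IsPIPair (k : Type u) (K : Type v) [Field k] [Field K] [Algebra k K] (n : ℕ) : Prop :=
  ∃ (k' : Type u) (_ : Field k') (_ : Algebra k k') (K' : Type v) (_ : Field K') (_ : Algebra K K')
    (_ : Algebra k' K') (_ : Algebra k K') (_ : IsScalarTower k k' K') (_ : IsScalarTower k K K'),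
    FiniteDimensional k k' ∧ IsPurelyInseparable k k' ∧
    Function.Bijective (Algebra.TensorProduct.productMap
      (IsScalarTower.toAlgHom k k' K') (IsScalarTower.toAlgHom k K K')) ∧ genus k' K' = n

section key

variable {k k₁ k₂ : Type u} {K K₁ K₂ : Type v} [Field k] [Field k₁] [Field k₂] [Field K]
  [Field K₁] [Field K₂]
  [Algebra k k₁] [Algebra k K] [Algebra K K₁] [Algebra k₁ K₁] [Algebra k K₁]
  [IsScalarTower k k₁ K₁] [IsScalarTower k K K₁]
  [Algebra k₁ k₂] [Algebra K₁ K₂] [Algebra k₂ K₂] [Algebra k₁ K₂]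
  [IsScalarTower k₁ k₂ K₂] [IsScalarTower k₁ K₁ K₂]

theorem key [FiniteDimensional k k₁] [IsPurelyInseparable k k₁] [FiniteDimensional k₁ k₂]
    (h₁ : Function.Bijective (Algebra.TensorProduct.productMap
      (IsScalarTower.toAlgHom k k₁ K₁) (IsScalarTower.toAlgHom k K K₁)))
    (h₂ : Function.Bijective (Algebra.TensorProduct.productMap
      (IsScalarTower.toAlgHom k₁ k₂ K₂) (IsScalarTower.toAlgHom k₁ K₁ K₂)))
    (hK : IsFunctionField k K) (hg : IsGeometric k K)
    (hmin : ∀ n, IsPIPair k K n → genus k₁ K₁ ≤ n)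
    (Q₀ : Place k₁ K₁) :
    integralClosure (Q₀.O.toSubring.map (algebraMap K₁ K₂)) K₂ =
      Algebra.adjoin (Q₀.O.toSubring.map (algebraMap K₁ K₂)) (Set.range (algebraMap k₂ K₂)) := by
  classical
  obtain ⟨hK₁, hg₁⟩ := isFunctionField_and_isGeometric_scalarExt h₁ hK hg
  obtain ⟨hK₂, hg₂⟩ := isFunctionField_and_isGeometric_scalarExt h₂ hK₁ hg₁
  obtain ⟨N, _, _, _, _, hfdN₁, hfdN₂, hnorm⟩ := exists_normal_closure k₁ k₂
  haveI := hfdN₁
  haveI := hfdN₂
  haveI := hnorm
  obtain ⟨Ni, _, _, _, _, hfdi₁, hfdi₂, hpi, hsep⟩ := exists_pi_sep k₁ N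
  haveI := hfdi₁
  haveI := hfdi₂
  haveI := hpi
  haveI := hsep
  obtain ⟨KN, _, _, _, _, _, _, hN2⟩ := exists_model (k := k₂) (k' := N) (K := K₂) hg₂
  letI aK₁ : Algebra K₁ KN := ((algebraMap K₂ KN).comp (algebraMap K₁ K₂)).toAlgebra
  letI ak₁ : Algebra k₁ KN := ((algebraMap K₁ KN).comp (algebraMap k₁ K₁)).toAlgebra
  haveI t1 : IsScalarTower K₁ K₂ KN := .of_algebraMap_eq (fun _ => rfl)
  haveI t2 : IsScalarTower k₁ K₁ KN := .of_algebraMap_eq (fun _ => rfl)
  have e1 : ∀ c : k₁, algebraMap k₁ KN c = algebraMap k₂ KN (algebraMap k₁ k₂ c) := by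
    intro c
    show algebraMap K₂ KN (algebraMap K₁ K₂ (algebraMap k₁ K₁ c)) = _
    rw [← IsScalarTower.algebraMap_apply k₁ K₁ K₂, IsScalarTower.algebraMap_apply k₁ k₂ K₂,
      ← IsScalarTower.algebraMap_apply k₂ K₂ KN]
  haveI t3 : IsScalarTower k₁ k₂ KN := .of_algebraMap_eq e1
  haveI t4 : IsScalarTower k₁ N KN := .of_algebraMap_eq (fun c => by
    rw [e1, IsScalarTower.algebraMap_apply k₂ N KN, ← IsScalarTower.algebraMap_apply k₁ k₂ N])
  have hN1 := bijective_trans h₂ hN2 hg₁
  suffices hQN : integralClosure (Q₀.O.toSubring.map (algebraMap K₁ KN)) KN =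
      Algebra.adjoin (Q₀.O.toSubring.map (algebraMap K₁ KN)) (Set.range (algebraMap N KN)) from
    ((Trn.main12534 h₂ hN2 hK₁ Q₀).1 hQN).1
  obtain ⟨Ki, _, _, _, _, _, _, _, _, _, _, _, hi1, hi2⟩ :=
    exists_intermediate (k := k₁) (k' := Ni) (k'' := N) (K := K₁) (K'' := KN) hN1 hg₁
  rw [Trn.main12534 hi1 hi2 hK₁ Q₀]
  refine ⟨?_, ?_⟩
  · letI aO : Algebra Q₀.O Ki := ((algebraMap K₁ Ki).comp (algebraMap Q₀.O K₁)).toAlgebra
    haveI : IsScalarTower Q₀.O K₁ Ki := .of_algebraMap_eq (fun _ => rfl)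
    rw [Trn.bridge Q₀.O (Set.range (algebraMap Ni Ki))]
    apply nonsingular_of_genus_eq hi1 hK₁ hg₁ ?_ Q₀
    apply le_antisymm (genus_le hi1 hK₁ hg₁)
    apply hmin
    letI : Algebra k Ni := ((algebraMap k₁ Ni).comp (algebraMap k k₁)).toAlgebra
    letI : Algebra K Ki := ((algebraMap K₁ Ki).comp (algebraMap K K₁)).toAlgebra
    letI : Algebra k Ki := ((algebraMap k₁ Ki).comp (algebraMap k k₁)).toAlgebra
    haveI : IsScalarTower k k₁ Ni := .of_algebraMap_eq (fun _ => rfl)
    haveI : IsScalarTower K K₁ Ki := .of_algebraMap_eq (fun _ => rfl)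
    haveI : IsScalarTower k k₁ Ki := .of_algebraMap_eq (fun _ => rfl)
    haveI : IsScalarTower k Ni Ki := .of_algebraMap_eq (fun c => by
      show algebraMap k₁ Ki (algebraMap k k₁ c) =
        algebraMap Ni Ki (algebraMap k₁ Ni (algebraMap k k₁ c))
      rw [← IsScalarTower.algebraMap_apply k₁ Ni Ki])
    haveI : IsScalarTower k K Ki := .of_algebraMap_eq (fun c => by
      show algebraMap k₁ Ki (algebraMap k k₁ c) =
        algebraMap K₁ Ki (algebraMap K K₁ (algebraMap k K c))
      rw [← IsScalarTower.algebraMap_apply k K K₁, IsScalarTower.algebraMap_apply k k₁ K₁,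
        ← IsScalarTower.algebraMap_apply k₁ K₁ Ki])
    haveI : FiniteDimensional k Ni := Module.Finite.trans k₁ Ni
    haveI : IsPurelyInseparable k Ni := IsPurelyInseparable.trans k k₁ Ni
    exact ⟨Ni, inferInstance, inferInstance, Ki, inferInstance, inferInstance, inferInstance,
      inferInstance, inferInstance, inferInstance, inferInstance, inferInstance,
      bijective_trans h₁ hi1 hg, rfl⟩
  · intro Q _
    obtain ⟨Q', rfl⟩ := Zt.toK_surjective (k := k₁) (k' := Ni) (K' := Ki) Q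
    obtain ⟨hKi, hgi⟩ := isFunctionField_and_isGeometric_scalarExt hi1 hK₁ hg₁
    letI aO : Algebra Q'.O KN := ((algebraMap Ki KN).comp (algebraMap Q'.O Ki)).toAlgebra
    haveI : IsScalarTower Q'.O Ki KN := .of_algebraMap_eq (fun _ => rfl)
    show integralClosure (Q'.O.toSubring.map (algebraMap Ki KN)) KN =
      Algebra.adjoin (Q'.O.toSubring.map (algebraMap Ki KN)) (Set.range (algebraMap N KN))
    rw [Trn.bridge Q'.O (Set.range (algebraMap N KN))]
    haveI := Cf.isReduced_of_sep_left (k' := N) Q'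
    exact Cf.integralClosure_eq_adjoin Q' hi2 (Module.finBasis Ni N) hKi

end key

theorem main12594 (k : Type u) (K : Type v) [Field k] [Field K] [Algebra k K]
    (hK : FunFld.IsFunctionField k K) (hg : FunFld.IsGeometric k K) :
    ∃ (k' : Type u) (_ : Field k') (_ : Algebra k k'), FiniteDimensional k k' ∧
      IsPurelyInseparable k k' ∧
      ∀ (K' : Type v) [Field K'] [Algebra K K'] [Algebra k' K'] [Algebra k K']
        [IsScalarTower k k' K'] [IsScalarTower k K K'],
        Function.Bijective (Algebra.TensorProduct.productMap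
          (IsScalarTower.toAlgHom k k' K') (IsScalarTower.toAlgHom k K K')) →
        ∀ (Q : FunFld.Place k' K') (k'' : Type u) [Field k''] [Algebra k' k'']
          [FiniteDimensional k' k'']
          (K'' : Type v) [Field K''] [Algebra K' K''] [Algebra k'' K''] [Algebra k' K'']
          [IsScalarTower k' k'' K''] [IsScalarTower k' K' K''],
          Function.Bijective (Algebra.TensorProduct.productMap
            (IsScalarTower.toAlgHom k' k'' K'') (IsScalarTower.toAlgHom k' K' K'')) →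
          integralClosure (Q.O.toSubring.map (algebraMap K' K'')) K'' =
            Algebra.adjoin (Q.O.toSubring.map (algebraMap K' K''))
              (Set.range (algebraMap k'' K'')) := by
  classical
  have hex : ∃ n, IsPIPair k K n := by
    refine ⟨genus k K, k, inferInstance, inferInstance, K, inferInstance, inferInstance,
      inferInstance, inferInstance, inferInstance, inferInstance, inferInstance, inferInstance,
      ?_, rfl⟩
    refine ⟨injective_of_isField (hg k inferInstance) _, fun a => ⟨1 ⊗ₜ a, ?_⟩⟩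
    rw [Algebra.TensorProduct.productMap_apply_tmul, map_one, one_mul]
    rfl
  obtain ⟨k₁, _, _, K₁, _, _, _, _, _, _, hfd, hpi, h₁, hgen⟩ := Nat.find_spec hex
  have hmin : ∀ n, IsPIPair k K n → genus k₁ K₁ ≤ n := fun n hn =>
    hgen ▸ Nat.find_min' hex hn
  refine ⟨k₁, inferInstance, inferInstance, hfd, hpi, ?_⟩
  intro K' _ _ _ _ _ _ h' Q k'' _ _ _ K'' _ _ _ _ _ _ h''
  let φ : K' ≃ₐ[k₁] K₁ := (scalarExtEquiv h').symm.trans (scalarExtEquiv h₁)
  letI aK₁ : Algebra K₁ K'' := ((algebraMap K' K'').comp (φ.symm : K₁ →+* K')).toAlgebra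
  have haK₁ : ∀ y : K₁, algebraMap K₁ K'' y = algebraMap K' K'' (φ.symm y) := fun _ => rfl
  haveI t : IsScalarTower k₁ K₁ K'' := .of_algebraMap_eq (fun c => by
    rw [haK₁, φ.symm.commutes, ← IsScalarTower.algebraMap_apply])
  let Q₀ : Place k₁ K₁ := ⟨Q.1.comap (φ.symm : K₁ →+* K'), fun c => by
      show Q.1 (φ.symm (algebraMap k₁ K₁ c)) ≤ 1
      rw [φ.symm.commutes]; exact Q.2.1 c, fun γ => by
      obtain ⟨x, hx⟩ := Q.2.2 γ
      exact ⟨φ x, by show Q.1 (φ.symm (φ x)) = γ; rw [φ.symm_apply_apply]; exact hx⟩⟩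
  have hQ₀ : ∀ y : K₁, Q₀.1 y = Q.1 (φ.symm y) := fun _ => rfl
  have h₂ : Function.Bijective (Algebra.TensorProduct.productMap
      (IsScalarTower.toAlgHom k₁ k'' K'') (IsScalarTower.toAlgHom k₁ K₁ K'')) := by
    have hfun : ⇑(Algebra.TensorProduct.productMap
        (IsScalarTower.toAlgHom k₁ k'' K'') (IsScalarTower.toAlgHom k₁ K₁ K'')) =
        ⇑(Algebra.TensorProduct.productMap
          (IsScalarTower.toAlgHom k₁ k'' K'') (IsScalarTower.toAlgHom k₁ K' K'')) ∘
        ⇑(Algebra.TensorProduct.congr (AlgEquiv.refl : k'' ≃ₐ[k₁] k'') φ.symm) := by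
      funext t
      induction t using TensorProduct.induction_on with
      | zero => simp
      | tmul c a =>
        simp only [Function.comp, Algebra.TensorProduct.congr_apply,
          Algebra.TensorProduct.map_tmul, Algebra.TensorProduct.productMap_apply_tmul]
        rfl
      | add t₁ t₂ h₁ h₂ =>
        simp only [Function.comp] at h₁ h₂ ⊢
        rw [map_add, map_add, map_add, h₁, h₂]
    rw [hfun]
    exact h''.comp (AlgEquiv.bijective _)
  have hkey := key h₁ h₂ hK hg hmin Q₀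
  have hsub : Q₀.O.toSubring.map (algebraMap K₁ K'') = Q.O.toSubring.map (algebraMap K' K'') := by
    ext z
    constructor
    · rintro ⟨y, hy, rfl⟩
      exact ⟨φ.symm y, hy, rfl⟩
    · rintro ⟨x, hx, rfl⟩
      refine ⟨φ x, ?_, ?_⟩
      · show Q.1 (φ.symm (φ x)) ≤ 1
        rw [φ.symm_apply_apply]; exact hx
      · show algebraMap K' K'' (φ.symm (φ x)) = _
        rw [φ.symm_apply_apply]
  rw [hsub] at hkey
  exact hkey

end Groth.Agent.Helper27.Sx
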