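import Mathlib
import Groth.Agent.Lib.Helper27.SxF
import Groth.Agent.Lib.Helper27.CgF

set_option autoImplicit false

namespace Groth.Agent.Helper27.Sx

open FunFld TensorProduct Groth.Agent.Helper16.FF Polynomial
open scoped WithZero

universe u v

section basic
variable {k K : Type*} [Field k] [Field K] [Algebra k K]

theorem val_aeval_lt_one_iff (P : Place k K) (z : P.O) (m : k[X]) :
    P.1 (aeval (z : K) m) < 1 ↔ aeval (IsLocalRing.residue P.O z) m = 0 := by
  haveI : IsScalarTower k P.O K := IsScalarTower.of_algebraMap_eq (fun c => rfl)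
  have h1 : aeval (z : K) m = ((aeval z m : P.O) : K) :=
    Polynomial.aeval_algebraMap_apply K z m
  have h2 : IsLocalRing.residue P.O (aeval z m) = aeval (IsLocalRing.residue P.O z) m := by
    rw [aeval_def, aeval_def, Polynomial.hom_eval₂]
    rfl
  rw [h1, ← Groth.Agent.Helper16.FFW.Place.residue_eq_zero_iff, h2]

/-- a root modulo the place of a split polynomial is congruent to a constant -/
theorem exists_const_of_splits (Q : Place k K) {a : K} (hle : Q.1 a ≤ 1) {m : k[X]} (hm0 : m ≠ 0)
    (hsplit : m.Splits) (hval : Q.1 (aeval a m) < 1) :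
    ∃ c : k, Q.1 (a - algebraMap k K c) < 1 := by
  set z : Q.O := ⟨a, (Place.mem_O_iff Q a).2 hle⟩ with hz
  have h1 : aeval (IsLocalRing.residue Q.O z) m = 0 := (val_aeval_lt_one_iff Q z m).1 hval
  have h2 : (m.map (algebraMap k (IsLocalRing.ResidueField Q.O))).IsRoot
      (IsLocalRing.residue Q.O z) := by
    rw [IsRoot.def, eval_map_algebraMap]
    exact h1
  obtain ⟨c, hc⟩ := hsplit.mem_range_of_isRoot hm0 h2
  refine ⟨c, ?_⟩
  have h3 : IsLocalRing.residue Q.O (z - algebraMap k Q.O c) = 0 := by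
    rw [map_sub, sub_eq_zero]
    exact hc.symm
  rw [Groth.Agent.Helper16.FFW.Place.residue_eq_zero_iff] at h3
  exact h3

end basic

section fixed

variable {k₁ k' : Type u} {K₁ : Type v} [Field k₁] [Field k'] [Field K₁] [Algebra k₁ k']
  [Algebra k₁ K₁]

/-- if the residue field embeds in the normal extension `k'`, every integral element satisfies
modulo the place a monic polynomial that splits in `k'` -/
theorem exists_poly [Normal k₁ k'] (hK₁ : IsFunctionField k₁ K₁) (P₁ : Place k₁ K₁)
    (ι : IsLocalRing.ResidueField P₁.O →ₐ[k₁] k') {a : K₁} (ha : P₁.1 a ≤ 1) :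
    ∃ m : k₁[X], m.Monic ∧ (m.map (algebraMap k₁ k')).Splits ∧ P₁.1 (aeval a m) < 1 := by
  haveI hfd : FiniteDimensional k₁ (IsLocalRing.ResidueField P₁.O) :=
    Place.finiteDimensional_residueField hK₁ P₁
  have hall : ∀ β : IsLocalRing.ResidueField P₁.O, IsIntegral k₁ β := fun β =>
    @IsIntegral.of_finite k₁ _ _ _ _ hfd β
  set z : P₁.O := ⟨a, (Place.mem_O_iff P₁ a).2 ha⟩ with hz
  set β := IsLocalRing.residue P₁.O z with hβ
  have hint : IsIntegral k₁ β := hall β
  refine ⟨minpoly k₁ β, minpoly.monic hint, ?_, ?_⟩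
  · have h1 : minpoly k₁ (ι β) = minpoly k₁ β := minpoly.algHom_eq ι ι.injective β
    rw [← h1]
    exact Normal.splits inferInstance (ι β)
  · have := (val_aeval_lt_one_iff P₁ z (minpoly k₁ β)).2 (minpoly.aeval k₁ β)
    exact this

/-- a polynomial whose splitting forces the residue field to embed -/
theorem exists_poly_place (hK₁ : IsFunctionField k₁ K₁) (P₁ : Place k₁ K₁) :
    ∃ f : k₁[X], f ≠ 0 ∧ ∀ (k' : Type u) [Field k'] [Algebra k₁ k'],
      (f.map (algebraMap k₁ k')).Splits →
        Nonempty (IsLocalRing.ResidueField P₁.O →ₐ[k₁] k') := by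
  classical
  have hfd : FiniteDimensional k₁ (IsLocalRing.ResidueField P₁.O) :=
    Place.finiteDimensional_residueField hK₁ P₁
  have hall : ∀ β : IsLocalRing.ResidueField P₁.O, IsIntegral k₁ β := fun β =>
    @IsIntegral.of_finite k₁ _ _ _ _ hfd β
  obtain ⟨s, hs⟩ := hfd.1
  refine ⟨∏ β ∈ s, minpoly k₁ β, ?_, ?_⟩
  · rw [Finset.prod_ne_zero_iff]
    exact fun β _ => minpoly.ne_zero (hall β)
  · intro k' _ _ hsplit
    have hS : IntermediateField.adjoin k₁ (s : Set (IsLocalRing.ResidueField P₁.O)) = ⊤ := by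
      rw [eq_top_iff]
      intro x _
      have hx : x ∈ Submodule.span k₁ (s : Set (IsLocalRing.ResidueField P₁.O)) := by
        rw [hs]; trivial
      have hle : Submodule.span k₁ (s : Set (IsLocalRing.ResidueField P₁.O)) ≤
          Subalgebra.toSubmodule (IntermediateField.adjoin k₁
            (s : Set (IsLocalRing.ResidueField P₁.O))).toSubalgebra := by
        rw [Submodule.span_le]
        exact IntermediateField.subset_adjoin k₁ _
      exact hle hx
    refine IntermediateField.nonempty_algHom_of_adjoin_splits (fun β hβ => ⟨hall β, ?_⟩) hS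
    have hdvd : minpoly k₁ β ∣ ∏ β ∈ s, minpoly k₁ β := Finset.dvd_prod_of_mem _ hβ
    have hne : (∏ β ∈ s, minpoly k₁ β).map (algebraMap k₁ k') ≠ 0 := by
      rw [Polynomial.map_ne_zero_iff (algebraMap k₁ k').injective, Finset.prod_ne_zero_iff]
      exact fun β _ => minpoly.ne_zero (hall β)
    exact hsplit.of_dvd hne (Polynomial.map_dvd _ hdvd)

end fixed

end Groth.Agent.Helper27.Sx
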