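import Mathlib
import Groth.Agent.Lib.Helper27.SxG

set_option autoImplicit false

namespace Groth.Agent.Helper27.Sx

open FunFld TensorProduct Groth.Agent.Helper16.FF Polynomial
open scoped WithZero

universe u v

theorem exists_splitting {k₁ : Type u} [Field k₁] (F : k₁[X]) :
    ∃ (k' : Type u) (_ : Field k') (_ : Algebra k₁ k'), Normal k₁ k' ∧ FiniteDimensional k₁ k' ∧
      (F.map (algebraMap k₁ k')).Splits :=
  ⟨F.SplittingField, inferInstance, inferInstance, Normal.of_isSplittingField F,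
    Polynomial.IsSplittingField.finiteDimensional _ F, Polynomial.SplittingField.splits F⟩

theorem main12591 (k : Type u) (K : Type v) [Field k] [Field K] [Algebra k K]
    (hK : FunFld.IsFunctionField k K) (hg : FunFld.IsGeometric k K) (P : FunFld.Place k K) :
    ∃ (k' : Type u) (_ : Field k') (_ : Algebra k k'), FiniteDimensional k k' ∧
      ∀ (K' : Type v) [Field K'] [Algebra K K'] [Algebra k' K'] [Algebra k K']
        [IsScalarTower k k' K'] [IsScalarTower k K K'],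
        Function.Bijective (Algebra.TensorProduct.productMap
          (IsScalarTower.toAlgHom k k' K') (IsScalarTower.toAlgHom k K K')) →
        ∀ Q : FunFld.Place k' K', P.1.HasExtension Q.1 → Q.deg = 1 := by
  classical
  obtain ⟨k₁, _, _, hfd₁, hpi₁, hns⟩ := main12594 k K hK hg
  haveI := hfd₁
  obtain ⟨K₁, _, _, _, _, _, _, h₁⟩ := exists_model (k := k) (k' := k₁) (K := K) hg
  obtain ⟨hK₁, hg₁⟩ := isFunctionField_and_isGeometric_scalarExt h₁ hK hg
  obtain ⟨x₀, hx₀⟩ := P.2.2 (WithZero.exp (-1 : ℤ))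
  have hx₀0 : x₀ ≠ 0 := by
    rintro rfl; rw [map_zero] at hx₀; exact WithZero.exp_ne_zero.symm hx₀
  have hx₀lt : P.1 x₀ < 1 := by
    rw [hx₀, ← WithZero.exp_zero, WithZero.exp_lt_exp]; omega
  have hx₀tr : Transcendental k x₀ :=
    Groth.Agent.Helper16.FFW.Place.transcendental_of_val_ne_one hK.1 P hx₀0 hx₀lt.ne
  have hx₀tr' : Transcendental k₁ (algebraMap K K₁ x₀) := transcendental_scalarExt hx₀tr
  have hSfin : {P₁ : Place k₁ K₁ | P₁.1 (algebraMap K K₁ x₀) < 1}.Finite :=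
    finite_zeros hK₁ hx₀tr'
  obtain ⟨S, hSdef⟩ : ∃ S : Finset (Place k₁ K₁), S = hSfin.toFinset := ⟨_, rfl⟩
  have hS : ∀ P₁, P₁ ∈ S ↔ P₁.1 (algebraMap K K₁ x₀) < 1 := fun P₁ => by
    rw [hSdef, Set.Finite.mem_toFinset]; rfl
  choose f hf0 hfemb using fun P₁ : Place k₁ K₁ => exists_poly_place hK₁ P₁
  set F : k₁[X] := ∏ P₁ ∈ S, f P₁ with hF
  have hF0 : F ≠ 0 := Finset.prod_ne_zero_iff.2 (fun P₁ _ => hf0 P₁)
  obtain ⟨k', _, _, hnorm, hfdk', hFsplit⟩ := exists_splitting F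
  haveI := hnorm
  haveI := hfdk'
  letI : Algebra k k' := ((algebraMap k₁ k').comp (algebraMap k k₁)).toAlgebra
  haveI : IsScalarTower k k₁ k' := .of_algebraMap_eq (fun _ => rfl)
  haveI : FiniteDimensional k k' := Module.Finite.trans k₁ k'
  have hstar : ∀ P₁ ∈ S, ∀ a : K₁, P₁.1 a ≤ 1 → ∃ m : k₁[X], m.Monic ∧
      (m.map (algebraMap k₁ k')).Splits ∧ P₁.1 (aeval a m) < 1 := by
    intro P₁ hP₁ a ha
    have hsp : ((f P₁).map (algebraMap k₁ k')).Splits := by
      have hdvd : f P₁ ∣ F := Finset.dvd_prod_of_mem _ hP₁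
      exact hFsplit.of_dvd ((Polynomial.map_ne_zero_iff (algebraMap k₁ k').injective).2 hF0)
        (Polynomial.map_dvd _ hdvd)
    obtain ⟨ι⟩ := hfemb P₁ k' hsp
    exact exists_poly hK₁ P₁ ι ha
  refine ⟨k', inferInstance, inferInstance, inferInstance, ?_⟩
  intro K' _ _ _ _ _ _ h' Q hext
  haveI := hext
  obtain ⟨K₁', _, _, _, _, _, _, _, _, _, _, _, h1', h2'⟩ :=
    exists_intermediate (k := k) (k' := k₁) (k'' := k') (K := K) (K'' := K') h' hg
  obtain ⟨hK₁', hg₁'⟩ := isFunctionField_and_isGeometric_scalarExt h1' hK hg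
  haveI : FiniteDimensional K₁' K' := finite_scalarExt h2'
  obtain ⟨Q₁, e, he⟩ := Groth.Agent.Helper16.FFW.exists_isOverWith (K := K₁') (K' := K') hK₁'.1
    (Zt.toK Q : Place k₁ K')
  have hepos := Groth.Agent.Helper16.FFW.isOverWith_pos he
  have heQ : ∀ y : K₁', Q.1 (algebraMap K₁' K' y) = Q₁.1 y ^ e := he
  let φ : K₁' ≃ₐ[k₁] K₁ := (scalarExtEquiv h1').symm.trans (scalarExtEquiv h₁)
  have hφK : ∀ x : K, φ (algebraMap K K₁' x) = algebraMap K K₁ x := by
    intro x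
    have h3 : (scalarExtEquiv h1').symm (algebraMap K K₁' x) = (1 : k₁) ⊗ₜ[k] x := by
      rw [AlgEquiv.symm_apply_eq, scalarExtEquiv_tmul, map_one, one_mul]
    show (scalarExtEquiv h₁) ((scalarExtEquiv h1').symm (algebraMap K K₁' x)) = _
    rw [h3, scalarExtEquiv_tmul, map_one, one_mul]
  let P₁ : Place k₁ K₁ := ⟨Q₁.1.comap (φ.symm : K₁ →+* K₁'), fun c => by
      show Q₁.1 (φ.symm (algebraMap k₁ K₁ c)) ≤ 1
      rw [φ.symm.commutes]; exact Q₁.2.1 c, fun γ => by
      obtain ⟨x, hx⟩ := Q₁.2.2 γ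
      exact ⟨φ x, by show Q₁.1 (φ.symm (φ x)) = γ; rw [φ.symm_apply_apply]; exact hx⟩⟩
  have hP₁ : ∀ y : K₁', P₁.1 (φ y) = Q₁.1 y := fun y => by
    show Q₁.1 (φ.symm (φ y)) = _
    rw [φ.symm_apply_apply]
  have hQK : ∀ x : K, Q.1 (algebraMap K K' x) < 1 ↔ P.1 x < 1 := by
    intro x
    have := (Valuation.HasExtension.val_isEquiv_comap (vR := P.1) (vA := Q.1)).lt_one_iff_lt_one
      (x := x)
    exact this.symm
  have hP₁S : P₁ ∈ S := by
    rw [hS, ← hφK, hP₁]
    have h4 : Q.1 (algebraMap K₁' K' (algebraMap K K₁' x₀)) = Q₁.1 (algebraMap K K₁' x₀) ^ e :=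
      heQ _
    rw [← IsScalarTower.algebraMap_apply K K₁' K'] at h4
    have h5 := (hQK x₀).2 hx₀lt
    rw [h4] at h5
    exact (pow_lt_one_iff hepos.ne').1 h5
  have hcong : ∀ a' : K₁', Q₁.1 a' ≤ 1 →
      ∃ c : k', Q.1 (algebraMap K₁' K' a' - algebraMap k' K' c) < 1 := by
    intro a' ha'
    obtain ⟨m, hmon, hsplit, hval⟩ := hstar P₁ hP₁S (φ a') (by rw [hP₁]; exact ha')
    have h6 : aeval (φ a') m = φ (aeval a' m) :=
      Polynomial.aeval_algHom_apply (φ : K₁' →ₐ[k₁] K₁) a' m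
    rw [h6, hP₁] at hval
    have h7 : Q.1 (aeval (algebraMap K₁' K' a') m) < 1 := by
      rw [Polynomial.aeval_algebraMap_apply, heQ]
      exact pow_lt_one' hval hepos.ne'
    have h8 : aeval (algebraMap K₁' K' a') (m.map (algebraMap k₁ k')) =
        aeval (algebraMap K₁' K' a') m := Polynomial.aeval_map_algebraMap k' _ m
    have hle : Q.1 (algebraMap K₁' K' a') ≤ 1 := by
      rw [heQ]; exact pow_le_one' ha' e
    exact exists_const_of_splits Q hle
      ((Polynomial.map_ne_zero_iff (algebraMap k₁ k').injective).2 hmon.ne_zero) hsplit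
      (by rw [h8]; exact h7)
  have hnsQ₁ := hns K₁' h1' Q₁ k' K' h2'
  letI aO : Algebra Q₁.O K' := ((algebraMap K₁' K').comp (algebraMap Q₁.O K₁')).toAlgebra
  haveI : IsScalarTower Q₁.O K₁' K' := .of_algebraMap_eq (fun _ => rfl)
  rw [Trn.bridge Q₁.O (Set.range (algebraMap k' K'))] at hnsQ₁
  apply Frob.deg_eq_one_of_forall Q
  intro z hz
  have hQP : IsOver (Zt.toK Q : Place k₁ K') Q₁ := ⟨e, he⟩
  obtain ⟨r, hrz, hrint⟩ := Cg.exists_integral_approx hK₁' Q₁ (Zt.toK Q : Place k₁ K') hQP z hz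
  have hrR : r ∈ integralClosure Q₁.O K' := (Nrm.mem_S_iff Q₁ hK₁' r).2 hrint
  rw [hnsQ₁] at hrR
  have key : ∀ y ∈ Algebra.adjoin Q₁.O (Set.range (algebraMap k' K')),
      Q.1 y ≤ 1 ∧ ∃ c : k', Q.1 (y - algebraMap k' K' c) < 1 := by
    intro y hy
    induction hy using Algebra.adjoin_induction with
    | mem y hy =>
      obtain ⟨c, rfl⟩ := hy
      exact ⟨Q.2.1 c, c, by rw [sub_self, map_zero]; exact zero_lt_one⟩
    | algebraMap a =>
      have : algebraMap Q₁.O K' a = algebraMap K₁' K' (a : K₁') := rfl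
      rw [this]
      refine ⟨?_, hcong _ ((Place.mem_O_iff Q₁ _).1 a.2)⟩
      rw [heQ]
      exact pow_le_one' ((Place.mem_O_iff Q₁ _).1 a.2) e
    | add x y _ _ hx hy =>
      obtain ⟨hx1, c, hc⟩ := hx
      obtain ⟨hy1, d, hd⟩ := hy
      refine ⟨(Q.1.map_add _ _).trans (max_le hx1 hy1), c + d, ?_⟩
      have : x + y - algebraMap k' K' (c + d) =
          (x - algebraMap k' K' c) + (y - algebraMap k' K' d) := by rw [map_add]; ring
      rw [this]
      exact Valuation.map_add_lt _ hc hd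
    | mul x y _ _ hx hy =>
      obtain ⟨hx1, c, hc⟩ := hx
      obtain ⟨hy1, d, hd⟩ := hy
      refine ⟨by rw [map_mul]; exact mul_le_one' hx1 hy1, c * d, ?_⟩
      have : x * y - algebraMap k' K' (c * d) =
          (x - algebraMap k' K' c) * y + algebraMap k' K' c * (y - algebraMap k' K' d) := by
        rw [map_mul]; ring
      rw [this]
      refine Valuation.map_add_lt _ ?_ ?_
      · rw [map_mul]
        exact lt_of_le_of_lt (mul_le_of_le_one_right' hy1) hc
      · rw [map_mul]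
        exact lt_of_le_of_lt (mul_le_of_le_one_left' (Q.2.1 c)) hd
  obtain ⟨-, c, hc⟩ := key r hrR
  refine ⟨c, ?_⟩
  have : z - algebraMap k' K' c = (r - algebraMap k' K' c) - (r - z) := by ring
  rw [this]
  exact Valuation.map_sub_lt _ hc hrz

end Groth.Agent.Helper27.Sx
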