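import Mathlib
import Groth.Agent.Lib.Helper27.SxH

set_option autoImplicit false

namespace Groth.Agent.Helper27.Sy

open FunFld TensorProduct Groth.Agent.Helper16.FF Polynomial
open scoped WithZero

universe u v

section field
variable (F E : Type*) [Field F] [Field E] [Algebra F E] [FiniteDimensional F E]

/-- the `[E:F]_i`-th power of any element is separable -/
theorem isSeparable_pow_finInsepDegree (β : E) :
    IsSeparable F (β ^ Field.finInsepDegree F E) := by
  obtain ⟨q, hq⟩ := ExpChar.exists F
  haveI := hq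
  obtain ⟨m, hm⟩ := finInsepDegree_eq_pow (F := F) (E := E) q
  haveI : ExpChar (separableClosure F E) q := expChar_of_injective_algebraMap
    (algebraMap F (separableClosure F E)).injective q
  obtain ⟨n, y, hy⟩ := IsPurelyInseparable.minpoly_eq_X_pow_sub_C (separableClosure F E) q β
  have hdeg : (minpoly (separableClosure F E) β).natDegree = q ^ n := by
    rw [hy]
    exact natDegree_X_pow_sub_C
  have hdvd : q ^ n ∣ q ^ m := by
    rw [← hdeg, ← hm]
    exact minpoly.degree_dvd (Algebra.IsIntegral.isIntegral β)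
  obtain ⟨j, hj⟩ := hdvd
  have hβ : β ^ q ^ n = (y : E) := by
    have h1 := minpoly.aeval (separableClosure F E) β
    rw [hy, map_sub, map_pow, aeval_X, aeval_C, sub_eq_zero] at h1
    exact h1
  rw [← mem_separableClosure_iff, hm, hj, pow_mul, hβ]
  exact pow_mem y.2 j

end field

section place
variable {k K : Type*} [Field k] [Field K] [Algebra k K]

theorem val_const (Q : Place k K) {c : k} (hc : c ≠ 0) : Q.1 (algebraMap k K c) = 1 :=
  Frob.val_const Q hc

theorem exists_const_of_deg_one (Q : Place k K) (hdeg : Q.deg = 1) {z : K} (hz : Q.1 z ≤ 1) :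
    ∃ c : k, Q.1 (z - algebraMap k K c) < 1 := by
  have h1 : ∀ w : IsLocalRing.ResidueField Q.O, ∃ c : k, c • (1 : IsLocalRing.ResidueField Q.O) = w :=
    (finrank_eq_one_iff_of_nonzero' (1 : IsLocalRing.ResidueField Q.O) one_ne_zero).1 hdeg
  obtain ⟨c, hc⟩ := h1 (IsLocalRing.residue Q.O ⟨z, (Place.mem_O_iff Q z).2 hz⟩)
  refine ⟨c, ?_⟩
  have h3 : IsLocalRing.residue Q.O (⟨z, (Place.mem_O_iff Q z).2 hz⟩ - algebraMap k Q.O c) = 0 := by
    rw [map_sub, sub_eq_zero, ← hc, Algebra.smul_def, mul_one]
    rfl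
  rw [Groth.Agent.Helper16.FFW.Place.residue_eq_zero_iff] at h3
  exact h3

theorem const_unique (Q : Place k K) {z : K} {c d : k}
    (hc : Q.1 (z - algebraMap k K c) < 1) (hd : Q.1 (z - algebraMap k K d) < 1) : c = d := by
  by_contra hne
  have h1 : Q.1 (algebraMap k K (c - d)) = 1 := val_const Q (sub_ne_zero.2 hne)
  have h2 : algebraMap k K (c - d) = (z - algebraMap k K d) - (z - algebraMap k K c) := by
    rw [map_sub]; ring
  rw [h2] at h1
  have h3 := Valuation.map_sub_lt Q.1 hd hc
  rw [h1] at h3
  exact lt_irrefl _ h3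

end place

end Groth.Agent.Helper27.Sy
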