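import Mathlib
import Groth.Agent.Lib.Helper27.SyA

set_option autoImplicit false

namespace Groth.Agent.Helper27.Sy

open FunFld TensorProduct Groth.Agent.Helper16.FF Polynomial
open scoped WithZero

universe u v

variable {k k' : Type u} {K K' : Type v} [Field k] [Field k'] [Field K] [Field K']
  [Algebra k k'] [Algebra k K] [Algebra K K'] [Algebra k' K'] [Algebra k K']
  [IsScalarTower k k' K'] [IsScalarTower k K K']

/-- `Q` lies above `P` (in the form of the statement) -/
def Above (P : Place k K) (Q : Place k' K') : Prop :=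
  ∃ e : ℕ, ∀ z : K, Q.1 (algebraMap K K' z) = P.1 z ^ e

theorem Above.exists_pos {P : Place k K} {Q : Place k' K'} (hT : Above P Q) :
    ∃ e : ℕ, e ≠ 0 ∧ ∀ z : K, Q.1 (algebraMap K K' z) = P.1 z ^ e := by
  obtain ⟨e, he⟩ := hT
  refine ⟨e, ?_, he⟩
  rintro rfl
  have := he 0
  rw [map_zero, map_zero, pow_zero] at this
  exact zero_ne_one this

theorem Above.le_one {P : Place k K} {Q : Place k' K'} (hT : Above P Q) {z : K}
    (hz : P.1 z ≤ 1) : Q.1 (algebraMap K K' z) ≤ 1 := by
  obtain ⟨e, he⟩ := hT
  rw [he]; exact pow_le_one' hz e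

theorem Above.lt_one {P : Place k K} {Q : Place k' K'} (hT : Above P Q) {z : K}
    (hz : P.1 z < 1) : Q.1 (algebraMap K K' z) < 1 := by
  obtain ⟨e, he0, he⟩ := hT.exists_pos
  rw [he]; exact pow_lt_one' hz he0

open Classical in
/-- the constant congruent to `z` modulo `Q` -/
noncomputable def tau (Q : Place k' K') (hdeg : Q.deg = 1) (z : K) : k' :=
  if h : Q.1 (algebraMap K K' z) ≤ 1 then Classical.choose (exists_const_of_deg_one Q hdeg h)
  else 0

theorem tau_spec (Q : Place k' K') (hdeg : Q.deg = 1) {z : K}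
    (hz : Q.1 (algebraMap K K' z) ≤ 1) :
    Q.1 (algebraMap K K' z - algebraMap k' K' (tau Q hdeg z)) < 1 := by
  unfold tau
  rw [dif_pos hz]
  exact Classical.choose_spec (exists_const_of_deg_one Q hdeg hz)

theorem tau_eq (Q : Place k' K') (hdeg : Q.deg = 1) {z : K} {c : k'}
    (hc : Q.1 (algebraMap K K' z - algebraMap k' K' c) < 1) : tau Q hdeg z = c := by
  have hz : Q.1 (algebraMap K K' z) ≤ 1 := by
    have : algebraMap K K' z = (algebraMap K K' z - algebraMap k' K' c) + algebraMap k' K' c := by
      ring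
    rw [this]
    exact (Q.1.map_add _ _).trans (max_le hc.le (Q.2.1 c))
  exact const_unique Q (tau_spec Q hdeg hz) hc

variable (P : Place k K) (Q : Place k' K') (hT : Above P Q) (hdeg : Q.deg = 1)

include hT in
theorem tau_add {x y : K} (hx : P.1 x ≤ 1) (hy : P.1 y ≤ 1) :
    tau Q hdeg (x + y) = tau Q hdeg x + tau Q hdeg y := by
  apply tau_eq
  have h1 := tau_spec Q hdeg (hT.le_one hx)
  have h2 := tau_spec Q hdeg (hT.le_one hy)
  have : algebraMap K K' (x + y) - algebraMap k' K' (tau Q hdeg x + tau Q hdeg y) =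
      (algebraMap K K' x - algebraMap k' K' (tau Q hdeg x)) +
        (algebraMap K K' y - algebraMap k' K' (tau Q hdeg y)) := by
    rw [map_add, map_add]; ring
  rw [this]
  exact Valuation.map_add_lt _ h1 h2

include hT in
theorem tau_mul {x y : K} (hx : P.1 x ≤ 1) (hy : P.1 y ≤ 1) :
    tau Q hdeg (x * y) = tau Q hdeg x * tau Q hdeg y := by
  apply tau_eq
  have h1 := tau_spec Q hdeg (hT.le_one hx)
  have h2 := tau_spec Q hdeg (hT.le_one hy)
  have : algebraMap K K' (x * y) - algebraMap k' K' (tau Q hdeg x * tau Q hdeg y) =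
      (algebraMap K K' x - algebraMap k' K' (tau Q hdeg x)) * algebraMap K K' y +
        algebraMap k' K' (tau Q hdeg x) *
          (algebraMap K K' y - algebraMap k' K' (tau Q hdeg y)) := by
    rw [map_mul, map_mul]; ring
  rw [this]
  refine Valuation.map_add_lt _ ?_ ?_
  · rw [map_mul]
    exact lt_of_le_of_lt (mul_le_of_le_one_right' (hT.le_one hy)) h1
  · rw [map_mul]
    exact lt_of_le_of_lt (mul_le_of_le_one_left' (Q.2.1 _)) h2

theorem tau_algebraMap (c : k) : tau Q hdeg (algebraMap k K c) = algebraMap k k' c := by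
  apply tau_eq
  rw [← IsScalarTower.algebraMap_apply k K K', ← IsScalarTower.algebraMap_apply k k' K', sub_self,
    map_zero]
  exact zero_lt_one

include hT in
theorem tau_of_lt {x : K} (hx : P.1 x < 1) : tau Q hdeg x = 0 := by
  apply tau_eq
  rw [map_zero, sub_zero]
  exact hT.lt_one hx

/-- the ring homomorphism `O_P → k'` -/
noncomputable def tauHom : P.O →+* k' where
  toFun a := tau Q hdeg (a : K)
  map_one' := by
    have := tau_algebraMap (K := K) Q hdeg (1 : k)
    rw [map_one, map_one] at this
    exact this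
  map_mul' a b := tau_mul P Q hT hdeg ((Place.mem_O_iff P _).1 a.2) ((Place.mem_O_iff P _).1 b.2)
  map_zero' := by
    have := tau_algebraMap (K := K) Q hdeg (0 : k)
    rw [map_zero, map_zero] at this
    exact this
  map_add' a b := tau_add P Q hT hdeg ((Place.mem_O_iff P _).1 a.2) ((Place.mem_O_iff P _).1 b.2)

/-- the embedding of the residue field into `k'` -/
noncomputable def sigma : IsLocalRing.ResidueField P.O →ₐ[k] k' :=
  { (Ideal.Quotient.lift (IsLocalRing.maximalIdeal P.O) (tauHom P Q hT hdeg) (fun a ha => by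
      show tau Q hdeg (a : K) = 0
      exact tau_of_lt P Q hT hdeg ((Valuation.mem_maximalIdeal_iff _ _).1 ha)) :
      IsLocalRing.ResidueField P.O →+* k') with
    commutes' := fun c => tau_algebraMap (K := K) Q hdeg c }

theorem sigma_residue (a : P.O) :
    sigma P Q hT hdeg (IsLocalRing.residue P.O a) = tau Q hdeg (a : K) := rfl

end Groth.Agent.Helper27.Sy
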