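import Mathlib
import Groth.Agent.Lib.Helper27.SyB
import Groth.Agent.Lib.Helper27.InrA

set_option autoImplicit false

namespace Groth.Agent.Helper27.Sy

open FunFld TensorProduct Groth.Agent.Helper16.FF Polynomial
open scoped WithZero

universe u v

variable {k k' : Type u} {K K' : Type v} [Field k] [Field k'] [Field K] [Field K']
  [Algebra k k'] [Algebra k K] [Algebra K K'] [Algebra k' K'] [Algebra k K']
  [IsScalarTower k k' K'] [IsScalarTower k K K']

section coord
variable (P : Place k K) (Q : Place k' K') (hT : Above P Q) (hdeg : Q.deg = 1)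

include hT in
theorem val_sub_coord_lt
    (h : Function.Bijective (Algebra.TensorProduct.productMap
      (IsScalarTower.toAlgHom k k' K') (IsScalarTower.toAlgHom k K K')))
    {ι : Type*} [Fintype ι] (b : Module.Basis ι k k') {r : K'}
    (hr : ∀ i, P.1 ((Cf.basisK h b).repr r i) ≤ 1) :
    Q.1 (r - algebraMap k' K' (∑ i, tau Q hdeg ((Cf.basisK h b).repr r i) * b i)) < 1 := by
  have hsum : r = ∑ i, algebraMap K K' ((Cf.basisK h b).repr r i) * algebraMap k' K' (b i) := by
    conv_lhs => rw [← (Cf.basisK h b).sum_repr r]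
    refine Finset.sum_congr rfl fun i _ => ?_
    rw [Cf.basisK_apply, Algebra.smul_def]
  suffices H : ∀ a : ι → K, (∀ i, P.1 (a i) ≤ 1) →
      r = ∑ i, algebraMap K K' (a i) * algebraMap k' K' (b i) →
      Q.1 (r - algebraMap k' K' (∑ i, tau Q hdeg (a i) * b i)) < 1 from H _ hr hsum
  intro a ha hra
  have hdiff : r - algebraMap k' K' (∑ i, tau Q hdeg (a i) * b i) =
      ∑ i, (algebraMap K K' (a i) - algebraMap k' K' (tau Q hdeg (a i))) *
        algebraMap k' K' (b i) := by
    rw [map_sum, hra, ← Finset.sum_sub_distrib]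
    refine Finset.sum_congr rfl fun i _ => ?_
    rw [map_mul]; ring
  rw [hdiff]
  apply Valuation.map_sum_lt _ one_ne_zero
  intro i _
  rw [map_mul]
  exact lt_of_le_of_lt (mul_le_of_le_one_right' (Q.2.1 _)) (tau_spec Q hdeg (hT.le_one (ha i)))

end coord

section inj
variable (P : Place k K) [Algebra P.O K'] [IsScalarTower P.O K K']

theorem above_iff_isOver (Q : Place k' K') :
    Above P Q ↔ IsOver (Zt.toK Q : Place k K') P := Iff.rfl

theorem eq_of_sigma_eq [FiniteDimensional k k']
    (h : Function.Bijective (Algebra.TensorProduct.productMap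
      (IsScalarTower.toAlgHom k k' K') (IsScalarTower.toAlgHom k K K')))
    (hK : IsFunctionField k K)
    (hnsP : integralClosure P.O K' = Algebra.adjoin P.O (Set.range (algebraMap k' K')))
    {Q Q' : Place k' K'} (hT : Above P Q) (hT' : Above P Q') (hdeg : Q.deg = 1)
    (hdeg' : Q'.deg = 1) (hσ : sigma P Q hT hdeg = sigma P Q' hT' hdeg') : Q = Q' := by
  classical
  by_contra hne
  haveI : FiniteDimensional K K' := finite_scalarExt h
  have hfin : {Q₀ : Place k K' | IsOver Q₀ P}.Finite :=
    (Groth.Agent.Helper16.FFW.sum_ramIdx_mul_deg (K' := K') hK P).1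
  obtain ⟨r, hr1, hr2⟩ := Inr.exists_approx_strict P hfin (Zt.toK Q : Place k K') hT 1
  have hr1' : Q.1 (r - 1) < 1 := hr1
  have hne' : (Zt.toK Q' : Place k K') ≠ Zt.toK Q := fun h' => hne (Zt.toK_injective h').symm
  have hrQ' : Q'.1 r < 1 := hr2 (Zt.toK Q') hT' hne'
  have hrint : ∀ Q₀ : Place k K', IsOver Q₀ P → Q₀.1 r ≤ 1 := by
    intro Q₀ hQ₀
    by_cases hQ₀Q : Q₀ = Zt.toK Q
    · subst hQ₀Q
      have : r = (r - 1) + 1 := by ring
      rw [this]
      refine (Valuation.map_add _ _ _).trans (max_le hr1.le ?_)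
      rw [map_one]
    · exact (hr2 Q₀ hQ₀ hQ₀Q).le
  have hrA : r ∈ Algebra.adjoin P.O (Set.range (algebraMap k' K')) := by
    rw [← hnsP]
    exact (Nrm.mem_S_iff P hK r).2 hrint
  let b := Module.finBasis k k'
  rw [Cf.mem_adjoin_iff P h b] at hrA
  have h1 := val_sub_coord_lt P Q hT hdeg h b hrA
  have h2 := val_sub_coord_lt P Q' hT' hdeg' h b hrA
  have htau : ∀ i, tau Q hdeg ((Cf.basisK h b).repr r i) =
      tau Q' hdeg' ((Cf.basisK h b).repr r i) := by
    intro i
    have := congrArg (fun s => s (IsLocalRing.residue P.O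
      ⟨(Cf.basisK h b).repr r i, (Place.mem_O_iff P _).2 (hrA i)⟩)) hσ
    simpa only [sigma_residue] using this
  simp only [htau] at h1
  set c := ∑ i, tau Q' hdeg' ((Cf.basisK h b).repr r i) * b i with hc
  have hc0 : c = 0 := by
    by_contra hc0
    have h3 : Q'.1 (algebraMap k' K' c) = 1 := val_const Q' hc0
    have h4 : algebraMap k' K' c = r - (r - algebraMap k' K' c) := by ring
    rw [h4] at h3
    have h5 := Valuation.map_sub_lt Q'.1 hrQ' h2
    rw [h3] at h5
    exact lt_irrefl _ h5
  rw [hc0, map_zero, sub_zero] at h1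
  have h6 : Q.1 (1 : K') < 1 := by
    have : (1 : K') = r - (r - 1) := by ring
    rw [this]
    exact Valuation.map_sub_lt Q.1 h1 hr1'
  rw [map_one] at h6
  exact lt_irrefl _ h6

end inj

end Groth.Agent.Helper27.Sy
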