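import Mathlib
import Groth.Agent.Lib.Helper27.SyC

set_option autoImplicit false

namespace Groth.Agent.Helper27.Sy

open FunFld TensorProduct Groth.Agent.Helper16.FF Polynomial
open scoped WithZero

universe u v

variable {k k' : Type u} {K K' : Type v} [Field k] [Field k'] [Field K] [Field K']
  [Algebra k k'] [Algebra k K] [Algebra K K'] [Algebra k' K'] [Algebra k K']
  [IsScalarTower k k' K'] [IsScalarTower k K K']

theorem finite_above [FiniteDimensional k k']
    (h : Function.Bijective (Algebra.TensorProduct.productMap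
      (IsScalarTower.toAlgHom k k' K') (IsScalarTower.toAlgHom k K K')))
    (hK : IsFunctionField k K) (P : Place k K) : {Q : Place k' K' | Above P Q}.Finite := by
  haveI : FiniteDimensional K K' := finite_scalarExt h
  have hfin : {Q₀ : Place k K' | IsOver Q₀ P}.Finite :=
    (Groth.Agent.Helper16.FFW.sum_ramIdx_mul_deg (K' := K') hK P).1
  have heq : {Q : Place k' K' | Above P Q} =
      (Zt.toK : Place k' K' → Place k K') ⁻¹' {Q₀ : Place k K' | IsOver Q₀ P} := rfl
  rw [heq]
  exact hfin.preimage (Zt.toK_injective (k := k) (k' := k') (K' := K')).injOn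

theorem ncard_le [FiniteDimensional k k']
    (h : Function.Bijective (Algebra.TensorProduct.productMap
      (IsScalarTower.toAlgHom k k' K') (IsScalarTower.toAlgHom k K K')))
    (hK : IsFunctionField k K) (P : Place k K) [Algebra P.O K'] [IsScalarTower P.O K K']
    (hnsP : integralClosure P.O K' = Algebra.adjoin P.O (Set.range (algebraMap k' K')))
    (hsplit : ∀ Q : Place k' K', Above P Q → Q.deg = 1) :
    {Q : Place k' K' | Above P Q}.ncard ≤
      Field.finSepDegree k (IsLocalRing.ResidueField P.O) := by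
  classical
  have hfd : FiniteDimensional k (IsLocalRing.ResidueField P.O) :=
    Place.finiteDimensional_residueField hK P
  haveI : Algebra.IsAlgebraic k (IsLocalRing.ResidueField P.O) :=
    ⟨fun β => (@IsIntegral.of_finite k _ _ _ _ hfd β).isAlgebraic⟩
  rw [Field.finSepDegree_eq_of_isAlgClosed k (IsLocalRing.ResidueField P.O)
    (AlgebraicClosure k')]
  let Φ : {Q : Place k' K' | Above P Q} →
      (IsLocalRing.ResidueField P.O →ₐ[k] AlgebraicClosure k') := fun Q =>
    (IsScalarTower.toAlgHom k k' (AlgebraicClosure k')).comp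
      (sigma P Q.1 Q.2 (hsplit Q.1 Q.2))
  have hΦ : Function.Injective Φ := by
    intro Q Q' hQQ'
    apply Subtype.ext
    apply eq_of_sigma_eq P h hK hnsP Q.2 Q'.2 (hsplit _ Q.2) (hsplit _ Q'.2)
    apply AlgHom.ext
    intro x
    have := congrArg (fun s => s x) hQQ'
    exact (algebraMap k' (AlgebraicClosure k')).injective this
  haveI : Finite (IsLocalRing.ResidueField P.O →ₐ[k] AlgebraicClosure k') :=
    @Finite.algHom k (IsLocalRing.ResidueField P.O) (AlgebraicClosure k') _ _ _ _ hfd _ _ _
  rw [← Nat.card_coe_set_eq]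
  exact Nat.card_le_card_of_injective Φ hΦ

theorem sum_ramIdx_eq [FiniteDimensional k k']
    (h : Function.Bijective (Algebra.TensorProduct.productMap
      (IsScalarTower.toAlgHom k k' K') (IsScalarTower.toAlgHom k K K')))
    (hK : IsFunctionField k K) (P : Place k K)
    (hsplit : ∀ Q : Place k' K', Above P Q → Q.deg = 1)
    (Ts : Finset (Place k' K')) (hTs : ∀ Q, Q ∈ Ts ↔ Above P Q) :
    ∑ Q ∈ Ts, ramIdx (Zt.toK Q : Place k K') P = P.deg := by
  classical
  haveI : FiniteDimensional K K' := finite_scalarExt h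
  set Qs : Finset (Place k K') := Ts.image Zt.toK with hQsdef
  have hQs : ∀ Q₀, Q₀ ∈ Qs ↔ IsOver Q₀ P := by
    intro Q₀
    rw [hQsdef, Finset.mem_image]
    constructor
    · rintro ⟨Q, hQ, rfl⟩
      exact (hTs Q).1 hQ
    · intro hQ₀
      obtain ⟨Q, rfl⟩ := Zt.toK_surjective (k' := k') Q₀
      exact ⟨Q, (hTs Q).2 hQ₀, rfl⟩
  have h1 := (Groth.Agent.Helper16.FFW.sum_ramIdx_mul_deg (K' := K') hK P).2 Qs hQs
  rw [hQsdef, Finset.sum_image (fun Q _ Q' _ hQQ' => Zt.toK_injective hQQ'),
    Zt.finrank_eq h] at h1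
  have h2 : ∑ Q ∈ Ts, ramIdx (Zt.toK Q : Place k K') P * (Zt.toK Q : Place k K').deg =
      Module.finrank k k' * ∑ Q ∈ Ts, ramIdx (Zt.toK Q : Place k K') P := by
    rw [Finset.mul_sum]
    refine Finset.sum_congr rfl fun Q hQ => ?_
    rw [Zt.deg_toK, hsplit Q ((hTs Q).1 hQ), mul_one, mul_comm]
  rw [h2] at h1
  exact Nat.eq_of_mul_eq_mul_left Module.finrank_pos h1

end Groth.Agent.Helper27.Sy
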