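import Mathlib
import Groth.Agent.Lib.Helper27.SyD

set_option autoImplicit false

namespace Groth.Agent.Helper27.Sy

open FunFld TensorProduct Groth.Agent.Helper16.FF Polynomial
open scoped WithZero

universe u v

variable {k k' : Type u} {K K' : Type v} [Field k] [Field k'] [Field K] [Field K']
  [Algebra k k'] [Algebra k K] [Algebra K K'] [Algebra k' K'] [Algebra k K']
  [IsScalarTower k k' K'] [IsScalarTower k K K']

/-- at a nonsingular place, some `b - c` (`b ∈ O_P`, `c ∈ k'`) is a local parameter at `Q` -/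
theorem exists_unif_gen [FiniteDimensional k k']
    (h : Function.Bijective (Algebra.TensorProduct.productMap
      (IsScalarTower.toAlgHom k k' K') (IsScalarTower.toAlgHom k K K')))
    (hK : IsFunctionField k K) (P : Place k K) [Algebra P.O K'] [IsScalarTower P.O K K']
    (hnsP : integralClosure P.O K' = Algebra.adjoin P.O (Set.range (algebraMap k' K')))
    (Q : Place k' K') (hT : Above P Q) (hdeg : Q.deg = 1) :
    ∃ b : K, P.1 b ≤ 1 ∧ ∃ c : k',
      Q.1 (algebraMap K K' b - algebraMap k' K' c) = WithZero.exp (-1 : ℤ) := by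
  classical
  haveI : FiniteDimensional K K' := finite_scalarExt h
  have hfin : {Q₀ : Place k K' | IsOver Q₀ P}.Finite :=
    (Groth.Agent.Helper16.FFW.sum_ramIdx_mul_deg (K' := K') hK P).1
  obtain ⟨Qs, hQsdef⟩ : ∃ Qs : Finset (Place k K'), Qs = hfin.toFinset := ⟨_, rfl⟩
  have hQs : ∀ Q₀, Q₀ ∈ Qs ↔ IsOver Q₀ P := fun Q₀ => by
    rw [hQsdef, Set.Finite.mem_toFinset]; rfl
  obtain ⟨u, hu⟩ := Q.2.2 (WithZero.exp (-1 : ℤ))
  obtain ⟨r, hr⟩ := Groth.Agent.Helper16.FFW.weak_approx (fun i : ↥Qs => i.1)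
    Subtype.val_injective
    (fun i => if i.1 = (Zt.toK Q : Place k K') then u else 0)
    (fun i => if i.1 = (Zt.toK Q : Place k K') then -2 else 0)
  have hQmem : (Zt.toK Q : Place k K') ∈ Qs := (hQs _).2 hT
  have hrQ : Q.1 r = WithZero.exp (-1 : ℤ) := by
    have h1 := hr ⟨_, hQmem⟩
    simp only [if_true] at h1
    have h1' : Q.1 (r - u) ≤ WithZero.exp (-2 : ℤ) := h1
    have h2 : Q.1 (r - u) < Q.1 u := by
      rw [hu]
      refine lt_of_le_of_lt h1' ?_
      rw [WithZero.exp_lt_exp]; omega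
    have : r = (r - u) + u := by ring
    rw [this, Valuation.map_add_eq_of_lt_right _ h2, hu]
  have hrint : ∀ Q₀ : Place k K', IsOver Q₀ P → Q₀.1 r ≤ 1 := by
    intro Q₀ hQ₀
    by_cases hQ₀Q : Q₀ = Zt.toK Q
    · subst hQ₀Q
      show Q.1 r ≤ 1
      rw [hrQ, ← WithZero.exp_zero, WithZero.exp_le_exp]; omega
    · have h1 := hr ⟨Q₀, (hQs _).2 hQ₀⟩
      simp only [if_neg hQ₀Q, sub_zero, WithZero.exp_zero] at h1
      exact h1
  have hrA : r ∈ Algebra.adjoin P.O (Set.range (algebraMap k' K')) := by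
    rw [← hnsP]
    exact (Nrm.mem_S_iff P hK r).2 hrint
  let b := Module.finBasis k k'
  rw [Cf.mem_adjoin_iff P h b] at hrA
  have hL := val_sub_coord_lt P Q hT hdeg h b hrA
  set c₀ := ∑ i, tau Q hdeg ((Cf.basisK h b).repr r i) * b i with hc₀
  have hrlt : Q.1 r < 1 := by
    rw [hrQ, ← WithZero.exp_zero, WithZero.exp_lt_exp]; omega
  have hc0 : c₀ = 0 := by
    by_contra hc0
    have h3 : Q.1 (algebraMap k' K' c₀) = 1 := val_const Q hc0
    have h4 : algebraMap k' K' c₀ = r - (r - algebraMap k' K' c₀) := by ring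
    rw [h4] at h3
    have h5 := Valuation.map_sub_lt Q.1 hrlt hL
    rw [h3] at h5
    exact lt_irrefl _ h5
  have hsum : r = ∑ i, algebraMap K K' ((Cf.basisK h b).repr r i) * algebraMap k' K' (b i) := by
    conv_lhs => rw [← (Cf.basisK h b).sum_repr r]
    refine Finset.sum_congr rfl fun i _ => ?_
    rw [Cf.basisK_apply, Algebra.smul_def]
  by_contra hcon
  push Not at hcon
  have hterm : ∀ i, Q.1 ((algebraMap K K' ((Cf.basisK h b).repr r i) -
      algebraMap k' K' (tau Q hdeg ((Cf.basisK h b).repr r i))) * algebraMap k' K' (b i)) <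
      WithZero.exp (-1 : ℤ) := by
    intro i
    rw [map_mul]
    refine lt_of_le_of_lt (mul_le_of_le_one_right' (Q.2.1 _)) ?_
    have h1 := tau_spec Q hdeg (hT.le_one (hrA i))
    exact lt_of_le_of_ne (lt_one_iff_le_exp_neg_one.1 h1) (hcon _ (hrA i) _)
  have hr2 : r = ∑ i, (algebraMap K K' ((Cf.basisK h b).repr r i) -
      algebraMap k' K' (tau Q hdeg ((Cf.basisK h b).repr r i))) * algebraMap k' K' (b i) := by
    have h0 : algebraMap k' K' c₀ = 0 := by rw [hc0, map_zero]
    rw [hc₀, map_sum] at h0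
    have h0' : ∑ i, algebraMap k' K' (tau Q hdeg ((Cf.basisK h b).repr r i)) *
        algebraMap k' K' (b i) = 0 := by
      rw [← h0]
      exact Finset.sum_congr rfl fun i _ => (map_mul _ _ _).symm
    calc r = ∑ i, algebraMap K K' ((Cf.basisK h b).repr r i) * algebraMap k' K' (b i) := hsum
      _ = ∑ i, algebraMap K K' ((Cf.basisK h b).repr r i) * algebraMap k' K' (b i) -
          ∑ i, algebraMap k' K' (tau Q hdeg ((Cf.basisK h b).repr r i)) *
            algebraMap k' K' (b i) := by rw [h0', sub_zero]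
      _ = _ := by
        rw [← Finset.sum_sub_distrib]
        exact Finset.sum_congr rfl fun i _ => by ring
  have hlt : Q.1 r < WithZero.exp (-1 : ℤ) := by
    rw [hr2]
    exact Valuation.map_sum_lt _ WithZero.exp_ne_zero (fun i _ => hterm i)
  rw [hrQ] at hlt
  exact lt_irrefl _ hlt

end Groth.Agent.Helper27.Sy
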