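import Mathlib
import Groth.Agent.Lib.Helper27.SyE

set_option autoImplicit false

namespace Groth.Agent.Helper27.Sy

open FunFld TensorProduct Groth.Agent.Helper16.FF Polynomial
open scoped WithZero

universe u v

theorem insep_facts (F E : Type*) [Field F] [Field E] [Algebra F E] [FiniteDimensional F E]
    (q : ℕ) [ExpChar F q] :
    (∃ m, Field.finInsepDegree F E = q ^ m) ∧
      ∀ β : E, IsSeparable F (β ^ Field.finInsepDegree F E) :=
  ⟨finInsepDegree_eq_pow (F := F) (E := E) q, isSeparable_pow_finInsepDegree F E⟩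

variable {k k' : Type u} {K K' : Type v} [Field k] [Field k'] [Field K] [Field K']
  [Algebra k k'] [Algebra k K] [Algebra K K'] [Algebra k' K'] [Algebra k K']
  [IsScalarTower k k' K'] [IsScalarTower k K K']

theorem ramIdx_le [FiniteDimensional k k']
    (h : Function.Bijective (Algebra.TensorProduct.productMap
      (IsScalarTower.toAlgHom k k' K') (IsScalarTower.toAlgHom k K K')))
    (hK : IsFunctionField k K) (P : Place k K) [Algebra P.O K'] [IsScalarTower P.O K K']
    (hnsP : integralClosure P.O K' = Algebra.adjoin P.O (Set.range (algebraMap k' K')))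
    (Q : Place k' K') (hdeg : Q.deg = 1) {e : ℕ}
    (he : ∀ z : K, Q.1 (algebraMap K K' z) = P.1 z ^ e) :
    e ≤ Field.finInsepDegree k (IsLocalRing.ResidueField P.O) := by
  classical
  have hT : Above P Q := ⟨e, he⟩
  obtain ⟨b, hb, c, hbc⟩ := exists_unif_gen h hK P hnsP Q hT hdeg
  have hfd : FiniteDimensional k (IsLocalRing.ResidueField P.O) :=
    Place.finiteDimensional_residueField hK P
  obtain ⟨q, hq⟩ := ExpChar.exists k
  haveI := hq
  obtain ⟨⟨m, hm⟩, hsepall⟩ := @insep_facts k (IsLocalRing.ResidueField P.O) _ _ _ hfd q _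
  set d := Field.finInsepDegree k (IsLocalRing.ResidueField P.O) with hd
  have hq1 : 1 ≤ q := (expChar_pos k q)
  have hd1 : 1 ≤ d := by rw [hm]; exact Nat.one_le_pow _ _ hq1
  have he0 : e ≠ 0 := by
    rintro rfl
    have := he 0
    rw [map_zero, map_zero, pow_zero] at this
    exact zero_ne_one this
  set β := IsLocalRing.residue P.O ⟨b, (Place.mem_O_iff P b).2 hb⟩ with hβ
  have hsep : IsSeparable k (β ^ d) := hsepall β
  set g := minpoly k (β ^ d) with hg
  have hgsep : g.Separable := hsep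
  have hbd : P.1 (b ^ d) ≤ 1 := by rw [map_pow]; exact pow_le_one' hb d
  have hP3 : P.1 (aeval (b ^ d) g) < 1 := by
    have h1 := (Sx.val_aeval_lt_one_iff P ⟨b ^ d, (Place.mem_O_iff P _).2 hbd⟩ g).2
    apply h1
    have h2 : IsLocalRing.residue P.O ⟨b ^ d, (Place.mem_O_iff P _).2 hbd⟩ = β ^ d := by
      rw [hβ, ← map_pow]; rfl
    rw [h2]
    exact minpoly.aeval k _
  set b' := algebraMap K K' b with hb'
  set c' := algebraMap k' K' c with hc'
  have hQ3 : Q.1 (aeval (b' ^ d) g) ≤ WithZero.exp (-(e : ℤ)) := by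
    have h1 : aeval (b' ^ d) g = algebraMap K K' (aeval (b ^ d) g) := by
      rw [hb', ← map_pow, Polynomial.aeval_algebraMap_apply]
    rw [h1, he]
    calc P.1 (aeval (b ^ d) g) ^ e ≤ (WithZero.exp (-1 : ℤ)) ^ e :=
          pow_le_pow_left' (lt_one_iff_le_exp_neg_one.1 hP3) e
      _ = WithZero.exp (-(e : ℤ)) := by
        rw [← WithZero.exp_nsmul]; congr 1; simp
  haveI : ExpChar K' q := expChar_of_injective_algebraMap (algebraMap k K').injective q
  set δ := b' ^ d - c' ^ d with hδ
  have hδeq : δ = (b' - c') ^ d := by rw [hδ, hm, sub_pow_expChar_pow]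
  have hδval : Q.1 δ = WithZero.exp (-(d : ℤ)) := by
    rw [hδeq, map_pow, hbc, ← WithZero.exp_nsmul]; congr 1; simp
  have hδlt : Q.1 δ < 1 := by
    rw [hδval, ← WithZero.exp_zero, WithZero.exp_lt_exp]; omega
  let φ₀ : k →+* Q.O := (algebraMap k' Q.O).comp (algebraMap k k')
  let f : Polynomial Q.O := g.map φ₀
  let x : Q.O := algebraMap k' Q.O (c ^ d)
  let y : Q.O := ⟨δ, (Place.mem_O_iff Q _).2 hδlt.le⟩
  obtain ⟨κ, hκ⟩ := Polynomial.binomExpansion f x y
  have hcomp : (Q.O.subtype : Q.O →+* K').comp φ₀ = algebraMap k K' := by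
    ext a
    show algebraMap k' K' (algebraMap k k' a) = algebraMap k K' a
    rw [← IsScalarTower.algebraMap_apply]
  have hcoe : ∀ z : Q.O, ((f.eval z : Q.O) : K') = aeval (z : K') g := by
    intro z
    show Q.O.subtype ((g.map φ₀).eval z) = _
    rw [Polynomial.eval_map, Polynomial.hom_eval₂, hcomp, aeval_def]
    rfl
  have hxy : ((x + y : Q.O) : K') = b' ^ d := by
    show algebraMap k' K' (c ^ d) + δ = _
    rw [map_pow, hδ]; ring
  have hfx : f.eval x = algebraMap k' Q.O (aeval (c ^ d) g) := by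
    show (g.map φ₀).eval (algebraMap k' Q.O (c ^ d)) = _
    rw [Polynomial.eval_map, aeval_def, Polynomial.hom_eval₂]
  have hf'x : f.derivative.eval x = algebraMap k' Q.O (aeval (c ^ d) (derivative g)) := by
    show (derivative (g.map φ₀)).eval (algebraMap k' Q.O (c ^ d)) = _
    rw [Polynomial.derivative_map, Polynomial.eval_map, aeval_def, Polynomial.hom_eval₂]
  set A := aeval (c ^ d) g with hA
  set B := aeval (c ^ d) (derivative g) with hB
  have hmain : aeval (b' ^ d) g =
      algebraMap k' K' A + algebraMap k' K' B * δ + (κ : K') * δ ^ 2 := by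
    have h1 : ((f.eval (x + y) : Q.O) : K') =
        ((f.eval x + (derivative f).eval x * y + κ * y ^ 2 : Q.O) : K') :=
      congrArg (fun z : Q.O => (z : K')) hκ
    rw [hcoe, hxy, hfx, hf'x] at h1
    rw [h1]
    rfl
  have hκle : Q.1 (κ : K') ≤ 1 := (Place.mem_O_iff Q _).1 κ.2
  have he1 : Q.1 (aeval (b' ^ d) g) < 1 := by
    refine lt_of_le_of_lt hQ3 ?_
    rw [← WithZero.exp_zero, WithZero.exp_lt_exp]; omega
  have hκδ : Q.1 ((κ : K') * δ) < 1 := by
    rw [map_mul]; exact lt_of_le_of_lt (mul_le_of_le_one_left' hκle) hδlt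
  have hA0 : A = 0 := by
    by_contra hA0
    have h1 : Q.1 (algebraMap k' K' A) = 1 := val_const Q hA0
    have h2 : algebraMap k' K' A =
        aeval (b' ^ d) g - (algebraMap k' K' B * δ + (κ : K') * δ ^ 2) := by
      rw [hmain]; ring
    have h4 : Q.1 (algebraMap k' K' B * δ + (κ : K') * δ ^ 2) < 1 := by
      refine Valuation.map_add_lt _ ?_ ?_
      · rw [map_mul]; exact lt_of_le_of_lt (mul_le_of_le_one_left' (Q.2.1 B)) hδlt
      · rw [pow_two, ← mul_assoc, map_mul]
        exact lt_of_le_of_lt (mul_le_of_le_one_left' hκδ.le) hδlt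
    rw [h2] at h1
    have h5 := Valuation.map_sub_lt Q.1 he1 h4
    rw [h1] at h5
    exact lt_irrefl _ h5
  have hB0 : B ≠ 0 := hgsep.aeval_derivative_ne_zero hA0
  have hBval : Q.1 (algebraMap k' K' B) = 1 := val_const Q hB0
  have hfac : aeval (b' ^ d) g = δ * (algebraMap k' K' B + (κ : K') * δ) := by
    rw [hmain, hA0, map_zero]; ring
  have hunit : Q.1 (algebraMap k' K' B + (κ : K') * δ) = 1 := by
    have h1 : Q.1 ((κ : K') * δ) < Q.1 (algebraMap k' K' B) := by rw [hBval]; exact hκδ
    rw [Valuation.map_add_eq_of_lt_left _ h1, hBval]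
  have hval : Q.1 (aeval (b' ^ d) g) = WithZero.exp (-(d : ℤ)) := by
    rw [hfac, map_mul, hunit, mul_one, hδval]
  rw [hval, WithZero.exp_le_exp] at hQ3
  omega

end Groth.Agent.Helper27.Sy
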