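import Mathlib
import Groth.Agent.Lib.Helper27.SyF

set_option autoImplicit false

namespace Groth.Agent.Helper27.Sy

open FunFld TensorProduct Groth.Agent.Helper16.FF Polynomial
open scoped WithZero

universe u v

variable {k k' : Type u} {K K' : Type v} [Field k] [Field k'] [Field K] [Field K']
  [Algebra k k'] [Algebra k K] [Algebra K K'] [Algebra k' K'] [Algebra k K']
  [IsScalarTower k k' K'] [IsScalarTower k K K']

theorem main12592 [FiniteDimensional k k']
    (h : Function.Bijective (Algebra.TensorProduct.productMap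
      (IsScalarTower.toAlgHom k k' K') (IsScalarTower.toAlgHom k K K')))
    (hK : FunFld.IsFunctionField k K) (P : FunFld.Place k K)
    (hns : integralClosure (P.O.toSubring.map (algebraMap K K')) K' =
        Algebra.adjoin (P.O.toSubring.map (algebraMap K K')) (Set.range (algebraMap k' K')))
    (hsplit : ∀ Q : FunFld.Place k' K',
      (∃ e : ℕ, ∀ z : K, Q.1 (algebraMap K K' z) = P.1 z ^ e) → Q.deg = 1) :
    {Q : FunFld.Place k' K' | ∃ e : ℕ, ∀ z : K, Q.1 (algebraMap K K' z) = P.1 z ^ e}.Finite ∧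
    {Q : FunFld.Place k' K' | ∃ e : ℕ, ∀ z : K, Q.1 (algebraMap K K' z) = P.1 z ^ e}.ncard =
      Field.finSepDegree k (IsLocalRing.ResidueField P.O) ∧
    ∀ Q : FunFld.Place k' K', (∃ e : ℕ, ∀ z : K, Q.1 (algebraMap K K' z) = P.1 z ^ e) →
      ∀ z : K, Q.1 (algebraMap K K' z) = P.1 z ^ Module.finrank
        (separableClosure k (IsLocalRing.ResidueField P.O)) (IsLocalRing.ResidueField P.O) := by
  classical
  letI aO : Algebra P.O K' := ((algebraMap K K').comp (algebraMap P.O K)).toAlgebra
  haveI : IsScalarTower P.O K K' := .of_algebraMap_eq (fun _ => rfl)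
  have hnsP : integralClosure P.O K' = Algebra.adjoin P.O (Set.range (algebraMap k' K')) :=
    (Trn.bridge P.O (Set.range (algebraMap k' K'))).1 hns
  have hsplit' : ∀ Q : Place k' K', Above P Q → Q.deg = 1 := fun Q hQ => hsplit Q hQ
  have hfin : {Q : Place k' K' | Above P Q}.Finite := finite_above h hK P
  have hle : {Q : Place k' K' | Above P Q}.ncard ≤
      Field.finSepDegree k (IsLocalRing.ResidueField P.O) := ncard_le h hK P hnsP hsplit'
  obtain ⟨Ts, hTsdef⟩ : ∃ Ts : Finset (Place k' K'), Ts = hfin.toFinset := ⟨_, rfl⟩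
  have hTs : ∀ Q, Q ∈ Ts ↔ Above P Q := fun Q => by
    rw [hTsdef, Set.Finite.mem_toFinset]; rfl
  have hcard : {Q : Place k' K' | Above P Q}.ncard = Ts.card := by
    rw [Set.ncard_eq_toFinset_card _ hfin, hTsdef]
  have hsum := sum_ramIdx_eq h hK P hsplit' Ts hTs
  set ds := Field.finSepDegree k (IsLocalRing.ResidueField P.O) with hds
  set di := Field.finInsepDegree k (IsLocalRing.ResidueField P.O) with hdi
  have hmul : ds * di = P.deg := Field.finSepDegree_mul_finInsepDegree k _
  have hfd : FiniteDimensional k (IsLocalRing.ResidueField P.O) :=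
    Place.finiteDimensional_residueField hK P
  have hdeg_pos : 0 < P.deg := Place.deg_pos hK P
  have hdi_pos : 0 < di := by
    rcases Nat.eq_zero_or_pos di with h0 | h0
    · rw [h0, mul_zero] at hmul; omega
    · exact h0
  have hele : ∀ Q ∈ Ts, ramIdx (Zt.toK Q : Place k K') P ≤ di := by
    intro Q hQ
    have hov : IsOver (Zt.toK Q : Place k K') P := (hTs Q).1 hQ
    have he := Groth.Agent.Helper16.FFW.isOverWith_ramIdx hov
    exact ramIdx_le h hK P hnsP Q (hsplit' Q hov) he
  have h1 : ∑ Q ∈ Ts, ramIdx (Zt.toK Q : Place k K') P ≤ Ts.card * di := by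
    calc ∑ Q ∈ Ts, ramIdx (Zt.toK Q : Place k K') P ≤ ∑ _Q ∈ Ts, di := Finset.sum_le_sum hele
      _ = Ts.card * di := by rw [Finset.sum_const, smul_eq_mul]
  rw [hcard] at hle
  have h2 : Ts.card * di ≤ ds * di := Nat.mul_le_mul_right di hle
  have h3 : Ts.card * di = ds * di := by
    apply le_antisymm h2
    rw [hmul, ← hsum]; exact h1
  have hN : Ts.card = ds := Nat.eq_of_mul_eq_mul_right hdi_pos h3
  have hall : ∀ Q ∈ Ts, ramIdx (Zt.toK Q : Place k K') P = di := by
    have h4 : ∑ Q ∈ Ts, ramIdx (Zt.toK Q : Place k K') P = ∑ _Q ∈ Ts, di := by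
      rw [Finset.sum_const, smul_eq_mul, h3, hmul, hsum]
    exact (Finset.sum_eq_sum_iff_of_le hele).1 h4
  refine ⟨hfin, ?_, ?_⟩
  · show {Q : Place k' K' | Above P Q}.ncard = ds
    rw [hcard, hN]
  · intro Q hQ z
    have hov : IsOver (Zt.toK Q : Place k K') P := hQ
    have he := Groth.Agent.Helper16.FFW.isOverWith_ramIdx hov
    rw [hall Q ((hTs Q).2 hQ)] at he
    exact he z

end Groth.Agent.Helper27.Sy
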