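import Mathlib

/-!
# Flatness descends along a surjective cocartesian square (for helper2's S6826)

`flat_of_surjective_square`: `Q → T` flat, `φ : Q ↠ Qb`, `τ : T ↠ Tb` compatible with
`Qb → Tb`, `ker τ = (ker φ) T`.  Then `Qb → Tb` is flat (it is the base change).
-/

namespace Groth.Agent.Helper27.SyntAway

universe u

open TensorProduct

theorem flat_of_surjective_square {Q T Qb Tb : Type u} [CommRing Q] [CommRing T] [CommRing Qb]
    [CommRing Tb] [Algebra Q T] [Module.Flat Q T] [Algebra Qb Tb]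
    (φ : Q →+* Qb) (hφ : Function.Surjective φ) (τ : T →+* Tb) (hτ : Function.Surjective τ)
    (hcomm : τ.comp (algebraMap Q T) = (algebraMap Qb Tb).comp φ)
    (hker : RingHom.ker τ = (RingHom.ker φ).map (algebraMap Q T)) : Module.Flat Qb Tb := by
  letI : Algebra Q Qb := φ.toAlgebra
  letI : Algebra Q Tb := ((algebraMap Qb Tb).comp φ).toAlgebra
  haveI : IsScalarTower Q Qb Tb := IsScalarTower.of_algebraMap_eq (fun _ => rfl)
  let τa : T →ₐ[Q] Tb := { τ with commutes' := fun q => RingHom.congr_fun hcomm q }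
  let m : Qb ⊗[Q] T →ₐ[Qb] Tb :=
    Algebra.TensorProduct.lift (Algebra.ofId Qb Tb) τa (fun _ _ => Commute.all _ _)
  have hm : ∀ t, m (1 ⊗ₜ t) = τ t := by
    intro t
    simp [m, τa]
  have hsurj1 : ∀ x : Qb ⊗[Q] T, ∃ t : T, x = 1 ⊗ₜ t := by
    intro x
    induction x using TensorProduct.induction_on with
    | zero => exact ⟨0, by simp⟩
    | tmul a t =>
      obtain ⟨q, rfl⟩ := hφ a
      refine ⟨q • t, ?_⟩
      have h1 : φ q = q • (1 : Qb) := by
        rw [← Algebra.algebraMap_eq_smul_one]; rfl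
      rw [h1, TensorProduct.smul_tmul]
    | add x y hx hy =>
      obtain ⟨a, rfl⟩ := hx
      obtain ⟨b, rfl⟩ := hy
      exact ⟨a + b, by rw [TensorProduct.tmul_add]⟩
  let g : T →ₐ[Q] Qb ⊗[Q] T := Algebra.TensorProduct.includeRight
  have hkg : RingHom.ker τ ≤ RingHom.ker g.toRingHom := by
    rw [hker, Ideal.map_le_iff_le_comap]
    intro k hk
    rw [Ideal.mem_comap, RingHom.mem_ker]
    show g (algebraMap Q T k) = 0
    rw [g.commutes, Algebra.TensorProduct.algebraMap_apply]
    have : algebraMap Q Qb k = 0 := hk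
    rw [this, zero_tmul]
  have hinj : Function.Injective m := by
    rw [injective_iff_map_eq_zero]
    intro x hx
    obtain ⟨t, rfl⟩ := hsurj1 x
    rw [hm] at hx
    have : t ∈ RingHom.ker g.toRingHom := hkg hx
    exact this
  have hsurj : Function.Surjective m := by
    intro y
    obtain ⟨t, rfl⟩ := hτ y
    exact ⟨1 ⊗ₜ t, hm t⟩
  exact Module.Flat.of_linearEquiv
    (LinearEquiv.ofBijective m.toLinearMap ⟨hinj, hsurj⟩).symm

end Groth.Agent.Helper27.SyntAway
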