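import Groth.Agent.Lib.Helper27.TrF

/-! Abstract residue (Tate) with finite-rank traces only. -/

namespace Groth.Agent.Helper27.Tate

open Groth.Agent.Helper27.TrF

variable {k : Type*} [Field k] {V : Type*} [AddCommGroup V] [Module k V]

theorem FR.mul_right {θ : Module.End k V} (h : FR θ) (Y : Module.End k V) : FR (θ * Y) :=
  h.comp_right Y

theorem FR.mul_left {θ : Module.End k V} (h : FR θ) (Z : Module.End k V) : FR (Z * θ) :=
  h.comp_left Z

theorem trF_mul_comm {X : Module.End k V} (hX : FR X) (Y : Module.End k V) :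
    trF (X * Y) = trF (Y * X) := trF_cyclic hX Y

theorem trF_mul_comm' (X : Module.End k V) {Y : Module.End k V} (hY : FR Y) :
    trF (X * Y) = trF (Y * X) := trF_cyclic' X hY

/-- the commutator-like operator -/
def theta (f g π : Module.End k V) : Module.End k V := f * π * g * π - g * π * f * π

noncomputable def rho (f g π : Module.End k V) : k := trF (theta f g π)

def Adm (f g π : Module.End k V) : Prop := FR ((1 - π) * f * π) ∧ FR ((1 - π) * g * π)

theorem theta_eq {f g : Module.End k V} (hc : f * g = g * f) (π : Module.End k V) :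
    theta f g π = g * ((1 - π) * f * π) - f * ((1 - π) * g * π) := by
  have : theta f g π = g * ((1 - π) * f * π) - f * ((1 - π) * g * π) + (f * g - g * f) * π := by
    unfold theta; noncomm_ring
  rw [this, hc, sub_self, zero_mul, add_zero]

theorem FR_theta {f g π : Module.End k V} (hc : f * g = g * f) (hA : Adm f g π) :
    FR (theta f g π) := by
  rw [theta_eq hc]
  exact (FR.mul_left hA.1 g).sub (FR.mul_left hA.2 f)

theorem theta_antisymm (f g π : Module.End k V) : theta g f π = - theta f g π := by
  unfold theta; noncomm_ring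

theorem theta_add_right (f g₁ g₂ π : Module.End k V) :
    theta f (g₁ + g₂) π = theta f g₁ π + theta f g₂ π := by
  unfold theta; noncomm_ring

theorem theta_add_left (f₁ f₂ g π : Module.End k V) :
    theta (f₁ + f₂) g π = theta f₁ g π + theta f₂ g π := by
  unfold theta; noncomm_ring

theorem theta_smul_left (c : k) (f g π : Module.End k V) :
    theta (c • f) g π = c • theta f g π := by
  unfold theta
  simp only [smul_mul_assoc, mul_smul_comm, smul_sub]

theorem theta_smul_right (c : k) (f g π : Module.End k V) :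
    theta f (c • g) π = c • theta f g π := by
  unfold theta
  simp only [smul_mul_assoc, mul_smul_comm, smul_sub]

/-- R1: finite-rank perturbation of `π` does not change `rho`. -/
theorem rho_add_fr (f g π e : Module.End k V) (he : FR e) (hθ : FR (theta f g π)) :
    FR (theta f g (π + e)) ∧ rho f g (π + e) = rho f g π := by
  have hexp : theta f g (π + e) = theta f g π + ((f * π * g * e - g * π * f * e) +
      ((f * e * g * π - g * e * f * π) + (f * e * g * e - g * e * f * e))) := by
    unfold theta; noncomm_ring
  have a1 : FR (f * π * g * e) := FR.mul_left he _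
  have a2 : FR (g * π * f * e) := FR.mul_left he _
  have a3 : FR (f * e * g * π) := by
    have : f * e * g * π = (f * e) * (g * π) := by noncomm_ring
    rw [this]; exact FR.mul_right (FR.mul_left he f) _
  have a4 : FR (g * e * f * π) := by
    have : g * e * f * π = (g * e) * (f * π) := by noncomm_ring
    rw [this]; exact FR.mul_right (FR.mul_left he g) _
  have a5 : FR (f * e * g * e) := FR.mul_left he _
  have a6 : FR (g * e * f * e) := FR.mul_left he _
  refine ⟨by rw [hexp]; exact hθ.add ((a1.sub a2).add ((a3.sub a4).add (a5.sub a6))), ?_⟩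
  unfold rho
  rw [hexp, trF_add hθ ((a1.sub a2).add ((a3.sub a4).add (a5.sub a6))),
    trF_add (a1.sub a2) ((a3.sub a4).add (a5.sub a6)), trF_add (a3.sub a4) (a5.sub a6),
    trF_sub a1 a2, trF_sub a3 a4, trF_sub a5 a6]
  have c1 : trF (f * e * g * π) = trF (g * π * f * e) := by
    have : f * e * g * π = (f * e) * (g * π) := by noncomm_ring
    rw [this, trF_mul_comm (FR.mul_left he f)]
    congr 1 <;> noncomm_ring
  have c2 : trF (g * e * f * π) = trF (f * π * g * e) := by
    have : g * e * f * π = (g * e) * (f * π) := by noncomm_ring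
    rw [this, trF_mul_comm (FR.mul_left he g)]
    congr 1 <;> noncomm_ring
  have c3 : trF (f * e * g * e) = trF (g * e * f * e) := by
    have : f * e * g * e = (f * e) * (g * e) := by noncomm_ring
    rw [this, trF_mul_comm (FR.mul_left he f)]
    congr 1 <;> noncomm_ring
  rw [c1, c2, c3]; ring

/-- P1: commutator with a finite-rank operator has trace zero. -/
theorem trF_comm_fr {r : Module.End k V} (hr : FR r) (y : Module.End k V) :
    trF (r * y - y * r) = 0 := by
  rw [trF_sub (FR.mul_right hr y) (FR.mul_left hr y), trF_mul_comm hr, sub_self]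

/-- `rho` as trace of commutator of compressions. -/
theorem rho_eq_comm {f g π : Module.End k V} (hc : f * g = g * f) (hπ : π * π = π)
    (hA : Adm f g π) :
    FR ((π * f * π) * (π * g * π) - (π * g * π) * (π * f * π)) ∧
    rho f g π = trF ((π * f * π) * (π * g * π) - (π * g * π) * (π * f * π)) := by
  have hθ := FR_theta hc hA
  have e1 : (π * f * π) * (π * g * π) - (π * g * π) * (π * f * π) = π * theta f g π := by
    have : (π * f * π) * (π * g * π) - (π * g * π) * (π * f * π) =
        π * f * (π * π) * g * π - π * g * (π * π) * f * π := by noncomm_ring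
    rw [this, hπ]; unfold theta; noncomm_ring
  have e2 : theta f g π * π = theta f g π := by
    have : theta f g π * π = f * π * g * (π * π) - g * π * f * (π * π) := by
      unfold theta; noncomm_ring
    rw [this, hπ]; rfl
  rw [e1]
  refine ⟨FR.mul_left hθ π, ?_⟩
  unfold rho
  rw [← trF_mul_comm hθ π, e2]

/-- R2: independence of the complement (same range). -/
theorem rho_same_range {f g π π' : Module.End k V} (hc : f * g = g * f) (hπ : π * π = π)
    (hπ' : π' * π' = π') (h1 : π' * π = π) (h2 : π * π' = π') (hA : Adm f g π) :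
    Adm f g π' ∧ rho f g π' = rho f g π := by
  have hq : (1 - π') = (1 - π') * (1 - π) := by
    have : (1 - π') * (1 - π) = (1 - π') - (π - π' * π) := by noncomm_ring
    rw [this, h1, sub_self, sub_zero]
  have hA' : Adm f g π' := by
    constructor
    · have : (1 - π') * f * π' = (1 - π') * ((1 - π) * f * π) * π' := by
        calc (1 - π') * f * π' = ((1 - π') * (1 - π)) * f * (π * π') := by rw [← hq, h2]
          _ = (1 - π') * ((1 - π) * f * π) * π' := by noncomm_ring
      rw [this]; exact FR.mul_right (FR.mul_left hA.1 _) _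
    · have : (1 - π') * g * π' = (1 - π') * ((1 - π) * g * π) * π' := by
        calc (1 - π') * g * π' = ((1 - π') * (1 - π)) * g * (π * π') := by rw [← hq, h2]
          _ = (1 - π') * ((1 - π) * g * π) * π' := by noncomm_ring
      rw [this]; exact FR.mul_right (FR.mul_left hA.2 _) _
  refine ⟨hA', ?_⟩
  obtain ⟨F0, E0⟩ := rho_eq_comm hc hπ hA
  obtain ⟨F1, E1⟩ := rho_eq_comm hc hπ' hA'
  rw [E0, E1]
  set x := π * f * π with hx
  set y := π * g * π with hy
  set x2 := π' * f * π' with hx2
  set y2 := π' * g * π' with hy2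
  -- step (ii)
  have px : π * x2 = x2 := by rw [hx2, ← mul_assoc, ← mul_assoc, h2]
  have py : π * y2 = y2 := by rw [hy2, ← mul_assoc, ← mul_assoc, h2]
  have s2 : trF (x2 * y2 - y2 * x2) = trF ((x2 * π) * (y2 * π) - (y2 * π) * (x2 * π)) := by
    have : (x2 * π) * (y2 * π) - (y2 * π) * (x2 * π) = (x2 * y2 - y2 * x2) * π := by
      have : (x2 * π) * (y2 * π) - (y2 * π) * (x2 * π) =
          (x2 * (π * y2) - y2 * (π * x2)) * π := by noncomm_ring
      rw [this, px, py]
    rw [this, trF_mul_comm F1 π]
    congr 1
    have : π * (x2 * y2 - y2 * x2) = (π * x2) * y2 - (π * y2) * x2 := by noncomm_ring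
    rw [this, px, py]
  rw [s2]
  -- step (iii)
  have hd : (π' - π) = (π' - π) * (1 - π) := by
    have : (π' - π) * (1 - π) = (π' - π) - (π' * π - π * π) := by noncomm_ring
    rw [this, h1, hπ, sub_self, sub_zero]
  have ex : x2 * π = x + (π' - π) * ((1 - π) * f * π) := by
    have e : x2 * π = π' * f * (π' * π) := by rw [hx2]; noncomm_ring
    rw [e, h1]
    have : (π' - π) * ((1 - π) * f * π) = ((π' - π) * (1 - π)) * f * π := by noncomm_ring
    rw [this, ← hd, hx]; noncomm_ring
  have ey : y2 * π = y + (π' - π) * ((1 - π) * g * π) := by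
    have e : y2 * π = π' * g * (π' * π) := by rw [hy2]; noncomm_ring
    rw [e, h1]
    have : (π' - π) * ((1 - π) * g * π) = ((π' - π) * (1 - π)) * g * π := by noncomm_ring
    rw [this, ← hd, hy]; noncomm_ring
  set r := (π' - π) * ((1 - π) * f * π) with hr
  set r' := (π' - π) * ((1 - π) * g * π) with hr'
  have Fr : FR r := FR.mul_left hA.1 _
  have Fr' : FR r' := FR.mul_left hA.2 _
  rw [ex, ey]
  have : (x + r) * (y + r') - (y + r') * (x + r) =
      (x * y - y * x) + ((r * y - y * r) + ((-(r' * x - x * r')) + (r * r' - r' * r))) := by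
    noncomm_ring
  rw [this, trF_add F0, trF_add, trF_add, trF_neg, trF_comm_fr Fr, trF_comm_fr Fr',
    trF_comm_fr Fr]
  · ring
  · exact (FR.mul_right Fr' x).sub (FR.mul_left Fr' x)
  · exact ((FR.mul_right Fr' x).sub (FR.mul_left Fr' x)).neg
  · exact (FR.mul_right Fr r').sub (FR.mul_left Fr r')
  · exact (FR.mul_right Fr y).sub (FR.mul_left Fr y)
  · exact (((FR.mul_right Fr' x).sub (FR.mul_left Fr' x)).neg).add
      ((FR.mul_right Fr r').sub (FR.mul_left Fr r'))
  · exact ((FR.mul_right Fr y).sub (FR.mul_left Fr y)).add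
      ((((FR.mul_right Fr' x).sub (FR.mul_left Fr' x)).neg).add
      ((FR.mul_right Fr r').sub (FR.mul_left Fr r')))

/-- R12: shrink the range by finite codimension. -/
theorem rho_sub_range {f g π e : Module.End k V} (hc : f * g = g * f) (hπ : π * π = π)
    (he : e * e = e) (h1 : π * e = e) (hfin : FR ((1 - e) * π)) (hA : Adm f g π) :
    Adm f g e ∧ rho f g e = rho f g π := by
  -- π'' = e * π
  have hid : (e * π) * (e * π) = e * π := by
    have : (e * π) * (e * π) = e * (π * e) * π := by noncomm_ring
    rw [this, h1, he]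
  have hsum : e * π = π + (-((1 - e) * π)) := by noncomm_ring
  have hθ := FR_theta hc hA
  obtain ⟨-, R1⟩ := rho_add_fr f g π (-((1 - e) * π)) hfin.neg hθ
  rw [← hsum] at R1
  have hA2 : Adm f g (e * π) := by
    have hq : (1 - e * π) = (1 - π) + (1 - e) * π := by noncomm_ring
    constructor
    · have : (1 - e * π) * f * (e * π) = ((1 - π) * f * π) * (e * π) + ((1 - e) * π) * (f * (e * π)) := by
        rw [hq]
        have : ((1 - π) * f * π) * (e * π) = (1 - π) * f * (π * e) * π := by noncomm_ring
        rw [this, h1]; noncomm_ring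
      rw [this]; exact (FR.mul_right hA.1 _).add (FR.mul_right hfin _)
    · have : (1 - e * π) * g * (e * π) = ((1 - π) * g * π) * (e * π) + ((1 - e) * π) * (g * (e * π)) := by
        rw [hq]
        have : ((1 - π) * g * π) * (e * π) = (1 - π) * g * (π * e) * π := by noncomm_ring
        rw [this, h1]; noncomm_ring
      rw [this]; exact (FR.mul_right hA.2 _).add (FR.mul_right hfin _)
  have k1 : e * (e * π) = e * π := by rw [← mul_assoc, he]
  have k2 : (e * π) * e = e := by rw [mul_assoc, h1, he]
  obtain ⟨A3, R2⟩ := rho_same_range hc hid he k1 k2 hA2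
  exact ⟨A3, R2.trans R1⟩

/-- R3: stable range. -/
theorem rho_eq_zero_of_stable_range {f g π : Module.End k V} (hc : f * g = g * f)
    (hf : (1 - π) * f * π = 0) (hg : (1 - π) * g * π = 0) : theta f g π = 0 := by
  rw [theta_eq hc, hf, hg]; simp

/-- R4: global vanishing for a decomposition `1 = e₁ + eB + eC`, `B` stable, `C` finite. -/
theorem rho_eq_zero_of_decomp {f g e₁ eB eC : Module.End k V} (hc : f * g = g * f)
    (he : e₁ * e₁ = e₁) (hsum : e₁ + eB + eC = 1) (hC : FR eC)
    (h1f : e₁ * f * eB = 0) (h1g : e₁ * g * eB = 0) (hCf : eC * f * eB = 0)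
    (hCg : eC * g * eB = 0) (hθ : FR (theta f g e₁)) : rho f g e₁ = 0 := by
  have hB : eB = 1 - e₁ - eC := by rw [← hsum]; abel
  set Y := (f * eB * g - g * eB * f) * e₁ with hY
  set Z := (f * eC * g - g * eC * f) * e₁ with hZ
  have hdec : theta f g e₁ = -Y - Z := by
    have : theta f g e₁ = -((f * (1 - e₁ - eC) * g - g * (1 - e₁ - eC) * f) * e₁) - Z
        + (f * g - g * f) * e₁ := by
      rw [hZ]; unfold theta; noncomm_ring
    rw [this, hc, sub_self, zero_mul, add_zero, hY, hB]
  have FZ1 : FR (f * eC * g * e₁) := by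
    have : f * eC * g * e₁ = (f * eC) * (g * e₁) := by noncomm_ring
    rw [this]; exact FR.mul_right (FR.mul_left hC f) _
  have FZ2 : FR (g * eC * f * e₁) := by
    have : g * eC * f * e₁ = (g * eC) * (f * e₁) := by noncomm_ring
    rw [this]; exact FR.mul_right (FR.mul_left hC g) _
  have FZ : FR Z := by
    have : Z = f * eC * g * e₁ - g * eC * f * e₁ := by rw [hZ]; noncomm_ring
    rw [this]; exact FZ1.sub FZ2
  have FY : FR Y := by
    have : Y = -(theta f g e₁) - Z := by rw [hdec]; abel
    rw [this]; exact hθ.neg.sub FZ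
  -- trF Y = 0
  have tY : trF Y = 0 := by
    have e1 : Y * e₁ = Y := by
      rw [hY, mul_assoc, he]
    have e2 : e₁ * Y = 0 := by
      have : e₁ * Y = ((e₁ * f * eB) * g - (e₁ * g * eB) * f) * e₁ := by rw [hY]; noncomm_ring
      rw [this, h1f, h1g]; simp
    rw [← e1, trF_mul_comm FY, e2, trF_zero]
  -- trF Z = 0
  have tZ : trF Z = 0 := by
    have : Z = f * eC * g * e₁ - g * eC * f * e₁ := by rw [hZ]; noncomm_ring
    rw [this, trF_sub FZ1 FZ2]
    have c1 : trF (f * eC * g * e₁) = trF (eC * g * e₁ * f) := by
      have : f * eC * g * e₁ = f * (eC * g * e₁) := by noncomm_ring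
      rw [this, trF_mul_comm' f (FR.mul_right (FR.mul_right hC g) e₁)]
    have c2 : trF (g * eC * f * e₁) = trF (eC * f * e₁ * g) := by
      have : g * eC * f * e₁ = g * (eC * f * e₁) := by noncomm_ring
      rw [this, trF_mul_comm' g (FR.mul_right (FR.mul_right hC f) e₁)]
    rw [c1, c2]
    have F1 : FR (eC * g * e₁ * f) := FR.mul_right (FR.mul_right (FR.mul_right hC g) e₁) f
    have F2 : FR (eC * f * e₁ * g) := FR.mul_right (FR.mul_right (FR.mul_right hC f) e₁) g
    rw [← trF_sub F1 F2]
    have hE : e₁ = 1 - eB - eC := by rw [← hsum]; abel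
    have : eC * g * e₁ * f - eC * f * e₁ * g =
        -((eC * g) * (eC * f) - (eC * f) * (eC * g)) := by
      have : eC * g * e₁ * f - eC * f * e₁ * g =
          eC * (g * f - f * g) - ((eC * g * eB) * f - (eC * f * eB) * g)
            - ((eC * g) * (eC * f) - (eC * f) * (eC * g)) := by
        rw [hE]; noncomm_ring
      rw [this, hc, sub_self, mul_zero, hCg, hCf]; simp
    rw [this, trF_neg, trF_comm_fr (FR.mul_right hC g)]
    · simp
    · exact (FR.mul_right (FR.mul_right hC g) _).sub (FR.mul_right (FR.mul_right hC f) _)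
  unfold rho
  rw [hdec, trF_sub FY.neg FZ, trF_neg _ FY, tY, tZ]; simp

end Groth.Agent.Helper27.Tate
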