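import Groth.Agent.Lib.Helper27.TateA

/-! Comparison of abstract residues along an injective intertwining map. -/

namespace Groth.Agent.Helper27.Tate

open Groth.Agent.Helper27.TrF

variable {k : Type*} [Field k] {V : Type*} [AddCommGroup V] [Module k V]
  {V' : Type*} [AddCommGroup V'] [Module k V']

theorem rho_comparison (j : V →ₗ[k] V') (hj : Function.Injective j)
    (f g π : Module.End k V) (f' g' π' : Module.End k V') (σ : V' →ₗ[k] V)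
    (hf : j ∘ₗ f = f' ∘ₗ j) (hg : j ∘ₗ g = g' ∘ₗ j) (hπ : j ∘ₗ π = π' ∘ₗ j)
    (hσ : j ∘ₗ σ = 1 - π') (hc' : f' * g' = g' * f') (hA' : Adm f' g' π') :
    f * g = g * f ∧ Adm f g π ∧ rho f g π = rho f' g' π' := by
  have hjc : ∀ {X Y : V →ₗ[k] V}, j ∘ₗ X = j ∘ₗ Y → X = Y := by
    intro X Y h
    ext v
    exact hj (LinearMap.congr_fun h v)
  have hc : f * g = g * f := by
    apply hjc
    calc j ∘ₗ (f * g) = (j ∘ₗ f) ∘ₗ g := rfl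
      _ = f' ∘ₗ (j ∘ₗ g) := by rw [hf]; rfl
      _ = (f' * g') ∘ₗ j := by rw [hg]; rfl
      _ = (g' * f') ∘ₗ j := by rw [hc']
      _ = g' ∘ₗ (f' ∘ₗ j) := rfl
      _ = (g' ∘ₗ j) ∘ₗ f := by rw [← hf]; rfl
      _ = j ∘ₗ (g * f) := by rw [← hg]; rfl
  have hσj : σ ∘ₗ j = 1 - π := by
    apply hjc
    calc j ∘ₗ (σ ∘ₗ j) = (j ∘ₗ σ) ∘ₗ j := rfl
      _ = (1 - π') ∘ₗ j := by rw [hσ]
      _ = j - π' ∘ₗ j := by ext v; simp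
      _ = j - j ∘ₗ π := by rw [hπ]
      _ = j ∘ₗ (1 - π) := by ext v; simp
  have hAf : ∀ (u : Module.End k V) (u' : Module.End k V'), j ∘ₗ u = u' ∘ₗ j →
      FR ((1 - π') * u' * π') → FR ((1 - π) * u * π) := by
    intro u u' hu h
    apply FR.of_comp_injective hj
    have : j ∘ₗ ((1 - π) * u * π) = ((1 - π') * u' * π') ∘ₗ j := by
      calc j ∘ₗ ((1 - π) * u * π) = (j ∘ₗ (1 - π)) ∘ₗ u ∘ₗ π := rfl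
        _ = ((1 - π') ∘ₗ j) ∘ₗ u ∘ₗ π := by
            congr 1
            calc j ∘ₗ (1 - π) = j - j ∘ₗ π := by ext v; simp
              _ = j - π' ∘ₗ j := by rw [hπ]
              _ = (1 - π') ∘ₗ j := by ext v; simp
        _ = (1 - π') ∘ₗ (j ∘ₗ u) ∘ₗ π := rfl
        _ = (1 - π') ∘ₗ (u' ∘ₗ j) ∘ₗ π := by rw [hu]
        _ = (1 - π') ∘ₗ u' ∘ₗ (j ∘ₗ π) := rfl
        _ = (1 - π') ∘ₗ u' ∘ₗ (π' ∘ₗ j) := by rw [hπ]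
        _ = ((1 - π') * u' * π') ∘ₗ j := rfl
    rw [this]
    exact h.comp_right j
  have hA : Adm f g π := ⟨hAf f f' hf hA'.1, hAf g g' hg hA'.2⟩
  refine ⟨hc, hA, ?_⟩
  set Θ : V' →ₗ[k] V := g ∘ₗ σ ∘ₗ f' ∘ₗ π' - f ∘ₗ σ ∘ₗ g' ∘ₗ π' with hΘ
  have e1 : j ∘ₗ Θ = theta f' g' π' := by
    rw [theta_eq hc', hΘ, LinearMap.comp_sub]
    congr 1
    · calc j ∘ₗ g ∘ₗ σ ∘ₗ f' ∘ₗ π' = (j ∘ₗ g) ∘ₗ σ ∘ₗ f' ∘ₗ π' := rfl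
        _ = g' ∘ₗ (j ∘ₗ σ) ∘ₗ f' ∘ₗ π' := by rw [hg]; rfl
        _ = g' * ((1 - π') * f' * π') := by rw [hσ]; rfl
    · calc j ∘ₗ f ∘ₗ σ ∘ₗ g' ∘ₗ π' = (j ∘ₗ f) ∘ₗ σ ∘ₗ g' ∘ₗ π' := rfl
        _ = f' ∘ₗ (j ∘ₗ σ) ∘ₗ g' ∘ₗ π' := by rw [hf]; rfl
        _ = f' * ((1 - π') * g' * π') := by rw [hσ]; rfl
  have e2 : Θ ∘ₗ j = theta f g π := by
    rw [theta_eq hc, hΘ, LinearMap.sub_comp]
    congr 1
    · calc (g ∘ₗ σ ∘ₗ f' ∘ₗ π') ∘ₗ j = g ∘ₗ σ ∘ₗ f' ∘ₗ (π' ∘ₗ j) := rfl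
        _ = g ∘ₗ σ ∘ₗ (f' ∘ₗ j) ∘ₗ π := by rw [← hπ]; rfl
        _ = g ∘ₗ (σ ∘ₗ j) ∘ₗ f ∘ₗ π := by rw [← hf]; rfl
        _ = g * ((1 - π) * f * π) := by rw [hσj]; rfl
    · calc (f ∘ₗ σ ∘ₗ g' ∘ₗ π') ∘ₗ j = f ∘ₗ σ ∘ₗ g' ∘ₗ (π' ∘ₗ j) := rfl
        _ = f ∘ₗ σ ∘ₗ (g' ∘ₗ j) ∘ₗ π := by rw [← hπ]; rfl
        _ = f ∘ₗ (σ ∘ₗ j) ∘ₗ g ∘ₗ π := by rw [← hg]; rfl
        _ = f * ((1 - π) * g * π) := by rw [hσj]; rfl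
  have hFR : FR Θ := by
    apply FR.of_comp_injective hj
    rw [e1]; exact FR_theta hc' hA'
  unfold rho
  rw [← e1, ← e2]
  exact trF_cyclic hFR j

/-- trace of a "single component" operator. -/
theorem trF_conj_single (ι : V →ₗ[k] V') (p : V' →ₗ[k] V) (hp : p ∘ₗ ι = LinearMap.id)
    (θ : Module.End k V) (hθ : FR θ) : trF (ι ∘ₗ θ ∘ₗ p) = trF θ := by
  have h1 : FR (ι ∘ₗ θ) := hθ.comp_left ι
  calc trF (ι ∘ₗ θ ∘ₗ p) = trF ((ι ∘ₗ θ) ∘ₗ p) := rfl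
    _ = trF (p ∘ₗ (ι ∘ₗ θ)) := trF_cyclic h1 p
    _ = trF ((p ∘ₗ ι) ∘ₗ θ) := rfl
    _ = trF θ := by rw [hp]; rfl

end Groth.Agent.Helper27.Tate
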