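import Groth.Agent.Lib.Helper27.TateB
import Groth.Prelude.Def_LocRes

/-! Local computation on Laurent series: set-up, admissibility, truncation lemma. -/

namespace Groth.Agent.Helper27.Tate

open Groth.Agent.Helper27.TrF HahnSeries
open scoped LaurentSeries

variable {k : Type*} [Field k] {F : Type*} [Field F] [Algebra k F]

/-- coefficients vanish below `N` -/
def Ord (φ : F⸨X⸩) (N : ℤ) : Prop := ∀ n < N, φ.coeff n = 0

theorem Ord.mul {φ γ : F⸨X⸩} {N M : ℤ} (h1 : Ord φ N) (h2 : Ord γ M) : Ord (φ * γ) (N + M) := by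
  intro n hn
  rw [HahnSeries.coeff_mul]
  apply Finset.sum_eq_zero
  rintro ⟨i, j⟩ hij
  rw [Finset.mem_antidiagonal] at hij
  obtain ⟨hi, hj, hs⟩ := hij
  by_cases h : i < N
  · rw [h1 i h, zero_mul]
  · have : j < M := by simp only at hs; omega
    rw [h2 j this, mul_zero]

theorem Ord.mono {φ : F⸨X⸩} {N M : ℤ} (h : Ord φ N) (hMN : M ≤ N) : Ord φ M :=
  fun n hn => h n (lt_of_lt_of_le hn hMN)

theorem Ord.add {φ γ : F⸨X⸩} {N : ℤ} (h1 : Ord φ N) (h2 : Ord γ N) : Ord (φ + γ) N := by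
  intro n hn
  rw [HahnSeries.coeff_add, h1 n hn, h2 n hn, add_zero]

theorem Ord.sub {φ γ : F⸨X⸩} {N : ℤ} (h1 : Ord φ N) (h2 : Ord γ N) : Ord (φ - γ) N := by
  intro n hn
  rw [HahnSeries.coeff_sub, h1 n hn, h2 n hn, sub_zero]

theorem exists_ord (φ : F⸨X⸩) : ∃ M : ℕ, Ord φ (-(M : ℤ)) := by
  refine ⟨(-φ.order).toNat, fun n hn => ?_⟩
  apply HahnSeries.coeff_eq_zero_of_lt_order
  have := Int.self_le_toNat (-φ.order)
  omega

theorem ord_single (a : ℤ) (c : F) : Ord (single a c : F⸨X⸩) a := by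
  intro n hn
  rw [HahnSeries.coeff_single_of_ne (ne_of_lt hn)]

variable (k) in
/-- k-linear coefficient map -/
def coeffL (n : ℤ) : F⸨X⸩ →ₗ[k] F where
  toFun h := h.coeff n
  map_add' _ _ := rfl
  map_smul' c h := by
    simp only [RingHom.id_apply]
    exact HahnSeries.coeff_smul


@[simp] theorem coeffL_apply (n : ℤ) (h : F⸨X⸩) : coeffL k n h = h.coeff n := rfl

variable (k) in
/-- drop the negative part -/
noncomputable def trunc : Module.End k F⸨X⸩ where
  toFun h := ⟨fun n => if 0 ≤ n then h.coeff n else 0, h.isPWO_support.mono (by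
    intro n hn
    simp only [Function.mem_support, ne_eq, ite_eq_right_iff, not_forall] at hn
    obtain ⟨_, hn⟩ := hn
    exact hn)⟩
  map_add' a b := by
    ext n
    simp only [HahnSeries.coeff_add]
    split_ifs <;> simp
  map_smul' c a := by
    ext n
    simp only [RingHom.id_apply, HahnSeries.coeff_smul]
    split_ifs <;> simp

@[simp] theorem coeff_trunc (h : F⸨X⸩) (n : ℤ) :
    (trunc k h).coeff n = if 0 ≤ n then h.coeff n else 0 := rfl

theorem coeff_one_sub_trunc (h : F⸨X⸩) (n : ℤ) :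
    ((1 - trunc k : Module.End k F⸨X⸩) h).coeff n = if 0 ≤ n then 0 else h.coeff n := by
  rw [LinearMap.sub_apply, Module.End.one_apply, HahnSeries.coeff_sub, coeff_trunc]
  split_ifs <;> simp

theorem trunc_idem : trunc k (F := F) * trunc k = trunc k := by
  ext h n
  simp only [Module.End.mul_apply, coeff_trunc]
  split_ifs <;> rfl

theorem ord_trunc (h : F⸨X⸩) : Ord (trunc k h) 0 := by
  intro n hn
  rw [coeff_trunc, if_neg (not_le.mpr hn)]

theorem trunc_eq_self {h : F⸨X⸩} (hh : Ord h 0) : trunc k h = h := by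
  ext n
  rw [coeff_trunc]
  split_ifs with h0
  · rfl
  · exact (hh n (not_le.mp h0)).symm

theorem one_sub_trunc_eq_zero {h : F⸨X⸩} (hh : Ord h 0) : (1 - trunc k : Module.End k F⸨X⸩) h = 0 := by
  rw [LinearMap.sub_apply, Module.End.one_apply, trunc_eq_self hh, sub_self]

theorem ord_one_sub_trunc {h : F⸨X⸩} {N : ℤ} (hh : Ord h N) : Ord ((1 - trunc k : Module.End k F⸨X⸩) h) N := by
  intro n hn
  rw [coeff_one_sub_trunc]
  split_ifs
  · rfl
  · exact hh n hn

theorem ksmul_eq (c : k) (h : F⸨X⸩) : c • h = HahnSeries.C (algebraMap k F c) * h := by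
  rw [HahnSeries.C_mul_eq_smul, algebraMap_smul]

variable (k) in
/-- multiplication operator -/
noncomputable def mulL (φ : F⸨X⸩) : Module.End k F⸨X⸩ where
  toFun h := φ * h
  map_add' := mul_add φ
  map_smul' c h := by
    simp only [RingHom.id_apply, ksmul_eq]
    ring

@[simp] theorem mulL_apply (φ h : F⸨X⸩) : mulL k φ h = φ * h := rfl

theorem mulL_comm (φ γ : F⸨X⸩) : mulL k φ * mulL k γ = mulL k γ * mulL k φ := by
  ext h : 1
  simp only [Module.End.mul_apply, mulL_apply]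
  ring

theorem mulL_add (φ γ : F⸨X⸩) : mulL k (φ + γ) = mulL k φ + mulL k γ := by
  ext h : 1
  simp only [LinearMap.add_apply, mulL_apply]
  ring

theorem mulL_sub (φ γ : F⸨X⸩) : mulL k (φ - γ) = mulL k φ - mulL k γ := by
  ext h : 1
  simp only [LinearMap.sub_apply, mulL_apply]
  ring

theorem mulL_sum {ι : Type*} (s : Finset ι) (φ : ι → F⸨X⸩) :
    mulL k (∑ i ∈ s, φ i) = ∑ i ∈ s, mulL k (φ i) := by
  ext h : 1
  simp only [LinearMap.sum_apply, mulL_apply, Finset.sum_mul]

variable (k) in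
/-- polar parts of pole order at most `M` -/
def Rng (M : ℕ) : Submodule k F⸨X⸩ where
  carrier := {h | ∀ n : ℤ, (n < -(M : ℤ) ∨ 0 ≤ n) → h.coeff n = 0}
  add_mem' {a b} ha hb n hn := by rw [HahnSeries.coeff_add, ha n hn, hb n hn, add_zero]
  zero_mem' n _ := rfl
  smul_mem' c a ha n hn := by
    show (c • a).coeff n = 0
    rw [HahnSeries.coeff_smul, ha n hn, smul_zero]

instance [FiniteDimensional k F] (M : ℕ) : FiniteDimensional k (Rng k (F := F) M) := by
  let ψ : Rng k (F := F) M →ₗ[k] (Fin M → F) :=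
    LinearMap.pi fun i => (coeffL k (-1 - (i : ℤ))) ∘ₗ (Rng k M).subtype
  apply FiniteDimensional.of_injective ψ
  rw [← LinearMap.ker_eq_bot, LinearMap.ker_eq_bot']
  intro h hh
  ext n
  show (h : F⸨X⸩).coeff n = 0
  by_cases hn : n < -(M : ℤ) ∨ 0 ≤ n
  · exact h.2 n hn
  · push Not at hn
    have := congr_fun hh ⟨(-1 - n).toNat, by omega⟩
    simp only [ψ, LinearMap.pi_apply, LinearMap.comp_apply, Submodule.subtype_apply,
      coeffL_apply, Pi.zero_apply] at this
    rw [← this]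
    congr 1
    have : ((-1 - n).toNat : ℤ) = -1 - n := Int.toNat_of_nonneg (by omega)
    omega

theorem adm_half [FiniteDimensional k F] (φ : F⸨X⸩) :
    FR ((1 - trunc k) * mulL k φ * trunc k) := by
  obtain ⟨M, hM⟩ := exists_ord φ
  apply FR.of_le (R := Rng k M)
  rintro _ ⟨h, rfl⟩
  intro n hn
  simp only [Module.End.mul_apply, mulL_apply]
  rcases hn with hn | hn
  · have : Ord (φ * trunc k h) (-(M : ℤ) + 0) := hM.mul (ord_trunc h)
    rw [add_zero] at this
    exact ord_one_sub_trunc this n hn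
  · rw [coeff_one_sub_trunc, if_pos hn]

theorem adm_mulL [FiniteDimensional k F] (φ γ : F⸨X⸩) : Adm (mulL k φ) (mulL k γ) (trunc k) :=
  ⟨adm_half φ, adm_half γ⟩

/-- L1: truncation lemma. -/
theorem rho_eq_zero_of_ord [FiniteDimensional k F] {φ γ : F⸨X⸩} {M : ℕ} {N : ℤ}
    (hφ : Ord φ N) (hγ : Ord γ (-(M : ℤ))) (hN : 2 * (M : ℤ) ≤ N) :
    rho (mulL k φ) (mulL k γ) (trunc k) = 0 := by
  have hA := adm_mulL (k := k) φ γ
  unfold rho
  rw [theta_eq (mulL_comm φ γ)]
  have h1 : (1 - trunc k) * mulL k φ * trunc k = 0 := by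
    ext h : 1
    simp only [Module.End.mul_apply, mulL_apply, LinearMap.zero_apply]
    apply one_sub_trunc_eq_zero
    exact ((hφ.mono (by omega : (0 : ℤ) ≤ N)).mul (ord_trunc h)).mono (by omega)
  rw [h1, mul_zero, zero_sub, trF_neg _ (FR.mul_left hA.2 _), neg_eq_zero]
  apply trF_eq_zero_of_sq (FR.mul_left hA.2 _)
  ext h : 1
  simp only [LinearMap.comp_apply, Module.End.mul_apply, mulL_apply, LinearMap.zero_apply]
  set u := (1 - trunc k : Module.End k F⸨X⸩) (γ * trunc k h) with hu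
  have hu1 : Ord u (-(M : ℤ)) := by
    apply ord_one_sub_trunc
    have := hγ.mul (ord_trunc (k := k) h)
    rwa [add_zero] at this
  have hφu : Ord (φ * u) (N + -(M : ℤ)) := hφ.mul hu1
  have h0 : Ord (φ * u) 0 := hφu.mono (by omega)
  rw [trunc_eq_self h0]
  have h2 : Ord (γ * (φ * u)) (-(M : ℤ) + (N + -(M : ℤ))) := hγ.mul hφu
  rw [one_sub_trunc_eq_zero (h2.mono (by omega)), mul_zero]

end Groth.Agent.Helper27.Tate
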