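import Groth.Agent.Lib.Helper27.TateC

/-! Local computation on Laurent series: monomials. -/

namespace Groth.Agent.Helper27.Tate

open Groth.Agent.Helper27.TrF HahnSeries
open scoped LaurentSeries

variable {k : Type*} [Field k] {F : Type*} [Field F] [Algebra k F]

theorem trace_pi [FiniteDimensional k F] (m : ℕ) (T : (Fin m → F) →ₗ[k] (Fin m → F)) :
    LinearMap.trace k _ T =
      ∑ j, LinearMap.trace k F ((LinearMap.proj j) ∘ₗ T ∘ₗ (LinearMap.single k (fun _ => F) j)) := by
  have hT : T = ∑ j, (T ∘ₗ (LinearMap.single k (fun _ => F) j)) ∘ₗ (LinearMap.proj j) := by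
    apply LinearMap.ext
    intro w
    rw [LinearMap.sum_apply]
    simp only [LinearMap.comp_apply, LinearMap.proj_apply, LinearMap.single_apply]
    rw [← map_sum, Finset.univ_sum_single]
  conv_lhs => rw [hT]
  rw [map_sum]
  refine Finset.sum_congr rfl fun j _ => ?_
  rw [LinearMap.trace_comp_comm']

variable (k) in
/-- the operator `γ q φ π` for monomials -/
noncomputable def th1 (a : ℤ) (c : F) (b : ℤ) (d : F) : Module.End k F⸨X⸩ :=
  mulL k (single b d) * ((1 - trunc k) * mulL k (single a c) * trunc k)

theorem coeff_th1 (a : ℤ) (c : F) (b : ℤ) (d : F) (h : F⸨X⸩) (n : ℤ) :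
    (th1 k a c b d h).coeff n =
      if n < b ∧ a + b ≤ n then d * c * h.coeff (n - (a + b)) else 0 := by
  unfold th1
  simp only [Module.End.mul_apply, mulL_apply]
  rw [HahnSeries.coeff_single_mul, coeff_one_sub_trunc, HahnSeries.coeff_single_mul, coeff_trunc]
  by_cases h1 : 0 ≤ n - b
  · rw [if_pos h1, mul_zero, if_neg (by omega)]
  · rw [if_neg h1]
    by_cases h2 : 0 ≤ n - b - a
    · rw [if_pos h2, if_pos (by omega)]
      have : n - b - a = n - (a + b) := by ring
      rw [this]; ring
    · rw [if_neg h2, if_neg (by omega)]; simp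

variable (k) in
noncomputable def alphaM (m : ℕ) : F⸨X⸩ →ₗ[k] (Fin m → F) :=
  LinearMap.pi fun i => coeffL k (i : ℤ)

variable (k) in
noncomputable def singleL (n : ℤ) : F →ₗ[k] F⸨X⸩ where
  toFun x := single n x
  map_add' x y := by simp
  map_smul' c x := by
    ext j
    simp only [RingHom.id_apply, HahnSeries.coeff_smul]
    by_cases hj : j = n
    · subst hj; simp
    · simp [HahnSeries.coeff_single_of_ne hj]

variable (k) in
noncomputable def iotaM (m : ℕ) : (Fin m → F) →ₗ[k] F⸨X⸩ :=
  ∑ i : Fin m, (singleL k (i : ℤ)) ∘ₗ (LinearMap.proj i)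

theorem coeff_iotaM (m : ℕ) (w : Fin m → F) (n : ℤ) :
    (iotaM k m w).coeff n = if h : 0 ≤ n ∧ n < m then w ⟨n.toNat, by omega⟩ else 0 := by
  unfold iotaM
  rw [LinearMap.sum_apply, HahnSeries.coeff_sum]
  split_ifs with h
  · rw [Finset.sum_eq_single (⟨n.toNat, by omega⟩ : Fin m)]
    · simp only [LinearMap.comp_apply, LinearMap.proj_apply]
      show (single _ _).coeff n = _
      have : ((n.toNat : ℕ) : ℤ) = n := Int.toNat_of_nonneg h.1
      rw [this, HahnSeries.coeff_single_same]
    · intro i _ hi
      simp only [LinearMap.comp_apply, LinearMap.proj_apply]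
      show (single _ _).coeff n = _
      apply HahnSeries.coeff_single_of_ne
      intro hn
      apply hi
      ext
      simp only
      omega
    · intro hh; exact absurd (Finset.mem_univ _) hh
  · apply Finset.sum_eq_zero
    intro i _
    simp only [LinearMap.comp_apply, LinearMap.proj_apply]
    show (single _ _).coeff n = _
    apply HahnSeries.coeff_single_of_ne
    intro hn
    apply h
    have := i.2
    omega

theorem trF_th1 [FiniteDimensional k F] (a : ℤ) (c : F) (b : ℤ) (d : F) :
    trF (th1 k a c b d) =
      if a + b = 0 then ((-a).toNat : k) * Algebra.trace k F (d * c) else 0 := by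
  set m := (-a).toNat with hm
  have hfac : th1 k a c b d = (th1 k a c b d ∘ₗ iotaM k m) ∘ₗ alphaM k m := by
    ext h n
    simp only [LinearMap.comp_apply]
    rw [coeff_th1, coeff_th1]
    split_ifs with hc
    · congr 1
      rw [coeff_iotaM, dif_pos (by omega)]
      simp only [alphaM, LinearMap.pi_apply, coeffL_apply]
      congr 1
      have : ((n - (a + b)).toNat : ℤ) = n - (a + b) := Int.toNat_of_nonneg (by omega)
      exact this.symm
    · rfl
  rw [hfac, trF_comp, trace_pi]
  by_cases hs : a + b = 0
  · rw [if_pos hs]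
    have : ∀ j : Fin m, LinearMap.proj j ∘ₗ (alphaM k m ∘ₗ th1 k a c b d ∘ₗ iotaM k m) ∘ₗ
        LinearMap.single k (fun _ => F) j = LinearMap.mulLeft k (d * c) := by
      intro j
      ext x
      simp only [LinearMap.comp_apply, LinearMap.proj_apply, alphaM, LinearMap.pi_apply,
        coeffL_apply, LinearMap.mulLeft_apply, LinearMap.single_apply]
      rw [coeff_th1, if_pos (by have := j.2; omega), hs, sub_zero, coeff_iotaM,
        dif_pos (by have := j.2; omega)]
      congr 1
      have : (⟨((j : ℕ) : ℤ).toNat, by have := j.2; omega⟩ : Fin m) = j := by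
        ext; simp
      rw [this, Pi.single_eq_same]
    simp only [this]
    rw [Finset.sum_const, Finset.card_univ, Fintype.card_fin, nsmul_eq_mul]
    rfl
  · rw [if_neg hs]
    apply Finset.sum_eq_zero
    intro j _
    have : LinearMap.proj j ∘ₗ (alphaM k m ∘ₗ th1 k a c b d ∘ₗ iotaM k m) ∘ₗ
        LinearMap.single k (fun _ => F) j = 0 := by
      ext x
      simp only [LinearMap.comp_apply, LinearMap.proj_apply, alphaM, LinearMap.pi_apply,
        coeffL_apply, LinearMap.zero_apply, LinearMap.single_apply]
      rw [coeff_th1]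
      split_ifs with hc
      · rw [coeff_iotaM]
        split_ifs with h2
        · rw [Pi.single_eq_of_ne, mul_zero]
          intro he
          have := congrArg Fin.val he
          simp only at this
          have h3 : ((((j : ℕ) : ℤ) - (a + b)).toNat : ℤ) = ((j : ℕ) : ℤ) - (a + b) :=
            Int.toNat_of_nonneg h2.1
          omega
        · rw [mul_zero]
      · rfl
    rw [this, map_zero]

end Groth.Agent.Helper27.Tate
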