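import Groth.Agent.Lib.Helper27.TateD

/-! Local computation on Laurent series: assembly. `rho = trace of residue`. -/

namespace Groth.Agent.Helper27.Tate

open Groth.Agent.Helper27.TrF HahnSeries
open scoped LaurentSeries

variable {k : Type*} [Field k] {F : Type*} [Field F] [Algebra k F]

/-- abstract assembly lemma -/
theorem bilin_eq_zero (B : F⸨X⸩ → F⸨X⸩ → k)
    (hl : ∀ φ φ' γ, B (φ + φ') γ = B φ γ + B φ' γ)
    (hr : ∀ φ γ γ', B φ (γ + γ') = B φ γ + B φ γ')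
    (hmono : ∀ a c b d, B (single a c) (single b d) = 0)
    (hord : ∀ (φ γ : F⸨X⸩) (M : ℕ) (N₁ N₂ : ℤ), Ord φ N₁ → Ord γ N₂ →
      ((2 * (M : ℤ) + 1 ≤ N₁ ∧ -(M : ℤ) ≤ N₂) ∨ (2 * (M : ℤ) + 1 ≤ N₂ ∧ -(M : ℤ) ≤ N₁)) →
      B φ γ = 0) :
    ∀ φ γ, B φ γ = 0 := by
  have hl0 : ∀ γ, B 0 γ = 0 := by
    intro γ
    have := hl 0 0 γ
    rw [add_zero] at this
    exact left_eq_add.mp this
  have hr0 : ∀ φ, B φ 0 = 0 := by
    intro φ
    have := hr φ 0 0
    rw [add_zero] at this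
    exact left_eq_add.mp this
  have hlsum : ∀ (s : Finset ℤ) (u : ℤ → F⸨X⸩) γ, B (∑ i ∈ s, u i) γ = ∑ i ∈ s, B (u i) γ := by
    intro s u γ
    induction s using Finset.induction_on with
    | empty => simpa using hl0 γ
    | insert a s ha ih => rw [Finset.sum_insert ha, Finset.sum_insert ha, hl, ih]
  have hrsum : ∀ (s : Finset ℤ) (u : ℤ → F⸨X⸩) φ, B φ (∑ i ∈ s, u i) = ∑ i ∈ s, B φ (u i) := by
    intro s u φ
    induction s using Finset.induction_on with
    | empty => simpa using hr0 φ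
    | insert a s ha ih => rw [Finset.sum_insert ha, Finset.sum_insert ha, hr, ih]
  intro φ γ
  obtain ⟨M1, hM1⟩ := exists_ord φ
  obtain ⟨M2, hM2⟩ := exists_ord γ
  set M := max M1 M2 with hM
  have hφM : Ord φ (-(M : ℤ)) := hM1.mono (by have := le_max_left M1 M2; omega)
  have hγM : Ord γ (-(M : ℤ)) := hM2.mono (by have := le_max_right M1 M2; omega)
  set N : ℤ := 2 * (M : ℤ) + 1 with hN
  set S := Finset.Ico (-(M : ℤ)) N with hS
  have hcoeff : ∀ (ψ : F⸨X⸩) (n : ℤ), (∑ j ∈ S, single j (ψ.coeff j) : F⸨X⸩).coeff n =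
      if n ∈ S then ψ.coeff n else 0 := by
    intro ψ n
    rw [HahnSeries.coeff_sum]
    by_cases hn : n ∈ S
    · rw [if_pos hn, Finset.sum_eq_single_of_mem n hn, HahnSeries.coeff_single_same]
      intro j _ hj
      exact HahnSeries.coeff_single_of_ne (Ne.symm hj)
    · rw [if_neg hn]
      apply Finset.sum_eq_zero
      intro j hj
      apply HahnSeries.coeff_single_of_ne
      rintro rfl; exact hn hj
  have hdec : ∀ ψ : F⸨X⸩, Ord ψ (-(M : ℤ)) →
      Ord (∑ j ∈ S, single j (ψ.coeff j) : F⸨X⸩) (-(M : ℤ)) ∧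
      Ord (ψ - ∑ j ∈ S, single j (ψ.coeff j)) N := by
    intro ψ hψ
    constructor
    · intro n hn
      rw [hcoeff, if_neg]
      rw [hS, Finset.mem_Ico]; omega
    · intro n hn
      rw [HahnSeries.coeff_sub, hcoeff]
      by_cases h : n ∈ S
      · rw [if_pos h, sub_self]
      · rw [if_neg h, sub_zero]
        apply hψ
        rw [hS, Finset.mem_Ico] at h
        omega
  obtain ⟨hφ0, hφ1⟩ := hdec φ hφM
  obtain ⟨hγ0, hγ1⟩ := hdec γ hγM
  set φ₀ := (∑ j ∈ S, single j (φ.coeff j) : F⸨X⸩) with hφ₀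
  set γ₀ := (∑ j ∈ S, single j (γ.coeff j) : F⸨X⸩) with hγ₀
  have eφ : φ = φ₀ + (φ - φ₀) := by ring
  have eγ : γ = γ₀ + (γ - γ₀) := by ring
  rw [eφ, eγ, hl, hr, hr]
  have z1 : B φ₀ (γ - γ₀) = 0 := hord _ _ M _ _ hφ0 hγ1 (Or.inr ⟨le_rfl, le_rfl⟩)
  have z2 : B (φ - φ₀) γ₀ = 0 := hord _ _ M _ _ hφ1 hγ0 (Or.inl ⟨le_rfl, le_rfl⟩)
  have z3 : B (φ - φ₀) (γ - γ₀) = 0 :=
    hord _ _ M _ _ hφ1 hγ1 (Or.inl ⟨le_rfl, by omega⟩)
  have z0 : B φ₀ γ₀ = 0 := by
    rw [hφ₀, hlsum]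
    apply Finset.sum_eq_zero
    intro a _
    rw [hγ₀, hrsum]
    apply Finset.sum_eq_zero
    intro b _
    exact hmono _ _ _ _
  rw [z0, z1, z2, z3]; simp

/-- `R(φ, γ)` -/
noncomputable def Rr (k : Type*) [Field k] {F : Type*} [Field F] [Algebra k F] (φ γ : F⸨X⸩) : k :=
  rho (mulL k φ) (mulL k γ) (trunc k)

theorem Rr_add_left [FiniteDimensional k F] (φ φ' γ : F⸨X⸩) :
    Rr k (φ + φ') γ = Rr k φ γ + Rr k φ' γ := by
  unfold Rr rho
  rw [mulL_add, theta_add_left,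
    trF_add (FR_theta (mulL_comm φ γ) (adm_mulL φ γ)) (FR_theta (mulL_comm φ' γ) (adm_mulL φ' γ))]

theorem Rr_antisymm (φ γ : F⸨X⸩) [FiniteDimensional k F] : Rr k γ φ = - Rr k φ γ := by
  unfold Rr rho
  rw [theta_antisymm, trF_neg _ (FR_theta (mulL_comm φ γ) (adm_mulL φ γ))]

theorem Rr_add_right [FiniteDimensional k F] (φ γ γ' : F⸨X⸩) :
    Rr k φ (γ + γ') = Rr k φ γ + Rr k φ γ' := by
  rw [Rr_antisymm (γ + γ') φ, Rr_add_left, Rr_antisymm γ φ, Rr_antisymm γ' φ]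
  ring

theorem Rr_mono [FiniteDimensional k F] (a : ℤ) (c : F) (b : ℤ) (d : F) :
    Rr k (single a c) (single b d) =
      if a + b = 0 then (b : k) * Algebra.trace k F (c * d) else 0 := by
  unfold Rr rho
  rw [theta_eq (mulL_comm _ _)]
  have hA := adm_mulL (k := k) (single a c : F⸨X⸩) (single b d)
  rw [trF_sub (FR.mul_left hA.1 _) (FR.mul_left hA.2 _)]
  have e1 : mulL k (single b d) * ((1 - trunc k) * mulL k (single a c) * trunc k) = th1 k a c b d :=
    rfl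
  have e2 : mulL k (single a c) * ((1 - trunc k) * mulL k (single b d) * trunc k) = th1 k b d a c :=
    rfl
  rw [e1, e2, trF_th1, trF_th1]
  by_cases hs : a + b = 0
  · rw [if_pos hs, if_pos (show b + a = 0 by omega), if_pos hs, mul_comm d c]
    have ha : -a = b := by omega
    rw [ha]
    have h1 := Int.toNat_sub_toNat_neg b
    have h2 : ((b.toNat : ℤ) : k) - (((-b).toNat : ℤ) : k) = (b : k) := by
      rw [← Int.cast_sub, h1]
    simp only [Int.cast_natCast] at h2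
    rw [← h2]; ring
  · rw [if_neg hs, if_neg (show ¬ (b + a = 0) by omega), if_neg hs, sub_zero]

/-- `T(φ, γ)` -/
noncomputable def Tt (k : Type*) [Field k] {F : Type*} [Field F] [Algebra k F] (φ γ : F⸨X⸩) : k :=
  Algebra.trace k F (LocRes.res F (φ * LocRes.D F γ))

theorem Tt_add_left (φ φ' γ : F⸨X⸩) : Tt k (φ + φ') γ = Tt k φ γ + Tt k φ' γ := by
  unfold Tt
  rw [add_mul, map_add, map_add]

theorem Tt_add_right (φ γ γ' : F⸨X⸩) : Tt k φ (γ + γ') = Tt k φ γ + Tt k φ γ' := by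
  unfold Tt
  rw [map_add, mul_add, map_add, map_add]

theorem ord_D {γ : F⸨X⸩} {N : ℤ} (h : Ord γ N) : Ord (LocRes.D F γ) (N - 1) := by
  intro n hn
  rw [LocRes.D_coeff, h (n + 1) (by omega), smul_zero]

theorem Tt_ord {φ γ : F⸨X⸩} {N₁ N₂ : ℤ} (h1 : Ord φ N₁) (h2 : Ord γ N₂) (h : 1 ≤ N₁ + N₂) :
    Tt k φ γ = 0 := by
  unfold Tt
  have := (h1.mul (ord_D h2)) (-1) (by omega)
  rw [LocRes.res_apply, this, map_zero]

theorem Tt_mono (a : ℤ) (c : F) (b : ℤ) (d : F) :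
    Tt k (single a c) (single b d) =
      if a + b = 0 then (b : k) * Algebra.trace k F (c * d) else 0 := by
  unfold Tt
  rw [LocRes.res_apply, HahnSeries.coeff_single_mul, LocRes.D_coeff]
  have e : (-1 - a + 1 : ℤ) = -a := by ring
  rw [e]
  by_cases hs : a + b = 0
  · rw [if_pos hs]
    have ha : -a = b := by omega
    rw [ha, HahnSeries.coeff_single_same, mul_smul_comm, map_zsmul, zsmul_eq_mul]
  · rw [if_neg hs, HahnSeries.coeff_single_of_ne (by omega), smul_zero, mul_zero, map_zero]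

/-- Main local computation. -/
theorem Rr_eq_Tt [FiniteDimensional k F] (φ γ : F⸨X⸩) : Rr k φ γ = Tt k φ γ := by
  have := bilin_eq_zero (k := k) (F := F) (fun φ γ => Rr k φ γ - Tt k φ γ)
    (fun φ φ' γ => by simp only [Rr_add_left, Tt_add_left]; ring)
    (fun φ γ γ' => by simp only [Rr_add_right, Tt_add_right]; ring)
    (fun a c b d => by simp only [Rr_mono, Tt_mono, sub_self])
    (fun φ γ M N₁ N₂ h1 h2 h => by
      rcases h with ⟨ha, hb⟩ | ⟨ha, hb⟩
      · have r : Rr k φ γ = 0 :=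
          rho_eq_zero_of_ord (M := M) h1 (h2.mono hb) (by omega)
        rw [r, Tt_ord h1 h2 (by omega), sub_zero]
      · have r : Rr k γ φ = 0 :=
          rho_eq_zero_of_ord (M := M) h2 (h1.mono hb) (by omega)
        rw [Rr_antisymm φ γ, neg_eq_zero] at r
        rw [r, Tt_ord h1 h2 (by omega), sub_zero]) φ γ
  exact sub_eq_zero.mp this

end Groth.Agent.Helper27.Tate
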