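import Groth.Agent.Lib.Helper27.TateB

/-! Abstract global vanishing. -/

namespace Groth.Agent.Helper27.Tate

open Groth.Agent.Helper27.TrF Submodule

variable {k : Type*} [Field k] {V : Type*} [AddCommGroup V] [Module k V]

theorem rho_eq_zero_of_global {f g π : Module.End k V} (hc : f * g = g * f) (hπ : π * π = π)
    (hA : Adm f g π) (B : Submodule k V) (hfB : ∀ x ∈ B, f x ∈ B) (hgB : ∀ x ∈ B, g x ∈ B)
    (hfin1 : FiniteDimensional k (LinearMap.range π ⊓ B : Submodule k V))
    (hfin2 : FiniteDimensional k (V ⧸ (LinearMap.range π ⊔ B))) :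
    rho f g π = 0 := by
  set A := LinearMap.range π with hAdef
  have hπA : ∀ x ∈ A, π x = x := by
    rintro _ ⟨y, rfl⟩
    exact LinearMap.congr_fun hπ y
  obtain ⟨A₁, hA₁⟩ := Submodule.exists_isCompl (A ⊓ B)
  set A₀ := A₁ ⊓ A with hA₀
  have hA₀B : A₀ ⊓ B = ⊥ := by
    rw [eq_bot_iff]
    rintro x ⟨⟨h1, h2⟩, h3⟩
    have : x ∈ (A ⊓ B) ⊓ A₁ := ⟨⟨h2, h3⟩, h1⟩
    rw [hA₁.inf_eq_bot] at this
    exact this
  have hA₀sup : (A ⊓ B) ⊔ A₀ = A := by
    have := sup_inf_assoc_of_le A₁ (inf_le_left : A ⊓ B ≤ A)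
    rw [hA₁.sup_eq_top, top_inf_eq] at this
    exact this.symm
  have hA₀A : A₀ ≤ A := inf_le_right
  set D := A ⊔ B with hD
  have hA₀D : A₀ ⊔ B = D := by
    apply le_antisymm
    · exact sup_le_sup_right hA₀A B
    · apply sup_le _ le_sup_right
      rw [← hA₀sup]
      exact sup_le (le_trans inf_le_right le_sup_right) le_sup_left
  obtain ⟨C, hC⟩ := Submodule.exists_isCompl D
  have hCfin : FiniteDimensional k C := by
    haveI : FiniteDimensional k (V ⧸ D) := hfin2
    exact (Submodule.quotientEquivOfIsCompl D C hC).finiteDimensional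
  have hcompl1 : IsCompl A₀ (B ⊔ C) := by
    constructor
    · rw [disjoint_iff, eq_bot_iff]
      rintro x ⟨h1, h2⟩
      obtain ⟨b, hb, c, hc', rfl⟩ := Submodule.mem_sup.mp h2
      have hcD : c ∈ D := by
        have : c = (b + c) - b := by abel
        rw [this, ← hA₀D]
        exact Submodule.sub_mem _ (Submodule.mem_sup_left h1) (Submodule.mem_sup_right hb)
      have hc0 : c = 0 := by
        have : c ∈ D ⊓ C := ⟨hcD, hc'⟩
        rw [hC.inf_eq_bot] at this
        exact this
      subst hc0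
      rw [add_zero] at h1 ⊢
      have : b ∈ A₀ ⊓ B := ⟨h1, hb⟩
      rw [hA₀B] at this
      exact this
    · rw [codisjoint_iff, ← sup_assoc, hA₀D, hC.sup_eq_top]
  have hcompl2 : IsCompl C (A₀ ⊔ B) := by rw [hA₀D]; exact hC.symm
  set e₁ : Module.End k V := A₀.projection (B ⊔ C) hcompl1 with he₁
  set eC : Module.End k V := C.projection (A₀ ⊔ B) hcompl2 with heC
  set eB : Module.End k V := 1 - e₁ - eC with heB
  have he₁id : e₁ * e₁ = e₁ := (Submodule.isIdempotentElem_projection hcompl1)
  have he₁B : ∀ x ∈ B, e₁ x = 0 := fun x hx =>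
    Submodule.projection_apply_of_mem_right hcompl1 (Submodule.mem_sup_left hx)
  have he₁C : ∀ x ∈ C, e₁ x = 0 := fun x hx =>
    Submodule.projection_apply_of_mem_right hcompl1 (Submodule.mem_sup_right hx)
  have heCB : ∀ x ∈ B, eC x = 0 := fun x hx =>
    Submodule.projection_apply_of_mem_right hcompl2 (Submodule.mem_sup_right hx)
  have heCA₀ : ∀ x ∈ A₀, eC x = 0 := fun x hx =>
    Submodule.projection_apply_of_mem_right hcompl2 (Submodule.mem_sup_left hx)
  have heBmem : ∀ v, eB v ∈ B := by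
    intro v
    have h1 : v - e₁ v ∈ B ⊔ C := Submodule.sub_projection_mem hcompl1 v
    obtain ⟨b, hb, c, hc', hbc⟩ := Submodule.mem_sup.mp h1
    have h2 : eC v = c := by
      have : v = e₁ v + (b + c) := by rw [hbc]; abel
      rw [this, map_add, map_add, heCA₀ _ (Submodule.projection_apply_mem hcompl1 v),
        heCB b hb, Submodule.projection_apply_of_mem_left hcompl2 hc']
      simp
    have : eB v = b := by
      simp only [heB, LinearMap.sub_apply, Module.End.one_apply, h2]
      rw [← hbc]; abel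
    rw [this]; exact hb
  have hFRC : FR eC := by
    apply FR.of_le (R := C)
    rintro _ ⟨v, rfl⟩
    exact Submodule.projection_apply_mem hcompl2 v
  -- relation with π
  have hπe : π * e₁ = e₁ := by
    ext v
    simp only [Module.End.mul_apply]
    exact hπA _ (hA₀A (Submodule.projection_apply_mem hcompl1 v))
  have hfin : FR ((1 - e₁) * π) := by
    apply FR.of_le (R := A ⊓ B)
    rintro _ ⟨v, rfl⟩
    simp only [Module.End.mul_apply, LinearMap.sub_apply, Module.End.one_apply]
    have hx : π v ∈ (A ⊓ B) ⊔ A₀ := by rw [hA₀sup]; exact ⟨v, rfl⟩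
    obtain ⟨w, hw, a, ha, hwa⟩ := Submodule.mem_sup.mp hx
    rw [← hwa, map_add, he₁B w hw.2, Submodule.projection_apply_of_mem_left hcompl1 ha]
    simpa using hw
  obtain ⟨hAe, hrho⟩ := rho_sub_range hc hπ he₁id hπe hfin hA
  rw [← hrho]
  apply rho_eq_zero_of_decomp hc he₁id (eB := eB) (eC := eC) (by rw [heB]; abel) hFRC
  · ext v
    simp only [Module.End.mul_apply, LinearMap.zero_apply]
    exact he₁B _ (hfB _ (heBmem v))
  · ext v
    simp only [Module.End.mul_apply, LinearMap.zero_apply]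
    exact he₁B _ (hgB _ (heBmem v))
  · ext v
    simp only [Module.End.mul_apply, LinearMap.zero_apply]
    exact heCB _ (hfB _ (heBmem v))
  · ext v
    simp only [Module.End.mul_apply, LinearMap.zero_apply]
    exact heCB _ (hgB _ (heBmem v))
  · exact FR_theta hc hAe

end Groth.Agent.Helper27.Tate
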