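import Groth.Agent.Lib.Helper27.TateF
import Groth.Agent.Lib.Helper16.FF.AutB
import Groth.Agent.Lib.Helper16.FF.RR

/-! Global residue theorem, abstract-local form. -/

namespace Groth.Agent.Helper27.Tate

open FunFld Groth.Agent.Helper16.FF Groth.Agent.Helper27.TrF

variable {k K : Type*} [Field k] [Field K] [Algebra k K]

variable (k) in
/-- multiplication on `K` as a `k`-linear endomorphism -/
noncomputable def mulK (f : K) : Module.End k K := LinearMap.mulLeft k f

@[simp] theorem mulK_apply (f x : K) : mulK k f x = f * x := rfl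

theorem mulK_comm (f g : K) : mulK k f * mulK k g = mulK k g * mulK k f := by
  ext x
  simp only [Module.End.mul_apply, mulK_apply]
  ring

/-- multiplication on adeles -/
noncomputable def mulA (hK : IsFunctionField k K) (f : K) : Module.End k (adele k K) :=
  (f • (LinearMap.id : (Place k K → K) →ₗ[k] (Place k K → K))).restrict
    (fun a ha => by simpa using smul_mem_adele hK f a ha)

theorem mulA_apply (hK : IsFunctionField k K) (f : K) (a : adele k K) (P : Place k K) :
    (mulA hK f a).1 P = f * a.1 P := rfl

/-- componentwise projection -/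
noncomputable def piA (πP : Place k K → Module.End k K) (h1 : ∀ (P : Place k K) (x : K), P.1 (πP P x) ≤ 1) :
    Module.End k (adele k K) where
  toFun a := ⟨fun P => πP P (a.1 P), by
    rw [mem_adele]
    convert Set.finite_empty
    ext P
    simp [h1]⟩
  map_add' a b := by
    apply Subtype.ext
    funext P
    simp
  map_smul' c a := by
    apply Subtype.ext
    funext P
    simp

theorem piA_apply (πP : Place k K → Module.End k K) (h1 : ∀ (P : Place k K) (x : K), P.1 (πP P x) ≤ 1)
    (a : adele k K) (P : Place k K) : (piA πP h1 a).1 P = πP P (a.1 P) := rfl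

section

variable [DecidableEq (Place k K)]

noncomputable def iotaP (P : Place k K) : K →ₗ[k] adele k K :=
  (LinearMap.single k (fun _ : Place k K => K) P).codRestrict (adele k K) (fun x => by
    rw [mem_adele]
    refine (Set.finite_singleton P).subset ?_
    intro Q hQ
    by_contra hne
    apply hQ
    simp only [LinearMap.single_apply]
    rw [Pi.single_eq_of_ne hne]
    simp)

theorem iotaP_apply (P : Place k K) (x : K) (Q : Place k K) :
    (iotaP P x).1 Q = if Q = P then x else 0 := by
  show (Pi.single P x : Place k K → K) Q = _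
  rw [Pi.single_apply]

noncomputable def prP (P : Place k K) : adele k K →ₗ[k] K :=
  (LinearMap.proj P) ∘ₗ (adele k K).subtype

theorem prP_apply (P : Place k K) (a : adele k K) : prP P a = a.1 P := rfl

theorem prP_iotaP (P : Place k K) : prP P ∘ₗ iotaP P = LinearMap.id := by
  ext x
  simp [prP_apply, iotaP_apply]

theorem componentwise (T : Module.End k (adele k K)) (TP : Place k K → Module.End k K)
    (hT : ∀ a P, (T a).1 P = TP P (a.1 P)) (S : Finset (Place k K))
    (hS : ∀ P ∉ S, TP P = 0) (hFR : ∀ P ∈ S, FR (TP P)) :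
    FR T ∧ trF T = ∑ P ∈ S, trF (TP P) := by
  have hsum : T = ∑ P ∈ S, iotaP P ∘ₗ TP P ∘ₗ prP P := by
    apply LinearMap.ext
    intro a
    apply Subtype.ext
    funext Q
    rw [hT, LinearMap.sum_apply, Submodule.coe_sum, Finset.sum_apply]
    simp only [LinearMap.comp_apply, iotaP_apply, prP_apply]
    rw [Finset.sum_ite_eq]
    split_ifs with hQ
    · rfl
    · rw [hS Q hQ]; rfl
  have hfr : ∀ P ∈ S, FR (iotaP P ∘ₗ TP P ∘ₗ prP P) := fun P hP =>
    ((hFR P hP).comp_right _).comp_left _
  constructor
  · rw [hsum]; exact FR.sum S _ hfr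
  · rw [hsum, trF_sum S _ hfr]
    refine Finset.sum_congr rfl fun P hP => ?_
    exact trF_conj_single (iotaP P) (prP P) (prP_iotaP P) (TP P) (hFR P hP)

end

variable (k K) in
/-- the diagonal map into the adele space -/
noncomputable def diagA (hK : IsFunctionField k K) : K →ₗ[k] adele k K :=
  (diag k K).codRestrict (adele k K) (fun x => range_diag_le_adele hK ⟨x, rfl⟩)

theorem diagA_apply (hK : IsFunctionField k K) (x : K) (P : Place k K) :
    (diagA k K hK x).1 P = x := rfl

theorem global_residue (hK : IsFunctionField k K) (πP : Place k K → Module.End k K)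
    (h1 : ∀ (P : Place k K) (x : K), P.1 (πP P x) ≤ 1) (h2 : ∀ (P : Place k K) (x : K), P.1 x ≤ 1 → πP P x = x)
    (hAdm : ∀ (f : K) P, FR ((1 - πP P) * mulK k f * πP P)) (f g : K)
    (S : Finset (Place k K)) (hS : ∀ P ∉ S, P.1 f ≤ 1 ∧ P.1 g ≤ 1) :
    ∑ P ∈ S, rho (mulK k f) (mulK k g) (πP P) = 0 := by
  classical
  have hcA : mulA hK f * mulA hK g = mulA hK g * mulA hK f := by
    apply LinearMap.ext
    intro a
    apply Subtype.ext
    funext P
    simp only [Module.End.mul_apply, mulA_apply]
    ring
  -- local vanishing outside S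
  have hloc : ∀ (u : K) P, P.1 u ≤ 1 → (1 - πP P) * mulK k u * πP P = 0 := by
    intro u P hu
    ext x
    simp only [Module.End.mul_apply, LinearMap.sub_apply, Module.End.one_apply, mulK_apply,
      LinearMap.zero_apply]
    rw [h2 P (u * πP P x), sub_self]
    rw [map_mul]
    calc P.1 u * P.1 (πP P x) ≤ 1 * 1 := mul_le_mul' hu (h1 P x)
      _ = 1 := one_mul 1
  -- admissibility on adeles
  have hAdmA : ∀ u : K, (∀ P ∉ S, P.1 u ≤ 1) →
      FR ((1 - piA πP h1) * mulA hK u * piA πP h1) := by
    intro u hu
    refine (componentwise _ (fun P => (1 - πP P) * mulK k u * πP P) ?_ S ?_ ?_).1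
    · intro a P; rfl
    · intro P hP; exact hloc u P (hu P hP)
    · intro P _; exact hAdm u P
  have hA : Adm (mulA hK f) (mulA hK g) (piA πP h1) :=
    ⟨hAdmA f fun P hP => (hS P hP).1, hAdmA g fun P hP => (hS P hP).2⟩
  have hπ : piA πP h1 * piA πP h1 = piA πP h1 := by
    apply LinearMap.ext
    intro a
    apply Subtype.ext
    funext P
    simp only [Module.End.mul_apply, piA_apply]
    exact h2 P _ (h1 P _)
  -- decomposition of theta
  have hdec := componentwise (theta (mulA hK f) (mulA hK g) (piA πP h1))
    (fun P => theta (mulK k f) (mulK k g) (πP P)) (fun a P => rfl) S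
    (fun P hP => rho_eq_zero_of_stable_range (mulK_comm f g)
      (hloc f P (hS P hP).1) (hloc g P (hS P hP).2))
    (fun P _ => FR_theta (mulK_comm f g) ⟨hAdm f P, hAdm g P⟩)
  have hrho : rho (mulA hK f) (mulA hK g) (piA πP h1) =
      ∑ P ∈ S, rho (mulK k f) (mulK k g) (πP P) := hdec.2
  rw [← hrho]
  -- global vanishing
  set B : Submodule k (adele k K) := LinearMap.range (diagA k K hK) with hB
  have hstab : ∀ (u : K) (x : adele k K), x ∈ B → mulA hK u x ∈ B := by
    rintro u _ ⟨y, rfl⟩
    exact ⟨u * y, rfl⟩
  have hrange : ∀ x : adele k K, x ∈ LinearMap.range (piA πP h1) ↔ ∀ P : Place k K, P.1 (x.1 P) ≤ 1 := by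
    intro x
    constructor
    · rintro ⟨a, rfl⟩ P
      exact h1 P _
    · intro hx
      refine ⟨x, ?_⟩
      apply Subtype.ext
      funext P
      exact h2 P _ (hx P)
  have hfin1 : FiniteDimensional k (LinearMap.range (piA πP h1) ⊓ B : Submodule k (adele k K)) := by
    have := finiteDimensional_L hK (0 : Divisor k K)
    have hle : LinearMap.range (piA πP h1) ⊓ B ≤ (L (0 : Divisor k K)).map (diagA k K hK) := by
      rintro x ⟨hx1, ⟨y, rfl⟩⟩
      refine ⟨y, ?_, rfl⟩
      show y ∈ L (0 : Divisor k K)
      intro P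
      have := (hrange _).1 hx1 P
      rw [diagA_apply] at this
      simpa using this
    exact Submodule.finiteDimensional_of_le hle
  have hfin2 : FiniteDimensional k (adele k K ⧸ (LinearMap.range (piA πP h1) ⊔ B)) := by
    have := (hasRelDim_adele hK (0 : Divisor k K)).1
    have hle : (AD (0 : Divisor k K) ⊔ LinearMap.range (diag k K)).comap (adele k K).subtype ≤
        LinearMap.range (piA πP h1) ⊔ B := by
      intro x hx
      obtain ⟨a, ha, d, ⟨y, rfl⟩, hsum⟩ := Submodule.mem_sup.mp hx
      have hx' : x = ⟨a, AD_le_adele _ ha⟩ + diagA k K hK y := by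
        apply Subtype.ext
        exact hsum.symm
      rw [hx']
      refine Submodule.add_mem_sup ?_ ⟨y, rfl⟩
      rw [hrange]
      intro P
      have := ha P
      simpa using this
    exact Module.Finite.of_surjective (Submodule.factor hle) (Submodule.factor_surjective hle)
  exact rho_eq_zero_of_global hcA hπ hA B (hstab f) (hstab g) hfin1 hfin2

end Groth.Agent.Helper27.Tate
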