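import Mathlib

/-! Stable isotropic subspaces are intersections of stable isotropic subspaces of larger
dimension (a step in Tate's isogeny theorem). -/

namespace Groth.Agent.Helper27.TateIso
open Module LinearMap

variable {K : Type*} [Field K] {V : Type*} [AddCommGroup V] [Module K V] [FiniteDimensional K V]

section
variable (g : ℕ) (hV : finrank K V = 2 * g)
  (e : LinearMap.BilinForm K V) (he : e.IsAlt) (hnd : e.Nondegenerate)
  (F : Subalgebra K (Module.End K V)) (r : ℕ) (φ : F ≃ₐ[K] (Fin r → K))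
  (S : Set (Module.End K V)) (hS : Submodule.span K S = Subalgebra.toSubmodule F)
  (hsim : ∀ s ∈ S, ∃ c : K, c ≠ 0 ∧ ∀ x y : V, e (s x) (s y) = c * e x y)

include hV he hnd in
lemma finrank_le_of_isotropic (W : Submodule K V) (hWiso : ∀ x ∈ W, ∀ y ∈ W, e x y = 0) :
    finrank K W ≤ g := by
  have hle : W ≤ e.orthogonal W := fun x hx => by
    rw [LinearMap.BilinForm.mem_orthogonal_iff]
    intro n hn
    exact hWiso n hn x hx
  have h1 := Submodule.finrank_mono hle
  rw [LinearMap.BilinForm.finrank_orthogonal hnd, hV] at h1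
  omega

include hnd hS hsim in
/-- the orthogonal of an `F`-stable subspace is `F`-stable -/
lemma orthogonal_stable (W : Submodule K V) (hWF : ∀ f ∈ F, ∀ w ∈ W, f w ∈ W) :
    ∀ f ∈ F, ∀ w ∈ e.orthogonal W, f w ∈ e.orthogonal W := by
  have key : ∀ f ∈ Submodule.span K S, ∀ w ∈ e.orthogonal W, f w ∈ e.orthogonal W := by
    intro f hf
    induction hf using Submodule.span_induction with
    | mem s hs =>
      obtain ⟨c, hc, hcs⟩ := hsim s hs
      have hsF : s ∈ F := by
        have : s ∈ Submodule.span K S := Submodule.subset_span hs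
        rw [hS] at this; exact this
      -- s is injective
      have hinj : Function.Injective s := by
        rw [← LinearMap.ker_eq_bot, LinearMap.ker_eq_bot']
        intro x hx
        apply hnd.1 x
        intro y
        have := hcs x y
        rw [hx, map_zero, LinearMap.zero_apply] at this
        exact (mul_eq_zero.mp this.symm).resolve_left hc
      -- s maps W onto W
      have hsurj : ∀ w ∈ W, ∃ w' ∈ W, s w' = w := by
        let sW : W →ₗ[K] W := s.restrict (fun w hw => hWF s hsF w hw)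
        have hinjW : Function.Injective sW := by
          intro a b hab
          apply Subtype.ext
          apply hinj
          exact congrArg Subtype.val hab
        have hsurjW := LinearMap.surjective_of_injective hinjW
        intro w hw
        obtain ⟨w', hw'⟩ := hsurjW ⟨w, hw⟩
        exact ⟨w'.1, w'.2, congrArg Subtype.val hw'⟩
      intro x hx
      rw [LinearMap.BilinForm.mem_orthogonal_iff] at hx ⊢
      intro w hw
      obtain ⟨w', hw', rfl⟩ := hsurj w hw
      rw [hcs, hx w' hw', mul_zero]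
    | zero =>
      intro w _
      simp
    | add a b _ _ ha hb =>
      intro w hw
      rw [LinearMap.add_apply]
      exact Submodule.add_mem _ (ha w hw) (hb w hw)
    | smul c a _ ha =>
      intro w hw
      rw [LinearMap.smul_apply]
      exact Submodule.smul_mem _ _ (ha w hw)
  intro f hf
  exact key f (by rw [hS]; exact hf)

/-- the idempotents -/
noncomputable def ε (i : Fin r) : Module.End K V := ((φ.symm (Pi.single i 1) : F) : Module.End K V)

lemma ε_mem (i : Fin r) : ε F r φ i ∈ F := (φ.symm (Pi.single i 1)).2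

lemma sum_ε : ∑ i, ε F r φ i = 1 := by
  unfold ε
  rw [← Subalgebra.coe_one F]
  have : (1 : F) = ∑ i, φ.symm (Pi.single i 1) := by
    rw [← map_sum, Finset.univ_sum_single]
    exact (map_one φ.symm).symm
  rw [this]
  simp

lemma mul_ε (f : Module.End K V) (hf : f ∈ F) (i : Fin r) :
    f * ε F r φ i = (φ ⟨f, hf⟩ i) • ε F r φ i := by
  unfold ε
  have : (⟨f, hf⟩ : F) * φ.symm (Pi.single i 1) = (φ ⟨f, hf⟩ i) • φ.symm (Pi.single i 1) := by
    apply φ.injective
    rw [map_mul, map_smul, AlgEquiv.apply_symm_apply]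
    ext j
    by_cases hj : j = i
    · subst hj; simp
    · simp [hj]
  have h2 := congrArg (fun x : F => (x : Module.End K V)) this
  simpa using h2

end

theorem main (g : ℕ) (hV : finrank K V = 2 * g)
    (e : LinearMap.BilinForm K V) (he : e.IsAlt) (hnd : e.Nondegenerate)
    (F : Subalgebra K (Module.End K V)) (r : ℕ) (φ : F ≃ₐ[K] (Fin r → K))
    (S : Set (Module.End K V)) (hS : Submodule.span K S = Subalgebra.toSubmodule F)
    (hsim : ∀ s ∈ S, ∃ c : K, c ≠ 0 ∧ ∀ x y : V, e (s x) (s y) = c * e x y)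
    (D : Set (Module.End K V))
    (hmax : ∀ W : Submodule K V, (∀ f ∈ F, ∀ w ∈ W, f w ∈ W) → (∀ x ∈ W, ∀ y ∈ W, e x y = 0) →
      Module.finrank K W = g → ∀ d ∈ D, ∀ w ∈ W, d w ∈ W) :
    ∀ (k : ℕ) (W : Submodule K V), g - finrank K W ≤ k → (∀ f ∈ F, ∀ w ∈ W, f w ∈ W) →
      (∀ x ∈ W, ∀ y ∈ W, e x y = 0) → ∀ d ∈ D, ∀ w ∈ W, d w ∈ W := by
  intro k
  induction k with
  | zero =>
    intro W hk hWF hWiso
    have := finrank_le_of_isotropic g hV e he hnd W hWiso
    exact hmax W hWF hWiso (by omega)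
  | succ k ih =>
    intro W hk hWF hWiso
    have hle := finrank_le_of_isotropic g hV e he hnd W hWiso
    by_cases hg : finrank K W = g
    · exact hmax W hWF hWiso hg
    have hlt : finrank K W < g := lt_of_le_of_ne hle hg
    -- the orthogonal
    obtain ⟨M, hM⟩ : ∃ M, M = e.orthogonal W := ⟨_, rfl⟩
    have hMF : ∀ f ∈ F, ∀ w ∈ M, f w ∈ M := by
      rw [hM]; exact orthogonal_stable e hnd F S hS hsim W hWF
    have hMdim : finrank K M = 2 * g - finrank K W := by
      rw [hM, LinearMap.BilinForm.finrank_orthogonal hnd, hV]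
    have hWM : W ≤ M := fun x hx => by
      rw [hM, LinearMap.BilinForm.mem_orthogonal_iff]
      intro n hn
      exact hWiso n hn x hx
    -- eigenvectors outside a small subspace
    have hexists : ∀ N : Submodule K V, (∀ f ∈ F, ∀ w ∈ N, f w ∈ N) → finrank K N < finrank K M →
        ∃ u ∈ M, u ∉ N ∧ ∀ f ∈ F, ∃ c : K, f u = c • u := by
      intro N hNF hN
      have hnot : ¬ M ≤ N := fun h => by
        have := Submodule.finrank_mono h; omega
      obtain ⟨m, hmM, hmN⟩ := SetLike.not_le_iff_exists.mp hnot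
      have hsum : m = ∑ i, ε F r φ i m := by
        rw [← LinearMap.sum_apply, sum_ε]; rfl
      have : ∃ i, ε F r φ i m ∉ N := by
        by_contra hcon
        push Not at hcon
        apply hmN
        rw [hsum]
        exact Submodule.sum_mem _ (fun i _ => hcon i)
      obtain ⟨i, hi⟩ := this
      refine ⟨ε F r φ i m, hMF _ (ε_mem F r φ i) m hmM, hi, fun f hf => ⟨φ ⟨f, hf⟩ i, ?_⟩⟩
      have := congrArg (fun T : Module.End K V => T m) (mul_ε F r φ f hf i)
      simpa using this
    -- adding an eigenvector in the orthogonal keeps the properties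
    have hadd : ∀ u ∈ M, (∀ f ∈ F, ∃ c : K, f u = c • u) →
        (∀ f ∈ F, ∀ w ∈ W ⊔ K ∙ u, f w ∈ W ⊔ K ∙ u) ∧
        (∀ x ∈ W ⊔ K ∙ u, ∀ y ∈ W ⊔ K ∙ u, e x y = 0) := by
      intro u huM hu
      constructor
      · intro f hf w hw
        obtain ⟨w₀, hw₀, z, hz, rfl⟩ := Submodule.mem_sup.mp hw
        obtain ⟨a, rfl⟩ := Submodule.mem_span_singleton.mp hz
        obtain ⟨c, hc⟩ := hu f hf
        rw [map_add, map_smul, hc]
        exact Submodule.add_mem _ (Submodule.mem_sup_left (hWF f hf w₀ hw₀))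
          (Submodule.mem_sup_right (Submodule.smul_mem _ _ (Submodule.smul_mem _ _
            (Submodule.mem_span_singleton_self u))))
      · intro x hx y hy
        obtain ⟨w₁, hw₁, z₁, hz₁, rfl⟩ := Submodule.mem_sup.mp hx
        obtain ⟨a, rfl⟩ := Submodule.mem_span_singleton.mp hz₁
        obtain ⟨w₂, hw₂, z₂, hz₂, rfl⟩ := Submodule.mem_sup.mp hy
        obtain ⟨b, rfl⟩ := Submodule.mem_span_singleton.mp hz₂
        rw [hM, LinearMap.BilinForm.mem_orthogonal_iff] at huM
        have h1 : e w₁ u = 0 := huM w₁ hw₁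
        have h2 : e u w₂ = 0 := by rw [← he.neg_eq, huM w₂ hw₂, neg_zero]
        simp only [map_add, map_smul, LinearMap.add_apply, LinearMap.smul_apply, smul_eq_mul,
          hWiso w₁ hw₁ w₂ hw₂, h1, h2, he.self_eq_zero u]
        ring
    have hstep : ∀ u ∈ M, u ∉ W → (∀ f ∈ F, ∃ c : K, f u = c • u) →
        ∀ d ∈ D, ∀ w ∈ W ⊔ K ∙ u, d w ∈ W ⊔ K ∙ u := by
      intro u huM huW hu
      obtain ⟨h1, h2⟩ := hadd u huM hu
      apply ih (W ⊔ K ∙ u) _ h1 h2
      have hlt' : W < W ⊔ K ∙ u := by
        apply lt_of_le_of_ne le_sup_left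
        intro heq
        apply huW
        rw [heq]
        exact Submodule.mem_sup_right (Submodule.mem_span_singleton_self u)
      have := Submodule.finrank_lt_finrank_of_lt hlt'
      omega
    obtain ⟨u₁, hu₁M, hu₁W, hu₁⟩ := hexists W hWF (by omega)
    have hN1 := hadd u₁ hu₁M hu₁
    have hdim1 : finrank K ↥(W ⊔ K ∙ u₁) < finrank K M := by
      have h1 := Submodule.finrank_add_le_finrank_add_finrank W (K ∙ u₁)
      have hu₁0 : u₁ ≠ 0 := fun h => hu₁W (h ▸ W.zero_mem)
      have h2 := finrank_span_singleton (K := K) hu₁0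
      omega
    obtain ⟨u₂, hu₂M, hu₂N, hu₂⟩ := hexists (W ⊔ K ∙ u₁) hN1.1 hdim1
    have hu₂W : u₂ ∉ W := fun h => hu₂N (Submodule.mem_sup_left h)
    intro d hd w hw
    have hd1 := hstep u₁ hu₁M hu₁W hu₁ d hd w (Submodule.mem_sup_left hw)
    have hd2 := hstep u₂ hu₂M hu₂W hu₂ d hd w (Submodule.mem_sup_left hw)
    obtain ⟨w₁, hw₁, z₁, hz₁, h1⟩ := Submodule.mem_sup.mp hd1
    obtain ⟨a, rfl⟩ := Submodule.mem_span_singleton.mp hz₁
    obtain ⟨w₂, hw₂, z₂, hz₂, h2⟩ := Submodule.mem_sup.mp hd2
    obtain ⟨b, rfl⟩ := Submodule.mem_span_singleton.mp hz₂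
    by_cases hb : b = 0
    · rw [← h2, hb, zero_smul, add_zero]; exact hw₂
    · exfalso
      apply hu₂N
      have : u₂ = b⁻¹ • (w₁ - w₂ + a • u₁) := by
        have h3 : b • u₂ = w₁ - w₂ + a • u₁ := by
          have h12 := h1.trans h2.symm
          calc b • u₂ = (w₂ + b • u₂) - w₂ := by abel
            _ = (w₁ + a • u₁) - w₂ := by rw [h12]
            _ = w₁ - w₂ + a • u₁ := by abel
        rw [← h3, smul_smul, inv_mul_cancel₀ hb, one_smul]
      rw [this]
      exact Submodule.smul_mem _ _ (Submodule.add_mem _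
        (Submodule.mem_sup_left (Submodule.sub_mem _ hw₁ hw₂))
        (Submodule.mem_sup_right (Submodule.smul_mem _ _ (Submodule.mem_span_singleton_self u₁))))

end Groth.Agent.Helper27.TateIso
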