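import Groth.Agent.Lib.Helper27.TateG
import Groth.Agent.Lib.Helper27.TateE
import Groth.Agent.Lib.Helper27.DExpA

/-! Local comparison: abstract residue on `K` at a place equals the Laurent residue. -/

namespace Groth.Agent.Helper27.Tate

open FunFld Groth.Agent.Helper16.FF Groth.Agent.Helper27.TrF HahnSeries LaurentSeries
open scoped WithZero

variable {k K : Type*} [Field k] [Field K] [Algebra k K] {F : Type*} [Field F] [Algebra k F]

theorem ord_iff_val (h : F⸨X⸩) (N : ℤ) : Ord h N ↔ Valued.v h ≤ WithZero.exp (-N) :=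
  (valuation_le_iff_coeff_lt_eq_zero F).symm

/-- `Φ` as a `k`-linear map -/
noncomputable def jPhi (Φ : K →ₐ[k] F⸨X⸩) : K →ₗ[k] F⸨X⸩ where
  toFun := Φ
  map_add' := map_add Φ
  map_smul' c x := by
    simp only [RingHom.id_apply]
    rw [Algebra.smul_def, map_mul, LocRes.map_algebraMap, ksmul_eq]

@[simp] theorem jPhi_apply (Φ : K →ₐ[k] F⸨X⸩) (x : K) : jPhi Φ x = Φ x := rfl

theorem jPhi_injective (Φ : K →ₐ[k] F⸨X⸩) : Function.Injective (jPhi Φ) :=
  Φ.toRingHom.injective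

theorem coeff_mul_low {x y : F⸨X⸩} {N₁ N₂ : ℤ} (h1 : Ord x N₁) (h2 : Ord y N₂) :
    (x * y).coeff (N₁ + N₂) = x.coeff N₁ * y.coeff N₂ := by
  set x' := x - single N₁ (x.coeff N₁) with hx'
  have hord : Ord x' (N₁ + 1) := by
    intro n hn
    rw [hx', HahnSeries.coeff_sub]
    rcases lt_or_eq_of_le (show n ≤ N₁ by omega) with h | h
    · rw [h1 n h, HahnSeries.coeff_single_of_ne (ne_of_lt h), sub_zero]
    · subst h; rw [HahnSeries.coeff_single_same, sub_self]
  have e : x = single N₁ (x.coeff N₁) + x' := by rw [hx']; ring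
  conv_lhs => rw [e, add_mul, HahnSeries.coeff_add, HahnSeries.coeff_single_mul]
  have := (hord.mul h2) (N₁ + N₂) (by omega)
  rw [this, add_zero]
  congr 2
  ring

theorem ord_Phi_of_le (P : Place k K) (Φ : K →ₐ[k] F⸨X⸩) (hΦ : LocRes.IsExpansionAt P.1 Φ)
    {x : K} (hx : P.1 x ≤ 1) : Ord (Φ x) 0 := by
  rw [ord_iff_val, hΦ.1, neg_zero, WithZero.exp_zero]
  exact hx

theorem le_of_ord_Phi (P : Place k K) (Φ : K →ₐ[k] F⸨X⸩) (hΦ : LocRes.IsExpansionAt P.1 Φ)
    {x : K} (hx : Ord (Φ x) 0) : P.1 x ≤ 1 := by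
  rw [ord_iff_val, hΦ.1, neg_zero, WithZero.exp_zero] at hx
  exact hx

theorem exists_approx (P : Place k K) (Φ : K →ₐ[k] F⸨X⸩) (hΦ : LocRes.IsExpansionAt P.1 Φ) :
    ∀ (M : ℕ) (h : F⸨X⸩), Ord h (-(M : ℤ)) → ∃ x : K, Ord (h - Φ x) 0 := by
  intro M
  induction M with
  | zero =>
    intro h hh
    refine ⟨0, ?_⟩
    rw [map_zero, sub_zero]
    simpa using hh
  | succ M ih =>
    intro h hh
    obtain ⟨t, ht⟩ := hΦ.2.2
    set w := Φ (t⁻¹ ^ (M + 1)) with hw
    have hvw : Valued.v w = WithZero.exp (-(-((M : ℤ) + 1))) := by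
      rw [hw, hΦ.1, map_pow, map_inv₀, ht, ← WithZero.exp_neg, ← WithZero.exp_nsmul]
      congr 1
      simp only [neg_neg, nsmul_eq_mul, Nat.cast_add, Nat.cast_one, mul_one]
    obtain ⟨hw1, hw2⟩ := (DExp.val_eq_exp_iff w _).1 hvw
    set a := h.coeff (-((M : ℤ) + 1)) / w.coeff (-((M : ℤ) + 1)) with ha
    obtain ⟨y, hy1, hy2⟩ := hΦ.2.1 a
    have hy0 : Ord (Φ y) 0 := ord_Phi_of_le P Φ hΦ hy1
    have hprod : Ord (Φ y * w) (0 + -((M : ℤ) + 1)) := hy0.mul hw1
    have hlow : (Φ y * w).coeff (0 + -((M : ℤ) + 1)) = h.coeff (-((M : ℤ) + 1)) := by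
      rw [coeff_mul_low hy0 hw1, hy2, ha, div_mul_cancel₀ _ hw2]
    rw [zero_add] at hprod hlow
    set x₁ := y * t⁻¹ ^ (M + 1) with hx₁
    have hΦx₁ : Φ x₁ = Φ y * w := by rw [hx₁, map_mul]
    have hh' : Ord (h - Φ x₁) (-(M : ℤ)) := by
      intro n hn
      rw [HahnSeries.coeff_sub, hΦx₁]
      rcases lt_or_eq_of_le (show n ≤ -((M : ℤ) + 1) by omega) with h' | h'
      · rw [hh n (by push_cast; omega), hprod n h', sub_zero]
      · rw [h', hlow, sub_self]
    obtain ⟨x₂, hx₂⟩ := ih _ hh'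
    refine ⟨x₁ + x₂, ?_⟩
    have : h - Φ (x₁ + x₂) = h - Φ x₁ - Φ x₂ := by rw [map_add]; ring
    rw [this]; exact hx₂

theorem local_residue [FiniteDimensional k F] (P : Place k K) (Φ : K →ₐ[k] F⸨X⸩)
    (hΦ : LocRes.IsExpansionAt P.1 Φ) (π : Module.End k K) (h1 : ∀ x, P.1 (π x) ≤ 1)
    (h2 : ∀ x, P.1 x ≤ 1 → π x = x) (f g : K) :
    Adm (mulK k f) (mulK k g) π ∧ rho (mulK k f) (mulK k g) π = LocRes.locRes Φ f g := by
  set j := jPhi Φ with hjdef
  have hj : Function.Injective j := jPhi_injective Φ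
  set A' : Submodule k F⸨X⸩ := LinearMap.range (trunc k) with hA'
  have memA' : ∀ h : F⸨X⸩, h ∈ A' ↔ Ord h 0 := by
    intro h
    constructor
    · rintro ⟨h', rfl⟩; exact ord_trunc h'
    · intro hh; exact ⟨h, trunc_eq_self hh⟩
  set C : Submodule k K := LinearMap.ker π with hC
  set C' : Submodule k F⸨X⸩ := C.map j with hC'
  have hππ : ∀ x, π (π x) = π x := fun x => h2 _ (h1 x)
  have hsubC : ∀ x, x - π x ∈ C := by
    intro x
    rw [hC, LinearMap.mem_ker, map_sub, hππ, sub_self]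
  have hcompl : IsCompl A' C' := by
    constructor
    · rw [disjoint_iff, eq_bot_iff]
      rintro h ⟨hA, ⟨c, hc, rfl⟩⟩
      have hc1 : P.1 c ≤ 1 := le_of_ord_Phi P Φ hΦ ((memA' _).1 hA)
      have : c = 0 := by rw [← h2 c hc1]; exact hc
      rw [this, map_zero]; exact Submodule.zero_mem _
    · rw [codisjoint_iff, eq_top_iff]
      intro h _
      obtain ⟨M, hM⟩ := exists_ord h
      obtain ⟨x, hx⟩ := exists_approx P Φ hΦ M h hM
      have : h = (h - Φ x + Φ (π x)) + j (x - π x) := by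
        rw [jPhi_apply, map_sub]; ring
      rw [this]
      refine Submodule.add_mem_sup ?_ ⟨_, hsubC x, rfl⟩
      rw [memA']
      exact hx.add (ord_Phi_of_le P Φ hΦ (h1 x))
  set π' : Module.End k F⸨X⸩ := A'.projection C' hcompl with hπ'
  have e1 : π' * trunc k = trunc k := by
    ext h : 1
    simp only [Module.End.mul_apply]
    exact Submodule.projection_apply_of_mem_left hcompl ⟨h, rfl⟩
  have e2 : trunc k * π' = π' := by
    ext h : 1
    simp only [Module.End.mul_apply]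
    obtain ⟨h', hh'⟩ := Submodule.projection_apply_mem hcompl h
    rw [← hπ'] at hh'
    rw [← hh']
    exact LinearMap.congr_fun trunc_idem h'
  have hA0 := adm_mulL (k := k) (Φ f) (Φ g)
  obtain ⟨hAπ', hρ⟩ := rho_same_range (mulL_comm (k := k) (Φ f) (Φ g)) trunc_idem
    (Submodule.isIdempotentElem_projection hcompl) e1 e2 hA0
  -- σ
  set σ : F⸨X⸩ →ₗ[k] K := C.subtype ∘ₗ (Submodule.equivMapOfInjective j hj C).symm.toLinearMap ∘ₗ
    (C'.projectionOnto A' hcompl.symm) with hσ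
  have hjσ : j ∘ₗ σ = 1 - π' := by
    apply LinearMap.ext
    intro h
    have h3 : (1 - π') h = C'.projection A' hcompl.symm h := by
      rw [Submodule.projection_eq_self_sub_projection hcompl]; rfl
    rw [h3]
    simp only [hσ, LinearMap.comp_apply, Submodule.subtype_apply, LinearEquiv.coe_coe]
    set c' := C'.projectionOnto A' hcompl.symm h with hc'
    have := congrArg Subtype.val ((Submodule.equivMapOfInjective j hj C).apply_symm_apply c')
    rw [Submodule.coe_equivMapOfInjective_apply] at this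
    rw [this]; rfl
  have hjπ : j ∘ₗ π = π' ∘ₗ j := by
    apply LinearMap.ext
    intro x
    simp only [LinearMap.comp_apply]
    have hx : j x = j (π x) + j (x - π x) := by rw [← map_add]; congr 1; ring
    conv_rhs => rw [hx, map_add]
    have a1 : π' (j (π x)) = j (π x) :=
      Submodule.projection_apply_of_mem_left hcompl ((memA' _).2 (ord_Phi_of_le P Φ hΦ (h1 x)))
    have a2 : π' (j (x - π x)) = 0 :=
      Submodule.projection_apply_of_mem_right hcompl ⟨_, hsubC x, rfl⟩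
    rw [a1, a2, add_zero]
  have hjm : ∀ u : K, j ∘ₗ mulK k u = mulL k (Φ u) ∘ₗ j := by
    intro u
    apply LinearMap.ext
    intro x
    simp only [LinearMap.comp_apply, mulK_apply, mulL_apply, hjdef, jPhi_apply, map_mul]
  obtain ⟨-, hAdm, hrho⟩ := rho_comparison j hj (mulK k f) (mulK k g) π (mulL k (Φ f))
    (mulL k (Φ g)) π' σ (hjm f) (hjm g) hjπ hjσ (mulL_comm _ _) hAπ'
  refine ⟨hAdm, ?_⟩
  rw [hrho, hρ]
  exact Rr_eq_Tt (k := k) (Φ f) (Φ g)

end Groth.Agent.Helper27.Tate
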