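import Groth.Agent.Lib.Helper27.TateB

/-! Abstract residue: splitting along orthogonal idempotents; block computations. -/

namespace Groth.Agent.Helper27.Tate

open Groth.Agent.Helper27.TrF

variable {k : Type*} [Field k] {V : Type*} [AddCommGroup V] [Module k V]

theorem theta_compl {f g : Module.End k V} (hc : f * g = g * f) (c : Module.End k V) :
    theta f g (1 - c) = (g * c * f - f * c * g) + (f * c * g * c - g * c * f * c) := by
  have : theta f g (1 - c) = (g * c * f - f * c * g) + (f * c * g * c - g * c * f * c) +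
      (f * g - g * f) * (1 - c) := by
    unfold theta; noncomm_ring
  rw [this, hc, sub_self, zero_mul, add_zero]

theorem adm_one (f g : Module.End k V) : Adm f g 1 := by
  constructor <;> · rw [sub_self, zero_mul, zero_mul]; exact FR.zero

theorem rho_one {f g : Module.End k V} (hc : f * g = g * f) : rho f g 1 = 0 := by
  unfold rho theta
  rw [mul_one, mul_one, mul_one, mul_one, hc, sub_self, trF_zero]

theorem rho_split {f g c₁ c₂ : Module.End k V} (hc : f * g = g * f)
    (h1 : c₁ * c₁ = c₁) (h2 : c₂ * c₂ = c₂) (h12 : c₁ * c₂ = 0) (h21 : c₂ * c₁ = 0)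
    (hA1 : Adm f g (1 - c₁)) (hA2 : Adm f g (1 - c₂)) :
    Adm f g (1 - (c₁ + c₂)) ∧
      rho f g (1 - (c₁ + c₂)) = rho f g (1 - c₁) + rho f g (1 - c₂) := by
  have e12 : (1 - c₁) * (1 - c₂) = 1 - (c₁ + c₂) := by
    have : (1 - c₁) * (1 - c₂) = 1 - (c₁ + c₂) + c₁ * c₂ := by noncomm_ring
    rw [this, h12, add_zero]
  have e21 : (1 - c₂) * (1 - c₁) = 1 - (c₁ + c₂) := by
    have : (1 - c₂) * (1 - c₁) = 1 - (c₁ + c₂) + c₂ * c₁ := by noncomm_ring
    rw [this, h21, add_zero]
  have hadm : ∀ u : Module.End k V, FR ((1 - (1 - c₁)) * u * (1 - c₁)) →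
      FR ((1 - (1 - c₂)) * u * (1 - c₂)) →
      FR ((1 - (1 - (c₁ + c₂))) * u * (1 - (c₁ + c₂))) := by
    intro u hu1 hu2
    have : (1 - (1 - (c₁ + c₂))) * u * (1 - (c₁ + c₂)) =
        ((1 - (1 - c₁)) * u * (1 - c₁)) * (1 - c₂) + ((1 - (1 - c₂)) * u * (1 - c₂)) * (1 - c₁) := by
      have : ((1 - (1 - c₁)) * u * (1 - c₁)) * (1 - c₂) +
          ((1 - (1 - c₂)) * u * (1 - c₂)) * (1 - c₁) =
          c₁ * u * ((1 - c₁) * (1 - c₂)) + c₂ * u * ((1 - c₂) * (1 - c₁)) := by noncomm_ring
      rw [this, e12, e21]; noncomm_ring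
    rw [this]
    exact (FR.mul_right hu1 _).add (FR.mul_right hu2 _)
  have hA : Adm f g (1 - (c₁ + c₂)) := ⟨hadm f hA1.1 hA2.1, hadm g hA1.2 hA2.2⟩
  refine ⟨hA, ?_⟩
  -- cross terms
  have hX : ∀ u : Module.End k V, FR ((1 - (1 - c₁)) * u * (1 - c₁)) → FR (c₁ * u * c₂) := by
    intro u hu
    have : c₁ * u * c₂ = ((1 - (1 - c₁)) * u * (1 - c₁)) * c₂ := by
      have : ((1 - (1 - c₁)) * u * (1 - c₁)) * c₂ = c₁ * u * c₂ - c₁ * u * (c₁ * c₂) := by
        noncomm_ring
      rw [this, h12, mul_zero, sub_zero]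
    rw [this]; exact FR.mul_right hu _
  have hY : ∀ u : Module.End k V, FR ((1 - (1 - c₂)) * u * (1 - c₂)) → FR (c₂ * u * c₁) := by
    intro u hu
    have : c₂ * u * c₁ = ((1 - (1 - c₂)) * u * (1 - c₂)) * c₁ := by
      have : ((1 - (1 - c₂)) * u * (1 - c₂)) * c₁ = c₂ * u * c₁ - c₂ * u * (c₂ * c₁) := by
        noncomm_ring
      rw [this, h21, mul_zero, sub_zero]
    rw [this]; exact FR.mul_right hu _
  -- general cancellation: for idempotent a, and FR (a u b), FR (b v a):
  have hcanc : ∀ (a b u v : Module.End k V), a * a = a → FR (a * u * b) → FR (b * v * a) →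
      trF (v * a * u * b) = trF (u * b * v * a) := by
    intro a b u v ha hu hv
    have s1 : v * a * u * b = (v * a) * (a * u * b) := by
      have : (v * a) * (a * u * b) = v * (a * a) * u * b := by noncomm_ring
      rw [this, ha]
    have s2 : (a * u * b) * (v * a) = a * (u * b * v * a) := by noncomm_ring
    have s3 : (u * b * v * a) * a = u * b * v * a := by
      have : (u * b * v * a) * a = u * b * v * (a * a) := by noncomm_ring
      rw [this, ha]
    have F1 : FR (u * b * v * a) := by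
      have : u * b * v * a = u * (b * v * a) := by noncomm_ring
      rw [this]; exact FR.mul_left hv u
    rw [s1, trF_mul_comm' (v * a) hu, s2, trF_mul_comm' a F1, s3]
  have t1 := theta_compl hc (c₁ + c₂)
  have t2 := theta_compl hc c₁
  have t3 := theta_compl hc c₂
  have hcross : theta f g (1 - (c₁ + c₂)) = theta f g (1 - c₁) + theta f g (1 - c₂) +
      ((f * c₁ * g * c₂ - g * c₂ * f * c₁) + (f * c₂ * g * c₁ - g * c₁ * f * c₂)) := by
    rw [t1, t2, t3]; noncomm_ring
  have F1 : FR (f * c₁ * g * c₂) := by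
    have : f * c₁ * g * c₂ = f * (c₁ * g * c₂) := by noncomm_ring
    rw [this]; exact FR.mul_left (hX g hA1.2) f
  have F2 : FR (g * c₂ * f * c₁) := by
    have : g * c₂ * f * c₁ = g * (c₂ * f * c₁) := by noncomm_ring
    rw [this]; exact FR.mul_left (hY f hA2.1) g
  have F3 : FR (f * c₂ * g * c₁) := by
    have : f * c₂ * g * c₁ = f * (c₂ * g * c₁) := by noncomm_ring
    rw [this]; exact FR.mul_left (hY g hA2.2) f
  have F4 : FR (g * c₁ * f * c₂) := by
    have : g * c₁ * f * c₂ = g * (c₁ * f * c₂) := by noncomm_ring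
    rw [this]; exact FR.mul_left (hX f hA1.1) g
  have hθ1 := FR_theta hc hA1
  have hθ2 := FR_theta hc hA2
  unfold rho
  rw [hcross, trF_add (hθ1.add hθ2) ((F1.sub F2).add (F3.sub F4)), trF_add hθ1 hθ2,
    trF_add (F1.sub F2) (F3.sub F4), trF_sub F1 F2, trF_sub F3 F4,
    hcanc c₁ c₂ g f h1 (hX g hA1.2) (hY f hA2.1), hcanc c₂ c₁ g f h2 (hY g hA2.2) (hX f hA1.1)]
  ring

theorem rho_split_sum {ι : Type*} [DecidableEq ι] {f g : Module.End k V} (hc : f * g = g * f)
    (c : ι → Module.End k V) (s : Finset ι)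
    (horth : ∀ i ∈ s, ∀ j ∈ s, c i * c j = if i = j then c i else 0)
    (hA : ∀ i ∈ s, Adm f g (1 - c i)) :
    Adm f g (1 - ∑ i ∈ s, c i) ∧ rho f g (1 - ∑ i ∈ s, c i) = ∑ i ∈ s, rho f g (1 - c i) := by
  induction s using Finset.induction_on with
  | empty =>
    rw [Finset.sum_empty, Finset.sum_empty, sub_zero]
    exact ⟨adm_one f g, rho_one hc⟩
  | insert a s ha ih =>
    have horth' : ∀ i ∈ s, ∀ j ∈ s, c i * c j = if i = j then c i else 0 := fun i hi j hj =>
      horth i (Finset.mem_insert_of_mem hi) j (Finset.mem_insert_of_mem hj)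
    obtain ⟨ihA, ihρ⟩ := ih horth' fun i hi => hA i (Finset.mem_insert_of_mem hi)
    set C := ∑ i ∈ s, c i with hC
    have hCC : C * C = C := by
      rw [hC, Finset.sum_mul]
      refine Finset.sum_congr rfl fun i hi => ?_
      rw [Finset.mul_sum, Finset.sum_eq_single i]
      · rw [horth' i hi i hi, if_pos rfl]
      · intro j hj hji
        rw [horth' i hi j hj, if_neg (Ne.symm hji)]
      · intro h; exact absurd hi h
    have haC : c a * C = 0 := by
      rw [hC, Finset.mul_sum]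
      refine Finset.sum_eq_zero fun i hi => ?_
      rw [horth a (Finset.mem_insert_self a s) i (Finset.mem_insert_of_mem hi), if_neg]
      rintro rfl; exact ha hi
    have hCa : C * c a = 0 := by
      rw [hC, Finset.sum_mul]
      refine Finset.sum_eq_zero fun i hi => ?_
      rw [horth i (Finset.mem_insert_of_mem hi) a (Finset.mem_insert_self a s), if_neg]
      rintro rfl; exact ha hi
    have haa : c a * c a = c a := by
      rw [horth a (Finset.mem_insert_self a s) a (Finset.mem_insert_self a s), if_pos rfl]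
    obtain ⟨A, R⟩ := rho_split hc haa hCC haC hCa (hA a (Finset.mem_insert_self a s)) ihA
    rw [Finset.sum_insert ha, Finset.sum_insert ha]
    exact ⟨A, by rw [R, ihρ]⟩

/-- block computation -/
theorem rho_blocks {W : Type*} [AddCommGroup W] [Module k W] {J : Type*} [Fintype J] [DecidableEq J]
    (ι : J → (W →ₗ[k] V)) (p : J → (V →ₗ[k] W))
    (hpι : ∀ i j w, p i (ι j w) = if i = j then w else 0)
    (hsum : ∀ v, ∑ i, ι i (p i v) = v)
    (f g : Module.End k V) (m : J → J → Module.End k W) (g₀ π₀ : Module.End k W)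
    (hf : ∀ j w, f (ι j w) = ∑ i, ι i (m i j w)) (hg : ∀ j w, g (ι j w) = ι j (g₀ w))
    (hc : ∀ i j, m i j * g₀ = g₀ * m i j) (hA : ∀ i j, Adm (m i j) g₀ π₀) :
    rho f g (∑ i, ι i ∘ₗ π₀ ∘ₗ p i) = ∑ i, rho (m i i) g₀ π₀ := by
  classical
  set π : Module.End k V := ∑ i, ι i ∘ₗ π₀ ∘ₗ p i with hπ
  have hπι : ∀ j w, π (ι j w) = ι j (π₀ w) := by
    intro j w
    rw [hπ, LinearMap.sum_apply, Finset.sum_eq_single j]
    · simp only [LinearMap.comp_apply, hpι, if_pos]
    · intro i _ hij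
      simp only [LinearMap.comp_apply, hpι, if_neg hij, map_zero]
    · intro h; exact absurd (Finset.mem_univ j) h
  have step2 : ∀ j w, theta f g π (ι j w) = ∑ i, ι i (theta (m i j) g₀ π₀ w) := by
    intro j w
    simp only [theta, LinearMap.sub_apply, Module.End.mul_apply, hπι, hg, hf, map_sum, map_sub,
      Finset.sum_sub_distrib]
  have step3 : theta f g π = ∑ j, ∑ i, ι i ∘ₗ theta (m i j) g₀ π₀ ∘ₗ p j := by
    apply LinearMap.ext
    intro v
    conv_lhs => rw [← hsum v]
    rw [map_sum, LinearMap.sum_apply]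
    refine Finset.sum_congr rfl fun j _ => ?_
    rw [step2, LinearMap.sum_apply]
    rfl
  have hθ : ∀ i j, FR (theta (m i j) g₀ π₀) := fun i j => FR_theta (hc i j) (hA i j)
  have hFR : ∀ i j, FR (ι i ∘ₗ theta (m i j) g₀ π₀ ∘ₗ p j) := fun i j =>
    ((hθ i j).comp_right (p j)).comp_left (ι i)
  unfold rho
  rw [step3, trF_sum _ _ fun j _ => FR.sum _ _ fun i _ => hFR i j]
  refine Finset.sum_congr rfl fun j _ => ?_
  rw [trF_sum _ _ fun i _ => hFR i j, Finset.sum_eq_single j]
  · exact trF_conj_single (ι j) (p j) (by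
      apply LinearMap.ext; intro w
      simp only [LinearMap.comp_apply, hpι, if_pos, LinearMap.id_apply]) _ (hθ j j)
  · intro i _ hij
    have e : ι i ∘ₗ theta (m i j) g₀ π₀ ∘ₗ p j = (ι i ∘ₗ theta (m i j) g₀ π₀) ∘ₗ p j := rfl
    rw [e, trF_cyclic ((hθ i j).comp_left (ι i))]
    have : p j ∘ₗ ι i ∘ₗ theta (m i j) g₀ π₀ = 0 := by
      apply LinearMap.ext; intro w
      simp only [LinearMap.comp_apply, hpι, if_neg (Ne.symm hij), LinearMap.zero_apply]
    rw [this, trF_zero]
  · intro h; exact absurd (Finset.mem_univ j) h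

end Groth.Agent.Helper27.Tate
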