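import Mathlib
import Groth.Agent.Lib.Helper23.DRContr
import Groth.Agent.Lib.Helper23.ExtKer

/-! Tate trace on differential forms (S7357), part A: exterior power lemmas. -/

set_option autoImplicit false

namespace Groth.Agent.Helper27.Tr

open exteriorPower Groth.Agent.Helper23.DRContr

section Gen

variable {B : Type*} [CommRing B] {M : Type*} [AddCommGroup M] [Module B M]

theorem contr_ιMulti_eq_zero (θ : Module.Dual B M) : ∀ (p : ℕ) (v : Fin (p + 1) → M),
    (∀ j, θ (v j) = 0) → contr θ p (ιMulti B (p + 1) v) = 0 := by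
  intro p
  induction p with
  | zero =>
    intro v hv
    rw [← Fin.cons_self_tail v, ιMulti_cons, contr_mulι_zero, hv 0, zero_smul]
  | succ p ih =>
    intro v hv
    rw [← Fin.cons_self_tail v, ιMulti_cons, contr_mulι_succ, hv 0, zero_smul,
      ih (Fin.tail v) (fun j => hv j.succ), map_zero, sub_zero]

theorem contr_cons (θ : Module.Dual B M) (p : ℕ) (m : M) (v : Fin p → M)
    (hv : ∀ j, θ (v j) = 0) :
    contr θ p (ιMulti B (p + 1) (Fin.cons m v : Fin (p + 1) → M)) = θ m • ιMulti B p v := by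
  cases p with
  | zero => rw [ιMulti_cons, contr_mulι_zero]
  | succ q =>
    rw [ιMulti_cons, contr_mulι_succ, contr_ιMulti_eq_zero θ q v hv, map_zero, sub_zero]

theorem snoc_eq_cons_comp (p : ℕ) (m : M) (v : Fin p → M) :
    (Fin.snoc v m : Fin (p + 1) → M) = (Fin.cons m v : Fin (p + 1) → M) ∘ finRotate (p + 1) := by
  funext i
  rw [Function.comp_apply]
  refine Fin.lastCases ?_ (fun j => ?_) i
  · rw [Fin.snoc_last, finRotate_last, Fin.cons_zero]
  · rw [Fin.snoc_castSucc, finRotate_of_lt (by simp)]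
    have : (⟨(j.castSucc : ℕ) + 1, by simp⟩ : Fin (p + 1)) = j.succ := by
      ext
      simp
    rw [this, Fin.cons_succ]

theorem ιMulti_snoc (p : ℕ) (m : M) (v : Fin p → M) :
    ιMulti B (p + 1) (Fin.snoc v m : Fin (p + 1) → M) =
      ((-1 : ℤˣ) ^ p) • ιMulti B (p + 1) (Fin.cons m v : Fin (p + 1) → M) := by
  rw [snoc_eq_cons_comp, AlternatingMap.map_perm, sign_finRotate, Nat.add_sub_cancel]

end Gen

end Groth.Agent.Helper27.Tr
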