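import Mathlib
import Groth.Agent.Lib.Helper27.TrA

/-! Tate trace on differential forms (S7357), part B: wedging with `m₀` descends to the quotient
by `m₀`. -/

set_option autoImplicit false

namespace Groth.Agent.Helper27.Tr

open exteriorPower Groth.Agent.Helper23.DRContr

section wq

variable {R : Type*} [CommRing R] {M : Type*} [AddCommGroup M] [Module R M] (m₀ : M)

/-- The quotient map `M → M / R m₀`. -/
abbrev qmap : M →ₗ[R] M ⧸ Submodule.span R {m₀} := (Submodule.span R {m₀}).mkQ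

theorem qmap_surjective : Function.Surjective (qmap (R := R) m₀) :=
  Submodule.mkQ_surjective _

theorem ker_le (t : ℕ) :
    LinearMap.ker (exteriorPower.map t (qmap (R := R) m₀)) ≤ LinearMap.ker (mulι (B := R) m₀ t) := by
  refine (Groth.Agent.Helper23.ExtKer.ker_map_le (qmap (R := R) m₀) (qmap_surjective m₀) t).trans ?_
  rw [Submodule.span_le]
  rintro _ ⟨m, ⟨i, hi⟩, rfl⟩
  rw [SetLike.mem_coe, LinearMap.mem_ker, ← ιMulti_cons]
  rw [LinearMap.mem_ker, Submodule.mkQ_apply, Submodule.Quotient.mk_eq_zero,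
    Submodule.mem_span_singleton] at hi
  obtain ⟨c, hc⟩ := hi
  have h1 : (Fin.cons m₀ m : Fin (t + 1) → M) =
      Function.update (Fin.cons m₀ m : Fin (t + 1) → M) i.succ (c • m₀) := by
    rw [hc, ← Fin.cons_succ (α := fun _ => M) m₀ m i, Function.update_eq_self]
  rw [h1, AlternatingMap.map_update_smul]
  have h2 : ιMulti R (t + 1)
      (Function.update (Fin.cons m₀ m : Fin (t + 1) → M) i.succ m₀) = 0 := by
    refine (ιMulti R (t + 1)).map_eq_zero_of_eq _ (i := 0) (j := i.succ) ?_ (Fin.succ_ne_zero i).symm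
    rw [Function.update_self, Function.update_of_ne (Fin.succ_ne_zero i).symm, Fin.cons_zero]
  rw [h2, smul_zero]

/-- `η̄₁ ∧ … ∧ η̄ₜ ↦ m₀ ∧ η₁ ∧ … ∧ ηₜ`. -/
noncomputable def wq (t : ℕ) :
    ↥(⋀[R]^t (M ⧸ Submodule.span R {m₀})) →ₗ[R] ↥(⋀[R]^(t + 1) M) :=
  ((LinearMap.ker (exteriorPower.map t (qmap (R := R) m₀))).liftQ (mulι (B := R) m₀ t)
      (ker_le m₀ t)) ∘ₗ
    ((exteriorPower.map t (qmap (R := R) m₀)).quotKerEquivOfSurjective
      (exteriorPower.map_surjective (n := t) (qmap_surjective m₀))).symm.toLinearMap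

theorem wq_map (t : ℕ) (x : ↥(⋀[R]^t M)) :
    wq m₀ t (exteriorPower.map t (qmap (R := R) m₀) x) = mulι (B := R) m₀ t x := by
  have h : ((exteriorPower.map t (qmap (R := R) m₀)).quotKerEquivOfSurjective
      (exteriorPower.map_surjective (n := t) (qmap_surjective m₀))).symm
      (exteriorPower.map t (qmap (R := R) m₀) x) =
      (LinearMap.ker (exteriorPower.map t (qmap (R := R) m₀))).mkQ x := by
    rw [LinearEquiv.symm_apply_eq]
    rfl
  rw [wq, LinearMap.comp_apply, LinearEquiv.coe_coe, h, Submodule.mkQ_apply, Submodule.liftQ_apply]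

theorem wq_ιMulti (t : ℕ) (v : Fin t → M) :
    wq m₀ t (ιMulti R t (fun j => qmap (R := R) m₀ (v j))) =
      ιMulti R (t + 1) (Fin.cons m₀ v : Fin (t + 1) → M) := by
  have := wq_map m₀ t (ιMulti R t v)
  rw [exteriorPower.map_apply_ιMulti] at this
  rw [ιMulti_cons]
  exact this

end wq

end Groth.Agent.Helper27.Tr
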