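import Mathlib
import Groth.Agent.Lib.Helper27.TrB

/-! Tate trace on differential forms (S7357), part C: derivations of `R[x]/(x^p - a)`. -/

set_option autoImplicit false

universe u

namespace Groth.Agent.Helper27.Tr

open Polynomial TensorProduct

section descent

variable {Λ P S N : Type*} [CommRing Λ] [CommRing P] [CommRing S] [Algebra Λ P] [Algebra Λ S]
  [AddCommGroup N] [Module S N] [Module Λ N] [IsScalarTower Λ S N]

/-- An additive map `F : P → N` which satisfies the Leibniz rule relative to a surjection
`f : P → S`, kills constants and kills `ker f` descends to a derivation `S → N`. -/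
noncomputable def derivOfFun (f : P →ₐ[Λ] S) (hf : Function.Surjective f) (F : P →+ N)
    (hleib : ∀ g h, F (g * h) = f g • F h + f h • F g)
    (hconst : ∀ c : Λ, F (algebraMap Λ P c) = 0)
    (hker : ∀ g, f g = 0 → F g = 0) : Derivation Λ S N where
  toFun s := F (Function.surjInv hf s)
  map_add' x y := by
    have h : F (Function.surjInv hf (x + y) - Function.surjInv hf x - Function.surjInv hf y) = 0 :=
      hker _ (by simp [Function.surjInv_eq hf])
    rw [map_sub, map_sub, sub_sub, sub_eq_zero] at h
    exact h
  map_smul' c x := by
    have h : F (Function.surjInv hf (c • x) - algebraMap Λ P c * Function.surjInv hf x) = 0 :=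
      hker _ (by simp [Function.surjInv_eq hf, Algebra.smul_def])
    rw [map_sub, sub_eq_zero] at h
    rw [h, hleib, hconst, smul_zero, add_zero, AlgHom.commutes, RingHom.id_apply,
      algebraMap_smul]
  map_one_eq_zero' := by
    have h1 : F 1 = 0 := by
      have h0 := hleib 1 1
      rw [mul_one, (map_one f : f 1 = 1), one_smul] at h0
      exact (add_eq_left.1 h0.symm)
    have h : F (Function.surjInv hf 1 - 1) = 0 :=
      hker _ (by simp [Function.surjInv_eq hf])
    rw [map_sub, h1, sub_zero] at h
    exact h
  leibniz' x y := by
    have h : F (Function.surjInv hf (x * y) - Function.surjInv hf x * Function.surjInv hf y) = 0 :=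
      hker _ (by simp [Function.surjInv_eq hf])
    rw [map_sub, sub_eq_zero] at h
    change F (Function.surjInv hf (x * y)) = x • F (Function.surjInv hf y) +
      y • F (Function.surjInv hf x)
    rw [h, hleib, Function.surjInv_eq hf, Function.surjInv_eq hf]

theorem derivOfFun_apply (f : P →ₐ[Λ] S) (hf : Function.Surjective f) (F : P →+ N)
    (hleib : ∀ g h, F (g * h) = f g • F h + f h • F g)
    (hconst : ∀ c : Λ, F (algebraMap Λ P c) = 0)
    (hker : ∀ g, f g = 0 → F g = 0) (g : P) :
    derivOfFun f hf F hleib hconst hker (f g) = F g := by
  have h : F (Function.surjInv hf (f g) - g) = 0 :=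
    hker _ (by simp [Function.surjInv_eq hf])
  rw [map_sub, sub_eq_zero] at h
  exact h

end descent

end Groth.Agent.Helper27.Tr
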