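import Mathlib
import Groth.Agent.Lib.Helper27.TrC

/-! Tate trace on differential forms (S7357), part D: the maps `∂` and `π` for `S = R[x]/(x^p-a)`. -/

set_option autoImplicit false

universe u

namespace Groth.Agent.Helper27.Tr

open Polynomial TensorProduct

section S

variable (p : ℕ) [hp : Fact p.Prime] (Λ R : Type u) [CommRing Λ] [CommRing R] [Algebra Λ R]
  [CharP R p] (a : R)

theorem derivative_f : derivative (X ^ p - C a : R[X]) = 0 := by
  rw [derivative_sub, derivative_X_pow, derivative_C, sub_zero, CharP.cast_eq_zero R p, map_zero,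
    zero_mul]

theorem mk_derivative_eq_zero (g : R[X]) (hg : AdjoinRoot.mkₐ (X ^ p - C a : R[X]) g = 0) :
    AdjoinRoot.mkₐ (X ^ p - C a : R[X]) (Polynomial.derivative' g) = 0 := by
  change AdjoinRoot.mk _ g = 0 at hg
  rw [AdjoinRoot.mk_eq_zero] at hg
  obtain ⟨h, rfl⟩ := hg
  change AdjoinRoot.mk _ (derivative ((X ^ p - C a : R[X]) * h)) = 0
  rw [derivative_mul, derivative_f, zero_mul, zero_add, map_mul, AdjoinRoot.mk_self, zero_mul]

theorem mkₐ_surjective : Function.Surjective (AdjoinRoot.mkₐ (X ^ p - C a : R[X])) :=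
  AdjoinRoot.mk_surjective

/-- `d/dx` on `S = R[x]/(x^p - a)`. -/
noncomputable def Dx : Derivation R (AdjoinRoot (X ^ p - C a : R[X]))
    (AdjoinRoot (X ^ p - C a : R[X])) :=
  Derivation.liftOfSurjective (f := AdjoinRoot.mkₐ (X ^ p - C a : R[X])) (mkₐ_surjective p R a)
    (d := Polynomial.derivative') (mk_derivative_eq_zero p R a)

theorem Dx_mk (g : R[X]) :
    Dx p R a (AdjoinRoot.mk _ g) = AdjoinRoot.mk _ (derivative g) :=
  Derivation.liftOfSurjective_apply (f := AdjoinRoot.mkₐ (X ^ p - C a : R[X]))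
    (mkₐ_surjective p R a) (mk_derivative_eq_zero p R a) g

theorem Dx_root : Dx p R a (AdjoinRoot.root _) = 1 := by
  rw [← AdjoinRoot.mk_X, Dx_mk, derivative_X, map_one]

theorem Dx_of (r : R) : Dx p R a (AdjoinRoot.of _ r) = 0 := by
  rw [← AdjoinRoot.mk_C, Dx_mk, derivative_C, map_zero]

/-- The functional `∂ : Ω_{S/Λ} → S` dual to `dx`. -/
noncomputable def del : Module.Dual (AdjoinRoot (X ^ p - C a : R[X]))
    (Ω[AdjoinRoot (X ^ p - C a : R[X])⁄Λ]) :=
  ((Dx p R a).restrictScalars Λ).liftKaehlerDifferential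

theorem del_D (s : AdjoinRoot (X ^ p - C a : R[X])) :
    del p Λ R a (KaehlerDifferential.D Λ _ s) = Dx p R a s :=
  Derivation.liftKaehlerDifferential_comp_D _ s

theorem del_map (η : Ω[R⁄Λ]) :
    del p Λ R a (KaehlerDifferential.map Λ Λ R (AdjoinRoot (X ^ p - C a : R[X])) η) = 0 := by
  have hspan := KaehlerDifferential.span_range_derivation Λ R
  have hη : η ∈ Submodule.span R (Set.range (KaehlerDifferential.D Λ R)) := by
    rw [hspan]; trivial
  induction hη using Submodule.span_induction with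
  | mem x hx =>
    obtain ⟨r, rfl⟩ := hx
    rw [KaehlerDifferential.map_D, del_D]
    exact Dx_of p R a r
  | zero => rw [map_zero, map_zero]
  | add x y _ _ hx hy => rw [map_add, map_add, hx, hy, add_zero]
  | smul c x _ hx =>
    rw [map_smul, ← algebraMap_smul (AdjoinRoot (X ^ p - C a : R[X])) c, map_smul, hx, smul_zero]

theorem del_root_smul (i : ℕ) :
    del p Λ R a ((AdjoinRoot.root (X ^ p - C a : R[X])) ^ i •
      KaehlerDifferential.D Λ _ (AdjoinRoot.root (X ^ p - C a : R[X]))) =
      (AdjoinRoot.root (X ^ p - C a : R[X])) ^ i := by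
  rw [map_smul, del_D, Dx_root, smul_eq_mul, mul_one]

end S

end Groth.Agent.Helper27.Tr
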