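import Mathlib
import Groth.Agent.Lib.Helper27.TrD

/-! Tate trace on differential forms (S7357), part E: the map `π : Ω_{S/Λ} → S ⊗ Ω_R/(da)`. -/

set_option autoImplicit false

universe u

namespace Groth.Agent.Helper27.Tr

open Polynomial TensorProduct

section pi

variable (p : ℕ) [hp : Fact p.Prime] (Λ R : Type u) [CommRing Λ] [CommRing R] [Algebra Λ R]
  [CharP R p] (a : R)

/-- `Ω_{R/Λ} / (da)`. -/
abbrev Obar : Type u := Ω[R⁄Λ] ⧸ Submodule.span R {KaehlerDifferential.D Λ R a}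

/-- `d̄ : R → Ω_{R/Λ}/(da)`. -/
noncomputable def dbar : Derivation Λ R (Obar Λ R a) :=
  (qmap (R := R) (KaehlerDifferential.D Λ R a)).compDer (KaehlerDifferential.D Λ R)

theorem dbar_apply (r : R) :
    dbar Λ R a r = qmap (R := R) (KaehlerDifferential.D Λ R a) (KaehlerDifferential.D Λ R r) := rfl

theorem dbar_a : dbar Λ R a a = 0 := by
  rw [dbar_apply, Submodule.mkQ_apply, Submodule.Quotient.mk_eq_zero]
  exact Submodule.mem_span_singleton_self _

/-- `Σ mᵢ Xⁱ ↦ Σ xⁱ ⊗ mᵢ`. -/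
noncomputable def Ev : PolynomialModule R (Obar Λ R a) →+
    (AdjoinRoot (X ^ p - C a : R[X])) ⊗[R] (Obar Λ R a) :=
  ((PolynomialModule.eval (AdjoinRoot.root (X ^ p - C a : R[X]))).toAddMonoidHom).comp
    ((PolynomialModule.map (AdjoinRoot (X ^ p - C a : R[X]))
      (TensorProduct.mk R (AdjoinRoot (X ^ p - C a : R[X])) (Obar Λ R a) 1)).toAddMonoidHom)

theorem Ev_single (i : ℕ) (m : Obar Λ R a) :
    Ev p Λ R a (PolynomialModule.single R i m) =
      ((AdjoinRoot.root (X ^ p - C a : R[X])) ^ i) ⊗ₜ[R] m := by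
  change PolynomialModule.eval _ (PolynomialModule.map _ _ (PolynomialModule.single R i m)) = _
  rw [PolynomialModule.map_single, PolynomialModule.eval_single, TensorProduct.mk_apply,
    TensorProduct.smul_tmul', smul_eq_mul, mul_one]

theorem Ev_smul (g : R[X]) (q : PolynomialModule R (Obar Λ R a)) :
    Ev p Λ R a (g • q) = AdjoinRoot.mk (X ^ p - C a : R[X]) g • Ev p Λ R a q := by
  change PolynomialModule.eval _ (PolynomialModule.map _ _ (g • q)) =
    _ • PolynomialModule.eval _ (PolynomialModule.map _ _ q)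
  rw [PolynomialModule.map_smul, PolynomialModule.eval_smul, Polynomial.eval_map,
    ← Polynomial.aeval_def, AdjoinRoot.aeval_eq]

/-- `g ↦ Σ xⁱ ⊗ d̄(gᵢ)`. -/
noncomputable def Fpi : R[X] →+ (AdjoinRoot (X ^ p - C a : R[X])) ⊗[R] (Obar Λ R a) :=
  (Ev p Λ R a).comp ((dbar Λ R a).mapCoeffs : R[X] →ₗ[Λ] PolynomialModule R (Obar Λ R a)).toAddMonoidHom

theorem Fpi_apply (g : R[X]) : Fpi p Λ R a g = Ev p Λ R a ((dbar Λ R a).mapCoeffs g) := rfl

theorem Fpi_leib (g h : R[X]) :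
    Fpi p Λ R a (g * h) = AdjoinRoot.mkₐ (X ^ p - C a : R[X]) g • Fpi p Λ R a h +
      AdjoinRoot.mkₐ (X ^ p - C a : R[X]) h • Fpi p Λ R a g := by
  rw [Fpi_apply, Derivation.leibniz, map_add, Ev_smul, Ev_smul]
  rfl

theorem Fpi_C (r : R) : Fpi p Λ R a (C r) = (1 : AdjoinRoot (X ^ p - C a : R[X])) ⊗ₜ[R] dbar Λ R a r := by
  rw [Fpi_apply, Derivation.mapCoeffs_C, Ev_single, pow_zero]

theorem Fpi_const (c : Λ) : Fpi p Λ R a (algebraMap Λ R[X] c) = 0 := by
  rw [Polynomial.algebraMap_apply, Fpi_C, Derivation.map_algebraMap,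
    TensorProduct.tmul_zero]

theorem Fpi_f : Fpi p Λ R a (X ^ p - C a : R[X]) = 0 := by
  have hXp : (dbar Λ R a).mapCoeffs (X ^ p : R[X]) = 0 := by
    rw [← Polynomial.monomial_one_right_eq_X_pow, Derivation.mapCoeffs_monomial,
      Derivation.map_one_eq_zero]
    exact (PolynomialModule.lsingle R p).map_zero
  rw [map_sub, Fpi_C, dbar_a, TensorProduct.tmul_zero, sub_zero, Fpi_apply, hXp, map_zero]

theorem Fpi_ker (g : R[X]) (hg : AdjoinRoot.mkₐ (X ^ p - C a : R[X]) g = 0) : Fpi p Λ R a g = 0 := by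
  change AdjoinRoot.mk _ g = 0 at hg
  rw [AdjoinRoot.mk_eq_zero] at hg
  obtain ⟨h, rfl⟩ := hg
  rw [Fpi_leib, Fpi_f, smul_zero, add_zero]
  change AdjoinRoot.mk _ (X ^ p - C a : R[X]) • _ = 0
  rw [AdjoinRoot.mk_self, zero_smul]

/-- The derivation `S → S ⊗ Ω_R/(da)` extending `d̄` with `x ↦ 0`. -/
noncomputable def Dpi : Derivation Λ (AdjoinRoot (X ^ p - C a : R[X]))
    ((AdjoinRoot (X ^ p - C a : R[X])) ⊗[R] (Obar Λ R a)) :=
  derivOfFun ((AdjoinRoot.mkₐ (X ^ p - C a : R[X])).restrictScalars Λ) (mkₐ_surjective p R a)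
    (Fpi p Λ R a) (Fpi_leib p Λ R a) (Fpi_const p Λ R a) (Fpi_ker p Λ R a)

theorem Dpi_of (r : R) : Dpi p Λ R a (AdjoinRoot.of _ r) =
    (1 : AdjoinRoot (X ^ p - C a : R[X])) ⊗ₜ[R] dbar Λ R a r := by
  rw [← AdjoinRoot.mk_C, ← Fpi_C]
  exact derivOfFun_apply ((AdjoinRoot.mkₐ (X ^ p - C a : R[X])).restrictScalars Λ)
    (mkₐ_surjective p R a) (Fpi p Λ R a) (Fpi_leib p Λ R a) (Fpi_const p Λ R a) (Fpi_ker p Λ R a) (C r)

/-- `π : Ω_{S/Λ} → S ⊗ Ω_R/(da)`. -/
noncomputable def pi : Ω[AdjoinRoot (X ^ p - C a : R[X])⁄Λ] →ₗ[AdjoinRoot (X ^ p - C a : R[X])]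
    ((AdjoinRoot (X ^ p - C a : R[X])) ⊗[R] (Obar Λ R a)) :=
  (Dpi p Λ R a).liftKaehlerDifferential

theorem pi_map (η : Ω[R⁄Λ]) :
    pi p Λ R a (KaehlerDifferential.map Λ Λ R (AdjoinRoot (X ^ p - C a : R[X])) η) =
      (1 : AdjoinRoot (X ^ p - C a : R[X])) ⊗ₜ[R] qmap (R := R) (KaehlerDifferential.D Λ R a) η := by
  have hspan := KaehlerDifferential.span_range_derivation Λ R
  have hη : η ∈ Submodule.span R (Set.range (KaehlerDifferential.D Λ R)) := by
    rw [hspan]; trivial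
  induction hη using Submodule.span_induction with
  | mem x hx =>
    obtain ⟨r, rfl⟩ := hx
    rw [KaehlerDifferential.map_D, pi, Derivation.liftKaehlerDifferential_comp_D]
    exact Dpi_of p Λ R a r
  | zero => rw [map_zero, map_zero, map_zero, TensorProduct.tmul_zero]
  | add x y _ _ hx hy => rw [map_add, map_add, hx, hy, map_add, TensorProduct.tmul_add]
  | smul c x _ hx =>
    rw [map_smul, ← algebraMap_smul (AdjoinRoot (X ^ p - C a : R[X])) c, map_smul, hx, map_smul,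
      TensorProduct.tmul_smul, algebraMap_smul]

end pi

end Groth.Agent.Helper27.Tr
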