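import Mathlib

/-! Finite-rank trace on arbitrary vector spaces. -/

namespace Groth.Agent.Helper27.TrF

open LinearMap

variable {k : Type*} [Field k]
variable {V : Type*} [AddCommGroup V] [Module k V]
variable {W : Type*} [AddCommGroup W] [Module k W]
variable {U : Type*} [AddCommGroup U] [Module k U]

/-- finite rank -/
def FR (θ : V →ₗ[k] W) : Prop := FiniteDimensional k (LinearMap.range θ)

theorem FR.comp_right {θ : V →ₗ[k] W} (h : FR θ) (Y : U →ₗ[k] V) : FR (θ ∘ₗ Y) := by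
  unfold FR at *
  exact Submodule.finiteDimensional_of_le (LinearMap.range_comp_le_range Y θ)

theorem FR.comp_left {θ : V →ₗ[k] W} (h : FR θ) (Z : W →ₗ[k] U) : FR (Z ∘ₗ θ) := by
  unfold FR at *
  rw [LinearMap.range_comp]
  infer_instance

theorem FR.of_le {θ : V →ₗ[k] W} {R : Submodule k W} [FiniteDimensional k R]
    (h : LinearMap.range θ ≤ R) : FR θ := by
  unfold FR
  exact Submodule.finiteDimensional_of_le h

theorem FR.add {θ₁ θ₂ : V →ₗ[k] W} (h₁ : FR θ₁) (h₂ : FR θ₂) : FR (θ₁ + θ₂) := by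
  unfold FR at *
  have : LinearMap.range (θ₁ + θ₂) ≤ LinearMap.range θ₁ ⊔ LinearMap.range θ₂ := by
    rintro _ ⟨x, rfl⟩
    exact Submodule.add_mem_sup ⟨x, rfl⟩ ⟨x, rfl⟩
  exact Submodule.finiteDimensional_of_le this

theorem FR.zero : FR (0 : V →ₗ[k] W) := by
  unfold FR
  rw [LinearMap.range_zero]
  infer_instance

theorem FR.smul {θ : V →ₗ[k] W} (h : FR θ) (c : k) : FR (c • θ) := by
  unfold FR at *
  have : LinearMap.range (c • θ) ≤ LinearMap.range θ := by
    rintro _ ⟨x, rfl⟩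
    exact ⟨c • x, by simp⟩
  exact Submodule.finiteDimensional_of_le this

theorem FR.neg {θ : V →ₗ[k] W} (h : FR θ) : FR (-θ) := by
  have := h.smul (-1)
  simpa using this

theorem FR.sub {θ₁ θ₂ : V →ₗ[k] W} (h₁ : FR θ₁) (h₂ : FR θ₂) : FR (θ₁ - θ₂) := by
  rw [sub_eq_add_neg]
  exact h₁.add h₂.neg

theorem FR.sum {ι : Type*} (s : Finset ι) (θ : ι → (V →ₗ[k] W)) (h : ∀ i ∈ s, FR (θ i)) :
    FR (∑ i ∈ s, θ i) := by
  classical
  induction s using Finset.induction_on with
  | empty => simpa using FR.zero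
  | insert a s ha ih =>
    rw [Finset.sum_insert ha]
    exact (h a (Finset.mem_insert_self a s)).add (ih fun i hi => h i (Finset.mem_insert_of_mem hi))

theorem FR.of_finiteDimensional_dom [FiniteDimensional k V] (θ : V →ₗ[k] W) : FR θ := by
  unfold FR
  infer_instance

theorem FR.of_finiteDimensional_cod [FiniteDimensional k W] (θ : V →ₗ[k] W) : FR θ := by
  unfold FR
  infer_instance

theorem FR.of_comp_injective {θ : V →ₗ[k] W} {j : W →ₗ[k] U} (hj : Function.Injective j)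
    (h : FR (j ∘ₗ θ)) : FR θ := by
  unfold FR at *
  rw [LinearMap.range_comp] at h
  exact (Submodule.equivMapOfInjective j hj (LinearMap.range θ)).symm.finiteDimensional

/-- trace of a finite-rank endomorphism (junk value otherwise) -/
noncomputable def trF (θ : V →ₗ[k] V) : k :=
  LinearMap.trace k (LinearMap.range θ) (θ.restrict (fun x _ => LinearMap.mem_range_self θ x))

/-- Key lemma: trace of `β ∘ α` through a finite-dimensional space. -/
theorem trF_comp [FiniteDimensional k W] (α : V →ₗ[k] W) (β : W →ₗ[k] V) :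
    trF (β ∘ₗ α) = LinearMap.trace k W (α ∘ₗ β) := by
  have hfr : FR (β ∘ₗ α) := (FR.of_finiteDimensional_dom β).comp_right α
  have : FiniteDimensional k (LinearMap.range (β ∘ₗ α)) := hfr
  set R := LinearMap.range (β ∘ₗ α) with hR
  set W₁ : Submodule k W := R.comap β with hW₁
  have hαW : ∀ v, α v ∈ W₁ := fun v => ⟨v, rfl⟩
  let αR : R →ₗ[k] W₁ := (α.comp R.subtype).codRestrict W₁ (fun x => hαW _)
  let β₁ : W₁ →ₗ[k] R := (β.comp W₁.subtype).codRestrict R (fun w => w.2)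
  have h1 : (β ∘ₗ α).restrict (fun x _ => LinearMap.mem_range_self (β ∘ₗ α) x) = β₁ ∘ₗ αR := by
    ext x; rfl
  have h2 : αR ∘ₗ β₁ = (α ∘ₗ β).restrict (p := W₁) (q := W₁) (fun w _ => hαW _) := by
    ext w; rfl
  unfold trF
  rw [h1, LinearMap.trace_comp_comm', h2]
  exact LinearMap.trace_restrict_eq_of_forall_mem W₁ (α ∘ₗ β) (fun w => hαW _)

/-- Factor a finite-rank map through its range. -/
theorem trF_cyclic {X : V →ₗ[k] W} (hX : FR X) (Y : W →ₗ[k] V) :
    trF (X ∘ₗ Y) = trF (Y ∘ₗ X) := by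
  have : FiniteDimensional k (LinearMap.range X) := hX
  have e1 : X ∘ₗ Y = (LinearMap.range X).subtype ∘ₗ (X.rangeRestrict ∘ₗ Y) := by
    ext v; rfl
  have e2 : Y ∘ₗ X = (Y ∘ₗ (LinearMap.range X).subtype) ∘ₗ X.rangeRestrict := by
    ext v; rfl
  rw [e1, trF_comp, e2, trF_comp]
  rfl

theorem trF_cyclic' (X : V →ₗ[k] W) {Y : W →ₗ[k] V} (hY : FR Y) :
    trF (X ∘ₗ Y) = trF (Y ∘ₗ X) := (trF_cyclic hY X).symm

theorem trF_eq_of_range_le (θ : V →ₗ[k] V) (R : Submodule k V) [FiniteDimensional k R]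
    (h : LinearMap.range θ ≤ R) :
    trF θ = LinearMap.trace k R ((θ.codRestrict R fun v => h ⟨v, rfl⟩) ∘ₗ R.subtype) := by
  have e : θ = R.subtype ∘ₗ (θ.codRestrict R fun v => h ⟨v, rfl⟩) := by ext v; rfl
  conv_lhs => rw [e]
  rw [trF_comp]

theorem trF_add {θ₁ θ₂ : V →ₗ[k] V} (h₁ : FR θ₁) (h₂ : FR θ₂) :
    trF (θ₁ + θ₂) = trF θ₁ + trF θ₂ := by
  have : FiniteDimensional k (LinearMap.range θ₁) := h₁
  have : FiniteDimensional k (LinearMap.range θ₂) := h₂
  set R := LinearMap.range θ₁ ⊔ LinearMap.range θ₂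
  have l1 : LinearMap.range θ₁ ≤ R := le_sup_left
  have l2 : LinearMap.range θ₂ ≤ R := le_sup_right
  have l3 : LinearMap.range (θ₁ + θ₂) ≤ R := by
    rintro _ ⟨x, rfl⟩
    exact Submodule.add_mem_sup ⟨x, rfl⟩ ⟨x, rfl⟩
  rw [trF_eq_of_range_le θ₁ R l1, trF_eq_of_range_le θ₂ R l2, trF_eq_of_range_le _ R l3,
    ← map_add]
  congr 1

theorem trF_smul (c : k) (θ : V →ₗ[k] V) (h : FR θ) : trF (c • θ) = c * trF θ := by
  have : FiniteDimensional k (LinearMap.range θ) := h
  set R := LinearMap.range θ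
  have l1 : LinearMap.range θ ≤ R := le_rfl
  have l2 : LinearMap.range (c • θ) ≤ R := by
    rintro _ ⟨x, rfl⟩
    exact ⟨c • x, by simp⟩
  rw [trF_eq_of_range_le θ R l1, trF_eq_of_range_le _ R l2, ← smul_eq_mul, ← map_smul]
  congr 1

theorem trF_zero : trF (0 : V →ₗ[k] V) = 0 := by
  have := trF_smul (0 : k) (0 : V →ₗ[k] V) FR.zero
  simpa using this

theorem trF_neg (θ : V →ₗ[k] V) (h : FR θ) : trF (-θ) = - trF θ := by
  have := trF_smul (-1 : k) θ h
  simpa using this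

theorem trF_sub {θ₁ θ₂ : V →ₗ[k] V} (h₁ : FR θ₁) (h₂ : FR θ₂) :
    trF (θ₁ - θ₂) = trF θ₁ - trF θ₂ := by
  rw [sub_eq_add_neg, trF_add h₁ h₂.neg, trF_neg _ h₂, sub_eq_add_neg]

theorem trF_sum {ι : Type*} (s : Finset ι) (θ : ι → (V →ₗ[k] V)) (h : ∀ i ∈ s, FR (θ i)) :
    trF (∑ i ∈ s, θ i) = ∑ i ∈ s, trF (θ i) := by
  classical
  induction s using Finset.induction_on with
  | empty => simpa using trF_zero
  | insert a s ha ih =>
    rw [Finset.sum_insert ha, Finset.sum_insert ha,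
      trF_add (h a (Finset.mem_insert_self a s))
        (FR.sum s θ fun i hi => h i (Finset.mem_insert_of_mem hi)),
      ih fun i hi => h i (Finset.mem_insert_of_mem hi)]

/-- A finite-rank operator with square zero has trace zero. -/
theorem trF_eq_zero_of_sq {θ : V →ₗ[k] V} (h : FR θ) (h2 : θ ∘ₗ θ = 0) : trF θ = 0 := by
  have : FiniteDimensional k (LinearMap.range θ) := h
  unfold trF
  apply IsNilpotent.eq_zero
  apply LinearMap.isNilpotent_trace_of_isNilpotent
  refine ⟨2, ?_⟩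
  ext x
  have := LinearMap.congr_fun h2 x.1
  simp only [pow_two]
  exact this

/-- trace on a finite-dimensional space agrees with `LinearMap.trace`. -/
theorem trF_eq_trace [FiniteDimensional k V] (θ : V →ₗ[k] V) : trF θ = LinearMap.trace k V θ := by
  have : θ = LinearMap.id ∘ₗ θ := by ext; rfl
  conv_lhs => rw [this]
  rw [trF_comp]
  rfl

end Groth.Agent.Helper27.TrF
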