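import Mathlib
import Groth.Agent.Lib.Helper27.TrE
import Groth.Agent.Lib.Helper23.ExtBC

/-! Tate trace on differential forms (S7357), part F: the trace and its properties. -/

set_option autoImplicit false

universe u

namespace Groth.Agent.Helper27.Tr

open Polynomial TensorProduct exteriorPower Groth.Agent.Helper23.DRContr Groth.Agent.Helper23.ExtBC

section tau

variable (p : ℕ) [hp : Fact p.Prime] (R : Type u) [CommRing R] (a : R)

theorem monic_f : (X ^ p - C a : R[X]).Monic := monic_X_pow_sub_C a hp.out.ne_zero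

/-- The coefficient of `x^(p-1)`. -/
noncomputable def tau : AdjoinRoot (X ^ p - C a : R[X]) →ₗ[R] R :=
  (Polynomial.lcoeff R (p - 1)) ∘ₗ (AdjoinRoot.modByMonicHom (monic_f p R a))

theorem tau_root_pow [Nontrivial R] (i : ℕ) (hi : i < p) :
    tau p R a ((AdjoinRoot.root (X ^ p - C a : R[X])) ^ i) = if i = p - 1 then 1 else 0 := by
  rw [tau, LinearMap.comp_apply, ← AdjoinRoot.mk_X, ← map_pow, AdjoinRoot.modByMonicHom_mk,
    (Polynomial.modByMonic_eq_self_iff (monic_f p R a)).2, Polynomial.lcoeff_apply, coeff_X_pow]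
  · simp only [eq_comm]
  · rw [degree_X_pow_sub_C hp.out.pos, degree_X_pow]
    exact_mod_cast hi

end tau

section Tr

variable (p : ℕ) [hp : Fact p.Prime] (Λ R : Type u) [CommRing Λ] [CommRing R] [Algebra Λ R]
  [CharP R p] (a : R)

/-- `s ⊗ w ↦ τ(s) w`. -/
noncomputable def ev (t : ℕ) : (AdjoinRoot (X ^ p - C a : R[X])) ⊗[R] ↥(⋀[R]^(t + 1) (Ω[R⁄Λ])) →ₗ[R]
    ↥(⋀[R]^(t + 1) (Ω[R⁄Λ])) :=
  (TensorProduct.lid R _).toLinearMap ∘ₗ (LinearMap.rTensor _ (tau p R a))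

theorem ev_tmul (t : ℕ) (s : AdjoinRoot (X ^ p - C a : R[X])) (w : ↥(⋀[R]^(t + 1) (Ω[R⁄Λ]))) :
    ev p Λ R a t (s ⊗ₜ[R] w) = tau p R a s • w := by
  simp [ev]

/-- `s ⊗ w̄ ↦ τ(s) (da ∧ w)`. -/
noncomputable def tail2 (t : ℕ) : (AdjoinRoot (X ^ p - C a : R[X])) ⊗[R] ↥(⋀[R]^t (Obar Λ R a)) →ₗ[R]
    ↥(⋀[R]^(t + 1) (Ω[R⁄Λ])) :=
  (ev p Λ R a t) ∘ₗ (LinearMap.lTensor (AdjoinRoot (X ^ p - C a : R[X]))
        (wq (R := R) (KaehlerDifferential.D Λ R a) t))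

theorem tail2_tmul (t : ℕ) (s : AdjoinRoot (X ^ p - C a : R[X])) (η : Fin t → Ω[R⁄Λ]) :
    tail2 p Λ R a t (s ⊗ₜ[R] (ιMulti R t (fun j => qmap (R := R) (KaehlerDifferential.D Λ R a) (η j)))) =
      tau p R a s • ιMulti R (t + 1)
        (Fin.cons (KaehlerDifferential.D Λ R a) η : Fin (t + 1) → Ω[R⁄Λ]) := by
  rw [tail2, LinearMap.comp_apply, LinearMap.lTensor_tmul, wq_ιMulti, ev_tmul]

end Tr

end Groth.Agent.Helper27.Tr
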