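import Mathlib
import Groth.Agent.Lib.Helper27.TrFb

/-! Tate trace on differential forms (S7357), part G: the trace and its properties. -/

set_option autoImplicit false

universe u

namespace Groth.Agent.Helper27.Tr

open Polynomial TensorProduct exteriorPower Groth.Agent.Helper23.DRContr Groth.Agent.Helper23.ExtBC

section Tr

variable (p : ℕ) [hp : Fact p.Prime] (Λ R : Type u) [CommRing Λ] [CommRing R] [Algebra Λ R]
  [CharP R p] (a : R)

/-- `⋀^t_S Ω_S → ⋀^t_S (S ⊗ Ω̄) ≅ S ⊗ ⋀^t Ω̄`. -/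
noncomputable def head2 (t : ℕ) : ↥(⋀[AdjoinRoot (X ^ p - C a : R[X])]^t
    (Ω[AdjoinRoot (X ^ p - C a : R[X])⁄Λ])) →ₗ[AdjoinRoot (X ^ p - C a : R[X])]
    (AdjoinRoot (X ^ p - C a : R[X])) ⊗[R] ↥(⋀[R]^t (Obar Λ R a)) :=
  (equivP (A := R) (N := Obar Λ R a) (AdjoinRoot (X ^ p - C a : R[X])) t).symm.toLinearMap ∘ₗ
    (exteriorPower.map t (pi p Λ R a))

theorem head2_ιMulti (t : ℕ) (η : Fin t → Ω[R⁄Λ]) :
    head2 p Λ R a t (ιMulti _ t
      (fun j => KaehlerDifferential.map Λ Λ R (AdjoinRoot (X ^ p - C a : R[X])) (η j))) =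
      (1 : AdjoinRoot (X ^ p - C a : R[X])) ⊗ₜ[R]
        (ιMulti R t (fun j => qmap (R := R) (KaehlerDifferential.D Λ R a) (η j))) := by
  rw [head2, LinearMap.comp_apply, exteriorPower.map_apply_ιMulti]
  have h1 : (⇑(pi p Λ R a) ∘ fun j =>
      KaehlerDifferential.map Λ Λ R (AdjoinRoot (X ^ p - C a : R[X])) (η j)) =
      fun j => (1 : AdjoinRoot (X ^ p - C a : R[X])) ⊗ₜ[R]
        qmap (R := R) (KaehlerDifferential.D Λ R a) (η j) := by
    funext j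
    exact pi_map p Λ R a (η j)
  have h3 : ιMulti (AdjoinRoot (X ^ p - C a : R[X])) t (⇑(pi p Λ R a) ∘ fun j =>
      KaehlerDifferential.map Λ Λ R (AdjoinRoot (X ^ p - C a : R[X])) (η j)) =
      auxP (AdjoinRoot (X ^ p - C a : R[X])) t (ιMulti R t
        (fun j => qmap (R := R) (KaehlerDifferential.D Λ R a) (η j))) := by
    rw [auxP_ιMulti, h1]
  rw [h3]
  change (equivP (A := R) (N := Obar Λ R a) (AdjoinRoot (X ^ p - C a : R[X])) t).symm _ = _
  rw [LinearEquiv.symm_apply_eq, equivP_tmul, one_smul]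

/-- The part of the trace after contraction. -/
noncomputable def TrTail (t : ℕ) : ↥(⋀[AdjoinRoot (X ^ p - C a : R[X])]^t
    (Ω[AdjoinRoot (X ^ p - C a : R[X])⁄Λ])) →+ ↥(⋀[R]^(t + 1) (Ω[R⁄Λ])) :=
  (tail2 p Λ R a t).toAddMonoidHom.comp (head2 p Λ R a t).toAddMonoidHom

theorem TrTail_apply (t : ℕ) (y) :
    TrTail p Λ R a t y = tail2 p Λ R a t (head2 p Λ R a t y) := rfl

theorem TrTail_smul (t : ℕ) (r : R) (y) :
    TrTail p Λ R a t (algebraMap R (AdjoinRoot (X ^ p - C a : R[X])) r • y) =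
      r • TrTail p Λ R a t y := by
  rw [TrTail_apply, TrTail_apply, LinearMap.map_smul, algebraMap_smul, LinearMap.map_smul]

theorem TrTail_ιMulti (t : ℕ) (s : AdjoinRoot (X ^ p - C a : R[X])) (η : Fin t → Ω[R⁄Λ]) :
    TrTail p Λ R a t (s • ιMulti _ t
      (fun j => KaehlerDifferential.map Λ Λ R (AdjoinRoot (X ^ p - C a : R[X])) (η j))) =
      tau p R a s • ιMulti R (t + 1)
        (Fin.cons (KaehlerDifferential.D Λ R a) η : Fin (t + 1) → Ω[R⁄Λ]) := by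
  rw [TrTail_apply, LinearMap.map_smul, head2_ιMulti, TensorProduct.smul_tmul', smul_eq_mul, mul_one,
    tail2_tmul]

/-- The trace. -/
noncomputable def TrHom (t : ℕ) : ↥(⋀[AdjoinRoot (X ^ p - C a : R[X])]^(t + 1)
    (Ω[AdjoinRoot (X ^ p - C a : R[X])⁄Λ])) →+ ↥(⋀[R]^(t + 1) (Ω[R⁄Λ])) :=
  (TrTail p Λ R a t).comp (contr (del p Λ R a) t).toAddMonoidHom

theorem TrHom_apply (t : ℕ) (ω) :
    TrHom p Λ R a t ω = TrTail p Λ R a t (contr (del p Λ R a) t ω) := rfl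

theorem TrHom_smul (t : ℕ) (r : R) (ω) :
    TrHom p Λ R a t (algebraMap R (AdjoinRoot (X ^ p - C a : R[X])) r • ω) =
      r • TrHom p Λ R a t ω := by
  rw [TrHom_apply, LinearMap.map_smul, TrTail_smul, TrHom_apply]

theorem TrHom_cons (t : ℕ) (i : ℕ) (η : Fin t → Ω[R⁄Λ]) :
    TrHom p Λ R a t (ιMulti _ (t + 1)
      (Fin.cons ((AdjoinRoot.root (X ^ p - C a : R[X])) ^ i •
          KaehlerDifferential.D Λ _ (AdjoinRoot.root (X ^ p - C a : R[X])))
        (fun j => KaehlerDifferential.map Λ Λ R (AdjoinRoot (X ^ p - C a : R[X])) (η j)) :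
          Fin (t + 1) → Ω[AdjoinRoot (X ^ p - C a : R[X])⁄Λ])) =
      tau p R a ((AdjoinRoot.root (X ^ p - C a : R[X])) ^ i) • ιMulti R (t + 1)
        (Fin.cons (KaehlerDifferential.D Λ R a) η : Fin (t + 1) → Ω[R⁄Λ]) := by
  rw [TrHom_apply, contr_cons (del p Λ R a) t _ _ (fun j => del_map p Λ R a (η j)), del_root_smul,
    TrTail_ιMulti]

theorem TrHom_snoc (t : ℕ) (i : ℕ) (η : Fin t → Ω[R⁄Λ]) :
    TrHom p Λ R a t (ιMulti _ (t + 1)
      (Fin.snoc (fun j => KaehlerDifferential.map Λ Λ R (AdjoinRoot (X ^ p - C a : R[X])) (η j))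
        ((AdjoinRoot.root (X ^ p - C a : R[X])) ^ i •
          KaehlerDifferential.D Λ _ (AdjoinRoot.root (X ^ p - C a : R[X]))) :
          Fin (t + 1) → Ω[AdjoinRoot (X ^ p - C a : R[X])⁄Λ])) =
      tau p R a ((AdjoinRoot.root (X ^ p - C a : R[X])) ^ i) • ιMulti R (t + 1)
        (Fin.snoc η (KaehlerDifferential.D Λ R a) : Fin (t + 1) → Ω[R⁄Λ]) := by
  rw [ιMulti_snoc, ιMulti_snoc, Units.smul_def, Units.smul_def, map_zsmul, TrHom_cons, smul_comm]

theorem TrHom_base (t : ℕ) (s : AdjoinRoot (X ^ p - C a : R[X])) (η : Fin (t + 1) → Ω[R⁄Λ]) :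
    TrHom p Λ R a t (s • ιMulti _ (t + 1)
      (fun j => KaehlerDifferential.map Λ Λ R (AdjoinRoot (X ^ p - C a : R[X])) (η j))) = 0 := by
  rw [TrHom_apply, LinearMap.map_smul, contr_ιMulti_eq_zero (del p Λ R a) t _
    (fun j => del_map p Λ R a (η j)), smul_zero, map_zero]

end Tr

end Groth.Agent.Helper27.Tr
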