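import Mathlib
import Groth.Prelude.Def_W4c5m1nsnscurvesU

set_option autoImplicit false
universe u

namespace Groth.Agent.Helper27.U5

open MvPolynomial W4c5m1nsnscurves

abbrev P6 := MvPolynomial (Fin 6) ℤ

noncomputable def Y : P6 := X 0 + X 1 + X 2 + X 3 + X 4 - X 5

/-- images of the generators -/
noncomputable def img : UGen 2 → P6
  | .a => X 0
  | .c => Y * X 3 + X 5 * X 1 - X 1 * X 3
  | .cb => Y * X 2 + X 5 * X 4 - X 2 * X 4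
  | .ci i => if i = 0 then X 1 else X 3
  | .cbi i => if i = 0 then X 2 else X 4
  | .cij i _ _ => if i = 0 then X 5 else Y

noncomputable def ψ₀ : MvPolynomial (UGen 2) ℤ →ₐ[ℤ] P6 := aeval img

lemma fin2_cases (q : DPair 2) : (q.1.1 = 0 ∧ q.1.2 = 1) ∨ (q.1.1 = 1 ∧ q.1.2 = 0) := by
  obtain ⟨⟨i, j⟩, h⟩ := q
  fin_cases i <;> fin_cases j <;> first | exact absurd rfl h | simp

lemma ψ₀_kills : ∀ r ∈ Ideal.span (URel ℤ 2), ψ₀ r = 0 := by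
  intro r hr
  have : Ideal.span (URel ℤ 2) ≤ RingHom.ker ψ₀.toRingHom := by
    rw [Ideal.span_le]
    intro x hx
    rw [SetLike.mem_coe, RingHom.mem_ker]
    change ψ₀ x = 0
    rcases hx with ((⟨q, rfl⟩ | ⟨q, rfl⟩) | ⟨q, rfl⟩) | ⟨q, rfl⟩
    · obtain ⟨⟨i, j⟩, h⟩ := q
      rcases fin2_cases ⟨⟨i, j⟩, h⟩ with ⟨h1, h2⟩ | ⟨h1, h2⟩ <;> simp only at h1 h2 <;> subst h1 <;> subst h2 <;>
        simp [ψ₀, img, Y] <;> ring
    · obtain ⟨⟨i, j⟩, h⟩ := q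
      rcases fin2_cases ⟨⟨i, j⟩, h⟩ with ⟨h1, h2⟩ | ⟨h1, h2⟩ <;> simp only at h1 h2 <;> subst h1 <;> subst h2 <;>
        simp [ψ₀, img, Y] <;> ring
    · obtain ⟨⟨i, j⟩, h⟩ := q
      rcases fin2_cases ⟨⟨i, j⟩, h⟩ with ⟨h1, h2⟩ | ⟨h1, h2⟩ <;> simp only at h1 h2 <;> subst h1 <;> subst h2 <;>
        simp [ψ₀, img, Y] <;> ring
    · exfalso
      obtain ⟨⟨i, j, k⟩, h1, h2, h3⟩ := q
      simp only at h1 h2 h3
      fin_cases i <;> fin_cases j <;> fin_cases k <;> simp_all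
  exact this hr

noncomputable def ψ : URing ℤ 2 →ₐ[ℤ] P6 := Ideal.Quotient.liftₐ _ ψ₀ ψ₀_kills

lemma ψ_ugen (g : UGen 2) : ψ (ugen ℤ 2 g) = img g := by
  change ψ₀ (X g) = img g
  simp [ψ₀]

noncomputable def φ : P6 →ₐ[ℤ] URing ℤ 2 :=
  MvPolynomial.aeval (R := ℤ) (S₁ := URing ℤ 2)
      ![ugen ℤ 2 .a, ugen ℤ 2 (.ci 0), ugen ℤ 2 (.cbi 0), ugen ℤ 2 (.ci 1), ugen ℤ 2 (.cbi 1),
        ugen ℤ 2 (.cij 0 1 Fin.zero_ne_one)]

lemma relL : ugen ℤ 2 (.cij 0 1 Fin.zero_ne_one) + ugen ℤ 2 (.cij 1 0 Fin.zero_ne_one.symm) =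
    ugen ℤ 2 .a + ugen ℤ 2 (.ci 0) + ugen ℤ 2 (.cbi 0) + ugen ℤ 2 (.ci 1) + ugen ℤ 2 (.cbi 1) := by
  have hmem : (X (.cij 0 1 Fin.zero_ne_one) + X (.cij 1 0 Fin.zero_ne_one.symm) -
      (X .a + X (.ci 0) + X (.cbi 0) + X (.ci 1) + X (.cbi 1)) : MvPolynomial (UGen 2) ℤ) ∈
      Ideal.span (URel ℤ 2) := by
    apply Ideal.subset_span
    left; left; left
    exact ⟨⟨(0, 1), Fin.zero_ne_one⟩, rfl⟩
  have := (Ideal.Quotient.eq_zero_iff_mem).mpr hmem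
  simp only [map_sub, map_add] at this
  exact sub_eq_zero.mp this

lemma relQ : ugen ℤ 2 (.cij 1 0 Fin.zero_ne_one.symm) * ugen ℤ 2 (.ci 1) +
    ugen ℤ 2 (.cij 0 1 Fin.zero_ne_one) * ugen ℤ 2 (.ci 0) - ugen ℤ 2 (.ci 0) * ugen ℤ 2 (.ci 1) =
    ugen ℤ 2 .c := by
  have hmem : (X (.cij 1 0 Fin.zero_ne_one.symm) * X (.ci 1) + X (.cij 0 1 Fin.zero_ne_one) * X (.ci 0) -
      X (.ci 0) * X (.ci 1) - X .c : MvPolynomial (UGen 2) ℤ) ∈ Ideal.span (URel ℤ 2) := by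
    apply Ideal.subset_span
    left; left; right
    exact ⟨⟨(0, 1), Fin.zero_ne_one⟩, rfl⟩
  have := (Ideal.Quotient.eq_zero_iff_mem).mpr hmem
  simp only [map_sub, map_add, map_mul] at this
  exact sub_eq_zero.mp this

lemma relQb : ugen ℤ 2 (.cij 1 0 Fin.zero_ne_one.symm) * ugen ℤ 2 (.cbi 0) +
    ugen ℤ 2 (.cij 0 1 Fin.zero_ne_one) * ugen ℤ 2 (.cbi 1) - ugen ℤ 2 (.cbi 0) * ugen ℤ 2 (.cbi 1) =
    ugen ℤ 2 .cb := by
  have hmem : (X (.cij 1 0 Fin.zero_ne_one.symm) * X (.cbi 0) + X (.cij 0 1 Fin.zero_ne_one) * X (.cbi 1) -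
      X (.cbi 0) * X (.cbi 1) - X .cb : MvPolynomial (UGen 2) ℤ) ∈ Ideal.span (URel ℤ 2) := by
    apply Ideal.subset_span
    left; right
    exact ⟨⟨(0, 1), Fin.zero_ne_one⟩, rfl⟩
  have := (Ideal.Quotient.eq_zero_iff_mem).mpr hmem
  simp only [map_sub, map_add, map_mul] at this
  exact sub_eq_zero.mp this

lemma φ_Y : φ Y = ugen ℤ 2 (.cij 1 0 Fin.zero_ne_one.symm) := by
  have : φ Y = ugen ℤ 2 .a + ugen ℤ 2 (.ci 0) + ugen ℤ 2 (.cbi 0) + ugen ℤ 2 (.ci 1) + ugen ℤ 2 (.cbi 1)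
      - ugen ℤ 2 (.cij 0 1 Fin.zero_ne_one) := by
    simp [φ, Y]
  rw [this, ← relL]; ring

lemma φ_X (i : Fin 6) : φ (X i) = ![ugen ℤ 2 .a, ugen ℤ 2 (.ci 0), ugen ℤ 2 (.cbi 0), ugen ℤ 2 (.ci 1),
    ugen ℤ 2 (.cbi 1), ugen ℤ 2 (.cij 0 1 Fin.zero_ne_one)] i := by
  simp [φ]

lemma φ_img (g : UGen 2) : φ (img g) = ugen ℤ 2 g := by
  rcases g with _ | _ | _ | i | i | ⟨i, j, h⟩
  · simp [img, φ_X]
  · simp only [img, map_add, map_sub, map_mul, φ_Y, φ_X]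
    simp only [Matrix.cons_val]
    exact relQ
  · simp only [img, map_add, map_sub, map_mul, φ_Y, φ_X]
    simp only [Matrix.cons_val]
    exact relQb
  · fin_cases i <;> simp [img, φ_X]
  · fin_cases i <;> simp [img, φ_X]
  · rcases fin2_cases ⟨⟨i, j⟩, h⟩ with ⟨h1, h2⟩ | ⟨h1, h2⟩ <;> simp only at h1 h2 <;> subst h1 <;> subst h2
    · simp [img, φ_X]
    · simp [img, φ_Y]

theorem main247 :
    Function.Bijective (MvPolynomial.aeval (R := ℤ) (S₁ := URing ℤ 2)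
      ![ugen ℤ 2 .a, ugen ℤ 2 (.ci 0), ugen ℤ 2 (.cbi 0), ugen ℤ 2 (.ci 1), ugen ℤ 2 (.cbi 1),
        ugen ℤ 2 (.cij 0 1 Fin.zero_ne_one)]) := by
  change Function.Bijective φ
  rw [Function.bijective_iff_has_inverse]
  refine ⟨ψ, ?_, ?_⟩
  · intro x
    have : (ψ.comp φ) = AlgHom.id ℤ P6 := by
      apply MvPolynomial.algHom_ext
      intro i
      simp only [AlgHom.comp_apply, AlgHom.id_apply, φ_X]
      fin_cases i <;> simp [ψ_ugen, img]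
    exact congrArg (fun f => f x) this
  · intro x
    obtain ⟨x, rfl⟩ := Ideal.Quotient.mk_surjective x
    have : (φ.comp ψ).comp (Ideal.Quotient.mkₐ ℤ (Ideal.span (URel ℤ 2))) =
        Ideal.Quotient.mkₐ ℤ (Ideal.span (URel ℤ 2)) := by
      apply MvPolynomial.algHom_ext
      intro g
      simp only [AlgHom.comp_apply, Ideal.Quotient.mkₐ_eq_mk]
      change φ (ψ (ugen ℤ 2 g)) = ugen ℤ 2 g
      rw [ψ_ugen, φ_img]
    exact congrArg (fun f => f x) this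

end Groth.Agent.Helper27.U5
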