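import Mathlib

/-! Valuation rings dominating a DVR inside the fraction field of an unramified algebra. -/

set_option autoImplicit false

namespace Groth.Agent.Helper27.Ur

open IsLocalRing

universe u

/-- Let `B` be a DVR, `S` a domain which is essentially of finite type and formally unramified
over `B`, `F = Frac S`, and `V` a valuation subring of `F` containing `S` and dominating `B`.
Then `V` is the localization of `S` at the centre of `V`, hence unramified over `B`. -/
theorem isLocalization_of_dominates
    (B : Type u) [CommRing B] [IsDomain B] [IsDiscreteValuationRing B]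
    (S : Type u) [CommRing S] [IsDomain S] [Algebra B S] [Algebra.EssFiniteType B S]
    [Algebra.FormallyUnramified B S]
    (F : Type u) [Field F] [Algebra S F] [IsFractionRing S F]
    (V : ValuationSubring F) (hSV : ∀ s : S, algebraMap S F s ∈ V)
    (hdom : ∀ b ∈ maximalIdeal B, V.valuation (algebraMap S F (algebraMap B S b)) < 1) :
    letI : Algebra S V := (RingHom.codRestrict (algebraMap S F) V hSV).toAlgebra
    IsLocalization.AtPrime V ((maximalIdeal V).comap (algebraMap S V)) := by
  classical
  letI : Algebra S V := (RingHom.codRestrict (algebraMap S F) V hSV).toAlgebra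
  have hSVcoe : ∀ s : S, ((algebraMap S V s : V) : F) = algebraMap S F s := fun s => rfl
  set 𝔮 : Ideal S := (maximalIdeal V).comap (algebraMap S V) with h𝔮
  haveI : 𝔮.IsPrime := Ideal.comap_isPrime _ _
  have hinjSF : Function.Injective (algebraMap S F) := IsFractionRing.injective S F
  have hinjSV : Function.Injective (algebraMap S V) := by
    intro a b hab
    apply hinjSF
    rw [← hSVcoe, ← hSVcoe, hab]
  -- the localization `T`
  let T := Localization.AtPrime 𝔮
  haveI : Algebra.FormallyUnramified S T := Algebra.FormallyUnramified.of_isLocalization 𝔮.primeCompl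
  haveI : Algebra.FormallyUnramified B T := Algebra.FormallyUnramified.comp B S T
  haveI : Algebra.EssFiniteType S T := Algebra.EssFiniteType.of_isLocalization T 𝔮.primeCompl
  haveI : Algebra.EssFiniteType B T := Algebra.EssFiniteType.comp B S T
  haveI : IsNoetherianRing T := Algebra.EssFiniteType.isNoetherianRing B T
  have hBq : ∀ b ∈ maximalIdeal B, algebraMap B S b ∈ 𝔮 := by
    intro b hb
    rw [h𝔮, Ideal.mem_comap, ValuationSubring.valuation_lt_one_iff]
    exact hdom b hb
  have hBT : ∀ b ∈ maximalIdeal B, algebraMap B T b ∈ maximalIdeal T := by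
    intro b hb
    rw [IsScalarTower.algebraMap_apply B S T]
    exact (IsLocalization.AtPrime.to_map_mem_maximal_iff T 𝔮 _).mpr (hBq b hb)
  haveI : IsLocalHom (algebraMap B T) := by
    refine ((IsLocalRing.local_hom_TFAE (algebraMap B T)).out 0 2).mpr ?_
    rw [Ideal.map_le_iff_le_comap]
    intro b hb
    exact hBT b hb
  have hmax : (maximalIdeal B).map (algebraMap B T) = maximalIdeal T :=
    Algebra.FormallyUnramified.map_maximalIdeal
  have hprinc : (maximalIdeal T).IsPrincipal := by
    obtain ⟨π, hπ⟩ := (inferInstance : (maximalIdeal B).IsPrincipal)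
    refine ⟨⟨algebraMap B T π, ?_⟩⟩
    rw [← hmax, hπ, Ideal.submodule_span_eq, Ideal.map_span, Set.image_singleton]
  haveI : ValuationRing T :=
    ((tfae_of_isNoetherianRing_of_isLocalRing_of_isDomain (R := T)).out 4 1).mp hprinc
  -- `T → F`
  have hunit : ∀ y : 𝔮.primeCompl, IsUnit (algebraMap S F (y : S)) := by
    intro y
    refine IsUnit.mk0 _ ?_
    intro h0
    have : (y : S) = 0 := hinjSF (by rw [h0, map_zero])
    exact y.2 (by rw [this]; exact 𝔮.zero_mem)
  let φ : T →+* F := IsLocalization.lift (M := 𝔮.primeCompl) (g := algebraMap S F) hunit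
  letI : Algebra T F := φ.toAlgebra
  haveI : IsScalarTower S T F :=
    IsScalarTower.of_algebraMap_eq (fun s => (IsLocalization.lift_eq hunit s).symm)
  haveI : IsFractionRing T F :=
    IsFractionRing.isFractionRing_of_isDomain_of_isLocalization 𝔮.primeCompl T F
  -- valuation of elements of `S`
  have hvS : ∀ s : S, V.valuation (algebraMap S F s) ≤ 1 := fun s =>
    (V.valuation_le_one_iff _).mpr (hSV s)
  have hvq : ∀ s : S, s ∈ 𝔮 ↔ V.valuation (algebraMap S F s) < 1 := by
    intro s
    rw [h𝔮, Ideal.mem_comap, ValuationSubring.valuation_lt_one_iff]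
    rfl
  have hvnq : ∀ s : 𝔮.primeCompl, V.valuation (algebraMap S F (s : S)) = 1 := by
    intro s
    refine le_antisymm (hvS _) (not_lt.mp fun h => s.2 ((hvq _).mpr h))
  -- every element of `T` is a fraction
  have key : ∀ t : T, ∃ (a : S) (s : 𝔮.primeCompl),
      algebraMap T F t * algebraMap S F (s : S) = algebraMap S F a ∧
      (t ∈ maximalIdeal T → a ∈ 𝔮) := by
    intro t
    obtain ⟨a, s, rfl⟩ := IsLocalization.exists_mk'_eq 𝔮.primeCompl t
    refine ⟨a, s, ?_, ?_⟩
    · rw [IsScalarTower.algebraMap_apply S T F, IsScalarTower.algebraMap_apply S T F, ← map_mul,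
        IsLocalization.mk'_spec]
    · intro ht
      exact (IsLocalization.AtPrime.mk'_mem_maximal_iff T 𝔮 a s).mp ht
  have hvT : ∀ t : T, V.valuation (algebraMap T F t) ≤ 1 ∧
      (t ∈ maximalIdeal T → V.valuation (algebraMap T F t) < 1) := by
    intro t
    obtain ⟨a, s, h1, h2⟩ := key t
    have h3 : V.valuation (algebraMap T F t) = V.valuation (algebraMap S F a) := by
      rw [← h1, map_mul, hvnq, mul_one]
    rw [h3]
    exact ⟨hvS a, fun ht => (hvq a).mp (h2 ht)⟩
  have case1 : ∀ (x : V) (t : T), (x : F) = algebraMap T F t →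
      ∃ p : S × 𝔮.primeCompl, x * algebraMap S V p.2 = algebraMap S V p.1 := by
    intro x t hx
    obtain ⟨a, s, h1, -⟩ := key t
    refine ⟨(a, s), Subtype.ext ?_⟩
    show (x : F) * algebraMap S F (s : S) = algebraMap S F a
    rw [hx, h1]
  rw [IsLocalization.AtPrime, isLocalization_iff]
  refine ⟨?_, ?_, ?_⟩
  · intro y
    rw [ValuationSubring.valuation_eq_one_iff]
    exact hvnq y
  · intro x
    rcases ValuationRing.isInteger_or_isInteger T (x : F) with ⟨t, ht⟩ | ⟨t, ht⟩
    · exact case1 x t ht.symm
    · by_cases hx0 : (x : F) = 0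
      · exact case1 x 0 (by rw [hx0, map_zero])
      · by_cases htm : t ∈ maximalIdeal T
        · exfalso
          have h1 := (hvT t).2 htm
          rw [ht, map_inv₀] at h1
          have h2 : V.valuation (x : F) ≤ 1 := V.valuation_le_one x
          have h3 : V.valuation (x : F) ≠ 0 := (V.valuation.ne_zero_iff).mpr hx0
          have h4 : (1 : _) ≤ (V.valuation (x : F))⁻¹ := by
            rw [one_le_inv₀ (zero_lt_iff.mpr h3)]
            exact h2
          exact absurd h1 (not_lt.mpr h4)
        · have htu : IsUnit t := by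
            by_contra hnu
            exact htm ((IsLocalRing.mem_maximalIdeal t).mpr hnu)
          obtain ⟨u, rfl⟩ := htu
          refine case1 x ((u⁻¹ : Tˣ) : T) ?_
          have h5 : algebraMap T F (u : T) * algebraMap T F ((u⁻¹ : Tˣ) : T) = 1 := by
            rw [← map_mul, Units.mul_inv, map_one]
          rw [ht] at h5
          have := eq_inv_of_mul_eq_one_right h5
          rw [this, inv_inv]
  · intro x y hxy
    exact ⟨1, by rw [hinjSV hxy]⟩

end Groth.Agent.Helper27.Ur
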