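import Mathlib
import Groth.Prelude.Def_EtRam
import Groth.Agent.Lib.Helper27.UrA

/-! Corollaries: unramifiedness / tameness in the `EtRam` language. -/

set_option autoImplicit false

namespace Groth.Agent.Helper27.Ur

open IsLocalRing

universe u

theorem unramified_of_dominates
    (B : Type u) [CommRing B] [IsDomain B] [IsDiscreteValuationRing B]
    (S : Type u) [CommRing S] [IsDomain S] [Algebra B S] [Algebra.EssFiniteType B S]
    [Algebra.FormallyUnramified B S]
    (F : Type u) [Field F] [Algebra S F] [IsFractionRing S F]
    (V : ValuationSubring F) (hSV : ∀ s : S, algebraMap S F s ∈ V)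
    (hdom : ∀ b ∈ maximalIdeal B, V.valuation (algebraMap S F (algebraMap B S b)) < 1)
    [Algebra B V]
    (hBV : ∀ b : B, ((algebraMap B V b : V) : F) = algebraMap S F (algebraMap B S b)) :
    Algebra.FormallyUnramified B V ∧ Algebra.EssFiniteType B V := by
  letI : Algebra S V := (RingHom.codRestrict (algebraMap S F) V hSV).toAlgebra
  haveI : IsScalarTower B S V := IsScalarTower.of_algebraMap_eq (fun b => Subtype.ext (hBV b))
  haveI := isLocalization_of_dominates B S F V hSV hdom
  haveI : Algebra.FormallyUnramified S V :=
    Algebra.FormallyUnramified.of_isLocalization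
      ((maximalIdeal V).comap (algebraMap S V)).primeCompl
  haveI : Algebra.EssFiniteType S V :=
    Algebra.EssFiniteType.of_isLocalization V ((maximalIdeal V).comap (algebraMap S V)).primeCompl
  exact ⟨Algebra.FormallyUnramified.comp B S V, Algebra.EssFiniteType.comp B S V⟩

/-- An extension `L` of the fraction field of a DVR `A` which is the fraction field of a domain
`S` integral, essentially of finite type and formally unramified over `A` is unramified and
tamely ramified with respect to `A`. -/
theorem isUnramifiedExt_of
    (A : Type u) [CommRing A] [IsDomain A] [IsDiscreteValuationRing A]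
    {L : Type u} [Field L] (g : A →+* L)
    (S : Type u) [CommRing S] [IsDomain S] [Algebra A S] [Algebra.EssFiniteType A S]
    [Algebra.FormallyUnramified A S] [Algebra.IsIntegral A S]
    [Algebra S L] [IsFractionRing S L]
    (hg : ∀ a : A, algebraMap S L (algebraMap A S a) = g a) :
    EtRam.IsUnramifiedExt A g := by
  intro V h
  letI : Algebra A V := (RingHom.codRestrict g V h.1).toAlgebra
  intro _
  have hSV : ∀ s : S, algebraMap S L s ∈ V := by
    intro s
    have hs : IsIntegral A s := Algebra.IsIntegral.isIntegral s
    have hs' : IsIntegral V (algebraMap S L s) := by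
      obtain ⟨p, hp, hps⟩ := hs
      refine ⟨p.map (algebraMap A V), hp.map _, ?_⟩
      have : (algebraMap V L).comp (algebraMap A V) = (algebraMap S L).comp (algebraMap A S) := by
        ext a
        exact (hg a).symm
      rw [Polynomial.eval₂_map, this, ← Polynomial.hom_eval₂, hps, map_zero]
    have := IsIntegrallyClosed.algebraMap_eq_of_integral (R := V) (K := L) hs'
    obtain ⟨v, hv⟩ := this
    rw [← hv]
    exact v.2
  have hdom : ∀ b ∈ maximalIdeal A, V.valuation (algebraMap S L (algebraMap A S b)) < 1 := by
    intro b hb
    rw [hg]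
    exact h.2 b hb
  obtain ⟨h1, h2⟩ := unramified_of_dominates A S L V hSV hdom (fun b => (hg b).symm)
  exact ⟨Algebra.FormallyUnramified.map_maximalIdeal, inferInstance⟩

theorem isTamelyRamified_of
    (A : Type u) [CommRing A] [IsDomain A] [IsDiscreteValuationRing A]
    {L : Type u} [Field L] (g : A →+* L) (hginj : Function.Injective g)
    (S : Type u) [CommRing S] [IsDomain S] [Algebra A S] [Algebra.EssFiniteType A S]
    [Algebra.FormallyUnramified A S] [Algebra.IsIntegral A S]
    [Algebra S L] [IsFractionRing S L]
    (hg : ∀ a : A, algebraMap S L (algebraMap A S a) = g a) :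
    EtRam.IsTamelyRamified A g := by
  intro V h
  letI : Algebra A V := (RingHom.codRestrict g V h.1).toAlgebra
  intro _
  obtain ⟨hwu, hsep⟩ := isUnramifiedExt_of A g S hg V h
  refine ⟨hsep, ?_⟩
  intro p hp _
  have hSV : ∀ s : S, algebraMap S L s ∈ V := by
    intro s
    have hs : IsIntegral A s := Algebra.IsIntegral.isIntegral s
    have hs' : IsIntegral V (algebraMap S L s) := by
      obtain ⟨p, hp, hps⟩ := hs
      refine ⟨p.map (algebraMap A V), hp.map _, ?_⟩
      have : (algebraMap V L).comp (algebraMap A V) = (algebraMap S L).comp (algebraMap A S) := by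
        ext a
        exact (hg a).symm
      rw [Polynomial.eval₂_map, this, ← Polynomial.hom_eval₂, hps, map_zero]
    have := IsIntegrallyClosed.algebraMap_eq_of_integral (R := V) (K := L) hs'
    obtain ⟨v, hv⟩ := this
    rw [← hv]
    exact v.2
  have hdom : ∀ b ∈ maximalIdeal A, V.valuation (algebraMap S L (algebraMap A S b)) < 1 := by
    intro b hb
    rw [hg]
    exact h.2 b hb
  obtain ⟨h1, h2⟩ := unramified_of_dominates A S L V hSV hdom (fun b => (hg b).symm)
  haveI : IsNoetherianRing V := Algebra.EssFiniteType.isNoetherianRing A V
  have hidx : Ideal.ramificationIdx' (maximalIdeal A) (maximalIdeal V) = 1 := by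
    apply Ideal.ramificationIdx'_spec
    · rw [pow_one]
      exact hwu.le
    · intro hle
      rw [show Ideal.map (algebraMap A V) (maximalIdeal A) = maximalIdeal V from hwu] at hle
      have hbot : maximalIdeal V = ⊥ := by
        apply Submodule.eq_bot_of_le_smul_of_le_jacobson_bot (maximalIdeal V) (maximalIdeal V)
          (IsNoetherian.noetherian _)
        · rw [smul_eq_mul, ← pow_two]
          exact hle
        · exact (IsLocalRing.maximalIdeal_le_jacobson _)
      obtain ⟨π, hπ⟩ := IsDiscreteValuationRing.exists_irreducible A
      have hπm : π ∈ maximalIdeal A := by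
        rw [IsLocalRing.mem_maximalIdeal]
        exact hπ.not_isUnit
      have : algebraMap A V π ∈ maximalIdeal V := by
        rw [← hwu]
        exact Ideal.mem_map_of_mem _ hπm
      rw [hbot, Ideal.mem_bot] at this
      have h0 : g π = 0 := congrArg Subtype.val this
      exact hπ.ne_zero (hginj (by rw [h0, map_zero]))
  rw [hidx]
  exact hp.one_lt.ne' ∘ Nat.dvd_one.mp

end Groth.Agent.Helper27.Ur
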