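import Mathlib
import Groth.Prelude.Def_EtRam
import Groth.Agent.Lib.Helper27.UrB

/-! Tameness from a finite unramified model. -/

set_option autoImplicit false

namespace Groth.Agent.Helper27.Ur

open IsLocalRing TensorProduct

universe u

/-- Pure algebra core of "finite étale covers of a proper scheme are curve-tame". -/
theorem isTamelyRamified_of_model
    (R R' : Type u) [CommRing R] [CommRing R'] (φ : R →+* R')
    (hφfin : φ.Finite) (hφun : φ.FormallyUnramified)
    (A : Type u) [CommRing A] [IsDomain A] [IsDiscreteValuationRing A] (ρ : R →+* A)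
    {L : Type u} [Field L] (g : A →+* L) (hginj : Function.Injective g)
    (e : R' →+* L) (hcomm : g.comp ρ = e.comp φ)
    (hfrac : ∀ z : L, ∃ a b : R', e b ≠ 0 ∧ z * e b = e a) :
    EtRam.IsTamelyRamified A g := by
  letI : Algebra R R' := φ.toAlgebra
  letI : Algebra R A := ρ.toAlgebra
  letI : Algebra A L := g.toAlgebra
  letI : Algebra R L := (g.comp ρ).toAlgebra
  haveI : IsScalarTower R A L := IsScalarTower.of_algebraMap_eq (fun _ => rfl)
  haveI : Module.Finite R R' := hφfin
  haveI : Algebra.FormallyUnramified R R' := hφun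
  let e' : R' →ₐ[R] L := { e with commutes' := fun r => (congrArg (fun h => h r) hcomm).symm }
  let ψ : A ⊗[R] R' →ₐ[A] L :=
    Algebra.TensorProduct.lift (Algebra.ofId A L) e' (fun _ _ => Commute.all _ _)
  let S : Subalgebra A L := ψ.range
  haveI : Module.Finite A S := Module.Finite.range ψ.toLinearMap
  haveI : Algebra.IsIntegral A S := inferInstance
  haveI : Algebra.FormallyUnramified A S :=
    Algebra.FormallyUnramified.of_surjective ψ.rangeRestrict ψ.rangeRestrict_surjective
  haveI : Algebra.EssFiniteType A S := inferInstance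
  have hmemS : ∀ r : R', e r ∈ S := by
    intro r
    refine ⟨1 ⊗ₜ r, ?_⟩
    show ψ (1 ⊗ₜ r) = e r
    simp [ψ, e']
  haveI : IsFractionRing S L := by
    apply IsFractionRing.of_field
    intro z
    obtain ⟨a, b, hb, hab⟩ := hfrac z
    refine ⟨⟨e a, hmemS a⟩, ⟨e b, hmemS b⟩, ?_⟩
    show z = e a / e b
    rw [eq_div_iff hb, hab]
  exact isTamelyRamified_of A g hginj S (fun a => rfl)

end Groth.Agent.Helper27.Ur
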