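import Mathlib
import Groth.Prelude.Def_EtRam
import Groth.Agent.Lib.Helper27.UrC

/-! Finite étale covers of proper schemes are curve-tame: scheme glue. -/

set_option autoImplicit false

namespace Groth.Agent.Helper27.Ur

open IsLocalRing AlgebraicGeometry CategoryTheory

universe u

/-- every element of the residue field at a point of an affine open is a fraction of
evaluations. -/
theorem exists_evaluation_frac {Y : Scheme.{u}} {V : Y.Opens} (hV : IsAffineOpen V) (y : Y)
    (hy : y ∈ V) (z : Y.residueField y) :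
    ∃ a b : Γ(Y, V), (Y.evaluation V y hy).hom b ≠ 0 ∧
      z * (Y.evaluation V y hy).hom b = (Y.evaluation V y hy).hom a := by
  obtain ⟨t, rfl⟩ := Y.residue_surjective y z
  letI := Y.presheaf.algebra_section_stalk ⟨y, hy⟩
  haveI := hV.isLocalization_stalk ⟨y, hy⟩
  obtain ⟨⟨a, b⟩, hab⟩ := IsLocalization.surj (hV.primeIdealOf ⟨y, hy⟩).asIdeal.primeCompl t
  refine ⟨a, b, ?_, ?_⟩
  · have hu : IsUnit (algebraMap Γ(Y, V) (Y.presheaf.stalk y) b) :=
      IsLocalization.map_units _ b
    have : IsUnit ((Y.residue y).hom (algebraMap Γ(Y, V) (Y.presheaf.stalk y) b)) := hu.map _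
    exact this.ne_zero
  · have := congrArg (Y.residue y).hom hab
    rw [map_mul] at this
    exact this

theorem main18596
    (k : Type u) [Field k] {X Y : Scheme.{u}} (s : X ⟶ Spec (CommRingCat.of k))
    [IsProper s] (f : Y ⟶ X) [IsFinite f] [Etale f] (y : Y)
    (A : ValuationSubring (X.residueField (f.base y))) [IsDiscreteValuationRing A]
    (a : Spec (CommRingCat.of A) ⟶ Spec (CommRingCat.of k))
    (ha : Spec.map (CommRingCat.ofHom A.subtype) ≫ a = X.fromSpecResidueField (f.base y) ≫ s) :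
    EtRam.IsTamelyRamified A ((f.residueFieldMap y).hom.comp A.subtype) := by
  -- valuative criterion
  have hex : ValuativeCriterion.Existence s := by
    have h : UniversallyClosed s := inferInstance
    rw [UniversallyClosed.eq_valuativeCriterion] at h
    exact h.1
  let sq : ValuativeCommSq s :=
    { R := A
      K := X.residueField (f.base y)
      i₁ := X.fromSpecResidueField (f.base y)
      i₂ := a
      commSq := ⟨ha.symm⟩ }
  obtain ⟨⟨ℓ⟩⟩ := hex sq
  have hfac : Spec.map (CommRingCat.ofHom A.subtype) ≫ ℓ.l = X.fromSpecResidueField (f.base y) :=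
    ℓ.fac_left
  -- affine open
  obtain ⟨_, ⟨U, hU, rfl⟩, hx₀U, -⟩ := X.isBasis_affineOpens.exists_subset_of_mem_open
    (Set.mem_univ (ℓ.l (closedPoint A))) isOpen_univ
  have htop : ℓ.l ⁻¹ᵁ U = ⊤ := (IsLocalRing.closedPoint_mem_iff _).mp hx₀U
  have hrange : Set.range ℓ.l ⊆ Set.range hU.fromSpec := by
    rw [hU.range_fromSpec]
    rintro _ ⟨p, rfl⟩
    have : p ∈ ℓ.l ⁻¹ᵁ U := htop ▸ trivial
    exact this
  let ℓ' := IsOpenImmersion.lift hU.fromSpec ℓ.l hrange
  have hℓ' : ℓ' ≫ hU.fromSpec = ℓ.l := IsOpenImmersion.lift_fac _ _ _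
  let ρ : Γ(X, U) ⟶ CommRingCat.of A := Spec.preimage ℓ'
  have hρ : Spec.map ρ = ℓ' := Spec.map_preimage _
  have hx : f.base y ∈ U := by
    have h1 : (Spec.map (CommRingCat.ofHom A.subtype) ≫ ℓ.l) default = f.base y := by
      rw [hfac]
      exact X.fromSpecResidueField_apply _ _
    rw [← h1, Scheme.Hom.comp_apply]
    have : (Spec.map (CommRingCat.ofHom A.subtype)) default ∈ ℓ.l ⁻¹ᵁ U := htop ▸ trivial
    exact this
  have hcompat : ρ ≫ CommRingCat.ofHom A.subtype = X.evaluation U (f.base y) hx := by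
    apply Spec.map_injective
    rw [← cancel_mono hU.fromSpec, Spec.map_comp, Category.assoc, hρ, hℓ', hfac,
      Scheme.fromSpecResidueField, ← hU.fromSpecStalk_eq_fromSpecStalk hx,
      IsAffineOpen.fromSpecStalk, ← Category.assoc, ← Spec.map_comp]
    rfl
  have hV : IsAffineOpen (f ⁻¹ᵁ U) := hU.preimage f
  have hy : y ∈ f ⁻¹ᵁ U := hx
  refine isTamelyRamified_of_model Γ(X, U) Γ(Y, f ⁻¹ᵁ U) (f.app U).hom (f.finite_app U hU) ?_
    A ρ.hom _ ?_ (Y.evaluation (f ⁻¹ᵁ U) y hy).hom ?_ (exists_evaluation_frac hV y hy)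
  · have := (f.etale_appLE hU hV le_rfl).formallyUnramified
    rwa [← Scheme.Hom.app_eq_appLE] at this
  · exact (f.residueFieldMap y).hom.injective.comp Subtype.val_injective
  · have h1 := Scheme.evaluation_naturality f y hx
    rw [← hcompat] at h1
    have h2 := congrArg CommRingCat.Hom.hom h1
    simp only [CommRingCat.hom_comp, CommRingCat.hom_ofHom] at h2
    rw [RingHom.comp_assoc]
    exact h2

end Groth.Agent.Helper27.Ur
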