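import Mathlib

/-! A valuation subring containing `S` whose centre localization is a valuation ring. -/

set_option autoImplicit false

namespace Groth.Agent.Helper27.Ur

open IsLocalRing

universe u

/-- If `S` is a domain with fraction field `F`, `V` a valuation subring of `F` containing `S` with
centre `𝔮`, and `S_𝔮` is already a valuation ring, then `V = S_𝔮`. -/
theorem isLocalization_of_valuationRing
    (S : Type u) [CommRing S] [IsDomain S]
    (F : Type u) [Field F] [Algebra S F] [IsFractionRing S F]
    (V : ValuationSubring F) [Algebra S V]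
    (hSVcoe : ∀ s : S, ((algebraMap S V s : V) : F) = algebraMap S F s)
    (𝔮 : Ideal S) [𝔮.IsPrime] (h𝔮 : 𝔮 = (maximalIdeal V).comap (algebraMap S V))
    [ValuationRing (Localization.AtPrime 𝔮)] :
    IsLocalization.AtPrime V 𝔮 := by
  classical
  have hSV : ∀ s : S, algebraMap S F s ∈ V := fun s => by rw [← hSVcoe]; exact (algebraMap S V s).2
  have hinjSF : Function.Injective (algebraMap S F) := IsFractionRing.injective S F
  have hinjSV : Function.Injective (algebraMap S V) := by
    intro a b hab
    apply hinjSF
    rw [← hSVcoe, ← hSVcoe, hab]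
  let T := Localization.AtPrime 𝔮
  have hunit : ∀ y : 𝔮.primeCompl, IsUnit (algebraMap S F (y : S)) := by
    intro y
    refine IsUnit.mk0 _ ?_
    intro h0
    have : (y : S) = 0 := hinjSF (by rw [h0, map_zero])
    exact y.2 (by rw [this]; exact 𝔮.zero_mem)
  let φ : T →+* F := IsLocalization.lift (M := 𝔮.primeCompl) (g := algebraMap S F) hunit
  letI : Algebra T F := φ.toAlgebra
  haveI : IsScalarTower S T F :=
    IsScalarTower.of_algebraMap_eq (fun s => (IsLocalization.lift_eq hunit s).symm)
  haveI : IsFractionRing T F :=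
    IsFractionRing.isFractionRing_of_isDomain_of_isLocalization 𝔮.primeCompl T F
  have hvS : ∀ s : S, V.valuation (algebraMap S F s) ≤ 1 := fun s =>
    (V.valuation_le_one_iff _).mpr (hSV s)
  have hvq : ∀ s : S, s ∈ 𝔮 ↔ V.valuation (algebraMap S F s) < 1 := by
    intro s
    rw [h𝔮, Ideal.mem_comap, ValuationSubring.valuation_lt_one_iff, hSVcoe]
  have hvnq : ∀ s : 𝔮.primeCompl, V.valuation (algebraMap S F (s : S)) = 1 := by
    intro s
    refine le_antisymm (hvS _) (not_lt.mp fun h => s.2 ((hvq _).mpr h))
  have key : ∀ t : T, ∃ (a : S) (s : 𝔮.primeCompl),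
      algebraMap T F t * algebraMap S F (s : S) = algebraMap S F a ∧
      (t ∈ maximalIdeal T → a ∈ 𝔮) := by
    intro t
    obtain ⟨a, s, rfl⟩ := IsLocalization.exists_mk'_eq 𝔮.primeCompl t
    refine ⟨a, s, ?_, ?_⟩
    · rw [IsScalarTower.algebraMap_apply S T F, IsScalarTower.algebraMap_apply S T F, ← map_mul,
        IsLocalization.mk'_spec]
    · intro ht
      exact (IsLocalization.AtPrime.mk'_mem_maximal_iff T 𝔮 a s).mp ht
  have hvT : ∀ t : T, V.valuation (algebraMap T F t) ≤ 1 ∧
      (t ∈ maximalIdeal T → V.valuation (algebraMap T F t) < 1) := by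
    intro t
    obtain ⟨a, s, h1, h2⟩ := key t
    have h3 : V.valuation (algebraMap T F t) = V.valuation (algebraMap S F a) := by
      rw [← h1, map_mul, hvnq, mul_one]
    rw [h3]
    exact ⟨hvS a, fun ht => (hvq a).mp (h2 ht)⟩
  have case1 : ∀ (x : V) (t : T), (x : F) = algebraMap T F t →
      ∃ p : S × 𝔮.primeCompl, x * algebraMap S V p.2 = algebraMap S V p.1 := by
    intro x t hx
    obtain ⟨a, s, h1, -⟩ := key t
    refine ⟨(a, s), Subtype.ext ?_⟩
    show (x : F) * ((algebraMap S V (s : S) : V) : F) = ((algebraMap S V a : V) : F)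
    rw [hSVcoe, hSVcoe, hx, h1]
  rw [IsLocalization.AtPrime, isLocalization_iff]
  refine ⟨?_, ?_, ?_⟩
  · intro y
    rw [ValuationSubring.valuation_eq_one_iff, hSVcoe]
    exact hvnq y
  · intro x
    rcases ValuationRing.isInteger_or_isInteger T (x : F) with ⟨t, ht⟩ | ⟨t, ht⟩
    · exact case1 x t ht.symm
    · by_cases hx0 : (x : F) = 0
      · exact case1 x 0 (by rw [hx0, map_zero])
      · by_cases htm : t ∈ maximalIdeal T
        · exfalso
          have h1 := (hvT t).2 htm
          rw [ht, map_inv₀] at h1
          have h2 : V.valuation (x : F) ≤ 1 := V.valuation_le_one x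
          have h3 : V.valuation (x : F) ≠ 0 := (V.valuation.ne_zero_iff).mpr hx0
          have h4 : (1 : _) ≤ (V.valuation (x : F))⁻¹ := by
            rw [one_le_inv₀ (zero_lt_iff.mpr h3)]
            exact h2
          exact absurd h1 (not_lt.mpr h4)
        · have htu : IsUnit t := by
            by_contra hnu
            exact htm ((IsLocalRing.mem_maximalIdeal t).mpr hnu)
          obtain ⟨u, rfl⟩ := htu
          refine case1 x ((u⁻¹ : Tˣ) : T) ?_
          have h5 : algebraMap T F (u : T) * algebraMap T F ((u⁻¹ : Tˣ) : T) = 1 := by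
            rw [← map_mul, Units.mul_inv, map_one]
          rw [ht] at h5
          have := eq_inv_of_mul_eq_one_right h5
          rw [this, inv_inv]
  · intro x y hxy
    exact ⟨1, by rw [hinjSV hxy]⟩

/-- In characteristic `p`, a finite extension of degree prime to `p` is separable. -/
theorem isSeparable_of_not_dvd_finrank (F E : Type*) [Field F] [Field E] [Algebra F E]
    [FiniteDimensional F E]
    (h : ∀ p : ℕ, p.Prime → CharP F p → ¬ p ∣ Module.finrank F E) :
    Algebra.IsSeparable F E := by
  obtain ⟨p, hp⟩ := CharP.exists F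
  rcases CharP.char_is_prime_or_zero F p with hpp | hp0
  · refine ⟨fun x => ?_⟩
    have hx : IsIntegral F x := Algebra.IsIntegral.isIntegral x
    have hirr := minpoly.irreducible hx
    obtain ⟨n, g, hg, hexp⟩ := Polynomial.exists_separable_of_irreducible p hirr hpp.ne_zero
    have hdeg : (minpoly F x).natDegree = g.natDegree * p ^ n := by
      rw [← hexp, Polynomial.natDegree_expand]
    have hdvd : (minpoly F x).natDegree ∣ Module.finrank F E := minpoly.degree_dvd hx
    rcases Nat.eq_zero_or_pos n with rfl | hn
    · rw [pow_zero, Polynomial.expand_one] at hexp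
      show (minpoly F x).Separable
      rw [← hexp]
      exact hg
    · exfalso
      apply h p hpp hp
      refine dvd_trans ?_ hdvd
      rw [hdeg]
      exact dvd_mul_of_dvd_right (dvd_pow_self p hn.ne') _
  · subst hp0
    haveI : CharZero F := CharP.charP_to_charZero F
    exact Algebra.IsAlgebraic.isSeparable_of_perfectField

end Groth.Agent.Helper27.Ur
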