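import Mathlib
import Groth.Prelude.Def_EtRam
import Groth.Agent.Lib.Helper27.UrE

/-! Galois extensions of degree prime to the residue characteristic are tamely ramified. -/

set_option autoImplicit false

namespace Groth.Agent.Helper27.Ur

open IsLocalRing

universe u

attribute [local instance] Ideal.Quotient.field in
theorem isTamelyRamified_of_isGalois
    (A : Type u) [CommRing A] [IsDomain A] [IsDiscreteValuationRing A]
    (K : Type u) [Field K] [Algebra A K] [IsFractionRing A K]
    (L : Type u) [Field L] [Algebra K L] [FiniteDimensional K L] [IsGalois K L]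
    (g : A →+* L) (hg : ∀ a, g a = algebraMap K L (algebraMap A K a))
    (hp : ∀ p : ℕ, p.Prime → CharP (ResidueField A) p → ¬ p ∣ Module.finrank K L) :
    EtRam.IsTamelyRamified A g := by
  classical
  letI : Algebra A L := g.toAlgebra
  haveI : IsScalarTower A K L := IsScalarTower.of_algebraMap_eq hg
  have hginj : Function.Injective g := by
    have : g = (algebraMap K L).comp (algebraMap A K) := RingHom.ext hg
    rw [this]
    exact (algebraMap K L).injective.comp (IsFractionRing.injective A K)
  let B := integralClosure A L
  haveI : IsDedekindDomain B := integralClosure.isDedekindDomain A K L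
  haveI : Module.Finite A B := IsIntegralClosure.finite A K L B
  haveI : IsFractionRing B L := integralClosure.isFractionRing_of_finite_extension K L
  letI : MulSemiringAction Gal(L/K) B := IsIntegralClosure.MulSemiringAction A K L B
  haveI : IsGaloisGroup Gal(L/K) A B := IsGaloisGroup.of_isFractionRing _ _ _ K L
  intro V h
  letI : Algebra A V := (RingHom.codRestrict g V h.1).toAlgebra
  intro _
  have hAVL : (algebraMap V L).comp (algebraMap A V) = algebraMap A L := RingHom.ext fun _ => rfl
  have hBV : ∀ b : B, (b : L) ∈ V := by
    intro b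
    have hb : IsIntegral A (b : L) := b.2
    have hb' : IsIntegral V (b : L) := by
      obtain ⟨q, hq, hqb⟩ := hb
      refine ⟨q.map (algebraMap A V), hq.map _, ?_⟩
      rw [Polynomial.eval₂_map, hAVL]
      exact hqb
    obtain ⟨v, hv⟩ := IsIntegrallyClosed.algebraMap_eq_of_integral (R := V) (K := L) hb'
    rw [← hv]
    exact v.2
  letI : Algebra B V := (RingHom.codRestrict (algebraMap B L) V hBV).toAlgebra
  haveI : IsScalarTower A B V := IsScalarTower.of_algebraMap_eq (fun a => Subtype.ext rfl)
  let P : Ideal B := (maximalIdeal V).comap (algebraMap B V)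
  haveI : P.IsPrime := Ideal.comap_isPrime _ _
  obtain ⟨π, hπ⟩ := IsDiscreteValuationRing.exists_irreducible A
  have hπm : π ∈ maximalIdeal A := by
    rw [IsLocalRing.mem_maximalIdeal]
    exact hπ.not_isUnit
  have hmAP : ∀ a ∈ maximalIdeal A, algebraMap A B a ∈ P := by
    intro a ha
    show algebraMap B V (algebraMap A B a) ∈ maximalIdeal V
    rw [ValuationSubring.valuation_lt_one_iff]
    exact h.2 a ha
  have hPne : P ≠ ⊥ := by
    intro hbot
    have h1 := hmAP π hπm
    rw [hbot, Ideal.mem_bot] at h1
    have h2 : g π = 0 := congrArg Subtype.val h1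
    exact hπ.ne_zero (hginj (by rw [h2, map_zero]))
  haveI : P.IsMaximal := Ideal.IsPrime.isMaximal inferInstance hPne
  haveI : IsDiscreteValuationRing (Localization.AtPrime P) :=
    IsLocalization.AtPrime.isDiscreteValuationRing_of_dedekind_domain B hPne _
  haveI : IsLocalization.AtPrime V P :=
    isLocalization_of_valuationRing B L V (fun _ => rfl) P rfl
  haveI : IsDiscreteValuationRing V :=
    IsLocalization.AtPrime.isDiscreteValuationRing_of_dedekind_domain B hPne V
  have hunder : P.under A = maximalIdeal A := by
    symm
    apply (IsLocalRing.maximalIdeal.isMaximal A).eq_of_le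
    · exact (Ideal.IsPrime.under A P).ne_top
    · intro a ha
      exact hmAP a ha
  haveI : P.LiesOver (maximalIdeal A) := ⟨hunder.symm⟩
  have hmA : maximalIdeal A ≠ ⊥ := IsDiscreteValuationRing.not_a_field A
  have hunderV : (maximalIdeal V).under A = maximalIdeal A :=
    IsLocalRing.maximalIdeal_comap (algebraMap A V)
  haveI : (maximalIdeal V).LiesOver (maximalIdeal A) := ⟨hunderV.symm⟩
  haveI : (maximalIdeal V).LiesOver P := ⟨rfl⟩
  have hinjAV : Function.Injective (algebraMap A V) := by
    intro a b hab
    exact hginj (congrArg Subtype.val hab)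
  haveI : Module.IsTorsionFree A V := by
    rw [Module.isTorsionFree_iff_algebraMap_injective]
    exact hinjAV
  have h1 : Ideal.ramificationIdx' (maximalIdeal A) (maximalIdeal V) =
      (maximalIdeal V).ramificationIdx A :=
    Ideal.ramificationIdx'_eq_ramificationIdx _ _ hmA
  haveI : Module.Flat B V := IsLocalization.flat V P.primeCompl
  have h2 : (maximalIdeal V).ramificationIdx A =
      P.ramificationIdx A * (maximalIdeal V).ramificationIdx B :=
    Ideal.ramificationIdx_tower P (maximalIdeal V)
  haveI : Algebra.FormallyUnramified B V :=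
    Algebra.FormallyUnramified.of_isLocalization P.primeCompl
  haveI : Algebra.EssFiniteType B V := Algebra.EssFiniteType.of_isLocalization V P.primeCompl
  haveI : Algebra.IsUnramifiedAt B (maximalIdeal V) := by
    haveI : Algebra.FormallyUnramified V (Localization.AtPrime (maximalIdeal V)) :=
      Algebra.FormallyUnramified.of_isLocalization (maximalIdeal V).primeCompl
    exact Algebra.FormallyUnramified.comp B V _
  have h3 : (maximalIdeal V).ramificationIdx B = 1 := Ideal.ramificationIdx_eq_one _ B
  haveI : Module.IsTorsionFree A B := by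
    rw [Module.isTorsionFree_iff_algebraMap_injective]
    intro a b hab
    exact hginj (congrArg Subtype.val hab)
  haveI : Module.Flat A B := inferInstance
  have h4 := Ideal.ncard_primesOver_mul_ramificationIdxIn_mul_inertiaDegIn (maximalIdeal A) B
    Gal(L/K)
  rw [Ideal.ramificationIdxIn_eq_ramificationIdx (maximalIdeal A) P Gal(L/K),
    Ideal.inertiaDegIn_eq_inertiaDeg (maximalIdeal A) P Gal(L/K),
    IsGalois.card_aut_eq_finrank] at h4
  have he : P.ramificationIdx A ∣ Module.finrank K L :=
    ⟨(Ideal.primesOver (maximalIdeal A) B).ncard * P.inertiaDeg A, by rw [← h4]; ring⟩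
  have hf : P.inertiaDeg A ∣ Module.finrank K L :=
    ⟨(Ideal.primesOver (maximalIdeal A) B).ncard * P.ramificationIdx A, by rw [← h4]; ring⟩
  have hidx : Ideal.ramificationIdx' (maximalIdeal A) (maximalIdeal V) = P.ramificationIdx A := by
    rw [h1, h2, h3, mul_one]
  refine ⟨?_, ?_⟩
  · have hfin : P.inertiaDeg A = Module.finrank (A ⧸ maximalIdeal A) (B ⧸ P) :=
      Ideal.inertiaDeg_eq_of_isMaximal (maximalIdeal A) P
    haveI : FiniteDimensional (A ⧸ maximalIdeal A) (B ⧸ P) := inferInstance
    haveI : Algebra.IsSeparable (A ⧸ maximalIdeal A) (B ⧸ P) := by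
      apply isSeparable_of_not_dvd_finrank
      intro p hpp hpc hd
      rw [← hfin] at hd
      exact hp p hpp hpc (dvd_trans hd hf)
    let e₂ : B ⧸ P ≃+* ResidueField V := IsLocalization.AtPrime.equivQuotMaximalIdeal P V
    refine Algebra.IsSeparable.of_equiv_equiv (RingEquiv.refl (A ⧸ maximalIdeal A)) e₂ ?_
    apply Ideal.Quotient.ringHom_ext
    ext a
    rfl
  · intro p hpp hpc
    rw [hidx]
    exact fun hd => hp p hpp hpc (dvd_trans hd he)

end Groth.Agent.Helper27.Ur
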