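import Mathlib

/-! Residue field extensions of Galois covers are Galois of degree prime to `p`. -/

set_option autoImplicit false

namespace Groth.Agent.Helper27.Ur

open TensorProduct

universe u

theorem galois_of_transitive
    (R R' : Type u) [CommRing R] [CommRing R'] (φ : R →+* R')
    (hφfin : φ.Finite) (hφun : φ.FormallyUnramified)
    (G : Type*) [Group G] [Finite G] (act : G → (R' →+* R'))
    (hact1 : act 1 = RingHom.id R')
    (hactmul : ∀ σ τ, act (σ * τ) = (act τ).comp (act σ))
    (K L : Type u) [Field K] [Field L] (m : K →+* L) (evX : R →+* K) (evZ : R' →+* L)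
    (hcomm : m.comp evX = evZ.comp φ)
    (hfracL : ∀ c : L, ∃ a b : R', evZ b ≠ 0 ∧ c * evZ b = evZ a)
    (htrans : ∀ (Ω : Type u) [Field Ω] [IsAlgClosed Ω] (s t : R' →+* Ω),
      s.comp φ = t.comp φ → ∃ σ : G, t = s.comp (act σ)) :
    letI := m.toAlgebra
    FiniteDimensional K L ∧ IsGalois K L ∧
      ∀ p : ℕ, p.Prime → ¬ p ∣ Nat.card G → ¬ p ∣ Module.finrank K L := by
  letI : Algebra K L := m.toAlgebra
  letI : Algebra R R' := φ.toAlgebra
  letI : Algebra R K := evX.toAlgebra
  letI : Algebra R L := (m.comp evX).toAlgebra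
  haveI : IsScalarTower R K L := IsScalarTower.of_algebraMap_eq (fun _ => rfl)
  haveI : Module.Finite R R' := hφfin
  haveI : Algebra.FormallyUnramified R R' := hφun
  let e' : R' →ₐ[R] L := { evZ with commutes' := fun r => (congrArg (fun h => h r) hcomm).symm }
  let ψ : K ⊗[R] R' →ₐ[K] L :=
    Algebra.TensorProduct.lift (Algebra.ofId K L) e' (fun _ _ => Commute.all _ _)
  have hψ : ∀ r : R', ψ (1 ⊗ₜ r) = evZ r := by
    intro r
    simp [ψ, e']
  -- ψ is surjective
  have hsurj : Function.Surjective ψ := by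
    intro c
    haveI : Module.Finite K ψ.range := Module.Finite.range ψ.toLinearMap
    obtain ⟨a, b, hb, hab⟩ := hfracL c
    have hbmem : evZ b ∈ ψ.range := ⟨1 ⊗ₜ b, hψ b⟩
    have hamem : evZ a ∈ ψ.range := ⟨1 ⊗ₜ a, hψ a⟩
    have hbalg : IsAlgebraic K ((⟨evZ b, hbmem⟩ : ψ.range) : L) := by
      have : IsAlgebraic K (⟨evZ b, hbmem⟩ : ψ.range) :=
        (Algebra.IsIntegral.isIntegral (R := K) _).isAlgebraic
      exact this.algebraMap (A := L)
    have hinv : (evZ b)⁻¹ ∈ ψ.range := Subalgebra.inv_mem_of_algebraic ψ.range (x := ⟨evZ b, hbmem⟩) hbalg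
    have hc : c = evZ a * (evZ b)⁻¹ := by
      rw [← hab, mul_assoc, mul_inv_cancel₀ hb, mul_one]
    have : c ∈ ψ.range := by
      rw [hc]
      exact ψ.range.mul_mem hamem hinv
    exact this
  haveI : Module.Finite K L := Module.Finite.of_surjective ψ.toLinearMap hsurj
  haveI : Algebra.FormallyUnramified K L := Algebra.FormallyUnramified.of_surjective ψ hsurj
  haveI : Algebra.IsSeparable K L := Algebra.FormallyUnramified.isSeparable K L
  let Ω := AlgebraicClosure L
  have key : ∀ τ : L →ₐ[K] Ω, ∃ σ : G,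
      ∀ r : R', τ (evZ r) = algebraMap L Ω (evZ (act σ r)) := by
    intro τ
    have h := htrans Ω ((algebraMap L Ω).comp evZ) (τ.toRingHom.comp evZ) ?_
    · obtain ⟨σ, hσ⟩ := h
      exact ⟨σ, fun r => congrArg (fun h => h r) hσ⟩
    · ext r
      have h1 : evZ (φ r) = algebraMap K L (evX r) := (congrArg (fun h => h r) hcomm).symm
      simp only [RingHom.comp_apply]
      rw [h1]
      have h2 : τ (algebraMap K L (evX r)) = algebraMap K Ω (evX r) := τ.commutes _
      rw [IsScalarTower.algebraMap_apply K L Ω] at h2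
      exact h2.symm
  have hrange : ∀ (τ : L →ₐ[K] Ω) (c : L), τ c ∈ (algebraMap L Ω).range := by
    intro τ c
    obtain ⟨σ, hσ⟩ := key τ
    obtain ⟨a, b, hb, hab⟩ := hfracL c
    have h1 : τ c * τ (evZ b) = τ (evZ a) := by rw [← map_mul, hab]
    have h2 : τ (evZ b) ≠ 0 := by
      intro h0
      exact hb (τ.toRingHom.injective (by rw [AlgHom.toRingHom_eq_coe, RingHom.coe_coe, h0, map_zero]))
    refine ⟨evZ (act σ a) / evZ (act σ b), ?_⟩
    rw [map_div₀, ← hσ, ← hσ, ← h1, mul_div_assoc, div_self h2, mul_one]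
  haveI : Normal K L := by
    rw [normal_iff]
    intro x
    refine ⟨Algebra.IsIntegral.isIntegral x, ?_⟩
    apply Polynomial.Splits.of_splits_map (algebraMap L Ω) (IsAlgClosed.splits _)
    intro y hy
    rw [Polynomial.map_map, ← IsScalarTower.algebraMap_eq K L Ω] at hy
    have hne : (minpoly K x).map (algebraMap K Ω) ≠ 0 :=
      Polynomial.map_ne_zero (minpoly.ne_zero (Algebra.IsIntegral.isIntegral x))
    have hy' : Polynomial.aeval y (minpoly K x) = 0 := by
      rw [Polynomial.mem_roots hne, Polynomial.IsRoot.def, Polynomial.eval_map] at hy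
      exact hy
    obtain ⟨τ, hτ⟩ := IntermediateField.exists_algHom_of_splits_of_aeval
      (fun s : L => ⟨Algebra.IsIntegral.isIntegral s, IsAlgClosed.splits _⟩) hy'
    rw [← hτ]
    exact hrange τ x
  haveI : IsGalois K L := ⟨⟩
  refine ⟨inferInstance, inferInstance, ?_⟩
  intro p hpp hpG hpn
  haveI : Fact p.Prime := ⟨hpp⟩
  rw [← IsGalois.card_aut_eq_finrank K L] at hpn
  obtain ⟨h, hh⟩ := exists_prime_orderOf_dvd_card' p hpn
  -- `h` is induced by some `σ`
  obtain ⟨σ, hσ⟩ := key ((IsScalarTower.toAlgHom K L Ω).comp (h : L →ₐ[K] L))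
  have hσ' : ∀ r : R', h (evZ r) = evZ (act σ r) := by
    intro r
    exact (algebraMap L Ω).injective (hσ r)
  have hpow : ∀ (j : ℕ) (r : R'), (h ^ j) (evZ r) = evZ (act (σ ^ j) r) := by
    intro j
    induction j with
    | zero =>
      intro r
      rw [pow_zero, pow_zero, hact1]
      rfl
    | succ j ih =>
      intro r
      rw [pow_succ, pow_succ', hactmul, AlgEquiv.mul_apply, hσ', ih]
      rfl
  have hone : h ^ Nat.card G = 1 := by
    ext c
    obtain ⟨a, b, hb, hab⟩ := hfracL c
    have h1 : ∀ r : R', (h ^ Nat.card G) (evZ r) = evZ r := by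
      intro r
      rw [hpow, pow_card_eq_one', hact1]
      rfl
    have h2 : (h ^ Nat.card G) c * (h ^ Nat.card G) (evZ b) = (h ^ Nat.card G) (evZ a) := by
      rw [← map_mul, hab]
    rw [h1, h1, ← hab] at h2
    exact mul_right_cancel₀ hb h2
  have hdvd : orderOf h ∣ Nat.card G := orderOf_dvd_of_pow_eq_one hone
  rw [hh] at hdvd
  exact hpG hdvd

end Groth.Agent.Helper27.Ur
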