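import Mathlib
import Groth.Prelude.Def_EtRam
import Groth.Prelude.Def_PiSp
import Groth.Prelude.Def_FEt
import Groth.Agent.Lib.Helper27.UrD
import Groth.Agent.Lib.Helper27.UrF
import Groth.Agent.Lib.Helper27.UrG

/-! Galois covers of order prime to `p` are curve-tame: scheme glue. -/

set_option autoImplicit false

namespace Groth.Agent.Helper27.Ur

open IsLocalRing AlgebraicGeometry CategoryTheory

universe u

theorem main18597
    (k : Type u) [Field k] {X : Scheme.{u}}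
    (Z : FEt.Cat X) (hZ : PiSp.IsGaloisCover Z) (hn : (Nat.card (Aut Z) : k) ≠ 0) (z : Z.left)
    (A : ValuationSubring (X.residueField (Z.hom.base z))) [IsDiscreteValuationRing A]
    (a : Spec (CommRingCat.of A) ⟶ Spec (CommRingCat.of k)) :
    EtRam.IsTamelyRamified A ((Z.hom.residueFieldMap z).hom.comp A.subtype) := by
  have hcard : Nat.card (Aut Z) ≠ 0 := by
    intro h0
    apply hn
    rw [h0, Nat.cast_zero]
  haveI : Finite (Aut Z) := Nat.finite_of_card_ne_zero hcard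
  haveI : IsFinite Z.hom := Z.prop.1
  haveI : Etale Z.hom := Z.prop.2
  -- affine open
  obtain ⟨_, ⟨U, hU, rfl⟩, hx, -⟩ := X.isBasis_affineOpens.exists_subset_of_mem_open
    (Set.mem_univ (Z.hom.base z)) isOpen_univ
  have hV : IsAffineOpen (Z.hom ⁻¹ᵁ U) := hU.preimage Z.hom
  have hz : z ∈ Z.hom ⁻¹ᵁ U := hx
  have hle : ∀ σ : Aut Z, Z.hom ⁻¹ᵁ U ≤ σ.hom.left ⁻¹ᵁ (Z.hom ⁻¹ᵁ U) := by
    intro σ
    have h1 : σ.hom.left ≫ Z.hom = Z.hom := Over.w σ.hom.hom
    intro w hw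
    show Z.hom.base (σ.hom.left.base w) ∈ U
    have h2 : Z.hom.base (σ.hom.left.base w) = (σ.hom.left ≫ Z.hom).base w := rfl
    rw [h2, h1]
    exact hw
  let act : Aut Z → (Γ(Z.left, Z.hom ⁻¹ᵁ U) →+* Γ(Z.left, Z.hom ⁻¹ᵁ U)) := fun σ =>
    (σ.hom.left.appLE (Z.hom ⁻¹ᵁ U) (Z.hom ⁻¹ᵁ U) (hle σ)).hom
  have hactspec : ∀ σ : Aut Z, Spec.map (CommRingCat.ofHom (act σ)) ≫ hV.fromSpec =
      hV.fromSpec ≫ σ.hom.left := by
    intro σ
    exact IsAffineOpen.SpecMap_appLE_fromSpec σ.hom.left hV hV (hle σ)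
  have huniq : ∀ (ρ₁ ρ₂ : Γ(Z.left, Z.hom ⁻¹ᵁ U) →+* Γ(Z.left, Z.hom ⁻¹ᵁ U)),
      Spec.map (CommRingCat.ofHom ρ₁) ≫ hV.fromSpec =
        Spec.map (CommRingCat.ofHom ρ₂) ≫ hV.fromSpec → ρ₁ = ρ₂ := by
    intro ρ₁ ρ₂ h
    rw [cancel_mono] at h
    have := Spec.map_injective h
    exact congrArg CommRingCat.Hom.hom this
  have hact1 : act 1 = RingHom.id _ := by
    apply huniq
    rw [hactspec]
    have h1 : hV.fromSpec ≫ (1 : Aut Z).hom.left = hV.fromSpec := Category.comp_id _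
    have h2 : CommRingCat.ofHom (RingHom.id Γ(Z.left, Z.hom ⁻¹ᵁ U)) = 𝟙 _ := rfl
    rw [h1, h2, Spec.map_id]
    exact (Category.id_comp _).symm
  have hactmul : ∀ σ τ : Aut Z, act (σ * τ) = (act τ).comp (act σ) := by
    intro σ τ
    apply huniq
    rw [hactspec]
    have h2 : CommRingCat.ofHom ((act τ).comp (act σ)) =
        CommRingCat.ofHom (act σ) ≫ CommRingCat.ofHom (act τ) := rfl
    rw [h2, Spec.map_comp]
    calc hV.fromSpec ≫ (σ * τ).hom.left
        = (hV.fromSpec ≫ τ.hom.left) ≫ σ.hom.left := (Category.assoc _ _ _).symm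
      _ = (Spec.map (CommRingCat.ofHom (act τ)) ≫ hV.fromSpec) ≫ σ.hom.left := by
          rw [hactspec τ]
      _ = Spec.map (CommRingCat.ofHom (act τ)) ≫ (hV.fromSpec ≫ σ.hom.left) :=
          Category.assoc _ _ _
      _ = Spec.map (CommRingCat.ofHom (act τ)) ≫
            (Spec.map (CommRingCat.ofHom (act σ)) ≫ hV.fromSpec) := by
          rw [hactspec σ]
      _ = _ := (Category.assoc _ _ _).symm
  have hφspec : Spec.map (Z.hom.app U) ≫ hU.fromSpec = hV.fromSpec ≫ Z.hom := by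
    rw [Scheme.Hom.app_eq_appLE]
    exact IsAffineOpen.SpecMap_appLE_fromSpec Z.hom hU hV le_rfl
  have htrans : ∀ (Ω : Type u) [Field Ω] [IsAlgClosed Ω]
      (s t : Γ(Z.left, Z.hom ⁻¹ᵁ U) →+* Ω),
      s.comp (Z.hom.app U).hom = t.comp (Z.hom.app U).hom → ∃ σ : Aut Z, t = s.comp (act σ) := by
    intro Ω _ _ s t hst
    let ξ : Spec (CommRingCat.of Ω) ⟶ X :=
      Spec.map (CommRingCat.ofHom (s.comp (Z.hom.app U).hom)) ≫ hU.fromSpec
    have hs : (Spec.map (CommRingCat.ofHom s) ≫ hV.fromSpec) ≫ Z.hom = ξ := by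
      rw [Category.assoc, ← hφspec, ← Category.assoc, ← Spec.map_comp]
      rfl
    have ht : (Spec.map (CommRingCat.ofHom t) ≫ hV.fromSpec) ≫ Z.hom = ξ := by
      rw [Category.assoc, ← hφspec, ← Category.assoc, ← Spec.map_comp]
      show Spec.map (CommRingCat.ofHom (t.comp (Z.hom.app U).hom)) ≫ hU.fromSpec = ξ
      rw [← hst]
    obtain ⟨σ, hσ⟩ := hZ.2 Ω ξ ⟨_, hs⟩ ⟨_, ht⟩
    refine ⟨σ, ?_⟩
    have h1 : (Spec.map (CommRingCat.ofHom s) ≫ hV.fromSpec) ≫ σ.hom.left =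
        Spec.map (CommRingCat.ofHom t) ≫ hV.fromSpec := congrArg Subtype.val hσ
    rw [Category.assoc, ← hactspec, ← Category.assoc, ← Spec.map_comp, cancel_mono] at h1
    have h2 := Spec.map_injective h1
    have h3 := congrArg CommRingCat.Hom.hom h2
    exact h3.symm
  have hφun : (Z.hom.app U).hom.FormallyUnramified := by
    have := (Z.hom.etale_appLE hU hV le_rfl).formallyUnramified
    rwa [← Scheme.Hom.app_eq_appLE] at this
  have hcomm : (Z.hom.residueFieldMap z).hom.comp (X.evaluation U (Z.hom.base z) hx).hom =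
      (Z.left.evaluation (Z.hom ⁻¹ᵁ U) z hz).hom.comp (Z.hom.app U).hom := by
    have h1 := Scheme.evaluation_naturality Z.hom z hx
    exact congrArg CommRingCat.Hom.hom h1
  obtain ⟨hfd, hgal, hdeg⟩ := galois_of_transitive Γ(X, U) Γ(Z.left, Z.hom ⁻¹ᵁ U)
    (Z.hom.app U).hom (Z.hom.finite_app U hU) hφun (Aut Z) act hact1 hactmul
    (X.residueField (Z.hom.base z)) (Z.left.residueField z) (Z.hom.residueFieldMap z).hom
    (X.evaluation U (Z.hom.base z) hx).hom (Z.left.evaluation (Z.hom ⁻¹ᵁ U) z hz).hom hcomm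
    (exists_evaluation_frac hV z hz) htrans
  letI : Algebra (X.residueField (Z.hom.base z)) (Z.left.residueField z) :=
    (Z.hom.residueFieldMap z).hom.toAlgebra
  haveI := hfd
  haveI := hgal
  refine isTamelyRamified_of_isGalois A (X.residueField (Z.hom.base z)) (Z.left.residueField z) _
    (fun _ => rfl) ?_
  intro p hpp hpc hd
  have hpG : p ∣ Nat.card (Aut Z) := by
    by_contra h
    exact hdeg p hpp h hd
  let ι : k →+* ResidueField A := (IsLocalRing.residue A).comp (Spec.preimage a).hom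
  haveI : CharP k p := (RingHom.charP_iff ι ι.injective p).mpr hpc
  apply hn
  exact (CharP.cast_eq_zero_iff k p _).mpr hpG

end Groth.Agent.Helper27.Ur
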