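import Mathlib

/-! Kummer step: adjoining an `n`-th root of a uniformizer. -/

set_option autoImplicit false

namespace Groth.Agent.Helper27.Ur

open IsLocalRing Polynomial

universe u

theorem kummer_step (D' : Type u) [CommRing D'] [IsDomain D'] [IsDiscreteValuationRing D']
    (K₁ : Type u) [Field K₁] [Algebra D' K₁] [IsFractionRing D' K₁]
    (L : Type u) [Field L] [Algebra K₁ L] (π : D') (hπ : Irreducible π) (n : ℕ) (hn : 0 < n)
    (t : L) (ht : t ^ n = algebraMap K₁ L (algebraMap D' K₁ π))
    (hgen : ∀ x : L, ∃ p : Polynomial K₁, Polynomial.aeval t p = x)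
    (V : ValuationSubring L) (hV : ∀ d : D', algebraMap K₁ L (algebraMap D' K₁ d) ∈ V)
    (hdom : V.valuation (algebraMap K₁ L (algebraMap D' K₁ π)) < 1) :
    (∀ x : L, V.valuation x < 1 → V.valuation x ≤ V.valuation t) ∧
    (∀ x : L, x ∈ V → ∃ d : D', V.valuation (x - algebraMap K₁ L (algebraMap D' K₁ d)) < 1) := by
  classical
  have hinjD : Function.Injective (algebraMap D' K₁) := IsFractionRing.injective D' K₁
  have hinjK : Function.Injective (algebraMap K₁ L) := (algebraMap K₁ L).injective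
  have hπK : algebraMap D' K₁ π ≠ 0 := fun h => hπ.ne_zero (hinjD (by rw [h, map_zero]))
  have hπL : algebraMap K₁ L (algebraMap D' K₁ π) ≠ 0 := fun h => hπK (hinjK (by rw [h, map_zero]))
  have ht0 : t ≠ 0 := by
    intro h
    rw [h, zero_pow hn.ne'] at ht
    exact hπL ht.symm
  have hqn : V.valuation t ^ n = V.valuation (algebraMap K₁ L (algebraMap D' K₁ π)) := by
    rw [← map_pow, ht]
  have hq0 : V.valuation t ≠ 0 := (Valuation.ne_zero_iff _).mpr ht0
  have hq0' : 0 < V.valuation t := zero_lt_iff.mpr hq0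
  have hq1 : V.valuation t < 1 := by
    by_contra h
    push_neg at h
    have h1 : 1 ≤ V.valuation t ^ n := one_le_pow₀ h
    rw [hqn] at h1
    exact absurd hdom (not_lt.mpr h1)
  -- units have valuation one
  have hunit : ∀ u : D'ˣ, V.valuation (algebraMap K₁ L (algebraMap D' K₁ (u : D'))) = 1 := by
    intro u
    have h1 := (V.valuation_le_one_iff _).mpr (hV (u : D'))
    have h2 := (V.valuation_le_one_iff _).mpr (hV ((u⁻¹ : D'ˣ) : D'))
    have h3 : V.valuation (algebraMap K₁ L (algebraMap D' K₁ (u : D'))) *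
        V.valuation (algebraMap K₁ L (algebraMap D' K₁ ((u⁻¹ : D'ˣ) : D'))) = 1 := by
      rw [← map_mul, ← map_mul, ← map_mul, Units.mul_inv, map_one, map_one, map_one]
    refine le_antisymm h1 ?_
    calc (1 : _) = V.valuation (algebraMap K₁ L (algebraMap D' K₁ (u : D'))) *
        V.valuation (algebraMap K₁ L (algebraMap D' K₁ ((u⁻¹ : D'ˣ) : D'))) := h3.symm
      _ ≤ V.valuation (algebraMap K₁ L (algebraMap D' K₁ (u : D'))) * 1 := by gcongr
      _ = _ := mul_one _
  -- valuation on `K₁`
  have hvK : ∀ a : K₁, a ≠ 0 → ∃ m : ℤ, V.valuation (algebraMap K₁ L a) = V.valuation t ^ (n * m) ∧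
      (m = 0 → ∃ d : D', algebraMap D' K₁ d = a) := by
    intro a ha
    obtain ⟨m, u, rfl⟩ := IsDiscreteValuationRing.exists_units_eq_smul_zpow_of_irreducible
      (K := K₁) hπ ha
    refine ⟨m, ?_, ?_⟩
    · rw [Units.smul_def, Algebra.smul_def, map_mul, map_mul, hunit, one_mul, map_zpow₀, map_zpow₀,
        ← hqn, ← zpow_natCast, ← zpow_mul]
    · intro hm
      refine ⟨(u : D'), ?_⟩
      rw [hm, zpow_zero, Units.smul_def, Algebra.smul_def, mul_one]
  -- representation of elements of `L`
  have hrep : ∀ x : L, ∃ c : ℕ → K₁, x = ∑ j ∈ Finset.range n, algebraMap K₁ L (c j) * t ^ j := by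
    intro x
    obtain ⟨p, rfl⟩ := hgen x
    let P : K₁[X] := X ^ n - C (algebraMap D' K₁ π)
    have hPm : P.Monic := monic_X_pow_sub_C _ hn.ne'
    have hPdeg : P.natDegree = n := natDegree_X_pow_sub_C
    have hPt : aeval t P = 0 := by
      simp only [P, map_sub, map_pow, aeval_X, aeval_C]
      rw [ht, sub_self]
    have hmod : aeval t p = aeval t (p %ₘ P) := by
      conv_lhs => rw [← modByMonic_add_div p P]
      rw [map_add, map_mul, hPt, zero_mul, add_zero]
    have hdeg : (p %ₘ P).natDegree < n := by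
      rw [← hPdeg]
      exact natDegree_modByMonic_lt p hPm (by intro h1; rw [h1, natDegree_one] at hPdeg; exact hn.ne' hPdeg.symm)
    refine ⟨fun j => (p %ₘ P).coeff j, ?_⟩
    rw [hmod, aeval_eq_sum_range' hdeg]
    refine Finset.sum_congr rfl fun j _ => ?_
    rw [Algebra.smul_def]
  -- main analysis
  have hmain : ∀ x : L, x ≠ 0 → ∃ (k : ℤ), V.valuation x = V.valuation t ^ k ∧
      (k = 0 → ∃ d : D', V.valuation (x - algebraMap K₁ L (algebraMap D' K₁ d)) < 1) := by
    intro x hx
    obtain ⟨c, hc⟩ := hrep x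
    let J := (Finset.range n).filter (fun j => c j ≠ 0)
    have hJne : J.Nonempty := by
      by_contra hJ
      rw [Finset.not_nonempty_iff_eq_empty] at hJ
      apply hx
      rw [hc]
      refine Finset.sum_eq_zero fun j hj => ?_
      have : c j = 0 := by
        by_contra hcj
        have : j ∈ J := Finset.mem_filter.mpr ⟨hj, hcj⟩
        rw [hJ] at this
        exact absurd this (Finset.notMem_empty j)
      rw [this, map_zero, zero_mul]
    choose! m hm using hvK
    let k : ℕ → ℤ := fun j => n * m (c j) + j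
    have hterm : ∀ j ∈ J, V.valuation (algebraMap K₁ L (c j) * t ^ j) = V.valuation t ^ (k j) := by
      intro j hj
      have hcj : c j ≠ 0 := (Finset.mem_filter.mp hj).2
      rw [map_mul, map_pow, (hm (c j) hcj).1, zpow_add₀ hq0, zpow_natCast]
    obtain ⟨j₀, hj₀, hmin⟩ := Finset.exists_min_image J k hJne
    have hj₀n : j₀ < n := Finset.mem_range.mp (Finset.mem_filter.mp hj₀).1
    have hlt : ∀ j ∈ Finset.range n \ {j₀}, V.valuation (algebraMap K₁ L (c j) * t ^ j) <
        V.valuation (algebraMap K₁ L (c j₀) * t ^ j₀) := by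
      intro j hj
      rw [Finset.mem_sdiff, Finset.mem_singleton] at hj
      obtain ⟨hjn, hjne⟩ := hj
      rw [hterm j₀ hj₀]
      by_cases hcj : c j = 0
      · rw [hcj, map_zero, zero_mul, map_zero]
        exact zero_lt_iff.mpr (zpow_ne_zero _ hq0)
      · have hjJ : j ∈ J := Finset.mem_filter.mpr ⟨hjn, hcj⟩
        rw [hterm j hjJ]
        apply zpow_lt_zpow_right_of_lt_one₀ hq0' hq1
        refine lt_of_le_of_ne (hmin j hjJ) ?_
        intro hk
        apply hjne
        have hjn' : j < n := Finset.mem_range.mp hjn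
        have h1 : ((k j₀) % (n : ℤ)) = ((k j) % (n : ℤ)) := by rw [hk]
        simp only [k] at h1
        rw [add_comm, Int.add_mul_emod_self_left, add_comm, Int.add_mul_emod_self_left] at h1
        have h2 : ((j₀ : ℤ) % (n : ℤ)) = j₀ := Int.emod_eq_of_lt (by positivity) (by exact_mod_cast hj₀n)
        have h3 : ((j : ℤ) % (n : ℤ)) = j := Int.emod_eq_of_lt (by positivity) (by exact_mod_cast hjn')
        rw [h2, h3] at h1
        exact_mod_cast h1.symm
    have hvx : V.valuation x = V.valuation t ^ (k j₀) := by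
      rw [hc, Valuation.map_sum_eq_of_lt _ (Finset.mem_range.mpr hj₀n) hlt, hterm j₀ hj₀]
    refine ⟨k j₀, hvx, ?_⟩
    intro hk0
    -- `k j₀ = 0` forces `j₀ = 0` and `m = 0`
    have hcj₀ : c j₀ ≠ 0 := (Finset.mem_filter.mp hj₀).2
    have hj₀0 : j₀ = 0 := by
      have h1 : ((k j₀) % (n : ℤ)) = 0 := by rw [hk0]; simp
      simp only [k] at h1
      rw [add_comm, Int.add_mul_emod_self_left] at h1
      have h2 : ((j₀ : ℤ) % (n : ℤ)) = j₀ := Int.emod_eq_of_lt (by positivity) (by exact_mod_cast hj₀n)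
      rw [h2] at h1
      exact_mod_cast h1
    have hm0 : m (c j₀) = 0 := by
      have h1 : (n : ℤ) * m (c j₀) + (j₀ : ℤ) = 0 := hk0
      rw [hj₀0] at h1
      simp only [Nat.cast_zero, add_zero] at h1
      rcases mul_eq_zero.mp h1 with h | h
      · exact absurd (by exact_mod_cast h) hn.ne'
      · rw [hj₀0]; exact h
    obtain ⟨d, hd⟩ := (hm (c j₀) hcj₀).2 hm0
    refine ⟨d, ?_⟩
    have hsplit : x - algebraMap K₁ L (algebraMap D' K₁ d) =
        ∑ j ∈ Finset.range n \ {j₀}, algebraMap K₁ L (c j) * t ^ j := by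
      rw [hc, Finset.sum_eq_add_sum_sdiff_singleton_of_mem (Finset.mem_range.mpr hj₀n), hd, hj₀0,
        pow_zero, mul_one, add_sub_cancel_left]
    rw [hsplit]
    have h1 : V.valuation (algebraMap K₁ L (c j₀) * t ^ j₀) = 1 := by
      rw [hterm j₀ hj₀, hk0, zpow_zero]
    rw [← h1]
    exact Valuation.map_sum_lt _ (by rw [h1]; exact one_ne_zero) hlt
  refine ⟨?_, ?_⟩
  · intro x hx1
    by_cases hx : x = 0
    · rw [hx, map_zero]; exact zero_le'
    obtain ⟨k, hk, -⟩ := hmain x hx
    rw [hk] at hx1 ⊢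
    have hkpos : 0 < k := by
      by_contra hk0
      push_neg at hk0
      have : (1 : _) ≤ V.valuation t ^ k := one_le_zpow_of_nonpos₀ hq0' hq1.le hk0
      exact absurd hx1 (not_lt.mpr this)
    calc V.valuation t ^ k ≤ V.valuation t ^ (1 : ℤ) :=
          zpow_le_zpow_right_of_le_one₀ hq0' hq1.le hkpos
      _ = V.valuation t := zpow_one _
  · intro x hxV
    by_cases hx : x = 0
    · refine ⟨0, ?_⟩
      rw [hx, map_zero, map_zero, sub_zero, map_zero]
      exact zero_lt_one
    obtain ⟨k, hk, hk0⟩ := hmain x hx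
    have hle : V.valuation x ≤ 1 := (V.valuation_le_one_iff x).mpr hxV
    rcases lt_or_eq_of_le hle with hlt | heq
    · refine ⟨0, ?_⟩
      rw [map_zero, map_zero, sub_zero]
      exact hlt
    · apply hk0
      rw [hk] at heq
      by_contra hkne
      rcases lt_or_gt_of_ne hkne with hneg | hpos
      · have := one_lt_zpow_of_neg₀ hq0' hq1 hneg
        rw [heq] at this
        exact lt_irrefl _ this
      · have := zpow_lt_one₀ hq0' hq1 hpos
        rw [heq] at this
        exact lt_irrefl _ this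

end Groth.Agent.Helper27.Ur
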