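import Mathlib
import Groth.Prelude.Def_EtRam
import Groth.Agent.Lib.Helper27.UrB
import Groth.Agent.Lib.Helper27.UrI

/-! Tameness of towers "finite unramified, then `n`-th root of the uniformizer". -/

set_option autoImplicit false

namespace Groth.Agent.Helper27.Ur

open IsLocalRing

universe u

/-- In the situation of `unramified_of_dominates` the valuation ring is a DVR, weakly unramified
with separable residue field extension. -/
theorem dvr_of_dominates
    (B : Type u) [CommRing B] [IsDomain B] [IsDiscreteValuationRing B]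
    (S : Type u) [CommRing S] [IsDomain S] [Algebra B S] [Algebra.EssFiniteType B S]
    [Algebra.FormallyUnramified B S]
    (F : Type u) [Field F] [Algebra S F] [IsFractionRing S F]
    (hinj : Function.Injective (algebraMap B S))
    (V : ValuationSubring F) (hSV : ∀ s : S, algebraMap S F s ∈ V)
    (hdom : ∀ b ∈ maximalIdeal B, V.valuation (algebraMap S F (algebraMap B S b)) < 1)
    [Algebra B V]
    (hBV : ∀ b : B, ((algebraMap B V b : V) : F) = algebraMap S F (algebraMap B S b))
    [IsLocalHom (algebraMap B V)] :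
    IsDiscreteValuationRing V ∧ EtRam.IsWeaklyUnramified B V ∧
      Algebra.IsSeparable (ResidueField B) (ResidueField V) := by
  obtain ⟨h1, h2⟩ := unramified_of_dominates B S F V hSV hdom hBV
  have hwu : (maximalIdeal B).map (algebraMap B V) = maximalIdeal V :=
    Algebra.FormallyUnramified.map_maximalIdeal
  refine ⟨?_, hwu, inferInstance⟩
  haveI : IsNoetherianRing V := Algebra.EssFiniteType.isNoetherianRing B V
  have hnf : ¬ IsField V := by
    intro hf
    obtain ⟨π, hπ⟩ := IsDiscreteValuationRing.exists_irreducible B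
    have hπm : π ∈ maximalIdeal B := by
      rw [IsLocalRing.mem_maximalIdeal]
      exact hπ.not_isUnit
    have h3 : algebraMap B V π ∈ maximalIdeal V := by
      rw [← hwu]
      exact Ideal.mem_map_of_mem _ hπm
    have hbot : maximalIdeal V = ⊥ := IsLocalRing.isField_iff_maximalIdeal_eq.mp hf
    rw [hbot, Ideal.mem_bot] at h3
    have h4 : algebraMap S F (algebraMap B S π) = 0 := by
      rw [← hBV, h3]
      rfl
    have h5 : π = 0 := hinj ((IsFractionRing.injective S F) (by rw [h4, map_zero, map_zero]))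
    exact hπ.ne_zero h5
  have hval : ValuationRing V := inferInstance
  exact ((IsDiscreteValuationRing.TFAE V hnf).out 1 0).mp hval

theorem ramIdx_eq' {R S : Type*} [CommRing R] [IsLocalRing R] [CommRing S] [IsDomain S]
    [IsLocalRing S] [Algebra R S] (πR : R) (hπR : maximalIdeal R = Ideal.span {πR}) (πS : S)
    (hπS : maximalIdeal S = Ideal.span {πS}) (hπS0 : πS ≠ 0) (n : ℕ)
    (h : algebraMap R S πR = πS ^ n) :
    Ideal.ramificationIdx' (maximalIdeal R) (maximalIdeal S) = n := by
  have hnu : ¬ IsUnit πS := by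
    have h3 : πS ∈ maximalIdeal S := by rw [hπS]; exact Ideal.mem_span_singleton_self _
    exact (mem_maximalIdeal _).mp h3
  have hmap : Ideal.map (algebraMap R S) (maximalIdeal R) = (maximalIdeal S) ^ n := by
    rw [hπR, hπS, Ideal.map_span, Set.image_singleton, Ideal.span_singleton_pow, h]
  apply Ideal.ramificationIdx'_spec
  · rw [hmap]
  · rw [hmap, hπS, Ideal.span_singleton_pow, Ideal.span_singleton_pow,
      Ideal.span_singleton_le_span_singleton, pow_dvd_pow_iff hπS0 hnu]
    omega

/-- A subalgebra generated by roots of unit Kummer equations is finite and formally unramified. -/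
theorem adjoin_kummer_unramified
    (D : Type u) [CommRing D] {L : Type u} [Field L] [Algebra D L]
    (ι : Type) [Finite ι] (s : ι → L) (m : ι → ℕ) (hm : ∀ j, 0 < m j)
    (hmu : ∀ j, IsUnit ((m j : ℕ) : D)) (u : ι → Dˣ)
    (hs : ∀ j, s j ^ m j = algebraMap D L (u j)) :
    Module.Finite D (Algebra.adjoin D (Set.range s)) ∧
      Algebra.FormallyUnramified D (Algebra.adjoin D (Set.range s)) := by
  classical
  constructor
  · have hfg : (Algebra.adjoin D (Set.range s)).toSubmodule.FG := by
      apply fg_adjoin_of_finite (Set.finite_range s)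
      rintro _ ⟨j, rfl⟩
      refine ⟨Polynomial.X ^ m j - Polynomial.C ((u j : D)), Polynomial.monic_X_pow_sub_C _ (hm j).ne', ?_⟩
      rw [Polynomial.eval₂_sub, Polynomial.eval₂_pow, Polynomial.eval₂_X, Polynomial.eval₂_C, hs,
        sub_self]
    exact ⟨(Submodule.fg_top _).mpr hfg⟩
  · rw [Algebra.formallyUnramified_iff]
    set S' := Algebra.adjoin D (Set.range s) with hS'
    have hgenmem : ∀ j, s j ∈ S' := fun j => Algebra.subset_adjoin ⟨j, rfl⟩
    have hDgen : ∀ j, KaehlerDifferential.D D S' ⟨s j, hgenmem j⟩ = 0 := by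
      intro j
      set x : S' := ⟨s j, hgenmem j⟩ with hx
      have hxm : x ^ m j = algebraMap D S' (u j) := Subtype.ext (hs j)
      have h1 : KaehlerDifferential.D D S' (x ^ m j) = 0 := by
        rw [hxm]
        exact (KaehlerDifferential.D D S').map_algebraMap _
      rw [Derivation.leibniz_pow] at h1
      -- `m • x^(m-1)` is a unit
      have hxu : IsUnit x := by
        have : IsUnit (x ^ m j) := by
          rw [hxm]
          exact (u j).isUnit.map _
        exact (isUnit_pow_iff (hm j).ne').mp this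
      have hmu' : IsUnit ((m j : ℕ) : S') := by
        have := (hmu j).map (algebraMap D S')
        rwa [map_natCast] at this
      have h2 : ((m j : ℕ) : S') • (x ^ (m j - 1) • KaehlerDifferential.D D S' x) = 0 := by
        rw [← h1, Nat.cast_smul_eq_nsmul]
      rw [smul_smul] at h2
      have hu2 : IsUnit (((m j : ℕ) : S') * x ^ (m j - 1)) := hmu'.mul (hxu.pow _)
      exact (hu2.smul_eq_zero).mp h2
    have hDall : ∀ (y : L) (hy : y ∈ S'), KaehlerDifferential.D D S' ⟨y, hy⟩ = 0 := by
      intro y hy
      induction hy using Algebra.adjoin_induction with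
      | mem y hy =>
        obtain ⟨j, rfl⟩ := hy
        exact hDgen j
      | algebraMap r => exact (KaehlerDifferential.D D S').map_algebraMap r
      | add a b ha hb iha ihb =>
        have : (⟨a + b, add_mem ha hb⟩ : S') = ⟨a, ha⟩ + ⟨b, hb⟩ := rfl
        rw [this, map_add, iha, ihb, add_zero]
      | mul a b ha hb iha ihb =>
        have : (⟨a * b, mul_mem ha hb⟩ : S') = ⟨a, ha⟩ * ⟨b, hb⟩ := rfl
        rw [this, Derivation.leibniz, iha, ihb, smul_zero, smul_zero, add_zero]
    have hspan := KaehlerDifferential.span_range_derivation D S'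
    have hrange : Set.range (KaehlerDifferential.D D S') ⊆ {0} := by
      rintro _ ⟨⟨y, hy⟩, rfl⟩
      exact hDall y hy
    have hbot : (⊤ : Submodule S' (Ω[S'⁄D])) = ⊥ := by
      rw [← hspan, eq_bot_iff]
      exact (Submodule.span_mono hrange).trans (by rw [Submodule.span_singleton_eq_bot.mpr rfl])
    exact (Submodule.subsingleton_iff S').mp (subsingleton_of_bot_eq_top hbot.symm)

theorem tame_of_kummer_tower
    (D : Type u) [CommRing D] [IsDomain D] [IsDiscreteValuationRing D]
    {L : Type u} [Field L] (g : D →+* L) (hginj : Function.Injective g)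
    (π : D) (hπ : Irreducible π) (n : ℕ) (hn : 0 < n) (hnu : IsUnit ((n : ℕ) : D))
    (t : L) (ht : t ^ n = g π)
    (ι : Type) [Finite ι] (s : ι → L) (m : ι → ℕ) (hm : ∀ j, 0 < m j)
    (hmu : ∀ j, IsUnit ((m j : ℕ) : D)) (u : ι → Dˣ) (hs : ∀ j, s j ^ m j = g (u j))
    (hgen : Subfield.closure (Set.range g ∪ Set.range s ∪ {t}) = ⊤) :
    EtRam.IsTamelyRamified D g := by
  classical
  letI : Algebra D L := g.toAlgebra
  obtain ⟨hfin, hun⟩ := adjoin_kummer_unramified D ι s m hm hmu u hs
  let S' := Algebra.adjoin D (Set.range s)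
  haveI : Module.Finite D S' := hfin
  haveI : Algebra.FormallyUnramified D S' := hun
  haveI : Algebra.IsIntegral D S' := inferInstance
  haveI : Algebra.EssFiniteType D S' := inferInstance
  let K₁ := FractionRing S'
  have hinjS'L : Function.Injective (algebraMap S' L) := Subtype.val_injective
  letI : Algebra K₁ L := (IsFractionRing.lift hinjS'L).toAlgebra
  haveI : IsScalarTower S' K₁ L := IsScalarTower.of_algebraMap_eq
    (fun x => (IsFractionRing.lift_algebraMap hinjS'L x).symm)
  have hinjDS : Function.Injective (algebraMap D S') :=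
    fun a b hab => hginj (congrArg Subtype.val hab)
  have hS'L : ∀ x : S', algebraMap K₁ L (algebraMap S' K₁ x) = (x : L) := fun x =>
    (IsScalarTower.algebraMap_apply S' K₁ L x).symm
  have hDL : ∀ d : D, algebraMap K₁ L (algebraMap S' K₁ (algebraMap D S' d)) = g d := fun d =>
    hS'L _
  intro V h
  letI : Algebra D V := (RingHom.codRestrict g V h.1).toAlgebra
  intro _
  let V₁ : ValuationSubring K₁ := V.comap (algebraMap K₁ L)
  have hmemV₁ : ∀ a : K₁, a ∈ V₁ ↔ algebraMap K₁ L a ∈ V := fun a => Iff.rfl
  -- `S' ⊆ V`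
  have hSV : ∀ x : S', (x : L) ∈ V := by
    intro x
    have hx : IsIntegral D x := Algebra.IsIntegral.isIntegral x
    have hx' : IsIntegral V (x : L) := by
      obtain ⟨p, hp, hpx⟩ := hx
      refine ⟨p.map (algebraMap D V), hp.map _, ?_⟩
      have hcomp : (algebraMap V L).comp (algebraMap D V) = (algebraMap S' L).comp (algebraMap D S') :=
        RingHom.ext fun _ => rfl
      have hxL : (x : L) = algebraMap S' L x := rfl
      rw [Polynomial.eval₂_map, hcomp, hxL, ← Polynomial.hom_eval₂, hpx, map_zero]
    obtain ⟨v, hv⟩ := IsIntegrallyClosed.algebraMap_eq_of_integral (R := V) (K := L) hx'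
    rw [← hv]
    exact v.2
  have hSV₁ : ∀ x : S', algebraMap S' K₁ x ∈ V₁ := fun x => by
    rw [hmemV₁, hS'L]; exact hSV x
  have hvalV₁ : ∀ a : K₁, V₁.valuation a < 1 ↔ V.valuation (algebraMap K₁ L a) < 1 := by
    intro a
    constructor
    · intro ha
      have h1 : a ∈ V₁ := (V₁.valuation_le_one_iff a).mp ha.le
      have h2 : (⟨a, h1⟩ : V₁) ∈ maximalIdeal V₁ := (V₁.valuation_lt_one_iff ⟨a, h1⟩).mpr ha
      have h3 : EtRam.inclOfComap V (algebraMap K₁ L) ⟨a, h1⟩ ∈ maximalIdeal V := by
        rw [IsLocalRing.mem_maximalIdeal] at h2 ⊢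
        intro hu
        exact h2 (isUnit_of_map_unit (EtRam.inclOfComap V (algebraMap K₁ L)) _ hu)
      exact (V.valuation_lt_one_iff _).mp h3
    · intro ha
      have h1 : a ∈ V₁ := (V.valuation_le_one_iff _).mp ha.le
      have h3 : EtRam.inclOfComap V (algebraMap K₁ L) ⟨a, h1⟩ ∈ maximalIdeal V :=
        (V.valuation_lt_one_iff _).mpr ha
      have h2 : (⟨a, h1⟩ : V₁) ∈ maximalIdeal V₁ := by
        rw [IsLocalRing.mem_maximalIdeal] at h3 ⊢
        intro hu
        exact h3 (hu.map _)
      exact (V₁.valuation_lt_one_iff ⟨a, h1⟩).mp h2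
  have hdom₁ : ∀ b ∈ maximalIdeal D,
      V₁.valuation (algebraMap S' K₁ (algebraMap D S' b)) < 1 := by
    intro b hb
    rw [hvalV₁, hDL]
    exact h.2 b hb
  letI : Algebra D V₁ := (RingHom.codRestrict ((algebraMap S' K₁).comp (algebraMap D S')) V₁
    (fun d => hSV₁ _)).toAlgebra
  haveI : IsLocalHom (algebraMap D V₁) := by
    constructor
    intro a ha
    by_contra hna
    have ham : a ∈ maximalIdeal D := (IsLocalRing.mem_maximalIdeal a).mpr hna
    have h1 := hdom₁ a ham
    have h2 : algebraMap D V₁ a ∈ maximalIdeal V₁ := (V₁.valuation_lt_one_iff _).mpr h1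
    exact (IsLocalRing.mem_maximalIdeal _).mp h2 ha
  obtain ⟨hdvr, hwu, hsep⟩ := dvr_of_dominates D S' K₁ hinjDS V₁ hSV₁ hdom₁ (fun _ => rfl)
  haveI := hdvr
  have hπD : maximalIdeal D = Ideal.span {π} := (IsDiscreteValuationRing.irreducible_iff_uniformizer π).mp hπ
  have hπ' : Irreducible (algebraMap D V₁ π) := by
    rw [IsDiscreteValuationRing.irreducible_iff_uniformizer]
    have h1 : (maximalIdeal D).map (algebraMap D V₁) = maximalIdeal V₁ := hwu
    rw [← h1, hπD, Ideal.map_span, Set.image_singleton]
  have htπ : t ^ n = algebraMap K₁ L (algebraMap V₁ K₁ (algebraMap D V₁ π)) := by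
    rw [ht]
    exact (hDL π).symm
  -- `L = K₁[t]`
  have hgen' : ∀ x : L, ∃ p : Polynomial K₁, Polynomial.aeval t p = x := by
    have htint : IsIntegral K₁ t := by
      refine ⟨Polynomial.X ^ n - Polynomial.C (algebraMap S' K₁ (algebraMap D S' π)),
        Polynomial.monic_X_pow_sub_C _ hn.ne', ?_⟩
      rw [Polynomial.eval₂_sub, Polynomial.eval₂_pow, Polynomial.eval₂_X, Polynomial.eval₂_C, hDL, ht,
        sub_self]
    have htop : (IntermediateField.adjoin K₁ {t}).toSubfield = ⊤ := by
      rw [eq_top_iff, ← hgen, Subfield.closure_le]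
      rintro x ((⟨d, rfl⟩ | ⟨j, rfl⟩) | hx)
      · rw [← hDL d]
        exact (IntermediateField.adjoin K₁ {t}).algebraMap_mem _
      · have hsj : s j ∈ S' := Algebra.subset_adjoin ⟨j, rfl⟩
        have : s j = algebraMap K₁ L (algebraMap S' K₁ ⟨s j, hsj⟩) :=
          (hS'L ⟨s j, hsj⟩).symm
        rw [this]
        exact (IntermediateField.adjoin K₁ {t}).algebraMap_mem _
      · rw [Set.mem_singleton_iff] at hx
        rw [hx]
        exact IntermediateField.mem_adjoin_simple_self K₁ t
    intro x
    have hx : x ∈ (IntermediateField.adjoin K₁ {t}).toSubfield := by rw [htop]; trivial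
    have hx' : x ∈ (IntermediateField.adjoin K₁ {t}).toSubalgebra := hx
    rw [IntermediateField.adjoin_simple_toSubalgebra_of_isAlgebraic htint.isAlgebraic,
      Algebra.adjoin_singleton_eq_range_aeval] at hx'
    obtain ⟨p, hp⟩ := hx'
    exact ⟨p, hp⟩
  obtain ⟨hK1, hK2⟩ := kummer_step V₁ K₁ L (algebraMap D V₁ π) hπ' n hn t htπ hgen' V
    (fun d => d.2) (by
      have := h.2 π (by rw [hπD]; exact Ideal.mem_span_singleton_self π)
      rw [← hDL π] at this
      exact this)
  have ht0 : t ≠ 0 := by
    intro h0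
    rw [h0, zero_pow hn.ne'] at ht
    exact hπ.ne_zero (hginj (by rw [← ht, map_zero]))
  have hvt : V.valuation t < 1 := by
    by_contra hge
    rw [not_lt] at hge
    have h1 : 1 ≤ V.valuation t ^ n := one_le_pow₀ hge
    rw [← map_pow, ht] at h1
    exact absurd (h.2 π (by rw [hπD]; exact Ideal.mem_span_singleton_self π)) (not_lt.mpr h1)
  have htV : t ∈ V := (V.valuation_le_one_iff t).mp hvt.le
  have hmV : maximalIdeal V = Ideal.span {(⟨t, htV⟩ : V)} := by
    apply le_antisymm
    · intro x hx
      have hx1 : V.valuation (x : L) < 1 := (V.valuation_lt_one_iff x).mp hx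
      have hx2 := hK1 (x : L) hx1
      have hdiv : V.valuation ((x : L) / t) ≤ 1 := by
        rw [map_div₀]
        exact div_le_one_of_le₀ hx2 zero_le'
      have hmem : (x : L) / t ∈ V := (V.valuation_le_one_iff _).mp hdiv
      rw [Ideal.mem_span_singleton]
      refine ⟨⟨(x : L) / t, hmem⟩, Subtype.ext ?_⟩
      show (x : L) = t * ((x : L) / t)
      rw [mul_div_cancel₀ _ ht0]
    · rw [Ideal.span_singleton_le_iff_mem]
      exact (V.valuation_lt_one_iff _).mpr hvt
  have hidx : Ideal.ramificationIdx' (maximalIdeal D) (maximalIdeal V) = n :=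
    ramIdx_eq' π hπD (⟨t, htV⟩ : V) hmV (fun h0 => ht0 (congrArg Subtype.val h0)) n
      (Subtype.ext ht.symm)
  refine ⟨?_, ?_⟩
  · letI : Algebra V₁ V := (EtRam.inclOfComap V (algebraMap K₁ L)).toAlgebra
    haveI : IsLocalHom (algebraMap V₁ V) := EtRam.isLocalHom_inclOfComap V _
    haveI : IsScalarTower D V₁ V :=
      IsScalarTower.of_algebraMap_eq (fun d => Subtype.ext (hDL d).symm)
    have hsurj : Function.Surjective (algebraMap (ResidueField V₁) (ResidueField V)) := by
      intro y
      obtain ⟨x, rfl⟩ := IsLocalRing.residue_surjective y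
      obtain ⟨d, hd⟩ := hK2 (x : L) x.2
      refine ⟨IsLocalRing.residue V₁ d, ?_⟩
      rw [IsLocalRing.ResidueField.algebraMap_residue]
      symm
      rw [← sub_eq_zero, ← map_sub, IsLocalRing.residue_eq_zero_iff]
      exact (V.valuation_lt_one_iff _).mpr hd
    haveI : Algebra.IsSeparable (ResidueField V₁) (ResidueField V) :=
      ⟨fun y => by obtain ⟨z, rfl⟩ := hsurj y; exact isSeparable_algebraMap z⟩
    haveI := hsep
    exact Algebra.IsSeparable.trans (ResidueField D) (ResidueField V₁) (ResidueField V)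
  · intro p hp hpc
    rw [hidx]
    intro hdvd
    have h1 : ((n : ℕ) : ResidueField D) = 0 := (CharP.cast_eq_zero_iff _ p n).mpr hdvd
    have h2 : IsUnit ((n : ℕ) : ResidueField D) := by
      have := hnu.map (IsLocalRing.residue D)
      rwa [map_natCast] at this
    rw [h1] at h2
    exact not_isUnit_zero h2

end Groth.Agent.Helper27.Ur
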