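import Mathlib
import Groth.Prelude.Def_EtRam
import Groth.Prelude.Def_SGA1
import Groth.Agent.Lib.Helper27.UrJ

/-! Kummer algebras are tamely ramified along the `f_i`. -/

set_option autoImplicit false

namespace Groth.Agent.Helper27.Ur

open IsLocalRing

universe u

theorem main2924 (A : Type u) [CommRing A] [IsRegularLocalRing A] [IsDomain A] (r : ℕ) (f : Fin r → A)
    (hm : ∀ i, f i ∈ maximalIdeal A)
    (hf : LinearIndependent (ResidueField A) (fun i => (maximalIdeal A).toCotangent ⟨f i, hm i⟩))
    [∀ i, (Ideal.span {f i}).IsPrime] (n : Fin r → ℕ) (hn : ∀ i, 1 ≤ n i)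
    (hu : ∀ i, IsUnit ((n i : ℕ) : ResidueField A)) :
    SGA1.IsTameAlong f (algebraMap A (SGA1.kummerAlg A f n)) := by
  classical
  intro i q _ hq
  -- notation
  let P : Ideal A := Ideal.span {f i}
  let D := Localization.AtPrime P
  let C := SGA1.kummerAlg A f n
  let φ : A →+* C := algebraMap A C
  let g : D →+* q.ResidueField := SGA1.genericResidueMap φ P q hq
  have hg : ∀ a : A, g (algebraMap A D a) = algebraMap C q.ResidueField (φ a) := fun a =>
    IsLocalization.lift_eq _ a
  -- `f i ≠ 0`
  have hfi0 : f i ≠ 0 := by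
    intro h0
    apply hf.ne_zero i
    show (maximalIdeal A).toCotangent ⟨f i, hm i⟩ = 0
    have : (⟨f i, hm i⟩ : maximalIdeal A) = 0 := Subtype.ext h0
    rw [this, map_zero]
  -- `D` is a DVR with uniformizer `f i`
  have hinjAD : Function.Injective (algebraMap A D) :=
    IsLocalization.injective D P.primeCompl_le_nonZeroDivisors
  have hmD : maximalIdeal D = Ideal.span {algebraMap A D (f i)} := by
    rw [← Localization.AtPrime.map_eq_maximalIdeal, Ideal.map_span, Set.image_singleton]
  haveI : IsDiscreteValuationRing D := by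
    have hnf : ¬ IsField D := by
      intro hfld
      have hbot : maximalIdeal D = ⊥ := IsLocalRing.isField_iff_maximalIdeal_eq.mp hfld
      rw [hmD, Ideal.span_singleton_eq_bot] at hbot
      exact hfi0 (hinjAD (by rw [hbot, map_zero]))
    have hprinc : (maximalIdeal D).IsPrincipal := ⟨⟨algebraMap A D (f i), hmD⟩⟩
    exact ((IsDiscreteValuationRing.TFAE D hnf).out 4 0).mp hprinc
  have hπ : Irreducible (algebraMap A D (f i)) :=
    (IsDiscreteValuationRing.irreducible_iff_uniformizer _).mpr hmD
  -- `g` is injective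
  have hginj : Function.Injective g := by
    rw [injective_iff_map_eq_zero]
    intro x hx
    obtain ⟨a, s, rfl⟩ := IsLocalization.exists_mk'_eq P.primeCompl x
    have h1 : g (IsLocalization.mk' D a s) * g (algebraMap A D s) = g (algebraMap A D a) := by
      rw [← map_mul, IsLocalization.mk'_spec]
    rw [hx, zero_mul, hg] at h1
    have h2 : φ a ∈ q := by
      rw [← Ideal.ker_algebraMap_residueField q, RingHom.mem_ker]
      exact h1.symm
    have h3 : a ∈ Ideal.comap φ q := h2
    rw [hq, Ideal.mem_bot] at h3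
    rw [h3, IsLocalization.mk'_zero]
  -- the `n j` are units of `D`
  have hnD : ∀ j, IsUnit ((n j : ℕ) : D) := by
    intro j
    have h1 : IsUnit ((n j : ℕ) : A) := by
      have h2 := hu j
      rw [← map_natCast (IsLocalRing.residue A)] at h2
      exact (isUnit_map_iff (IsLocalRing.residue A) _).mp h2
    have h3 := h1.map (algebraMap A D)
    rwa [map_natCast] at h3
  -- `f j ∉ P` for `j ≠ i`
  have hfj : ∀ j, j ≠ i → f j ∉ P := by
    intro j hji hmem
    obtain ⟨a, ha⟩ := Ideal.mem_span_singleton'.mp hmem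
    have h1 : (⟨f j, hm j⟩ : maximalIdeal A) = a • ⟨f i, hm i⟩ := Subtype.ext ha.symm
    have h2 : (maximalIdeal A).toCotangent ⟨f j, hm j⟩ =
        (IsLocalRing.residue A a) • (maximalIdeal A).toCotangent ⟨f i, hm i⟩ := by
      rw [h1, map_smul]
      rfl
    have h3 := hf.notMem_span_image (s := {i}) (x := j) (by simpa using hji)
    apply h3
    rw [Set.image_singleton]
    show (maximalIdeal A).toCotangent ⟨f j, hm j⟩ ∈ _
    rw [h2]
    exact Submodule.smul_mem _ _ (Submodule.mem_span_singleton_self _)
  -- the roots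
  let T : Fin r → q.ResidueField := fun j =>
    algebraMap C q.ResidueField (Ideal.Quotient.mk _ (MvPolynomial.X j))
  have hT : ∀ j, T j ^ n j = g (algebraMap A D (f j)) := by
    intro j
    rw [hg]
    show (algebraMap C q.ResidueField (Ideal.Quotient.mk _ (MvPolynomial.X j))) ^ n j = _
    rw [← map_pow, ← map_pow]
    congr 1
    rw [← sub_eq_zero]
    show _ - Ideal.Quotient.mk _ (MvPolynomial.C (f j)) = 0
    rw [← map_sub, Ideal.Quotient.eq_zero_iff_mem]
    exact Ideal.subset_span ⟨j, rfl⟩
  let ι := {j : Fin r // j ≠ i}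
  have hunitf : ∀ j : ι, IsUnit (algebraMap A D (f j.1)) := fun j =>
    IsLocalization.map_units D (⟨f j.1, hfj j.1 j.2⟩ : P.primeCompl)
  -- generation
  have hgen : Subfield.closure (Set.range g ∪ Set.range (fun j : ι => T j.1) ∪ {T i}) = ⊤ := by
    set F := Subfield.closure (Set.range g ∪ Set.range (fun j : ι => T j.1) ∪ {T i}) with hF
    have hTmem : ∀ j, T j ∈ F := by
      intro j
      by_cases hji : j = i
      · rw [hji]
        exact Subfield.subset_closure (Or.inr rfl)
      · exact Subfield.subset_closure (Or.inl (Or.inr ⟨⟨j, hji⟩, rfl⟩))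
    have hgmem : ∀ d : D, g d ∈ F := fun d => Subfield.subset_closure (Or.inl (Or.inl ⟨d, rfl⟩))
    have hpoly : ∀ p : MvPolynomial (Fin r) A,
        algebraMap C q.ResidueField (Ideal.Quotient.mk _ p) ∈ F := by
      intro p
      induction p using MvPolynomial.induction_on with
      | C a =>
        have : algebraMap C q.ResidueField (Ideal.Quotient.mk _ (MvPolynomial.C a)) =
            g (algebraMap A D a) := (hg a).symm
        rw [this]
        exact hgmem _
      | add p₁ p₂ h₁ h₂ =>
        rw [map_add, map_add]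
        exact F.add_mem h₁ h₂
      | mul_X p₁ j h₁ =>
        rw [map_mul, map_mul]
        exact F.mul_mem h₁ (hTmem j)
    rw [eq_top_iff]
    intro x _
    obtain ⟨a, b, _, rfl⟩ := IsFractionRing.div_surjective (A := C ⧸ q) x
    obtain ⟨a, rfl⟩ := Ideal.Quotient.mk_surjective a
    obtain ⟨b, rfl⟩ := Ideal.Quotient.mk_surjective b
    obtain ⟨a, rfl⟩ := Ideal.Quotient.mk_surjective a
    obtain ⟨b, rfl⟩ := Ideal.Quotient.mk_surjective b
    rw [Ideal.algebraMap_quotient_residueField_mk, Ideal.algebraMap_quotient_residueField_mk]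
    exact F.div_mem (hpoly a) (hpoly b)
  exact tame_of_kummer_tower D g hginj (algebraMap A D (f i)) hπ (n i) (hn i) (hnD i) (T i) (hT i)
    ι (fun j => T j.1) (fun j => n j.1) (fun j => hn j.1) (fun j => hnD j.1)
    (fun j => (hunitf j).unit) (fun j => by rw [IsUnit.unit_spec]; exact hT j.1) hgen

end Groth.Agent.Helper27.Ur
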