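import Mathlib

/-!
# Finite torsion-free modules over `V[x₁,…,xₙ]`, `V` a valuation ring (helper27), part A

Polynomial preliminaries:
* `exists_dvd_all`: in a valuation ring a finite set of elements has a common divisor which is
  one of them (or `0`).
* `exists_factor`: a vector of polynomials all of whose coefficients lie in an ideal `I` is `a • f'`
  with `a ∈ I`, without raising degrees.
* `exists_lift`: lift a polynomial along a surjective ring hom without raising the degree.
* `delta`, `hom`: dehomogenisation / homogenisation with respect to an extra variable `none`.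
* `homogeneousComponent_mul_of_isHomogeneous`.
-/

set_option autoImplicit false

open MvPolynomial Function

namespace Groth.Agent.Helper27.Vf

section Dvd

variable {V : Type*} [CommRing V] [IsDomain V] [ValuationRing V]

theorem exists_dvd_all (s : Finset V) : ∃ a : V, (a ∈ s ∨ a = 0) ∧ ∀ b ∈ s, a ∣ b := by
  classical
  induction s using Finset.induction_on with
  | empty => exact ⟨0, Or.inr rfl, by simp⟩
  | insert x s hx ih =>
    obtain ⟨a, ha, hdiv⟩ := ih
    rcases ValuationRing.dvd_total a x with h | h
    · rcases ha with ha | rfl
      · refine ⟨a, Or.inl (Finset.mem_insert_of_mem ha), ?_⟩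
        intro b hb
        rcases Finset.mem_insert.1 hb with rfl | hb
        · exact h
        · exact hdiv b hb
      · refine ⟨x, Or.inl (Finset.mem_insert_self _ _), ?_⟩
        intro b hb
        rcases Finset.mem_insert.1 hb with rfl | hb
        · exact dvd_rfl
        · have := hdiv b hb
          rw [zero_dvd_iff] at this
          rw [this]
          exact dvd_zero _
    · refine ⟨x, Or.inl (Finset.mem_insert_self _ _), ?_⟩
      intro b hb
      rcases Finset.mem_insert.1 hb with rfl | hb
      · exact dvd_rfl
      · exact h.trans (hdiv b hb)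

theorem exists_factor {n r : ℕ} (f : Fin r → MvPolynomial (Fin n) V) (I : Ideal V)
    (hf : ∀ j α, coeff α (f j) ∈ I) :
    ∃ (a : V) (f' : Fin r → MvPolynomial (Fin n) V), a ∈ I ∧ (∀ j, f j = C a * f' j) ∧
      ∀ j, (f' j).totalDegree ≤ (f j).totalDegree := by
  classical
  let s : Finset V := Finset.univ.biUnion fun j => (f j).support.image fun α => coeff α (f j)
  obtain ⟨a, ha, hdiv⟩ := exists_dvd_all s
  have haI : a ∈ I := by
    rcases ha with ha | rfl
    · obtain ⟨j, -, hj⟩ := Finset.mem_biUnion.1 ha
      obtain ⟨α, -, rfl⟩ := Finset.mem_image.1 hj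
      exact hf j α
    · exact I.zero_mem
  have hmem : ∀ j, ∀ α ∈ (f j).support, coeff α (f j) ∈ s := by
    intro j α hα
    exact Finset.mem_biUnion.2 ⟨j, Finset.mem_univ _, Finset.mem_image_of_mem _ hα⟩
  let q : V → V := fun b => if h : a ∣ b then Classical.choose h else 0
  have hq : ∀ b, a ∣ b → b = a * q b := by
    intro b hb
    simp only [q, dif_pos hb]
    exact Classical.choose_spec hb
  refine ⟨a, fun j => ∑ α ∈ (f j).support, monomial α (q (coeff α (f j))), haI, ?_, ?_⟩
  · intro j
    rw [Finset.mul_sum]
    conv_lhs => rw [(f j).as_sum]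
    refine Finset.sum_congr rfl ?_
    intro α hα
    rw [C_mul_monomial, ← hq _ (hdiv _ (hmem j α hα))]
  · intro j
    refine totalDegree_finsetSum_le ?_
    intro α hα
    exact (totalDegree_monomial_le _ _).trans (le_totalDegree hα)

theorem exists_lift {k : Type*} [CommRing k] {n : ℕ} (φ : V →+* k) (hφ : Surjective φ)
    (c : MvPolynomial (Fin n) k) :
    ∃ c' : MvPolynomial (Fin n) V, MvPolynomial.map φ c' = c ∧ c'.totalDegree ≤ c.totalDegree ∧
      (c = 0 → c' = 0) := by
  classical
  refine ⟨∑ α ∈ c.support, monomial α (Function.surjInv hφ (coeff α c)), ?_, ?_, ?_⟩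
  · rw [map_sum]
    conv_rhs => rw [c.as_sum]
    refine Finset.sum_congr rfl ?_
    intro α _
    rw [map_monomial, Function.surjInv_eq hφ]
  · refine totalDegree_finsetSum_le ?_
    intro α hα
    exact (totalDegree_monomial_le _ _).trans (le_totalDegree hα)
  · rintro rfl
    simp

end Dvd

theorem totalDegree_map_le' {R₁ R₂ : Type*} [CommSemiring R₁] [CommSemiring R₂] {σ : Type*}
    (φ : R₁ →+* R₂) (p : MvPolynomial σ R₁) : (MvPolynomial.map φ p).totalDegree ≤ p.totalDegree :=
  Finset.sup_mono (support_map_subset _ _)

section Hom

variable {k : Type*} [CommRing k] {σ : Type*}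

/-- dehomogenisation: `none ↦ 1`, `some i ↦ X i` -/
noncomputable def delta : MvPolynomial (Option σ) k →ₐ[k] MvPolynomial σ k :=
  aeval fun o => o.elim 1 X

@[simp] theorem delta_X_none : delta (k := k) (σ := σ) (X none) = 1 := by
  simp [delta]

@[simp] theorem delta_rename_some (p : MvPolynomial σ k) : delta (rename some p) = p := by
  rw [delta, aeval_rename]
  have : ((fun o : Option σ => o.elim (1 : MvPolynomial σ k) X) ∘ some) = X := rfl
  rw [this, aeval_X_left, AlgHom.id_apply]

/-- homogenisation in degree `d` -/
noncomputable def hom (d : ℕ) (p : MvPolynomial σ k) : MvPolynomial (Option σ) k :=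
  ∑ m ∈ Finset.range (d + 1), X none ^ (d - m) * rename some (homogeneousComponent m p)

theorem hom_isHomogeneous (d : ℕ) (p : MvPolynomial σ k) : (hom d p).IsHomogeneous d := by
  refine IsHomogeneous.sum _ _ _ ?_
  intro m hm
  have hm' : m ≤ d := Nat.lt_succ_iff.1 (Finset.mem_range.1 hm)
  have h := (isHomogeneous_X_pow (R := k) (none : Option σ) (d - m)).mul
    ((homogeneousComponent_isHomogeneous m p).rename_isHomogeneous (f := (some : σ → Option σ)))
  have e : d - m + m = d := Nat.sub_add_cancel hm'
  rwa [e] at h

theorem delta_hom {d : ℕ} {p : MvPolynomial σ k} (h : p.totalDegree ≤ d) :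
    delta (hom d p) = p := by
  rw [hom, map_sum]
  have h1 : ∀ m ∈ Finset.range (d + 1),
      delta (X none ^ (d - m) * rename some (homogeneousComponent m p)) =
        homogeneousComponent m p := by
    intro m _
    rw [map_mul, map_pow, delta_X_none, one_pow, one_mul, delta_rename_some]
  rw [Finset.sum_congr rfl h1]
  conv_rhs => rw [← sum_homogeneousComponent p]
  symm
  refine Finset.sum_subset ?_ ?_
  · intro m hm
    rw [Finset.mem_range] at hm ⊢
    omega
  · intro m _ hm
    rw [Finset.mem_range, not_lt] at hm
    exact homogeneousComponent_eq_zero _ _ (by omega)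

theorem totalDegree_delta_le [Nontrivial k] {m : ℕ} {q : MvPolynomial (Option σ) k}
    (hq : q.IsHomogeneous m) : (delta q).totalDegree ≤ m := by
  classical
  rw [q.as_sum, map_sum]
  refine totalDegree_finsetSum_le ?_
  intro α hα
  have hdeg : α.degree = m := by
    have := hq (mem_support_iff.1 hα)
    rw [Finsupp.degree_eq_weight_one]
    exact this
  rw [delta, aeval_monomial]
  refine (totalDegree_mul _ _).trans ?_
  rw [MvPolynomial.algebraMap_eq, totalDegree_C, zero_add, Finsupp.prod]
  refine (totalDegree_finsetProd _ _).trans ?_
  rw [← hdeg, Finsupp.degree_apply]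
  refine Finset.sum_le_sum ?_
  intro o _
  refine (totalDegree_pow _ _).trans ?_
  have h1 : ((o.elim (1 : MvPolynomial σ k) X)).totalDegree ≤ 1 := by
    cases o with
    | none => simp
    | some i => simp
  calc α o * (o.elim (1 : MvPolynomial σ k) X).totalDegree ≤ α o * 1 := Nat.mul_le_mul_left _ h1
    _ = α o := mul_one _

theorem homogeneousComponent_mul_of_isHomogeneous {τ : Type*} (e d' : ℕ)
    (a h : MvPolynomial τ k) (hh : h.IsHomogeneous d') :
    homogeneousComponent e (a * h) =
      if d' ≤ e then homogeneousComponent (e - d') a * h else 0 := by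
  classical
  conv_lhs => rw [← sum_homogeneousComponent a, Finset.sum_mul, map_sum]
  have h1 : ∀ m ∈ Finset.range (a.totalDegree + 1),
      homogeneousComponent e (homogeneousComponent m a * h) =
        if m + d' = e then homogeneousComponent m a * h else 0 := by
    intro m _
    have hm : (homogeneousComponent m a * h).IsHomogeneous (m + d') :=
      (homogeneousComponent_isHomogeneous m a).mul hh
    rw [homogeneousComponent_of_mem hm]
    by_cases hc : m + d' = e
    · rw [if_pos hc, if_pos hc.symm]
    · rw [if_neg hc, if_neg (fun h' => hc h'.symm)]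
  rw [Finset.sum_congr rfl h1]
  by_cases hd : d' ≤ e
  · rw [if_pos hd]
    have h2 : ∀ m ∈ Finset.range (a.totalDegree + 1),
        (if m + d' = e then homogeneousComponent m a * h else 0) =
          if m = e - d' then homogeneousComponent (e - d') a * h else 0 := by
      intro m _
      by_cases hc : m + d' = e
      · have : m = e - d' := by omega
        rw [if_pos hc, if_pos this, this]
      · have : ¬ m = e - d' := by omega
        rw [if_neg hc, if_neg this]
    rw [Finset.sum_congr rfl h2, Finset.sum_ite_eq']
    by_cases hr : e - d' ∈ Finset.range (a.totalDegree + 1)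
    · rw [if_pos hr]
    · rw [if_neg hr]
      rw [Finset.mem_range, not_lt] at hr
      rw [homogeneousComponent_eq_zero _ _ (by omega), zero_mul]
  · rw [if_neg hd]
    refine Finset.sum_eq_zero ?_
    intro m _
    rw [if_neg (by omega)]

end Hom

end Groth.Agent.Helper27.Vf
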