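import Mathlib
import Groth.Agent.Lib.Helper27.VfA

/-!
# Finite torsion-free modules over `V[x₁,…,xₙ]` (helper27), part B

`exists_finite_degree_control`: over a field `k`, a family `P d` of sets of vectors of polynomials
of degree `≤ d` admits finitely many members `u i ∈ P (d i)` such that every `v ∈ P e` is a
combination `∑ c i • u i` with `deg (c i) + d i ≤ e` (homogenise, use that `k[x₀,…,xₙ]^r` is
Noetherian, take homogeneous components, dehomogenise).
-/

set_option autoImplicit false

universe u

open MvPolynomial Function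

namespace Groth.Agent.Helper27.Vf

variable {k : Type u} [Field k] {n r : ℕ}

theorem exists_finite_degree_control (P : ℕ → Set (Fin r → MvPolynomial (Fin n) k))
    (hP : ∀ d, ∀ v ∈ P d, ∀ j, (v j).totalDegree ≤ d) :
    ∃ (ι : Type u) (_ : Fintype ι) (d : ι → ℕ) (w : ι → Fin r → MvPolynomial (Fin n) k),
      (∀ i, w i ∈ P (d i)) ∧
      ∀ e, ∀ v ∈ P e, ∃ c : ι → MvPolynomial (Fin n) k,
        (∀ i, (c i).totalDegree + d i ≤ e ∨ c i = 0) ∧ v = ∑ i, c i • w i := by
  classical
  let A := MvPolynomial (Option (Fin n)) k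
  let homv : ℕ → (Fin r → MvPolynomial (Fin n) k) → (Fin r → A) := fun d v j => hom d (v j)
  let Gen : Set (Fin r → A) := {x | ∃ d, ∃ v ∈ P d, x = homv d v}
  have hfg : (Submodule.span A Gen).FG := IsNoetherian.noetherian _
  obtain ⟨s', hs'sub, hs'⟩ := (Submodule.fg_span_iff_fg_span_finset_subset Gen).1 hfg
  have hch : ∀ x ∈ Gen, ∃ d, ∃ v ∈ P d, x = homv d v := fun x hx => hx
  choose! dd vv hvv hxe using hch
  refine ⟨↥s', inferInstance, fun i => dd i.1, fun i => vv i.1, fun i => hvv i.1 (hs'sub i.2), ?_⟩
  intro e v hv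
  have hmem : homv e v ∈ Submodule.span A (s' : Set (Fin r → A)) := by
    rw [← hs']
    exact Submodule.subset_span ⟨e, v, hv, rfl⟩
  obtain ⟨a, -, ha⟩ := Submodule.mem_span_finset.1 hmem
  let c : ↥s' → MvPolynomial (Fin n) k := fun i =>
    if dd i.1 ≤ e then delta (homogeneousComponent (e - dd i.1) (a i.1)) else 0
  refine ⟨c, ?_, ?_⟩
  · intro i
    by_cases h : dd i.1 ≤ e
    · left
      simp only [c, if_pos h]
      have := totalDegree_delta_le (homogeneousComponent_isHomogeneous (e - dd i.1) (a i.1))
      omega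
    · right
      simp only [c, if_neg h]
  · funext j
    have hj : hom e (v j) = ∑ x ∈ s', a x * x j := by
      have := congrFun ha j
      rw [Finset.sum_apply] at this
      simpa [homv, Pi.smul_apply, smul_eq_mul] using this.symm
    have h1 : hom e (v j) = homogeneousComponent e (hom e (v j)) :=
      (homogeneousComponent_eq_self (hom_isHomogeneous e (v j))).symm
    have hxj : ∀ x ∈ s', x j = hom (dd x) (vv x j) := by
      intro x hx
      have := hxe x (hs'sub hx)
      exact congrFun this j
    have h2 : v j = delta (homogeneousComponent e (∑ x ∈ s', a x * x j)) := by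
      rw [← hj, ← h1, delta_hom (hP e v hv j)]
    rw [h2, map_sum, map_sum, Finset.sum_apply, ← Finset.sum_coe_sort s']
    refine Finset.sum_congr rfl ?_
    intro i _
    rw [Pi.smul_apply, smul_eq_mul, hxj i.1 i.2,
      homogeneousComponent_mul_of_isHomogeneous e (dd i.1) (a i.1) _ (hom_isHomogeneous _ _)]
    by_cases h : dd i.1 ≤ e
    · simp only [c, if_pos h]
      rw [map_mul, delta_hom (hP _ _ (hvv i.1 (hs'sub i.2)) j)]
    · simp only [c, if_neg h, map_zero, zero_mul]

end Groth.Agent.Helper27.Vf
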