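import Mathlib
import Groth.Agent.Lib.Helper27.VfB

/-!
# Finite torsion-free modules over `V[x₁,…,xₙ]` (helper27), part C

`ker_fg_of_torsionFree`: for a valuation ring `V` (a domain), `S = V[x₁,…,xₙ]` and an `S`-linear map
`π : S^r → M` into a `V`-torsion-free module, `ker π` is finitely generated.
`finitePresentation_of_torsionFree`: a finite `V`-torsion-free `S`-module is finitely presented.
-/

set_option autoImplicit false

universe u

open MvPolynomial Function

namespace Groth.Agent.Helper27.Vf

variable {V : Type u} [CommRing V] [IsDomain V] [ValuationRing V] {n : ℕ}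
  {M : Type u} [AddCommGroup M] [Module (MvPolynomial (Fin n) V) M] [Module V M]
  [IsScalarTower V (MvPolynomial (Fin n) V) M]

section K4

variable {r : ℕ} (π : (Fin r → MvPolynomial (Fin n) V) →ₗ[MvPolynomial (Fin n) V] M)
  (htf : ∀ (a : V) (m : M), a • m = 0 → a = 0 ∨ m = 0)

/-- the `V`-submodule of elements of `ker π` of degree `≤ e` -/
def Ne (e : ℕ) : Submodule V (Fin r → MvPolynomial (Fin n) V) where
  carrier := {f | π f = 0 ∧ ∀ j, (f j).totalDegree ≤ e}
  add_mem' := by
    rintro f g ⟨hf, hf'⟩ ⟨hg, hg'⟩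
    refine ⟨by rw [map_add, hf, hg, add_zero], fun j => ?_⟩
    exact (totalDegree_add _ _).trans (max_le (hf' j) (hg' j))
  zero_mem' := ⟨map_zero _, fun j => by simp⟩
  smul_mem' := by
    rintro a f ⟨hf, hf'⟩
    refine ⟨?_, fun j => ?_⟩
    · rw [← algebraMap_smul (MvPolynomial (Fin n) V) a f, map_smul, hf, smul_zero]
    · exact (totalDegree_smul_le a (f j)).trans (hf' j)

theorem mem_Ne {e : ℕ} {f : Fin r → MvPolynomial (Fin n) V} :
    f ∈ Ne π e ↔ π f = 0 ∧ ∀ j, (f j).totalDegree ≤ e := Iff.rfl

include htf in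
theorem Ne_fg (e : ℕ) : (Ne π e).FG := by
  classical
  let restr := restrictTotalDegree (Fin n) V e
  let ιe : (Fin r → ↥restr) →ₗ[V] (Fin r → MvPolynomial (Fin n) V) :=
    LinearMap.compLeft restr.subtype (Fin r)
  let πV : (Fin r → MvPolynomial (Fin n) V) →ₗ[V] M := π.restrictScalars V
  let πe : (Fin r → ↥restr) →ₗ[V] M := πV ∘ₗ ιe
  let Fe : Submodule V M := LinearMap.range πe
  haveI : Module.Finite V Fe := Module.Finite.range πe
  haveI : Module.Flat V Fe := by
    rw [Module.Flat.flat_iff_torsion_eq_bot_of_isBezout, eq_bot_iff]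
    intro x hx
    obtain ⟨a, ha⟩ := (Submodule.mem_torsion_iff x).1 hx
    have h1 : (a : V) • (x : M) = 0 := by
      have := congrArg Subtype.val ha
      rw [Submonoid.smul_def] at this
      simpa using this
    rcases htf _ _ h1 with h | h
    · exact absurd h (nonZeroDivisors.coe_ne_zero a)
    · rw [Submodule.mem_bot]
      exact Subtype.ext h
  haveI : Module.Free V Fe := Module.free_of_flat_of_isLocalRing
  haveI : Module.FinitePresentation V Fe := Module.finitePresentation_of_projective V Fe
  have hker : (LinearMap.ker πe).FG := by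
    have := Module.FinitePresentation.fg_ker πe.rangeRestrict πe.surjective_rangeRestrict
    rwa [LinearMap.ker_rangeRestrict] at this
  have heq : Ne π e = Submodule.map ιe (LinearMap.ker πe) := by
    ext f
    rw [mem_Ne, Submodule.mem_map]
    constructor
    · rintro ⟨hf, hf'⟩
      refine ⟨fun j => ⟨f j, (mem_restrictTotalDegree _ _ _).2 (hf' j)⟩, ?_, rfl⟩
      rw [LinearMap.mem_ker]
      exact hf
    · rintro ⟨y, hy, rfl⟩
      refine ⟨hy, fun j => ?_⟩
      exact (mem_restrictTotalDegree _ _ _).1 (y j).2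
  rw [heq]
  exact hker.map ιe

end K4

theorem ker_fg_of_torsionFree {r : ℕ}
    (π : (Fin r → MvPolynomial (Fin n) V) →ₗ[MvPolynomial (Fin n) V] M)
    (htf : ∀ (a : V) (m : M), a • m = 0 → a = 0 ∨ m = 0) : (LinearMap.ker π).FG := by
  classical
  let S := MvPolynomial (Fin n) V
  let k := IsLocalRing.ResidueField V
  let res : V →+* k := IsLocalRing.residue V
  have hres : Surjective res := IsLocalRing.residue_surjective
  let redv : (Fin r → S) → (Fin r → MvPolynomial (Fin n) k) := fun f j => MvPolynomial.map res (f j)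
  let P : ℕ → Set (Fin r → MvPolynomial (Fin n) k) := fun d =>
    {v | ∃ f : Fin r → S, π f = 0 ∧ (∀ j, (f j).totalDegree ≤ d) ∧ v = redv f}
  have hP : ∀ d, ∀ v ∈ P d, ∀ j, (v j).totalDegree ≤ d := by
    rintro d v ⟨f, -, hf, rfl⟩ j
    exact (totalDegree_map_le' _ _).trans (hf j)
  obtain ⟨ι, _, d, w, hw, hctl⟩ := exists_finite_degree_control P hP
  choose g hg0 hgdeg hgred using hw
  let W : Finset (Fin r → S) := Finset.univ.image g
  have hWker : Submodule.span S (W : Set (Fin r → S)) ≤ LinearMap.ker π := by
    rw [Submodule.span_le]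
    intro x hx
    obtain ⟨i, -, rfl⟩ := Finset.mem_image.1 (Finset.mem_coe.1 hx)
    exact hg0 i
  refine ⟨W, le_antisymm hWker ?_⟩
  intro f hf
  have hf0 : π f = 0 := hf
  let e : ℕ := Finset.univ.sup fun j => (f j).totalDegree
  have hfe : f ∈ Ne π e := ⟨hf0, fun j => Finset.le_sup (f := fun j => (f j).totalDegree)
    (Finset.mem_univ j)⟩
  let Ge : Submodule V (Fin r → S) :=
    Ne π e ⊓ (Submodule.span S (W : Set (Fin r → S))).restrictScalars V
  have hle : Ne π e ≤ Ge ⊔ IsLocalRing.maximalIdeal V • Ne π e := by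
    intro f1 hf1
    obtain ⟨hf10, hf1deg⟩ := hf1
    obtain ⟨c, hc, hv⟩ := hctl e (redv f1) ⟨f1, hf10, hf1deg, rfl⟩
    have hlift : ∀ i, ∃ c' : S, MvPolynomial.map res c' = c i ∧
        c'.totalDegree ≤ (c i).totalDegree ∧ (c i = 0 → c' = 0) := fun i =>
      exists_lift res hres (c i)
    choose c' hc'1 hc'2 hc'3 using hlift
    let f' : Fin r → S := ∑ i, c' i • g i
    have hf'span : f' ∈ Submodule.span S (W : Set (Fin r → S)) := by
      refine Submodule.sum_mem _ fun i _ => Submodule.smul_mem _ _ (Submodule.subset_span ?_)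
      exact Finset.mem_coe.2 (Finset.mem_image_of_mem g (Finset.mem_univ i))
    have hf'0 : π f' = 0 := hWker hf'span
    have hf'deg : ∀ j, (f' j).totalDegree ≤ e := by
      intro j
      have : f' j = ∑ i, c' i * g i j := by
        simp only [f', Finset.sum_apply, Pi.smul_apply, smul_eq_mul]
      rw [this]
      refine totalDegree_finsetSum_le ?_
      intro i _
      rcases hc i with h | h
      · refine (totalDegree_mul _ _).trans ?_
        have h1 := hc'2 i
        have h2 := hgdeg i j
        omega
      · rw [hc'3 i h, zero_mul]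
        simp
    have hf'Ge : f' ∈ Ge := ⟨⟨hf'0, hf'deg⟩, hf'span⟩
    have hred : redv f' = redv f1 := by
      rw [hv]
      funext j
      have : f' j = ∑ i, c' i * g i j := by
        simp only [f', Finset.sum_apply, Pi.smul_apply, smul_eq_mul]
      simp only [redv]
      rw [this, map_sum, Finset.sum_apply]
      refine Finset.sum_congr rfl ?_
      intro i _
      rw [map_mul, hc'1 i, Pi.smul_apply, smul_eq_mul, hgred i]
    -- coefficients of f1 - f' lie in the maximal ideal
    have hcoef : ∀ j α, coeff α ((f1 - f') j) ∈ IsLocalRing.maximalIdeal V := by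
      intro j α
      have h1 : MvPolynomial.map res ((f1 - f') j) = 0 := by
        rw [Pi.sub_apply, map_sub]
        have := congrFun hred j
        simp only [redv] at this
        rw [this, sub_self]
      have h2 : res (coeff α ((f1 - f') j)) = 0 := by
        rw [← coeff_map, h1, coeff_zero]
      exact (IsLocalRing.residue_eq_zero_iff _).1 h2
    obtain ⟨a, f'', ha, hfac, hdeg⟩ := exists_factor (f1 - f') (IsLocalRing.maximalIdeal V) hcoef
    have hsub : f1 - f' = a • f'' := by
      funext j
      rw [hfac j, Pi.smul_apply, MvPolynomial.smul_eq_C_mul]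
    have hf1 : f1 = f' + a • f'' := by rw [← hsub]; abel
    rw [hf1]
    by_cases ha0 : a = 0
    · rw [ha0, zero_smul, add_zero]
      exact Submodule.mem_sup_left hf'Ge
    · refine Submodule.add_mem_sup hf'Ge (Submodule.smul_mem_smul ha ⟨?_, ?_⟩)
      · have h1 : π (a • f'') = 0 := by
          rw [← hsub, map_sub, hf10, hf'0, sub_zero]
        rw [← algebraMap_smul S a f'', map_smul, algebraMap_smul] at h1
        rcases htf _ _ h1 with h | h
        · exact absurd h ha0
        · exact h
      · intro j
        refine (hdeg j).trans ?_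
        rw [Pi.sub_apply]
        exact (totalDegree_sub _ _).trans (max_le (hf1deg j) (hf'deg j))
  have hNak : Ne π e ≤ Ge :=
    Submodule.le_of_le_smul_of_le_jacobson_bot (Ne_fg π htf e)
      (IsLocalRing.maximalIdeal_le_jacobson ⊥) hle
  exact (hNak hfe).2

theorem finitePresentation_of_torsionFree [Module.Finite (MvPolynomial (Fin n) V) M]
    (htf : ∀ (a : V) (m : M), a • m = 0 → a = 0 ∨ m = 0) :
    Module.FinitePresentation (MvPolynomial (Fin n) V) M := by
  obtain ⟨r, π, hπ⟩ := Module.Finite.exists_fin' (MvPolynomial (Fin n) V) M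
  exact Module.finitePresentation_of_surjective π hπ (ker_fg_of_torsionFree π htf)

end Groth.Agent.Helper27.Vf
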