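import Mathlib
import Groth.Agent.Lib.Helper27.VfC

/-!
# Finite torsion-free modules over `V[x₁,…,xₙ]` (helper27), part D

* `ker_fg_of_algHom`: version of `ker_fg_of_torsionFree` for a module over an `A`-algebra `B`
  with the polynomial ring acting through `ψ : A[x] →ₐ[A] B`.
* `finitePresentation_of_essFiniteType`: a finite module over an algebra essentially of finite
  type over a valuation ring `A`, torsion-free over `A`, is finitely presented.
-/

set_option autoImplicit false

universe u

open MvPolynomial Function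

namespace Groth.Agent.Helper27.Vf

variable {A : Type u} [CommRing A] [IsDomain A] [ValuationRing A]
  {B M : Type u} [CommRing B] [Algebra A B] [AddCommGroup M] [Module B M] [Module A M]
  [IsScalarTower A B M]

theorem ker_fg_of_algHom (htf : ∀ (a : A) (m : M), a • m = 0 → a = 0 ∨ m = 0) {n : ℕ}
    (ψ : MvPolynomial (Fin n) A →ₐ[A] B) {t : ℕ} (m : Fin t → M) :
    ∃ W : Finset (Fin t → MvPolynomial (Fin n) A), (∀ w ∈ W, ∑ i, ψ (w i) • m i = 0) ∧
      ∀ x : Fin t → MvPolynomial (Fin n) A, ∑ i, ψ (x i) • m i = 0 →
        x ∈ Submodule.span (MvPolynomial (Fin n) A) (W : Set (Fin t → MvPolynomial (Fin n) A)) := by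
  classical
  letI : Module (MvPolynomial (Fin n) A) M := Module.compHom M ψ.toRingHom
  have hsm : ∀ (q : MvPolynomial (Fin n) A) (y : M), q • y = ψ q • y := fun q y => rfl
  haveI : IsScalarTower A (MvPolynomial (Fin n) A) M := by
    refine ⟨fun a q y => ?_⟩
    rw [hsm, hsm, map_smul, smul_assoc]
  let π : (Fin t → MvPolynomial (Fin n) A) →ₗ[MvPolynomial (Fin n) A] M :=
    Fintype.linearCombination (MvPolynomial (Fin n) A) m
  have hπ : ∀ x, π x = ∑ i, ψ (x i) • m i := by
    intro x
    rw [Fintype.linearCombination_apply]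
    exact Finset.sum_congr rfl fun i _ => hsm _ _
  obtain ⟨W, hW⟩ := ker_fg_of_torsionFree π htf
  refine ⟨W, ?_, ?_⟩
  · intro w hw
    rw [← hπ]
    have : w ∈ LinearMap.ker π := by
      rw [← hW]; exact Submodule.subset_span hw
    exact this
  · intro x hx
    rw [hW, LinearMap.mem_ker, hπ]
    exact hx

theorem finitePresentation_of_essFiniteType [Algebra.EssFiniteType A B] [Module.Finite B M]
    (htf : ∀ (a : A) (m : M), a • m = 0 → a = 0 ∨ m = 0) : Module.FinitePresentation B M := by
  classical
  obtain ⟨σ, hσ⟩ := (Algebra.essFiniteType_iff (R := A) (S := B)).1 inferInstance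
  -- presentation of the adjoin
  let e := Fintype.equivFin (↥(σ : Set B))
  let ψ : MvPolynomial (Fin (Fintype.card ↥(σ : Set B))) A →ₐ[A] B :=
    (MvPolynomial.aeval (fun x : ↥(σ : Set B) => (x : B))).comp
      (MvPolynomial.rename (fun i => e.symm i))
  have hψ : ∀ b ∈ Algebra.adjoin A (σ : Set B), ∃ q, ψ q = b := by
    intro b hb
    rw [Algebra.adjoin_eq_range] at hb
    obtain ⟨q, rfl⟩ := hb
    refine ⟨MvPolynomial.rename e q, ?_⟩
    simp only [ψ, AlgHom.comp_apply]
    rw [MvPolynomial.rename_rename]
    have : ((fun i => e.symm i) ∘ e) = id := by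
      funext z; simp
    rw [this, MvPolynomial.rename_id]
    rfl
  -- generators of M
  obtain ⟨t, ρ, hρ⟩ := Module.Finite.exists_fin' B M
  let m : Fin t → M := fun i => ρ (Pi.single i 1)
  have hρm : ∀ y : Fin t → B, ρ y = ∑ i, y i • m i := by
    intro y
    conv_lhs => rw [← Finset.univ_sum_single y]
    rw [map_sum]
    refine Finset.sum_congr rfl fun i _ => ?_
    have : (Pi.single i (y i) : Fin t → B) = y i • Pi.single i 1 := by
      rw [← Pi.single_smul, smul_eq_mul, mul_one]
    rw [this, map_smul]
  obtain ⟨W, hW1, hW2⟩ := ker_fg_of_algHom htf ψ m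
  refine Module.finitePresentation_of_surjective ρ hρ ?_
  let W' : Finset (Fin t → B) := W.image fun w i => ψ (w i)
  refine ⟨W', le_antisymm ?_ ?_⟩
  · rw [Submodule.span_le]
    intro y hy
    obtain ⟨w, hw, rfl⟩ := Finset.mem_image.1 (Finset.mem_coe.1 hy)
    rw [SetLike.mem_coe, LinearMap.mem_ker, hρm]
    exact hW1 w hw
  · intro y hy
    have hy0 : ρ y = 0 := hy
    -- clear denominators
    have hden : ∀ i, ∃ u ∈ Algebra.adjoin A (σ : Set B), IsUnit u ∧
        y i * u ∈ Algebra.adjoin A (σ : Set B) := fun i => hσ (y i)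
    choose u hu1 hu2 hu3 using hden
    let U : B := ∏ i, u i
    have hUunit : IsUnit U := by
      classical
      simp only [U]
      rw [IsUnit.prod_univ_iff]
      exact hu2
    have hUy : ∀ i, y i * U ∈ Algebra.adjoin A (σ : Set B) := by
      intro i
      have : y i * U = (y i * u i) * ∏ j ∈ Finset.univ.erase i, u j := by
        simp only [U]
        rw [← Finset.mul_prod_erase Finset.univ u (Finset.mem_univ i)]
        ring
      rw [this]
      exact Subalgebra.mul_mem _ (hu3 i) (Subalgebra.prod_mem _ fun j _ => hu1 j)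
    choose x hx using fun i => hψ _ (hUy i)
    have hx0 : ∑ i, ψ (x i) • m i = 0 := by
      have : ∑ i, ψ (x i) • m i = U • ρ y := by
        rw [hρm, Finset.smul_sum]
        refine Finset.sum_congr rfl fun i _ => ?_
        rw [hx i, mul_comm, mul_smul]
      rw [this, hy0, smul_zero]
    have hxs := hW2 x hx0
    -- transport along ψ
    have htrans : ∀ z ∈ Submodule.span (MvPolynomial (Fin (Fintype.card ↥(σ : Set B))) A)
        (W : Set (Fin t → MvPolynomial (Fin (Fintype.card ↥(σ : Set B))) A)),
        (fun i => ψ (z i)) ∈ Submodule.span B (W' : Set (Fin t → B)) := by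
      intro z hz
      induction hz using Submodule.span_induction with
      | mem z hz =>
        exact Submodule.subset_span (Finset.mem_coe.2 (Finset.mem_image_of_mem _ hz))
      | zero =>
        have : (fun i => ψ ((0 : Fin t → MvPolynomial _ A) i)) = 0 := by
          funext i; simp
        rw [this]; exact Submodule.zero_mem _
      | add z₁ z₂ _ _ h₁ h₂ =>
        have : (fun i => ψ ((z₁ + z₂) i)) = (fun i => ψ (z₁ i)) + fun i => ψ (z₂ i) := by
          funext i; simp
        rw [this]; exact Submodule.add_mem _ h₁ h₂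
      | smul q z _ h =>
        have : (fun i => ψ ((q • z) i)) = ψ q • fun i => ψ (z i) := by
          funext i; simp
        rw [this]; exact Submodule.smul_mem _ _ h
    have h1 := htrans x hxs
    have h2 : y = (hUunit.unit⁻¹ : Bˣ).1 • fun i => ψ (x i) := by
      funext i
      rw [Pi.smul_apply, smul_eq_mul, hx i, mul_comm (y i) U, ← mul_assoc]
      rw [IsUnit.val_inv_mul, one_mul]
    rw [h2]
    exact Submodule.smul_mem _ _ h1

end Groth.Agent.Helper27.Vf
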