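import Mathlib
import Groth.Agent.Lib.Helper27.VfD
import Groth.Agent.Lib.Helper27.LfpB

/-!
# Finitely generated ideals of `R[x₁,…,xₙ]`, `R` a Prüfer domain (helper27), part E

* `fp_of_surjective_algebraMap`: finite presentation descends along a surjective ring map.
* `prufer_local`: local generation of syzygies over a prime whose local ring is a valuation ring.
* `syzygies_fg`: syzygy modules of finitely many polynomials over a Prüfer domain are f.g.
-/

set_option autoImplicit false

universe u

open MvPolynomial Function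

namespace Groth.Agent.Helper27.Vf

section Surj

variable {P A N : Type*} [CommRing P] [CommRing A] [Algebra P A] [AddCommGroup N] [Module P N]
  [Module A N] [IsScalarTower P A N]

theorem fp_of_surjective_algebraMap (h : Surjective (algebraMap P A))
    [Module.FinitePresentation P N] : Module.FinitePresentation A N := by
  classical
  obtain ⟨b, ρ, hρ⟩ := Module.Finite.exists_fin' P N
  have hker : (LinearMap.ker ρ).FG := Module.FinitePresentation.fg_ker ρ hρ
  obtain ⟨G, hG⟩ := hker
  let v : Fin b → N := fun i => ρ (Pi.single i 1)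
  let ρA : (Fin b → A) →ₗ[A] N := Fintype.linearCombination A v
  let Φ : (Fin b → P) →ₗ[P] (Fin b → A) := LinearMap.compLeft (Algebra.linearMap P A) (Fin b)
  have hcomp : ∀ x, ρA (Φ x) = ρ x := by
    intro x
    rw [Fintype.linearCombination_apply]
    conv_rhs => rw [← Finset.univ_sum_single x, map_sum]
    refine Finset.sum_congr rfl fun i _ => ?_
    have : (Pi.single i (x i) : Fin b → P) = x i • Pi.single i 1 := by
      rw [← Pi.single_smul, smul_eq_mul, mul_one]
    rw [this, map_smul]
    change algebraMap P A (x i) • v i = _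
    rw [algebraMap_smul]
  have hΦ : Surjective Φ := by
    intro y
    choose x hx using fun i => h (y i)
    exact ⟨x, funext hx⟩
  have hρA : Surjective ρA := by
    intro z
    obtain ⟨x, rfl⟩ := hρ z
    exact ⟨Φ x, hcomp x⟩
  refine Module.finitePresentation_of_surjective ρA hρA ?_
  refine ⟨G.image Φ, le_antisymm ?_ ?_⟩
  · rw [Submodule.span_le]
    intro y hy
    obtain ⟨g, hg, rfl⟩ := Finset.mem_image.1 (Finset.mem_coe.1 hy)
    rw [SetLike.mem_coe, LinearMap.mem_ker, hcomp]
    have : g ∈ LinearMap.ker ρ := by rw [← hG]; exact Submodule.subset_span hg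
    exact this
  · intro y hy
    obtain ⟨x, rfl⟩ := hΦ y
    have hx : x ∈ LinearMap.ker ρ := by
      rw [LinearMap.mem_ker, ← hcomp]; exact hy
    rw [← hG] at hx
    have h1 : Φ x ∈ Submodule.map Φ (Submodule.span P (G : Set (Fin b → P))) :=
      Submodule.mem_map_of_mem hx
    rw [Submodule.map_span] at h1
    have h2 : Submodule.span P (Φ '' (G : Set (Fin b → P))) ≤
        (Submodule.span A ((G.image Φ : Finset (Fin b → A)) : Set (Fin b → A))).restrictScalars P := by
      rw [Submodule.span_le]
      rintro _ ⟨g, hg, rfl⟩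
      exact Submodule.subset_span (Finset.mem_coe.2 (Finset.mem_image_of_mem Φ hg))
    exact h2 h1

end Surj

section Prufer

attribute [local instance] MvPolynomial.algebraMvPolynomial

variable {R : Type u} [CommRing R] [IsDomain R] {n t : ℕ}

theorem prufer_local (p : Ideal R) [p.IsPrime] (hV : ValuationRing (Localization.AtPrime p))
    (pp : Fin t → MvPolynomial (Fin n) R) :
    ∃ W : Finset (Fin t → MvPolynomial (Fin n) R), (∀ w ∈ W, ∑ i, w i * pp i = 0) ∧
      ∀ x : Fin t → MvPolynomial (Fin n) R, ∑ i, x i * pp i = 0 → ∃ s : R, s ∉ p ∧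
        (C s : MvPolynomial (Fin n) R) • x ∈
          Submodule.span (MvPolynomial (Fin n) R) (W : Set (Fin t → MvPolynomial (Fin n) R)) := by
  classical
  let V := Localization.AtPrime p
  let P := MvPolynomial (Fin n) R
  let PV := MvPolynomial (Fin n) V
  let T : Submonoid P := p.primeCompl.map (C (σ := Fin n))
  haveI : IsLocalization T PV := MvPolynomial.isLocalization p.primeCompl V
  have hT : ∀ m ∈ T, ∃ s : R, s ∉ p ∧ m = C s := by
    rintro m ⟨s, hs, rfl⟩
    exact ⟨s, hs, rfl⟩
  let ι : P →+* PV := algebraMap P PV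
  have hιinj : Injective ι := by
    have : Injective (algebraMap R V) :=
      IsLocalization.injective V (M := p.primeCompl) (by
        intro x hx
        exact mem_nonZeroDivisors_of_ne_zero (fun h => hx (h ▸ p.zero_mem)))
    exact MvPolynomial.map_injective _ this
  have htf : ∀ (a : V) (m : PV), a • m = 0 → a = 0 ∨ m = 0 := by
    intro a m h
    rw [MvPolynomial.smul_eq_C_mul] at h
    rcases mul_eq_zero.1 h with h | h
    · left
      exact (MvPolynomial.C_eq_zero).1 h
    · exact Or.inr h
  let π' : (Fin t → PV) →ₗ[PV] PV := Fintype.linearCombination PV fun i => ι (pp i)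
  have hπ' : ∀ y, π' y = ∑ i, y i * ι (pp i) := by
    intro y
    rw [Fintype.linearCombination_apply]
    rfl
  obtain ⟨W', hW'⟩ := ker_fg_of_torsionFree (V := V) π' htf
  -- clear denominators of the generators
  obtain ⟨b, hb⟩ := IsLocalization.exist_integer_multiples T (Finset.univ : Finset (↥W' × Fin t))
    (fun wi => (wi.1 : Fin t → PV) wi.2)
  have hz : ∀ (w : ↥W') (i : Fin t), ∃ z : P, ι z = ι b * (w : Fin t → PV) i := by
    intro w i
    obtain ⟨z, hz⟩ := hb (w, i) (Finset.mem_univ _)
    exact ⟨z, by rw [hz, Algebra.smul_def]⟩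
  choose z hz using hz
  have hzker : ∀ w : ↥W', ∑ i, z w i * pp i = 0 := by
    intro w
    apply hιinj
    rw [map_sum, map_zero]
    have h1 : ∀ i ∈ Finset.univ, ι (z w i * pp i) = ι b * ((w : Fin t → PV) i * ι (pp i)) := by
      intro i _
      rw [map_mul, hz, mul_assoc]
    rw [Finset.sum_congr rfl h1, ← Finset.mul_sum, ← hπ']
    have : (w : Fin t → PV) ∈ LinearMap.ker π' := by
      rw [← hW']; exact Submodule.subset_span w.2
    rw [LinearMap.mem_ker.1 this, mul_zero]
  refine ⟨Finset.univ.image z, ?_, ?_⟩
  · intro w hw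
    obtain ⟨w', -, rfl⟩ := Finset.mem_image.1 hw
    exact hzker w'
  · intro x hx
    have hxker : (fun i => ι (x i)) ∈ LinearMap.ker π' := by
      rw [LinearMap.mem_ker, hπ']
      have : ∑ i, ι (x i) * ι (pp i) = ι (∑ i, x i * pp i) := by
        rw [map_sum]
        exact Finset.sum_congr rfl fun i _ => (map_mul _ _ _).symm
      rw [this, hx, map_zero]
    rw [← hW'] at hxker
    obtain ⟨a, -, ha⟩ := Submodule.mem_span_finset.1 hxker
    obtain ⟨b', hb'⟩ := IsLocalization.exist_integer_multiples T (Finset.univ : Finset ↥W')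
      (fun w => a w)
    have hc : ∀ w : ↥W', ∃ c : P, ι c = ι b' * a w := by
      intro w
      obtain ⟨c, hc⟩ := hb' w (Finset.mem_univ _)
      exact ⟨c, by rw [hc, Algebra.smul_def]⟩
    choose c hc using hc
    obtain ⟨s, hs, hbs⟩ := hT _ (T.mul_mem b'.2 b.2)
    refine ⟨s, hs, ?_⟩
    have key : (C s : P) • x = ∑ w : ↥W', c w • z w := by
      funext i
      apply hιinj
      rw [Pi.smul_apply, smul_eq_mul, ← hbs, Finset.sum_apply, map_sum]
      have h1 : ∀ w ∈ (Finset.univ : Finset ↥W'),
          ι ((c w • z w) i) = ι b' * ι b * (a w * (w : Fin t → PV) i) := by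
        intro w _
        rw [Pi.smul_apply, smul_eq_mul, map_mul, hc, hz]
        ring
      rw [Finset.sum_congr rfl h1, ← Finset.mul_sum, map_mul, map_mul]
      congr 1
      have h2 := congrFun ha i
      rw [Finset.sum_apply] at h2
      rw [← h2, ← Finset.sum_coe_sort W']
      refine Finset.sum_congr rfl fun w _ => ?_
      rw [Pi.smul_apply, smul_eq_mul]
    rw [key]
    refine Submodule.sum_mem _ fun w _ => Submodule.smul_mem _ _ (Submodule.subset_span ?_)
    exact Finset.mem_coe.2 (Finset.mem_image_of_mem z (Finset.mem_univ w))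

end Prufer

end Groth.Agent.Helper27.Vf
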