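import Mathlib
import Groth.Agent.Lib.Helper27.VfE

/-!
# Coherence of finitely presented algebras over a Prüfer domain (helper27), part F
-/

set_option autoImplicit false

universe u

open MvPolynomial Function

namespace Groth.Agent.Helper27.Vf

variable {R : Type u} [CommRing R] [IsDomain R]
  (hR : ∀ (p : Ideal R) [p.IsPrime], ValuationRing (Localization.AtPrime p))

include hR in
theorem syzygies_fg {n t : ℕ} (pp : Fin t → MvPolynomial (Fin n) R) :
    (LinearMap.ker (Fintype.linearCombination (MvPolynomial (Fin n) R) pp)).FG := by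
  classical
  let P := MvPolynomial (Fin n) R
  let π : (Fin t → P) →ₗ[P] P := Fintype.linearCombination P pp
  have hπ : ∀ x, π x = ∑ i, x i * pp i := by
    intro x
    rw [Fintype.linearCombination_apply]
    rfl
  let M := ↥(LinearMap.range π)
  haveI : Module.Flat R M := by
    rw [Module.Flat.flat_iff_torsion_eq_bot_of_valuationRing_localization_isMaximal
      (fun Q hQ => hR Q), eq_bot_iff]
    intro x hx
    obtain ⟨a, ha⟩ := (Submodule.mem_torsion_iff x).1 hx
    have h1 : (a : R) • (x : P) = 0 := by
      have := congrArg Subtype.val ha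
      rw [Submonoid.smul_def] at this
      simpa using this
    rw [MvPolynomial.smul_eq_C_mul] at h1
    rcases mul_eq_zero.1 h1 with h | h
    · exact absurd (MvPolynomial.C_eq_zero.1 h) (nonZeroDivisors.coe_ne_zero a)
    · rw [Submodule.mem_bot]
      exact Subtype.ext h
  let s : Finset (PrimeSpectrum R) := {⟨⊥, Ideal.isPrime_bot⟩}
  have hs : Function.Injective fun r : R => fun q : s =>
      algebraMap R (Localization.AtPrime q.1.asIdeal) r := by
    intro a b hab
    have h1 := congrFun hab ⟨⟨⊥, Ideal.isPrime_bot⟩, Finset.mem_singleton_self _⟩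
    have hinj : Injective (algebraMap R (Localization.AtPrime (⊥ : Ideal R))) :=
      IsLocalization.injective _ (M := (⊥ : Ideal R).primeCompl) (by
        intro x hx
        exact mem_nonZeroDivisors_of_ne_zero (fun h => hx (h ▸ (⊥ : Ideal R).zero_mem)))
    exact hinj h1
  have key : (LinearMap.ker π.rangeRestrict).FG := by
    refine Groth.Agent.Helper27.Lfp.ker_fg s hs π.rangeRestrict π.surjective_rangeRestrict ?_
    intro p hp
    obtain ⟨W, hW1, hW2⟩ := prufer_local p (hR p) pp
    refine ⟨W, ?_, ?_⟩
    · intro w hw
      apply Subtype.ext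
      change π w = 0
      rw [hπ]
      exact hW1 w hw
    · intro x hx
      have hx0 : π x = 0 := congrArg Subtype.val hx
      rw [hπ] at hx0
      obtain ⟨s', hs', hsx⟩ := hW2 x hx0
      exact ⟨s', hs', by rw [MvPolynomial.algebraMap_eq]; exact hsx⟩
  rwa [LinearMap.ker_rangeRestrict] at key

include hR in
theorem ideal_fp {n : ℕ} (J : Ideal (MvPolynomial (Fin n) R)) (hJ : J.FG) :
    Module.FinitePresentation (MvPolynomial (Fin n) R) J := by
  classical
  obtain ⟨G, hG⟩ := hJ
  let t := G.card
  let pp : Fin t → MvPolynomial (Fin n) R := fun i => (G.equivFin.symm i : MvPolynomial (Fin n) R)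
  let π := Fintype.linearCombination (MvPolynomial (Fin n) R) pp
  have hrange : LinearMap.range π = J := by
    rw [Fintype.range_linearCombination, ← hG]
    congr 1
    ext x
    constructor
    · rintro ⟨i, rfl⟩
      exact (G.equivFin.symm i).2
    · intro hx
      exact ⟨G.equivFin ⟨x, hx⟩, by simp [pp]⟩
  have h1 : Module.FinitePresentation (MvPolynomial (Fin n) R) (LinearMap.range π) := by
    refine Module.finitePresentation_of_surjective π.rangeRestrict π.surjective_rangeRestrict ?_
    rw [LinearMap.ker_rangeRestrict]
    exact syzygies_fg hR pp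
  exact Module.FinitePresentation.of_equiv (LinearEquiv.ofEq _ _ hrange)

include hR in
theorem ideal_fp_of_prufer (A : Type u) [CommRing A] [Algebra R A] [Algebra.FinitePresentation R A]
    (I : Ideal A) (hI : I.FG) : Module.FinitePresentation A I := by
  classical
  obtain ⟨n, φ, hφ, hker⟩ := Algebra.FinitePresentation.out (R := R) (A := A)
  let P := MvPolynomial (Fin n) R
  letI : Algebra P A := φ.toRingHom.toAlgebra
  have halg : ∀ q : P, algebraMap P A q = φ q := fun q => rfl
  obtain ⟨G, hG⟩ := hI
  let G' : Finset P := G.image (Function.surjInv hφ)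
  let It : Ideal P := Ideal.span (G' : Set P) ⊔ RingHom.ker φ.toRingHom
  have hItfg : It.FG := Submodule.FG.sup ⟨G', rfl⟩ hker
  have hmapIt : Ideal.map φ.toRingHom It = I := by
    rw [Ideal.map_sup, Ideal.map_span]
    have h1 : Ideal.map φ.toRingHom (RingHom.ker φ.toRingHom) = ⊥ := by
      rw [Ideal.map_eq_bot_iff_le_ker]
    rw [h1, sup_bot_eq, ← hG]
    congr 1
    ext a
    constructor
    · rintro ⟨q, hq, rfl⟩
      obtain ⟨g, hg, rfl⟩ := Finset.mem_image.1 (Finset.mem_coe.1 hq)
      have : φ.toRingHom (Function.surjInv hφ g) = g := Function.surjInv_eq hφ g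
      rw [this]
      exact hg
    · intro ha
      exact ⟨Function.surjInv hφ a, Finset.mem_coe.2 (Finset.mem_image_of_mem _ ha),
        Function.surjInv_eq hφ a⟩
  have hmem : ∀ x ∈ It, φ x ∈ I := by
    intro x hx
    rw [← hmapIt]
    exact Ideal.mem_map_of_mem φ.toRingHom hx
  haveI : Module.FinitePresentation P It := ideal_fp hR It hItfg
  -- the surjection It → I
  let l : ↥It →ₗ[P] ↥I :=
    { toFun := fun x => ⟨φ x.1, hmem x.1 x.2⟩
      map_add' := fun x y => Subtype.ext (map_add φ _ _)
      map_smul' := fun q x => by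
        apply Subtype.ext
        change φ (q * x.1) = algebraMap P A q * φ x.1
        rw [map_mul, halg] }
  have hl : Surjective l := by
    rintro ⟨y, hy⟩
    rw [← hmapIt] at hy
    obtain ⟨x, hx, hxy⟩ := (Ideal.mem_map_iff_of_surjective φ.toRingHom hφ).1 hy
    exact ⟨⟨x, hx⟩, Subtype.ext hxy⟩
  have hkerl : (LinearMap.ker l).FG := by
    refine Submodule.fg_of_fg_map_injective It.subtype Subtype.val_injective ?_
    have : Submodule.map It.subtype (LinearMap.ker l) = RingHom.ker φ.toRingHom := by
      ext x
      constructor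
      · rintro ⟨y, hy, rfl⟩
        have : l y = 0 := hy
        exact congrArg Subtype.val this
      · intro hx
        have hxIt : x ∈ It := Submodule.mem_sup_right hx
        refine ⟨⟨x, hxIt⟩, ?_, rfl⟩
        rw [SetLike.mem_coe, LinearMap.mem_ker]
        exact Subtype.ext hx
    rw [this]
    exact hker
  haveI : Module.FinitePresentation P ↥I := Module.finitePresentation_of_surjective l hl hkerl
  exact fp_of_surjective_algebraMap (P := P) (A := A) (N := ↥I) hφ

end Groth.Agent.Helper27.Vf
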