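import Mathlib
import Groth.Prelude.Def_W4bk4goldsch45p2

set_option autoImplicit false

namespace Groth.Agent.Helper27.WPt

open FunFld Matrix Finset

variable (k : Type*) [Field k]

theorem natCast_ne_zero_of_char {B : ℕ} (hchar : ringChar k = 0 ∨ B < ringChar k) (m : ℕ)
    (hm0 : 0 < m) (hmB : m ≤ B) : (m : k) ≠ 0 := by
  intro h0
  rw [ringChar.spec k m] at h0
  rcases hchar with h | h
  · rw [h, zero_dvd_iff] at h0; omega
  · have := Nat.le_of_dvd hm0 h0; omega

theorem intCast_ne_zero_of_char {B : ℕ} (hchar : ringChar k = 0 ∨ B < ringChar k) (m : ℤ)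
    (hm0 : 0 < m) (hmB : m ≤ B) : (m : k) ≠ 0 := by
  obtain ⟨m', rfl⟩ : ∃ m' : ℕ, m = m' := ⟨m.toNat, by omega⟩
  rw [Int.cast_natCast]
  exact natCast_ne_zero_of_char k hchar m' (by omega) (by omega)

theorem factorial_ne_zero_of_char {B : ℕ} (hchar : ringChar k = 0 ∨ B < ringChar k) (m : ℕ)
    (hmB : m ≤ B) : ((m.factorial : ℕ) : k) ≠ 0 := by
  induction m with
  | zero => simp
  | succ m ih =>
    rw [Nat.factorial_succ, Nat.cast_mul]
    exact mul_ne_zero (natCast_ne_zero_of_char k hchar (m + 1) (by omega) hmB) (ih (by omega))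

theorem choose_ne_zero_of_char {B : ℕ} (hchar : ringChar k = 0 ∨ B < ringChar k) (j i : ℕ)
    (hij : i ≤ j) (hjB : j ≤ B) : ((j.choose i : ℕ) : k) ≠ 0 := by
  have h := Nat.choose_mul_factorial_mul_factorial hij
  have h2 := factorial_ne_zero_of_char k hchar j hjB
  rw [← h, Nat.cast_mul, Nat.cast_mul] at h2
  exact left_ne_zero_of_mul (left_ne_zero_of_mul h2)

theorem det_choose_int {n : ℕ} (a : Fin n → ℕ) :
    (∏ s : Fin n, ((Nat.factorial (s : ℕ) : ℕ) : ℤ)) *
      (Matrix.of fun r s : Fin n => ((Nat.choose (a r) (s : ℕ) : ℕ) : ℤ)).det =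
      ∏ r : Fin n, ∏ r' ∈ Finset.Ioi r, ((a r' : ℤ) - a r) := by
  have h := det_eval_matrixOfPolynomials_eq_det_vandermonde (fun i => ((a i : ℕ) : ℤ))
      (fun i : Fin n => descPochhammer ℤ i)
      (fun i => descPochhammer_natDegree ℤ i)
      (fun i => monic_descPochhammer ℤ i)
  rw [det_vandermonde] at h
  rw [h]
  symm
  convert det_mul_row (fun (i : Fin n) => ((Nat.factorial (i : ℕ) : ℕ) : ℤ))
    (Matrix.of fun r s : Fin n => ((Nat.choose (a r) (s : ℕ) : ℕ) : ℤ)) using 2
  ext i j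
  rw [of_apply, of_apply, of_apply, descPochhammer_eval_eq_descFactorial ℤ _ _,
    Nat.descFactorial_eq_factorial_mul_choose]
  push_cast
  ring

/-- the binomial matrix `(a_r choose s)` is invertible in large characteristic -/
theorem det_binomMat_range_ne_zero {n : ℕ} (a : Fin n → ℕ) (ha : StrictMono a) (B : ℕ)
    (hB : ∀ r, a r ≤ B) (hchar : ringChar k = 0 ∨ B < ringChar k) :
    (binomMat k a (fun s : Fin n => (s : ℕ))).det ≠ 0 := by
  have hcast : binomMat k a (fun s : Fin n => (s : ℕ)) =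
      (Int.castRingHom k).mapMatrix
        (Matrix.of fun r s : Fin n => ((Nat.choose (a r) (s : ℕ) : ℕ) : ℤ)) := by
    ext r s
    simp [binomMat]
  rw [hcast, ← RingHom.map_det]
  intro h0
  have h := congrArg (Int.castRingHom k) (det_choose_int a)
  rw [map_mul, h0, mul_zero, map_prod] at h
  have hne : ∏ r : Fin n, (Int.castRingHom k) (∏ r' ∈ Finset.Ioi r, ((a r' : ℤ) - a r)) ≠ 0 := by
    rw [Finset.prod_ne_zero_iff]
    intro r _
    rw [map_prod, Finset.prod_ne_zero_iff]
    intro r' hr'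
    rw [Finset.mem_Ioi] at hr'
    have h1 := ha hr'
    have h2 := hB r'
    exact intCast_ne_zero_of_char k hchar _ (by omega) (by omega)
  exact hne h.symm

/-- the shifted binomial matrix `(a_r choose (s+1))` for positive `a_r` -/
theorem det_binomMat_succ_ne_zero {n : ℕ} (a : Fin n → ℕ) (ha : StrictMono a)
    (hpos : ∀ r, 1 ≤ a r) (B : ℕ)
    (hB : ∀ r, a r ≤ B) (hchar : ringChar k = 0 ∨ B < ringChar k) :
    (binomMat k a (fun s : Fin n => (s : ℕ) + 1)).det ≠ 0 := by
  set a' : Fin (n + 1) → ℕ := Fin.cons 0 a with ha'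
  have ha'm : StrictMono a' := by
    intro i j
    refine Fin.cases ?_ (fun j' => ?_) j
    · intro hij; exact absurd hij (Fin.not_lt_zero _)
    · refine Fin.cases ?_ (fun i' => ?_) i
      · intro _
        simp only [ha', Fin.cons_zero, Fin.cons_succ]
        exact hpos j'
      · intro hij
        simp only [ha', Fin.cons_succ]
        exact ha (Fin.succ_lt_succ_iff.1 hij)
  have hB' : ∀ r, a' r ≤ B := by
    intro r
    refine Fin.cases ?_ (fun r' => ?_) r
    · simp [ha']
    · simp only [ha', Fin.cons_succ]; exact hB r'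
  have h := det_binomMat_range_ne_zero k a' ha'm B hB' hchar
  rw [Matrix.det_succ_row_zero] at h
  have hrow : ∀ j : Fin (n + 1), j ≠ 0 →
      binomMat k a' (fun s : Fin (n + 1) => (s : ℕ)) 0 j = 0 := by
    intro j hj
    simp only [binomMat, of_apply, ha', Fin.cons_zero]
    have : 0 < (j : ℕ) := Nat.pos_of_ne_zero (fun h => hj (Fin.ext h))
    rw [Nat.choose_eq_zero_of_lt this]; simp
  rw [Finset.sum_eq_single 0 (fun j _ hj => by rw [hrow j hj]; simp) (by simp)] at h
  have h00 : binomMat k a' (fun s : Fin (n + 1) => (s : ℕ)) 0 0 = 1 := by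
    simp [binomMat, ha']
  rw [h00] at h
  simp only [Fin.val_zero, pow_zero, one_mul, Fin.succAbove_zero] at h
  convert h using 2
  ext r s
  simp [binomMat, ha']

end Groth.Agent.Helper27.WPt
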