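import Mathlib
import Groth.Agent.Lib.Helper27.WPtA
import Groth.Agent.Lib.Helper27.SFixA
import Groth.Agent.Lib.Helper27.LocR

set_option autoImplicit false

namespace Groth.Agent.Helper27.WPt

open PowerSeries FunFld IntermediateField
open scoped LaurentSeries
open Groth.Agent.Helper16.FF Groth.Agent.Helper27.Hasse Groth.Agent.Helper27.Expn
  Groth.Agent.Helper27.Loc Groth.Agent.Helper27.SFix

variable {k K : Type*} [Field k] [Field K] [Algebra k K]

/-- jumps of `[φ | D⁰φ | D¹φ | ⋯]` in terms of the Hasse-derivative columns alone -/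
theorem isJump_hcol_id_succ_iff {ι : Type*} (H : K →ₐ[k] K⟦X⟧) {t : K}
    (hH : LocRes.IsHasseFamily t H) (φ : ι → K) (j : ℕ) (hj : 1 ≤ j) :
    IsJump K (hcol (AlgHom.id k K) H φ) (j + 1) ↔
      (fun x => coeff j (H (φ x))) ∉
        Submodule.span K ((fun (m : ℕ) (x : ι) => coeff m (H (φ x))) '' Set.Iio j) := by
  have hset : hcol (AlgHom.id k K) H φ '' Set.Iio (j + 1) =
      (fun (m : ℕ) (x : ι) => coeff m (H (φ x))) '' Set.Iio j := by
    have h00 : hcol (AlgHom.id k K) H φ 0 = fun x => coeff 0 (H (φ x)) := by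
      funext i
      show (AlgHom.id k K) (φ i) = coeff 0 (H (φ i))
      rw [coeff_zero_eq_constantCoeff_apply, hH.2]; rfl
    ext v
    constructor
    · rintro ⟨m, hm, rfl⟩
      rcases m with _ | m
      · exact ⟨0, hj, h00.symm⟩
      · exact ⟨m, by simp only [Set.mem_Iio] at hm ⊢; omega, rfl⟩
    · rintro ⟨m, hm, rfl⟩
      exact ⟨m + 1, by simp only [Set.mem_Iio] at hm ⊢; omega, rfl⟩
  unfold IsJump
  rw [hset]
  rfl

/-- the `p`-adic criterion for orders -/
theorem padic_criterion (h1 : Module.finrank K (Ω[K⁄k]) = 1) (s : K) (H : K →ₐ[k] K⟦X⟧)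
    (hH : LocRes.IsHasseFamily s H) {ι : Type*} (φ : ι → K) (i j : ℕ) (hij : i ≤ j)
    (hC : ((j.choose i : ℕ) : K) ≠ 0)
    (hi : (fun x => coeff i (H (φ x))) ∈
        Submodule.span K ((fun (m : ℕ) (x : ι) => coeff m (H (φ x))) '' Set.Iio i)) :
    (fun x => coeff j (H (φ x))) ∈
        Submodule.span K ((fun (m : ℕ) (x : ι) => coeff m (H (φ x))) '' Set.Iio j) := by
  classical
  set c : ℕ → ι → K := fun m x => coeff m (H (φ x)) with hc
  have himg : c '' Set.Iio i = Set.range (fun m : Fin i => c m) := by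
    ext v
    constructor
    · rintro ⟨m, hm, rfl⟩; exact ⟨⟨m, hm⟩, rfl⟩
    · rintro ⟨m, rfl⟩; exact ⟨m, m.2, rfl⟩
  rw [himg, Submodule.mem_span_range_iff_exists_fun] at hi
  obtain ⟨d, hd⟩ := hi
  have hdx : ∀ x, coeff i (H (φ x)) = ∑ m : Fin i, d m * c m x := by
    intro x
    have := congrFun hd x
    simp only [Finset.sum_apply, Pi.smul_apply, smul_eq_mul] at this
    exact this.symm
  set b := j - i with hb
  have hbj : b + i = j := by omega
  have key : ((j.choose i : ℕ) : K) • c j =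
      ∑ m : Fin i, ∑ p ∈ Finset.HasAntidiagonal.antidiagonal b,
        (coeff p.1 (H (d m)) * (((p.2 + m).choose m : ℕ) : K)) • c (p.2 + m) := by
    funext x
    simp only [Pi.smul_apply, smul_eq_mul, Finset.sum_apply]
    have e1 := hasse_iter h1 s H hH (φ x) b i
    rw [hbj] at e1
    show ((j.choose i : ℕ) : K) * coeff j (H (φ x)) = _
    rw [← e1, hdx x, map_sum, map_sum]
    refine Finset.sum_congr rfl fun m _ => ?_
    rw [map_mul, coeff_mul]
    refine Finset.sum_congr rfl fun p _ => ?_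
    have e2 := hasse_iter h1 s H hH (φ x) p.2 m
    show coeff p.1 (H (d m)) * coeff p.2 (H (coeff m (H (φ x)))) = _
    rw [e2]
    ring
  have hmem : ((j.choose i : ℕ) : K) • c j ∈ Submodule.span K (c '' Set.Iio j) := by
    rw [key]
    refine Submodule.sum_mem _ fun m _ => Submodule.sum_mem _ fun p hp => ?_
    refine Submodule.smul_mem _ _ (Submodule.subset_span ⟨p.2 + m, ?_, rfl⟩)
    rw [Finset.HasAntidiagonal.mem_antidiagonal] at hp
    have := m.2
    simp only [Set.mem_Iio]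
    omega
  have := Submodule.smul_mem _ (((j.choose i : ℕ) : K))⁻¹ hmem
  rwa [smul_smul, inv_mul_cancel₀ hC, one_smul] at this

theorem natCast_ne_zero_K {B : ℕ} (hchar : ringChar k = 0 ∨ B < ringChar k) (j i : ℕ)
    (hij : i ≤ j) (hjB : j ≤ B) : ((j.choose i : ℕ) : K) ≠ 0 := by
  have h := choose_ne_zero_of_char k hchar j i hij hjB
  intro h0
  apply h
  apply (algebraMap k K).injective
  rw [map_natCast, h0, map_zero]

theorem eq_succ_of_range {n : ℕ} (J : Fin n → ℕ) (hJ : StrictMono J) (h1 : ∀ l, 1 ≤ J l)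
    (a : ℕ) (hr : ∀ j, 1 ≤ j → j ≤ a → j ∈ Set.range J) :
    ∀ (N : ℕ) (l : Fin n), (l : ℕ) = N → (l : ℕ) < a → J l = (l : ℕ) + 1 := by
  intro N
  induction N using Nat.strong_induction_on with
  | _ N ih =>
    intro l hlN hla
    have hpos : 0 < n := by have := l.2; omega
    have hlow := strictMono_add_le J hJ (l : ℕ) ⟨0, hpos⟩ l (by simp)
    have h0 := h1 ⟨0, hpos⟩
    obtain ⟨l', hl'⟩ := hr ((l : ℕ) + 1) (by omega) (by omega)
    by_cases hlt : (l' : ℕ) < (l : ℕ)
    · have := ih (l' : ℕ) (by omega) l' rfl (by omega)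
      omega
    · have hle : l ≤ l' := by rw [Fin.le_def]; omega
      have := hJ.monotone hle
      omega

/-- Orders are classical when the characteristic exceeds all of them. -/
theorem orders_id_classical (h1 : Module.finrank K (Ω[K⁄k]) = 1) (s : K) (H : K →ₐ[k] K⟦X⟧)
    (hH : LocRes.IsHasseFamily s H) {n : ℕ} (φ : Fin (n + 1) → K) (J : Fin n → ℕ)
    (hJ : IsOrders K (hcol (AlgHom.id k K) H φ) J) (B : ℕ) (hB : ∀ l, J l ≤ B)
    (hchar : ringChar k = 0 ∨ B < ringChar k) : ∀ l : Fin n, J l = (l : ℕ) + 1 := by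
  intro l
  have hnpos : 0 < n := by have := l.2; omega
  have hposJ : ∀ l, 1 ≤ J l := by
    intro l
    by_contra h0
    have h0' : J l = 0 := by omega
    exact not_isJump_hcol_id_one H hH φ ((hJ.2 0).1 ⟨l, h0'⟩)
  set ln : Fin n := ⟨n - 1, by omega⟩ with hln
  set jn := J ln with hjn
  have hjnB : jn ≤ B := hB ln
  have hjump : IsJump K (hcol (AlgHom.id k K) H φ) (jn + 1) := (hJ.2 jn).1 ⟨ln, rfl⟩
  have hr : ∀ i, 1 ≤ i → i ≤ jn → i ∈ Set.range J := by
    intro i hi1 hi2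
    rw [hJ.2 i]
    by_contra hnj
    rw [isJump_hcol_id_succ_iff H hH φ i hi1, not_not] at hnj
    have := padic_criterion h1 s H hH φ i jn hi2 (natCast_ne_zero_K hchar jn i hi2 hjnB) hnj
    rw [isJump_hcol_id_succ_iff H hH φ jn (hposJ ln)] at hjump
    exact hjump this
  have hge : n ≤ jn := by
    have := strictMono_add_le J hJ.1 (n - 1) ⟨0, hnpos⟩ ln (by simp [hln])
    have h0 := hposJ ⟨0, hnpos⟩
    omega
  exact eq_succ_of_range J hJ.1 hposJ jn hr (l : ℕ) l rfl (by have := l.2; omega)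

theorem coeff_le_deg (hK : IsFunctionField k K) (E : Divisor k K) (hE : 0 ≤ E) (P : Place k K) :
    E P ≤ E.deg := by
  classical
  have hle : (Finsupp.single P (E P) : Divisor k K) ≤ E := by
    intro Q
    rw [Finsupp.single_apply]
    split_ifs with h
    · subst h; exact le_rfl
    · exact hE Q
  have := Divisor.deg_mono hle
  rw [Divisor.deg_single] at this
  have hP : (1 : ℤ) ≤ (P.deg : ℤ) := by exact_mod_cast Place.deg_pos hK P
  have h0 : 0 ≤ E P := hE P
  nlinarith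

/-- Orders at a place of a normalised projective map are bounded by its degree. -/
theorem ordersAt_le_deg [IsAlgClosed k] (hK : IsFunctionField k K) (P : Place k K) {n : ℕ}
    (φ'' : Fin (n + 1) → K) (hli : LinearIndependent k φ'') (hnorm : ∀ i, P.1 (φ'' i) ≤ 1)
    (hunit : ∃ j0, φ'' j0 = 1) (t : K) (ht : P.1 t = WithZero.exp (-1)) (Ht : K →ₐ[k] K⟦X⟧)
    (hHt : LocRes.IsHasseFamily t Ht) (J' : Fin n → ℕ)
    (hJ' : IsOrders (IsLocalRing.ResidueField P.O) (hcolAt P Ht φ'') J') :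
    ∀ l, (J' l : ℤ) ≤ (mapDiv k φ'').deg := by
  classical
  intro l
  obtain ⟨j0, hj0⟩ := hunit
  have hpos' := orders_pos hK P φ'' hnorm t ht Ht hHt J' hJ'
  have hj : IsJump (IsLocalRing.ResidueField P.O) (hcolAt P Ht φ'') (J' l + 1) :=
    (hJ'.2 (J' l)).1 ⟨l, rfl⟩
  rw [isJump_hcolAt_succ_iff hK P φ'' hnorm t ht Ht hHt (J' l) (hpos' l)] at hj
  obtain ⟨f, hf, hfv⟩ := hj
  have hf0 : f ≠ 0 := by
    rintro rfl
    rw [map_zero] at hfv
    exact WithZero.exp_ne_zero hfv.symm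
  have hne'' : ∀ i, φ'' i ≠ 0 := fun i => hli.ne_zero i
  have hm0 : mapDiv k φ'' P = 0 :=
    mapDiv_apply_eq_zero hK φ'' P hnorm ⟨j0, by rw [hj0, map_one]⟩
  set E : Divisor k K := div k f + mapDiv k φ'' with hE
  have hE0 : 0 ≤ E := by
    intro Q
    rw [hE, Finsupp.add_apply, div_apply hK]
    have : Q.1 f ≤ WithZero.exp (mapDiv k φ'' Q) := by
      obtain ⟨c, hc⟩ := (Submodule.mem_span_range_iff_exists_fun k).1 hf
      rw [← hc]
      apply Valuation.map_sum_le
      intro i _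
      exact (Place.val_smul_le Q (c i) (φ'' i)).trans (val_le_exp_mapDiv hK φ'' hne'' Q i)
    rw [Place.val_le_exp_iff Q hf0] at this
    simp only [Finsupp.coe_zero, Pi.zero_apply]
    omega
  have hEP : E P = J' l := by
    rw [hE, Finsupp.add_apply, hm0, add_zero, div_apply hK]
    exact (val_eq_exp_iff_ord P hf0 (J' l : ℤ)).1 hfv
  have hdegE : E.deg = (mapDiv k φ'').deg := by
    rw [hE, Divisor.deg_add, deg_div hK, zero_add]
  have h1 := coeff_le_deg hK E hE0 P
  rw [hEP, hdegE] at h1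
  exact h1

/-- existence of the orders at a place -/
theorem exists_ordersAt [IsAlgClosed k] (hK : IsFunctionField k K) (P : Place k K) {n : ℕ}
    (φ'' : Fin (n + 1) → K) (hli : LinearIndependent k φ'') (hnorm : ∀ i, P.1 (φ'' i) ≤ 1)
    (hunit : ∃ j0, φ'' j0 = 1) (t : K) (ht : P.1 t = WithZero.exp (-1)) (Ht : K →ₐ[k] K⟦X⟧)
    (hHt : LocRes.IsHasseFamily t Ht) :
    ∃ J' : Fin n → ℕ, IsOrders (IsLocalRing.ResidueField P.O) (hcolAt P Ht φ'') J' := by
  obtain ⟨j0, hj0⟩ := hunit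
  have hrows := main12599 hK φ'' hli P hnorm t ht Ht hHt
  have hspan' := span_cols_eq_top (hcolAt P Ht φ'') hrows
  have hc0' : hcolAt P Ht φ'' 0 ≠ 0 := by
    intro h
    have := congrFun h j0
    simp only [hcolAt, Pi.zero_apply] at this
    rw [hj0, evalP_one] at this
    exact one_ne_zero this
  exact exists_orders (hcolAt P Ht φ'') hc0' hspan'

/-- Orders of a projective map are bounded by its degree. -/
theorem orders_le_deg [IsAlgClosed k] (hK : IsFunctionField k K) {n : ℕ} (φ : Fin (n + 1) → K)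
    (hφ : LinearIndependent k φ) (s : K) (H : K →ₐ[k] K⟦X⟧) (hH : LocRes.IsHasseFamily s H)
    (J : Fin n → ℕ) (hJ : IsOrders K (hcol (AlgHom.id k K) H φ) J) :
    ∀ l, (J l : ℤ) ≤ (mapDiv k φ).deg := by
  classical
  intro l
  obtain ⟨P⟩ := exists_place hK
  obtain ⟨Φ, hΦ⟩ := exists_expansions hK
  obtain ⟨t, Ht, y, hy0, ht, hHt, hli, hnorm, heff, ⟨j0, hj0⟩, hJ'', hinv⟩ :=
    exists_local_setup' hK φ hφ (AlgHom.id k K) s H hH J hJ Φ hΦ P
  set φ'' : Fin (n + 1) → K := fun i => y * φ i with hφ''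
  have hj0 : φ'' j0 = 1 := hj0
  obtain ⟨J', hJ'⟩ := exists_ordersAt hK P φ'' hli hnorm ⟨j0, hj0⟩ t ht Ht hHt
  have hle := (main12608 hK P φ'' hli heff hnorm t ht Ht hHt J hJ'' J' hJ' Φ hΦ).1 l
  have h1 := ordersAt_le_deg hK P φ'' hli hnorm ⟨j0, hj0⟩ t ht Ht hHt J' hJ' l
  have hdeg'' : (mapDiv k φ'').deg = (mapDiv k φ).deg := by
    rw [hφ'', mapDiv_smul hK φ (fun i => hφ.ne_zero i) y hy0, Divisor.deg_sub, deg_div hK,
      sub_zero]
  rw [hdeg''] at h1
  have : (J l : ℤ) ≤ J' l := by exact_mod_cast hle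
  omega

end Groth.Agent.Helper27.WPt
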