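import Mathlib
import Groth.Agent.Lib.Helper27.WPtB
import Groth.Agent.S12601

set_option autoImplicit false

namespace Groth.Agent.Helper27.WPt

open PowerSeries FunFld IntermediateField
open scoped LaurentSeries
open Groth.Agent.Helper16.FF Groth.Agent.Helper27.Hasse Groth.Agent.Helper27.Expn
  Groth.Agent.Helper27.Loc Groth.Agent.Helper27.SFix

variable {k K : Type*} [Field k] [Field K] [Algebra k K]

theorem char_toNat {p : ℕ} {d : ℤ} (h : p = 0 ∨ d < p) : p = 0 ∨ d.toNat < p := by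
  rcases Nat.eq_zero_or_pos p with h0 | hp
  · exact Or.inl h0
  · rcases h with h | h
    · exact Or.inl h
    · right; omega

theorem exists_orders_hcol [IsAlgClosed k] (hK : IsFunctionField k K) {n : ℕ}
    (φ : Fin (n + 1) → K) (hφ : LinearIndependent k φ) (τ : K →ₐ[k] K) (s : K)
    (H : K →ₐ[k] K⟦X⟧) (hH : LocRes.IsHasseFamily s H) :
    ∃ J : Fin n → ℕ, IsOrders K (hcol τ H φ) J := by
  have h1 := finrank_kaehler_of_isAlgClosed hK
  have hc0 : hcol τ H φ 0 ≠ 0 := by
    intro h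
    have := congrFun h 0
    simp only [hcol, Pi.zero_apply] at this
    exact hφ.ne_zero 0 ((map_eq_zero_iff τ τ.injective).1 this)
  exact exists_orders (hcol τ H φ) hc0 (span_hcol_eq_top hK h1 s H hH τ φ hφ)

/-- orders of a map in large characteristic (no birationality needed) -/
theorem isOrders_id_classical [IsAlgClosed k] (hK : IsFunctionField k K) {n : ℕ}
    (φ : Fin (n + 1) → K) (hφ : LinearIndependent k φ)
    (hchar : ringChar k = 0 ∨ (mapDiv k φ).deg < ringChar k)
    (s : K) (H : K →ₐ[k] K⟦X⟧) (hH : LocRes.IsHasseFamily s H) :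
    IsOrders K (hcol (AlgHom.id k K) H φ) (fun l : Fin n => (l : ℕ) + 1) := by
  have h1 := finrank_kaehler_of_isAlgClosed hK
  obtain ⟨J, hJ⟩ := exists_orders_hcol hK φ hφ (AlgHom.id k K) s H hH
  have hle := orders_le_deg hK φ hφ s H hH J hJ
  have hB : ∀ l, J l ≤ (mapDiv k φ).deg.toNat := by
    intro l
    have := hle l
    omega
  have hJeq := orders_id_classical h1 s H hH φ J hJ _ hB (char_toNat hchar)
  have : J = fun l : Fin n => (l : ℕ) + 1 := funext hJeq
  rw [← this]
  exact hJ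

theorem main12611 [IsAlgClosed k] (hK : IsFunctionField k K) {n : ℕ}
    (φ : Fin (n + 1) → K) (hφ : LinearIndependent k φ)
    (hchar : ringChar k = 0 ∨ (mapDiv k φ).deg < ringChar k)
    (τ : K →ₐ[k] K) (s : K) (H : K →ₐ[k] K⟦X⟧) (hH : LocRes.IsHasseFamily s H) :
    (τ = AlgHom.id k K → IsOrders K (hcol τ H φ) (fun l : Fin n => (l : ℕ) + 1)) ∧
    (τ ≠ AlgHom.id k K → (∃ P : Place k K, IsStrongFixedPt τ P) →
      IsOrders K (hcol τ H φ) (fun l : Fin n => (l : ℕ))) := by
  classical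
  refine ⟨?_, ?_⟩
  · rintro rfl
    exact isOrders_id_classical hK φ hφ hchar s H hH
  · rintro - ⟨P, hP⟩
    obtain ⟨J, hJ⟩ := exists_orders_hcol hK φ hφ τ s H hH
    obtain ⟨Φ, hΦ⟩ := exists_expansions hK
    obtain ⟨t, Ht, y, hy0, ht, hHt, hli, hnorm, heff, ⟨j0, hj0⟩, hJ'', hinv⟩ :=
      exists_local_setup' hK φ hφ τ s H hH J hJ Φ hΦ P
    set φ'' : Fin (n + 1) → K := fun i => y * φ i with hφ''
    have hj0 : φ'' j0 = 1 := hj0
    obtain ⟨J', hJ'⟩ := exists_ordersAt hK P φ'' hli hnorm ⟨j0, hj0⟩ t ht Ht hHt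
    have hdeg'' : (mapDiv k φ'').deg = (mapDiv k φ).deg := by
      rw [hφ'', mapDiv_smul hK φ (fun i => hφ.ne_zero i) y hy0, Divisor.deg_sub, deg_div hK,
        sub_zero]
    have hB' : ∀ l, J' l ≤ (mapDiv k φ).deg.toNat := by
      intro l
      have := ordersAt_le_deg hK P φ'' hli hnorm ⟨j0, hj0⟩ t ht Ht hHt J' hJ' l
      rw [hdeg''] at this
      omega
    have hfix : IsFixedPt τ P := fun z hz =>
      lt_of_le_of_lt (hP z hz) (by rw [← WithZero.exp_zero, WithZero.exp_lt_exp]; norm_num)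
    have hI : StrictMono (fun l : Fin n => (l : ℕ)) := fun a b h => h
    have h05 := main12605 hK τ P hfix φ'' hli heff hnorm t ht Ht hHt J' hJ'
      (fun l : Fin n => (l : ℕ))
    have hbin := det_binomMat_range_ne_zero k J' hJ'.1 _ hB' (char_toNat hchar)
    have hval := ((h05.2 (Or.inr hP)).2 hbin)
    have hdet : (wrMat τ Ht φ'' (fun l : Fin n => (l : ℕ))).det ≠ 0 := by
      intro h0
      rw [h0, map_zero] at hval
      exact WithZero.exp_ne_zero hval.symm
    have hle := Groth.Agent.S12601.result k K hK φ'' hli τ t Ht hHt J hJ''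
      (fun l : Fin n => (l : ℕ)) hI hdet
    have hJeq : ∀ l : Fin n, J l = (l : ℕ) := by
      intro l
      have hnpos : 0 < n := by have := l.2; omega
      have h1 := strictMono_add_le J hJ.1 (l : ℕ) ⟨0, hnpos⟩ l (by simp)
      have h2 : J l ≤ (l : ℕ) := hle l
      omega
    have : J = fun l : Fin n => (l : ℕ) := funext hJeq
    rw [← this]
    exact hJ

end Groth.Agent.Helper27.WPt
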