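import Mathlib
import Groth.Agent.Lib.Helper27.WPtC
import Groth.Agent.Lib.Helper27.LocI

set_option autoImplicit false

namespace Groth.Agent.Helper27.WPt

open PowerSeries FunFld IntermediateField
open scoped LaurentSeries
open Groth.Agent.Helper16.FF Groth.Agent.Helper27.Hasse Groth.Agent.Helper27.Expn
  Groth.Agent.Helper27.Loc Groth.Agent.Helper27.SFix

variable {k K : Type*} [Field k] [Field K] [Algebra k K]

theorem genus_eq_of_span (hK : IsFunctionField k K) (C : Divisor k K) (hC : IsCanonical k K C)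
    {n : ℕ} (φ : Fin (n + 1) → K) (hφ : LinearIndependent k φ)
    (hspan : Submodule.span k (Set.range φ) = L C) : genus k K = n + 1 := by
  have h1 := (canonical_ell_deg hK hC).1
  have h2 : ell C = n + 1 := by
    unfold ell
    rw [← hspan, finrank_span_eq_card hφ]; simp
  omega

theorem mapDiv_le_canonical (hK : IsFunctionField k K) (C : Divisor k K)
    {n : ℕ} (φ : Fin (n + 1) → K) (hφ : LinearIndependent k φ)
    (hspan : Submodule.span k (Set.range φ) = L C) : mapDiv k φ ≤ C := by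
  intro P
  obtain ⟨j, hj⟩ := exists_val_eq_exp_mapDiv hK φ (fun i => hφ.ne_zero i) P
  have hmem : φ j ∈ L C := by rw [← hspan]; exact Submodule.subset_span ⟨j, rfl⟩
  have := hmem P
  rw [hj, WithZero.exp_le_exp] at this
  exact this

theorem isGap_one [IsAlgClosed k] (hK : IsFunctionField k K) (hg : 1 ≤ genus k K)
    (P : Place k K) : IsGap P 1 := by
  classical
  have hP : P.deg = 1 := Place.deg_eq_one hK P
  have := le_gapCount hK hP 1 le_rfl hg
  unfold gapCount at this
  by_contra hng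
  have hempty : (Finset.Icc 1 (2 * 1 - 1)).filter (IsGap P) = ∅ := by
    rw [Finset.filter_eq_empty_iff]
    intro m hm
    rw [Finset.mem_Icc] at hm
    have : m = 1 := by omega
    rw [this]; exact hng
  rw [hempty, Finset.card_empty] at this
  omega

/-- the canonical map has no base points -/
theorem mapDiv_eq_canonical [IsAlgClosed k] (hK : IsFunctionField k K) (C : Divisor k K)
    (hC : IsCanonical k K C) {n : ℕ} (φ : Fin (n + 1) → K) (hφ : LinearIndependent k φ)
    (hspan : Submodule.span k (Set.range φ) = L C) : mapDiv k φ = C := by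
  have hg : 1 ≤ genus k K := by rw [genus_eq_of_span hK C hC φ hφ hspan]; omega
  apply le_antisymm (mapDiv_le_canonical hK C φ hφ hspan)
  intro P
  obtain ⟨f, hf, hfP⟩ := (exists_val_eq_iff_isGap hK hC P 0).2 (isGap_one hK hg P)
  simp only [Nat.cast_zero, sub_zero] at hfP
  rw [← WithZero.exp_le_exp, ← hfP]
  rw [← hspan] at hf
  obtain ⟨c, hc⟩ := (Submodule.mem_span_range_iff_exists_fun k).1 hf
  rw [← hc]
  apply Valuation.map_sum_le
  intro i _
  exact (Place.val_smul_le P (c i) (φ i)).trans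
    (val_le_exp_mapDiv hK φ (fun i => hφ.ne_zero i) P i)

/-- local analysis of the canonical Weierstrass divisor in classical characteristic -/
theorem weight_at [IsAlgClosed k] (hK : IsFunctionField k K)
    (hchar : ringChar k = 0 ∨ 2 * genus k K - 2 < ringChar k)
    (C : Divisor k K) (hC : IsCanonical k K C)
    {n : ℕ} (φ : Fin (n + 1) → K) (hφ : LinearIndependent k φ)
    (hspan : Submodule.span k (Set.range φ) = L C)
    (s : K) (H : K →ₐ[k] K⟦X⟧) (hH : LocRes.IsHasseFamily s H)
    (J : Fin n → ℕ) (hJ : IsOrders K (hcol (AlgHom.id k K) H φ) J)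
    (hJeq : ∀ l : Fin n, J l = (l : ℕ) + 1)
    (Φ : Place k K → (K →ₐ[k] LaurentSeries k))
    (hΦ : ∀ P : Place k K, LocRes.IsExpansionAt P.1 (Φ P)) (P : Place k K) :
    ∃ J' : Fin n → ℕ, StrictMono J' ∧ (∀ l : Fin n, J' l ≤ 2 * (l : ℕ) + 2) ∧
      (∀ l : Fin n, (l : ℕ) + 1 ≤ J' l) ∧
      wDiv (AlgHom.id k K) H Φ s φ J P = ∑ l : Fin n, ((J' l : ℤ) - (((l : ℕ) : ℤ) + 1)) ∧
      (∀ j, 1 ≤ j → (j ∈ Set.range J' ↔ IsGap P (j + 1))) := by
  classical
  have hgen := genus_eq_of_span hK C hC φ hφ hspan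
  have hP : P.deg = 1 := Place.deg_eq_one hK P
  obtain ⟨t, Ht, y, hy0, ht, hHt, hli, hnorm, heff, ⟨j0, hj0⟩, hJ'', hinv⟩ :=
    exists_local_setup' hK φ hφ (AlgHom.id k K) s H hH J hJ Φ hΦ P
  set φ'' : Fin (n + 1) → K := fun i => y * φ i with hφ''
  have hj0 : φ'' j0 = 1 := hj0
  obtain ⟨J', hJ'⟩ := exists_ordersAt hK P φ'' hli hnorm ⟨j0, hj0⟩ t ht Ht hHt
  have hpos' := orders_pos hK P φ'' hnorm t ht Ht hHt J' hJ'
  have hsm : (y • φ) = φ'' := rfl
  have hgapiff : ∀ j, 1 ≤ j → (j ∈ Set.range J' ↔ IsGap P (j + 1)) := by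
    intro j hj
    rw [hJ'.2 j]
    have h09 := main12609 hK C hC φ hφ hspan P y hy0 (by rw [hsm]; exact heff) hnorm t ht Ht hHt
      j hj
    rw [hsm] at h09
    rw [h09]
    unfold IsGap
    have e1 : (((j + 1 : ℕ) : ℤ)) = (j : ℤ) + 1 := by push_cast; ring
    have e2 : (((j + 1 : ℕ) : ℤ)) - 1 = (j : ℤ) := by push_cast; ring
    rw [e2, e1]
  have hlow : ∀ l : Fin n, (l : ℕ) + 1 ≤ J' l := by
    intro l
    have hnpos : 0 < n := by have := l.2; omega
    have h1 := strictMono_add_le J' hJ'.1 (l : ℕ) ⟨0, hnpos⟩ l (by simp)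
    have h2 := hpos' ⟨0, hnpos⟩
    omega
  have hup : ∀ l : Fin n, J' l ≤ 2 * (l : ℕ) + 2 := by
    intro l
    by_contra hcon
    push Not at hcon
    have hl := l.2
    have h := le_gapCount hK hP ((l : ℕ) + 2) (by omega) (by omega)
    have e : 2 * ((l : ℕ) + 2) - 1 = 2 * (l : ℕ) + 3 := by omega
    rw [e] at h
    unfold gapCount at h
    set f : ℕ → ℕ := fun l' => if h : l' < n then J' ⟨l', h⟩ + 1 else 0 with hf
    have hsub : (Finset.Icc 1 (2 * (l : ℕ) + 3)).filter (IsGap P) ⊆
        insert 1 (Finset.image f (Finset.range (l : ℕ))) := by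
      intro m hm
      rw [Finset.mem_filter, Finset.mem_Icc] at hm
      obtain ⟨⟨hm1, hm2⟩, hmg⟩ := hm
      rw [Finset.mem_insert]
      rcases (show m = 1 ∨ 2 ≤ m by omega) with h1 | h2
      · exact Or.inl h1
      · right
        have hmg' : IsGap P ((m - 1) + 1) := by
          have : m - 1 + 1 = m := by omega
          rw [this]; exact hmg
        obtain ⟨l', hl'⟩ := (hgapiff (m - 1) (by omega)).2 hmg'
        have hlt : l' < l := by
          rw [← hJ'.1.lt_iff_lt, hl']
          omega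
        rw [Finset.mem_image]
        refine ⟨(l' : ℕ), Finset.mem_range.2 hlt, ?_⟩
        simp only [hf, dif_pos l'.2, Fin.eta, hl']
        omega
    have hcard := Finset.card_le_card hsub
    have h2 : (insert 1 (Finset.image f (Finset.range (l : ℕ)))).card ≤ (l : ℕ) + 1 := by
      refine (Finset.card_insert_le _ _).trans ?_
      have := Finset.card_image_le (s := Finset.range (l : ℕ)) (f := f)
      rw [Finset.card_range] at this
      omega
    omega
  refine ⟨J', hJ'.1, hup, hlow, ?_, hgapiff⟩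
  -- the coefficient of the Weierstrass divisor
  have hfix : IsFixedPt (AlgHom.id k K) P := fun z hz => hz
  have h15 := main12615 hK (AlgHom.id k K) P hfix φ'' hli heff hnorm t ht Ht hHt J hJ'' J' hJ'
    Φ hΦ
  have hdeg'' : (mapDiv k φ'').deg = (mapDiv k φ).deg := by
    rw [hφ'', mapDiv_smul hK φ (fun i => hφ.ne_zero i) y hy0, Divisor.deg_sub, deg_div hK,
      sub_zero]
  have hdegC : (mapDiv k φ).deg ≤ 2 * (genus k K : ℤ) - 2 := by
    rw [← (canonical_ell_deg hK hC).2]
    exact Divisor.deg_mono (mapDiv_le_canonical hK C φ hφ hspan)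
  have hB' : ∀ l, J' l ≤ 2 * genus k K - 2 := by
    intro l
    have := ordersAt_le_deg hK P φ'' hli hnorm ⟨j0, hj0⟩ t ht Ht hHt J' hJ' l
    rw [hdeg''] at this
    omega
  have hJfun : J = fun l : Fin n => (l : ℕ) + 1 := funext hJeq
  have hbin : (binomMat k J' J).det ≠ 0 := by
    rw [hJfun]
    exact det_binomMat_succ_ne_zero k J' hJ'.1 hpos' _ hB' hchar
  have hW := ((h15.2 (Or.inl rfl)).2 hbin)
  rw [hinv] at hW
  rw [hW]
  refine Finset.sum_congr rfl fun l _ => ?_
  rw [hJeq l]
  push_cast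
  ring

end Groth.Agent.Helper27.WPt
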