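import Mathlib
import Groth.Agent.Lib.Helper27.WPtD

set_option autoImplicit false

namespace Groth.Agent.Helper27.WPt

open PowerSeries FunFld IntermediateField
open scoped LaurentSeries
open Groth.Agent.Helper16.FF Groth.Agent.Helper27.Hasse Groth.Agent.Helper27.Expn
  Groth.Agent.Helper27.Loc Groth.Agent.Helper27.SFix

variable {k K : Type*} [Field k] [Field K] [Algebra k K]

theorem finrank_fieldRange_id : Module.finrank (AlgHom.id k K).fieldRange K = 1 := by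
  have : (AlgHom.id k K).fieldRange = ⊤ :=
    AlgHom.fieldRange_eq_top.2 (fun x => ⟨x, rfl⟩)
  rw [this]
  exact IntermediateField.finrank_top

theorem two_mul_sum_succ (n : ℕ) :
    2 * ∑ l : Fin n, (((l : ℕ) : ℤ) + 1) = (n : ℤ) * ((n : ℤ) + 1) := by
  rw [Finset.sum_add_distrib, mul_add, two_mul_sum_fin]
  simp
  ring

/-- the degree of the canonical Weierstrass divisor -/
theorem deg_wDiv_canonical [IsAlgClosed k] (hK : IsFunctionField k K)
    (C : Divisor k K) (hC : IsCanonical k K C)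
    {n : ℕ} (φ : Fin (n + 1) → K) (hφ : LinearIndependent k φ)
    (hspan : Submodule.span k (Set.range φ) = L C)
    (s : K) (H : K →ₐ[k] K⟦X⟧) (hH : LocRes.IsHasseFamily s H)
    (J : Fin n → ℕ) (hJ : IsOrders K (hcol (AlgHom.id k K) H φ) J)
    (hJeq : ∀ l : Fin n, J l = (l : ℕ) + 1)
    (Φ : Place k K → (K →ₐ[k] LaurentSeries k))
    (hΦ : ∀ P : Place k K, LocRes.IsExpansionAt P.1 (Φ P)) :
    0 ≤ wDiv (AlgHom.id k K) H Φ s φ J ∧
    (wDiv (AlgHom.id k K) H Φ s φ J).deg = (n : ℤ) * ((n : ℤ) + 1) * ((n : ℤ) + 2) := by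
  have hgen := genus_eq_of_span hK C hC φ hφ hspan
  obtain ⟨h0, hdeg⟩ := main12603 hK φ hφ (AlgHom.id k K) s H hH J hJ Φ hΦ
  refine ⟨h0, ?_⟩
  rw [hdeg, finrank_fieldRange_id, mapDiv_eq_canonical hK C hC φ hφ hspan,
    (canonical_ell_deg hK hC).2, hgen]
  have hs : ∑ l, (J l : ℤ) = ∑ l : Fin n, (((l : ℕ) : ℤ) + 1) :=
    Finset.sum_congr rfl fun l _ => by rw [hJeq l]; push_cast; ring
  rw [hs]
  have h2 := two_mul_sum_succ n
  push_cast
  nlinarith [h2]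

/-- weights are at most `g(g-1)/2`, with equality only if `2` is a pole number -/
theorem two_mul_wDiv_le [IsAlgClosed k] (hK : IsFunctionField k K)
    (hchar : ringChar k = 0 ∨ 2 * genus k K - 2 < ringChar k)
    (C : Divisor k K) (hC : IsCanonical k K C)
    {n : ℕ} (hn : 0 < n) (φ : Fin (n + 1) → K) (hφ : LinearIndependent k φ)
    (hspan : Submodule.span k (Set.range φ) = L C)
    (s : K) (H : K →ₐ[k] K⟦X⟧) (hH : LocRes.IsHasseFamily s H)
    (J : Fin n → ℕ) (hJ : IsOrders K (hcol (AlgHom.id k K) H φ) J)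
    (hJeq : ∀ l : Fin n, J l = (l : ℕ) + 1)
    (Φ : Place k K → (K →ₐ[k] LaurentSeries k))
    (hΦ : ∀ P : Place k K, LocRes.IsExpansionAt P.1 (Φ P)) (P : Place k K) :
    2 * wDiv (AlgHom.id k K) H Φ s φ J P ≤ (n : ℤ) * ((n : ℤ) + 1) ∧
    (2 * wDiv (AlgHom.id k K) H Φ s φ J P = (n : ℤ) * ((n : ℤ) + 1) → ¬ IsGap P 2) := by
  obtain ⟨J', hJ'm, hup, hlow, hW, hgap⟩ :=
    weight_at hK hchar C hC φ hφ hspan s H hH J hJ hJeq Φ hΦ P
  have hterm : ∀ l : Fin n, ((J' l : ℤ) - (((l : ℕ) : ℤ) + 1)) ≤ (((l : ℕ) : ℤ) + 1) := by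
    intro l
    have := hup l
    have : (J' l : ℤ) ≤ 2 * ((l : ℕ) : ℤ) + 2 := by exact_mod_cast this
    linarith
  have hsum : ∑ l : Fin n, ((J' l : ℤ) - (((l : ℕ) : ℤ) + 1)) ≤
      ∑ l : Fin n, (((l : ℕ) : ℤ) + 1) := Finset.sum_le_sum fun l _ => hterm l
  have h2 := two_mul_sum_succ n
  refine ⟨by rw [hW]; linarith, ?_⟩
  intro heq
  rw [hW] at heq
  have hsumeq : ∑ l : Fin n, ((J' l : ℤ) - (((l : ℕ) : ℤ) + 1)) =
      ∑ l : Fin n, (((l : ℕ) : ℤ) + 1) := by linarith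
  have hall := (Finset.sum_eq_sum_iff_of_le (fun l _ => hterm l)).1 hsumeq
  have h0 := hall ⟨0, hn⟩ (Finset.mem_univ _)
  simp only [Nat.cast_zero, zero_add] at h0
  have hJ0 : J' ⟨0, hn⟩ = 2 := by
    have : (J' ⟨0, hn⟩ : ℤ) = 2 := by linarith
    exact_mod_cast this
  intro hg2
  obtain ⟨l, hl⟩ := (hgap 1 le_rfl).2 hg2
  have h3 := hlow l
  rcases Nat.eq_zero_or_pos (l : ℕ) with h | h
  · have : l = ⟨0, hn⟩ := Fin.ext h
    rw [this, hJ0] at hl
    omega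
  · omega

/-- the number of Weierstrass points -/
theorem card_support_wDiv [IsAlgClosed k] (hK : IsFunctionField k K)
    (hchar : ringChar k = 0 ∨ 2 * genus k K - 2 < ringChar k)
    (C : Divisor k K) (hC : IsCanonical k K C)
    {n : ℕ} (hn : 0 < n) (φ : Fin (n + 1) → K) (hφ : LinearIndependent k φ)
    (hspan : Submodule.span k (Set.range φ) = L C)
    (s : K) (H : K →ₐ[k] K⟦X⟧) (hH : LocRes.IsHasseFamily s H)
    (J : Fin n → ℕ) (hJ : IsOrders K (hcol (AlgHom.id k K) H φ) J)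
    (hJeq : ∀ l : Fin n, J l = (l : ℕ) + 1)
    (Φ : Place k K → (K →ₐ[k] LaurentSeries k))
    (hΦ : ∀ P : Place k K, LocRes.IsExpansionAt P.1 (Φ P)) :
    2 * n + 4 ≤ (wDiv (AlgHom.id k K) H Φ s φ J).support.card ∧
    ((wDiv (AlgHom.id k K) H Φ s φ J).support.card = 2 * n + 4 →
      ∀ P ∈ (wDiv (AlgHom.id k K) H Φ s φ J).support, ¬ IsGap P 2) := by
  classical
  set W := wDiv (AlgHom.id k K) H Φ s φ J with hW
  obtain ⟨hW0, hWdeg⟩ := deg_wDiv_canonical hK C hC φ hφ hspan s H hH J hJ hJeq Φ hΦ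
  have hle : ∀ P, 2 * W P ≤ (n : ℤ) * ((n : ℤ) + 1) ∧
      (2 * W P = (n : ℤ) * ((n : ℤ) + 1) → ¬ IsGap P 2) := fun P =>
    two_mul_wDiv_le hK hchar C hC hn φ hφ hspan s H hH J hJ hJeq Φ hΦ P
  have hdeg : W.deg = ∑ P ∈ W.support, W P := by
    rw [Divisor.deg_eq_sum W W.support le_rfl]
    refine Finset.sum_congr rfl fun P _ => ?_
    rw [Place.deg_eq_one hK P]; simp
  have hnn : (0 : ℤ) < (n : ℤ) * ((n : ℤ) + 1) := by
    have : (0 : ℤ) < n := by exact_mod_cast hn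
    positivity
  have hsum : 2 * W.deg ≤ (W.support.card : ℤ) * ((n : ℤ) * ((n : ℤ) + 1)) := by
    rw [hdeg, Finset.mul_sum, ← nsmul_eq_mul, ← Finset.sum_const]
    exact Finset.sum_le_sum fun P _ => (hle P).1
  rw [← hW] at hWdeg
  rw [hWdeg] at hsum
  have hcard : (2 * (n : ℤ) + 4) ≤ (W.support.card : ℤ) := by
    by_contra hlt
    push Not at hlt
    have : (W.support.card : ℤ) ≤ 2 * n + 3 := by omega
    nlinarith
  refine ⟨by exact_mod_cast hcard, ?_⟩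
  intro hc P hP
  apply (hle P).2
  by_contra hne
  have hlt : 2 * W P < (n : ℤ) * ((n : ℤ) + 1) := lt_of_le_of_ne (hle P).1 hne
  have hsum' : 2 * W.deg < (W.support.card : ℤ) * ((n : ℤ) * ((n : ℤ) + 1)) := by
    rw [hdeg, Finset.mul_sum, ← nsmul_eq_mul, ← Finset.sum_const]
    exact Finset.sum_lt_sum (fun P _ => (hle P).1) ⟨P, hP, hlt⟩
  rw [hWdeg, hc] at hsum'
  push_cast at hsum'
  nlinarith

end Groth.Agent.Helper27.WPt
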