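import Mathlib
import Groth.Agent.Lib.Helper27.WPtE
import Groth.Agent.Lib.Helper27.FFRie
import Groth.Agent.Lib.Helper16.FF.Aut

set_option autoImplicit false

namespace Groth.Agent.Helper27.WPt

open PowerSeries FunFld IntermediateField
open scoped LaurentSeries
open Groth.Agent.Helper16.FF Groth.Agent.Helper27.Hasse Groth.Agent.Helper27.Expn
  Groth.Agent.Helper27.Loc Groth.Agent.Helper27.SFix

variable {k K : Type*} [Field k] [Field K] [Algebra k K]

/-- a function with a double pole at `P` and no other pole has degree two -/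
theorem finrank_of_pole_two (hK : IsFunctionField k K) (P : Place k K) (hP : P.deg = 1) {x : K}
    (hx : x ∈ L (Finsupp.single P (2 : ℤ) : Divisor k K)) (hxP : P.1 x = WithZero.exp (2 : ℤ)) :
    Transcendental k x ∧ Module.finrank (IntermediateField.adjoin k ({x} : Set K)) K = 2 := by
  classical
  have hx0 : x ≠ 0 := by
    rintro rfl
    rw [map_zero] at hxP
    exact WithZero.exp_ne_zero hxP.symm
  have htr : Transcendental k x := by
    apply Place.transcendental_of_val_ne_one hK P hx0
    rw [hxP, ← WithZero.exp_zero]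
    intro h
    have := WithZero.exp_injective h
    omega
  refine ⟨htr, ?_⟩
  have hpd : (poleDiv x : Divisor k K) = Finsupp.single P (2 : ℤ) := by
    ext Q
    rw [poleDiv_apply hK]
    by_cases hQ : Q = P
    · subst hQ
      rw [Finsupp.single_eq_same]
      have := (val_eq_exp_iff_ord Q hx0 (-2 : ℤ)).1 (by simpa using hxP)
      rw [this]; norm_num
    · rw [Finsupp.single_apply, if_neg (Ne.symm hQ)]
      have h1 := hx Q
      rw [Finsupp.single_apply, if_neg (Ne.symm hQ), WithZero.exp_zero] at h1
      have := ord_nonneg_of_le_one Q h1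
      omega
  have := deg_poleDiv hK htr
  rw [hpd, Divisor.deg_single, hP] at this
  have h2 : (2 : ℤ) = Module.finrank (IntermediateField.adjoin k ({x} : Set K)) K := by
    simpa using this
  exact_mod_cast h2.symm

theorem exists_deg_two (hK : IsFunctionField k K) (P : Place k K) (hP : P.deg = 1)
    (h2 : ¬ IsGap P 2) :
    ∃ x : K, x ∈ L (Finsupp.single P (2 : ℤ) : Divisor k K) ∧ P.1 x = WithZero.exp (2 : ℤ) ∧
      Transcendental k x ∧ Module.finrank (IntermediateField.adjoin k ({x} : Set K)) K = 2 := by
  obtain ⟨x, hx, hxP⟩ := (not_isGap_iff P 2).1 h2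
  have hx' : x ∈ L (Finsupp.single P (2 : ℤ) : Divisor k K) := by simpa using hx
  have hxP' : P.1 x = WithZero.exp (2 : ℤ) := by simpa using hxP
  obtain ⟨h1, h2⟩ := finrank_of_pole_two hK P hP hx' hxP'
  exact ⟨x, hx', hxP', h1, h2⟩

/-- `L(2P) = k + kx` when `1` is a gap -/
theorem L_two_eq (hK : IsFunctionField k K) (P : Place k K) (hP : P.deg = 1) (hg1 : IsGap P 1)
    {x : K} (hx : x ∈ L (Finsupp.single P (2 : ℤ) : Divisor k K))
    (hxP : P.1 x = WithZero.exp (2 : ℤ)) {z : K}
    (hz : z ∈ L (Finsupp.single P (2 : ℤ) : Divisor k K)) :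
    ∃ a b : k, z = algebraMap k K a * x + algebraMap k K b := by
  classical
  have hx0 : x ≠ 0 := by
    rintro rfl
    rw [map_zero] at hxP
    exact WithZero.exp_ne_zero hxP.symm
  have hzP := hz P
  rw [Finsupp.single_eq_same] at hzP
  have hq : P.1 (z / x) ≤ 1 := by
    rw [map_div₀, hxP, div_le_iff₀ (WithZero.exp_pos), one_mul]
    exact hzP
  obtain ⟨a, ha⟩ := exists_const_sub_lt_one hK hP hq
  have hmem : z - algebraMap k K a * x ∈ L (Finsupp.single P ((1 : ℕ) : ℤ) : Divisor k K) := by
    intro Q
    by_cases hQ : Q = P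
    · subst hQ
      rw [Finsupp.single_eq_same]
      have e : z - algebraMap k K a * x = (z / x - algebraMap k K a) * x := by
        field_simp
      rw [e, map_mul, hxP]
      have hlt : Q.1 (z / x - algebraMap k K a) ≤ WithZero.exp (-1 : ℤ) := by
        by_cases h0 : z / x - algebraMap k K a = 0
        · rw [h0, map_zero]; exact zero_le
        · rw [Place.val_lt_one_iff Q h0] at ha
          rw [Place.val_le_exp_iff Q h0]
          omega
      calc Q.1 (z / x - algebraMap k K a) * WithZero.exp (2 : ℤ)
          ≤ WithZero.exp (-1 : ℤ) * WithZero.exp (2 : ℤ) := mul_le_mul_left hlt _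
        _ = WithZero.exp ((1 : ℕ) : ℤ) := by rw [← WithZero.exp_add]; norm_num
    · rw [Finsupp.single_apply, if_neg (Ne.symm hQ), WithZero.exp_zero]
      have h1 := hz Q
      rw [Finsupp.single_apply, if_neg (Ne.symm hQ), WithZero.exp_zero] at h1
      have h2 := hx Q
      rw [Finsupp.single_apply, if_neg (Ne.symm hQ), WithZero.exp_zero] at h2
      refine (Valuation.map_sub _ _ _).trans (max_le h1 ?_)
      rw [map_mul]
      exact mul_le_one' (Q.2.1 a) h2
  have hg1' : L (Finsupp.single P ((1 : ℕ) : ℤ) : Divisor k K) = L (0 : Divisor k K) := by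
    have := hg1
    unfold IsGap at this
    rw [this]
    congr 1
    simp
  rw [hg1', L_zero_eq_one hK, Submodule.mem_one] at hmem
  obtain ⟨b, hb⟩ := hmem
  exact ⟨a, b, by rw [hb]; ring⟩

end Groth.Agent.Helper27.WPt
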