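import Mathlib
import Groth.Agent.Lib.Helper27.WPtF

set_option autoImplicit false

namespace Groth.Agent.Helper27.WPt

open PowerSeries FunFld IntermediateField
open scoped LaurentSeries
open Groth.Agent.Helper16.FF Groth.Agent.Helper27.Hasse Groth.Agent.Helper27.Expn
  Groth.Agent.Helper27.Loc Groth.Agent.Helper27.SFix

variable {k K : Type*} [Field k] [Field K] [Algebra k K]

theorem comapAut_injective (σ : K ≃ₐ[k] K) {Q Q' : Place k K}
    (h : Place.comapAut σ Q = Place.comapAut σ Q') : Q = Q' := by
  apply Place.ext'
  intro w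
  have := congrArg (fun R : Place k K => R.1 (σ.symm w)) h
  simp only [Place.comapAut_apply, σ.apply_symm_apply] at this
  exact this

/-- the subfield fixed by an automorphism -/
def fixedBy (σ : K ≃ₐ[k] K) : IntermediateField k K where
  carrier := {y | σ y = y}
  mul_mem' := fun {a b} ha hb => by
    show σ (a * b) = a * b
    rw [map_mul, ha, hb]
  add_mem' := fun {a b} ha hb => by
    show σ (a + b) = a + b
    rw [map_add, ha, hb]
  algebraMap_mem' := fun c => σ.commutes c
  inv_mem' := fun a ha => by
    show σ a⁻¹ = a⁻¹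
    rw [map_inv₀, ha]

theorem adjoin_sub_const (x : K) (c : k) :
    IntermediateField.adjoin k ({x - algebraMap k K c} : Set K) =
      IntermediateField.adjoin k ({x} : Set K) := by
  apply le_antisymm
  · rw [adjoin_simple_le_iff]
    exact sub_mem (mem_adjoin_simple_self k x) (IntermediateField.algebraMap_mem _ c)
  · rw [adjoin_simple_le_iff]
    have h1 := mem_adjoin_simple_self k (x - algebraMap k K c)
    have h2 : algebraMap k K c ∈ IntermediateField.adjoin k ({x - algebraMap k K c} : Set K) :=
      IntermediateField.algebraMap_mem _ c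
    have := add_mem h1 h2
    rwa [sub_add_cancel] at this

/-- fixing a place with a degree-two function: one direction -/
theorem isFixedPt_of_fixed_deg_two (hK : IsFunctionField k K) (hg : 2 ≤ genus k K)
    (σ : K ≃ₐ[k] K) {x : K}
    (hx2 : Module.finrank (IntermediateField.adjoin k ({x} : Set K)) K = 2) (hσ : σ x = x)
    (Q : Place k K) (hQ : Q.deg = 1) (h2 : ¬ IsGap Q 2) :
    IsFixedPt (σ : K →ₐ[k] K) Q := by
  classical
  obtain ⟨xQ, hxQ, hxQv, -, hxQ2⟩ := exists_deg_two hK Q hQ h2
  have heq := Groth.Agent.Helper27.FFRie.eq_of_finrank_two hK hg x xQ hx2 hxQ2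
  have hle : IntermediateField.adjoin k ({x} : Set K) ≤ fixedBy σ := by
    rw [adjoin_simple_le_iff]
    exact hσ
  have hfx : σ xQ = xQ := hle (heq ▸ mem_adjoin_simple_self k xQ)
  have hQ' : Place.comapAut σ Q = Q := by
    by_contra hne
    have h1 := hxQ (Place.comapAut σ Q)
    rw [Finsupp.single_apply, if_neg (Ne.symm hne), WithZero.exp_zero,
      Place.comapAut_apply, hfx, hxQv, ← WithZero.exp_zero, WithZero.exp_le_exp] at h1
    omega
  intro z hz
  show Q.1 (σ z) < 1
  rw [← Place.comapAut_apply, hQ']
  exact hz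

theorem main12618 [IsAlgClosed k] (hK : IsFunctionField k K) (hg : 1 < genus k K)
    (hchar : ringChar k = 0 ∨ 2 * genus k K - 2 < ringChar k)
    (C : Divisor k K) (hC : IsCanonical k K C)
    {n : ℕ} (φ : Fin (n + 1) → K) (hφ : LinearIndependent k φ)
    (hspan : Submodule.span k (Set.range φ) = L C)
    (s : K) (H : K →ₐ[k] K⟦X⟧) (hH : LocRes.IsHasseFamily s H)
    (J : Fin n → ℕ) (hJ : IsOrders K (hcol (AlgHom.id k K) H φ) J)
    (Φ : Place k K → (K →ₐ[k] LaurentSeries k))
    (hΦ : ∀ P : Place k K, LocRes.IsExpansionAt P.1 (Φ P)) :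
    (2 * genus k K + 2 < Set.ncard {P : Place k K | wDiv (AlgHom.id k K) H Φ s φ J P ≠ 0} ∧
      ∀ σ : K ≃ₐ[k] K, (∀ P : Place k K, wDiv (AlgHom.id k K) H Φ s φ J P ≠ 0 →
        IsFixedPt (σ : K →ₐ[k] K) P) → σ = AlgEquiv.refl) ∨
    (Set.ncard {P : Place k K | wDiv (AlgHom.id k K) H Φ s φ J P ≠ 0} = 2 * genus k K + 2 ∧
      ∃ x : K, Module.finrank (IntermediateField.adjoin k ({x} : Set K)) K = 2 ∧
        ∀ σ : K ≃ₐ[k] K, (∀ P : Place k K, wDiv (AlgHom.id k K) H Φ s φ J P ≠ 0 →
          IsFixedPt (σ : K →ₐ[k] K) P) ↔ σ x = x) := by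
  classical
  have hgen := genus_eq_of_span hK C hC φ hφ hspan
  have hn : 0 < n := by omega
  have h1 := finrank_kaehler_of_isAlgClosed hK
  have hg1 : 1 ≤ genus k K := by omega
  -- classical orders
  have hdegC : (mapDiv k φ).deg ≤ 2 * (genus k K : ℤ) - 2 := by
    rw [← (canonical_ell_deg hK hC).2]
    exact Divisor.deg_mono (mapDiv_le_canonical hK C φ hφ hspan)
  have hB : ∀ l, J l ≤ 2 * genus k K - 2 := by
    intro l
    have := orders_le_deg hK φ hφ s H hH J hJ l
    omega
  have hJeq := orders_id_classical h1 s H hH φ J hJ _ hB hchar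
  set W := wDiv (AlgHom.id k K) H Φ s φ J with hW
  have hset : {P : Place k K | W P ≠ 0} = ↑W.support := by
    ext P
    simp only [Set.mem_ofPred_eq, Finset.mem_coe, Finsupp.mem_support_iff]
  have hncard : Set.ncard {P : Place k K | W P ≠ 0} = W.support.card := by
    rw [hset, Set.ncard_coe_finset]
  obtain ⟨hcard, hhyp⟩ :=
    card_support_wDiv hK hchar C hC hn φ hφ hspan s H hH J hJ hJeq Φ hΦ
  rw [← hW] at hcard hhyp
  rw [hncard]
  rcases lt_or_eq_of_le hcard with hlt | heq
  · left
    refine ⟨by omega, ?_⟩
    intro σ hσ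
    have : σ = 1 := by
      apply aut_eq_one hK σ
      have hsub : (↑W.support : Set (Place k K)) ⊆
          {P : Place k K | ∀ x : K, P.1 x < 1 → P.1 (σ x) < 1} := by
        intro P hP
        rw [Finset.mem_coe, Finsupp.mem_support_iff] at hP
        exact hσ P hP
      refine lt_of_lt_of_le ?_ (Set.encard_le_encard hsub)
      rw [Set.encard_coe_eq_coe_finsetCard]
      exact_mod_cast (show 2 * genus k K + 2 < W.support.card by omega)
    exact this
  · right
    refine ⟨by omega, ?_⟩
    have hhyp' := hhyp heq.symm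
    have hne : W.support.Nonempty := by
      rw [← Finset.card_pos]; omega
    obtain ⟨P₁, hP₁⟩ := hne
    have hP₁deg : P₁.deg = 1 := Place.deg_eq_one hK P₁
    obtain ⟨x, hx, hxv, hxtr, hx2⟩ := exists_deg_two hK P₁ hP₁deg (hhyp' P₁ hP₁)
    refine ⟨x, hx2, fun σ => ⟨?_, ?_⟩⟩
    · intro hσ
      -- `σ` fixes `P₁`
      have hP₁' : Place.comapAut σ P₁ = P₁ :=
        Place.comapAut_eq_of_fixed σ P₁ (hσ P₁ (Finsupp.mem_support_iff.1 hP₁))
      have hσx : σ x ∈ L (Finsupp.single P₁ (2 : ℤ) : Divisor k K) := by
        intro Q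
        rw [← Place.comapAut_apply]
        by_cases hQ : Q = P₁
        · subst hQ
          rw [hP₁']
          exact hx Q
        · have hne' : Place.comapAut σ Q ≠ P₁ := by
            intro h
            apply hQ
            apply comapAut_injective σ
            rw [h, hP₁']
          have := hx (Place.comapAut σ Q)
          rw [Finsupp.single_apply, if_neg (Ne.symm hne')] at this
          rw [Finsupp.single_apply, if_neg (Ne.symm hQ)]
          exact this
      obtain ⟨a, b, hab⟩ := L_two_eq hK P₁ hP₁deg (isGap_one hK hg1 P₁) hx hxv hσx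
      -- the other Weierstrass points
      set S' := W.support.erase P₁ with hS'
      have hS'card : S'.card = 2 * n + 3 := by
        rw [hS', Finset.card_erase_of_mem hP₁]; omega
      have hQprop : ∀ Q ∈ S', ∃ c : k, Q.1 (x - algebraMap k K c) < 1 ∧ c = a * c + b := by
        intro Q hQ
        rw [hS', Finset.mem_erase] at hQ
        obtain ⟨hQne, hQW⟩ := hQ
        have hQx : Q.1 x ≤ 1 := by
          have := hx Q
          rwa [Finsupp.single_apply, if_neg (Ne.symm hQne), WithZero.exp_zero] at this
        obtain ⟨c, hc⟩ := exists_const_sub_lt_one hK (Place.deg_eq_one hK Q) hQx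
        refine ⟨c, hc, ?_⟩
        have hfix := hσ Q (Finsupp.mem_support_iff.1 hQW) _ hc
        have e1 : (σ : K →ₐ[k] K) (x - algebraMap k K c) =
            algebraMap k K a * (x - algebraMap k K c) + algebraMap k K (a * c + b - c) := by
          show σ (x - algebraMap k K c) = _
          rw [map_sub, σ.commutes, hab]
          simp only [map_add, map_mul, map_sub]
          ring
        rw [e1] at hfix
        have h2 : Q.1 (algebraMap k K a * (x - algebraMap k K c)) < 1 := by
          rw [map_mul]
          exact lt_of_le_of_lt (mul_le_of_le_one_left' (Q.2.1 a)) hc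
        have h3 : Q.1 (algebraMap k K (a * c + b - c)) < 1 := by
          have e : algebraMap k K (a * c + b - c) =
              (algebraMap k K a * (x - algebraMap k K c) + algebraMap k K (a * c + b - c)) -
                algebraMap k K a * (x - algebraMap k K c) := by ring
          rw [e]
          exact lt_of_le_of_lt (Valuation.map_sub _ _ _) (max_lt hfix h2)
        by_contra hne
        have hne' : a * c + b - c ≠ 0 := fun h => hne (by linear_combination -h)
        rw [Place.val_algebraMap Q hne'] at h3
        exact lt_irrefl _ h3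
      by_cases ha : a = 1
      · subst ha
        have hb : b = 0 := by
          have hS'ne : S'.Nonempty := by rw [← Finset.card_pos]; omega
          obtain ⟨Q, hQ⟩ := hS'ne
          obtain ⟨c, -, hc⟩ := hQprop Q hQ
          linear_combination -hc
        rw [hab, hb]; simp
      · exfalso
        have ha' : (1 - a) ≠ 0 := sub_ne_zero.2 (Ne.symm ha)
        set c₀ := b / (1 - a) with hc₀
        have hall : ∀ Q ∈ S', Q.1 (x - algebraMap k K c₀) < 1 := by
          intro Q hQ
          obtain ⟨c, hc1, hc2⟩ := hQprop Q hQ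
          have : c = c₀ := by
            rw [hc₀, eq_div_iff ha']
            linear_combination hc2
          rw [← this]; exact hc1
        have hS'ne : S'.Nonempty := by rw [← Finset.card_pos]; omega
        obtain ⟨Q₀, hQ₀⟩ := hS'ne
        have hne0 : x - algebraMap k K c₀ ≠ 0 := by
          intro h
          apply hxtr
          rw [sub_eq_zero] at h
          rw [h]
          exact isAlgebraic_algebraMap c₀
        have htr := transcendental_of_zero hK hne0 (hall Q₀ hQ₀)
        have := card_zeros_le hK htr S' hall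
        rw [adjoin_sub_const, hx2, hS'card] at this
        omega
    · intro hσ P hP
      have hPs : P ∈ W.support := Finsupp.mem_support_iff.2 hP
      exact isFixedPt_of_fixed_deg_two hK (by omega) σ hx2 hσ P (Place.deg_eq_one hK P)
        (hhyp' P hPs)

end Groth.Agent.Helper27.WPt
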