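import Mathlib
import Groth.Agent.Lib.Helper27.WPtG

set_option autoImplicit false

namespace Groth.Agent.Helper27.WPt

open PowerSeries FunFld IntermediateField
open scoped LaurentSeries
open Groth.Agent.Helper16.FF Groth.Agent.Helper27.Hasse Groth.Agent.Helper27.Expn
  Groth.Agent.Helper27.Loc Groth.Agent.Helper27.SFix

variable {k K : Type*} [Field k] [Field K] [Algebra k K]

theorem not_isGap_comapAut (σ : K ≃ₐ[k] K) (P : Place k K) (m : ℕ) (h : ¬ IsGap P m) :
    ¬ IsGap (Place.comapAut σ P) m := by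
  classical
  rw [not_isGap_iff] at h ⊢
  obtain ⟨x, hx, hxP⟩ := h
  refine ⟨σ.symm x, ?_, ?_⟩
  · intro Q
    by_cases hQ : Q = Place.comapAut σ P
    · subst hQ
      rw [Finsupp.single_eq_same, Place.comapAut_apply, σ.apply_symm_apply, hxP]
    · rw [Finsupp.single_apply, if_neg (Ne.symm hQ), WithZero.exp_zero]
      have hne : Place.comapAut σ.symm Q ≠ P := by
        intro h
        apply hQ
        rw [← h]
        exact (Place.comapAut_symm σ Q).symm
      have := hx (Place.comapAut σ.symm Q)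
      rw [Finsupp.single_apply, if_neg (Ne.symm hne), WithZero.exp_zero,
        Place.comapAut_apply] at this
      exact this
  · rw [Place.comapAut_apply, σ.apply_symm_apply, hxP]

theorem isGap_comapAut (σ : K ≃ₐ[k] K) (P : Place k K) (m : ℕ) :
    IsGap (Place.comapAut σ P) m ↔ IsGap P m := by
  constructor
  · intro h
    by_contra hn
    exact not_isGap_comapAut σ P m hn h
  · intro h
    by_contra hn
    have := not_isGap_comapAut σ.symm (Place.comapAut σ P) m hn
    have e : Place.comapAut σ.symm (Place.comapAut σ P) = P := by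
      have := Place.comapAut_symm σ.symm P
      rwa [AlgEquiv.symm_symm] at this
    rw [e] at this
    exact this h

/-- the Weierstrass weight is invariant under automorphisms -/
theorem wDiv_comapAut [IsAlgClosed k] (hK : IsFunctionField k K)
    (hchar : ringChar k = 0 ∨ 2 * genus k K - 2 < ringChar k)
    (C : Divisor k K) (hC : IsCanonical k K C)
    {n : ℕ} (φ : Fin (n + 1) → K) (hφ : LinearIndependent k φ)
    (hspan : Submodule.span k (Set.range φ) = L C)
    (s : K) (H : K →ₐ[k] K⟦X⟧) (hH : LocRes.IsHasseFamily s H)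
    (J : Fin n → ℕ) (hJ : IsOrders K (hcol (AlgHom.id k K) H φ) J)
    (hJeq : ∀ l : Fin n, J l = (l : ℕ) + 1)
    (Φ : Place k K → (K →ₐ[k] LaurentSeries k))
    (hΦ : ∀ P : Place k K, LocRes.IsExpansionAt P.1 (Φ P)) (σ : K ≃ₐ[k] K) (P : Place k K) :
    wDiv (AlgHom.id k K) H Φ s φ J (Place.comapAut σ P) = wDiv (AlgHom.id k K) H Φ s φ J P := by
  obtain ⟨J₁, hJ₁m, -, hlow₁, hW₁, hgap₁⟩ :=
    weight_at hK hchar C hC φ hφ hspan s H hH J hJ hJeq Φ hΦ P
  obtain ⟨J₂, hJ₂m, -, hlow₂, hW₂, hgap₂⟩ :=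
    weight_at hK hchar C hC φ hφ hspan s H hH J hJ hJeq Φ hΦ (Place.comapAut σ P)
  have hrange : Set.range J₂ = Set.range J₁ := by
    ext j
    constructor
    · rintro ⟨l, rfl⟩
      have h1 : 1 ≤ J₂ l := by have := hlow₂ l; omega
      have := (hgap₂ (J₂ l) h1).1 ⟨l, rfl⟩
      rw [isGap_comapAut] at this
      exact (hgap₁ (J₂ l) h1).2 this
    · rintro ⟨l, rfl⟩
      have h1 : 1 ≤ J₁ l := by have := hlow₁ l; omega
      have := (hgap₁ (J₁ l) h1).1 ⟨l, rfl⟩
      rw [← isGap_comapAut σ] at this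
      exact (hgap₂ (J₁ l) h1).2 this
  have heq : J₂ = J₁ := (StrictMono.range_inj hJ₂m hJ₁m).1 hrange
  rw [hW₁, hW₂, heq]

/-- automorphisms fixing a degree-two function form a finite set -/
theorem finite_fixing (x : K)
    (hx2 : Module.finrank (IntermediateField.adjoin k ({x} : Set K)) K = 2) :
    {ρ : K ≃ₐ[k] K | ρ x = x}.Finite := by
  set F := IntermediateField.adjoin k ({x} : Set K) with hF
  haveI : FiniteDimensional F K := Module.finite_of_finrank_pos (by rw [hx2]; norm_num)
  have hle : ∀ ρ : K ≃ₐ[k] K, ρ x = x → ∀ y : F, ρ (y : K) = y := by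
    intro ρ hρ y
    have hle : F ≤ fixedBy ρ := by
      rw [hF, adjoin_simple_le_iff]
      exact hρ
    exact hle y.2
  let g : {ρ : K ≃ₐ[k] K | ρ x = x} → (K ≃ₐ[F] K) := fun ρ =>
    { (ρ : K ≃ₐ[k] K).toRingEquiv with
      commutes' := fun y => hle ρ.1 ρ.2 y }
  have hg : Function.Injective g := by
    intro ρ₁ ρ₂ h
    apply Subtype.ext
    apply AlgEquiv.ext
    intro z
    have := congrArg (fun e : K ≃ₐ[F] K => e z) h
    exact this
  have : Finite {ρ : K ≃ₐ[k] K | ρ x = x} := Finite.of_injective g hg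
  exact Set.toFinite _

theorem main11048 [IsAlgClosed k] (hK : IsFunctionField k K) (hg : 1 < genus k K)
    (hp : ringChar k = 0 ∨ 2 * genus k K - 2 < ringChar k) : Finite (K ≃ₐ[k] K) := by
  classical
  obtain ⟨C, hC⟩ := exists_canonical hK
  have hell := (canonical_ell_deg hK hC).1
  obtain ⟨n, hn⟩ : ∃ n, genus k K = n + 1 := ⟨genus k K - 1, by omega⟩
  have hfr : Module.finrank k (L C) = n + 1 := by rw [← hn, ← hell]; rfl
  haveI := finiteDimensional_L hK C
  let b := Module.finBasisOfFinrankEq k (L C) hfr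
  set φ : Fin (n + 1) → K := fun i => (b i : K) with hφdef
  have hφ : LinearIndependent k φ :=
    b.linearIndependent.map' (L C).subtype (Submodule.ker_subtype _)
  have hspan : Submodule.span k (Set.range φ) = L C := by
    have : Set.range φ = (L C).subtype '' Set.range b := by
      rw [← Set.range_comp]; rfl
    rw [this, Submodule.span_image, b.span_eq, Submodule.map_subtype_top]
  obtain ⟨s, H, hH⟩ := exists_hasseFamily hK
  obtain ⟨J, hJ⟩ := exists_orders_hcol hK φ hφ (AlgHom.id k K) s H hH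
  obtain ⟨Φ, hΦ⟩ := exists_expansions hK
  have h1 := finrank_kaehler_of_isAlgClosed hK
  have hB : ∀ l, J l ≤ 2 * genus k K - 2 := by
    intro l
    have := orders_le_deg hK φ hφ s H hH J hJ l
    have hdegC : (mapDiv k φ).deg ≤ 2 * (genus k K : ℤ) - 2 := by
      rw [← (canonical_ell_deg hK hC).2]
      exact Divisor.deg_mono (mapDiv_le_canonical hK C φ hφ hspan)
    omega
  have hJeq := orders_id_classical h1 s H hH φ J hJ _ hB hp
  set W := wDiv (AlgHom.id k K) H Φ s φ J with hW
  set S := W.support with hS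
  have hstab : ∀ (σ : K ≃ₐ[k] K) (P : Place k K), P ∈ S → Place.comapAut σ P ∈ S := by
    intro σ P hP
    rw [hS, Finsupp.mem_support_iff] at hP ⊢
    rw [hW, wDiv_comapAut hK hp C hC φ hφ hspan s H hH J hJ hJeq Φ hΦ σ P]
    exact hP
  -- the kernel of the action is finite
  have hker : {ρ : K ≃ₐ[k] K | ∀ P ∈ S, Place.comapAut ρ P = P}.Finite := by
    have hsub : ∀ ρ : K ≃ₐ[k] K, (∀ P ∈ S, Place.comapAut ρ P = P) →
        ∀ P : Place k K, W P ≠ 0 → IsFixedPt (ρ : K →ₐ[k] K) P := by
      intro ρ hρ P hP z hz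
      show P.1 (ρ z) < 1
      rw [← Place.comapAut_apply, hρ P (Finsupp.mem_support_iff.2 hP)]
      exact hz
    rcases main12618 hK hg hp C hC φ hφ hspan s H hH J hJ Φ hΦ with ⟨-, hA⟩ | ⟨-, x, hx2, hB⟩
    · refine (Set.finite_singleton (AlgEquiv.refl : K ≃ₐ[k] K)).subset ?_
      intro ρ hρ
      exact hA ρ (hsub ρ hρ)
    · refine (finite_fixing x hx2).subset ?_
      intro ρ hρ
      exact (hB ρ).1 (hsub ρ hρ)
  -- the action on the Weierstrass points
  let f : (K ≃ₐ[k] K) → (↥S → ↥S) := fun σ P => ⟨Place.comapAut σ P.1, hstab σ P.1 P.2⟩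
  have hfib : ∀ b : ↥S → ↥S, (f ⁻¹' {b}).Finite := by
    intro b
    by_cases hne : (f ⁻¹' {b}).Nonempty
    swap
    · rw [Set.not_nonempty_iff_eq_empty] at hne
      rw [hne]; exact Set.finite_empty
    obtain ⟨σ₀, hσ₀⟩ := hne
    refine (hker.image (fun ρ => σ₀ * ρ)).subset ?_
    intro τ hτ
    refine ⟨σ₀⁻¹ * τ, ?_, by simp⟩
    intro P hP
    have hfe : f τ = f σ₀ := by
      rw [Set.mem_preimage, Set.mem_singleton_iff] at hτ hσ₀
      rw [hτ, hσ₀]
    -- `P' = σ₀⁻¹ P`
    set P' := Place.comapAut σ₀.symm P with hP'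
    have hP'S : P' ∈ S := hstab σ₀.symm P hP
    have e1 : Place.comapAut σ₀ P' = P := Place.comapAut_symm σ₀ P
    have e2 : Place.comapAut τ P' = Place.comapAut σ₀ P' := by
      have := congrFun hfe ⟨P', hP'S⟩
      exact congrArg Subtype.val this
    apply Place.ext'
    intro z
    rw [Place.comapAut_apply]
    show P.1 (σ₀.symm (τ z)) = P.1 z
    rw [← e1, Place.comapAut_apply, σ₀.apply_symm_apply, ← Place.comapAut_apply, e2,
      Place.comapAut_apply]
  have huniv : (Set.univ : Set (K ≃ₐ[k] K)).Finite := by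
    have := Set.Finite.preimage' (f := f) (Set.finite_univ (α := ↥S → ↥S)) (fun b _ => hfib b)
    simpa using this
  exact Set.finite_univ_iff.1 huniv

end Groth.Agent.Helper27.WPt
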