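import Mathlib

set_option autoImplicit false
universe u v

namespace Groth.Agent.Helper27.WC

open exteriorPower

section
variable {A : Type u} [CommRing A] {ι : Type v} [Fintype ι] [DecidableEq ι]

/-- wedge of n+1 elements in the range of a linear map from A^n vanishes -/
lemma wedge_zero_of_range (n : ℕ) (L : (Fin n → A) →ₗ[A] (ι → A))
    (v : Fin (n + 1) → ι → A) (hv : ∀ k, v k ∈ LinearMap.range L) :
    exteriorPower.ιMulti A (n + 1) v = 0 := by
  rcases subsingleton_or_nontrivial A with hA | hA
  · haveI : Subsingleton (⋀[A]^(n + 1) (ι → A)) := Module.subsingleton A _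
    exact Subsingleton.elim _ _
  choose w hw using hv
  have hvw : v = fun k => L (w k) := funext fun k => (hw k).symm
  rw [hvw]
  change exteriorPower.ιMulti A (n + 1) (L ∘ w) = 0
  rw [← exteriorPower.map_apply_ιMulti]
  have hfr : Module.finrank A (⋀[A]^(n + 1) (Fin n → A)) = 0 := by
    rw [exteriorPower.finrank_eq, Module.finrank_fin_fun]
    exact Nat.choose_succ_self n
  haveI : Subsingleton (⋀[A]^(n + 1) (Fin n → A)) :=
    (Module.finrank_eq_zero_iff_of_free A _).mp hfr
  rw [Subsingleton.elim (exteriorPower.ιMulti A (n + 1) w) 0, map_zero]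

variable (H : Finset ι) (c : ι → ι → A)

/-- the marked vectors -/
def fvec (j : ι) : ι → A := Pi.single j (1 : A) - ∑ i ∈ Hᶜ, c j i • Pi.single i (1 : A)

lemma fvec_apply_mem (j j' : ι) (hj' : j' ∈ H) : fvec H c j j' = if j' = j then 1 else 0 := by
  unfold fvec
  rw [Pi.sub_apply, Finset.sum_apply, Finset.sum_eq_zero, sub_zero, Pi.single_apply]
  intro i hi
  rw [Pi.smul_apply, Pi.single_apply, if_neg, smul_zero]
  rintro rfl
  exact (Finset.mem_compl.mp hi) hj'

theorem main283 (M : Submodule A (ι → A))
    (hf : ∀ j ∈ H, (Pi.single j (1 : A) - ∑ i ∈ Hᶜ, c j i • Pi.single i (1 : A)) ∈ M) :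
    M = Submodule.span A ((fun j => Pi.single j (1 : A) - ∑ i ∈ Hᶜ, c j i • Pi.single i (1 : A)) '' ↑H)
      ↔ ∀ v : Fin (H.card + 1) → ι → A, (∀ k, v k ∈ M) →
          exteriorPower.ιMulti A (H.card + 1) v = 0 := by
  set n := H.card with hn
  let e : Fin n ≃ H := H.equivFin.symm
  change M = Submodule.span A ((fvec H c) '' ↑H) ↔ _
  have hf' : ∀ j ∈ H, fvec H c j ∈ M := hf
  let L : (Fin n → A) →ₗ[A] (ι → A) := Fintype.linearCombination A (fun k : Fin n => fvec H c (e k))
  have hrange : LinearMap.range L = Submodule.span A ((fvec H c) '' ↑H) := by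
    rw [Fintype.range_linearCombination]
    congr 1
    ext x
    constructor
    · rintro ⟨k, rfl⟩
      exact ⟨(e k : ι), (e k).2, rfl⟩
    · rintro ⟨j, hj, rfl⟩
      exact ⟨e.symm ⟨j, hj⟩, by simp⟩
  constructor
  · intro hM v hv
    apply wedge_zero_of_range n L
    intro k
    rw [hrange, ← hM]
    exact hv k
  · intro hw
    apply le_antisymm
    · intro m hm
      set m' : ι → A := m - ∑ j ∈ H, m j • fvec H c j with hm'
      have hm'M : m' ∈ M := by
        apply Submodule.sub_mem _ hm
        exact Submodule.sum_mem _ fun j hj => Submodule.smul_mem _ _ (hf' j hj)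
      have hm'H : ∀ j' ∈ H, m' j' = 0 := by
        intro j' hj'
        rw [hm', Pi.sub_apply, Finset.sum_apply, Finset.sum_eq_single j']
        · rw [Pi.smul_apply, fvec_apply_mem H c j' j' hj', if_pos rfl, smul_eq_mul, mul_one, sub_self]
        · intro j hj hne
          rw [Pi.smul_apply, fvec_apply_mem H c j j' hj', if_neg (Ne.symm hne), smul_zero]
        · intro h; exact absurd hj' h
      have hm'c : ∀ i ∉ H, m' i = 0 := by
        intro i hi
        let v : Fin (n + 1) → ι → A := Fin.snoc (fun k : Fin n => fvec H c (e k)) m'
        let col : Fin (n + 1) → ι := Fin.snoc (fun k : Fin n => ((e k : H) : ι)) i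
        have hvM : ∀ k, v k ∈ M := by
          intro k
          refine Fin.lastCases ?_ (fun k' => ?_) k
          · simp only [v, Fin.snoc_last]; exact hm'M
          · simp only [v, Fin.snoc_castSucc]; exact hf' _ (e k').2
        have hz := hw v hvM
        let φ : (ι → A) [⋀^Fin (n + 1)]→ₗ[A] A :=
          (Matrix.detRowAlternating (n := Fin (n + 1)) (R := A)).compLinearMap (LinearMap.funLeft A A col)
        have h1 : exteriorPower.alternatingMapLinearEquiv φ (exteriorPower.ιMulti A (n + 1) v) = φ v :=
          exteriorPower.alternatingMapLinearEquiv_apply_ιMulti φ v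
        rw [hz, map_zero] at h1
        have h2 : φ v = (Matrix.of fun a b => v a (col b)).det := rfl
        have htri : (Matrix.of fun a b : Fin (n + 1) => v a (col b)).BlockTriangular id := by
          intro a b hba
          simp only [id] at hba
          have hb : b ≠ Fin.last n := fun h => by
            rw [h] at hba; exact absurd hba (not_lt.mpr (Fin.le_last a))
          obtain ⟨b', rfl⟩ := Fin.exists_castSucc_eq.mpr hb
          simp only [Matrix.of_apply, col, Fin.snoc_castSucc]
          revert hba
          refine Fin.lastCases ?_ (fun a' => ?_) a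
          · intro _
            simp only [v, Fin.snoc_last]
            exact hm'H _ (e b').2
          · intro hba
            simp only [v, Fin.snoc_castSucc]
            rw [fvec_apply_mem H c _ _ (e b').2, if_neg]
            intro heq
            have : e b' = e a' := Subtype.ext heq
            have hab : b' = a' := e.injective this
            subst hab
            exact lt_irrefl _ hba
        have hdet : (Matrix.of fun a b : Fin (n + 1) => v a (col b)).det = m' i := by
          rw [Matrix.det_of_isUpperTriangular htri, Fin.prod_univ_castSucc]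
          simp only [Matrix.of_apply, v, col, Fin.snoc_castSucc, Fin.snoc_last]
          rw [Finset.prod_eq_one, one_mul]
          intro k _
          rw [fvec_apply_mem H c _ _ (e k).2, if_pos rfl]
        rw [← hdet, ← h2, ← h1]
      have hm0 : m' = 0 := by
        funext i
        by_cases hi : i ∈ H
        · exact hm'H i hi
        · exact hm'c i hi
      have : m = ∑ j ∈ H, m j • fvec H c j := by
        rw [hm', sub_eq_zero] at hm0
        exact hm0
      rw [this]
      exact Submodule.sum_mem _ fun j hj => Submodule.smul_mem _ _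
        (Submodule.subset_span ⟨j, hj, rfl⟩)
    · rw [Submodule.span_le]
      rintro _ ⟨j, hj, rfl⟩
      exact hf' j hj

end

end Groth.Agent.Helper27.WC
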