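import Groth.Agent.Lib.Helper27.HypB

/-! Extending a substitution `x ↦ x'`, `y ↦ y'` to an endomorphism of a quadratic extension of
`k(x)`. -/

set_option autoImplicit false

namespace Groth.Agent.Helper27.Wei

open FunFld Polynomial IntermediateField Groth.Agent.Helper27.Hyp
open scoped WithZero

variable {k K : Type*} [Field k] [Field K] [Algebra k K] [Algebra (RatFunc k) K]
  [IsScalarTower k (RatFunc k) K]

theorem minpoly_eq_of_sq {y : K} (hy : y ∉ Set.range (algebraMap (RatFunc k) K)) {g : RatFunc k}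
    (heq : y ^ 2 = algebraMap (RatFunc k) K g) :
    minpoly (RatFunc k) y = X ^ 2 - C g := by
  have hmonic : (X ^ 2 - C g : (RatFunc k)[X]).Monic := monic_X_pow_sub_C _ (by norm_num)
  have hroot : aeval y (X ^ 2 - C g : (RatFunc k)[X]) = 0 := by simp [heq]
  have hint : IsIntegral (RatFunc k) y := ⟨_, hmonic, hroot⟩
  symm
  apply eq_of_monic_of_dvd_of_natDegree_le (minpoly.monic hint) hmonic (minpoly.dvd _ _ hroot)
  rw [natDegree_X_pow_sub_C]
  exact (minpoly.two_le_natDegree_iff hint).2 hy

theorem exists_algHom_of_model {y : K} (hy : y ∉ Set.range (algebraMap (RatFunc k) K))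
    (htop : (RatFunc k)⟮y⟯ = ⊤) {f : k[X]}
    (heq : y ^ 2 = algebraMap (RatFunc k) K (algebraMap k[X] (RatFunc k) f))
    {x' y' : K} (hx' : Transcendental k x') (heq' : y' ^ 2 = aeval x' f) :
    ∃ σ : K →ₐ[k] K, σ (xK k K) = x' ∧ σ y = y' := by
  have hmin := minpoly_eq_of_sq hy heq
  have hint : IsIntegral (RatFunc k) y :=
    ⟨X ^ 2 - C (algebraMap k[X] (RatFunc k) f), monic_X_pow_sub_C _ (by norm_num), by simp [heq]⟩
  let ι₂ : RatFunc k →ₐ[k] K := RatFunc.liftAlgHom (aeval x')
    (nonZeroDivisors_le_comap_nonZeroDivisors_of_injective _ (transcendental_iff_injective.1 hx'))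
  have hι₂ : ∀ p : k[X], ι₂ (algebraMap k[X] (RatFunc k) p) = aeval x' p := by
    intro p
    have := RatFunc.liftAlgHom_apply_div (aeval x')
      (nonZeroDivisors_le_comap_nonZeroDivisors_of_injective _
        (transcendental_iff_injective.1 hx')) p 1
    rwa [map_one, div_one, map_one, div_one] at this
  let e : AdjoinRoot (minpoly (RatFunc k) y) ≃ₐ[RatFunc k] K :=
    (adjoinRootEquivAdjoin (RatFunc k) hint).trans
      ((IntermediateField.equivOfEq htop).trans IntermediateField.topEquiv)
  have he_root : e (AdjoinRoot.root _) = y := by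
    show IntermediateField.topEquiv (IntermediateField.equivOfEq htop
      (adjoinRootEquivAdjoin (RatFunc k) hint (AdjoinRoot.root _))) = y
    rw [adjoinRootEquivAdjoin_apply_root]
    rfl
  have hroot : (minpoly (RatFunc k) y).eval₂ (ι₂ : RatFunc k →+* K) y' = 0 := by
    rw [hmin, eval₂_sub, eval₂_pow, eval₂_X, eval₂_C]
    show y' ^ 2 - ι₂ (algebraMap k[X] (RatFunc k) f) = 0
    rw [hι₂, heq', sub_self]
  let Lft : AdjoinRoot (minpoly (RatFunc k) y) →+* K :=
    AdjoinRoot.lift (ι₂ : RatFunc k →+* K) y' hroot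
  let σ₀ : K →+* K := Lft.comp (e.symm : K →+* AdjoinRoot (minpoly (RatFunc k) y))
  have hσι : ∀ r : RatFunc k, σ₀ (algebraMap (RatFunc k) K r) = ι₂ r := by
    intro r
    show Lft (e.symm (algebraMap (RatFunc k) K r)) = ι₂ r
    rw [e.symm.commutes, AdjoinRoot.algebraMap_eq]
    exact AdjoinRoot.lift_of hroot
  have hσy : σ₀ y = y' := by
    show Lft (e.symm y) = y'
    have h1 : e.symm y = AdjoinRoot.root _ := by
      rw [AlgEquiv.symm_apply_eq]; exact he_root.symm
    rw [h1]
    exact AdjoinRoot.lift_root hroot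
  let σ : K →ₐ[k] K :=
    { σ₀ with
      commutes' := fun c => by
        show σ₀ (algebraMap k K c) = algebraMap k K c
        have h1 : algebraMap k K c = algebraMap (RatFunc k) K (algebraMap k (RatFunc k) c) :=
          IsScalarTower.algebraMap_apply k (RatFunc k) K c
        conv_lhs => rw [h1, hσι, ι₂.commutes] }
  refine ⟨σ, ?_, hσy⟩
  show σ₀ (algebraMap (RatFunc k) K RatFunc.X) = x'
  rw [hσι, ← RatFunc.algebraMap_X, hι₂, aeval_X]

end Groth.Agent.Helper27.Wei
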