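import Groth.Agent.Lib.Helper27.WeiA
import Groth.Agent.Lib.Helper16.FF.GenusOneC
import Groth.Agent.Lib.Helper16.FF.AlgClosed
import Groth.Agent.Lib.Helper16.FF.AutA

/-! Genus-one function fields in Weierstrass form: the scaling automorphisms. -/

set_option autoImplicit false

namespace Groth.Agent.Helper27.Wei

open FunFld Polynomial IntermediateField Groth.Agent.Helper27.Hyp Groth.Agent.Helper16.FF
open scoped WithZero

variable {k K : Type*} [Field k] [Field K] [Algebra k K]

theorem algEquiv_ext_of_adjoin {x y : K} (hxy : IntermediateField.adjoin k ({x, y} : Set K) = ⊤)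
    (σ σ' : K ≃ₐ[k] K) (hx : σ x = σ' x) (hy : σ y = σ' y) : σ = σ' := by
  let E : IntermediateField k K :=
    (AlgHom.equalizer (σ : K →ₐ[k] K) (σ' : K →ₐ[k] K)).toIntermediateField (fun z hz => by
      show (σ : K →ₐ[k] K) z⁻¹ = (σ' : K →ₐ[k] K) z⁻¹
      have hz' : (σ : K →ₐ[k] K) z = (σ' : K →ₐ[k] K) z := hz
      rw [map_inv₀, map_inv₀, hz'])
  have hle : IntermediateField.adjoin k ({x, y} : Set K) ≤ E := by
    rw [IntermediateField.adjoin_le_iff]
    rintro z (rfl | rfl)
    · exact hx
    · exact hy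
  rw [hxy] at hle
  ext z
  exact hle (IntermediateField.mem_top (x := z))

theorem val_x_eq {P : Place k K} {x : K} {n : ℤ} (hn : n ≠ 0) (h : P.ord x = -n) :
    x ≠ 0 ∧ P.1 x = WithZero.exp n := by
  have hx0 : x ≠ 0 := by
    rintro rfl
    rw [Place.ord_zero] at h
    omega
  refine ⟨hx0, ?_⟩
  rw [Place.val_eq_exp_neg_ord P hx0, h, neg_neg]

theorem exists_aut_of_scaling [IsAlgClosed k] (hK : IsFunctionField k K) (P : Place k K)
    (a b : k) (x y : K)
    (heq : y ^ 2 = x ^ 3 + algebraMap k K a * x + algebraMap k K b)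
    (hxy : IntermediateField.adjoin k ({x, y} : Set K) = ⊤)
    (hx : x ∈ L (Finsupp.single P 2 : Divisor k K)) (hx2 : P.ord x = -2)
    (u : k) (hu0 : u ≠ 0) (hua : a * u ^ 4 = a) (hub : b * u ^ 6 = b) :
    ∃ σ : K ≃ₐ[k] K, σ x = algebraMap k K (u ^ 2) * x ∧ σ y = algebraMap k K (u ^ 3) * y ∧
      ∀ z, P.1 (σ z) = P.1 z := by
  classical
  have hP : P.deg = 1 := Place.deg_eq_one hK P
  obtain ⟨hx0, hxv⟩ := val_x_eq (n := 2) (by norm_num) hx2
  have hne1 : P.1 x ≠ 1 := by
    rw [hxv, ← WithZero.exp_zero]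
    intro h
    have := WithZero.exp_injective h
    omega
  have hxtr : Transcendental k x := Place.transcendental_of_val_ne_one hK P hx0 hne1
  let ι₁ : RatFunc k →ₐ[k] K := RatFunc.liftAlgHom (aeval x)
    (nonZeroDivisors_le_comap_nonZeroDivisors_of_injective _ (transcendental_iff_injective.1 hxtr))
  have hι₁ : ∀ p : k[X], ι₁ (algebraMap k[X] (RatFunc k) p) = aeval x p := by
    intro p
    have := RatFunc.liftAlgHom_apply_div (aeval x)
      (nonZeroDivisors_le_comap_nonZeroDivisors_of_injective _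
        (transcendental_iff_injective.1 hxtr)) p 1
    rwa [map_one, div_one, map_one, div_one] at this
  letI : Algebra (RatFunc k) K := ι₁.toRingHom.toAlgebra
  haveI : IsScalarTower k (RatFunc k) K :=
    IsScalarTower.of_algebraMap_eq (fun c => (ι₁.commutes c).symm)
  have halg : ∀ r : RatFunc k, algebraMap (RatFunc k) K r = ι₁ r := fun r => rfl
  have hxK : xK k K = x := by
    show algebraMap (RatFunc k) K RatFunc.X = x
    rw [halg, ← RatFunc.algebraMap_X, hι₁, aeval_X]
  set f : k[X] := X ^ 3 + C a * X + C b with hf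
  have hfx : ∀ x' : K, aeval x' f = x' ^ 3 + algebraMap k K a * x' + algebraMap k K b := by
    intro x'
    simp [hf]
  have heqf : y ^ 2 = algebraMap (RatFunc k) K (algebraMap k[X] (RatFunc k) f) := by
    rw [halg, hι₁, hfx, heq]
  have hint : IsIntegral (RatFunc k) y :=
    ⟨X ^ 2 - C (algebraMap k[X] (RatFunc k) f), monic_X_pow_sub_C _ (by norm_num), by
      simp [heqf]⟩
  have htop : (RatFunc k)⟮y⟯ = ⊤ := by
    have hle : IntermediateField.adjoin k ({x, y} : Set K) ≤
        ((RatFunc k)⟮y⟯).restrictScalars k := by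
      rw [IntermediateField.adjoin_le_iff]
      rintro z (rfl | rfl)
      · show z ∈ (RatFunc k)⟮y⟯
        rw [← hxK]
        exact ((RatFunc k)⟮y⟯).algebraMap_mem RatFunc.X
      · exact IntermediateField.mem_adjoin_simple_self (RatFunc k) _
    rw [hxy] at hle
    rw [eq_top_iff]
    intro z _
    exact hle (IntermediateField.mem_top (x := z))
  haveI hfd : FiniteDimensional (RatFunc k) K := by
    haveI := IntermediateField.adjoin.finiteDimensional hint
    exact Module.Finite.equiv
      ((IntermediateField.equivOfEq htop).trans IntermediateField.topEquiv).toLinearEquiv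
  have hdeg2 : Module.finrank (RatFunc k) K = 2 := by
    rw [← finrank_adjoin_xK, hxK]
    exact finrank_adjoin_of_pole hK hP (n := 2) (by norm_num) (by exact_mod_cast hx)
      (by exact_mod_cast hxv)
  have hynot : y ∉ Set.range (algebraMap (RatFunc k) K) := by
    intro hmem
    have h1 : (RatFunc k)⟮y⟯ = ⊥ := by
      rw [IntermediateField.adjoin_simple_eq_bot_iff, IntermediateField.mem_bot]
      exact hmem
    rw [htop] at h1
    have := IntermediateField.bot_eq_top_iff_finrank_eq_one.1 h1.symm
    omega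
  -- the new generators
  set A := algebraMap k K with hA
  have hAu : A u ≠ 0 := (map_ne_zero_iff _ A.injective).2 hu0
  set x' : K := A (u ^ 2) * x with hx'
  set y' : K := A (u ^ 3) * y with hy'
  have hx'v : P.1 x' = P.1 x := by
    rw [hx', map_mul, Place.val_algebraMap P (pow_ne_zero 2 hu0), one_mul]
  have hx'0 : x' ≠ 0 := mul_ne_zero ((map_ne_zero_iff _ A.injective).2 (pow_ne_zero 2 hu0)) hx0
  have hx'tr : Transcendental k x' :=
    Place.transcendental_of_val_ne_one hK P hx'0 (by rw [hx'v]; exact hne1)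
  have heq' : y' ^ 2 = aeval x' f := by
    rw [hfx, hy', hx', mul_pow, heq, map_pow, map_pow]
    have e1 : A a * A u ^ 4 = A a := by rw [← map_pow, ← map_mul, hua]
    have e2 : A b * A u ^ 6 = A b := by rw [← map_pow, ← map_mul, hub]
    linear_combination (A u ^ 2 * x) * e1 + e2
  obtain ⟨σ, hσx, hσy⟩ := exists_algHom_of_model hynot htop heqf hx'tr heq'
  rw [hxK] at hσx
  have hinj : Function.Injective σ := σ.toRingHom.injective
  have hsurj : Function.Surjective σ := by
    have hxr : x ∈ σ.fieldRange := by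
      have h1 : x' ∈ σ.fieldRange := AlgHom.mem_fieldRange.2 ⟨x, hσx⟩
      have h2 : x = (A (u ^ 2))⁻¹ * x' := by
        rw [hx', ← mul_assoc, inv_mul_cancel₀
          ((map_ne_zero_iff _ A.injective).2 (pow_ne_zero 2 hu0)), one_mul]
      rw [h2]
      exact mul_mem (inv_mem (σ.fieldRange.algebraMap_mem _)) h1
    have hyr : y ∈ σ.fieldRange := by
      have h1 : y' ∈ σ.fieldRange := AlgHom.mem_fieldRange.2 ⟨y, hσy⟩
      have h2 : y = (A (u ^ 3))⁻¹ * y' := by
        rw [hy', ← mul_assoc, inv_mul_cancel₀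
          ((map_ne_zero_iff _ A.injective).2 (pow_ne_zero 3 hu0)), one_mul]
      rw [h2]
      exact mul_mem (inv_mem (σ.fieldRange.algebraMap_mem _)) h1
    have hle : IntermediateField.adjoin k ({x, y} : Set K) ≤ σ.fieldRange := by
      rw [IntermediateField.adjoin_le_iff]
      rintro z (rfl | rfl)
      · exact hxr
      · exact hyr
    rw [hxy] at hle
    intro z
    exact AlgHom.mem_fieldRange.1 (hle (IntermediateField.mem_top (x := z)))
  let σe : K ≃ₐ[k] K := AlgEquiv.ofBijective σ ⟨hinj, hsurj⟩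
  refine ⟨σe, hσx, hσy, ?_⟩
  have hPP : Place.comapAut σe P = P := by
    by_contra hne
    have h1 := hx (Place.comapAut σe P)
    rw [Finsupp.single_apply, if_neg (Ne.symm hne), WithZero.exp_zero,
      Place.comapAut_apply] at h1
    have h2 : P.1 (σe x) = P.1 x := by
      show P.1 (σ x) = P.1 x
      rw [hσx]; exact hx'v
    rw [h2, hxv, ← WithZero.exp_zero, WithZero.exp_le_exp] at h1
    omega
  intro z
  rw [← Place.comapAut_apply, hPP]

end Groth.Agent.Helper27.Wei
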