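import Groth.Agent.Lib.Helper27.WeiB

/-! Genus-one function fields in Weierstrass form: automorphisms fixing the point at infinity
are scalings. -/

set_option autoImplicit false

namespace Groth.Agent.Helper27.Wei

open FunFld Polynomial IntermediateField Groth.Agent.Helper16.FF
open scoped WithZero

variable {k K : Type*} [Field k] [Field K] [Algebra k K]

/-- elements with strictly increasing valuations are linearly independent over `k` -/
theorem indep_of_strictMono_val (P : Place k K) {n : ℕ} (z : Fin n → K)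
    (hmono : StrictMono fun i => P.1 (z i)) (hz : ∀ i, z i ≠ 0) (c : Fin n → k)
    (h : ∑ i, c i • z i = 0) : ∀ i, c i = 0 := by
  classical
  by_contra hcon
  push Not at hcon
  obtain ⟨i₁, hi₁⟩ := hcon
  let S : Finset (Fin n) := Finset.univ.filter (fun i => c i ≠ 0)
  have hS : S.Nonempty := ⟨i₁, by simp [S, hi₁]⟩
  set i₀ := S.max' hS with hi₀
  have hc₀ : c i₀ ≠ 0 := (Finset.mem_filter.1 (S.max'_mem hS)).2
  have hv₀ : P.1 (c i₀ • z i₀) = P.1 (z i₀) := Place.val_smul P hc₀ _
  have hpos : 0 < P.1 (z i₀) := by rw [Valuation.pos_iff]; exact hz i₀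
  have hval := Valuation.map_sum_eq_of_lt P.1 (s := Finset.univ)
    (f := fun i => c i • z i) (j := i₀) (Finset.mem_univ _) (by
      intro i hi
      have hne : i ≠ i₀ := by
        intro h'; rw [h'] at hi; simp at hi
      show P.1 (c i • z i) < P.1 (c i₀ • z i₀)
      rw [hv₀]
      by_cases hci : c i = 0
      · rw [hci, zero_smul, map_zero]; exact hpos
      · rw [Place.val_smul P hci]
        have hle : i ≤ i₀ := S.le_max' i (by simp [S, hci])
        exact hmono (lt_of_le_of_ne hle hne))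
  have h' : ∑ i, (fun i => c i • z i) i = 0 := h
  rw [h', map_zero, hv₀] at hval
  exact absurd hval.symm (ne_of_gt hpos)

theorem mem_L_single_of_aut (P : Place k K) (σ : K ≃ₐ[k] K) (hσ : ∀ z, P.1 (σ z) = P.1 z)
    {n : ℤ} {z : K} (hz : z ∈ L (Finsupp.single P n : Divisor k K)) :
    σ z ∈ L (Finsupp.single P n : Divisor k K) := by
  classical
  intro Q
  by_cases hQ : Q = P
  · subst hQ
    rw [hσ z]; exact hz Q
  · have hQ' : Place.comapAut σ Q ≠ P := by
      intro h
      apply hQ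
      apply Groth.Agent.Helper16.FFW.Place.ext'
      intro w
      have h1 : (Place.comapAut σ Q).1 (σ.symm w) = P.1 (σ.symm w) := by rw [h]
      rw [Place.comapAut_apply, σ.apply_symm_apply] at h1
      rw [h1, ← hσ (σ.symm w), σ.apply_symm_apply]
    have h2 := hz (Place.comapAut σ Q)
    rw [Finsupp.single_apply, if_neg (Ne.symm hQ'), Place.comapAut_apply] at h2
    rw [Finsupp.single_apply, if_neg (Ne.symm hQ)]
    exact h2

theorem aut_is_scaling [IsAlgClosed k] (h2 : (2 : k) ≠ 0) (h3 : (3 : k) ≠ 0)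
    (hK : IsFunctionField k K) (hgen : genus k K = 1) (P : Place k K)
    (a b : k) (x y : K)
    (heq : y ^ 2 = x ^ 3 + algebraMap k K a * x + algebraMap k K b)
    (hx : x ∈ L (Finsupp.single P 2 : Divisor k K)) (hx2 : P.ord x = -2)
    (hy : y ∈ L (Finsupp.single P 3 : Divisor k K)) (hy3 : P.ord y = -3)
    (σ : K ≃ₐ[k] K) (hσ : ∀ z, P.1 (σ z) = P.1 z) :
    ∃ u : k, u ≠ 0 ∧ a * u ^ 4 = a ∧ b * u ^ 6 = b ∧
      σ x = algebraMap k K (u ^ 2) * x ∧ σ y = algebraMap k K (u ^ 3) * y := by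
  classical
  have hP : P.deg = 1 := Place.deg_eq_one hK P
  obtain ⟨hx0, hxv⟩ := val_x_eq (n := 2) (by norm_num) hx2
  obtain ⟨hy0, hyv⟩ := val_x_eq (n := 3) (by norm_num) hy3
  set A := algebraMap k K with hA
  have hAinj : Function.Injective A := A.injective
  -- the shape of `σ x` and `σ y`
  obtain ⟨u₁, hu₁⟩ := exists_sub_smul_mem_L hK hP 2 hx hxv (mem_L_single_of_aut P σ hσ hx)
  rw [show (2 : ℤ) - 1 = 1 by norm_num] at hu₁
  obtain ⟨r, hr⟩ := L_single_one_of_genus_pos hK (by omega) hP hu₁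
  obtain ⟨u₂, hu₂⟩ := exists_sub_smul_mem_L hK hP 3 hy hyv (mem_L_single_of_aut P σ hσ hy)
  rw [show (3 : ℤ) - 1 = 2 by norm_num] at hu₂
  obtain ⟨s, hs⟩ := exists_sub_smul_mem_L hK hP 2 hx hxv hu₂
  rw [show (2 : ℤ) - 1 = 1 by norm_num] at hs
  obtain ⟨t, ht⟩ := L_single_one_of_genus_pos hK (by omega) hP hs
  have hσx : σ x = A u₁ * x + A r := by
    rw [Algebra.smul_def] at hr
    linear_combination hr
  have hσy : σ y = A u₂ * y + A s * x + A t := by
    rw [Algebra.smul_def, Algebra.smul_def] at ht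
    linear_combination ht
  -- the relation
  have hrel : (σ y) ^ 2 = (σ x) ^ 3 + A a * σ x + A b := by
    have := congrArg σ heq
    rwa [map_pow, map_add, map_add, map_pow, map_mul, σ.commutes, σ.commutes] at this
  rw [hσx, hσy] at hrel
  -- the six coefficients
  set c : Fin 6 → k := ![u₂ ^ 2 * b + t ^ 2 - r ^ 3 - a * r - b,
    u₂ ^ 2 * a + 2 * s * t - 3 * u₁ * r ^ 2 - a * u₁,
    2 * u₂ * t, s ^ 2 - 3 * u₁ ^ 2 * r, 2 * u₂ * s, u₂ ^ 2 - u₁ ^ 3] with hc
  set z : Fin 6 → K := ![1, x, y, x ^ 2, x * y, x ^ 3] with hzdef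
  have hsum : ∑ i, c i • z i = 0 := by
    rw [Fin.sum_univ_six]
    simp only [hc, hzdef, Matrix.cons_val_zero, Matrix.cons_val_one, Matrix.cons_val,
      Algebra.smul_def, map_sub, map_add, map_mul, map_pow, map_ofNat]
    linear_combination hrel - (A u₂) ^ 2 * heq
  have hm : ∀ i : Fin 6, P.1 (z i) = WithZero.exp ((![0, 2, 3, 4, 5, 6] : Fin 6 → ℤ) i) := by
    intro i
    fin_cases i
    · simp [hzdef]
    · simpa [hzdef] using hxv
    · simpa [hzdef] using hyv
    · simp only [hzdef]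
      show P.1 (x ^ 2) = WithZero.exp 4
      rw [map_pow, hxv, ← WithZero.exp_nsmul]; norm_num
    · simp only [hzdef]
      show P.1 (x * y) = WithZero.exp 5
      rw [map_mul, hxv, hyv, ← WithZero.exp_add]; norm_num
    · simp only [hzdef]
      show P.1 (x ^ 3) = WithZero.exp 6
      rw [map_pow, hxv, ← WithZero.exp_nsmul]; norm_num
  have hmono : StrictMono fun i => P.1 (z i) := by
    intro i j hij
    show P.1 (z i) < P.1 (z j)
    rw [hm i, hm j, WithZero.exp_lt_exp]
    fin_cases i <;> fin_cases j <;> simp at hij ⊢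
  have hz0 : ∀ i, z i ≠ 0 := by
    intro i h0
    have := hm i
    rw [h0, map_zero] at this
    exact WithZero.exp_ne_zero this.symm
  have hall := indep_of_strictMono_val P z hmono hz0 c hsum
  have e0 : u₂ ^ 2 * b + t ^ 2 - r ^ 3 - a * r - b = 0 := hall 0
  have e1 : u₂ ^ 2 * a + 2 * s * t - 3 * u₁ * r ^ 2 - a * u₁ = 0 := hall 1
  have e2 : 2 * u₂ * t = 0 := hall 2
  have e3 : s ^ 2 - 3 * u₁ ^ 2 * r = 0 := hall 3
  have e4 : 2 * u₂ * s = 0 := hall 4
  have e5 : u₂ ^ 2 - u₁ ^ 3 = 0 := hall 5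
  -- nonvanishing of the leading coefficients
  have hu₁0 : u₁ ≠ 0 := by
    rintro rfl
    have h1 := hσ x
    rw [hσx, map_zero, zero_mul, zero_add, hxv] at h1
    have h5 : P.1 (A r) ≤ 1 := P.2.1 r
    rw [h1, ← WithZero.exp_zero, WithZero.exp_le_exp] at h5
    omega
  have hu₂0 : u₂ ≠ 0 := by
    rintro rfl
    have h1 := hσ y
    rw [hσy, map_zero, zero_mul, zero_add, hyv] at h1
    have h5 : P.1 (A s * x + A t) ≤ WithZero.exp 2 := by
      refine (P.1.map_add _ _).trans (max_le ?_ ?_)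
      · rw [map_mul, hxv]
        calc P.1 (A s) * WithZero.exp 2 ≤ 1 * WithZero.exp 2 := mul_le_mul' (P.2.1 s) le_rfl
          _ = WithZero.exp 2 := one_mul _
      · refine (P.2.1 t).trans ?_
        rw [← WithZero.exp_zero, WithZero.exp_le_exp]; norm_num
    rw [h1, WithZero.exp_le_exp] at h5
    omega
  have hs0 : s = 0 := by
    rcases mul_eq_zero.1 e4 with h | h
    · rcases mul_eq_zero.1 h with h | h
      · exact absurd h h2
      · exact absurd h hu₂0
    · exact h
  have ht0 : t = 0 := by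
    rcases mul_eq_zero.1 e2 with h | h
    · rcases mul_eq_zero.1 h with h | h
      · exact absurd h h2
      · exact absurd h hu₂0
    · exact h
  have hr0 : r = 0 := by
    rw [hs0] at e3
    have : 3 * u₁ ^ 2 * r = 0 := by linear_combination -e3
    rcases mul_eq_zero.1 this with h | h
    · rcases mul_eq_zero.1 h with h | h
      · exact absurd h h3
      · exact absurd (pow_eq_zero_iff (by norm_num) |>.1 h) hu₁0
    · exact h
  subst hs0 ht0 hr0
  have e5' : u₂ ^ 2 = u₁ ^ 3 := by linear_combination e5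
  refine ⟨u₂ / u₁, div_ne_zero hu₂0 hu₁0, ?_, ?_, ?_, ?_⟩
  · have h4 : (u₂ / u₁) ^ 4 = u₁ ^ 2 := by
      rw [_root_.div_pow, div_eq_iff (pow_ne_zero _ hu₁0)]
      linear_combination (u₂ ^ 2 + u₁ ^ 3) * e5'
    rw [h4]
    have h5 : a * u₁ * (u₁ ^ 2 - 1) = 0 := by linear_combination e1 - a * e5
    rcases mul_eq_zero.1 h5 with h | h
    · rcases mul_eq_zero.1 h with h | h
      · rw [h, zero_mul]
      · exact absurd h hu₁0
    · linear_combination a * h
  · have h6 : (u₂ / u₁) ^ 6 = u₂ ^ 2 := by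
      rw [_root_.div_pow, div_eq_iff (pow_ne_zero _ hu₁0)]
      linear_combination u₂ ^ 2 * (u₂ ^ 2 + u₁ ^ 3) * e5'
    rw [h6]
    linear_combination e0
  · have h2' : (u₂ / u₁) ^ 2 = u₁ := by
      rw [_root_.div_pow, div_eq_iff (pow_ne_zero _ hu₁0)]
      linear_combination e5'
    rw [hσx, h2', map_zero, add_zero]
  · have h3' : (u₂ / u₁) ^ 3 = u₂ := by
      rw [_root_.div_pow, div_eq_iff (pow_ne_zero _ hu₁0)]
      linear_combination u₂ * e5'
    rw [hσy, h3', map_zero, zero_mul, add_zero, add_zero]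

end Groth.Agent.Helper27.Wei
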