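import Groth.Agent.Lib.Helper27.WeiC
import Mathlib.RingTheory.RootsOfUnity.AlgebraicallyClosed

/-! Genus-one function fields in Weierstrass form: counting automorphisms. -/

set_option autoImplicit false

namespace Groth.Agent.Helper27.Wei

open FunFld Polynomial IntermediateField Groth.Agent.Helper16.FF
open scoped WithZero

variable {k K : Type*} [Field k] [Field K] [Algebra k K]

theorem card_pow_eq_one [IsAlgClosed k] (n : ℕ) (hn : (n : k) ≠ 0) :
    Nat.card {u : k // u ^ n = 1} = n := by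
  haveI : NeZero (n : k) := ⟨hn⟩
  haveI : NeZero n := .of_neZero_natCast k
  refine Eq.trans (Nat.card_congr ?_) (HasEnoughRootsOfUnity.natCard_rootsOfUnity k n)
  refine ⟨fun u => rootsOfUnity.mkOfPowEq u.1 u.2, fun ζ => ⟨((ζ : kˣ) : k), ?_⟩, ?_, ?_⟩
  · have := ζ.2
    rw [mem_rootsOfUnity'] at this
    exact this
  · intro u
    rfl
  · intro ζ
    apply Subtype.ext
    apply Units.ext
    rfl

open Classical in
theorem main19397 [IsAlgClosed k] (h2 : (2 : k) ≠ 0) (h3 : (3 : k) ≠ 0)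
    (hK : IsFunctionField k K) (hgen : genus k K = 1) (P : Place k K)
    (a b : k) (hdisc : 4 * a ^ 3 + 27 * b ^ 2 ≠ 0) (x y : K)
    (heq : y ^ 2 = x ^ 3 + algebraMap k K a * x + algebraMap k K b)
    (hxy : IntermediateField.adjoin k ({x, y} : Set K) = ⊤)
    (hx : x ∈ L (Finsupp.single P 2 : Divisor k K)) (hx2 : P.ord x = -2)
    (hy : y ∈ L (Finsupp.single P 3 : Divisor k K)) (hy3 : P.ord y = -3) :
    Nat.card {σ : K ≃ₐ[k] K // ∀ z : K, P.1 (σ z) = P.1 z} =
      if a = 0 then 6 else if b = 0 then 4 else 2 := by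
  classical
  obtain ⟨hx0, -⟩ := val_x_eq (n := 2) (by norm_num) hx2
  obtain ⟨hy0, -⟩ := val_x_eq (n := 3) (by norm_num) hy3
  have hex : ∀ u : {u : k // u ≠ 0 ∧ a * u ^ 4 = a ∧ b * u ^ 6 = b},
      ∃ σ : K ≃ₐ[k] K, σ x = algebraMap k K (u.1 ^ 2) * x ∧
        σ y = algebraMap k K (u.1 ^ 3) * y ∧ ∀ z, P.1 (σ z) = P.1 z := fun u =>
    exists_aut_of_scaling hK P a b x y heq hxy hx hx2 u.1 u.2.1 u.2.2.1 u.2.2.2
  choose Θ hΘx hΘy hΘv using hex
  have hbij : Function.Bijective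
      (fun u : {u : k // u ≠ 0 ∧ a * u ^ 4 = a ∧ b * u ^ 6 = b} =>
        (⟨Θ u, hΘv u⟩ : {σ : K ≃ₐ[k] K // ∀ z : K, P.1 (σ z) = P.1 z})) := by
    constructor
    · intro u u' h
      have h' : Θ u = Θ u' := congrArg Subtype.val h
      have e2 : u.1 ^ 2 = u'.1 ^ 2 := by
        have := hΘx u
        rw [h', hΘx u'] at this
        exact ((algebraMap k K).injective (mul_right_cancel₀ hx0 this)).symm
      have e3 : u.1 ^ 3 = u'.1 ^ 3 := by
        have := hΘy u
        rw [h', hΘy u'] at this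
        exact ((algebraMap k K).injective (mul_right_cancel₀ hy0 this)).symm
      apply Subtype.ext
      have hu0 := u.2.1
      have : u.1 * u.1 ^ 2 = u'.1 * u.1 ^ 2 := by
        calc u.1 * u.1 ^ 2 = u.1 ^ 3 := by ring
          _ = u'.1 ^ 3 := e3
          _ = u'.1 * u'.1 ^ 2 := by ring
          _ = u'.1 * u.1 ^ 2 := by rw [e2]
      exact mul_right_cancel₀ (pow_ne_zero 2 hu0) this
    · rintro ⟨σ, hσ⟩
      obtain ⟨u, hu0, hua, hub, hσx, hσy⟩ :=
        aut_is_scaling h2 h3 hK hgen P a b x y heq hx hx2 hy hy3 σ hσ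
      refine ⟨⟨u, hu0, hua, hub⟩, ?_⟩
      apply Subtype.ext
      exact algEquiv_ext_of_adjoin hxy _ _ (by rw [hΘx, hσx]) (by rw [hΘy, hσy])
  rw [← Nat.card_congr (Equiv.ofBijective _ hbij)]
  by_cases ha : a = 0
  · rw [if_pos ha]
    subst ha
    have hb : b ≠ 0 := by
      rintro rfl
      simp at hdisc
    have hiff : ∀ u : k, (u ≠ 0 ∧ (0 : k) * u ^ 4 = 0 ∧ b * u ^ 6 = b) ↔ u ^ 6 = 1 := by
      intro u
      constructor
      · rintro ⟨-, -, h⟩
        exact mul_left_cancel₀ hb (by rw [h, mul_one])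
      · intro h
        refine ⟨?_, zero_mul _, by rw [h, mul_one]⟩
        rintro rfl
        simp at h
    rw [Nat.card_congr (Equiv.subtypeEquivRight hiff)]
    refine card_pow_eq_one 6 ?_
    have : ((6 : ℕ) : k) = 2 * 3 := by norm_num
    rw [this]
    exact mul_ne_zero h2 h3
  rw [if_neg ha]
  by_cases hb : b = 0
  · rw [if_pos hb]
    subst hb
    have hiff : ∀ u : k, (u ≠ 0 ∧ a * u ^ 4 = a ∧ (0 : k) * u ^ 6 = 0) ↔ u ^ 4 = 1 := by
      intro u
      constructor
      · rintro ⟨-, h, -⟩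
        exact mul_left_cancel₀ ha (by rw [h, mul_one])
      · intro h
        refine ⟨?_, by rw [h, mul_one], zero_mul _⟩
        rintro rfl
        simp at h
    rw [Nat.card_congr (Equiv.subtypeEquivRight hiff)]
    refine card_pow_eq_one 4 ?_
    have : ((4 : ℕ) : k) = 2 * 2 := by norm_num
    rw [this]
    exact mul_ne_zero h2 h2
  rw [if_neg hb]
  have hiff : ∀ u : k, (u ≠ 0 ∧ a * u ^ 4 = a ∧ b * u ^ 6 = b) ↔ u ^ 2 = 1 := by
    intro u
    constructor
    · rintro ⟨-, h4, h6⟩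
      have h4' : u ^ 4 = 1 := mul_left_cancel₀ ha (by rw [h4, mul_one])
      have h6' : u ^ 6 = 1 := mul_left_cancel₀ hb (by rw [h6, mul_one])
      calc u ^ 2 = u ^ 4 * u ^ 2 := by rw [h4', one_mul]
        _ = u ^ 6 := by ring
        _ = 1 := h6'
    · intro h
      have h4' : u ^ 4 = 1 := by
        calc u ^ 4 = (u ^ 2) ^ 2 := by ring
          _ = 1 := by rw [h, one_pow]
      have h6' : u ^ 6 = 1 := by
        calc u ^ 6 = (u ^ 2) ^ 3 := by ring
          _ = 1 := by rw [h, one_pow]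
      refine ⟨?_, by rw [h4', mul_one], by rw [h6', mul_one]⟩
      rintro rfl
      simp at h
  rw [Nat.card_congr (Equiv.subtypeEquivRight hiff)]
  refine card_pow_eq_one 2 ?_
  have : ((2 : ℕ) : k) = 2 := by norm_num
  rw [this]
  exact h2

end Groth.Agent.Helper27.Wei
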