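import Groth.Agent.Lib.Helper27.WeilRes

/-! The residue Weil differential of `u dv`: global part. -/

namespace Groth.Agent.Helper27.Tate

open FunFld Groth.Agent.Helper16.FF Groth.Agent.Helper27.TrF HahnSeries LaurentSeries
open scoped WithZero

universe u v w

variable {k : Type u} {K : Type v} [Field k] [Field K] [Algebra k K]
variable {F : Place k K → Type w} [∀ P, Field (F P)] [∀ P, Algebra k (F P)]

theorem finite_support_locRes_adele (hK : IsFunctionField k K)
    (φ : ∀ P, K →ₐ[k] LaurentSeries (F P)) (hφ : ∀ P, LocRes.IsExpansionAt P.1 (φ P))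
    (a : adele k K) (u v : K) :
    (Function.support fun P => LocRes.locRes (φ P) (a.1 P * u) v).Finite := by
  have ha : {P : Place k K | ¬ P.1 (a.1 P) ≤ 1}.Finite := (mem_adele _).1 a.2
  refine ((ha.union (finite_poles hK u)).union (finite_poles hK v)).subset ?_
  intro P hP
  by_contra hne
  simp only [Set.mem_union, Set.mem_ofPred_eq, not_or, not_not] at hne
  obtain ⟨⟨h1, h2⟩, h3⟩ := hne
  apply hP
  apply locRes_eq_zero_of_vDiff_le
  unfold LocRes.vDiff
  rw [map_mul, (hφ P).1, map_mul]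
  have h4 : Valued.v (LocRes.D (F P) (φ P v)) ≤ 1 :=
    DExp.val_D_le_one _ (by rw [(hφ P).1]; exact h3)
  calc P.1 (a.1 P) * P.1 u * Valued.v (LocRes.D (F P) (φ P v)) ≤ 1 * 1 * 1 :=
        mul_le_mul' (mul_le_mul' h1 h2) h4
    _ = 1 := by simp

/-- the residue functional -/
noncomputable def omegaRes (hK : IsFunctionField k K)
    (φ : ∀ P, K →ₐ[k] LaurentSeries (F P)) (hφ : ∀ P, LocRes.IsExpansionAt P.1 (φ P))
    (u v : K) : Module.Dual k (adele k K) where
  toFun a := ∑ᶠ P, LocRes.locRes (φ P) (a.1 P * u) v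
  map_add' a b := by
    rw [← finsum_add_distrib (finite_support_locRes_adele hK φ hφ a u v)
      (finite_support_locRes_adele hK φ hφ b u v)]
    congr 1
    funext P
    have : (a + b).1 P = a.1 P + b.1 P := rfl
    rw [this, add_mul, locRes_add]
  map_smul' c a := by
    rw [RingHom.id_apply, smul_eq_mul, mul_finsum]
    congr 1
    funext P
    have : (c • a).1 P = c • a.1 P := rfl
    rw [this, smul_mul_assoc, locRes_smul]

theorem omegaRes_apply (hK : IsFunctionField k K)
    (φ : ∀ P, K →ₐ[k] LaurentSeries (F P)) (hφ : ∀ P, LocRes.IsExpansionAt P.1 (φ P))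
    (u v : K) (a : adele k K) :
    omegaRes hK φ hφ u v a = ∑ᶠ P, LocRes.locRes (φ P) (a.1 P * u) v := rfl

variable [∀ P, FiniteDimensional k (F P)]

theorem omegaRes_diag (hK : IsFunctionField k K)
    (φ : ∀ P, K →ₐ[k] LaurentSeries (F P)) (hφ : ∀ P, LocRes.IsExpansionAt P.1 (φ P))
    (u v : K) (y : K) : omegaRes hK φ hφ u v (diagA k K hK y) = 0 := by
  rw [omegaRes_apply]
  exact (residue_theorem hK F φ hφ (y * u) v).2.2

theorem omegaRes_mem_WD (hK : IsFunctionField k K) (h1 : Module.finrank K (Ω[K⁄k]) = 1)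
    (φ : ∀ P, K →ₐ[k] LaurentSeries (F P)) (hφ : ∀ P, LocRes.IsExpansionAt P.1 (φ P))
    (u v : K) (hu : u ≠ 0) (hv : KaehlerDifferential.D k K v ≠ 0)
    (E : Divisor k K) (hE : ∀ P, E P ≤ LocRes.ordDiff (φ P) u v) :
    omegaRes hK φ hφ u v ∈ WD E := by
  rw [mem_WD_iff]
  intro a ha
  obtain ⟨b, hb, d, ⟨y, rfl⟩, hsum⟩ := Submodule.mem_sup.mp ha
  have ha' : a = ⟨b, AD_le_adele _ hb⟩ + diagA k K hK y := by
    apply Subtype.ext
    exact hsum.symm
  rw [ha', map_add, omegaRes_diag, add_zero, omegaRes_apply]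
  apply finsum_eq_zero_of_forall_eq_zero
  intro P
  apply locRes_eq_zero_of_vDiff_le
  rw [vDiff_mul P (φ P) (hφ P), vDiff_eq_exp h1 P (φ P) (hφ P) u v hu hv]
  have hbP : P.1 (b P) ≤ WithZero.exp (E P) := hb P
  calc P.1 (b P) * WithZero.exp (-LocRes.ordDiff (φ P) u v)
      ≤ WithZero.exp (E P) * WithZero.exp (-LocRes.ordDiff (φ P) u v) := mul_le_mul_left hbP _
    _ = WithZero.exp (E P + -LocRes.ordDiff (φ P) u v) := (WithZero.exp_add _ _).symm
    _ ≤ WithZero.exp 0 := WithZero.exp_le_exp.2 (by have := hE P; omega)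
    _ = 1 := WithZero.exp_zero

omit [∀ P, FiniteDimensional k (F P)] in
theorem omegaRes_not_mem_WD (hK : IsFunctionField k K) (h1 : Module.finrank K (Ω[K⁄k]) = 1)
    (φ : ∀ P, K →ₐ[k] LaurentSeries (F P)) (hφ : ∀ P, LocRes.IsExpansionAt P.1 (φ P))
    (u v : K) (hu : u ≠ 0) (hv : KaehlerDifferential.D k K v ≠ 0)
    (E : Divisor k K) (P : Place k K) (hP : LocRes.ordDiff (φ P) u v < E P)
    (hnd : ∃ c : F P, Algebra.trace k (F P) c ≠ 0) :
    omegaRes hK φ hφ u v ∉ WD E := by
  classical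
  obtain ⟨c, hc⟩ := hnd
  obtain ⟨x, hx1, hx2⟩ := exists_locRes_eq h1 P (φ P) (hφ P) u v hu hv c
  intro hmem
  rw [mem_WD_iff] at hmem
  have hAD : ((iotaP P x : adele k K) : Place k K → K) ∈ AD E := by
    intro Q
    rw [iotaP_apply]
    split_ifs with hQ
    · subst hQ
      exact hx1.trans (WithZero.exp_le_exp.2 (by omega))
    · simp
  have := hmem (iotaP P x) (Submodule.mem_sup_left hAD)
  rw [omegaRes_apply, finsum_eq_single _ P] at this
  · rw [iotaP_apply, if_pos rfl] at this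
    unfold LocRes.locRes at this
    rw [hx2] at this
    exact hc this
  · intro Q hQ
    rw [iotaP_apply, if_neg hQ, zero_mul]
    unfold LocRes.locRes LocRes.resExp
    simp

theorem omegaRes_isDivOf (hK : IsFunctionField k K) (h1 : Module.finrank K (Ω[K⁄k]) = 1)
    (φ : ∀ P, K →ₐ[k] LaurentSeries (F P)) (hφ : ∀ P, LocRes.IsExpansionAt P.1 (φ P))
    (u v : K) (hu : u ≠ 0) (hv : KaehlerDifferential.D k K v ≠ 0)
    (hnd : ∀ P, ∃ c : F P, Algebra.trace k (F P) c ≠ 0)
    (C : Divisor k K) (hC : ∀ P, C P = LocRes.ordDiff (φ P) u v) :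
    IsDivOf (omegaRes hK φ hφ u v) C := by
  intro E
  constructor
  · intro hmem
    by_contra hne
    have : ∃ P, C P < E P := by
      by_contra hcon
      push Not at hcon
      exact hne hcon
    obtain ⟨P, hP⟩ := this
    rw [hC P] at hP
    exact omegaRes_not_mem_WD hK h1 φ hφ u v hu hv E P hP (hnd P) hmem
  · intro hle
    exact omegaRes_mem_WD hK h1 φ hφ u v hu hv E (fun P => by rw [← hC P]; exact hle P)

end Groth.Agent.Helper27.Tate
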