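import Groth.Agent.Lib.Helper27.WeilRes2
import Groth.Agent.Lib.Helper27.SepRes

/-! Residue Weil differentials over a general constant field (geometric case). -/

namespace Groth.Agent.Helper27.Tate

open FunFld Groth.Agent.Helper16.FF Groth.Agent.Helper27.TrF HahnSeries LaurentSeries
  Groth.Agent.Helper27.SepRes
open scoped WithZero

universe u v w

variable {k : Type u} {K : Type v} [Field k] [Field K] [Algebra k K]
variable {F : Place k K → Type w} [∀ P, Field (F P)] [∀ P, Algebra k (F P)]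
  [∀ P, FiniteDimensional k (F P)]

theorem hnd_of_geometric (hK : IsFunctionField k K) (hg : IsGeometric k K)
    (φ : ∀ P, K →ₐ[k] LaurentSeries (F P)) (hφ : ∀ P, LocRes.IsExpansionAt P.1 (φ P)) :
    ∀ P, ∃ c : F P, Algebra.trace k (F P) c ≠ 0 :=
  fun P => exists_trace_ne_zero hK hg P (φ P) (hφ P)

theorem ordDiff_nonneg_of_le_one (P : Place k K) (φ : K →ₐ[k] LaurentSeries (F P))
    (hφ : LocRes.IsExpansionAt P.1 φ) (u v : K) (hu : P.1 u ≤ 1) (hv : P.1 v ≤ 1) :
    0 ≤ LocRes.ordDiff φ u v := by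
  unfold LocRes.ordDiff
  have hle : LocRes.vDiff φ u v ≤ 1 := by
    unfold LocRes.vDiff
    rw [map_mul, hφ.1]
    have h4 : Valued.v (LocRes.D (F P) (φ v)) ≤ 1 :=
      DExp.val_D_le_one (φ v) (by rw [hφ.1]; exact hv)
    exact mul_le_one' hu h4
  by_cases h0 : LocRes.vDiff φ u v = 0
  · rw [h0]; simp
  · have := (WithZero.log_le_log h0 one_ne_zero).2 hle
    rw [WithZero.log_one] at this
    omega

/-- the residue form of `u dv` is a Weil differential -/
theorem omegaRes_isWeil (hK : IsFunctionField k K) (h1 : Module.finrank K (Ω[K⁄k]) = 1)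
    (φ : ∀ P, K →ₐ[k] LaurentSeries (F P)) (hφ : ∀ P, LocRes.IsExpansionAt P.1 (φ P))
    (u v : K) (hu : u ≠ 0) (hv : KaehlerDifferential.D k K v ≠ 0) :
    IsWeil (omegaRes hK φ hφ u v) := by
  classical
  have hfin : (Function.support fun P : Place k K =>
      min (LocRes.ordDiff (φ P) u v) 0).Finite := by
    refine ((finite_poles hK u).union (finite_poles hK v)).subset ?_
    intro P hP
    by_contra hne
    simp only [Set.mem_union, Set.mem_ofPred_eq, not_or, not_not] at hne
    apply hP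
    have := ordDiff_nonneg_of_le_one P (φ P) (hφ P) u v hne.1 hne.2
    simp only [min_eq_right this]
  refine ⟨Finsupp.ofSupportFinite _ hfin, ?_⟩
  apply omegaRes_mem_WD hK h1 φ hφ u v hu hv
  intro P
  show min (LocRes.ordDiff (φ P) u v) 0 ≤ _
  exact min_le_left _ _

theorem omegaRes_ne_zero (hK : IsFunctionField k K) (hg : IsGeometric k K)
    (φ : ∀ P, K →ₐ[k] LaurentSeries (F P)) (hφ : ∀ P, LocRes.IsExpansionAt P.1 (φ P))
    (u v : K) (hu : u ≠ 0) (hv : KaehlerDifferential.D k K v ≠ 0) :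
    omegaRes hK φ hφ u v ≠ 0 := by
  classical
  have h1 := finrank_kaehler_of_isGeometric hK hg
  obtain ⟨P⟩ := exists_place hK
  intro h0
  have := omegaRes_not_mem_WD hK h1 φ hφ u v hu hv
    (Finsupp.single P (LocRes.ordDiff (φ P) u v + 1)) P
    (by rw [Finsupp.single_eq_same]; omega) (hnd_of_geometric hK hg φ hφ P)
  rw [h0] at this
  exact this (Submodule.zero_mem _)

/-- the divisor of `u dv` read through expansions is a divisor -/
theorem exists_divisor_ordDiff (hK : IsFunctionField k K) (hg : IsGeometric k K)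
    (φ : ∀ P, K →ₐ[k] LaurentSeries (F P)) (hφ : ∀ P, LocRes.IsExpansionAt P.1 (φ P))
    (u v : K) (hu : u ≠ 0) (hv : KaehlerDifferential.D k K v ≠ 0) :
    ∃ W : Divisor k K, (∀ P, W P = LocRes.ordDiff (φ P) u v) ∧
      IsDivOf (omegaRes hK φ hφ u v) W := by
  classical
  have h1 := finrank_kaehler_of_isGeometric hK hg
  have hnd := hnd_of_geometric hK hg φ hφ
  obtain ⟨W, hW⟩ := exists_isDivOf hK (omegaRes_isWeil hK h1 φ hφ u v hu hv)
    (omegaRes_ne_zero hK hg φ hφ u v hu hv)
  have hle : ∀ P, W P ≤ LocRes.ordDiff (φ P) u v := by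
    intro P
    by_contra hlt
    push Not at hlt
    exact omegaRes_not_mem_WD hK h1 φ hφ u v hu hv W P hlt (hnd P) (IsDivOf.mem_WD hW)
  have hge : ∀ P, LocRes.ordDiff (φ P) u v ≤ W P := by
    intro P
    set E : Divisor k K := W + Finsupp.single P (LocRes.ordDiff (φ P) u v - W P) with hE
    have hEle : ∀ Q, E Q ≤ LocRes.ordDiff (φ Q) u v := by
      intro Q
      rw [hE, Finsupp.add_apply]
      by_cases hQ : Q = P
      · subst hQ; rw [Finsupp.single_eq_same]; omega
      · rw [Finsupp.single_apply, if_neg (Ne.symm hQ), add_zero]; exact hle Q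
    have hmem := omegaRes_mem_WD hK h1 φ hφ u v hu hv E hEle
    have := (hW E).1 hmem P
    rw [hE, Finsupp.add_apply, Finsupp.single_eq_same] at this
    omega
  have heq : ∀ P, W P = LocRes.ordDiff (φ P) u v := fun P => le_antisymm (hle P) (hge P)
  exact ⟨W, heq, hW⟩

theorem omegaRes_eq_mulW (hK : IsFunctionField k K)
    (φ : ∀ P, K →ₐ[k] LaurentSeries (F P)) (hφ : ∀ P, LocRes.IsExpansionAt P.1 (φ P))
    (u v : K) :
    omegaRes hK φ hφ u v = mulW u (smul_mem_adele hK u) (omegaRes hK φ hφ 1 v) := by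
  apply LinearMap.ext
  intro a
  rw [mulW_apply, omegaRes_apply, omegaRes_apply]
  congr 1
  funext P
  show LocRes.locRes (φ P) (a.1 P * u) v = LocRes.locRes (φ P) ((u • a.1) P * 1) v
  rw [Pi.smul_apply, smul_eq_mul, mul_one, mul_comm]

theorem main12581 (hK : IsFunctionField k K) (hg : IsGeometric k K)
    (φ : ∀ P, K →ₐ[k] LaurentSeries (F P)) (hφ : ∀ P, LocRes.IsExpansionAt P.1 (φ P))
    (u v : K) (hu : u ≠ 0) (hv : KaehlerDifferential.D k K v ≠ 0) :
    ∃ ω : Module.Dual k (adele k K),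
      (∀ a : adele k K, (Function.support fun P =>
          LocRes.locRes (φ P) ((a : Place k K → K) P * u) v).Finite ∧
        ω a = ∑ᶠ P, LocRes.locRes (φ P) ((a : Place k K → K) P * u) v) ∧
      IsWeil ω ∧ ω ≠ 0 ∧
      (Function.support fun P => LocRes.ordDiff (φ P) u v).Finite ∧
      ∀ C : Divisor k K, (∀ P, C P = LocRes.ordDiff (φ P) u v) → IsDivOf ω C := by
  have h1 := finrank_kaehler_of_isGeometric hK hg
  refine ⟨omegaRes hK φ hφ u v, fun a => ⟨finite_support_locRes_adele hK φ hφ a u v, rfl⟩,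
    omegaRes_isWeil hK h1 φ hφ u v hu hv, omegaRes_ne_zero hK hg φ hφ u v hu hv, ?_, ?_⟩
  · obtain ⟨W, hW, -⟩ := exists_divisor_ordDiff hK hg φ hφ u v hu hv
    have : (fun P => LocRes.ordDiff (φ P) u v) = ⇑W := funext fun P => (hW P).symm
    rw [this]
    exact Finsupp.finite_support W
  · intro C hC
    exact omegaRes_isDivOf hK h1 φ hφ u v hu hv (hnd_of_geometric hK hg φ hφ) C hC

end Groth.Agent.Helper27.Tate
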