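import Groth.Agent.Lib.Helper27.WeilRes4

/-! Kähler differentials onto Weil differentials; regular differentials (general constant field). -/

namespace Groth.Agent.Helper27.Tate

open FunFld Groth.Agent.Helper16.FF Groth.Agent.Helper27.TrF HahnSeries LaurentSeries
  Groth.Agent.Helper27.SepRes
open scoped WithZero

universe u v w

variable {k : Type u} {K : Type v} [Field k] [Field K] [Algebra k K]
variable {F : Place k K → Type w} [∀ P, Field (F P)] [∀ P, Algebra k (F P)]
  [∀ P, FiniteDimensional k (F P)]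

theorem mulWL_omegaRes (hK : IsFunctionField k K)
    (φ : ∀ P, K →ₐ[k] LaurentSeries (F P)) (hφ : ∀ P, LocRes.IsExpansionAt P.1 (φ P))
    (u v : K) : mulWL hK (omegaRes hK φ hφ 1 v) u = omegaRes hK φ hφ u v := by
  rw [mulWL_apply, ← omegaRes_eq_mulW]

theorem main12628 (hK : IsFunctionField k K) (hg : IsGeometric k K)
    (φ : ∀ P, K →ₐ[k] LaurentSeries (F P)) (hφ : ∀ P, LocRes.IsExpansionAt P.1 (φ P))
    (v : K) (hv : KaehlerDifferential.D k K v ≠ 0)
    (ω : Module.Dual k (adele k K)) (hω : IsWeil ω) :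
    ∃! u : K, ∀ a : adele k K,
      (Function.support fun P =>
        LocRes.locRes (φ P) ((a : Place k K → K) P * u) v).Finite ∧
        ω a = ∑ᶠ P, LocRes.locRes (φ P) ((a : Place k K → K) P * u) v := by
  have h1 := finrank_kaehler_of_isGeometric hK hg
  have hω₀w := omegaRes_isWeil hK h1 φ hφ 1 v one_ne_zero hv
  have hω₀0 := omegaRes_ne_zero hK hg φ hφ 1 v one_ne_zero hv
  obtain ⟨x, hx⟩ := exists_mulW_eq hK hω₀w hω₀0 hω
  refine ⟨x, fun a => ⟨finite_support_locRes_adele hK φ hφ a x v, ?_⟩, ?_⟩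
  · rw [← hx, ← omegaRes_eq_mulW]; rfl
  · intro u' hu'
    apply mulWL_injective hK hω₀0
    rw [mulWL_omegaRes, mulWL_omegaRes]
    apply LinearMap.ext
    intro a
    rw [omegaRes_apply, ← (hu' a).2, ← hx, ← omegaRes_eq_mulW, omegaRes_apply]

/-- differentials with divisor at least `D`, as a submodule -/
theorem setOf_vDiff_le_eq (hK : IsFunctionField k K) (hg : IsGeometric k K)
    (φ : ∀ P, K →ₐ[k] LaurentSeries (F P)) (hφ : ∀ P, LocRes.IsExpansionAt P.1 (φ P))
    (v : K) (hv : KaehlerDifferential.D k K v ≠ 0) (D : Divisor k K) :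
    {y : K | ∀ P, LocRes.vDiff (φ P) y v ≤ WithZero.exp (-(D P))} =
      ↑(Submodule.comap (mulWL hK (omegaRes hK φ hφ 1 v)) (WD D)) := by
  have h1 := finrank_kaehler_of_isGeometric hK hg
  ext y
  simp only [Set.mem_ofPred_eq, SetLike.mem_coe, Submodule.mem_comap, mulWL_omegaRes]
  by_cases hy : y = 0
  · subst hy
    constructor
    · intro _
      have : omegaRes hK φ hφ 0 v = 0 := by
        rw [← mulWL_omegaRes, map_zero]
      rw [this]; exact Submodule.zero_mem _
    · intro _ P
      unfold LocRes.vDiff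
      rw [map_zero, zero_mul, map_zero]
      exact zero_le
  · constructor
    · intro h
      apply omegaRes_mem_WD hK h1 φ hφ y v hy hv
      intro P
      have := h P
      rw [vDiff_eq_exp h1 P (φ P) (hφ P) y v hy hv, WithZero.exp_le_exp] at this
      omega
    · intro h P
      rw [vDiff_eq_exp h1 P (φ P) (hφ P) y v hy hv, WithZero.exp_le_exp]
      by_contra hlt
      push Not at hlt
      exact omegaRes_not_mem_WD hK h1 φ hφ y v hy hv D P (by omega)
        (hnd_of_geometric hK hg φ hφ P) h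

theorem main12629 (hK : IsFunctionField k K) (hg : IsGeometric k K)
    (φ : ∀ P, K →ₐ[k] LaurentSeries (F P)) (hφ : ∀ P, LocRes.IsExpansionAt P.1 (φ P))
    (v : K) (hv : KaehlerDifferential.D k K v ≠ 0) (D : Divisor k K) :
    Module.finrank k (Submodule.span k
        {y : K | ∀ P, LocRes.vDiff (φ P) y v ≤ WithZero.exp (-(D P))}) =
      Module.finrank k (WD D) := by
  have h1 := finrank_kaehler_of_isGeometric hK hg
  have hω₀w := omegaRes_isWeil hK h1 φ hφ 1 v one_ne_zero hv
  have hω₀0 := omegaRes_ne_zero hK hg φ hφ 1 v one_ne_zero hv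
  rw [setOf_vDiff_le_eq hK hg φ hφ v hv D, Submodule.span_eq]
  set Ψ := mulWL hK (omegaRes hK φ hφ 1 v) with hΨ
  have hinj : Function.Injective Ψ := mulWL_injective hK hω₀0
  have hle : WD D ≤ LinearMap.range Ψ := by
    intro ω hω
    obtain ⟨x, hx⟩ := exists_mulW_eq hK hω₀w hω₀0 ⟨D, hω⟩
    exact ⟨x, hx⟩
  have hmap : Submodule.map Ψ (Submodule.comap Ψ (WD D)) = WD D := by
    rw [Submodule.map_comap_eq, inf_eq_right.2 hle]
  have e := (Submodule.equivMapOfInjective Ψ hinj (Submodule.comap Ψ (WD D))).finrank_eq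
  rw [hmap] at e
  exact e

theorem main12582 (hK : IsFunctionField k K) (hg : IsGeometric k K)
    (φ : ∀ P, K →ₐ[k] LaurentSeries (F P)) (hφ : ∀ P, LocRes.IsExpansionAt P.1 (φ P))
    (x : K) (hx : KaehlerDifferential.D k K x ≠ 0) :
    Module.finrank k (Submodule.span k {y : K | ∀ P, LocRes.vDiff (φ P) y x ≤ 1}) =
      genus k K := by
  have h := main12629 hK hg φ hφ x hx 0
  have e : {y : K | ∀ P, LocRes.vDiff (φ P) y x ≤ 1} =
      {y : K | ∀ P : Place k K, LocRes.vDiff (φ P) y x ≤
        WithZero.exp (-((0 : Divisor k K) P))} := by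
    ext y
    simp
  rw [e, h, (finrank_WD hK 0).2]
  have := idx_eq hK (0 : Divisor k K)
  rw [Divisor.deg_zero, ell_zero hK] at this
  push_cast at this
  omega

theorem main12631 (hK : IsFunctionField k K) (hg : IsGeometric k K) (hg1 : genus k K = 1)
    (φ : ∀ P, K →ₐ[k] LaurentSeries (F P)) (hφ : ∀ P, LocRes.IsExpansionAt P.1 (φ P))
    (v : K) (hv : KaehlerDifferential.D k K v ≠ 0) :
    (∃ u : K, u ≠ 0 ∧ ∀ P, LocRes.vDiff (φ P) u v = 1) ∧
      ∀ u u' : K, u ≠ 0 → (∀ P, LocRes.vDiff (φ P) u v = 1) →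
        (∀ P, LocRes.vDiff (φ P) u' v = 1) → ∃ c : k, u' = c • u := by
  classical
  have h1 := finrank_kaehler_of_isGeometric hK hg
  obtain ⟨W, hW, hdiv⟩ := exists_divisor_ordDiff hK hg φ hφ 1 v one_ne_zero hv
  have hcan : IsCanonical k K W := ⟨_, IsDivOf.ne_zero hK hdiv, hdiv⟩
  obtain ⟨hell, hdeg⟩ := canonical_ell_deg hK hcan
  rw [hg1] at hell hdeg
  refine ⟨?_, ?_⟩
  · obtain ⟨f, hf0, hf⟩ := exists_ne_zero_mem_L hK (D := W) (by rw [hell]; norm_num)
    rw [mem_L_iff hK _ hf0] at hf
    have heq : -W = div k f := by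
      by_contra hne
      have := Divisor.deg_lt_of_lt hK (lt_of_le_of_ne hf hne)
      rw [Divisor.deg_neg, deg_div hK, hdeg] at this
      norm_num at this
    refine ⟨f, hf0, fun P => ?_⟩
    have h2 := vDiff_mul P (φ P) (hφ P) f 1 v
    rw [mul_one] at h2
    rw [h2, vDiff_eq_exp h1 P (φ P) (hφ P) 1 v one_ne_zero hv, ← hW P,
      Place.val_eq_exp_neg_ord P hf0, ← WithZero.exp_add]
    have h3 := congrArg (fun E : Divisor k K => E P) heq
    simp only [Finsupp.neg_apply, div_apply hK] at h3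
    rw [← h3]
    simp
  · intro u u' hu hu1 hu1'
    obtain ⟨P₀⟩ := exists_place hK
    have hu' : u' ≠ 0 := by
      rintro rfl
      have := hu1' P₀
      unfold LocRes.vDiff at this
      rw [map_zero, zero_mul, map_zero] at this
      exact zero_ne_one this
    set z := u' / u with hz
    have hz0 : z ≠ 0 := div_ne_zero hu' hu
    have hval : ∀ P : Place k K, P.1 z = 1 := by
      intro P
      have h2 := vDiff_mul P (φ P) (hφ P) z u v
      have e : z * u = u' := by rw [hz]; field_simp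
      rw [e, hu1 P, hu1' P, mul_one] at h2
      exact h2.symm
    have hzalg : IsAlgebraic k z := by
      by_contra htr
      obtain ⟨P, hP⟩ := exists_zero hK (show Transcendental k z from htr)
      rw [hval P] at hP
      exact lt_irrefl _ hP
    obtain ⟨c, hc⟩ := hK.2 z hzalg
    refine ⟨c, ?_⟩
    rw [Algebra.smul_def, hc, hz]
    field_simp

end Groth.Agent.Helper27.Tate
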