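import Mathlib
set_option autoImplicit false
universe u
open Polynomial

namespace Groth.Agent.Helper27.Weil

/-- Finite set of non-real complex numbers closed under conjugation, all of square-norm `q`. -/
lemma prod_neg_conj_closed (S : Finset ℂ) (q : ℝ)
    (hconj : ∀ z ∈ S, (starRingEnd ℂ) z ∈ S) (him : ∀ z ∈ S, z.im ≠ 0)
    (hnorm : ∀ z ∈ S, z * (starRingEnd ℂ) z = (q : ℂ)) :
    ∃ d : ℕ, S.card = 2 * d ∧ ∏ z ∈ S, (-z) = (q : ℂ) ^ d := by
  classical
  set U := S.filter (fun z => 0 < z.im) with hU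
  set L := S.filter (fun z => z.im < 0) with hL
  have hUL : S = U ∪ L := by
    ext z
    simp only [hU, hL, Finset.mem_union, Finset.mem_filter]
    constructor
    · intro hz
      rcases lt_or_gt_of_ne (him z hz) with h | h
      · exact Or.inr ⟨hz, h⟩
      · exact Or.inl ⟨hz, h⟩
    · rintro (h | h) <;> exact h.1
  have hdisj : Disjoint U L := by
    rw [Finset.disjoint_left]
    intro z hz1 hz2
    simp only [hU, hL, Finset.mem_filter] at hz1 hz2
    linarith [hz1.2, hz2.2]
  have hcard : L.card = U.card := by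
    apply Finset.card_nbij' (starRingEnd ℂ) (starRingEnd ℂ)
    · intro z hz
      simp only [hU, hL, Finset.coe_filter, Set.mem_ofPred_eq] at hz ⊢
      exact ⟨hconj z hz.1, by simpa using hz.2⟩
    · intro z hz
      simp only [hU, hL, Finset.coe_filter, Set.mem_ofPred_eq] at hz ⊢
      exact ⟨hconj z hz.1, by simpa using hz.2⟩
    · intro z _; simp
    · intro z _; simp
  have hprodL : ∏ z ∈ L, (-z) = ∏ z ∈ U, (-(starRingEnd ℂ) z) := by
    apply Finset.prod_nbij' (starRingEnd ℂ) (starRingEnd ℂ)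
    · intro z hz
      simp only [hU, hL, Finset.mem_filter] at hz ⊢
      exact ⟨hconj z hz.1, by simpa using hz.2⟩
    · intro z hz
      simp only [hU, hL, Finset.mem_filter] at hz ⊢
      exact ⟨hconj z hz.1, by simpa using hz.2⟩
    · intro z _; simp
    · intro z _; simp
    · intro z _; simp
  refine ⟨U.card, ?_, ?_⟩
  · rw [hUL, Finset.card_union_of_disjoint hdisj, hcard]; ring
  · rw [hUL, Finset.prod_union hdisj, hprodL, ← Finset.prod_mul_distrib]
    rw [Finset.prod_congr rfl (fun z hz => ?_), Finset.prod_const]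
    have hzS : z ∈ S := (Finset.mem_filter.1 hz).1
    rw [neg_mul_neg, hnorm z hzS]


theorem main (p e : ℕ) [Fact p.Prime] (he : 0 < e)
    (K : Type u) [Field K] [CharZero K] (π : K) (hπ : IsIntegral ℤ π)
    (hweil : ∀ z ∈ (minpoly ℤ π).aroots ℂ, ‖z‖ = Real.sqrt ((p : ℝ) ^ e))
    (hnr : ∀ z ∈ (minpoly ℤ π).aroots ℂ, z.im ≠ 0) :
    Even (minpoly ℤ π).natDegree ∧
      ∀ r ≤ (minpoly ℤ π).natDegree / 2,
        (minpoly ℤ π).coeff ((minpoly ℤ π).natDegree / 2 - r) =
          (p : ℤ) ^ (e * r) * (minpoly ℤ π).coeff ((minpoly ℤ π).natDegree / 2 + r) := by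
  classical
  set P := minpoly ℤ π with hP
  have hmonic : P.Monic := minpoly.monic hπ
  set Pc : ℂ[X] := P.map (algebraMap ℤ ℂ) with hPc
  have hPcmonic : Pc.Monic := hmonic.map _
  have hdeg : Pc.natDegree = P.natDegree := hmonic.natDegree_map _
  have hPc0 : Pc ≠ 0 := hPcmonic.ne_zero
  -- separability
  have hsep : Pc.Separable := by
    have h1 : minpoly ℚ π = P.map (algebraMap ℤ ℚ) :=
      minpoly.isIntegrallyClosed_eq_field_fractions' ℚ hπ
    have h2 : (P.map (algebraMap ℤ ℚ)).Separable := by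
      rw [← h1]
      exact (minpoly.irreducible (hπ.tower_top)).separable
    have h3 : Pc = (P.map (algebraMap ℤ ℚ)).map (algebraMap ℚ ℂ) := by
      rw [hPc, Polynomial.map_map]
      congr 1
    rw [h3]
    exact h2.map
  have hroots : P.aroots ℂ = Pc.roots := rfl
  have hnodup : Pc.roots.Nodup := nodup_roots hsep
  have hcardroots : Pc.roots.card = Pc.natDegree := IsAlgClosed.card_roots_eq_natDegree
  set S : Finset ℂ := Pc.roots.toFinset with hS
  have hScard : S.card = P.natDegree := by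
    rw [hS, Multiset.toFinset_card_of_nodup hnodup, hcardroots, hdeg]
  have hmemS : ∀ z, z ∈ S ↔ Pc.eval z = 0 := by
    intro z
    rw [hS, Multiset.mem_toFinset, mem_roots hPc0, IsRoot.def]
  set q : ℝ := (p : ℝ) ^ e with hq
  have hqpos : 0 < q := by
    have : 0 < (p : ℝ) := by exact_mod_cast (Fact.out : p.Prime).pos
    positivity
  have hconj : ∀ z ∈ S, (starRingEnd ℂ) z ∈ S := by
    intro z hz
    rw [hmemS] at hz ⊢
    have : Pc.eval ((starRingEnd ℂ) z) = (starRingEnd ℂ) (Pc.eval z) := by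
      rw [hPc, eval_map, eval_map, hom_eval₂]
      congr 1
      exact Subsingleton.elim _ _
    rw [this, hz, map_zero]
  have him : ∀ z ∈ S, z.im ≠ 0 := fun z hz => hnr z (by rw [hroots]; exact Multiset.mem_toFinset.1 hz)
  have hnorm : ∀ z ∈ S, z * (starRingEnd ℂ) z = (q : ℂ) := by
    intro z hz
    have h := hweil z (by rw [hroots]; exact Multiset.mem_toFinset.1 hz)
    rw [Complex.mul_conj, Complex.normSq_eq_norm_sq, h, Real.sq_sqrt hqpos.le]
  obtain ⟨d, hd, hprod⟩ := prod_neg_conj_closed S q hconj him hnorm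
  have hn : P.natDegree = 2 * d := by rw [← hScard, hd]
  have hdiv : P.natDegree / 2 = d := by omega
  -- constant coefficient
  have hcoeff0 : Pc.coeff 0 = (q : ℂ) ^ d := by
    rw [coeff_zero_eq_eval_zero]
    conv_lhs => rw [(IsAlgClosed.splits Pc).eq_prod_roots_of_monic hPcmonic]
    rw [eval_multiset_prod, Multiset.map_map, ← hprod]
    rw [Finset.prod_eq_multiset_prod, hS, Multiset.toFinset_val, Multiset.dedup_eq_self.2 hnodup]
    congr 1
    apply Multiset.map_congr rfl
    intro z _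
    simp
  have hqC : (q : ℂ) ≠ 0 := by exact_mod_cast hqpos.ne'
  have hcoeff0ne : Pc.coeff 0 ≠ 0 := by rw [hcoeff0]; exact pow_ne_zero _ hqC
  -- the reflected, rescaled polynomial
  have hrevdeg : Pc.reverse.natDegree = Pc.natDegree := by
    rw [reverse_natDegree, natTrailingDegree_eq_zero.2 (Or.inr hcoeff0ne), Nat.sub_zero]
  set F : ℂ[X] := scaleRoots Pc.reverse (q : ℂ) with hF
  have hFdeg : F.natDegree = Pc.natDegree := by rw [hF, natDegree_scaleRoots, hrevdeg]
  have hFcoeff : ∀ i ≤ Pc.natDegree, F.coeff i = Pc.coeff (Pc.natDegree - i) * (q : ℂ) ^ (Pc.natDegree - i) := by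
    intro i hi
    rw [hF, coeff_scaleRoots, hrevdeg, coeff_reverse, revAt_le hi]
  have hFroot : ∀ w ∈ S, F.eval w = 0 := by
    intro w hw
    have hz' := hconj w hw
    set z' := (starRingEnd ℂ) w with hz'def
    have hz'0 : z' ≠ 0 := by
      intro h0
      have := hnorm w hw
      rw [← hz'def, h0, mul_zero] at this
      exact hqC this.symm
    have hw_eq : w = (q : ℂ) * z'⁻¹ := by
      have := hnorm w hw
      rw [← hz'def] at this
      field_simp
      exact this
    haveI : Invertible z' := invertibleOfNonzero hz'0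
    have h1 : eval₂ (RingHom.id ℂ) (⅟z') Pc.reverse = 0 := by
      rw [eval₂_reverse_eq_zero_iff, eval₂_id]
      exact (hmemS z').1 hz'
    have h2 := scaleRoots_eval₂_eq_zero (RingHom.id ℂ) (s := (q : ℂ)) h1
    rw [eval₂_id, RingHom.id_apply, invOf_eq_inv] at h2
    rw [hw_eq]; exact h2
  -- F = C (q^d) * Pc
  have hFeq : F = C ((q : ℂ) ^ d) * Pc := by
    rw [← sub_eq_zero]
    by_contra hG
    have hdeglt : (F - C ((q : ℂ) ^ d) * Pc).degree < (Pc.natDegree : ℕ) := by
      rw [degree_lt_iff_coeff_zero]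
      intro m hm
      rw [coeff_sub, coeff_C_mul]
      rcases Nat.eq_or_lt_of_le hm with h | h
      · subst h
        rw [hFcoeff _ le_rfl, Nat.sub_self, pow_zero, mul_one, hcoeff0, hPcmonic.coeff_natDegree,
          mul_one, sub_self]
      · rw [coeff_eq_zero_of_natDegree_lt (by rw [hFdeg]; exact h),
          coeff_eq_zero_of_natDegree_lt h, mul_zero, sub_zero]
    have hnatlt : (F - C ((q : ℂ) ^ d) * Pc).natDegree < S.card := by
      rw [hScard, ← hdeg]
      exact (natDegree_lt_iff_degree_lt hG).2 hdeglt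
    apply hG
    apply eq_zero_of_natDegree_lt_card_of_eval_eq_zero' _ S _ hnatlt
    intro w hw
    rw [eval_sub, eval_mul, hFroot w hw, (hmemS w).1 hw, mul_zero, sub_zero]
  -- conclude
  refine ⟨⟨d, by rw [hn]; ring⟩, fun r hr => ?_⟩
  rw [hdiv] at hr ⊢
  have hcast : ∀ j, ((P.coeff j : ℤ) : ℂ) = Pc.coeff j := by
    intro j; rw [hPc, coeff_map]; rfl
  have h1 := hFcoeff (d - r) (by rw [hdeg, hn]; omega)
  rw [hFeq, coeff_C_mul, hdeg, hn] at h1
  have e1 : 2 * d - (d - r) = d + r := by omega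
  rw [e1, pow_add] at h1
  have h2 : Pc.coeff (d - r) = Pc.coeff (d + r) * (q : ℂ) ^ r := by
    have hqd : (q : ℂ) ^ d ≠ 0 := pow_ne_zero _ hqC
    apply mul_left_cancel₀ hqd
    rw [h1]; ring
  rw [← hcast, ← hcast] at h2
  have hqcast : (q : ℂ) = ((p : ℤ) : ℂ) ^ e := by
    rw [hq]; push_cast; rfl
  rw [hqcast, ← pow_mul] at h2
  have h3 : ((P.coeff (d - r) : ℤ) : ℂ) = (((p : ℤ) ^ (e * r) * P.coeff (d + r) : ℤ) : ℂ) := by
    rw [h2]; push_cast; ring
  exact_mod_cast h3

end Groth.Agent.Helper27.Weil
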