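import Mathlib

/-!
# Successive approximation in Witt vectors

`exists_sum_map_mul_frobenius_teichmuller`: if every element of `B`, multiplied by `a ^ p ^ (n+i)`,
is a sum of terms `c τ * β τ ^ p ^ (n+i)` with `c τ` coming from `A` (with a termwise divisibility
control), then `[a] ^ p ^ n * η` is a `W(A)`-combination of the `F^n [β τ]` for every `η : W(B)`.
-/

namespace Groth.Agent.Helper27

open WittVector Function

variable {p : ℕ} [hp : Fact p.Prime]

section basics

variable {R S : Type*} [CommRing R] [CommRing S]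

theorem iterate_frobenius_teichmuller [CharP R p] (b : R) (k : ℕ) :
    (⇑(frobenius : WittVector p R →+* WittVector p R))^[k] (teichmuller p b)
      = teichmuller p (b ^ p ^ k) := by
  induction k with
  | zero => simp
  | succ k ih =>
    rw [iterate_succ_apply', ih, frobenius_eq_map_frobenius, map_teichmuller, frobenius_def,
      ← pow_mul, pow_succ]

theorem map_iterate_verschiebung (f : R →+* S) (x : WittVector p R) (k : ℕ) :
    WittVector.map f ((⇑(verschiebung : WittVector p R →+ WittVector p R))^[k] x)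
      = (⇑(verschiebung : WittVector p S →+ WittVector p S))^[k] (WittVector.map f x) := by
  induction k with
  | zero => simp
  | succ k ih => rw [iterate_succ_apply', iterate_succ_apply', map_verschiebung, ih]

theorem iterate_verschiebung_add (x y : WittVector p R) (k : ℕ) :
    (⇑(verschiebung : WittVector p R →+ WittVector p R))^[k] (x + y)
      = (⇑(verschiebung : WittVector p R →+ WittVector p R))^[k] x
        + (⇑(verschiebung : WittVector p R →+ WittVector p R))^[k] y := by
  induction k with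
  | zero => simp
  | succ k ih => rw [iterate_succ_apply', iterate_succ_apply', iterate_succ_apply', ih, map_add]

theorem iterate_verschiebung_sum {ι : Type*} (s : Finset ι) (x : ι → WittVector p R) (k : ℕ) :
    (⇑(verschiebung : WittVector p R →+ WittVector p R))^[k] (∑ i ∈ s, x i)
      = ∑ i ∈ s, (⇑(verschiebung : WittVector p R →+ WittVector p R))^[k] (x i) := by
  induction k with
  | zero => simp
  | succ k ih =>
    rw [iterate_succ_apply', ih, map_sum]
    simp only [iterate_succ_apply']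

/-- coefficients of `∑ i < m, V^i [c i]` -/
theorem coeff_sum_iterate_verschiebung_teichmuller (c : ℕ → R) (m j : ℕ) :
    (∑ i ∈ Finset.range m,
      (⇑(verschiebung : WittVector p R →+ WittVector p R))^[i] (teichmuller p (c i))).coeff j
      = if j < m then c j else 0 := by
  have hcoeff : ∀ i j : ℕ, ((⇑(verschiebung : WittVector p R →+ WittVector p R))^[i]
      (teichmuller p (c i))).coeff j = if j = i then c i else 0 := by
    intro i j
    rcases lt_trichotomy j i with h | h | h
    · rw [iterate_verschiebung_coeff_eq_zero _ h, if_neg h.ne]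
    · subst h
      have := iterate_verschiebung_coeff (p := p) (teichmuller p (c j)) j 0
      rw [zero_add] at this
      rw [this, teichmuller_coeff_zero, if_pos rfl]
    · obtain ⟨k, rfl⟩ : ∃ k, j = (k + 1) + i := ⟨j - i - 1, by omega⟩
      rw [iterate_verschiebung_coeff, teichmuller_coeff_pos _ _ _ (Nat.succ_pos k), if_neg (by omega)]
  rw [sum_coeff_eq_coeff_sum]
  · simp only [hcoeff]
    by_cases hj : j < m
    · rw [if_pos hj, Finset.sum_ite_eq (Finset.range m) j, if_pos (Finset.mem_range.mpr hj)]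
    · rw [if_neg hj, Finset.sum_ite_eq (Finset.range m) j, if_neg (by simpa using hj)]
  · intro n
    refine ⟨fun ⟨a, _, ha⟩ ⟨b, _, hb⟩ => ?_⟩
    ext
    simp only [hcoeff, ne_eq, ite_eq_right_iff, Classical.not_imp] at ha hb
    show a = b
    rw [← ha.1, ← hb.1]

end basics

section main

variable {A B : Type*} [CommRing A] [CommRing B] [CharP B p]

omit [CharP B p] in
/-- The sequence of remainders. -/
theorem exists_remainder_seq (f : A →+* B) (n : ℕ) (a : A)
    {ι : Type*} [Fintype ι] (β : ι → B)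
    (H : ∀ (i : ℕ) (b : B), ∃ (c : ι → A) (d : ι → B), b = ∑ τ, d τ ∧
      ∀ τ, f (c τ) * β τ ^ p ^ (n + i) = f a ^ p ^ (n + i) * d τ)
    (η : WittVector p B) :
    ∃ (θ : ℕ → WittVector p B) (cc : ℕ → ι → A) (dd : ℕ → ι → B), θ 0 = η ∧
      (∀ i, θ i = ∑ τ, teichmuller p (dd i τ) + verschiebung (θ (i + 1))) ∧
      (∀ i τ, f (cc i τ) * β τ ^ p ^ (n + i) = f a ^ p ^ (n + i) * dd i τ) := by
  classical
  choose c d hsum hcd using H
  -- the sequence of remainders
  let θ : ℕ → WittVector p B := fun i =>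
    Nat.rec η (fun i θi => (θi - ∑ τ, teichmuller p (d i (θi.coeff 0) τ)).shift 1) i
  have hθ0 : θ 0 = η := rfl
  have hθs : ∀ i, θ (i + 1) = (θ i - ∑ τ, teichmuller p (d i ((θ i).coeff 0) τ)).shift 1 :=
    fun i => rfl
  clear_value θ
  refine ⟨θ, fun i τ => c i ((θ i).coeff 0) τ, fun i τ => d i ((θ i).coeff 0) τ, hθ0, ?_, ?_⟩
  · intro i
    have h0 : ∀ j < 0 + 1, (θ i - ∑ τ, teichmuller p (d i ((θ i).coeff 0) τ)).coeff j = 0 := by
      intro j hj
      obtain rfl : j = 0 := by omega
      have : (θ i - ∑ τ, teichmuller p (d i ((θ i).coeff 0) τ)).coeff 0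
          = constantCoeff (θ i - ∑ τ, teichmuller p (d i ((θ i).coeff 0) τ)) := rfl
      rw [this, map_sub, map_sum]
      simp only [constantCoeff_apply, teichmuller_coeff_zero]
      rw [← hsum i ((θ i).coeff 0), sub_self]
    have h1 := verschiebung_shift _ 0 h0
    have h2 : (θ i - ∑ τ, teichmuller p (d i ((θ i).coeff 0) τ)).shift 0
        = θ i - ∑ τ, teichmuller p (d i ((θ i).coeff 0) τ) := by
      ext k
      rw [shift_coeff, zero_add]
    rw [hθs i, h1, h2]
    ring
  · intro i τ
    exact hcd i ((θ i).coeff 0) τ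

/-- The partial identity. -/
theorem partial_identity (f : A →+* B) (n : ℕ) (a : A)
    {ι : Type*} [Fintype ι] (β : ι → B)
    (θ : ℕ → WittVector p B) (cc : ℕ → ι → A) (dd : ℕ → ι → B)
    (hdecomp : ∀ i, θ i = ∑ τ, teichmuller p (dd i τ) + verschiebung (θ (i + 1)))
    (hcd : ∀ i τ, f (cc i τ) * β τ ^ p ^ (n + i) = f a ^ p ^ (n + i) * dd i τ) (m : ℕ) :
    teichmuller p (f a) ^ p ^ n * θ 0 =
      ∑ τ, WittVector.map f (∑ i ∈ Finset.range m,
          (⇑(verschiebung : WittVector p A →+ WittVector p A))^[i] (teichmuller p (cc i τ))) *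
          (⇑(frobenius : WittVector p B →+* WittVector p B))^[n] (teichmuller p (β τ))
        + (⇑(verschiebung : WittVector p B →+ WittVector p B))^[m]
            (teichmuller p (f a) ^ p ^ (n + m) * θ m) := by
  induction m with
  | zero => simp
  | succ m ih =>
    rw [ih]
    simp only [Finset.sum_range_succ, map_add, add_mul, Finset.sum_add_distrib]
    rw [add_assoc]
    congr 1
    have hfrob : frobenius (teichmuller p (f a) ^ p ^ (n + m))
        = teichmuller p (f a) ^ p ^ (n + (m + 1)) := by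
      rw [map_pow, frobenius_eq_map_frobenius, map_teichmuller, frobenius_def,
        map_pow (teichmuller p), ← pow_mul, ← pow_succ', add_assoc]
    have h1 : teichmuller p (f a) ^ p ^ (n + m) * verschiebung (θ (m + 1))
        = verschiebung (teichmuller p (f a) ^ p ^ (n + (m + 1)) * θ (m + 1)) := by
      rw [mul_comm, ← verschiebung_mul_frobenius, hfrob, mul_comm]
    have h2 : ∀ τ, (⇑(verschiebung : WittVector p B →+ WittVector p B))^[m]
          (teichmuller p (f a) ^ p ^ (n + m) * teichmuller p (dd m τ))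
        = WittVector.map f ((⇑(verschiebung : WittVector p A →+ WittVector p A))^[m]
            (teichmuller p (cc m τ))) *
          (⇑(frobenius : WittVector p B →+* WittVector p B))^[n] (teichmuller p (β τ)) := by
      intro τ
      rw [map_iterate_verschiebung, map_teichmuller, iterate_verschiebung_mul_left,
        ← iterate_add_apply, iterate_frobenius_teichmuller, ← map_pow, ← map_mul, ← map_mul,
        add_comm m n, hcd m τ]
    conv_lhs => rw [hdecomp m, mul_add, Finset.mul_sum, h1]
    rw [iterate_verschiebung_add, iterate_verschiebung_sum, ← iterate_succ_apply]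
    simp only [h2]

/-- Successive approximation. -/
theorem exists_sum_map_mul_frobenius_teichmuller (f : A →+* B) (n : ℕ) (a : A)
    {ι : Type*} [Fintype ι] (β : ι → B)
    (H : ∀ (i : ℕ) (b : B), ∃ (c : ι → A) (d : ι → B), b = ∑ τ, d τ ∧
      ∀ τ, f (c τ) * β τ ^ p ^ (n + i) = f a ^ p ^ (n + i) * d τ)
    (η : WittVector p B) :
    ∃ x : ι → WittVector p A,
      teichmuller p (f a) ^ p ^ n * η =
        ∑ τ, WittVector.map f (x τ) *
          (⇑(frobenius : WittVector p B →+* WittVector p B))^[n] (teichmuller p (β τ)) := by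
  classical
  obtain ⟨θ, cc, dd, hθ0, hdecomp, hcd⟩ := exists_remainder_seq f n a β H η
  have hE := partial_identity f n a β θ cc dd hdecomp hcd
  rw [hθ0] at hE
  refine ⟨fun τ => WittVector.mk p (fun i => cc i τ), ?_⟩
  rw [← sub_eq_zero]
  have hbot : (teichmuller p (f a) ^ p ^ n * η -
      ∑ τ, WittVector.map f (WittVector.mk p (fun i => cc i τ)) *
        (⇑(frobenius : WittVector p B →+* WittVector p B))^[n] (teichmuller p (β τ))) ∈
      (⨅ i : ℕ, RingHom.ker (WittVector.truncate (p := p) (R := B) i)) := by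
    rw [Ideal.mem_iInf]
    intro m
    have hV : WittVector.truncate m ((⇑(verschiebung : WittVector p B →+ WittVector p B))^[m]
        (teichmuller p (f a) ^ p ^ (n + m) * θ m)) = 0 := by
      rw [← RingHom.mem_ker, mem_ker_truncate]
      intro i hi
      exact iterate_verschiebung_coeff_eq_zero _ hi
    rw [RingHom.mem_ker, map_sub, hE m, map_add, hV, add_zero, map_sum, map_sum, sub_eq_zero]
    apply Finset.sum_congr rfl
    intro τ _
    rw [map_mul, map_mul]
    congr 1
    apply TruncatedWittVector.ext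
    intro i
    rw [WittVector.coeff_truncate, WittVector.coeff_truncate, map_coeff, map_coeff]
    congr 1
    rw [coeff_sum_iterate_verschiebung_teichmuller (fun i => cc i τ) m i, if_pos i.2, coeff_mk]
  rw [TruncatedWittVector.iInf_ker_truncate] at hbot
  exact hbot

end main

section cyclic

theorem exists_inverse_mod (ℓ : ℕ) (hℓ : 0 < ℓ) (hpℓ : ¬ p ∣ ℓ) (k : ℕ) :
    ∃ r q : ℕ, r ≤ ℓ ∧ q ≤ p ^ k ∧ r * p ^ k = 1 + q * ℓ := by
  have hp' : p.Prime := hp.out
  have hpos : 0 < p ^ k := pow_pos hp'.pos k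
  rcases Nat.lt_or_ge 1 ℓ with h1 | h1
  · have hcop : Nat.Coprime (p ^ k) ℓ :=
      Nat.Coprime.pow_left k ((Nat.Prime.coprime_iff_not_dvd hp').mpr hpℓ)
    obtain ⟨m, hm, hm1⟩ := Nat.exists_mul_mod_eq_one_of_coprime hcop h1
    refine ⟨m, p ^ k * m / ℓ, hm.le, ?_, ?_⟩
    · apply Nat.le_of_lt_succ
      rw [Nat.div_lt_iff_lt_mul hℓ]
      nlinarith
    · have := Nat.div_add_mod (p ^ k * m) ℓ
      rw [hm1] at this
      linarith
  · obtain rfl : ℓ = 1 := by omega
    exact ⟨1, p ^ k - 1, le_refl _, Nat.sub_le _ _, by omega⟩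

variable {A B : Type*} [CommRing A] [CommRing B] [Algebra A B]

theorem cyclic_hyp (ℓ n : ℕ) (hℓ : 0 < ℓ) (hpℓ : ¬ p ∣ ℓ)
    (Y : Finset B) (hspan : Submodule.span A (Y : Set B) = ⊤)
    (α : B → A) (hα : ∀ y ∈ Y, algebraMap A B (α y) = y ^ ℓ) (i : ℕ) (b : B) :
    ∃ (c : (↥Y × Fin (ℓ + 1)) → A) (d : (↥Y × Fin (ℓ + 1)) → B), b = ∑ τ, d τ ∧
      ∀ τ, algebraMap A B (c τ) * ((τ.1 : B) ^ (τ.2 : ℕ)) ^ p ^ (n + i)
        = algebraMap A B (∏ y ∈ Y, α y) ^ p ^ (n + i) * d τ := by
  classical
  obtain ⟨r, q, hr, hq, hrq⟩ := exists_inverse_mod (p := p) ℓ hℓ hpℓ (n + i)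
  have hb : b ∈ Submodule.span A (Y : Set B) := by rw [hspan]; trivial
  obtain ⟨g, hg⟩ := Submodule.mem_span_finset'.mp hb
  refine ⟨fun τ => if (τ.2 : ℕ) = r then
      g τ.1 * (∏ y ∈ Y.erase τ.1, α y) ^ p ^ (n + i) * (α τ.1) ^ (p ^ (n + i) - q) else 0,
    fun τ => if (τ.2 : ℕ) = r then g τ.1 • (τ.1 : B) else 0, ?_, ?_⟩
  · rw [Fintype.sum_prod_type, ← hg]
    apply Finset.sum_congr rfl
    intro y _
    have : ∀ s : Fin (ℓ + 1), ((s : ℕ) = r) ↔ (s = ⟨r, Nat.lt_succ_of_le hr⟩) := by
      intro s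
      constructor
      · intro h; exact Fin.ext h
      · intro h; rw [h]
    simp only [this]
    rw [Finset.sum_ite_eq' Finset.univ (⟨r, Nat.lt_succ_of_le hr⟩ : Fin (ℓ + 1)),
      if_pos (Finset.mem_univ _)]
  · rintro ⟨⟨y, hy⟩, s⟩
    by_cases hs : (s : ℕ) = r
    · simp only [hs, if_true]
      have hprod : (∏ y' ∈ Y, α y') = α y * ∏ y' ∈ Y.erase y, α y' :=
        (Finset.mul_prod_erase Y α hy).symm
      have hsplit : (y ^ ℓ) ^ p ^ (n + i) = (y ^ ℓ) ^ (p ^ (n + i) - q) * (y ^ ℓ) ^ q := by
        rw [← pow_add, Nat.sub_add_cancel hq]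
      rw [hprod, map_mul, map_mul, map_mul, map_pow, map_pow, hα y hy, ← pow_mul y r, hrq,
        mul_pow, hsplit, Algebra.smul_def, pow_add y 1 (q * ℓ), pow_one, mul_comm q ℓ, pow_mul y ℓ q]
      ring
    · simp only [hs, if_false, map_zero, zero_mul, mul_zero]

theorem witt_cyclic_main [IsDomain A] [IsDomain B] [CharP B p] (ℓ n : ℕ) (hℓ : 0 < ℓ)
    (hpℓ : ¬ p ∣ ℓ)
    (y : Finset B) (hspan : Submodule.span A (y : Set B) = ⊤)
    (hpow : ∀ b ∈ y, b ^ ℓ ∈ Set.range (algebraMap A B))
    (ζ : WittVector p B)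
    (hζ : ∃ η : WittVector p B,
      (⇑(WittVector.verschiebung : WittVector p B →+ WittVector p B))^[n] η = ζ) :
    ∃ a : A, a ≠ 0 ∧ WittVector.teichmuller p (algebraMap A B a) * ζ ∈
      Ideal.span (Set.range (fun x : WittVector p A =>
        WittVector.map (algebraMap A B)
          ((⇑(WittVector.verschiebung : WittVector p A →+ WittVector p A))^[n] x))) := by
  classical
  obtain ⟨η, rfl⟩ := hζ
  -- remove zero from the generating set
  let Y : Finset B := y.erase 0
  have hYspan : Submodule.span A (Y : Set B) = ⊤ := by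
    rw [Finset.coe_erase, Submodule.span_sdiff_singleton_zero, hspan]
  have hYpow : ∀ b ∈ Y, ∃ a : A, algebraMap A B a = b ^ ℓ :=
    fun b hb => hpow b (Finset.mem_of_mem_erase hb)
  let α : B → A := fun b => if h : ∃ a : A, algebraMap A B a = b ^ ℓ then h.choose else 0
  have hα : ∀ b ∈ Y, algebraMap A B (α b) = b ^ ℓ := by
    intro b hb
    simp only [α, dif_pos (hYpow b hb)]
    exact (hYpow b hb).choose_spec
  have hα0 : ∀ b ∈ Y, α b ≠ 0 := by
    intro b hb h0
    have := hα b hb
    rw [h0, map_zero] at this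
    exact (Finset.ne_of_mem_erase hb) (pow_eq_zero_iff (Nat.pos_iff_ne_zero.mp hℓ) |>.mp this.symm)
  refine ⟨∏ b ∈ Y, α b, Finset.prod_ne_zero_iff.mpr hα0, ?_⟩
  obtain ⟨x, hx⟩ := exists_sum_map_mul_frobenius_teichmuller (p := p) (algebraMap A B) n
    (∏ b ∈ Y, α b) (fun τ : ↥Y × Fin (ℓ + 1) => (τ.1 : B) ^ (τ.2 : ℕ))
    (fun i b => cyclic_hyp (p := p) ℓ n hℓ hpℓ Y hYspan α hα i b) η
  have key : teichmuller p (algebraMap A B (∏ b ∈ Y, α b)) *
      (⇑(WittVector.verschiebung : WittVector p B →+ WittVector p B))^[n] η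
      = ∑ τ : ↥Y × Fin (ℓ + 1), WittVector.map (algebraMap A B)
          ((⇑(WittVector.verschiebung : WittVector p A →+ WittVector p A))^[n] (x τ)) *
          teichmuller p ((τ.1 : B) ^ (τ.2 : ℕ)) := by
    rw [mul_comm, iterate_verschiebung_mul_left, iterate_frobenius_teichmuller,
      map_pow (teichmuller p), mul_comm, hx, iterate_verschiebung_sum]
    apply Finset.sum_congr rfl
    intro τ _
    rw [map_iterate_verschiebung, iterate_verschiebung_mul_left]
  rw [key]
  apply Ideal.sum_mem
  intro τ _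
  apply Ideal.mul_mem_right
  exact Ideal.subset_span ⟨x τ, rfl⟩

end cyclic

end Groth.Agent.Helper27
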