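import Mathlib

/-!
# Weighted homogeneity of Witt structure polynomials

If `Φ` is weighted homogeneous of degree `d` for weights `v`, then `wittStructureInt p Φ n`
is weighted homogeneous of degree `d * p ^ n` for the weights `(b, i) ↦ v b * p ^ i`.
Also an evaluation lemma for multiplicative filtrations.
-/

namespace Groth.Agent.Helper27

open MvPolynomial Finset

section bind

variable {σ τ R : Type*} [CommSemiring R]

/-- `bind₁` of a weighted homogeneous polynomial along weighted homogeneous substitutions. -/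
theorem isWeightedHomogeneous_bind₁ {v : σ → ℕ} {w : τ → ℕ} {c d : ℕ}
    (g : σ → MvPolynomial τ R) (hg : ∀ s, IsWeightedHomogeneous w (g s) (v s * c))
    {Φ : MvPolynomial σ R} (hΦ : IsWeightedHomogeneous v Φ d) :
    IsWeightedHomogeneous w (bind₁ g Φ) (d * c) := by
  rw [Φ.as_sum, map_sum]
  apply IsWeightedHomogeneous.sum
  intro m hm
  rw [bind₁_monomial]
  apply IsWeightedHomogeneous.C_mul
  have : d * c = ∑ i ∈ m.support, m i • (v i * c) := by
    rw [← hΦ (mem_support_iff.mp hm)]
    simp [Finsupp.weight_apply, Finsupp.sum, Finset.sum_mul, mul_assoc]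
  rw [this]
  apply IsWeightedHomogeneous.prod
  intro i _
  exact (hg i).pow _

end bind

section witt

variable (p : ℕ) [hp : Fact p.Prime] {idx : Type*}

omit hp in
theorem isWeightedHomogeneous_rename_wittPolynomial (v : idx → ℕ) (b : idx) (n : ℕ) :
    IsWeightedHomogeneous (fun bi : idx × ℕ => v bi.1 * p ^ bi.2)
      (rename (fun i => (b, i)) (wittPolynomial p ℚ n)) (v b * p ^ n) := by
  rw [wittPolynomial, map_sum]
  apply IsWeightedHomogeneous.sum
  intro i hi
  rw [rename_monomial]
  apply isWeightedHomogeneous_monomial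
  have hi' : i ≤ n := Nat.lt_succ_iff.mp (Finset.mem_range.mp hi)
  rw [Finsupp.mapDomain_single, Finsupp.weight_apply, Finsupp.sum_single_index (by simp)]
  simp only [smul_eq_mul]
  rw [mul_comm, mul_assoc, ← pow_add, Nat.add_sub_cancel' hi']

theorem wittStructureRat_isWeightedHomogeneous {v : idx → ℕ} {d : ℕ}
    {Φ : MvPolynomial idx ℚ} (hΦ : IsWeightedHomogeneous v Φ d) (n : ℕ) :
    IsWeightedHomogeneous (fun bi : idx × ℕ => v bi.1 * p ^ bi.2)
      (wittStructureRat p Φ n) (d * p ^ n) := by
  induction n using Nat.strong_induction_on with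
  | _ n IH =>
    rw [wittStructureRat_rec]
    apply IsWeightedHomogeneous.C_mul
    apply IsWeightedHomogeneous.sub
    · exact isWeightedHomogeneous_bind₁ _
        (fun b => isWeightedHomogeneous_rename_wittPolynomial p v b n) hΦ
    · apply IsWeightedHomogeneous.sum
      intro i hi
      apply IsWeightedHomogeneous.C_mul
      have hi' : i ≤ n := (Finset.mem_range.mp hi).le
      have h := (IH i (Finset.mem_range.mp hi)).pow (p ^ (n - i))
      have e : p ^ (n - i) • (d * p ^ i) = d * p ^ n := by
        rw [smul_eq_mul, mul_left_comm, ← pow_add, Nat.sub_add_cancel hi']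
      rwa [e] at h

theorem wittStructureInt_isWeightedHomogeneous {v : idx → ℕ} {d : ℕ}
    {Φ : MvPolynomial idx ℤ} (hΦ : IsWeightedHomogeneous v Φ d) (n : ℕ) :
    IsWeightedHomogeneous (fun bi : idx × ℕ => v bi.1 * p ^ bi.2)
      (wittStructureInt p Φ n) (d * p ^ n) := by
  have hΦ' : IsWeightedHomogeneous v (map (Int.castRingHom ℚ) Φ) d := by
    intro m hm
    apply hΦ
    intro h0
    apply hm
    rw [coeff_map, h0, map_zero]
  have h := wittStructureRat_isWeightedHomogeneous p hΦ' n
  rw [← map_wittStructureInt] at h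
  intro m hm
  apply h
  rw [coeff_map]
  simpa using hm

theorem wittAdd_isWeightedHomogeneous (n : ℕ) :
    IsWeightedHomogeneous (fun i : Fin 2 × ℕ => p ^ i.2) (WittVector.wittAdd p n) (p ^ n) := by
  have hΦ : IsWeightedHomogeneous (fun _ : Fin 2 => 1) (X 0 + X 1 : MvPolynomial (Fin 2) ℤ) 1 :=
    (isWeightedHomogeneous_X ℤ _ 0).add (isWeightedHomogeneous_X ℤ _ 1)
  have h := wittStructureInt_isWeightedHomogeneous p hΦ n
  simpa [WittVector.wittAdd] using h

/-- `wittMul p n` is weighted homogeneous of degree `p ^ n` in the second group of variables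
(weights `0` on the `x_i`, `p ^ i` on the `y_i`). -/
theorem wittMul_isWeightedHomogeneous_snd (n : ℕ) :
    IsWeightedHomogeneous (fun i : Fin 2 × ℕ => (![0, 1] : Fin 2 → ℕ) i.1 * p ^ i.2)
      (WittVector.wittMul p n) (p ^ n) := by
  have hΦ : IsWeightedHomogeneous (![0, 1] : Fin 2 → ℕ)
      (X 0 * X 1 : MvPolynomial (Fin 2) ℤ) (0 + 1) :=
    (isWeightedHomogeneous_X ℤ _ 0).mul (isWeightedHomogeneous_X ℤ _ 1)
  have h := wittStructureInt_isWeightedHomogeneous p hΦ n
  simpa [WittVector.wittMul] using h

end witt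

section eval

variable {σ K : Type*} [CommRing K]

/-- Evaluating a weighted homogeneous integer polynomial of degree `m` at a point whose
coordinates lie in the pieces `N (w s)` of a multiplicative filtration by additive subgroups
with `1 ∈ N 0` gives an element of `N m`. -/
theorem aeval_mem_of_isWeightedHomogeneous (N : ℕ → AddSubgroup K) (h1 : (1 : K) ∈ N 0)
    (hmul : ∀ (i j : ℕ) (a b : K), a ∈ N i → b ∈ N j → a * b ∈ N (i + j))
    {w : σ → ℕ} {m : ℕ} {φ : MvPolynomial σ ℤ} (hφ : IsWeightedHomogeneous w φ m)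
    (x : σ → K) (hx : ∀ s, x s ∈ N (w s)) : aeval x φ ∈ N m := by
  have hpow : ∀ (s : σ) (k : ℕ), x s ^ k ∈ N (k * w s) := by
    intro s k
    induction k with
    | zero => simpa using h1
    | succ k ih =>
      rw [pow_succ, Nat.succ_mul]
      exact hmul _ _ _ _ ih (hx s)
  have hprod : ∀ (d : σ →₀ ℕ) (t : Finset σ),
      (∏ s ∈ t, x s ^ d s) ∈ N (∑ s ∈ t, d s * w s) := by
    intro d t
    classical
    induction t using Finset.induction_on with
    | empty => simpa using h1
    | insert a t ha ih =>
      rw [Finset.prod_insert ha, Finset.sum_insert ha]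
      exact hmul _ _ _ _ (hpow a _) ih
  rw [φ.as_sum, map_sum]
  apply AddSubgroup.sum_mem
  intro d hd
  rw [aeval_monomial, algebraMap_int_eq, eq_intCast, ← zsmul_eq_mul]
  apply AddSubgroup.zsmul_mem
  have hw : m = ∑ s ∈ d.support, d s * w s := by
    rw [← hφ (mem_support_iff.mp hd)]
    simp [Finsupp.weight_apply, Finsupp.sum]
  rw [hw]
  exact hprod d d.support

end eval

end Groth.Agent.Helper27
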