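import Mathlib
import Groth.Agent.Lib.Helper27.ZtG

set_option autoImplicit false

namespace Groth.Agent.Helper27.Wl

open FunFld Polynomial

/-- bounded power sums force all the numbers into the closed unit disc -/
theorem norm_le_one_of_powersum_bounded {ι : Type*} [Fintype ι] (β : ι → ℂ) (c : ℝ)
    (h : ∀ j : ℕ, 1 ≤ j → ‖∑ i, β i ^ j‖ ≤ c) (i₀ : ι) : ‖β i₀‖ ≤ 1 := by
  classical
  by_contra hlt
  push Not at hlt
  set b := β i₀ with hb
  set S : Finset ℂ := (Finset.univ.image β).erase b with hS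
  set g : ℂ[X] := ∏ b' ∈ S, (X - C b') with hg
  have hgb : g.eval b ≠ 0 := by
    rw [hg, eval_prod]
    apply Finset.prod_ne_zero_iff.2
    intro b' hb'
    rw [eval_sub, eval_X, eval_C, sub_ne_zero]
    exact (Finset.ne_of_mem_erase hb').symm
  have hgz : ∀ i, β i ≠ b → g.eval (β i) = 0 := by
    intro i hi
    rw [hg, eval_prod]
    apply Finset.prod_eq_zero (i := β i)
    · rw [hS, Finset.mem_erase]
      exact ⟨hi, Finset.mem_image_of_mem _ (Finset.mem_univ _)⟩
    · rw [eval_sub, eval_X, eval_C, sub_self]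
  set M : ℕ := (Finset.univ.filter (fun i => β i = b)).card with hM
  have hMpos : 0 < M := Finset.card_pos.2 ⟨i₀, by simp [hb]⟩
  have key : ∀ j : ℕ, 1 ≤ j → (M : ℂ) * b ^ j * g.eval b =
      ∑ a ∈ Finset.range (g.natDegree + 1), g.coeff a * ∑ i, β i ^ (j + a) := by
    intro j _
    have h1 : ∑ i, β i ^ j * g.eval (β i) = (M : ℂ) * b ^ j * g.eval b := by
      rw [← Finset.sum_filter_add_sum_filter_not Finset.univ (fun i => β i = b)]
      have e1 : ∑ i ∈ Finset.univ.filter (fun i => β i = b), β i ^ j * g.eval (β i) =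
          (M : ℂ) * b ^ j * g.eval b := by
        rw [Finset.sum_congr rfl (fun i hi => by
          rw [(Finset.mem_filter.1 hi).2])]
        rw [Finset.sum_const, hM, nsmul_eq_mul, mul_assoc]
      have e2 : ∑ i ∈ Finset.univ.filter (fun i => ¬ β i = b), β i ^ j * g.eval (β i) = 0 := by
        apply Finset.sum_eq_zero
        intro i hi
        rw [hgz i (Finset.mem_filter.1 hi).2, mul_zero]
      rw [e1, e2, add_zero]
    rw [← h1]
    have h2 : ∀ i, β i ^ j * g.eval (β i) =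
        ∑ a ∈ Finset.range (g.natDegree + 1), g.coeff a * β i ^ (j + a) := by
      intro i
      rw [eval_eq_sum_range, Finset.mul_sum]
      refine Finset.sum_congr rfl (fun a _ => ?_)
      rw [pow_add]; ring
    rw [Finset.sum_congr rfl (fun i _ => h2 i), Finset.sum_comm]
    refine Finset.sum_congr rfl (fun a _ => ?_)
    rw [Finset.mul_sum]
  set C' : ℝ := ∑ a ∈ Finset.range (g.natDegree + 1), ‖g.coeff a‖ * c with hC'
  have hbound : ∀ j : ℕ, 1 ≤ j → (M : ℝ) * ‖b‖ ^ j * ‖g.eval b‖ ≤ C' := by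
    intro j hj
    have := congrArg norm (key j hj)
    rw [norm_mul, norm_mul, norm_pow, Complex.norm_natCast] at this
    rw [this]
    refine (norm_sum_le _ _).trans ?_
    refine Finset.sum_le_sum (fun a _ => ?_)
    rw [norm_mul]
    exact mul_le_mul_of_nonneg_left (h (j + a) (by omega)) (norm_nonneg _)
  have hpos : 0 < (M : ℝ) * ‖g.eval b‖ := by
    have : (0 : ℝ) < M := by exact_mod_cast hMpos
    exact mul_pos this (norm_pos_iff.2 hgb)
  obtain ⟨n, hn⟩ := pow_unbounded_of_one_lt (C' / ((M : ℝ) * ‖g.eval b‖)) hlt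
  have h1 := hbound (n + 1) (by omega)
  have h2 : ‖b‖ ^ n ≤ ‖b‖ ^ (n + 1) := pow_le_pow_right₀ hlt.le (by omega)
  have h3 : C' / ((M : ℝ) * ‖g.eval b‖) < ‖b‖ ^ (n + 1) := lt_of_lt_of_le hn h2
  rw [div_lt_iff₀ hpos] at h3
  nlinarith [h1, h3]

variable {k : Type*} {K : Type*} [Field k] [Field K] [Algebra k K]

/-- the hypothesis produced by the Bombieri–Stepanov argument -/
def HasWeilBound (k : Type*) (K : Type*) [Field k] [Field K] [Algebra k K] : Prop :=
  ∃ r₀ : ℕ, 1 ≤ r₀ ∧ ∃ c : ℝ, ∀ j : ℕ, 1 ≤ j →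
    |(Zt.Nm k K (j * r₀) : ℝ) - (Nat.card k : ℝ) ^ (j * r₀) - 1| ≤
      c * Real.sqrt (Nat.card k : ℝ) ^ (j * r₀)

theorem norm_eq_sqrt [Finite k] (hK : IsFunctionField k K) (hW : HasWeilBound k K)
    {ι : Type*} [Fintype ι] (α : ι → ℂ)
    (hα : PowerSeries.map (Int.castRingHom ℂ) (numerZ k K) =
      ((∏ i, (1 - Polynomial.C (α i) * Polynomial.X) : Polynomial ℂ) : PowerSeries ℂ))
    (rev : ι → ι) (hpair : ∀ i, α i * α (rev i) = (Nat.card k : ℂ)) (i : ι) :
    ‖α i‖ = Real.sqrt (Nat.card k : ℝ) := by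
  obtain ⟨r₀, hr₀, c, hc⟩ := hW
  set q : ℝ := (Nat.card k : ℝ) with hq
  have hqpos : 0 < q := by
    have : 0 < Nat.card k := Nat.card_pos
    rw [hq]; exact_mod_cast this
  set s : ℝ := Real.sqrt q with hs
  have hspos : 0 < s := Real.sqrt_pos.2 hqpos
  have hss : s * s = q := Real.mul_self_sqrt hqpos.le
  have hle : ∀ i, ‖α i‖ ≤ s := by
    intro i
    have hb := norm_le_one_of_powersum_bounded (fun i => (α i / (s : ℂ)) ^ r₀) c (by
      intro j hj
      have h1 := Zt.Nm_formula hK α hα (j * r₀) (Nat.mul_pos hj hr₀)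
      have h2 : ∑ i, α i ^ (j * r₀) =
          (1 : ℂ) + (Nat.card k : ℂ) ^ (j * r₀) - (Zt.Nm k K (j * r₀) : ℂ) := by
        rw [h1]; ring
      have h3 : ∑ i, ((α i / (s : ℂ)) ^ r₀) ^ j =
          (∑ i, α i ^ (j * r₀)) / ((s : ℂ) ^ (j * r₀)) := by
        rw [Finset.sum_div]
        refine Finset.sum_congr rfl (fun i _ => ?_)
        rw [← pow_mul, div_pow, mul_comm r₀ j]
      rw [h3, h2, norm_div, norm_pow, Complex.norm_real, Real.norm_eq_abs, abs_of_pos hspos,
        div_le_iff₀ (pow_pos hspos _)]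
      have h4 : ((1 : ℂ) + (Nat.card k : ℂ) ^ (j * r₀) - (Zt.Nm k K (j * r₀) : ℂ)) =
          (((1 : ℝ) + q ^ (j * r₀) - (Zt.Nm k K (j * r₀) : ℝ) : ℝ) : ℂ) := by
        rw [hq]; push_cast; ring
      rw [h4, Complex.norm_real, Real.norm_eq_abs]
      have h5 := hc j hj
      rw [abs_sub_comm] at h5
      have h6 : (1 : ℝ) + q ^ (j * r₀) - (Zt.Nm k K (j * r₀) : ℝ) =
          1 - ((Zt.Nm k K (j * r₀) : ℝ) - q ^ (j * r₀)) := by ring
      rw [h6]
      exact h5) i
    simp only [norm_pow, norm_div, Complex.norm_real, Real.norm_eq_abs, abs_of_pos hspos] at hb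
    have h7 : ‖α i‖ / s ≤ 1 := by
      by_contra hgt
      push Not at hgt
      have := one_lt_pow₀ hgt (by omega : r₀ ≠ 0)
      exact absurd hb (not_le.2 this)
    rwa [div_le_one hspos] at h7
  apply le_antisymm (hle i)
  have h8 := congrArg norm (hpair i)
  rw [norm_mul, Complex.norm_natCast] at h8
  have h9 := hle (rev i)
  have h10 : 0 ≤ ‖α i‖ := norm_nonneg _
  by_contra hlt
  push Not at hlt
  have : ‖α i‖ * ‖α (rev i)‖ < s * s := by
    calc ‖α i‖ * ‖α (rev i)‖ ≤ ‖α i‖ * s := mul_le_mul_of_nonneg_left h9 h10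
      _ < s * s := mul_lt_mul_of_pos_right hlt hspos
  rw [h8, hss] at this
  exact lt_irrefl _ this

end Groth.Agent.Helper27.Wl
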