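import Mathlib
import Groth.Agent.Lib.Helper27.WlA

set_option autoImplicit false

namespace Groth.Agent.Helper27.Wl

open FunFld Polynomial

variable {k : Type*} {K : Type*} [Field k] [Field K] [Algebra k K]

theorem rh_of_bound [Finite k] (hK : IsFunctionField k K) (hW : HasWeilBound k K)
    (p : Polynomial ℤ) (hp : (p : PowerSeries ℤ) = FunFld.numerZ k K) (z : ℂ)
    (hz : (p.map (Int.castRingHom ℂ)).IsRoot z) :
    ‖z‖ ^ 2 * (Nat.card k : ℝ) = 1 := by
  obtain ⟨α, -, hα, hpair⟩ := Zs.main11040 hK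
  have hn := fun i => norm_eq_sqrt hK hW α hα Fin.rev hpair i
  have hq0 : (0 : ℝ) ≤ (Nat.card k : ℝ) := Nat.cast_nonneg _
  have h1 : p.map (Int.castRingHom ℂ) = ∏ i, (1 - Polynomial.C (α i) * Polynomial.X) := by
    apply Polynomial.coe_injective
    rw [← hα, ← hp]
    ext n
    simp
  rw [h1, IsRoot, eval_prod, Finset.prod_eq_zero_iff] at hz
  obtain ⟨i, -, hi⟩ := hz
  rw [eval_sub, eval_one, eval_mul, eval_C, eval_X, sub_eq_zero] at hi
  have h2 := congrArg norm hi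
  rw [norm_one, norm_mul, hn i] at h2
  have h3 : Real.sqrt (Nat.card k : ℝ) * Real.sqrt (Nat.card k : ℝ) = (Nat.card k : ℝ) :=
    Real.mul_self_sqrt hq0
  have : ‖z‖ ^ 2 * (Nat.card k : ℝ) = (Real.sqrt (Nat.card k : ℝ) * ‖z‖) ^ 2 := by
    rw [mul_pow, Real.sq_sqrt hq0]; ring
  rw [this, ← h2, one_pow]

theorem bound_of_bound [Finite k] (hK : IsFunctionField k K) (hW : HasWeilBound k K) :
    |(Nat.card {P : FunFld.Place k K // P.deg = 1} : ℝ) - (Nat.card k : ℝ) - 1| ≤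
      2 * (FunFld.genus k K : ℝ) * Real.sqrt (Nat.card k : ℝ) := by
  obtain ⟨α, -, hα, hpair⟩ := Zs.main11040 hK
  have hn := fun i => norm_eq_sqrt hK hW α hα Fin.rev hpair i
  have h1 := Zt.Nm_formula hK α hα 1 one_pos
  rw [← Zt.card_deg_one hK] at h1
  have h2 : ((Nat.card {P : FunFld.Place k K // P.deg = 1} : ℝ) - (Nat.card k : ℝ) - 1 : ℝ) =
      ‖(-(∑ i, α i) : ℂ)‖ ∨ ((Nat.card {P : FunFld.Place k K // P.deg = 1} : ℝ) -
        (Nat.card k : ℝ) - 1 : ℝ) = -‖(-(∑ i, α i) : ℂ)‖ := by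
    have h3 : (-(∑ i, α i) : ℂ) =
        (((Nat.card {P : FunFld.Place k K // P.deg = 1} : ℝ) - (Nat.card k : ℝ) - 1 : ℝ) : ℂ) := by
      push_cast
      rw [h1]; simp only [pow_one]; ring
    rw [h3, Complex.norm_real, Real.norm_eq_abs]
    rcases abs_choice ((Nat.card {P : FunFld.Place k K // P.deg = 1} : ℝ) -
      (Nat.card k : ℝ) - 1) with h | h
    · left; exact h.symm
    · right; rw [h, neg_neg]
  have h4 : ‖(-(∑ i, α i) : ℂ)‖ ≤ 2 * (FunFld.genus k K : ℝ) * Real.sqrt (Nat.card k : ℝ) := by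
    rw [norm_neg]
    refine (norm_sum_le _ _).trans ?_
    rw [Finset.sum_congr rfl (fun i _ => hn i), Finset.sum_const, Finset.card_univ,
      Fintype.card_fin, nsmul_eq_mul]
    push_cast
    exact le_rfl
  rcases h2 with h | h
  · rw [h, abs_of_nonneg (norm_nonneg _)]; exact h4
  · rw [h, abs_neg, abs_of_nonneg (norm_nonneg _)]; exact h4

end Groth.Agent.Helper27.Wl
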