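import Mathlib
import Groth.Agent.Lib.Helper27.WlT
import Groth.Agent.Lib.Helper27.WlB

set_option autoImplicit false

namespace Groth.Agent.Helper27.Wl

open FunFld TensorProduct IntermediateField
open scoped WithZero

universe u v

variable {k : Type u} {K F₀ E₀ k₁ : Type v} [Field k] [Field K] [Field F₀] [Field E₀] [Field k₁]
  [Algebra k F₀] [Algebra k K] [Algebra k E₀] [Algebra F₀ K] [Algebra K E₀] [Algebra F₀ E₀]
  [IsScalarTower k F₀ K] [IsScalarTower k K E₀] [IsScalarTower F₀ K E₀] [IsScalarTower k F₀ E₀]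
  [Algebra k k₁] [Algebra k₁ E₀] [IsScalarTower k k₁ E₀]

/-- the Weil bound, given a Galois closure over a rational subfield -/
theorem hasWeilBound_of_galois [Finite k] [FiniteDimensional F₀ E₀] [IsGalois F₀ E₀]
    [FiniteDimensional k k₁]
    (hK : IsFunctionField k K) (hF₀ : IsFunctionField k F₀) (x : F₀)
    (hx : IntermediateField.adjoin k ({x} : Set F₀) = ⊤) (hE₀ : IsFunctionField k₁ E₀) :
    HasWeilBound k K := by
  classical
  set d := Module.finrank k k₁ with hd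
  have hdpos : 0 < d := Module.finrank_pos
  set g := genus k₁ E₀ with hg
  set n := Module.finrank F₀ E₀ with hn
  obtain ⟨p, hp⟩ := CharP.exists k
  haveI : Fact p.Prime := ⟨CharP.char_is_prime k p⟩
  haveI : Fintype k := Fintype.ofFinite k
  obtain ⟨f, hpp, hf⟩ := FiniteField.card k p
  haveI : ExpChar k p := ExpChar.prime hpp
  have hcardk : Nat.card k = p ^ (f : ℕ) := by rw [Nat.card_eq_fintype_card, hf]
  have hfpos : 0 < (f : ℕ) := f.pos
  set r₁ := (g + 1) ^ 2 with hr₁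
  have hr₁pos : 0 < r₁ := by positivity
  refine ⟨d * (2 * r₁), Nat.mul_pos hdpos (by positivity), (n : ℝ) * (2 * (g : ℝ) + 1), ?_⟩
  intro j hj
  have hjpos : 0 < j := hj
  have hcard : Nat.card k ^ (d * (2 * j * r₁)) = (p ^ ((f : ℕ) * d * j * r₁)) ^ 2 := by
    rw [hcardk, ← pow_mul, ← pow_mul]
    congr 1
    ring
  have hq : (g + 1) ^ 2 < p ^ ((f : ℕ) * d * j * r₁) := by
    have h1 : r₁ < 2 ^ r₁ := Nat.lt_two_pow_self
    have h2 : 2 ^ r₁ ≤ p ^ r₁ := Nat.pow_le_pow_left hpp.two_le r₁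
    have h3 : p ^ r₁ ≤ p ^ ((f : ℕ) * d * j * r₁) := by
      apply Nat.pow_le_pow_right hpp.pos
      exact Nat.le_mul_of_pos_left r₁ (by positivity)
    omega
  have hb := bound_at_level hK hF₀ x hx hE₀ (2 * j * r₁) (by positivity) p
    ((f : ℕ) * d * j * r₁) hcard hq
  have e1 : j * (d * (2 * r₁)) = d * (2 * j * r₁) := by ring
  rw [e1]
  have hq0 : (0 : ℝ) ≤ (Nat.card k : ℝ) := Nat.cast_nonneg _
  have e2 : d * (2 * j * r₁) = 2 * (d * j * r₁) := by ring
  have e3 : Real.sqrt (Nat.card k : ℝ) ^ (d * (2 * j * r₁)) =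
      ((p ^ ((f : ℕ) * d * j * r₁) : ℕ) : ℝ) := by
    rw [e2, pow_mul (Real.sqrt _) 2, Real.sq_sqrt hq0, hcardk]
    push_cast
    rw [← pow_mul]
    congr 1
    ring
  rw [e3]
  exact hb

end Groth.Agent.Helper27.Wl
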