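import Mathlib
import Groth.Agent.Lib.Helper27.WlU
import Groth.Agent.Lib.Helper27.CstA
import Groth.Agent.Lib.Helper16.FF.GeomA
import Groth.Agent.Lib.Helper16.FF.GeomF

set_option autoImplicit false

namespace Groth.Agent.Helper27.Wl

open FunFld TensorProduct IntermediateField
open scoped WithZero

universe u v

section aux

variable {k E : Type*} [Field k] [Field E] [Algebra k E]

/-- the exact constant field of a weak function field is finite over the ground field -/
theorem finite_algebraicClosure (hE : Groth.Agent.Helper16.FFW.IsWeakFF k E) :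
    FiniteDimensional k (algebraicClosure k E) := by
  haveI := Groth.Agent.Helper16.FFW.finiteDimensional_L_zero hE
  let f : algebraicClosure k E →ₗ[k] FunFld.L (0 : Divisor k E) :=
    LinearMap.codRestrict _ (algebraicClosure k E).val.toLinearMap (by
      intro y P
      rw [Finsupp.zero_apply, WithZero.exp_zero]
      exact Groth.Agent.Helper16.FFW.Place.val_le_one_of_isIntegral P
        ((mem_algebraicClosure_iff').1 y.2))
  refine Module.Finite.of_injective f ?_
  intro a b hab
  apply Subtype.ext
  have h1 : ((f a : FunFld.L (0 : Divisor k E)) : E) = (f b : FunFld.L (0 : Divisor k E)) :=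
    congrArg Subtype.val hab
  exact h1

end aux

section closure

/-- a finite Galois closure in the same universe -/
theorem exists_galois_closure (F K : Type v) [Field F] [Field K] [Algebra F K]
    [FiniteDimensional F K] [Algebra.IsSeparable F K] :
    ∃ (E : Type v) (_ : Field E) (_ : Algebra F E) (_ : Algebra K E) (_ : IsScalarTower F K E),
      FiniteDimensional F E ∧ IsGalois F E := by
  haveI : Algebra.IsAlgebraic F K := Algebra.IsAlgebraic.of_finite F K
  haveI : IsAlgClosure F (AlgebraicClosure K) :=
    ⟨inferInstance, Algebra.IsAlgebraic.trans F K (AlgebraicClosure K)⟩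
  haveI : Normal F (AlgebraicClosure K) := IsAlgClosure.normal F (AlgebraicClosure K)
  refine ⟨normalClosure F K (AlgebraicClosure K), inferInstance, inferInstance, inferInstance,
    inferInstance, inferInstance, ?_⟩
  haveI hsep : ∀ f : K →ₐ[F] AlgebraicClosure K, Algebra.IsSeparable F f.fieldRange := fun f =>
    AlgEquiv.Algebra.isSeparable (AlgEquiv.ofInjectiveField f)
  haveI : Algebra.IsSeparable F (normalClosure F K (AlgebraicClosure K)) := by
    rw [normalClosure_def]
    infer_instance
  exact ⟨⟩

end closure

section main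

variable {k : Type u} {K F₀ E₀ : Type v} [Field k] [Field K] [Field F₀] [Field E₀]
  [Algebra k F₀] [Algebra k K] [Algebra F₀ K] [IsScalarTower k F₀ K]
  [Algebra F₀ E₀] [Algebra K E₀] [IsScalarTower F₀ K E₀]

theorem hasWeilBound_of_galois' [Finite k] [FiniteDimensional F₀ E₀] [IsGalois F₀ E₀]
    (hK : IsFunctionField k K) (hF₀ : IsFunctionField k F₀) (x : F₀)
    (hx : IntermediateField.adjoin k ({x} : Set F₀) = ⊤) : HasWeilBound k K := by
  letI : Algebra k E₀ := ((algebraMap K E₀).comp (algebraMap k K)).toAlgebra
  haveI : IsScalarTower k K E₀ := IsScalarTower.of_algebraMap_eq (fun _ => rfl)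
  haveI : IsScalarTower k F₀ E₀ := IsScalarTower.of_algebraMap_eq (fun c => by
    show algebraMap K E₀ (algebraMap k K c) = algebraMap F₀ E₀ (algebraMap k F₀ c)
    rw [IsScalarTower.algebraMap_apply k F₀ K, ← IsScalarTower.algebraMap_apply F₀ K E₀])
  have hEw : Groth.Agent.Helper16.FFW.IsWeakFF k E₀ :=
    Groth.Agent.Helper16.FFW.isWeakFF_of_finite (K := F₀) (K' := E₀)
      (Groth.Agent.Helper16.FFW.IsWeakFF.of_isFunctionField hF₀)
  haveI : FiniteDimensional k (algebraicClosure k E₀) := finite_algebraicClosure hEw
  have hE₀ : IsFunctionField (algebraicClosure k E₀) E₀ :=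
    Cst.isFunctionField_algebraicClosure hEw
  exact hasWeilBound_of_galois (k₁ := algebraicClosure k E₀) hK hF₀ x hx hE₀

end main

/-- the Weil bound for every function field over a finite field -/
theorem hasWeilBound {k : Type u} {K : Type v} [Field k] [Field K] [Algebra k K] [Finite k]
    (hK : IsFunctionField k K) : HasWeilBound k K := by
  obtain ⟨x, hsep⟩ := Groth.Agent.Helper16.FF.exists_separating_of_isGeometric hK
    (Zs.isGeometric_of_finite hK)
  have hxt : Transcendental k x := by
    intro halg
    obtain ⟨⟨x₀, hx₀, -⟩, -⟩ := id hK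
    haveI : Algebra.IsAlgebraic k (adjoin k ({x} : Set K)) :=
      IntermediateField.isAlgebraic_adjoin_simple halg.isIntegral
    haveI : Algebra.IsAlgebraic (adjoin k ({x} : Set K)) K := Algebra.IsSeparable.isAlgebraic _ _
    haveI : Algebra.IsAlgebraic k K := Algebra.IsAlgebraic.trans k (adjoin k ({x} : Set K)) K
    exact hx₀ (Algebra.IsAlgebraic.isAlgebraic x₀)
  haveI : FiniteDimensional (adjoin k ({x} : Set K)) K :=
    Groth.Agent.Helper16.FF.finite_of_transcendental hK hxt
  obtain ⟨E₀, _, _, _, _, hfin, hgal⟩ := exists_galois_closure (adjoin k ({x} : Set K)) K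
  haveI := hfin
  haveI := hgal
  have hF₀ : IsFunctionField k (adjoin k ({x} : Set K)) :=
    Groth.Agent.Helper16.FF.isFunctionField_intermediateField hK _
      ⟨x, mem_adjoin_simple_self k x, hxt⟩
  have hx' : IntermediateField.adjoin k
      ({(⟨x, mem_adjoin_simple_self k x⟩ : adjoin k ({x} : Set K))} :
        Set (adjoin k ({x} : Set K))) = ⊤ := by
    apply lift_injective
    rw [lift_adjoin_simple, lift_top]
  exact hasWeilBound_of_galois' (F₀ := adjoin k ({x} : Set K)) (E₀ := E₀) hK hF₀ _ hx'

end Groth.Agent.Helper27.Wl
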