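import Mathlib
import Groth.Prelude.Def_AGF
import Groth.Prelude.Def_Red2
import Groth.Agent.Lib.Helper27.GenFibLib

set_option autoImplicit false
universe v u

open CategoryTheory MonoidalCategory CartesianMonoidalCategory MonObj AlgebraicGeometry
open scoped Obj

namespace Groth.Agent.Helper27.Word

section Cat

variable {C : Type*} [Category C] [CartesianMonoidalCategory C]

/-- `G` satisfies the group law `w` on all points -/
def Sat (G : C) [GrpObj G] {m : ℕ} (w : FreeGroup (Fin m)) : Prop :=
  ∀ (X : C) (x : Fin m → (X ⟶ G)), FreeGroup.lift x w = 1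

/-- precomposition as a monoid hom -/
def precomp (G : C) [GrpObj G] {X Y : C} (u : X ⟶ Y) : (Y ⟶ G) →* (X ⟶ G) where
  toFun f := u ≫ f
  map_one' := MonObj.comp_one u
  map_mul' := MonObj.comp_mul u

lemma lift_precomp (G : C) [GrpObj G] {X Y : C} (u : X ⟶ Y) {m : ℕ} (x : Fin m → (Y ⟶ G))
    (w : FreeGroup (Fin m)) : FreeGroup.lift (fun i => u ≫ x i) w = u ≫ FreeGroup.lift x w := by
  have : FreeGroup.lift (fun i => u ≫ x i) = (precomp G u).comp (FreeGroup.lift x) := by
    ext i; simp [precomp]
  rw [this]; rfl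

lemma lift_map {D : Type*} [Category D] [CartesianMonoidalCategory D] (F : C ⥤ D) [F.Monoidal]
    (G : C) [GrpObj G] {X : C} {m : ℕ} (x : Fin m → (X ⟶ G)) (w : FreeGroup (Fin m)) :
    FreeGroup.lift (fun i => F.map (x i)) w = F.map (FreeGroup.lift x w) := by
  have : FreeGroup.lift (fun i => F.map (x i)) = (F.homMonoidHom (X := X) (M := G)).comp (FreeGroup.lift x) := by
    ext i; simp
  rw [this]; rfl

/-- the universal tuple object -/
def T (G : C) : ℕ → C
  | 0 => 𝟙_ C
  | m + 1 => G ⊗ T G m

/-- the universal tuple -/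
def π (G : C) : (m : ℕ) → Fin m → (T G m ⟶ G)
  | 0 => Fin.elim0
  | m + 1 => Fin.cons (fst G (T G m)) (fun i => snd G (T G m) ≫ π G m i)

lemma exists_factor (G : C) : ∀ (m : ℕ) {X : C} (x : Fin m → (X ⟶ G)),
    ∃ u : X ⟶ T G m, ∀ i, u ≫ π G m i = x i := by
  intro m
  induction m with
  | zero => intro X x; exact ⟨toUnit X, fun i => i.elim0⟩
  | succ m ih =>
    intro X x
    obtain ⟨u, hu⟩ := ih (fun i => x i.succ)
    refine ⟨lift (x 0) u, fun i => ?_⟩
    refine Fin.cases ?_ (fun i => ?_) i
    · exact lift_fst _ _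
    · change lift (x 0) u ≫ snd G (T G m) ≫ π G m i = x i.succ
      rw [lift_snd_assoc, hu]

lemma sat_of_universal (G : C) [GrpObj G] {m : ℕ} (w : FreeGroup (Fin m))
    (h : FreeGroup.lift (π G m) w = 1) : Sat G w := by
  intro X x
  obtain ⟨u, hu⟩ := exists_factor G m x
  have : x = fun i => u ≫ π G m i := funext fun i => (hu i).symm
  rw [this, lift_precomp, h, MonObj.comp_one]

end Cat

section Sch

variable {S S' : Scheme.{u}}

lemma sat_bc (f : S' ⟶ S) (G : Over S) [GrpObj G] {m : ℕ} (w : FreeGroup (Fin m))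
    (h : Sat G w) : Sat (Red.bc f G) w := by
  intro X x
  let adj := Over.mapPullbackAdj f
  let y : Fin m → ((Over.map f).obj X ⟶ G) := fun i => (adj.homEquiv _ _).symm (x i)
  have hx : x = fun i => adj.unit.app X ≫ (Over.pullback f).map (y i) := by
    funext i
    have := (adj.homEquiv X G).apply_symm_apply (x i)
    rw [Adjunction.homEquiv_unit] at this
    exact this.symm
  rw [hx, lift_precomp (Red.bc f G) (adj.unit.app X) (fun i => (Over.pullback f).map (y i)) w,
    lift_map (Over.pullback f) G y w, h _ y, Functor.map_one, MonObj.comp_one]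

instance flat_T (G : Over S) [Flat G.hom] : ∀ m, Flat (T G m).hom
  | 0 => by
    change Flat (𝟙_ (Over S)).hom
    rw [Over.tensorUnit_hom]; exact inferInstanceAs (Flat (𝟙 S))
  | m + 1 => by
    have := flat_T G m
    change Flat (G ⊗ T G m).hom
    infer_instance

lemma sat_of_bc (j : S' ⟶ S) [IsSchemeTheoreticallyDominant j] [QuasiCompact j]
    (G : Over S) [GrpObj G] [Flat G.hom] [IsSeparated G.hom] {m : ℕ} (w : FreeGroup (Fin m))
    (h : Sat (Red.bc j G) w) : Sat G w := by
  apply sat_of_universal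
  apply GF.ext_of_bc j
  rw [← lift_map (Over.pullback j) G (π G m) w, Functor.map_one]
  exact h _ _

end Sch

end Groth.Agent.Helper27.Word
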