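import Mathlib

set_option autoImplicit false
universe v u

open CategoryTheory MonoidalCategory CartesianMonoidalCategory MonObj
open scoped commutatorElement

namespace Groth.Agent.Helper27.Word

/-! ### group words -/

/-- iterated commutator word `[[x₀,x₁],…,xₙ]` -/
def cw : (n : ℕ) → FreeGroup (Fin (n + 1))
  | 0 => FreeGroup.of 0
  | n + 1 => ⁅FreeGroup.map Fin.castSucc (cw n), FreeGroup.of (Fin.last (n + 1))⁆

lemma lift_comp_hom {m : ℕ} {H H' : Type*} [Group H] [Group H'] (φ : H →* H') (x : Fin m → H)
    (w : FreeGroup (Fin m)) : FreeGroup.lift (fun i => φ (x i)) w = φ (FreeGroup.lift x w) := by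
  have : FreeGroup.lift (fun i => φ (x i)) = φ.comp (FreeGroup.lift x) := by
    ext i; simp
  rw [this]; rfl

lemma lift_cw_succ {H : Type*} [Group H] (n : ℕ) (x : Fin (n + 2) → H) :
    FreeGroup.lift x (cw (n + 1)) =
      ⁅FreeGroup.lift (fun i => x (Fin.castSucc i)) (cw n), x (Fin.last (n + 1))⁆ := by
  rw [cw, map_commutatorElement, FreeGroup.lift_apply_of]
  congr 1
  have : (FreeGroup.lift x).comp (FreeGroup.map Fin.castSucc) =
      FreeGroup.lift (fun i : Fin (n + 1) => x (Fin.castSucc i)) := by
    ext i; simp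
  rw [← this]; rfl

/-- a group has upper central series reaching the top at step `n` iff it satisfies the word `cw n` -/
theorem ucs_eq_top_iff (n : ℕ) : ∀ (H : Type u) [Group H],
    Subgroup.upperCentralSeries H n = ⊤ ↔ ∀ x : Fin (n + 1) → H, FreeGroup.lift x (cw n) = 1 := by
  induction n with
  | zero =>
    intro H _
    rw [Subgroup.upperCentralSeries_zero]
    constructor
    · intro h x
      have : FreeGroup.lift x (cw 0) ∈ (⊥ : Subgroup H) := h ▸ Subgroup.mem_top _
      exact Subgroup.mem_bot.mp this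
    · intro h
      rw [eq_comm, Subgroup.eq_bot_iff_forall]
      intro y _
      have := h (fun _ => y)
      simpa [cw] using this
  | succ n ih =>
    intro H _
    rw [← Subgroup.comap_upperCentralSeries_quotient_center, ← top_le_iff]
    have hsurj : Function.Surjective (QuotientGroup.mk' (Subgroup.center H)) :=
      QuotientGroup.mk'_surjective _
    constructor
    · intro h x
      have h1 : Subgroup.upperCentralSeries (H ⧸ Subgroup.center H) n = ⊤ := by
        rw [eq_top_iff]
        intro y _
        obtain ⟨z, rfl⟩ := hsurj y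
        exact h (Subgroup.mem_top z)
      have h2 := (ih (H ⧸ Subgroup.center H)).mp h1
        (fun i => QuotientGroup.mk' (Subgroup.center H) (x (Fin.castSucc i)))
      rw [lift_comp_hom] at h2
      have h3 : FreeGroup.lift (fun i => x (Fin.castSucc i)) (cw n) ∈ Subgroup.center H := by
        rw [← QuotientGroup.eq_one_iff]; exact h2
      rw [lift_cw_succ, commutatorElement_eq_one_iff_mul_comm]
      exact (Subgroup.mem_center_iff.mp h3 _).symm
    · intro h y _
      rw [Subgroup.mem_comap]
      have h1 : Subgroup.upperCentralSeries (H ⧸ Subgroup.center H) n = ⊤ := by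
        rw [ih]
        intro xb
        choose x hx using fun i => hsurj (xb i)
        have : xb = fun i => QuotientGroup.mk' (Subgroup.center H) (x i) := funext fun i => (hx i).symm
        rw [this, lift_comp_hom]
        change ((FreeGroup.lift x (cw n) : H) : H ⧸ Subgroup.center H) = 1
        rw [QuotientGroup.eq_one_iff, Subgroup.mem_center_iff]
        intro g
        have := h (Fin.snoc x g)
        rw [lift_cw_succ, commutatorElement_eq_one_iff_mul_comm] at this
        simpa using this.symm
      rw [h1]; exact Subgroup.mem_top _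


/-! ### derived words -/

def e₁ (n : ℕ) (i : Fin (2 ^ n)) : Fin (2 ^ (n + 1)) := ⟨i.1, by have := i.2; rw [pow_succ]; omega⟩
def e₂ (n : ℕ) (i : Fin (2 ^ n)) : Fin (2 ^ (n + 1)) := ⟨2 ^ n + i.1, by have := i.2; rw [pow_succ]; omega⟩

/-- derived word -/
def dw : (n : ℕ) → FreeGroup (Fin (2 ^ n))
  | 0 => FreeGroup.of ⟨0, by simp⟩
  | n + 1 => ⁅FreeGroup.map (e₁ n) (dw n), FreeGroup.map (e₂ n) (dw n)⁆

lemma lift_dw_succ {H : Type*} [Group H] (n : ℕ) (x : Fin (2 ^ (n + 1)) → H) :
    FreeGroup.lift x (dw (n + 1)) =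
      ⁅FreeGroup.lift (fun i => x (e₁ n i)) (dw n), FreeGroup.lift (fun i => x (e₂ n i)) (dw n)⁆ := by
  rw [dw, map_commutatorElement]
  have h1 : (FreeGroup.lift x).comp (FreeGroup.map (e₁ n)) =
      FreeGroup.lift (fun i : Fin (2 ^ n) => x (e₁ n i)) := by
    ext i; simp
  have h2 : (FreeGroup.lift x).comp (FreeGroup.map (e₂ n)) =
      FreeGroup.lift (fun i : Fin (2 ^ n) => x (e₂ n i)) := by
    ext i; simp
  rw [← h1, ← h2]; rfl

lemma join_bound (n : ℕ) (i : Fin (2 ^ (n + 1))) (h : ¬ i.1 < 2 ^ n) : i.1 - 2 ^ n < 2 ^ n := by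
  have h1 : i.1 < 2 ^ (n + 1) := i.2
  have h2 : 2 ^ (n + 1) = 2 * 2 ^ n := by ring
  omega

/-- joining two tuples -/
def join {H : Type*} (n : ℕ) (x y : Fin (2 ^ n) → H) : Fin (2 ^ (n + 1)) → H :=
  fun i => if h : i.1 < 2 ^ n then x ⟨i.1, h⟩ else y ⟨i.1 - 2 ^ n, join_bound n i h⟩

lemma join_e₁ {H : Type*} (n : ℕ) (x y : Fin (2 ^ n) → H) (i : Fin (2 ^ n)) :
    join n x y (e₁ n i) = x i := by
  simp [join, e₁]

lemma join_e₂ {H : Type*} (n : ℕ) (x y : Fin (2 ^ n) → H) (i : Fin (2 ^ n)) :
    join n x y (e₂ n i) = y i := by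
  simp [join, e₂]

lemma lift_join {H : Type*} [Group H] (n : ℕ) (x y : Fin (2 ^ n) → H) :
    FreeGroup.lift (join n x y) (dw (n + 1)) =
      ⁅FreeGroup.lift x (dw n), FreeGroup.lift y (dw n)⁆ := by
  rw [lift_dw_succ]
  simp only [join_e₁, join_e₂]

lemma dw_mem_derivedSeries (n : ℕ) : dw n ∈ derivedSeries (FreeGroup (Fin (2 ^ n))) n := by
  induction n with
  | zero => rw [derivedSeries_zero]; exact Subgroup.mem_top _
  | succ n ih =>
    rw [derivedSeries_succ, dw]
    apply Subgroup.commutator_mem_commutator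
    · exact map_derivedSeries_le_derivedSeries (FreeGroup.map (e₁ n)) n ⟨_, ih, rfl⟩
    · exact map_derivedSeries_le_derivedSeries (FreeGroup.map (e₂ n)) n ⟨_, ih, rfl⟩

theorem ds_le_of_forall (n : ℕ) : ∀ (H : Type u) [Group H] (K : Subgroup H) [K.Normal],
    (∀ x : Fin (2 ^ n) → H, FreeGroup.lift x (dw n) ∈ K) → derivedSeries H n ≤ K := by
  induction n with
  | zero =>
    intro H _ K _ h y _
    have := h (fun _ => y)
    simpa [dw] using this
  | succ n ih =>
    intro H _ K _ h
    -- work in the quotient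
    let Q := H ⧸ K
    let q : H →* Q := QuotientGroup.mk' K
    have hq : Function.Surjective q := QuotientGroup.mk'_surjective K
    let V : Set Q := Set.range (fun x : Fin (2 ^ n) → Q => FreeGroup.lift x (dw n))
    have hVcomm : ∀ a ∈ V, ∀ b ∈ V, a * b = b * a := by
      rintro _ ⟨x, rfl⟩ _ ⟨y, rfl⟩
      rw [← commutatorElement_eq_one_iff_mul_comm, ← lift_join]
      choose z hz using fun i => hq (join n x y i)
      have : join n x y = fun i => q (z i) := funext fun i => (hz i).symm
      rw [this, lift_comp_hom]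
      exact (QuotientGroup.eq_one_iff _).mpr (h z)
    have hVconj : ∀ a ∈ V, ∀ g : Q, g * a * g⁻¹ ∈ V := by
      rintro _ ⟨x, rfl⟩ g
      refine ⟨fun i => (MulAut.conj g).toMonoidHom (x i), ?_⟩
      change FreeGroup.lift (fun i => (MulAut.conj g).toMonoidHom (x i)) (dw n) = _
      rw [lift_comp_hom]
      simp
    have hVQ : ∀ x : Fin (2 ^ n) → Q, FreeGroup.lift x (dw n) ∈ Subgroup.closure V :=
      fun x => Subgroup.subset_closure ⟨x, rfl⟩
    haveI : (Subgroup.closure V).Normal := by
      constructor
      intro a ha g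
      induction ha using Subgroup.closure_induction with
      | mem a ha => exact Subgroup.subset_closure (hVconj a ha g)
      | one => simp
      | mul a b _ _ iha ihb =>
        have : g * (a * b) * g⁻¹ = (g * a * g⁻¹) * (g * b * g⁻¹) := by group
        rw [this]; exact mul_mem iha ihb
      | inv a _ iha =>
        have : g * a⁻¹ * g⁻¹ = (g * a * g⁻¹)⁻¹ := by group
        rw [this]; exact inv_mem iha
    have h1 : derivedSeries Q n ≤ Subgroup.closure V := ih Q (Subgroup.closure V) hVQ
    have h2 : ⁅Subgroup.closure V, Subgroup.closure V⁆ = ⊥ := by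
      rw [Subgroup.commutator_eq_bot_iff_le_centralizer, Subgroup.closure_le]
      intro a ha
      rw [SetLike.mem_coe, Subgroup.mem_centralizer_iff]
      intro b hb
      have : Subgroup.closure V ≤ Subgroup.centralizer {a} := by
        rw [Subgroup.closure_le]
        intro c hc
        rw [SetLike.mem_coe, Subgroup.mem_centralizer_iff]
        intro d hd
        rw [Set.mem_singleton_iff] at hd
        subst hd
        exact hVcomm d ha c hc
      have := Subgroup.mem_centralizer_iff.mp (this hb) a rfl
      exact this.symm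
    have h3 : derivedSeries Q (n + 1) = ⊥ := by
      rw [derivedSeries_succ, eq_bot_iff, ← h2]
      exact Subgroup.commutator_mono h1 h1
    have h4 := map_derivedSeries_le_derivedSeries q (n + 1)
    rw [h3, le_bot_iff] at h4
    intro y hy
    have : q y ∈ Subgroup.map q (derivedSeries H (n + 1)) := ⟨y, hy, rfl⟩
    rw [h4, Subgroup.mem_bot] at this
    exact (QuotientGroup.eq_one_iff y).mp this

theorem ds_eq_bot_iff (n : ℕ) (H : Type u) [Group H] :
    derivedSeries H n = ⊥ ↔ ∀ x : Fin (2 ^ n) → H, FreeGroup.lift x (dw n) = 1 := by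
  constructor
  · intro h x
    have := map_derivedSeries_le_derivedSeries (FreeGroup.lift x) n ⟨_, dw_mem_derivedSeries n, rfl⟩
    rw [h] at this
    exact Subgroup.mem_bot.mp this
  · intro h
    rw [eq_bot_iff]
    exact ds_le_of_forall n H ⊥ (fun x => by rw [h x]; exact Subgroup.mem_bot.mpr rfl)

end Groth.Agent.Helper27.Word
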