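import Mathlib
import Groth.Prelude.Def_AGF
import Groth.Prelude.Def_Red2
import Groth.Agent.Lib.Helper27.WordLib
import Groth.Agent.Lib.Helper27.WordCLib

set_option autoImplicit false
universe v u

open CategoryTheory MonoidalCategory CartesianMonoidalCategory MonObj AlgebraicGeometry
open scoped Obj

namespace Groth.Agent.Helper27.Word

theorem main082 (A : Type u) [CommRing A] [IsDomain A]
    (K : Type u) [Field K] [Algebra A K] [IsFractionRing A K] {S' : Scheme.{u}} (i : S' ⟶ Spec (CommRingCat.of A))
    (G : Over (Spec (CommRingCat.of A))) [GrpObj G] [Flat G.hom]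
    [IsSeparated G.hom] :
    (AGF.IsNilpotentGrp (Red.bc (Spec.map (CommRingCat.ofHom (algebraMap A K))) G) → AGF.IsNilpotentGrp (Red.bc i G)) ∧
    (Red.IsSolvableGrp (Red.bc (Spec.map (CommRingCat.ofHom (algebraMap A K))) G) → Red.IsSolvableGrp (Red.bc i G)) := by
  have := GF.schDominant_specMap_of_injective (algebraMap A K) (IsFractionRing.injective A K)
  constructor
  · rintro ⟨n, hn⟩
    refine ⟨n, fun X => ?_⟩
    rw [ucs_eq_top_iff]
    apply sat_bc i G (cw n)
    apply sat_of_bc (Spec.map (CommRingCat.ofHom (algebraMap A K))) G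
    intro X' x'
    exact (ucs_eq_top_iff n _).mp (hn X') x'
  · rintro ⟨n, hn⟩
    refine ⟨n, fun X => ?_⟩
    rw [ds_eq_bot_iff]
    apply sat_bc i G (dw n)
    apply sat_of_bc (Spec.map (CommRingCat.ofHom (algebraMap A K))) G
    intro X' x'
    exact (ds_eq_bot_iff n _).mp (hn X') x'

end Groth.Agent.Helper27.Word
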