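import Groth.Agent.Lib.Helper27.ZetA
import Groth.Prelude.Def_W4bk4goldsch45

/-! Counting effective divisors in a class (towards S11037). -/

set_option autoImplicit false

namespace Groth.Agent.Helper27.Zet

open FunFld Groth.Agent.Helper16.FF
open scoped WithZero

variable {k K : Type*} [Field k] [Field K] [Algebra k K]

theorem degHom_apply (D : Divisor k K) : degHom k K D = D.deg := by
  unfold degHom Divisor.deg
  rw [Finsupp.liftAddHom_apply]
  rfl

theorem div_one' (hK : IsFunctionField k K) : div k (1 : K) = 0 := by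
  have := div_algebraMap hK (1 : k)
  rwa [map_one] at this

theorem mem_prinDivs_iff (hK : IsFunctionField k K) (D : Divisor k K) :
    D ∈ prinDivs k K ↔ ∃ x : K, x ≠ 0 ∧ D = div k x := by
  constructor
  · intro h
    unfold prinDivs at h
    induction h using AddSubgroup.closure_induction with
    | mem D hD =>
      obtain ⟨x, rfl⟩ := hD
      by_cases hx : x = 0
      · exact ⟨1, one_ne_zero, by rw [hx, Groth.Agent.Helper16.FF.div_zero hK, div_one' hK]⟩
      · exact ⟨x, hx, rfl⟩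
    | zero => exact ⟨1, one_ne_zero, (div_one' hK).symm⟩
    | add D E _ _ hD hE =>
      obtain ⟨x, hx, rfl⟩ := hD
      obtain ⟨y, hy, rfl⟩ := hE
      exact ⟨x * y, mul_ne_zero hx hy, (div_mul hK hx hy).symm⟩
    | neg D _ hD =>
      obtain ⟨x, hx, rfl⟩ := hD
      exact ⟨x⁻¹, inv_ne_zero hx, (div_inv hK x).symm⟩
  · rintro ⟨x, -, rfl⟩
    exact AddSubgroup.subset_closure ⟨x, rfl⟩

variable (k K) in
/-- the degree zero class group -/
abbrev Pic0 : Type _ :=
  (degHom k K).ker ⧸ (prinDivs k K).addSubgroupOf (degHom k K).ker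

/-- the class of an effective divisor of degree `n` relative to `D₀` -/
noncomputable def cls {n : ℕ} {D₀ : Divisor k K} (hD₀ : D₀.deg = n)
    (E : {D : Divisor k K // 0 ≤ D ∧ D.deg = n}) : Pic0 k K :=
  QuotientAddGroup.mk ⟨E.1 - D₀, by
    rw [AddMonoidHom.mem_ker, degHom_apply, Groth.Agent.Helper16.FFW.Divisor.deg_sub, E.2.2, hD₀,
      sub_self]⟩

theorem cls_eq_iff (hK : IsFunctionField k K) {n : ℕ} {D₀ : Divisor k K} (hD₀ : D₀.deg = n)
    (E : {D : Divisor k K // 0 ≤ D ∧ D.deg = n}) (C : Divisor k K)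
    (hC : C ∈ (degHom k K).ker) :
    cls hD₀ E = QuotientAddGroup.mk ⟨C, hC⟩ ↔ ∃ z : K, z ≠ 0 ∧ E.1 = D₀ + C + div k z := by
  unfold cls
  rw [QuotientAddGroup.eq, AddSubgroup.mem_addSubgroupOf, mem_prinDivs_iff hK]
  constructor
  · rintro ⟨x, hx, h⟩
    refine ⟨x⁻¹, inv_ne_zero hx, ?_⟩
    rw [div_inv hK, ← h]
    simp only [AddSubgroup.coe_add, AddSubgroup.coe_neg]
    abel
  · rintro ⟨z, hz, h⟩
    refine ⟨z⁻¹, inv_ne_zero hz, ?_⟩
    rw [div_inv hK]
    simp only [AddSubgroup.coe_add, AddSubgroup.coe_neg]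
    rw [h]
    abel

theorem div_eq_div_iff (hK : IsFunctionField k K) {z w : K} (hz : z ≠ 0) (hw : w ≠ 0) :
    div k z = div k w ↔ ∃ u : kˣ, z = (u : k) • w := by
  constructor
  · intro h
    have h1 : div k (z / w) = 0 := by
      rw [div_eq_mul_inv, div_mul hK hz (inv_ne_zero hw), div_inv hK, h, add_neg_cancel]
    have h2 : z / w ∈ L (0 : Divisor k K) := by
      rw [mem_L_iff hK 0 (div_ne_zero hz hw), h1, neg_zero]
    rw [L_zero_eq_one hK, Submodule.mem_one] at h2
    obtain ⟨c, hc⟩ := h2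
    have hc0 : c ≠ 0 := by
      rintro rfl
      rw [map_zero] at hc
      exact div_ne_zero hz hw hc.symm
    refine ⟨Units.mk0 c hc0, ?_⟩
    rw [Units.val_mk0, Algebra.smul_def, hc, div_mul_cancel₀ _ hw]
  · rintro ⟨u, rfl⟩
    rw [Algebra.smul_def, div_mul hK (by
      rw [Ne, map_eq_zero_iff _ (algebraMap k K).injective]; exact u.ne_zero) hw,
      div_algebraMap hK, zero_add]

theorem fibre_count [Finite k] (hK : IsFunctionField k K) (n : ℕ)
    (hn : 2 * genus k K ≤ n + 1) (D₀ : Divisor k K) (hD₀ : D₀.deg = n) (c : Pic0 k K) :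
    Nat.card {E : {D : Divisor k K // 0 ≤ D ∧ D.deg = n} // cls hD₀ E = c} * (Nat.card k - 1) =
      Nat.card k ^ (n + 1 - genus k K) - 1 := by
  classical
  obtain ⟨⟨C, hC⟩, rfl⟩ := QuotientAddGroup.mk_surjective c
  have hCdeg : C.deg = 0 := by
    rw [← degHom_apply]; exact hC
  set D := D₀ + C with hD
  have hDdeg : D.deg = n := by
    rw [hD, Groth.Agent.Helper16.FFW.Divisor.deg_add, hD₀, hCdeg, add_zero]
  haveI := finiteDimensional_L hK D
  haveI : Finite (L D) := Module.finite_of_finite k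
  have hell : ell D = n + 1 - genus k K := by
    have := ell_eq_of_large hK (D := D) (by rw [hDdeg]; omega)
    rw [hDdeg] at this
    omega
  have hcardL : Nat.card (L D) = Nat.card k ^ (n + 1 - genus k K) := by
    rw [Module.natCard_eq_pow_finrank (K := k), ← hell]
    rfl
  have hcardL' : Nat.card {z : L D // z ≠ 0} = Nat.card k ^ (n + 1 - genus k K) - 1 := by
    have h1 := Nat.card_congr (Equiv.optionSubtypeNe (0 : L D))
    rw [Finite.card_option, hcardL] at h1
    omega
  -- the map to the fibre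
  have hψ : ∀ z : {z : L D // z ≠ 0}, 0 ≤ D + div k (z.1 : K) ∧ (D + div k (z.1 : K)).deg = n := by
    intro z
    have hz0 : (z.1 : K) ≠ 0 := fun h => z.2 (Subtype.ext h)
    constructor
    · have := (mem_L_iff hK D hz0).1 z.1.2
      intro P
      have h2 := this P
      rw [Finsupp.neg_apply] at h2
      rw [Finsupp.add_apply]
      show (0 : ℤ) ≤ _
      linarith
    · rw [Groth.Agent.Helper16.FFW.Divisor.deg_add, hDdeg, deg_div hK, add_zero]
  let ψ : {z : L D // z ≠ 0} →
      {E : {D : Divisor k K // 0 ≤ D ∧ D.deg = n} // cls hD₀ E = QuotientAddGroup.mk ⟨C, hC⟩} :=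
    fun z => ⟨⟨D + div k (z.1 : K), hψ z⟩, (cls_eq_iff hK hD₀ _ C hC).2
      ⟨(z.1 : K), fun h => z.2 (Subtype.ext h), rfl⟩⟩
  have hfib : ∀ b, Nat.card {a // ψ a = b} = Nat.card k - 1 := by
    intro b
    obtain ⟨z₀, hz₀, hE⟩ := (cls_eq_iff hK hD₀ b.1 C hC).1 b.2
    have hz₀L : z₀ ∈ L D := by
      rw [mem_L_iff hK D hz₀]
      intro P
      have h1 := b.1.2.1 P
      rw [hE, Finsupp.add_apply] at h1
      rw [Finsupp.neg_apply]
      have h2 : (0 : ℤ) ≤ (D₀ + C) P + (div k z₀) P := h1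
      show -(D₀ + C) P ≤ _
      linarith
    rw [← Nat.card_units]
    refine Nat.card_congr (Equiv.symm (Equiv.ofBijective
      (fun u : kˣ => (⟨⟨⟨(u : k) • z₀, Submodule.smul_mem _ _ hz₀L⟩, ?_⟩, ?_⟩ :
        {a // ψ a = b})) ⟨?_, ?_⟩))
    · intro h
      have := congrArg Subtype.val h
      simp only [ZeroMemClass.coe_zero, smul_eq_zero] at this
      rcases this with h | h
      · exact u.ne_zero h
      · exact hz₀ h
    · apply Subtype.ext
      apply Subtype.ext
      show D + div k ((u : k) • z₀) = b.1.1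
      rw [hE, (div_eq_div_iff hK (smul_ne_zero u.ne_zero hz₀) hz₀).2 ⟨u, rfl⟩]
    · intro u u' h
      have h1 := congrArg (fun a : {a // ψ a = b} => ((a.1.1 : L D) : K)) h
      simp only at h1
      have h2 : ((u : k) - (u' : k)) • z₀ = 0 := by rw [sub_smul, h1, sub_self]
      rcases smul_eq_zero.1 h2 with h3 | h3
      · exact Units.ext (sub_eq_zero.1 h3)
      · exact absurd h3 hz₀
    · rintro ⟨⟨⟨z, hzL⟩, hz⟩, hzb⟩
      have hz0 : z ≠ 0 := fun h => hz (Subtype.ext h)
      have h1 : D + div k z = b.1.1 := congrArg (fun a => a.1.1) hzb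
      rw [hE] at h1
      have h2 : div k z = div k z₀ := add_left_cancel h1
      obtain ⟨u, hu⟩ := (div_eq_div_iff hK hz0 hz₀).1 h2
      refine ⟨u, ?_⟩
      apply Subtype.ext
      apply Subtype.ext
      apply Subtype.ext
      exact hu.symm
  have := card_eq_mul_of_fibres ψ (Nat.card k - 1) hfib
  rw [hcardL'] at this
  exact this.symm

end Groth.Agent.Helper27.Zet
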